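import Mathlib
import Groth.Agent.R2.H7WeightCon

/-!
# Constructibility of the fibre integral of a weighting

Over an affine base, the fibre integral of a weighting of a quasi-finite quasi-separated morphism
is constant on ind-constructible neighbourhoods, hence has constructible level sets and finitely
many values.
-/

set_option autoImplicit false
set_option linter.style.haveILetI false
universe u
open AlgebraicGeometry CategoryTheory Limits IsLocalRing
open Groth.Agent.Lib.Helper2.Weight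
open Groth.Agent.Lib.Helper20.EtSections
open Groth.Agent.R2.H7.Patch

namespace Groth.Agent.R2.H7.WeightCon

/-- étale-local splitting of a separated quasi-finite morphism at a point of the base, over an
affine étale neighbourhood on which the fibre integral of the finite part is constant. -/
theorem exists_split_affine {X Y : Scheme.{u}} (f : X ⟶ Y) [LocallyQuasiFinite f]
    [LocallyOfFiniteType f] [IsSeparated f] (w : X → ℤ) (hw : MoreMor.IsWeighting f w) (y : Y)
    (hfin : (f ⁻¹' {y}).Finite) :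
    ∃ (V : Scheme.{u}) (g : V ⟶ Y) (v : V) (A : (pullback f g).Opens),
      IsAffine V ∧ Etale g ∧ g v = y ∧ IsClosed (A : Set ↥(pullback f g)) ∧
      IsFinite (A.ι ≫ pullback.snd f g) ∧ (∀ p, pullback.snd f g p = v → p ∈ A) ∧
      ∃ c : ℤ, ∀ n : V, fI (pullback.snd f g) (w ∘ pullback.fst f g) A n = c := by
  obtain ⟨U, g₀, u, hg₀, hu, hJfin, Vf, -, HV⟩ := exists_etale_split_clopen f y (f ⁻¹' {y}) hfin
    (fun t ht => ⟨ht, f.quasiFiniteAt t⟩)
  set J : Set ↥(pullback f g₀) :=
    {p | pullback.snd f g₀ p = u ∧ pullback.fst f g₀ p ∈ f ⁻¹' {y}} with hJ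
  haveI : Finite J := hJfin.to_subtype
  have hmemJ : ∀ p, pullback.snd f g₀ p = u → p ∈ J := by
    intro p hp
    refine ⟨hp, ?_⟩
    change f (pullback.fst f g₀ p) = y
    rw [← Scheme.Hom.comp_apply, pullback.condition, Scheme.Hom.comp_apply, hp, hu]
  have hfinA := Groth.Agent.Lib.Helper20.FinUnion.isFinite_iSup_of_isClosed (pullback.snd f g₀)
    (fun k : J => Vf k.1) (fun k => (HV k.1 k.2.1 k.2.2).2.1.1) (fun k => (HV k.1 k.2.1 k.2.2).2.2.1)
  set A₀ : (pullback f g₀).Opens := ⨆ k : J, Vf k.1 with hA₀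
  haveI : IsFinite (A₀.ι ≫ pullback.snd f g₀) := hfinA.1
  have hA₀mem : ∀ p, pullback.snd f g₀ p = u → p ∈ A₀ := by
    intro p hp
    have hpJ := hmemJ p hp
    rw [hA₀, TopologicalSpace.Opens.mem_iSup]
    exact ⟨⟨p, hpJ⟩, (HV p hpJ.1 hpJ.2).1⟩
  have hlc := isLocallyConstant_fI_etale f w hw g₀ A₀
  set F₀ := fI (pullback.snd f g₀) (w ∘ pullback.fst f g₀) A₀ with hF₀
  have hO : IsOpen (F₀ ⁻¹' {F₀ u}) := hlc.isOpen_fiber _
  have hu₀O : u ∈ (⟨_, hO⟩ : U.Opens) := rfl
  obtain ⟨N, hN, hvN, hNO⟩ : ∃ N : U.Opens, IsAffineOpen N ∧ u ∈ N ∧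
      N ≤ (⟨_, hO⟩ : U.Opens) :=
    TopologicalSpace.Opens.isBasis_iff_nbhd.mp U.isBasis_affineOpens hu₀O
  let n₀ : N := ⟨u, hvN⟩
  have hn₀ : N.ι n₀ = u := rfl
  let b := bcMap f g₀ N.ι
  refine ⟨N, N.ι ≫ g₀, n₀, b ⁻¹ᵁ A₀, hN, inferInstance, ?_, ?_,
    isFinite_preimage_bcMap f g₀ N.ι A₀, ?_, F₀ u, ?_⟩
  · rw [Scheme.Hom.comp_apply, hn₀, hu]
  · exact hfinA.2.preimage b.continuous
  · intro p hp
    change b p ∈ A₀
    apply hA₀mem
    rw [bcMap_snd_apply, hp, hn₀]
  · intro v
    have h1 := fI_baseChange (pullback.snd f g₀) (pullback.snd f (N.ι ≫ g₀)) b N.ι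
      (isPullback_bcMap f g₀ N.ι) A₀ (w ∘ pullback.fst f g₀) v
    have h2 : (w ∘ pullback.fst f g₀) ∘ b = w ∘ pullback.fst f (N.ι ≫ g₀) := by
      funext p
      simp only [Function.comp_apply]
      rw [bcMap_fst_apply]
    rw [h2] at h1
    rw [h1]
    exact hNO v.2

/-- the fibre integral of a weighting of a separated quasi-finite morphism to an affine scheme
is constant on an ind-constructible neighbourhood of each point. -/
theorem exists_indC_nhd_const_fibreIntegral {X Y : Scheme.{u}} (f : X ⟶ Y) [LocallyQuasiFinite f]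
    [LocallyOfFiniteType f] [IsSeparated f] [QuasiCompact f] [IsAffine Y] (w : X → ℤ)
    (hw : MoreMor.IsWeighting f w) (y : Y) :
    ∃ s : Set Y, IndC s ∧ y ∈ s ∧
      ∀ y' ∈ s, MoreMor.fibreIntegral f w y' = MoreMor.fibreIntegral f w y := by
  have hfin : ∀ y : Y, (f ⁻¹' {y}).Finite := fun y => Scheme.Hom.finite_preimage_singleton f y
  obtain ⟨V, g, v, A, hV, hg, hgv, hAcl, hAfin, hAmem, c, hc⟩ :=
    exists_split_affine f w hw y (hfin y)
  haveI : CompactSpace ↥(pullback f g) :=
    (HasAffineProperty.iff_of_isAffine (P := @QuasiCompact) (f := pullback.snd f g)).mp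
      inferInstance
  haveI : QuasiSeparatedSpace ↥(pullback f g) :=
    quasiSeparatedSpace_of_quasiSeparated (pullback.snd f g)
  have hspec : IsSpectralMap (pullback.snd f g) :=
    quasiCompact_iff_isSpectralMap.mp inferInstance
  have hAcons : Topology.IsConstructible (A : Set ↥(pullback f g)) :=
    hAcl.isCompact.isConstructible A.2
  have hsV : IndC (pullback.snd f g '' (A : Set ↥(pullback f g))ᶜ)ᶜ := by
    apply indC_compl_image _ hspec
    rw [compl_compl]
    exact IndC.of_isConstructible hAcons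
  have hval : ∀ v' ∈ (pullback.snd f g '' (A : Set ↥(pullback f g))ᶜ)ᶜ,
      MoreMor.fibreIntegral f w (g v') = c := by
    intro v' hv'
    have h1 := (fibreIntegral_baseChange f hfin (pullback.snd f g) (pullback.fst f g) g
      (IsPullback.of_hasPullback f g) w v').1
    rw [← h1, fibreIntegral_eq_fI_univ, ← hc v']
    apply fI_congr_set
    ext p
    simp only [Set.mem_inter_iff, Set.mem_ofPred_eq, Set.mem_univ, and_true, SetLike.mem_coe]
    constructor
    · intro hp
      refine ⟨hp, ?_⟩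
      by_contra hpA
      exact hv' ⟨p, hpA, hp⟩
    · exact fun hp => hp.1
  have hvmem : v ∈ (pullback.snd f g '' (A : Set ↥(pullback f g))ᶜ)ᶜ := by
    rintro ⟨p, hpA, hp⟩
    exact hpA (hAmem p hp)
  refine ⟨g '' (pullback.snd f g '' (A : Set ↥(pullback f g))ᶜ)ᶜ, ?_, ⟨v, hvmem, hgv⟩, ?_⟩
  · exact IndC.image g (fun t ht => g.isConstructible_image ht) hsV
  · rintro _ ⟨v', hv', rfl⟩
    rw [hval v' hv', ← hgv, hval v hvmem]

/-- local constancy of `fI` over a quasi-compact open which is separated over the base. -/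
theorem exists_indC_nhd_const_fI {X Y : Scheme.{u}} (f : X ⟶ Y) [LocallyQuasiFinite f]
    [LocallyOfFiniteType f] [IsAffine Y] (w : X → ℤ) (hw : MoreMor.IsWeighting f w)
    (O : X.Opens) (hOsep : IsSeparated (O.ι ≫ f)) (hOc : IsCompact (O : Set X)) (y : Y) :
    ∃ s : Set Y, IndC s ∧ y ∈ s ∧ ∀ y' ∈ s, fI f w O y' = fI f w O y := by
  haveI : CompactSpace (O : Scheme.{u}) := isCompact_iff_compactSpace.mp hOc
  haveI : QuasiCompact (O.ι ≫ f) :=
    (HasAffineProperty.iff_of_isAffine (P := @QuasiCompact) (f := O.ι ≫ f)).mpr this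
  have hwO := isWeighting_opens f w hw O
  obtain ⟨s, hs, hys, hconst⟩ := exists_indC_nhd_const_fibreIntegral (O.ι ≫ f) (w ∘ O.ι) hwO y
  refine ⟨s, hs, hys, fun y' hy' => ?_⟩
  rw [← fibreIntegral_opens, ← fibreIntegral_opens]
  exact hconst y' hy'

theorem fI_union_add_inter {X Y : Scheme.{u}} (f : X ⟶ Y) (w : X → ℤ) (S U : Set X) (y : Y)
    (hfin : (f ⁻¹' {y}).Finite) :
    fI f w (S ∪ U) y + fI f w (S ∩ U) y = fI f w S y + fI f w U y := by
  unfold fI
  rw [Set.inter_union_distrib_left, Set.inter_inter_distrib_left]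
  exact finsum_mem_union_inter (hfin.subset Set.inter_subset_left)
    (hfin.subset Set.inter_subset_left)

/-- over an affine base, the level sets of the fibre integral of a weighting of a quasi-finite
quasi-separated morphism are constructible, and the fibre integral takes finitely many values. -/
theorem isConstructible_level_fibreIntegral {X Y : Scheme.{u}} (f : X ⟶ Y) [LocallyQuasiFinite f]
    [LocallyOfFiniteType f] [QuasiCompact f] [QuasiSeparated f] [IsAffine Y] (w : X → ℤ)
    (hw : MoreMor.IsWeighting f w) :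
    (∀ n : ℤ, Topology.IsConstructible {y : Y | MoreMor.fibreIntegral f w y = n}) ∧
      (Set.range (MoreMor.fibreIntegral f w)).Finite := by
  have hfin : ∀ y : Y, (f ⁻¹' {y}).Finite := fun y => Scheme.Hom.finite_preimage_singleton f y
  haveI : CompactSpace X :=
    (HasAffineProperty.iff_of_isAffine (P := @QuasiCompact) (f := f)).mp inferInstance
  haveI : QuasiSeparatedSpace X := quasiSeparatedSpace_of_quasiSeparated f
  have key : ∀ S : X.Opens, IsCompact (S : Set X) → ∀ y : Y, ∃ s : Set Y, IndC s ∧ y ∈ s ∧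
      ∀ y' ∈ s, fI f w S y' = fI f w S y := by
    intro S hS
    refine compact_open_induction_on (P := fun S : X.Opens => ∀ y : Y, ∃ s : Set Y, IndC s ∧
      y ∈ s ∧ ∀ y' ∈ s, fI f w S y' = fI f w S y) S hS ?_ ?_
    · intro y
      refine ⟨Set.univ, IndC.univ, trivial, fun y' _ => ?_⟩
      simp only [TopologicalSpace.Opens.coe_bot, fI_empty]
    · intro S hS U ih y
      obtain ⟨s₁, h1, hy1, c1⟩ := ih y
      have hUsep : IsSeparated (U.1.ι ≫ f) := by
        haveI : IsAffine (U.1 : Scheme.{u}) := U.2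
        infer_instance
      obtain ⟨s₂, h2, hy2, c2⟩ := exists_indC_nhd_const_fI f w hw U.1 hUsep U.2.isCompact y
      have hOsep : IsSeparated ((S ⊓ U.1).ι ≫ f) := by
        have : (S ⊓ U.1).ι = X.homOfLE inf_le_right ≫ U.1.ι := (X.homOfLE_ι _).symm
        rw [this, Category.assoc]
        haveI := hUsep
        infer_instance
      have hOc : IsCompact ((S ⊓ U.1 : X.Opens) : Set X) :=
        QuasiSeparatedSpace.inter_isCompact _ _ S.2 hS U.1.2 U.2.isCompact
      obtain ⟨s₃, h3, hy3, c3⟩ := exists_indC_nhd_const_fI f w hw (S ⊓ U.1) hOsep hOc y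
      refine ⟨s₁ ∩ s₂ ∩ s₃, (h1.inter h2).inter h3, ⟨⟨hy1, hy2⟩, hy3⟩, fun y' hy' => ?_⟩
      have e1 := fI_union_add_inter f w S U.1 y (hfin y)
      have e2 := fI_union_add_inter f w S U.1 y' (hfin y')
      have e3 := c1 y' hy'.1.1
      have e4 := c2 y' hy'.1.2
      have e5 := c3 y' hy'.2
      simp only [TopologicalSpace.Opens.coe_sup, TopologicalSpace.Opens.coe_inf] at e5 ⊢
      linarith
  have key' : ∀ y : Y, ∃ s : Set Y, IndC s ∧ y ∈ s ∧
      ∀ y' ∈ s, MoreMor.fibreIntegral f w y' = MoreMor.fibreIntegral f w y := by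
    intro y
    obtain ⟨s, hs, hys, hc⟩ := key ⊤ isCompact_univ y
    refine ⟨s, hs, hys, fun y' hy' => ?_⟩
    rw [fibreIntegral_eq_fI_univ, fibreIntegral_eq_fI_univ]
    have := hc y' hy'
    simpa only [TopologicalSpace.Opens.coe_top] using this
  have H := isConstructible_fibres_of_locally_const (MoreMor.fibreIntegral f w) key'
  exact ⟨fun n => H.1 n, H.2⟩

end Groth.Agent.R2.H7.WeightCon
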