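import Mathlib
import Groth.Agent.R2.H7WeightInt

/-!
# Boundedness of the fibre integral of a weighting

For a locally quasi-finite morphism with quasi-compact source, the fibre integral of a weighting is
bounded above (`exists_bound_fibreIntegral`).  Ingredients: finite algebras have boundedly many
homomorphisms into fields (linear independence of characters), hence finite morphisms to affine
schemes have boundedly many geometric points in their fibres; étale-local splitting and compactness
of the constructible topology extend this to quasi-finite morphisms of affine schemes.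
-/

set_option autoImplicit false
set_option linter.style.haveILetI false
set_option linter.unusedSectionVars false
universe u
open AlgebraicGeometry CategoryTheory Limits IsLocalRing
open Groth.Agent.Lib.Helper2.Weight
open Groth.Agent.Lib.Helper20.EtSections
open Groth.Agent.R2.H7.Patch
open Groth.Agent.R2.H7.WeightCon

namespace Groth.Agent.R2.H7.WeightMax

/-- a finite algebra has boundedly many algebra homomorphisms into fields. -/
theorem exists_card_algHom_le (R B : Type*) [CommRing R] [CommRing B] [Algebra R B]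
    [Module.Finite R B] :
    ∃ m : ℕ, ∀ (Ω : Type*) [Field Ω] [Algebra R Ω], Finite (B →ₐ[R] Ω) ∧
      Nat.card (B →ₐ[R] Ω) ≤ m := by
  obtain ⟨n, s, hs⟩ := Module.Finite.exists_fin (R := R) (M := B)
  refine ⟨n, fun Ω _ _ => ?_⟩
  let ev : (B →ₗ[R] Ω) →ₗ[Ω] (Fin n → Ω) :=
    { toFun := fun φ i => φ (s i)
      map_add' := fun φ ψ => rfl
      map_smul' := fun c φ => rfl }
  have hev : LinearMap.ker ev = ⊥ := by
    rw [LinearMap.ker_eq_bot]
    intro φ ψ h
    apply LinearMap.ext_on_range hs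
    intro i
    exact congrFun h i
  have hli := (linearIndependent_toLinearMap R B Ω).map' ev hev
  haveI : Finite (B →ₐ[R] Ω) := hli.finite_of_isNoetherian
  refine ⟨inferInstance, ?_⟩
  letI := Fintype.ofFinite (B →ₐ[R] Ω)
  have h := hli.fintype_card_le_finrank
  rw [Module.finrank_fin_fun] at h
  rwa [Nat.card_eq_fintype_card]

/-- the geometric fibres of a finite morphism to an affine scheme have boundedly many points. -/
theorem exists_bound_geomFibre_of_isFinite {A V : Scheme.{u}} (π : A ⟶ V) [IsFinite π]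
    [IsAffine V] :
    ∃ B : ℕ, ∀ (Ω : Type u) [Field Ω] [IsAlgClosed Ω] (a : Spec (.of Ω) ⟶ V),
      Finite ↥(pullback π a) ∧ Nat.card ↥(pullback π a) ≤ B := by
  haveI : IsAffine A := isAffine_of_isAffineHom π
  have hfin : (π.appTop).hom.Finite :=
    ((HasAffineProperty.iff_of_isAffine (P := @IsFinite) (f := π)).mp inferInstance).2
  letI algB : Algebra Γ(V, ⊤) Γ(A, ⊤) := (π.appTop).hom.toAlgebra
  haveI : Module.Finite Γ(V, ⊤) Γ(A, ⊤) := hfin
  obtain ⟨m, hm⟩ := exists_card_algHom_le Γ(V, ⊤) Γ(A, ⊤)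
  refine ⟨m, fun Ω _ _ a => ?_⟩
  let θ : Γ(V, ⊤) ⟶ .of Ω := a.appTop ≫ (Scheme.ΓSpecIso (.of Ω)).hom
  letI : Algebra Γ(V, ⊤) Ω := θ.hom.toAlgebra
  choose sec hsec1 hsec2 using fun z => exists_section (pullback.snd π a) z
  let χ : ↥(pullback π a) → (Γ(A, ⊤) ⟶ .of Ω) := fun z =>
    (sec z ≫ pullback.fst π a).appTop ≫ (Scheme.ΓSpecIso (.of Ω)).hom
  have hχ : ∀ z, π.appTop ≫ χ z = θ := by
    intro z
    have h1 : (sec z ≫ pullback.fst π a) ≫ π = a := by
      rw [Category.assoc, pullback.condition, ← Category.assoc, hsec1, Category.id_comp]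
    change π.appTop ≫ (sec z ≫ pullback.fst π a).appTop ≫ _ = _
    rw [← Category.assoc, ← Scheme.Hom.comp_appTop, h1]
  let Ψ : ↥(pullback π a) → (Γ(A, ⊤) →ₐ[Γ(V, ⊤)] Ω) := fun z =>
    { (χ z).hom with
      commutes' := fun r => by
        have := congrArg (fun f => f.hom r) (hχ z)
        exact this }
  have hinj : Function.Injective Ψ := by
    intro z z' h
    have h1 : χ z = χ z' := by
      ext r
      exact congrArg (fun f => f r) h
    have h2 : (sec z ≫ pullback.fst π a).appTop = (sec z' ≫ pullback.fst π a).appTop :=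
      (cancel_mono _).mp h1
    have h3 : sec z ≫ pullback.fst π a = sec z' ≫ pullback.fst π a := ext_of_isAffine h2
    have h4 : sec z = sec z' := by
      apply pullback.hom_ext h3
      rw [hsec1, hsec1]
    rw [← hsec2 z, ← hsec2 z', h4]
  haveI := (hm Ω).1
  exact ⟨Finite.of_injective Ψ hinj, (Nat.card_le_card_of_injective Ψ hinj).trans (hm Ω).2⟩

/-- the fibre integral of the constant function `1` along a finite morphism to an affine scheme
is bounded. -/
theorem exists_bound_fibreIntegral_one_of_isFinite {A V : Scheme.{u}} (π : A ⟶ V) [IsFinite π]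
    [IsAffine V] : ∃ B : ℤ, ∀ v : V, MoreMor.fibreIntegral π (fun _ => 1) v ≤ B := by
  obtain ⟨B, hB⟩ := exists_bound_geomFibre_of_isFinite π
  refine ⟨B, fun v => ?_⟩
  let Ω := AlgebraicClosure (V.residueField v)
  let a : Spec (.of Ω) ⟶ V := geomPt v
  have hv : a (closedPoint Ω) = v := geomPt_apply v _
  obtain ⟨hfinG, hcard⟩ := hB Ω a
  have h1 := fibreIntegral_eq_geom π a (fun _ => 1)
    (by rw [hv]; exact Scheme.Hom.finite_preimage_singleton π v)
  rw [hv] at h1
  rw [h1]
  letI := Fintype.ofFinite ↥(pullback π a)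
  rw [finsum_eq_sum_of_fintype, Finset.sum_const, Finset.card_univ, nsmul_eq_mul, mul_one,
    ← Nat.card_eq_fintype_card]
  exact_mod_cast hcard

/-- a function on a spectral space which is bounded above on an ind-constructible neighbourhood
of each point is bounded above. -/
theorem exists_bound_of_locally_bounded {X : Type*} [TopologicalSpace X] [CompactSpace X]
    [QuasiSober X] [PrespectralSpace X] [QuasiSeparatedSpace X] (F : X → ℤ)
    (h : ∀ x, ∃ s : Set X, IndC s ∧ x ∈ s ∧ ∃ B : ℤ, ∀ y ∈ s, F y ≤ B) :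
    ∃ B : ℤ, ∀ x, F x ≤ B := by
  classical
  have H : ∀ x : X, ∃ t : Set X, Topology.IsConstructible t ∧ x ∈ t ∧ ∃ B : ℤ, ∀ y ∈ t, F y ≤ B := by
    intro x
    obtain ⟨s, hs, hxs, B, hB⟩ := h x
    obtain ⟨t, ht, hxt, hts⟩ := hs x hxs
    exact ⟨t, ht, hxt, B, fun y hy => hB y (hts hy)⟩
  choose t ht hxt B hB using H
  obtain ⟨F₀, hF₀⟩ := exists_finite_cover t ht (fun x => ⟨x, hxt x⟩)
  obtain ⟨M, hM⟩ := (F₀.image B).exists_le
  refine ⟨M, fun x => ?_⟩
  obtain ⟨i, hi, hxi⟩ := hF₀ x
  exact (hB i x hxi).trans (hM _ (Finset.mem_image_of_mem B hi))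

theorem isWeighting_zero {X Y : Scheme.{u}} (f : X ⟶ Y) : MoreMor.IsWeighting f (fun _ => 0) := by
  intro V g _ U _
  have : MoreMor.fibreIntegral (U.ι ≫ pullback.snd f g) (fun _ => (0 : ℤ)) = fun _ => 0 := by
    funext v
    simp [MoreMor.fibreIntegral]
  rw [this]
  exact IsLocallyConstant.const 0

/-- étale-local splitting neighbourhood: on an ind-constructible neighbourhood of `y` all fibre
integrals are computed on a finite part of an étale base change. -/
theorem exists_split_nhd {X Y : Scheme.{u}} (f : X ⟶ Y) [LocallyQuasiFinite f]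
    [LocallyOfFiniteType f] [IsSeparated f] [QuasiCompact f] [IsAffine Y] (y : Y) :
    ∃ (V : Scheme.{u}) (g : V ⟶ Y) (A : (pullback f g).Opens) (s : Set V),
      IsAffine V ∧ IsFinite (A.ι ≫ pullback.snd f g) ∧ IndC (g '' s) ∧ y ∈ g '' s ∧
      ∀ (a : X → ℤ), ∀ v' ∈ s, MoreMor.fibreIntegral f a (g v') =
        fI (pullback.snd f g) (a ∘ pullback.fst f g) A v' := by
  have hfin : ∀ y : Y, (f ⁻¹' {y}).Finite := fun y => Scheme.Hom.finite_preimage_singleton f y
  obtain ⟨V, g, v, A, hV, hg, hgv, hAcl, hAfin, hAmem, -⟩ :=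
    exists_split_affine f (fun _ => 0) (isWeighting_zero f) y (hfin y)
  haveI : CompactSpace ↥(pullback f g) :=
    (HasAffineProperty.iff_of_isAffine (P := @QuasiCompact) (f := pullback.snd f g)).mp
      inferInstance
  haveI : QuasiSeparatedSpace ↥(pullback f g) :=
    quasiSeparatedSpace_of_quasiSeparated (pullback.snd f g)
  have hspec : IsSpectralMap (pullback.snd f g) :=
    quasiCompact_iff_isSpectralMap.mp inferInstance
  have hAcons : Topology.IsConstructible (A : Set ↥(pullback f g)) :=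
    hAcl.isCompact.isConstructible A.2
  have hsV : IndC (pullback.snd f g '' (A : Set ↥(pullback f g))ᶜ)ᶜ := by
    apply indC_compl_image _ hspec
    rw [compl_compl]
    exact IndC.of_isConstructible hAcons
  have hvmem : v ∈ (pullback.snd f g '' (A : Set ↥(pullback f g))ᶜ)ᶜ := by
    rintro ⟨p, hpA, hp⟩
    exact hpA (hAmem p hp)
  refine ⟨V, g, A, (pullback.snd f g '' (A : Set ↥(pullback f g))ᶜ)ᶜ, hV, hAfin,
    IndC.image g (fun t ht => g.isConstructible_image ht) hsV, ⟨v, hvmem, hgv⟩, ?_⟩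
  intro a v' hv'
  have h1 := (fibreIntegral_baseChange f hfin (pullback.snd f g) (pullback.fst f g) g
    (IsPullback.of_hasPullback f g) a v').1
  rw [← h1, fibreIntegral_eq_fI_univ]
  apply fI_congr_set
  ext p
  simp only [Set.mem_inter_iff, Set.mem_ofPred_eq, Set.mem_univ, and_true, SetLike.mem_coe]
  constructor
  · intro hp
    refine ⟨hp, ?_⟩
    by_contra hpA
    exact hv' ⟨p, hpA, hp⟩
  · exact fun hp => hp.1

/-- a quasi-finite morphism of affine schemes has boundedly many geometric points in its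
fibres. -/
theorem exists_bound_fibreIntegral_one {X Y : Scheme.{u}} (f : X ⟶ Y) [LocallyQuasiFinite f]
    [LocallyOfFiniteType f] [IsAffine X] [IsAffine Y] :
    ∃ B : ℤ, ∀ y : Y, MoreMor.fibreIntegral f (fun _ => 1) y ≤ B := by
  apply exists_bound_of_locally_bounded
  intro y
  obtain ⟨V, g, A, s, hV, hAfin, hs, hys, hval⟩ := exists_split_nhd f y
  obtain ⟨B, hB⟩ := exists_bound_fibreIntegral_one_of_isFinite (A.ι ≫ pullback.snd f g)
  refine ⟨g '' s, hs, hys, B, ?_⟩
  rintro _ ⟨v', hv', rfl⟩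
  rw [hval _ v' hv', ← fibreIntegral_opens]
  exact hB v'

section OT
variable {U Y' Y : Scheme.{u}} (f' : U ⟶ Y') [LocallyQuasiFinite f'] (j : Y' ⟶ Y)
  [IsOpenImmersion j]

theorem sd_comp_openImmersion_right (x : U) : sd (f' ≫ j) x = sd f' x := by
  rw [sd_comp, sd_openImmersion, one_mul]

omit [LocallyQuasiFinite f'] in
theorem fibre_comp_openImmersion (y' : Y') :
    {x | (f' ≫ j) x = j y'} = {x | f' x = y'} := by
  ext x
  simp only [Set.mem_ofPred_eq, Scheme.Hom.comp_apply]
  exact j.isOpenEmbedding.injective.eq_iff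

omit [LocallyQuasiFinite f'] in
theorem fibre_comp_openImmersion_empty (y : Y) (hy : y ∉ Set.range j) :
    {x | (f' ≫ j) x = y} = ∅ := by
  ext x
  simp only [Set.mem_ofPred_eq, Scheme.Hom.comp_apply, Set.mem_empty_iff_false, iff_false]
  exact fun h => hy ⟨_, h⟩

omit [LocallyQuasiFinite f'] in
theorem finite_fibre_comp_openImmersion (hfin : ∀ y', (f' ⁻¹' {y'}).Finite) (y : Y) :
    ((f' ≫ j) ⁻¹' {y}).Finite := by
  by_cases hy : y ∈ Set.range j
  · obtain ⟨y', rfl⟩ := hy
    have := fibre_comp_openImmersion f' j y'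
    change {x | (f' ≫ j) x = j y'}.Finite
    rw [this]
    exact hfin y'
  · have := fibre_comp_openImmersion_empty f' j y hy
    change {x | (f' ≫ j) x = y}.Finite
    rw [this]
    exact Set.finite_empty

theorem fibreIntegral_comp_openImmersion_le (a : U → ℤ) (B : ℤ) (hB0 : 0 ≤ B)
    (hB : ∀ y', MoreMor.fibreIntegral f' a y' ≤ B) (y : Y) :
    MoreMor.fibreIntegral (f' ≫ j) a y ≤ B := by
  rw [fibreIntegral_eq_fI_univ]
  unfold fI
  by_cases hy : y ∈ Set.range j
  · obtain ⟨y', rfl⟩ := hy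
    rw [fibre_comp_openImmersion f' j y']
    have h1 := hB y'
    rw [fibreIntegral_eq_fI_univ] at h1
    unfold fI at h1
    refine le_trans (le_of_eq ?_) h1
    refine finsum_mem_congr rfl (fun x _ => ?_)
    rw [sd_comp_openImmersion_right]
  · rw [fibre_comp_openImmersion_empty f' j y hy, Set.empty_inter, finsum_mem_empty]
    exact hB0

end OT

/-- local bound: over an affine open of the source mapping into an affine open of the target,
the partial fibre integrals of a weighting are uniformly bounded above. -/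
theorem exists_bound_fI_of_affine {X Y : Scheme.{u}} (f : X ⟶ Y) [LocallyQuasiFinite f]
    [LocallyOfFiniteType f] (w : X → ℤ) (hw : MoreMor.IsWeighting f w) (U : X.Opens)
    (hU : IsAffineOpen U) (Y' : Y.Opens) (hY' : IsAffineOpen Y') (e : U ≤ f ⁻¹ᵁ Y') :
    (∀ y, ({x | f x = y} ∩ (U : Set X)).Finite) ∧
      ∃ C : ℤ, ∀ T : Set X, T ⊆ U → ∀ y, fI f w T y ≤ C := by
  haveI : IsAffine (U : Scheme.{u}) := hU
  haveI : IsAffine (Y' : Scheme.{u}) := hY'
  let f' : (U : Scheme.{u}) ⟶ Y' := f.resLE Y' U e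
  have hcomp : f' ≫ Y'.ι = U.ι ≫ f := Scheme.Hom.resLE_comp_ι f e
  have hfin' : ∀ y', (f' ⁻¹' {y'}).Finite := fun y' => Scheme.Hom.finite_preimage_singleton f' y'
  have hfinU : ∀ y, ((U.ι ≫ f) ⁻¹' {y}).Finite := by
    intro y
    rw [← hcomp]
    exact finite_fibre_comp_openImmersion f' Y'.ι hfin' y
  have hfinset : ∀ y, ({x | f x = y} ∩ (U : Set X)).Finite := by
    intro y
    refine ((hfinU y).image U.ι).subset ?_
    rintro x ⟨hx, hxU⟩
    exact ⟨⟨x, hxU⟩, hx, rfl⟩
  refine ⟨hfinset, ?_⟩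
  -- bound for `w` on `U`
  have hwU := isWeighting_opens f w hw U
  have hrange := (isConstructible_fibres_of_locally_const (w ∘ U.ι)
    (fun x => exists_indC_nhd_const (U.ι ≫ f) (w ∘ U.ι) hwU x)).2
  obtain ⟨M, hM⟩ := hrange.bddAbove
  have hM' : ∀ x ∈ (U : Set X), w x ≤ max M 0 := by
    intro x hx
    exact (hM ⟨⟨x, hx⟩, rfl⟩).trans (le_max_left _ _)
  -- bound for the number of geometric points
  obtain ⟨B, hB⟩ := exists_bound_fibreIntegral_one f'
  have hn : ∀ y, fI f (fun _ => 1) U y ≤ max B 0 := by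
    intro y
    rw [← fibreIntegral_opens U f (fun _ => 1) y, ← hcomp]
    exact fibreIntegral_comp_openImmersion_le f' Y'.ι _ _ (le_max_right _ _)
      (fun y' => (hB y').trans (le_max_left _ _)) y
  refine ⟨max M 0 * max B 0, fun T hT y => ?_⟩
  have hfinT : ({x | f x = y} ∩ T).Finite :=
    (hfinset y).subset (Set.inter_subset_inter_right _ hT)
  have h1 : fI f w T y ≤ fI f (fun _ => max M 0) T y := by
    unfold fI
    rw [finsum_mem_eq_finite_toFinset_sum _ hfinT, finsum_mem_eq_finite_toFinset_sum _ hfinT]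
    apply Finset.sum_le_sum
    intro x hx
    rw [Set.Finite.mem_toFinset] at hx
    exact mul_le_mul_of_nonneg_right (hM' x (hT hx.2)) (Int.natCast_nonneg _)
  have h2 : fI f (fun _ => max M 0) T y ≤ fI f (fun _ => max M 0) U y :=
    fI_mono_of_nonneg f _ (fun _ => le_max_right _ _) T U hT y (hfinset y)
  have h3 : fI f (fun _ => max M 0) U y = max M 0 * fI f (fun _ => 1) U y := by
    have := fI_mul_const f (fun _ => 1) (max M 0) U y
    simpa only [one_mul] using this
  calc fI f w T y ≤ max M 0 * fI f (fun _ => 1) U y := by rw [← h3]; exact h1.trans h2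
    _ ≤ max M 0 * max B 0 := mul_le_mul_of_nonneg_left (hn y) (le_max_right _ _)

/-- the fibre integral of a weighting of a locally quasi-finite morphism with quasi-compact
source is bounded above. -/
theorem exists_bound_fibreIntegral {X Y : Scheme.{u}} (f : X ⟶ Y) [LocallyQuasiFinite f]
    [LocallyOfFiniteType f] [CompactSpace X] (w : X → ℤ) (hw : MoreMor.IsWeighting f w) :
    ∃ C : ℤ, ∀ y, MoreMor.fibreIntegral f w y ≤ C := by
  classical
  have H : ∀ x : X, ∃ (U : X.Opens) (Y' : Y.Opens), IsAffineOpen U ∧ IsAffineOpen Y' ∧ x ∈ U ∧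
      U ≤ f ⁻¹ᵁ Y' := by
    intro x
    obtain ⟨Y', hY', hfx, -⟩ : ∃ Y' : Y.Opens, IsAffineOpen Y' ∧ f x ∈ Y' ∧ Y' ≤ ⊤ :=
      TopologicalSpace.Opens.isBasis_iff_nbhd.mp Y.isBasis_affineOpens
        (TopologicalSpace.Opens.mem_top (f x))
    have hx : x ∈ f ⁻¹ᵁ Y' := hfx
    obtain ⟨U, hU, hxU, hUle⟩ : ∃ U : X.Opens, IsAffineOpen U ∧ x ∈ U ∧ U ≤ f ⁻¹ᵁ Y' :=
      TopologicalSpace.Opens.isBasis_iff_nbhd.mp X.isBasis_affineOpens hx
    exact ⟨U, Y', hU, hY', hxU, hUle⟩
  choose U Y' hU hY' hxU hUle using H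
  obtain ⟨t, ht⟩ := CompactSpace.elim_nhds_subcover (fun x => (U x : Set X))
    (fun x => (U x).2.mem_nhds (hxU x))
  have hloc := fun x => exists_bound_fI_of_affine f w hw (U x) (hU x) (Y' x) (hY' x) (hUle x)
  choose hfinx C hC using hloc
  have hfinfib : ∀ y, {x | f x = y}.Finite := by
    intro y
    have h1 : {x | f x = y} ⊆ ⋃ a ∈ t, ({x | f x = y} ∩ (U a : Set X)) := by
      intro x hx
      have hxt : x ∈ ⋃ a ∈ t, (U a : Set X) := by rw [ht]; trivial
      simp only [Set.mem_iUnion, exists_prop] at hxt ⊢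
      obtain ⟨a, ha, hxa⟩ := hxt
      exact ⟨a, ha, hx, hxa⟩
    exact (t.finite_toSet.biUnion (fun a _ => hfinx a y)).subset h1
  have hind : ∀ t' : Finset X, ∃ C' : ℤ, ∀ y, fI f w (⋃ a ∈ t', (U a : Set X)) y ≤ C' := by
    intro t'
    induction t' using Finset.induction_on with
    | empty =>
      refine ⟨0, fun y => ?_⟩
      simp [fI_empty]
    | insert a t' _ ih =>
      obtain ⟨C', hC'⟩ := ih
      refine ⟨C' + C a, fun y => ?_⟩
      set S : Set X := ⋃ a ∈ t', (U a : Set X) with hS
      have hset : (⋃ b ∈ insert a t', (U b : Set X)) = S ∪ ((U a : Set X) \ S) := by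
        rw [Finset.set_biUnion_insert, Set.union_sdiff_self, Set.union_comm]
      rw [hset, fI_union f w S ((U a : Set X) \ S) y ((hfinfib y).subset Set.inter_subset_left)
        ((hfinfib y).subset Set.inter_subset_left)
        (Set.disjoint_sdiff_right.mono Set.inter_subset_right Set.inter_subset_right)]
      exact add_le_add (hC' y) (hC a _ Set.sdiff_subset y)
  obtain ⟨C', hC'⟩ := hind t
  refine ⟨C', fun y => ?_⟩
  rw [fibreIntegral_eq_fI_univ, ← Set.top_eq_univ, ← ht]
  exact hC' y

end Groth.Agent.R2.H7.WeightMax
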