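import Mathlib

/-!
# Ascending chains of irreducible closed subsets of locally Noetherian schemes (helper80)

* `wellFoundedLT_primeSpectrum`: primes of a Noetherian ring satisfy the descending chain condition.
* `exists_maximal_ge_of_mem`: in a locally Noetherian scheme, every member of a family of
  irreducible closed subsets is contained in a maximal member of the family.
-/

set_option autoImplicit false
universe u

namespace Groth.Agent.R2.H80.IrrACC

open AlgebraicGeometry CategoryTheory TopologicalSpace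

/-- The primes of a Noetherian ring satisfy the descending chain condition. -/
theorem wellFoundedLT_primeSpectrum (A : Type*) [CommRing A] [IsNoetherianRing A] :
    WellFoundedLT (PrimeSpectrum A) := by
  have h : StrictMono (fun p : PrimeSpectrum A => p.asIdeal.height) := fun p q hpq =>
    Ideal.height_strict_mono_of_isPrime_of_isPrime ((PrimeSpectrum.asIdeal_lt_asIdeal p q).mpr hpq)
  exact h.wellFoundedLT

/-- For an open embedding `j : Y → X` and an irreducible closed `T ⊆ X` meeting the range of `j`,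
`T` is the closure of `j '' (j ⁻¹' T)`. -/
theorem eq_closure_image_preimage {X Y : Type*} [TopologicalSpace X] [TopologicalSpace Y] (j : Y → X)
    (hj : Topology.IsOpenEmbedding j) (T : Set X) (hT : IsIrreducible T) (hTc : IsClosed T)
    (y : Y) (hy : j y ∈ T) : T = closure (j '' (j ⁻¹' T)) := by
  apply subset_antisymm
  · have h1 : j '' (j ⁻¹' T) = T ∩ Set.range j := Set.image_preimage_eq_inter_range
    rw [h1]
    exact subset_closure_inter_of_isPreirreducible_of_isOpen hT.isPreirreducible hj.isOpen_range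
      ⟨j y, hy, y, rfl⟩
  · exact hTc.closure_subset_iff.mpr (Set.image_preimage_subset _ _)

/-- In a locally Noetherian scheme, the irreducible closed subsets through a given point satisfy the
ascending chain condition. -/
theorem wellFoundedGT_irreducibleCloseds_through {X : Scheme.{u}} [IsLocallyNoetherian X] (x : X) :
    WellFoundedGT {T : Closeds X // IsIrreducible (T : Set X) ∧ x ∈ T} := by
  classical
  obtain ⟨W, hW, hxW, -⟩ := exists_isAffineOpen_mem_and_subset (x := x) (U := ⊤) (by trivial)
  let j : Spec Γ(X, W) ⟶ X := hW.fromSpec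
  have hj : Topology.IsOpenEmbedding j := j.isOpenEmbedding
  have hjr : Set.range j = (W : Set X) := hW.range_fromSpec
  have : IsNoetherianRing Γ(X, W) := IsLocallyNoetherian.component_noetherian ⟨W, hW⟩
  have hwf : WellFoundedLT (PrimeSpectrum Γ(X, W)) := wellFoundedLT_primeSpectrum _
  obtain ⟨y, hy⟩ : x ∈ Set.range j := by rw [hjr]; exact hxW
  have hirr : ∀ T : {T : Closeds X // IsIrreducible (T : Set X) ∧ x ∈ T},
      IsIrreducible (j ⁻¹' (T.1 : Set X)) := fun T =>
    ⟨⟨y, by change j y ∈ (T.1 : Set X); rw [hy]; exact T.2.2⟩, T.2.1.isPreirreducible.preimage hj⟩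
  let Φ : {T : Closeds X // IsIrreducible (T : Set X) ∧ x ∈ T} → PrimeSpectrum Γ(X, W) := fun T =>
    ⟨PrimeSpectrum.vanishingIdeal (j ⁻¹' (T.1 : Set X)),
      (PrimeSpectrum.isIrreducible_iff_vanishingIdeal_isPrime).mp (hirr T)⟩
  have hΦ : StrictAnti Φ := by
    intro T T' hlt
    have hle : (T.1 : Set X) ⊆ (T'.1 : Set X) := hlt.le
    have h1 : Φ T' ≤ Φ T := by
      rw [← PrimeSpectrum.asIdeal_le_asIdeal]
      exact PrimeSpectrum.vanishingIdeal_anti_mono (Set.preimage_mono hle)
    refine lt_of_le_of_ne h1 ?_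
    intro heq
    have h2 : PrimeSpectrum.vanishingIdeal (j ⁻¹' (T'.1 : Set X)) =
        PrimeSpectrum.vanishingIdeal (j ⁻¹' (T.1 : Set X)) := congrArg PrimeSpectrum.asIdeal heq
    have h3 : j ⁻¹' (T'.1 : Set X) = j ⁻¹' (T.1 : Set X) := by
      have hc' : IsClosed (j ⁻¹' (T'.1 : Set X)) := T'.1.isClosed.preimage j.continuous
      have hc : IsClosed (j ⁻¹' (T.1 : Set X)) := T.1.isClosed.preimage j.continuous
      have e' : PrimeSpectrum.zeroLocus (PrimeSpectrum.vanishingIdeal (j ⁻¹' (T'.1 : Set X)) : Set _) =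
          j ⁻¹' (T'.1 : Set X) :=
        (PrimeSpectrum.zeroLocus_vanishingIdeal_eq_closure (j ⁻¹' (T'.1 : Set X))).trans hc'.closure_eq
      have e : PrimeSpectrum.zeroLocus (PrimeSpectrum.vanishingIdeal (j ⁻¹' (T.1 : Set X)) : Set _) =
          j ⁻¹' (T.1 : Set X) :=
        (PrimeSpectrum.zeroLocus_vanishingIdeal_eq_closure (j ⁻¹' (T.1 : Set X))).trans hc.closure_eq
      rw [← e', ← e, h2]
    have h4 : (T'.1 : Set X) = (T.1 : Set X) := by
      rw [eq_closure_image_preimage j hj _ T'.2.1 T'.1.isClosed y (by rw [hy]; exact T'.2.2),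
        eq_closure_image_preimage j hj (T.1 : Set X) T.2.1 T.1.isClosed y (by rw [hy]; exact T.2.2),
        h3]
    exact hlt.ne (Subtype.ext (Closeds.ext h4.symm))
  exact hΦ.wellFoundedGT

/-- In a locally Noetherian scheme, every member of a family of irreducible closed subsets is
contained in a maximal member of the family. -/
theorem exists_maximal_ge_of_mem {X : Scheme.{u}} [IsLocallyNoetherian X] (C : Set (Closeds X))
    (hC : ∀ T ∈ C, IsIrreducible (T : Set X)) (T : Closeds X) (hT : T ∈ C) :
    ∃ M ∈ C, T ≤ M ∧ ∀ M' ∈ C, M ≤ M' → M' = M := by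
  classical
  obtain ⟨x, hx⟩ := (hC T hT).nonempty
  have hwf := wellFoundedGT_irreducibleCloseds_through x
  let s : Set {T : Closeds X // IsIrreducible (T : Set X) ∧ x ∈ T} := {T' | T'.1 ∈ C ∧ T ≤ T'.1}
  have hs : s.Nonempty := ⟨⟨T, hC T hT, hx⟩, hT, le_rfl⟩
  obtain ⟨M, hMs, hMmax⟩ := hwf.wf.has_min s hs
  refine ⟨M.1, hMs.1, hMs.2, ?_⟩
  intro M' hM'C hle
  by_contra hne
  have hxM' : x ∈ M' := hle M.2.2
  have hM's : (⟨M', hC M' hM'C, hxM'⟩ : {T : Closeds X // IsIrreducible (T : Set X) ∧ x ∈ T}) ∈ s :=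
    ⟨hM'C, hMs.2.trans hle⟩
  refine hMmax _ hM's ?_
  exact lt_of_le_of_ne hle (fun h => hne (congrArg Subtype.val h).symm)

end Groth.Agent.R2.H80.IrrACC
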