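import Mathlib

/-!
# Finite type algebras over uncountable fields (helper80)

* `isAlgebraic_of_rank_le_aleph0`: a field extension of countable dimension of an uncountable
  field is algebraic.
* `exists_maximal_avoiding`: in a finite type algebra over an uncountable field, given a prime `p`
  and countably many elements outside `p`, there is a maximal ideal containing `p` and avoiding
  all of them.
-/

set_option autoImplicit false
universe u v

namespace Groth.Agent.R2.H80.Uncountable

open Cardinal AlgebraicGeometry CategoryTheory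

/-- A field extension of an uncountable field with at most countable dimension is algebraic. -/
theorem isAlgebraic_of_rank_le_aleph0 (k : Type u) (L : Type v) [Field k] [Field L] [Algebra k L]
    [Uncountable k] (h : Module.rank k L ≤ ℵ₀) : Algebra.IsAlgebraic k L := by
  constructor
  intro x
  by_contra hx
  have hx' : Transcendental k x := hx
  have h2 := hx'.linearIndependent_sub_inv.cardinal_lift_le_rank
  have h3 : Cardinal.lift.{v} #k ≤ ℵ₀ := by
    have := h2.trans (Cardinal.lift_le.mpr h)
    simpa using this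
  have h4 : #k ≤ ℵ₀ := by simpa using h3
  have : Countable k := Cardinal.mk_le_aleph0_iff.mp h4
  exact not_countable (α := k) this

/-- In a finite type algebra over an uncountable field, given a prime `p` and a countable set `s` of
elements outside `p`, there is a maximal ideal containing `p` and avoiding `s`. -/
theorem exists_maximal_avoiding (k : Type u) [Field k] [Uncountable k] (A : Type v) [CommRing A]
    [Algebra k A] [Algebra.FiniteType k A] (p : Ideal A) [p.IsPrime] (s : Set A) (hs : s.Countable)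
    (hsp : ∀ a ∈ s, a ∉ p) :
    ∃ m : Ideal A, m.IsMaximal ∧ p ≤ m ∧ ∀ a ∈ s, a ∉ m := by
  classical
  let D := A ⧸ p
  let K := FractionRing D
  let φ : A →ₐ[k] K := (IsScalarTower.toAlgHom k D K).comp (Ideal.Quotient.mkₐ k p)
  have hφker : ∀ a : A, φ a = 0 ↔ a ∈ p := by
    intro a
    change algebraMap D K (Ideal.Quotient.mk p a) = 0 ↔ _
    rw [map_eq_zero_iff _ (IsFractionRing.injective D K), Ideal.Quotient.eq_zero_iff_mem]
  obtain ⟨t, ht⟩ := (Algebra.FiniteType.out : (⊤ : Subalgebra k A).FG)
  let G : Set K := φ '' (t : Set A) ∪ (fun a => (φ a)⁻¹) '' s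
  have hG : G.Countable := (t.countable_toSet.image _).union (hs.image _)
  let B : Subalgebra k K := Algebra.adjoin k G
  have hBrank : Module.rank k B ≤ ℵ₀ := by
    refine (Algebra.rank_adjoin_le G).trans ?_
    exact max_le (Cardinal.mk_le_aleph0_iff.mpr hG.to_subtype) le_rfl
  have hφB : ∀ a : A, φ a ∈ B := by
    intro a
    have h1 : φ a ∈ (⊤ : Subalgebra k A).map φ := ⟨a, Algebra.mem_top, rfl⟩
    rw [← ht, AlgHom.map_adjoin] at h1
    exact Algebra.adjoin_mono Set.subset_union_left h1
  let ψ : A →ₐ[k] B := φ.codRestrict B hφB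
  obtain ⟨N, hN⟩ := Ideal.exists_maximal B
  let L := B ⧸ N
  let _ : Field L := Ideal.Quotient.field N
  have hLrank : Module.rank k L ≤ ℵ₀ :=
    ((Ideal.Quotient.mkₐ k N).toLinearMap.rank_le_of_surjective
      (Ideal.Quotient.mkₐ_surjective k N)).trans hBrank
  have hLalg : Algebra.IsAlgebraic k L := isAlgebraic_of_rank_le_aleph0 k L hLrank
  let χ : A →ₐ[k] L := (Ideal.Quotient.mkₐ k N).comp ψ
  refine ⟨RingHom.ker χ.toRingHom, ?_, ?_, ?_⟩
  · let _ : Algebra A L := χ.toRingHom.toAlgebra
    have : IsScalarTower k A L := IsScalarTower.of_algebraMap_eq (fun x => (χ.commutes x).symm)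
    have : Algebra.IsIntegral k L := Algebra.IsAlgebraic.isIntegral
    have : Algebra.IsIntegral A L := Algebra.IsIntegral.tower_top (R := k)
    have := Ideal.isMaximal_comap_of_isIntegral_of_isMaximal (R := A) (⊥ : Ideal L)
    exact this
  · intro a ha
    rw [RingHom.mem_ker]
    have h0 : φ a = 0 := (hφker a).mpr ha
    have : ψ a = 0 := Subtype.ext h0
    change Ideal.Quotient.mk N (ψ a) = 0
    rw [this, map_zero]
  · intro a ha hmem
    rw [RingHom.mem_ker] at hmem
    have hne : φ a ≠ 0 := fun h => hsp a ha ((hφker a).mp h)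
    have hinv : (φ a)⁻¹ ∈ B := Algebra.subset_adjoin (Or.inr ⟨a, ha, rfl⟩)
    have hunit : ψ a * ⟨(φ a)⁻¹, hinv⟩ = 1 := Subtype.ext (mul_inv_cancel₀ hne)
    have h1 : χ a * Ideal.Quotient.mk N ⟨(φ a)⁻¹, hinv⟩ = 1 := by
      change Ideal.Quotient.mk N (ψ a) * Ideal.Quotient.mk N ⟨(φ a)⁻¹, hinv⟩ = 1
      rw [← map_mul, hunit, map_one]
    have h2 : χ a = 0 := hmem
    rw [h2, zero_mul] at h1
    exact zero_ne_one h1

/-- Affine version: in the prime spectrum of a finite type algebra over an uncountable field, an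
irreducible closed set which is contained in none of countably many closed sets has a closed point
lying in none of them. -/
theorem exists_closedPoint_primeSpectrum (k : Type u) [Field k] [Uncountable k] (R : Type v)
    [CommRing R] [Algebra k R] [Algebra.FiniteType k R] (T : Set (PrimeSpectrum R))
    (hT : IsIrreducible T) (hTc : IsClosed T) (Z : ℕ → Set (PrimeSpectrum R))
    (hZc : ∀ n, IsClosed (Z n)) (hZ : ∀ n, ¬ T ⊆ Z n) :
    ∃ x ∈ T, IsClosed ({x} : Set (PrimeSpectrum R)) ∧ ∀ n, x ∉ Z n := by
  classical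
  have hp : (PrimeSpectrum.vanishingIdeal T).IsPrime :=
    (PrimeSpectrum.isIrreducible_iff_vanishingIdeal_isPrime).mp hT
  set p := PrimeSpectrum.vanishingIdeal T with hpdef
  have hTp : T = PrimeSpectrum.zeroLocus (p : Set R) := by
    rw [hpdef, PrimeSpectrum.zeroLocus_vanishingIdeal_eq_closure, hTc.closure_eq]
  have hZn : ∀ n, Z n = PrimeSpectrum.zeroLocus (PrimeSpectrum.vanishingIdeal (Z n) : Set R) := by
    intro n
    rw [PrimeSpectrum.zeroLocus_vanishingIdeal_eq_closure, (hZc n).closure_eq]
  have hex : ∀ n, ∃ f : R, f ∈ PrimeSpectrum.vanishingIdeal (Z n) ∧ f ∉ p := by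
    intro n
    by_contra hcon
    push Not at hcon
    apply hZ n
    rw [hTp, hZn n]
    exact PrimeSpectrum.zeroLocus_anti_mono (fun f hf => hcon f hf)
  choose f hfI hfp using hex
  obtain ⟨m, hm, hpm, hfm⟩ := exists_maximal_avoiding k R p (Set.range f)
    (Set.countable_range f) (by rintro _ ⟨n, rfl⟩; exact hfp n)
  refine ⟨⟨m, hm.isPrime⟩, ?_, ?_, ?_⟩
  · rw [hTp]
    exact hpm
  · rw [PrimeSpectrum.isClosed_singleton_iff_isMaximal]
    exact hm
  · intro n hn
    rw [hZn n] at hn
    exact hfm (f n) ⟨n, rfl⟩ (hn (hfI n))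

/-- In a scheme locally of finite type over an uncountable field, an irreducible closed subset
which is contained in none of countably many closed subsets has a closed point (closed in the whole
scheme) lying in none of them. -/
theorem exists_closedPoint_not_mem (k : Type u) [Field k] [Uncountable k] (X : Scheme.{u})
    (sX : X ⟶ Spec (CommRingCat.of k)) [LocallyOfFiniteType sX] (T : Set X)
    (hT : IsIrreducible T) (hTc : IsClosed T) (Z : ℕ → Set X)
    (hZc : ∀ n, IsClosed (Z n)) (hZ : ∀ n, ¬ T ⊆ Z n) :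
    ∃ x ∈ T, IsClosed ({x} : Set X) ∧ ∀ n, x ∉ Z n := by
  classical
  have : JacobsonSpace X := LocallyOfFiniteType.jacobsonSpace sX
  obtain ⟨t, ht⟩ := hT.nonempty
  obtain ⟨W, hW, htW, -⟩ := exists_isAffineOpen_mem_and_subset (x := t) (U := ⊤) (by trivial)
  let j : Spec Γ(X, W) ⟶ X := hW.fromSpec
  have hj : Topology.IsOpenEmbedding j := j.isOpenEmbedding
  have hjr : Set.range j = (W : Set X) := hW.range_fromSpec
  let φ : CommRingCat.of k ⟶ Γ(X, W) := Spec.preimage (j ≫ sX)
  have hφ : Spec.map φ = j ≫ sX := Spec.map_preimage _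
  have hft : φ.hom.FiniteType := by
    have : LocallyOfFiniteType (Spec.map φ) := by rw [hφ]; infer_instance
    exact HasRingHomProperty.Spec_iff.mp this
  let _ : Algebra k Γ(X, W) := φ.hom.toAlgebra
  have : Algebra.FiniteType k Γ(X, W) := hft
  -- pull everything back along j
  let T' : Set (PrimeSpectrum Γ(X, W)) := j ⁻¹' T
  have hT'c : IsClosed T' := hTc.preimage j.continuous
  have hT'irr : IsIrreducible T' := by
    refine ⟨?_, hT.isPreirreducible.preimage hj⟩
    obtain ⟨y, hy⟩ : t ∈ Set.range j := by rw [hjr]; exact htW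
    exact ⟨y, by change j y ∈ T; rw [hy]; exact ht⟩
  have hZ' : ∀ n, ¬ T' ⊆ j ⁻¹' (Z n) := by
    intro n hsub
    apply hZ n
    -- T ∩ W is dense in T
    have hne : (T ∩ (W : Set X)).Nonempty := ⟨t, ht, htW⟩
    have hcl : T ⊆ closure (T ∩ (W : Set X)) :=
      subset_closure_inter_of_isPreirreducible_of_isOpen hT.isPreirreducible W.isOpen hne
    refine hcl.trans ((hZc n).closure_subset_iff.mpr ?_)
    rintro x ⟨hxT, hxW⟩
    obtain ⟨y, rfl⟩ : x ∈ Set.range j := by rw [hjr]; exact hxW
    exact hsub hxT
  obtain ⟨x, hxT, hxc, hxZ⟩ := exists_closedPoint_primeSpectrum k Γ(X, W) T' hT'irr hT'c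
    (fun n => j ⁻¹' (Z n)) (fun n => (hZc n).preimage j.continuous) hZ'
  refine ⟨j x, hxT, ?_, fun n => hxZ n⟩
  apply isClosed_singleton_of_isLocallyClosed_singleton
  have : ({j x} : Set X) = j '' {x} := (Set.image_singleton).symm
  rw [this]
  exact (hxc.isLocallyClosed).image hj.isInducing hj.isOpen_range.isLocallyClosed

end Groth.Agent.R2.H80.Uncountable
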