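import Mathlib
import Groth.Agent.R2.H80Uncountable
import Groth.Agent.R2.H80IrrACC

/-!
# The maximal irreducible closed subset through the origin of a "countably closed" subgroup of the
points of a group scheme over an uncountable algebraically closed field (helper80)

* `Data`, `Adm`, `main`: the abstract topological/group-theoretic argument.
* `rtrans`, `ltrans`: translations by points in a group object of a cartesian monoidal category.
* `pt`, `ρh`, `lamh`, ...: the dictionary for group schemes over an algebraically closed field.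
-/

set_option autoImplicit false
universe u

open CategoryTheory MonoidalCategory CartesianMonoidalCategory MonObj GrpObj AlgebraicGeometry
open TopologicalSpace

namespace Groth.Agent.R2.H80.AbVarK


section Abstract

variable {X : Type*} [TopologicalSpace X]

/-- In a Jacobson space, a closed set all of whose closed points lie in a closed set `C` lies in
`C`. -/
theorem subset_of_closedPoints_subset [JacobsonSpace X] {Z C : Set X} (hZ : IsClosed Z)
    (hC : IsClosed C) (h : ∀ x ∈ Z, IsClosed ({x} : Set X) → x ∈ C) : Z ⊆ C := by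
  rw [← closure_inter_closedPoints hZ]
  exact hC.closure_subset_iff.mpr fun x hx => h x hx.1 hx.2

/-- image of a closed set under a homeomorphism -/
def mapCloseds (h : X ≃ₜ X) (T : Closeds X) : Closeds X :=
  ⟨h '' (T : Set X), h.isClosedMap _ T.isClosed⟩

theorem mem_mapCloseds {h : X ≃ₜ X} {T : Closeds X} {x : X} :
    x ∈ mapCloseds h T ↔ ∃ t ∈ T, h t = x := Iff.rfl

theorem isIrreducible_mapCloseds (h : X ≃ₜ X) (T : Closeds X) (hT : IsIrreducible (T : Set X)) :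
    IsIrreducible (mapCloseds h T : Set X) :=
  hT.image h h.continuous.continuousOn

end Abstract

section Main

variable {X : Type*} [TopologicalSpace X] [JacobsonSpace X] {G : Type*} [Group G]

/-- The data: a group `G` of "rational points" of a space `X`, with translations. -/
structure Data (X : Type*) [TopologicalSpace X] (G : Type*) [Group G] where
  /-- the point of `X` attached to a rational point -/
  pt : G → X
  pt_closed : ∀ x, IsClosed ({pt x} : Set X)
  pt_surj : ∀ p : X, IsClosed ({p} : Set X) → ∃ x, pt x = p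
  /-- right translations -/
  ρ : G → X ≃ₜ X
  /-- left translations -/
  lam : G → X ≃ₜ X
  hρ : ∀ b x, ρ b (pt x) = pt (x * b)
  hlam : ∀ a x, lam a (pt x) = pt (a * x)
  hcore : ∀ 𝒟 : Set (Closeds X), 𝒟.Countable → ∀ T : Closeds X, IsIrreducible (T : Set X) →
    (∀ x ∈ T, IsClosed ({x} : Set X) → ∃ D ∈ 𝒟, x ∈ D) → ∃ D ∈ 𝒟, T ≤ D
  hacc : ∀ S : Set (Closeds X), (∀ T ∈ S, IsIrreducible (T : Set X)) → ∀ T ∈ S,
    ∃ M ∈ S, T ≤ M ∧ ∀ M' ∈ S, M ≤ M' → M' = M

variable (d : Data X G) (K : Subgroup G)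

/-- admissible closed subsets -/
def Adm (T : Closeds X) : Prop :=
  IsIrreducible (T : Set X) ∧ ∀ x, d.pt x ∈ T → x ∈ K

variable {d K}

omit [JacobsonSpace X] in
theorem Adm.map_ρ {T : Closeds X} (hT : Adm d K T) {b : G} (hb : b ∈ K) :
    Adm d K (mapCloseds (d.ρ b) T) := by
  refine ⟨isIrreducible_mapCloseds _ _ hT.1, ?_⟩
  intro x hx
  obtain ⟨t, ht, htx⟩ := mem_mapCloseds.mp hx
  have h1 : d.ρ b (d.pt (x * b⁻¹)) = d.pt x := by rw [d.hρ, inv_mul_cancel_right]
  have h2 : t = d.pt (x * b⁻¹) := (d.ρ b).injective (htx.trans h1.symm)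
  rw [h2] at ht
  have := hT.2 _ ht
  have h3 := K.mul_mem this hb
  rwa [inv_mul_cancel_right] at h3

omit [JacobsonSpace X] in
theorem Adm.map_lam {T : Closeds X} (hT : Adm d K T) {a : G} (ha : a ∈ K) :
    Adm d K (mapCloseds (d.lam a) T) := by
  refine ⟨isIrreducible_mapCloseds _ _ hT.1, ?_⟩
  intro x hx
  obtain ⟨t, ht, htx⟩ := mem_mapCloseds.mp hx
  have h1 : d.lam a (d.pt (a⁻¹ * x)) = d.pt x := by rw [d.hlam, mul_inv_cancel_left]
  have h2 : t = d.pt (a⁻¹ * x) := (d.lam a).injective (htx.trans h1.symm)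
  rw [h2] at ht
  have := hT.2 _ ht
  have h3 := K.mul_mem ha this
  rwa [mul_inv_cancel_left] at h3

variable {𝒞 : Set (Closeds X)}

omit [JacobsonSpace X] in
theorem Adm.exists_le (h𝒞c : 𝒞.Countable) (hK : ∀ x, x ∈ K ↔ ∃ C ∈ 𝒞, d.pt x ∈ C) {T : Closeds X}
    (hT : Adm d K T) : ∃ C ∈ 𝒞, T ≤ C := by
  refine d.hcore 𝒞 h𝒞c T hT.1 ?_
  intro x hxT hxc
  obtain ⟨g, rfl⟩ := d.pt_surj x hxc
  exact (hK g).mp (hT.2 g hxT)

omit [JacobsonSpace X] in
theorem adm_of_mem (h𝒞i : ∀ C ∈ 𝒞, IsIrreducible (C : Set X))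
    (hK : ∀ x, x ∈ K ↔ ∃ C ∈ 𝒞, d.pt x ∈ C) {C : Closeds X} (hC : C ∈ 𝒞) : Adm d K C :=
  ⟨h𝒞i C hC, fun x hx => (hK x).mpr ⟨C, hC, hx⟩⟩

/-- the key step: two admissible sets through the origin lie in a common member of `𝒞`. -/
theorem Adm.exists_common (h𝒞c : 𝒞.Countable) (hK : ∀ x, x ∈ K ↔ ∃ C ∈ 𝒞, d.pt x ∈ C)
    {T T' : Closeds X} (hT : Adm d K T) (hT' : Adm d K T') (he : d.pt 1 ∈ T) (he' : d.pt 1 ∈ T') :
    ∃ C ∈ 𝒞, T ≤ C ∧ T' ≤ C := by
  classical
  -- the closed sets `D_C`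
  let D : Closeds X → Closeds X := fun C =>
    ⟨(T : Set X) ∩ ⋂ β : {β : G // d.pt β ∈ T'}, (d.ρ β.1) ⁻¹' (C : Set X),
      T.isClosed.inter (isClosed_iInter fun β => C.isClosed.preimage (d.ρ β.1).continuous)⟩
  have hDmem : ∀ C a, a ∈ D C ↔ a ∈ T ∧ ∀ β, d.pt β ∈ T' → d.ρ β a ∈ C := by
    intro C a
    change a ∈ (T : Set X) ∩ ⋂ β : {β : G // d.pt β ∈ T'}, (d.ρ β.1) ⁻¹' (C : Set X) ↔ _
    simp only [Set.mem_inter_iff, Set.mem_iInter, Set.mem_preimage, Subtype.forall]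
    rfl
  obtain ⟨D', hD', hTD'⟩ := d.hcore (D '' 𝒞) (h𝒞c.image D) T hT.1 (by
    intro x hxT hxc
    obtain ⟨α, rfl⟩ := d.pt_surj x hxc
    have hα : α ∈ K := hT.2 α hxT
    obtain ⟨C, hC, hle⟩ := (hT'.map_lam hα).exists_le h𝒞c hK
    refine ⟨D C, ⟨C, hC, rfl⟩, (hDmem C _).mpr ⟨hxT, ?_⟩⟩
    intro β hβ
    rw [d.hρ, ← d.hlam]
    exact hle (mem_mapCloseds.mpr ⟨_, hβ, rfl⟩))
  obtain ⟨C, hC, rfl⟩ := hD'
  refine ⟨C, hC, ?_, ?_⟩
  · apply subset_of_closedPoints_subset T.isClosed C.isClosed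
    intro x hxT hxc
    obtain ⟨α, rfl⟩ := d.pt_surj x hxc
    have := ((hDmem C _).mp (hTD' hxT)).2 1 he'
    rwa [d.hρ, _root_.mul_one] at this
  · apply subset_of_closedPoints_subset T'.isClosed C.isClosed
    intro x hxT' hxc
    obtain ⟨β, rfl⟩ := d.pt_surj x hxc
    have := ((hDmem C _).mp (hTD' he)).2 β hxT'
    rwa [d.hρ, _root_.one_mul] at this

theorem main (h𝒞c : 𝒞.Countable) (h𝒞i : ∀ C ∈ 𝒞, IsIrreducible (C : Set X))
    (hK : ∀ x, x ∈ K ↔ ∃ C ∈ 𝒞, d.pt x ∈ C) :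
    (∃! T : Closeds X, Maximal (Adm d K) T ∧ d.pt 1 ∈ T) ∧
      ∀ T : Closeds X, Maximal (Adm d K) T → d.pt 1 ∈ T →
        (∃ C ∈ 𝒞, T ≤ C) ∧ ∀ x y, d.pt x ∈ T → d.pt y ∈ T → d.pt (x * y⁻¹) ∈ T := by
  classical
  -- every admissible set lies in a maximal one
  have hmax : ∀ T : Closeds X, Adm d K T → ∃ M, Maximal (Adm d K) M ∧ T ≤ M := by
    intro T hT
    obtain ⟨M, hM, hTM, hMmax⟩ := d.hacc {T | Adm d K T} (fun T hT => hT.1) T hT
    refine ⟨M, ⟨hM, ?_⟩, hTM⟩
    intro M' hM' hle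
    exact (hMmax M' hM' hle).le
  -- uniqueness
  have huniq : ∀ T T' : Closeds X, Maximal (Adm d K) T → d.pt 1 ∈ T → Maximal (Adm d K) T' →
      d.pt 1 ∈ T' → T = T' := by
    intro T T' hT he hT' he'
    obtain ⟨C, hC, hTC, hT'C⟩ := hT.1.exists_common h𝒞c hK hT'.1 he he'
    have hCadm : Adm d K C := adm_of_mem h𝒞i hK hC
    have h1 : C ≤ T := hT.2 hCadm hTC
    have h2 : C ≤ T' := hT'.2 hCadm hT'C
    exact le_antisymm (hTC.trans h2) (hT'C.trans h1)
  -- the singleton at the origin is admissible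
  have h1K : ∃ C ∈ 𝒞, d.pt 1 ∈ C := (hK 1).mp K.one_mem
  have hsing : Adm d K ⟨{d.pt 1}, d.pt_closed 1⟩ := by
    refine ⟨isIrreducible_singleton, ?_⟩
    intro x hx
    have hx' : d.pt x = d.pt 1 := hx
    rw [hK, hx']
    exact h1K
  obtain ⟨M, hM, hle⟩ := hmax _ hsing
  have heM : d.pt 1 ∈ M := hle (Set.mem_singleton _)
  refine ⟨⟨M, ⟨hM, heM⟩, fun T' hT' => huniq T' M hT'.1 hT'.2 hM heM⟩, ?_⟩
  intro T hT he
  refine ⟨hT.1.exists_le h𝒞c hK, ?_⟩
  intro x y hx hy
  have hyK : y ∈ K := hT.1.2 y hy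
  have hadm := hT.1.map_ρ (K.inv_mem hyK)
  obtain ⟨M', hM', hle'⟩ := hmax _ hadm
  have he' : d.pt 1 ∈ M' := by
    apply hle'
    refine mem_mapCloseds.mpr ⟨d.pt y, hy, ?_⟩
    rw [d.hρ, mul_inv_cancel]
  have hMT : M' = T := huniq M' T hM' he' hT he
  rw [← hMT]
  apply hle'
  refine mem_mapCloseds.mpr ⟨d.pt x, hx, ?_⟩
  rw [d.hρ]

end Main



section Trans

variable {C : Type*} [Category C] [CartesianMonoidalCategory C] (G : C) [GrpObj G]

/-- right translation by a point -/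
def rtrans (b : 𝟙_ C ⟶ G) : G ⟶ G := 𝟙 G * (toUnit G ≫ b)

/-- left translation by a point -/
def ltrans (a : 𝟙_ C ⟶ G) : G ⟶ G := (toUnit G ≫ a) * 𝟙 G

variable {G}

omit [GrpObj G] in
theorem toUnit_comp_point (x : 𝟙_ C ⟶ G) (b : 𝟙_ C ⟶ G) : x ≫ toUnit G ≫ b = b := by
  rw [← Category.assoc]
  have : x ≫ toUnit G = 𝟙 _ := toUnit_unique _ _
  rw [this, Category.id_comp]

theorem point_comp_rtrans (x b : 𝟙_ C ⟶ G) : x ≫ rtrans G b = x * b := by
  rw [rtrans, MonObj.comp_mul, Category.comp_id, toUnit_comp_point]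

theorem point_comp_ltrans (a x : 𝟙_ C ⟶ G) : x ≫ ltrans G a = a * x := by
  rw [ltrans, MonObj.comp_mul, Category.comp_id, toUnit_comp_point]

theorem rtrans_comp (b c : 𝟙_ C ⟶ G) : rtrans G b ≫ rtrans G c = rtrans G (b * c) := by
  have h : rtrans G b ≫ toUnit G = toUnit G := toUnit_unique _ _
  conv_lhs => rw [rtrans.eq_def G c, MonObj.comp_mul, Category.comp_id, ← Category.assoc, h]
  rw [rtrans, rtrans, MonObj.comp_mul, _root_.mul_assoc]

theorem ltrans_comp (a b : 𝟙_ C ⟶ G) : ltrans G a ≫ ltrans G b = ltrans G (b * a) := by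
  have h : ltrans G a ≫ toUnit G = toUnit G := toUnit_unique _ _
  conv_lhs => rw [ltrans.eq_def G b, MonObj.comp_mul, Category.comp_id, ← Category.assoc, h]
  rw [ltrans, ltrans, MonObj.comp_mul, _root_.mul_assoc]

theorem rtrans_one : rtrans G (1 : 𝟙_ C ⟶ G) = 𝟙 G := by
  rw [rtrans, MonObj.comp_one, _root_.mul_one]

theorem ltrans_one : ltrans G (1 : 𝟙_ C ⟶ G) = 𝟙 G := by
  rw [ltrans, MonObj.comp_one, _root_.one_mul]

variable (G) in
/-- right translation as an isomorphism -/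
def rtransIso (b : 𝟙_ C ⟶ G) : G ≅ G where
  hom := rtrans G b
  inv := rtrans G b⁻¹
  hom_inv_id := by rw [rtrans_comp, mul_inv_cancel, rtrans_one]
  inv_hom_id := by rw [rtrans_comp, inv_mul_cancel, rtrans_one]

variable (G) in
/-- left translation as an isomorphism -/
def ltransIso (a : 𝟙_ C ⟶ G) : G ≅ G where
  hom := ltrans G a
  inv := ltrans G a⁻¹
  hom_inv_id := by rw [ltrans_comp, inv_mul_cancel, ltrans_one]
  inv_hom_id := by rw [ltrans_comp, mul_inv_cancel, ltrans_one]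

end Trans

section Sch

variable (k : Type u) [Field k] (A : Over (Spec (CommRingCat.of k)))

/-- the unique point of the base -/
noncomputable def basePt : ↥(𝟙_ (Over (Spec (CommRingCat.of k)))).left :=
  (IsLocalRing.closedPoint k : PrimeSpectrum k)

noncomputable instance : Unique ↥(𝟙_ (Over (Spec (CommRingCat.of k)))).left :=
  inferInstanceAs (Unique (PrimeSpectrum k))

variable {k A}

/-- the point of `A` attached to a rational point -/
noncomputable def pt (x : 𝟙_ (Over (Spec (CommRingCat.of k))) ⟶ A) : ↥A.left := x.left.base (basePt k)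

theorem range_eq (x : 𝟙_ (Over (Spec (CommRingCat.of k))) ⟶ A) :
    Set.range ⇑x.left.base = {pt x} := by
  ext y
  constructor
  · rintro ⟨z, rfl⟩
    rw [Subsingleton.elim z (basePt k)]
    rfl
  · rintro rfl
    exact ⟨basePt k, rfl⟩

theorem range_subset_iff (x : 𝟙_ (Over (Spec (CommRingCat.of k))) ⟶ A) (T : Set ↥A.left) :
    Set.range ⇑x.left.base ⊆ T ↔ pt x ∈ T := by
  rw [range_eq, Set.singleton_subset_iff]

end Sch

section Pts

variable {k : Type u} [Field k] [IsAlgClosed k] {A : Over (Spec (CommRingCat.of k))}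
  [LocallyOfFiniteType A.hom]

theorem isClosed_pt (x : 𝟙_ (Over (Spec (CommRingCat.of k))) ⟶ A) :
    IsClosed ({pt x} : Set ↥A.left) := by
  have hw : x.left ≫ A.hom = 𝟙 _ := Over.w x
  exact ((pointEquivClosedPoint A.hom) ⟨x.left, hw⟩).2

theorem exists_pt_eq (p : ↥A.left) (hp : IsClosed ({p} : Set ↥A.left)) :
    ∃ x : 𝟙_ (Over (Spec (CommRingCat.of k))) ⟶ A, pt x = p := by
  refine ⟨Over.homMk (pointOfClosedPoint A.hom p hp) (pointOfClosedPoint_comp A.hom p hp), ?_⟩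
  exact pointOfClosedPoint_apply A.hom p hp _

end Pts

section Transl

variable {k : Type u} [Field k] {A : Over (Spec (CommRingCat.of k))} [GrpObj A]

/-- right translation homeomorphism -/
noncomputable def ρh (b : 𝟙_ (Over (Spec (CommRingCat.of k))) ⟶ A) : ↥A.left ≃ₜ ↥A.left :=
  Scheme.homeoOfIso ((Over.forget _).mapIso (rtransIso A b))

/-- left translation homeomorphism -/
noncomputable def lamh (a : 𝟙_ (Over (Spec (CommRingCat.of k))) ⟶ A) : ↥A.left ≃ₜ ↥A.left :=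
  Scheme.homeoOfIso ((Over.forget _).mapIso (ltransIso A a))

theorem ρh_pt (b x : 𝟙_ (Over (Spec (CommRingCat.of k))) ⟶ A) : ρh b (pt x) = pt (x * b) := by
  rw [← point_comp_rtrans]
  rfl

theorem lamh_pt (a x : 𝟙_ (Over (Spec (CommRingCat.of k))) ⟶ A) : lamh a (pt x) = pt (a * x) := by
  rw [← point_comp_ltrans]
  rfl

end Transl


section Families

/-- the "countable union" lemma in the form used by `Data.hcore`. -/
theorem hcore_scheme (k : Type u) [Field k] [Uncountable k] (X : Scheme.{u})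
    (sX : X ⟶ Spec (CommRingCat.of k)) [LocallyOfFiniteType sX] (𝒟 : Set (Closeds X))
    (h𝒟 : 𝒟.Countable) (T : Closeds X) (hT : IsIrreducible (T : Set X))
    (h : ∀ x ∈ T, IsClosed ({x} : Set X) → ∃ D ∈ 𝒟, x ∈ D) : ∃ D ∈ 𝒟, T ≤ D := by
  classical
  by_contra hcon
  push Not at hcon
  obtain ⟨e, hec, hen, hes⟩ : ∃ e : ℕ → Set X, (∀ n, IsClosed (e n)) ∧
      (∀ n, ¬ (T : Set X) ⊆ e n) ∧ ∀ D ∈ 𝒟, ∃ n, (D : Set X) = e n := by
    rcases 𝒟.eq_empty_or_nonempty with h0 | hne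
    · refine ⟨fun _ => ∅, fun _ => isClosed_empty, fun _ hsub => ?_, ?_⟩
      · obtain ⟨x, hx⟩ := hT.nonempty
        exact hsub hx
      · intro D hD
        rw [h0] at hD
        exact absurd hD (Set.notMem_empty _)
    · obtain ⟨f, hf⟩ := h𝒟.exists_eq_range hne
      refine ⟨fun n => (f n : Set X), fun n => (f n).isClosed, fun n hsub => ?_, ?_⟩
      · exact hcon (f n) (by rw [hf]; exact ⟨n, rfl⟩) hsub
      · intro D hD
        rw [hf] at hD
        obtain ⟨n, rfl⟩ := hD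
        exact ⟨n, rfl⟩
  obtain ⟨x, hxT, hxc, hxe⟩ := Groth.Agent.R2.H80.Uncountable.exists_closedPoint_not_mem k X sX
    (T : Set X) hT T.isClosed e hec hen
  obtain ⟨D, hD, hxD⟩ := h x hxT hxc
  obtain ⟨n, hn⟩ := hes D hD
  apply hxe n
  rw [← hn]
  exact hxD

/-- A countable family of closed subsets of a Noetherian space is, pointwise, a countable family of
irreducible closed subsets. -/
theorem exists_irreducible_family {X : Type*} [TopologicalSpace X] [NoetherianSpace X]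
    (Z : ℕ → Closeds X) :
    ∃ 𝒞 : Set (Closeds X), 𝒞.Countable ∧ (∀ C ∈ 𝒞, IsIrreducible (C : Set X)) ∧
      (∀ x : X, (∃ n, x ∈ Z n) ↔ ∃ C ∈ 𝒞, x ∈ C) ∧ ∀ C ∈ 𝒞, ∃ n, C ≤ Z n := by
  classical
  have hdec : ∀ n, ∃ Sn : Set (Closeds X), Sn.Finite ∧
      (∀ T ∈ Sn, IsIrreducible (T : Set X)) ∧ ∀ x : X, x ∈ Z n ↔ ∃ T ∈ Sn, x ∈ T := by
    intro n
    obtain ⟨S', hfin, hcl, hirr, heq⟩ :=
      NoetherianSpace.exists_finite_set_isClosed_irreducible (Z n).isClosed
    refine ⟨{T | (T : Set X) ∈ S'}, ?_, fun T hT => hirr _ hT, ?_⟩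
    · exact hfin.preimage (fun a _ b _ hab => Closeds.ext hab)
    · intro x
      constructor
      · intro hx
        have hx' : x ∈ ((Z n : Closeds X) : Set X) := hx
        rw [heq] at hx'
        obtain ⟨t, ht, hxt⟩ := hx'
        exact ⟨⟨t, hcl t ht⟩, ht, hxt⟩
      · rintro ⟨T, hT, hxT⟩
        have : x ∈ ((Z n : Closeds X) : Set X) := by
          rw [heq]
          exact ⟨T, hT, hxT⟩
        exact this
  choose Sn hSnfin hSnirr hSneq using hdec
  refine ⟨⋃ n, Sn n, Set.countable_iUnion (fun n => (hSnfin n).countable), ?_, ?_, ?_⟩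
  · intro C hC
    obtain ⟨n, hn⟩ := Set.mem_iUnion.mp hC
    exact hSnirr n C hn
  · intro x
    constructor
    · rintro ⟨n, hn⟩
      obtain ⟨T, hT, hxT⟩ := (hSneq n x).mp hn
      exact ⟨T, Set.mem_iUnion.mpr ⟨n, hT⟩, hxT⟩
    · rintro ⟨C, hC, hxC⟩
      obtain ⟨n, hn⟩ := Set.mem_iUnion.mp hC
      exact ⟨n, (hSneq n x).mpr ⟨C, hn, hxC⟩⟩
  · intro C hC
    obtain ⟨n, hn⟩ := Set.mem_iUnion.mp hC
    exact ⟨n, fun x hx => (hSneq n x).mpr ⟨C, hn, hx⟩⟩

end Families

section Final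

variable (k : Type u) [Field k] [IsAlgClosed k] [Uncountable k]
  (A : Over (Spec (CommRingCat.of k))) [GrpObj A] [LocallyOfFiniteType A.hom]

/-- The data attached to a group scheme locally of finite type over an uncountable algebraically
closed field. -/
noncomputable def dataOf : Data ↥A.left (𝟙_ (Over (Spec (CommRingCat.of k))) ⟶ A) where
  pt := pt
  pt_closed := isClosed_pt
  pt_surj := exists_pt_eq
  ρ := ρh
  lam := lamh
  hρ := ρh_pt
  hlam := lamh_pt
  hcore := hcore_scheme k A.left A.hom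
  hacc := by
    have : IsLocallyNoetherian A.left := LocallyOfFiniteType.isLocallyNoetherian A.hom
    exact fun S hS T hT => Groth.Agent.R2.H80.IrrACC.exists_maximal_ge_of_mem S hS T hT

end Final

end Groth.Agent.R2.H80.AbVarK
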