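import Groth.Agent.Lib.Helper13AdeqA
import Groth.Agent.Lib.Helper13AdeqD

/-!
# `restr` of an adequate functor is adequate (helper80)
-/

set_option autoImplicit false
universe u
open CategoryTheory Limits TensorProduct
open Adeq

namespace Groth.Agent.R2.H80.AdeqRestr

section Alg

variable {A A' : Type u} [CommRing A] [CommRing A'] [Algebra A A'] (M : Type (u+1))
  [AddCommGroup M] [Module A M] (B' : Type u) [CommRing B'] [Algebra A' B'] [Algebra A B']
  [IsScalarTower A A' B']

variable (A') in
/-- `B' ⊗_A M ≃ B' ⊗_{A'} (A' ⊗_A M)`, `b ⊗ m ↦ b ⊗ (1 ⊗ m)`. -/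
noncomputable def cmpR : B' ⊗[A] M ≃+ B' ⊗[A'] (A' ⊗[A] M) :=
  (AlgebraTensorModule.cancelBaseChange A A' A' B' M).symm.toAddEquiv

@[simp] theorem cmpR_tmul (b : B') (m : M) :
    cmpR A' M B' (b ⊗ₜ[A] m) = b ⊗ₜ[A'] ((1 : A') ⊗ₜ[A] m) := rfl

variable {M B'}

/-- naturality in `B'` -/
theorem cmpR_natural {B'' : Type u} [CommRing B''] [Algebra A' B''] [Algebra A B'']
    [IsScalarTower A A' B''] (g : B' →ₐ[A'] B'') (gA : B' →ₐ[A] B'') (hg : ∀ b, gA b = g b)
    (x : B' ⊗[A] M) :
    cmpR A' M B'' ((gA.toLinearMap.rTensor M) x) =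
      (g.toLinearMap.rTensor (A' ⊗[A] M)) (cmpR A' M B' x) := by
  induction x using TensorProduct.induction_on with
  | zero => simp
  | tmul b m => simp [hg]
  | add x y hx hy => simp only [map_add, hx, hy]

/-- `B'`-linearity -/
theorem cmpR_smul (b : B') (x : B' ⊗[A] M) : cmpR A' M B' (b • x) = b • cmpR A' M B' x := by
  induction x using TensorProduct.induction_on with
  | zero => simp
  | tmul b₁ m => rw [TensorProduct.smul_tmul', cmpR_tmul, cmpR_tmul, TensorProduct.smul_tmul']
  | add x y hx hy => rw [smul_add, map_add, map_add, smul_add, hx, hy]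

/-- compatibility with a map of modules -/
theorem cmpR_map {N : Type (u+1)} [AddCommGroup N] [Module A N] (φ : M →ₗ[A] N) (x : B' ⊗[A] M) :
    cmpR A' N B' ((φ.baseChange B') x) = ((φ.baseChange A').baseChange B') (cmpR A' M B' x) := by
  induction x using TensorProduct.induction_on with
  | zero => simp
  | tmul b m => simp
  | add x y hx hy => simp only [map_add, hx, hy]

end Alg

section Cat

open Groth.Agent.Helper13Adeq

variable (A A' : Type u) [CommRing A] [CommRing A'] [Algebra A A']

/-- extension of scalars of a module -/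
noncomputable abbrev extMod (M : ModuleCat.{u + 1} A) : ModuleCat.{u + 1} A' :=
  ModuleCat.of A' (A' ⊗[A] M)

/-- extension of scalars of a map of modules -/
noncomputable def extMap {M N : ModuleCat.{u + 1} A} (φ : M ⟶ N) :
    extMod A A' M ⟶ extMod A A' N :=
  ModuleCat.ofHom (φ.hom.baseChange A')

/-- the `A`-algebra structure on an `A'`-algebra -/
@[reducible] def algA (B' : Alg A') : Algebra A B' :=
  ((algebraMap A' B').comp (algebraMap A A')).toAlgebra

theorem towerA (B' : Alg A') : @IsScalarTower A A' B' _ _ (algA A A' B').toSMul :=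
  letI := algA A A' B'
  IsScalarTower.of_algebraMap_eq (fun _ => rfl)

variable {A A'}

/-- the comparison map at `B'` -/
noncomputable def cmpAtR (M : ModuleCat.{u + 1} A) (B' : Alg A') :
    (((underline A).obj M).obj (pt ((Alg.restr A A').obj B')) : Type _) ≃+
      (((underline A').obj (extMod A A' M)).obj (pt B') : Type _) :=
  @cmpR A A' _ _ _ M _ _ B' _ _ (algA A A' B') (towerA A A' B')

theorem cmpAtR_apply (M : ModuleCat.{u + 1} A) (B' : Alg A')
    (x : ((underline A).obj M).obj (pt ((Alg.restr A A').obj B'))) :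
    cmpAtR M B' x = @cmpR A A' _ _ _ M _ _ B' _ _ (algA A A' B') (towerA A A' B') x := rfl

/-- the comparison morphism `restr F ⟶ underline (A' ⊗ M)` attached to `F ⟶ underline M`. -/
noncomputable def restrHom (F : MVF A) (M : ModuleCat.{u + 1} A)
    (i : F ⟶ (underline A).obj M) :
    (restr A A').obj F ⟶ (underline A').obj (extMod A A' M) :=
  PresheafOfModules.homMk
    { app := fun X => AddCommGrpCat.ofHom
        ((cmpAtR M X.unop.unop).toAddMonoidHom.comp
          (i.app (pt ((Alg.restr A A').obj X.unop.unop))).hom.toAddMonoidHom)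
      naturality := by
        intro X Y f
        ext x
        change cmpAtR M Y.unop.unop (i.app (pt ((Alg.restr A A').obj Y.unop.unop))
            (mapEl F ((Alg.restr A A').map f.unop.unop) x)) =
          (f.unop.unop.hom.toLinearMap.rTensor (extMod A A' M))
            (cmpAtR M X.unop.unop (i.app (pt ((Alg.restr A A').obj X.unop.unop)) x))
        rw [app_mapEl, underline_mapEl, cmpAtR_apply, cmpAtR_apply]
        exact @cmpR_natural A A' _ _ _ M _ _ X.unop.unop _ _ (algA A A' X.unop.unop)
          (towerA A A' X.unop.unop) Y.unop.unop _ _ (algA A A' Y.unop.unop)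
          (towerA A A' Y.unop.unop) f.unop.unop.hom ((Alg.restr A A').map f.unop.unop).hom
          (fun _ => rfl) _ }
    (by
      intro X r m
      change cmpAtR M X.unop.unop (i.app (pt ((Alg.restr A A').obj X.unop.unop))
          ((r : ((Alg.restr A A').obj X.unop.unop)) •
            (id m : F.obj (pt ((Alg.restr A A').obj X.unop.unop))))) =
        r • cmpAtR M X.unop.unop (i.app (pt ((Alg.restr A A').obj X.unop.unop)) m)
      rw [app_smul, cmpAtR_apply, cmpAtR_apply]
      exact @cmpR_smul A A' _ _ _ M _ _ X.unop.unop _ _ (algA A A' X.unop.unop)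
          (towerA A A' X.unop.unop) r _)

theorem restrHom_app (F : MVF A) (M : ModuleCat.{u + 1} A) (i : F ⟶ (underline A).obj M)
    (B' : Alg A') (x : F.obj (pt ((Alg.restr A A').obj B'))) :
    (restrHom F M i).app (pt B') x = cmpAtR M B' (i.app (pt ((Alg.restr A A').obj B')) x) :=
  rfl

theorem cmpAtR_map {M N : ModuleCat.{u + 1} A} (φ : M ⟶ N) (B' : Alg A')
    (y : ((underline A).obj M).obj (pt ((Alg.restr A A').obj B'))) :
    cmpAtR N B' (((underline A).map φ).app (pt ((Alg.restr A A').obj B')) y) =
      ((underline A').map (extMap A A' φ)).app (pt B') (cmpAtR M B' y) := by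
  rw [underline_map_app_apply, underline_map_app_apply, cmpAtR_apply, cmpAtR_apply]
  exact @cmpR_map A A' _ _ _ M _ _ B' _ _ (algA A A' B') (towerA A A' B') N _ _ φ.hom y

theorem adequate_restr (F : MVF A) (hF : adequate A F) :
    adequate A' ((restr A A').obj F) := by
  obtain ⟨M, N, φ, i, hinj, hex⟩ := (adequate_iff F).mp hF
  rw [adequate_iff]
  refine ⟨extMod A A' M, extMod A A' N, extMap A A' φ, restrHom F M i, ?_, ?_⟩
  · intro B' x y hxy
    rw [restrHom_app, restrHom_app] at hxy
    exact hinj _ ((cmpAtR M B').injective hxy)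
  · intro B' y
    obtain ⟨y', rfl⟩ := (cmpAtR M B').surjective y
    rw [← cmpAtR_map, map_eq_zero_iff _ (cmpAtR N B').injective, hex _ y']
    constructor
    · rintro ⟨x, hx⟩
      exact ⟨x, by rw [restrHom_app, hx]⟩
    · rintro ⟨x, hx⟩
      rw [restrHom_app] at hx
      exact ⟨x, (cmpAtR M B').injective hx⟩

end Cat

end Groth.Agent.R2.H80.AdeqRestr
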