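import Groth.Prelude.Def_Adeq2
import Groth.Agent.R2.H80AdeqRestr

/-!
# Adequate modules on big sites: change of the affine object (helper80)
-/

set_option autoImplicit false
universe u
open CategoryTheory Limits TensorProduct AlgebraicGeometry Opposite
open Adeq Groth.Agent.Helper13Adeq

namespace Groth.Agent.R2.H80.AdeqBig

variable (K : Precoverage Scheme.{u}) [BigSite.OSh K] {S : Scheme.{u}}

section Basic

variable {R : CommRingCat.{u}} (a : Spec R ⟶ S)
  (P : PresheafOfModules.{u + 1} (BigSite.ORing K S).obj)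

theorem toMVFPre_map_apply {B B' : Alg R} (f : B ⟶ B')
    (x : ((toMVFPre K a).obj P).obj (pt B)) :
    ((toMVFPre K a).obj P).map (ptHom f) x = P.map ((specOver a).map f.op).op x := rfl

/-- the scalar action on the values of `F_{P,R}` -/
theorem toMVFPre_smul (B : Alg R) (r : B) (x : ((toMVFPre K a).obj P).obj (pt B)) :
    r • x = (toSect K a B r) • (show P.obj (op ((specOver a).obj (op B))) from x) := rfl

theorem pmap_comp_apply {X Y Z : Over S} (f : X ⟶ Y) (g : Y ⟶ Z) (z : P.obj (op Z)) :
    P.map f.op (P.map g.op z) = P.map (f ≫ g).op z := by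
  change P.presheaf.map f.op (P.presheaf.map g.op z) = P.presheaf.map (f ≫ g).op z
  rw [op_comp, Functor.map_comp]
  rfl

theorem pmap_id_apply {X : Over S} (z : P.obj (op X)) : P.map (𝟙 X).op z = z := by
  change P.presheaf.map (𝟙 X).op z = z
  rw [op_id, CategoryTheory.Functor.map_id]
  rfl

theorem pmap_congr {X Y : Over S} {f g : X ⟶ Y} (h : f = g) (z : P.obj (op Y)) :
    P.map f.op z = P.map g.op z := by
  rw [h]

end Basic

section OverMk

/-- identity morphism between two objects of `Over S` with equal structure maps -/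
def overMkHom {X : Scheme.{u}} {f g : X ⟶ S} (h : f = g) : Over.mk f ⟶ Over.mk g :=
  Over.homMk (𝟙 X) (by rw [h]; exact Category.id_comp _)

@[simp] theorem overMkHom_left {X : Scheme.{u}} {f g : X ⟶ S} (h : f = g) :
    (overMkHom h).left = 𝟙 X := rfl

theorem overMkHom_comp {X : Scheme.{u}} {f g k : X ⟶ S} (h : f = g) (h' : g = k) :
    overMkHom h ≫ overMkHom h' = overMkHom (h.trans h') := by
  ext
  exact Category.id_comp _

theorem overMkHom_refl {X : Scheme.{u}} (f : X ⟶ S) : overMkHom (rfl : f = f) = 𝟙 _ := by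
  ext
  rfl

end OverMk

section Cmp

variable (R : CommRingCat.{u}) (R' : Type u) [CommRing R'] [Algebra R R'] (a : Spec R ⟶ S)

/-- the induced affine object `Spec R' ⟶ Spec R ⟶ S` -/
noncomputable abbrev bOf : Spec (CommRingCat.of R') ⟶ S :=
  Spec.map (CommRingCat.ofHom (algebraMap R R')) ≫ a

theorem cmp_w (B : Alg R') :
    Spec.map (CommRingCat.ofHom ((algebraMap R' B).comp (algebraMap R R'))) ≫ a =
    Spec.map (CommRingCat.ofHom (algebraMap R' B)) ≫ bOf R R' a := by
  rw [CommRingCat.ofHom_comp, Spec.map_comp, Category.assoc]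

/-- comparison of the two objects of the big site attached to an `R'`-algebra -/
noncomputable def cmpObj (B : Alg R') :
    (specOver a).obj (op ((Alg.restr R R').obj B)) ⟶ (specOver (bOf R R' a)).obj (op B) :=
  overMkHom (cmp_w R R' a B)

/-- inverse comparison -/
noncomputable def cmpObjInv (B : Alg R') :
    (specOver (bOf R R' a)).obj (op B) ⟶ (specOver a).obj (op ((Alg.restr R R').obj B)) :=
  overMkHom (cmp_w R R' a B).symm

theorem cmpObj_inv (B : Alg R') : cmpObj R R' a B ≫ cmpObjInv R R' a B = 𝟙 _ :=
  (overMkHom_comp (cmp_w R R' a B) (cmp_w R R' a B).symm).trans (overMkHom_refl _)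

theorem cmpObjInv_cmpObj (B : Alg R') : cmpObjInv R R' a B ≫ cmpObj R R' a B = 𝟙 _ :=
  (overMkHom_comp (cmp_w R R' a B).symm (cmp_w R R' a B)).trans (overMkHom_refl _)

theorem cmpObj_natural {B B' : Alg R'} (f : B ⟶ B') :
    cmpObj R R' a B' ≫ (specOver (bOf R R' a)).map f.op =
      (specOver a).map ((Alg.restr R R').map f).op ≫ cmpObj R R' a B := by
  apply Over.OverMorphism.ext
  have h1 : (cmpObj R R' a B' ≫ (specOver (bOf R R' a)).map f.op).left =
      𝟙 _ ≫ Spec.map (CommRingCat.ofHom f.hom.toRingHom) := rfl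
  have h2 : ((specOver a).map ((Alg.restr R R').map f).op ≫ cmpObj R R' a B).left =
      Spec.map (CommRingCat.ofHom f.hom.toRingHom) ≫ 𝟙 _ := rfl
  rw [h1, h2, Category.id_comp, Category.comp_id]

variable (P : PresheafOfModules.{u + 1} (BigSite.ORing K S).obj)

/-- the comparison morphism `F_{P,R'} ⟶ restr F_{P,R}` -/
noncomputable def cmp :
    (toMVFPre K (bOf R R' a)).obj P ⟶ (restr R R').obj ((toMVFPre K a).obj P) :=
  PresheafOfModules.homMk
    { app := fun X => P.presheaf.map (cmpObj R R' a X.unop.unop).op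
      naturality := by
        intro X Y f
        change P.presheaf.map ((specOver (bOf R R' a)).map f.unop).op ≫
            P.presheaf.map (cmpObj R R' a Y.unop.unop).op =
          P.presheaf.map (cmpObj R R' a X.unop.unop).op ≫
            P.presheaf.map ((specOver a).map ((Alg.restr R R').map f.unop.unop).op).op
        rw [← Functor.map_comp, ← Functor.map_comp, ← op_comp, ← op_comp]
        exact congrArg (fun t => P.presheaf.map t.op) (cmpObj_natural R R' a f.unop.unop) }
    (by
      intro X r m
      have h := P.map_smul (cmpObj R R' a X.unop.unop).op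
        (toSect K (bOf R R' a) X.unop.unop r) m
      refine h.trans ?_
      congr 1)

theorem cmp_app (B : Alg R') (x : ((toMVFPre K (bOf R R' a)).obj P).obj (pt B)) :
    (cmp K R R' a P).app (pt B) x = P.map (cmpObj R R' a B).op x := rfl

theorem cmp_bijective (B : Alg R') : Function.Bijective ((cmp K R R' a P).app (pt B)) := by
  constructor
  · intro x y hxy
    rw [cmp_app, cmp_app] at hxy
    have h := congrArg (P.map (cmpObjInv R R' a B).op) hxy
    have key : ∀ z : P.obj (op ((specOver (bOf R R' a)).obj (op B))),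
        P.map (cmpObjInv R R' a B).op (P.map (cmpObj R R' a B).op z) = z := by
      intro z
      rw [pmap_comp_apply, pmap_congr K P (cmpObjInv_cmpObj R R' a B), pmap_id_apply]
    rw [key, key] at h
    exact h
  · intro y
    refine ⟨P.map (cmpObjInv R R' a B).op y, ?_⟩
    rw [cmp_app, pmap_comp_apply, pmap_congr K P (cmpObj_inv R R' a B), pmap_id_apply]

/-- `F_{P,R'}` is the restriction of `F_{P,R}` -/
noncomputable def cmpIso :
    (toMVFPre K (bOf R R' a)).obj P ≅ (restr R R').obj ((toMVFPre K a).obj P) :=
  haveI : IsIso (cmp K R R' a P) :=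
    PshMod.isIso_of_bijective _ (fun X => cmp_bijective K R R' a P X.unop.unop)
  asIso (cmp K R R' a P)

theorem adequate_bOf (h : adequate R ((toMVFPre K a).obj P)) :
    adequate R' ((toMVFPre K (bOf R R' a)).obj P) :=
  (adequate R').prop_of_iso (cmpIso K R R' a P).symm (AdeqRestr.adequate_restr _ h)

theorem adequate_restr_of_bOf (h : adequate R' ((toMVFPre K (bOf R R' a)).obj P)) :
    adequate R' ((restr R R').obj ((toMVFPre K a).obj P)) :=
  (adequate R').prop_of_iso (cmpIso K R R' a P) h

end Cmp

end Groth.Agent.R2.H80.AdeqBig
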