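import Groth.Agent.R2.H80AdeqBigSheaf

/-!
# Adequate modules on big sites: every affine object is adequate (helper80)
-/

set_option autoImplicit false
universe u
open CategoryTheory Limits TensorProduct AlgebraicGeometry Opposite
open Adeq Groth.Agent.Helper13Adeq

namespace Groth.Agent.R2.H80.AdeqBigMain

variable {P : MorphismProperty Scheme.{u}} [P.IsStableUnderBaseChange]
  [Scheme.IsJointlySurjectivePreserving P] [P.RespectsLeft @IsOpenImmersion]

/-- refinement of a covering of `S` by affines, pulled back to an affine `Spec R ⟶ S`, by a finite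
affine covering -/
theorem exists_refinement (hP : ∀ {X Y : Scheme.{u}} (f : X ⟶ Y), P f → IsOpenMap f.base)
    {S : Scheme.{u}} {ι : Type u} (R₀ : ι → CommRingCat.{u}) (a₀ : ∀ i, Spec (R₀ i) ⟶ S)
    (hcov : Presieve.ofArrows (fun i => Spec (R₀ i)) a₀ ∈ (Scheme.precoverage P).coverings S)
    (R : CommRingCat.{u}) (a : Spec R ⟶ S) :
    ∃ (n : ℕ) (A' : Fin n → CommRingCat.{u}) (ψ : ∀ j, R ⟶ A' j) (i : Fin n → ι)
      (ρ : ∀ j, R₀ (i j) ⟶ A' j),
      (∀ j, Spec.map (ψ j) ≫ a = Spec.map (ρ j) ≫ a₀ (i j)) ∧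
      Presieve.ofArrows (fun j => Spec (A' j)) (fun j => Spec.map (ψ j)) ∈
        (Scheme.precoverage P).coverings (Spec R) := by
  let 𝒰 : S.Cover (Scheme.precoverage P) :=
    { I₀ := ι
      X := fun i => Spec (R₀ i)
      f := a₀
      mem₀ := hcov }
  let 𝒰' : (Spec R).Cover (Scheme.precoverage P) := 𝒰.pullback₁ a
  have hqc : QuasiCompactCover 𝒰'.toPreZeroHypercover :=
    QuasiCompactCover.of_isOpenMap (fun i => hP _ (𝒰'.map_prop i))
  have hex : ∃ (𝒱 : Scheme.AffineCover.{u} P (Spec R)) (f : 𝒱.cover ⟶ 𝒰'),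
      Finite 𝒱.I₀ ∧ ∀ j, IsOpenImmersion (f.h₀ j) := QuasiCompactCover.exists_hom 𝒰'
  obtain ⟨𝒱, f, hfin, -⟩ := hex
  obtain ⟨n, ⟨e⟩⟩ := Finite.exists_equiv_fin 𝒱.I₀
  refine ⟨n, fun j => 𝒱.X (e.symm j), fun j => Spec.preimage (𝒱.f (e.symm j)),
    fun j => f.s₀ (e.symm j),
    fun j => Spec.preimage (f.h₀ (e.symm j) ≫ pullback.snd a (a₀ (f.s₀ (e.symm j)))), ?_, ?_⟩
  · intro j
    have h1 : f.h₀ (e.symm j) ≫ pullback.fst a (a₀ (f.s₀ (e.symm j))) = 𝒱.f (e.symm j) :=
      f.w₀ (e.symm j)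
    dsimp only
    rw [Spec.map_preimage, Spec.map_preimage]
    exact (congrArg (fun t => t ≫ a) h1.symm).trans ((Category.assoc _ _ _).trans
      ((congrArg (fun t => f.h₀ (e.symm j) ≫ t) pullback.condition).trans
        (Category.assoc _ _ _).symm))
  · rw [Scheme.ofArrows_mem_precoverage_iff]
    constructor
    · intro x
      have h := 𝒱.covers x
      obtain ⟨j, hj⟩ := e.symm.surjective (𝒱.idx x)
      rw [← hj] at h
      refine ⟨j, ?_⟩
      rw [Spec.map_preimage]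
      exact h
    · intro j
      rw [Spec.map_preimage]
      exact 𝒱.map_prop _

/-- if `M` is adequate, `F_{M,R}` is adequate for every affine object `Spec R ⟶ S` -/
theorem adequate_toMVF (hP : ∀ {X Y : Scheme.{u}} (f : X ⟶ Y), P f → IsOpenMap f.base)
    [BigSite.OSh (Scheme.precoverage P)] {S : Scheme.{u}}
    (M : BigSite.Mod (Scheme.precoverage P) S)
    (hM : adequateMod (Scheme.precoverage P) S M) (R : CommRingCat.{u}) (a : Spec R ⟶ S) :
    adequate R ((toMVF (Scheme.precoverage P) a).obj M) := by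
  obtain ⟨ι, R₀, a₀, hcov, hadq⟩ := hM
  obtain ⟨n, A', ψ, i, ρ, hcomm, hcov'⟩ := exists_refinement hP R₀ a₀ hcov R a
  let algR : ∀ j, Algebra R (A' j) := fun j => (ψ j).hom.toAlgebra
  refine AdeqDescFam.adequate_of_restr_family (A := R) (fun j => A' j) _ (fun j => ?_)
    (fun B => ?_)
  · apply AdeqBig.adequate_restr_of_bOf (Scheme.precoverage P) R (A' j) a M.val
    let algR₀ : Algebra (R₀ (i j)) (A' j) := (ρ j).hom.toAlgebra
    have hb : AdeqBig.bOf R (A' j) a = AdeqBig.bOf (R₀ (i j)) (A' j) (a₀ (i j)) := hcomm j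
    rw [hb]
    exact AdeqBig.adequate_bOf _ (R₀ (i j)) (A' j) (a₀ (i j)) M.val (hadq (i j))
  · exact AdeqBigSheaf.descent_hyp a (fun j => A' j) _ M hcov' B

end Groth.Agent.R2.H80.AdeqBigMain
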