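import Groth.Agent.R2.H80AdeqBigRefine

/-!
# Adequate modules on big sites: a locally bijective map out of a presheaf of modules with
adequate values is bijective on affine objects (helper80)
-/

set_option autoImplicit false
universe u
open CategoryTheory Limits TensorProduct AlgebraicGeometry Opposite
open Adeq Groth.Agent.Helper13Adeq

namespace Groth.Agent.R2.H80.AdeqBigShf

open AdeqDescFam (T)
open AdeqBigSheaf (Xo πo Xjk pj pk incL incR ringHomOf)

variable {P : MorphismProperty Scheme.{u}} [P.IsStableUnderBaseChange]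
  [P.IsStableUnderComposition] [P.ContainsIdentities]
  [Scheme.IsJointlySurjectivePreserving P] [P.RespectsLeft @IsOpenImmersion]
  [BigSite.OSh (Scheme.precoverage P)]
  {S : Scheme.{u}} {Pm Qm : PresheafOfModules.{u + 1} (BigSite.ORing (Scheme.precoverage P) S).obj}
  (η : Pm ⟶ Qm)

section Transport

omit [P.IsStableUnderBaseChange] [P.IsStableUnderComposition] [P.ContainsIdentities]
  [Scheme.IsJointlySurjectivePreserving P] [P.RespectsLeft @IsOpenImmersion]

theorem η_natural {U V : Over S} (f : U ⟶ V) (x : Pm.obj (op V)) :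
    η.app (op U) (Pm.map f.op x) = Qm.map f.op (η.app (op V) x) :=
  PresheafOfModules.naturality_apply η f.op x

theorem pmap_cancel (Rm : PresheafOfModules.{u + 1} (BigSite.ORing (Scheme.precoverage P) S).obj)
    {U V : Over S} (i : U ⟶ V) (i' : V ⟶ U) (h2 : i' ≫ i = 𝟙 V) (x : Rm.obj (op V)) :
    Rm.map i'.op (Rm.map i.op x) = x :=
  (AdeqBig.pmap_comp_apply _ Rm i' i x).trans
    ((AdeqBig.pmap_congr _ Rm h2 x).trans (AdeqBig.pmap_id_apply _ Rm x))

/-- injectivity is invariant under isomorphisms of objects -/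
theorem injective_of_iso {U V : Over S} (i : U ⟶ V) (i' : V ⟶ U)
    (h2 : i' ≫ i = 𝟙 V) (hU : Function.Injective (η.app (op U))) :
    Function.Injective (η.app (op V)) := by
  intro x x' hxx'
  have h3 : Pm.map i.op x = Pm.map i.op x' := by
    apply hU
    rw [η_natural, η_natural, hxx']
  have h4 := congrArg (Pm.map i'.op) h3
  exact (pmap_cancel Pm i i' h2 x).symm.trans (h4.trans (pmap_cancel Pm i i' h2 x'))

/-- surjectivity is invariant under isomorphisms of objects -/
theorem surjective_of_iso {U V : Over S} (i : U ⟶ V) (i' : V ⟶ U)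
    (h2 : i' ≫ i = 𝟙 V) (hU : Function.Surjective (η.app (op U))) :
    Function.Surjective (η.app (op V)) := by
  intro y
  obtain ⟨x, hx⟩ := hU (Qm.map i.op y)
  refine ⟨Pm.map i'.op x, ?_⟩
  rw [η_natural, hx]
  exact pmap_cancel Qm i i' h2 y

section Base

variable {R : CommRingCat.{u}} (a : Spec R ⟶ S) (B : Alg R)

theorem base_w :
    Spec.map (CommRingCat.ofHom (algebraMap B (algOf B B))) ≫ AdeqBig.bOf R B a =
      Spec.map (CommRingCat.ofHom (algebraMap R B)) ≫ a := by
  have h : CommRingCat.ofHom (algebraMap B (algOf B B)) = 𝟙 (CommRingCat.of B) := rfl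
  rw [h, Spec.map_id, Category.id_comp]

/-- the base form of an affine object -/
noncomputable def toBase :
    (specOver a).obj (op B) ⟶ (specOver (AdeqBig.bOf R B a)).obj (op (algOf B B)) :=
  AdeqBig.overMkHom (base_w a B).symm

/-- the base form of an affine object -/
noncomputable def ofBase :
    (specOver (AdeqBig.bOf R B a)).obj (op (algOf B B)) ⟶ (specOver a).obj (op B) :=
  AdeqBig.overMkHom (base_w a B)

theorem toBase_ofBase : toBase a B ≫ ofBase a B = 𝟙 _ :=
  (AdeqBig.overMkHom_comp (base_w a B).symm (base_w a B)).trans (AdeqBig.overMkHom_refl _)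

end Base

end Transport

section Inj

variable (hP : ∀ {X Y : Scheme.{u}} (f : X ⟶ Y), P f → IsOpenMap f.base) (hPflat : P ≤ @Flat)
  [Presheaf.IsLocallyInjective (QuotSh.J (Scheme.precoverage P) S)
    ((PresheafOfModules.toPresheaf _).map η)]
  (hadq : ∀ (R : CommRingCat.{u}) (a : Spec R ⟶ S),
    adequate R ((toMVFPre (Scheme.precoverage P) a).obj Pm))

include hP hPflat hadq in
theorem injective_base (R : CommRingCat.{u}) (a : Spec R ⟶ S) :
    Function.Injective (η.app (op ((specOver a).obj (op (algOf R R))))) := by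
  intro x x' hxx'
  have hmem := Presheaf.equalizerSieve_mem (QuotSh.J (Scheme.precoverage P) S)
    ((PresheafOfModules.toPresheaf _).map η) (X := op ((specOver a).obj (op (algOf R R))))
    x x' hxx'
  obtain ⟨n, A', _, _, hcov, hT⟩ := AdeqBigRefine.exists_family hP R a _ hmem
  have := AdeqBigRefine.ff_of_cov hPflat R A' hcov
  let F : MVF R := (toMVFPre (Scheme.precoverage P) a).obj Pm
  let xF : F.obj (pt (algOf R R)) := x
  let xF' : F.obj (pt (algOf R R)) := x'
  have hd : xF - xF' = 0 := by
    refine (AdeqFam.adequate_descent A' F (hadq R a) (algOf R R)).1 (xF - xF') (fun j => ?_)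
    rw [map_sub, sub_eq_zero]
    exact hT j
  exact sub_eq_zero.1 hd

include hP hPflat hadq in
theorem injective_affine (R : CommRingCat.{u}) (a : Spec R ⟶ S) (B : Alg R) :
    Function.Injective (η.app (op ((specOver a).obj (op B)))) :=
  injective_of_iso η (ofBase a B) (toBase a B) (toBase_ofBase a B)
    (injective_base η hP hPflat hadq (CommRingCat.of B) (AdeqBig.bOf R B a))

end Inj

section Surj

variable (hP : ∀ {X Y : Scheme.{u}} (f : X ⟶ Y), P f → IsOpenMap f.base) (hPflat : P ≤ @Flat)
  [Presheaf.IsLocallyInjective (QuotSh.J (Scheme.precoverage P) S)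
    ((PresheafOfModules.toPresheaf _).map η)]
  [Presheaf.IsLocallySurjective (QuotSh.J (Scheme.precoverage P) S)
    ((PresheafOfModules.toPresheaf _).map η)]
  (hQ : Presheaf.IsSeparated (QuotSh.J (Scheme.precoverage P) S) Qm.presheaf)
  (hadq : ∀ (R : CommRingCat.{u}) (a : Spec R ⟶ S),
    adequate R ((toMVFPre (Scheme.precoverage P) a).obj Pm))

omit [P.IsStableUnderBaseChange] [P.IsStableUnderComposition] [P.ContainsIdentities]
  [Scheme.IsJointlySurjectivePreserving P] [P.RespectsLeft @IsOpenImmersion]
  [BigSite.OSh (Scheme.precoverage P)] in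
theorem overlap_comm {R : CommRingCat.{u}} (a : Spec R ⟶ S) {n : ℕ} (A' : Fin n → Type u)
    [∀ j, CommRing (A' j)] [∀ j, Algebra R (A' j)] (B : Alg R) (j k : Fin n) :
    pj a A' B j k ≫ πo a A' B j = pk a A' B j k ≫ πo a A' B k := by
  change (specOver a).map _ ≫ (specOver a).map _ = (specOver a).map _ ≫ (specOver a).map _
  rw [← Functor.map_comp, ← Functor.map_comp, ← op_comp, ← op_comp]
  rfl

include hP hPflat hadq hQ in
theorem surjective_base (R : CommRingCat.{u}) (a : Spec R ⟶ S) :
    Function.Surjective (η.app (op ((specOver a).obj (op (algOf R R))))) := by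
  intro y
  have hmem := Presheaf.imageSieve_mem (QuotSh.J (Scheme.precoverage P) S)
    ((PresheafOfModules.toPresheaf _).map η) (U := op ((specOver a).obj (op (algOf R R)))) y
  obtain ⟨n, A', _, _, hcov, hT⟩ := AdeqBigRefine.exists_family hP R a _ hmem
  have := AdeqBigRefine.ff_of_cov hPflat R A' hcov
  let F : MVF R := (toMVFPre (Scheme.precoverage P) a).obj Pm
  choose t ht using hT
  have ht' : ∀ j, η.app (op (Xo a A' (algOf R R) j)) (t j) =
      Qm.map (πo a A' (algOf R R) j).op y := ht
  have hcompat : ∀ j k, F.map (ptHom (Alg.unit R (A' k) (T A' j (algOf R R)))) (t j) =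
      F.map (ptHom ((Alg.restr R (A' k)).map
        ((Alg.baseChange R (A' k)).map (Alg.unit R (A' j) (algOf R R))))) (t k) := by
    intro j k
    apply injective_affine η hP hPflat hadq R a (T A' k (T A' j (algOf R R)))
    change η.app (op (Xjk a A' (algOf R R) j k)) (Pm.map (pj a A' (algOf R R) j k).op (t j)) =
      η.app (op (Xjk a A' (algOf R R) j k)) (Pm.map (pk a A' (algOf R R) j k).op (t k))
    rw [η_natural, η_natural, ht' j, ht' k, AdeqBig.pmap_comp_apply, AdeqBig.pmap_comp_apply]
    exact AdeqBig.pmap_congr _ Qm (overlap_comm a A' (algOf R R) j k) y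
  obtain ⟨x, hx⟩ := (AdeqFam.adequate_descent A' F (hadq R a) (algOf R R)).2 t hcompat
  refine ⟨x, ?_⟩
  apply hQ _ (Sieve.ofArrows (Xo a A' (algOf R R)) (πo a A' (algOf R R)))
    (AdeqBigSheaf.mem_cov a A' (Scheme.precoverage P) hcov (algOf R R))
  rintro Y f ⟨Z, g, _, ⟨j⟩, rfl⟩
  change Qm.map (g ≫ πo a A' (algOf R R) j).op (η.app _ x) =
    Qm.map (g ≫ πo a A' (algOf R R) j).op y
  rw [← AdeqBig.pmap_comp_apply, ← AdeqBig.pmap_comp_apply, ← η_natural]
  have hxj : Pm.map (πo a A' (algOf R R) j).op x = t j := hx j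
  rw [hxj, ht' j]

include hP hPflat hadq hQ in
theorem surjective_affine (R : CommRingCat.{u}) (a : Spec R ⟶ S) (B : Alg R) :
    Function.Surjective (η.app (op ((specOver a).obj (op B)))) :=
  surjective_of_iso η (ofBase a B) (toBase a B) (toBase_ofBase a B)
    (surjective_base η hP hPflat hQ hadq (CommRingCat.of B) (AdeqBig.bOf R B a))

include η hP hPflat hadq hQ in
/-- the target of a locally bijective map, out of a presheaf of modules with adequate values,
into a separated presheaf has adequate values -/
theorem adequate_target (R : CommRingCat.{u}) (a : Spec R ⟶ S) :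
    adequate R ((toMVFPre (Scheme.precoverage P) a).obj Qm) := by
  have hiso : IsIso ((toMVFPre (Scheme.precoverage P) a).map η) :=
    PshMod.isIso_of_bijective _ (fun X =>
      ⟨injective_affine η hP hPflat hadq R a X.unop.unop,
        surjective_affine η hP hPflat hQ hadq R a X.unop.unop⟩)
  exact (adequate R).prop_of_iso (asIso ((toMVFPre (Scheme.precoverage P) a).map η)) (hadq R a)

end Surj

end Groth.Agent.R2.H80.AdeqBigShf
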