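import Groth.Agent.R2.H80AdeqBigShf
import Groth.Agent.S8760
import Groth.Agent.S8755

/-!
# Adequate modules on big sites: colimits (helper80)
-/

set_option autoImplicit false
universe u w w'
open CategoryTheory Limits TensorProduct AlgebraicGeometry Opposite
open Adeq Groth.Agent.Helper13Adeq

namespace Groth.Agent.R2.H80.AdeqBigColim

variable (K : Precoverage Scheme.{u}) [BigSite.OSh K] {S : Scheme.{u}}
  {R : CommRingCat.{u}} (a : Spec R ⟶ S)

/-- `F_{P,R}` on underlying presheaves of abelian groups is restriction along `specOver` -/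
noncomputable def toMVFPreCompToPresheaf :
    toMVFPre K a ⋙ PresheafOfModules.toPresheaf (ringOf R) ≅
      PresheafOfModules.toPresheaf (BigSite.ORing K S).obj ⋙
        (Functor.whiskeringLeft _ _ _).obj (specOver a).op :=
  NatIso.ofComponents (fun P => NatIso.ofComponents (fun X => Iso.refl _)
    (by intro X Y f; ext x; rfl)) (by intro P Q f; ext X x; rfl)

variable (J : Type w) [Category.{w'} J] [HasColimitsOfShape J AddCommGrpCat.{u + 1}]

noncomputable instance preservesColimitsOfShape_toMVFPre :
    PreservesColimitsOfShape J (toMVFPre K a) := by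
  have h1 : PreservesColimitsOfShape J
      (toMVFPre K a ⋙ PresheafOfModules.toPresheaf (ringOf R)) :=
    preservesColimitsOfShape_of_natIso (toMVFPreCompToPresheaf K a).symm
  have h2 : ReflectsColimitsOfShape J (PresheafOfModules.toPresheaf.{u + 1} (ringOf R)) :=
    reflectsColimitsOfShape_of_reflectsIsomorphisms
  exact preservesColimitsOfShape_of_reflects_of_preserves (toMVFPre K a)
    (PresheafOfModules.toPresheaf (ringOf R))

section Sheaf

variable (S : Scheme.{u})

/-- the sheafification functor on the big fppf site -/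
noncomputable abbrev Lsh :
    PresheafOfModules.{u + 1} (BigSite.ORing Scheme.fppfPrecoverage S).obj ⥤
      BigSite.Mod Scheme.fppfPrecoverage S :=
  PresheafOfModules.sheafification (𝟙 (BigSite.ORing Scheme.fppfPrecoverage S).obj)

/-- its right adjoint -/
noncomputable abbrev Gsh :
    BigSite.Mod Scheme.fppfPrecoverage S ⥤
      PresheafOfModules.{u + 1} (BigSite.ORing Scheme.fppfPrecoverage S).obj :=
  SheafOfModules.forget _ ⋙
    PresheafOfModules.restrictScalars (𝟙 (BigSite.ORing Scheme.fppfPrecoverage S).obj)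

/-- the sheafification adjunction -/
noncomputable abbrev adjsh : Lsh S ⊣ Gsh S :=
  PresheafOfModules.sheafificationAdjunction (𝟙 (BigSite.ORing Scheme.fppfPrecoverage S).obj)

variable {S} {J : Type w} [Category.{w'} J]

/-- a colimit of sheaves of modules is the sheafification of the colimit of presheaves -/
noncomputable def colimitIso (D : J ⥤ BigSite.Mod Scheme.fppfPrecoverage S) [HasColimit D]
    [HasColimit (D ⋙ Gsh S)] :
    (Lsh S).obj (colimit (D ⋙ Gsh S)) ≅ colimit D :=
  haveI : PreservesColimit (D ⋙ Gsh S) (Lsh S) := (adjsh S).leftAdjoint_preservesColimits.1.1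
  haveI : HasColimit ((D ⋙ Gsh S) ⋙ Lsh S) :=
    ⟨_, isColimitOfPreserves (Lsh S) (colimit.isColimit (D ⋙ Gsh S))⟩
  preservesColimitIso (Lsh S) (D ⋙ Gsh S) ≪≫
    HasColimit.isoOfNatIso (Functor.associator _ _ _ ≪≫
      Functor.isoWhiskerLeft D (asIso (adjsh S).counit) ≪≫ D.rightUnitor)

theorem adequateMod_colimit (D : J ⥤ BigSite.Mod Scheme.fppfPrecoverage S) [HasColimit D]
    [HasColimit (D ⋙ Gsh S)]
    [∀ (R : CommRingCat.{u}) (a : Spec R ⟶ S),
      PreservesColimit (D ⋙ Gsh S) (toMVFPre Scheme.fppfPrecoverage a)]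
    [∀ (R : CommRingCat.{u}) (a : Spec R ⟶ S),
      HasColimit ((D ⋙ Gsh S) ⋙ toMVFPre Scheme.fppfPrecoverage a)]
    (hc : ∀ (R : CommRingCat.{u}) (a : Spec R ⟶ S),
      adequate R (colimit ((D ⋙ Gsh S) ⋙ toMVFPre Scheme.fppfPrecoverage a))) :
    adequateMod Scheme.fppfPrecoverage S (colimit D) :=
  (adequateMod Scheme.fppfPrecoverage S).prop_of_iso (colimitIso D)
    (Groth.Agent.S8760.result S (colimit (D ⋙ Gsh S)) (fun R a =>
      (adequate R).prop_of_iso
        (preservesColimitIso (toMVFPre Scheme.fppfPrecoverage a) (D ⋙ Gsh S)).symm (hc R a)))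

end Sheaf

end Groth.Agent.R2.H80.AdeqBigColim
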