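import Mathlib
import Groth.Agent.Lib.Helper22Amitsur

/-!
# Amitsur exactness in degree one (helper80)
-/

set_option autoImplicit false
universe u
open TensorProduct

namespace Groth.Agent.R2.H80.Amitsur1

open Groth.Agent.Lib.Helper22

variable (R A : Type*) [CommRing R] [CommRing A] [Algebra R A]
  (M : Type*) [AddCommGroup M] [Module R M]

/-- the second Amitsur differential `A ⊗ (A ⊗ M) → A ⊗ (A ⊗ (A ⊗ M))` -/
noncomputable def amitsurD1 : A ⊗[R] (A ⊗[R] M) →ₗ[R] A ⊗[R] (A ⊗[R] (A ⊗[R] M)) :=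
  TensorProduct.mk R A (A ⊗[R] (A ⊗[R] M)) 1 -
    (TensorProduct.mk R A (A ⊗[R] M) 1).lTensor A +
      ((TensorProduct.mk R A M 1).lTensor A).lTensor A

theorem amitsurD1_tmul (a b : A) (m : M) :
    amitsurD1 R A M (a ⊗ₜ[R] (b ⊗ₜ[R] m)) =
      (1 : A) ⊗ₜ[R] (a ⊗ₜ[R] (b ⊗ₜ[R] m)) - a ⊗ₜ[R] ((1 : A) ⊗ₜ[R] (b ⊗ₜ[R] m)) +
        a ⊗ₜ[R] (b ⊗ₜ[R] ((1 : A) ⊗ₜ[R] m)) := by
  simp [amitsurD1]

theorem amitsurD_tmul (a : A) (m : M) :
    amitsurD R A M (a ⊗ₜ[R] m) =
      (1 : A) ⊗ₜ[R] (a ⊗ₜ[R] m) - a ⊗ₜ[R] ((1 : A) ⊗ₜ[R] m) := by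
  simp [amitsurD]

theorem d1_comp_d0 : (amitsurD1 R A M) ∘ₗ (amitsurD R A M) = 0 := by
  apply TensorProduct.ext'
  intro a m
  rw [LinearMap.comp_apply, amitsurD_tmul, map_sub, amitsurD1_tmul, amitsurD1_tmul,
    LinearMap.zero_apply]
  abel

theorem homotopy1 :
    (mulContract R A (A ⊗[R] (A ⊗[R] M))) ∘ₗ ((amitsurD1 R A M).lTensor A) +
      ((amitsurD R A M).lTensor A) ∘ₗ (mulContract R A (A ⊗[R] M)) = LinearMap.id := by
  apply TensorProduct.ext'
  intro a y
  induction y using TensorProduct.induction_on with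
  | zero => simp
  | tmul b z =>
    induction z using TensorProduct.induction_on with
    | zero => simp
    | tmul c m =>
      simp only [LinearMap.add_apply, LinearMap.comp_apply, LinearMap.lTensor_tmul,
        amitsurD1_tmul, mulContract_tmul, amitsurD_tmul, LinearMap.id_apply,
        TensorProduct.tmul_sub, TensorProduct.tmul_add, map_sub, map_add, mul_one]
      abel
    | add z1 z2 h1 h2 =>
      rw [TensorProduct.tmul_add, TensorProduct.tmul_add, map_add, h1, h2, map_add]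
  | add y1 y2 h1 h2 =>
    rw [TensorProduct.tmul_add, map_add, h1, h2, map_add]

theorem amitsur_exact1 [Module.FaithfullyFlat R A] :
    Function.Exact (amitsurD R A M) (amitsurD1 R A M) := by
  rw [← Module.FaithfullyFlat.lTensor_exact_iff_exact R A]
  intro w
  constructor
  · intro hw
    have h := LinearMap.congr_fun (homotopy1 R A M) w
    rw [LinearMap.add_apply, LinearMap.comp_apply, hw, map_zero, zero_add,
      LinearMap.comp_apply, LinearMap.id_apply] at h
    exact ⟨mulContract R A (A ⊗[R] M) w, h⟩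
  · rintro ⟨v, rfl⟩
    rw [← LinearMap.comp_apply, ← LinearMap.lTensor_comp, d1_comp_d0, LinearMap.lTensor_zero,
      LinearMap.zero_apply]

end Groth.Agent.R2.H80.Amitsur1
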