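import Groth.Agent.R2.H80AmitsurFam
import Groth.Agent.R2.H80Amitsur1

/-!
# Amitsur exactness in degree one for a finite jointly faithfully flat family (helper80)
-/

set_option autoImplicit false
universe u
open TensorProduct

namespace Groth.Agent.R2.H80.AmitsurFam

open Groth.Agent.Lib.Helper22 Groth.Agent.R2.H80.Amitsur1

variable (R : Type*) [CommRing R] {n : ℕ} (A' : Fin n → Type*) [∀ j, CommRing (A' j)]
  [∀ j, Algebra R (A' j)] (N : Type*) [AddCommGroup N] [Module R N]

/-- double components -/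
noncomputable abbrev P2 (k j : Fin n) :
    (∀ j, A' j) ⊗[R] ((∀ j, A' j) ⊗[R] N) →ₗ[R] A' k ⊗[R] (A' j ⊗[R] N) :=
  TensorProduct.map (p (R := R) A' k) ((p (R := R) A' j).rTensor N)

/-- double inclusions -/
noncomputable abbrev E2 (k j : Fin n) :
    A' k ⊗[R] (A' j ⊗[R] N) →ₗ[R] (∀ j, A' j) ⊗[R] ((∀ j, A' j) ⊗[R] N) :=
  TensorProduct.map (e (R := R) A' k) ((e (R := R) A' j).rTensor N)

/-- triple components -/
noncomputable abbrev P3 (l k j : Fin n) :
    (∀ j, A' j) ⊗[R] ((∀ j, A' j) ⊗[R] ((∀ j, A' j) ⊗[R] N)) →ₗ[R]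
      A' l ⊗[R] (A' k ⊗[R] (A' j ⊗[R] N)) :=
  TensorProduct.map (p (R := R) A' l) (P2 R A' N k j)

theorem P2_E2 (k j k' j' : Fin n) :
    (P2 R A' N k j) ∘ₗ (E2 R A' N k' j') =
      TensorProduct.map ((p (R := R) A' k) ∘ₗ (e (R := R) A' k'))
        (((p (R := R) A' j) ∘ₗ (e (R := R) A' j')).rTensor N) := by
  rw [LinearMap.rTensor_comp, TensorProduct.map_comp]

theorem P2_E2_same (k j : Fin n) : (P2 R A' N k j) ∘ₗ (E2 R A' N k j) = LinearMap.id := by
  rw [P2_E2, p_e_same (R := R), p_e_same (R := R), LinearMap.rTensor_id, TensorProduct.map_id]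

theorem P2_E2_ne_left (k j k' j' : Fin n) (h : k' ≠ k) :
    (P2 R A' N k j) ∘ₗ (E2 R A' N k' j') = 0 := by
  rw [P2_E2, p_e_ne (R := R) A' k' k h, TensorProduct.map_zero_left]

theorem P2_E2_ne_right (k j k' j' : Fin n) (h : j' ≠ j) :
    (P2 R A' N k j) ∘ₗ (E2 R A' N k' j') = 0 := by
  rw [P2_E2, p_e_ne (R := R) A' j' j h, LinearMap.rTensor_zero, TensorProduct.map_zero_right]

theorem P2_sum (x : ∀ j k, A' k ⊗[R] (A' j ⊗[R] N)) (k j : Fin n) :
    P2 R A' N k j (∑ k', ∑ j', E2 R A' N k' j' (x j' k')) = x j k := by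
  rw [map_sum, Finset.sum_eq_single k]
  · rw [map_sum, Finset.sum_eq_single j]
    · rw [← LinearMap.comp_apply, P2_E2_same, LinearMap.id_apply]
    · intro j' _ hj'
      rw [← LinearMap.comp_apply, P2_E2_ne_right R A' N k j k j' hj', LinearMap.zero_apply]
    · intro h
      exact absurd (Finset.mem_univ j) h
  · intro k' _ hk'
    rw [map_sum]
    apply Finset.sum_eq_zero
    intro j' _
    rw [← LinearMap.comp_apply, P2_E2_ne_left R A' N k j k' j' hk', LinearMap.zero_apply]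
  · intro h
    exact absurd (Finset.mem_univ k) h

/-- triple components are jointly injective -/
theorem fam_sep3 (v : (∀ j, A' j) ⊗[R] ((∀ j, A' j) ⊗[R] ((∀ j, A' j) ⊗[R] N)))
    (h : ∀ l k j, P3 R A' N l k j v = 0) : v = 0 := by
  apply fam_sep (R := R) A' ((∀ j, A' j) ⊗[R] ((∀ j, A' j) ⊗[R] N))
  intro l
  have key : ∀ (w : A' l ⊗[R] ((∀ j, A' j) ⊗[R] ((∀ j, A' j) ⊗[R] N))),
      (∀ k j, (P2 R A' N k j).lTensor (A' l) w = 0) → w = 0 := by
    intro w hw
    refine eq_zero_of_sum_comp (ι := Fin n × Fin n)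
      (fun kj => (P2 R A' N kj.1 kj.2).lTensor (A' l))
      (fun kj => (E2 R A' N kj.1 kj.2).lTensor (A' l)) ?_ w (fun kj => hw kj.1 kj.2)
    have h1 : ∀ kj : Fin n × Fin n, ((E2 R A' N kj.1 kj.2).lTensor (A' l)) ∘ₗ
        ((P2 R A' N kj.1 kj.2).lTensor (A' l)) =
        ((E2 R A' N kj.1 kj.2) ∘ₗ (P2 R A' N kj.1 kj.2)).lTensor (A' l) := fun kj =>
      (LinearMap.lTensor_comp _ _ _).symm
    rw [Finset.sum_congr rfl (fun kj _ => h1 kj), ← lTensor_sum]
    have h2 : ∑ kj : Fin n × Fin n, (E2 R A' N kj.1 kj.2) ∘ₗ (P2 R A' N kj.1 kj.2) =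
        LinearMap.id := by
      apply LinearMap.ext
      intro z
      by_contra hne
      apply hne
      rw [LinearMap.id_apply, ← sub_eq_zero]
      apply fam_sep2 (R := R) A' N
      intro k j
      rw [map_sub, LinearMap.sum_apply, map_sum, sub_eq_zero, Finset.sum_eq_single (k, j)]
      · rw [LinearMap.comp_apply, ← LinearMap.comp_apply (P2 R A' N k j), P2_E2_same,
          LinearMap.id_apply]
      · intro kj _ hkj
        rw [LinearMap.comp_apply, ← LinearMap.comp_apply (P2 R A' N k j)]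
        by_cases hk : kj.1 = k
        · have hj : kj.2 ≠ j := fun hj => hkj (Prod.ext hk hj)
          rw [P2_E2_ne_right R A' N k j kj.1 kj.2 hj, LinearMap.zero_apply]
        · rw [P2_E2_ne_left R A' N k j kj.1 kj.2 hk, LinearMap.zero_apply]
      · intro h
        exact absurd (Finset.mem_univ (k, j)) h
    rw [h2, LinearMap.lTensor_id]
  apply key
  intro k j
  have h3 : (TensorProduct.map (p (R := R) A' l) (P2 R A' N k j)) v = 0 := h l k j
  rw [← LinearMap.lTensor_comp_rTensor, LinearMap.comp_apply] at h3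
  exact h3

theorem comp3_a (l k j : Fin n) (X : (∀ j, A' j) ⊗[R] ((∀ j, A' j) ⊗[R] N)) :
    P3 R A' N l k j (TensorProduct.mk R (∀ j, A' j) _ 1 X) =
      TensorProduct.mk R (A' l) (A' k ⊗[R] (A' j ⊗[R] N)) 1 (P2 R A' N k j X) := by
  simp only [TensorProduct.mk_apply, TensorProduct.map_tmul, LinearMap.proj_apply, Pi.one_apply]

theorem comp3_b (l k j : Fin n) :
    (P3 R A' N l k j) ∘ₗ ((TensorProduct.mk R (∀ j, A' j) ((∀ j, A' j) ⊗[R] N) 1).lTensor
        (∀ j, A' j)) =
      ((TensorProduct.mk R (A' k) (A' j ⊗[R] N) 1).lTensor (A' l)) ∘ₗ (P2 R A' N l j) := by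
  apply TensorProduct.ext'
  intro a y
  simp only [LinearMap.comp_apply, LinearMap.lTensor_tmul, TensorProduct.map_tmul,
    TensorProduct.mk_apply, LinearMap.proj_apply, Pi.one_apply]

theorem comp3_c (l k j : Fin n) :
    (P3 R A' N l k j) ∘ₗ (((TensorProduct.mk R (∀ j, A' j) N 1).lTensor
        (∀ j, A' j)).lTensor (∀ j, A' j)) =
      (((TensorProduct.mk R (A' j) N 1).lTensor (A' k)).lTensor (A' l)) ∘ₗ (P2 R A' N l k) := by
  apply TensorProduct.ext'
  intro a y
  induction y using TensorProduct.induction_on with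
  | zero => simp
  | tmul b m =>
    simp only [LinearMap.comp_apply, LinearMap.lTensor_tmul, TensorProduct.map_tmul,
      TensorProduct.mk_apply, LinearMap.proj_apply, Pi.one_apply, LinearMap.rTensor_tmul]
  | add y1 y2 h1 h2 => rw [TensorProduct.tmul_add, map_add, h1, h2, map_add]

variable [Module.FaithfullyFlat R (∀ j, A' j)]

/-- vanishing of the first Cech cohomology of a module for a jointly faithfully flat family -/
theorem fam_H1 (x : ∀ j k, A' k ⊗[R] (A' j ⊗[R] N))
    (hx : ∀ j k l, TensorProduct.mk R (A' l) (A' k ⊗[R] (A' j ⊗[R] N)) 1 (x j k) -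
        (TensorProduct.mk R (A' k) (A' j ⊗[R] N) 1).lTensor (A' l) (x j l) +
        ((TensorProduct.mk R (A' j) N 1).lTensor (A' k)).lTensor (A' l) (x k l) = 0) :
    ∃ d : ∀ j, A' j ⊗[R] N, ∀ j k, x j k =
      (1 : A' k) ⊗ₜ[R] (d j) - (TensorProduct.mk R (A' j) N 1).lTensor (A' k) (d k) := by
  have hX := P2_sum R A' N x
  obtain ⟨Y, hY⟩ := (amitsur_exact1 R (∀ j, A' j) N
    (∑ k', ∑ j', E2 R A' N k' j' (x j' k'))).1 (by
      apply fam_sep3 R A' N
      intro l k j
      rw [amitsurD1, LinearMap.add_apply, LinearMap.sub_apply, map_add, map_sub, comp3_a,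
        ← LinearMap.comp_apply (P3 R A' N l k j), comp3_b, LinearMap.comp_apply,
        ← LinearMap.comp_apply (P3 R A' N l k j), comp3_c, LinearMap.comp_apply,
        hX k j, hX l j, hX l k]
      exact hx j k l)
  refine ⟨fun j => (p (R := R) A' j).rTensor N Y, fun j k => ?_⟩
  rw [← hX k j, ← hY, amitsurD, LinearMap.sub_apply, map_sub, comp_b,
    ← LinearMap.comp_apply (TensorProduct.map _ _), comp_a, LinearMap.comp_apply]
  rfl

end Groth.Agent.R2.H80.AmitsurFam
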