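import Groth.Agent.R2.H80AdeqFam
import Groth.Agent.R2.H80AmitsurFam1

/-!
# Vanishing of the first Cech cohomology of an adequate functor along a finite jointly faithfully
flat family (helper80)
-/

set_option autoImplicit false
universe u
open CategoryTheory Limits TensorProduct
open Adeq Groth.Agent.Helper13Adeq

namespace Groth.Agent.R2.H80.AdeqFam

open AdeqFF (i_natural underline_natural)

variable {A : Type u} [CommRing A]

section Generic1

variable {n : ℕ} (A' : Fin n → Type u) [∀ j, CommRing (A' j)] [∀ j, Algebra A (A' j)]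
  (B : Alg A) (C : Fin n → Alg A) (D : Fin n → Fin n → Alg A)
  (E : Fin n → Fin n → Fin n → Alg A)
  (g : ∀ j, C j ≃ₗ[A] A' j ⊗[A] B) (h : ∀ j k, D j k ≃ₗ[A] A' k ⊗[A] (A' j ⊗[A] B))
  (kk : ∀ j k l, E j k l ≃ₗ[A] A' l ⊗[A] (A' k ⊗[A] (A' j ⊗[A] B)))
  (uu : ∀ j, B ⟶ C j) (ll : ∀ j k, C j ⟶ D j k) (rr : ∀ j k, C k ⟶ D j k)
  (f1 : ∀ j k l, D j k ⟶ E j k l) (f2 : ∀ j k l, D j l ⟶ E j k l)
  (f3 : ∀ j k l, D k l ⟶ E j k l)

variable (M : Type (u + 1)) [AddCommGroup M] [Module A M]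

/-- `(A' k ⊗ (A' j ⊗ B)) ⊗ M ≃ A' k ⊗ (A' j ⊗ (B ⊗ M))` -/
noncomputable def α2 (k j : Fin n) :
    (A' k ⊗[A] (A' j ⊗[A] B)) ⊗[A] M ≃ₗ[A] A' k ⊗[A] (A' j ⊗[A] (B ⊗[A] M)) :=
  TensorProduct.assoc A (A' k) (A' j ⊗[A] B) M ≪≫ₗ
    TensorProduct.congr (LinearEquiv.refl A (A' k)) (TensorProduct.assoc A (A' j) B M)

theorem α2_tmul (k j : Fin n) (a : A' k) (z : A' j ⊗[A] B) (m : M) :
    α2 A' B M k j ((a ⊗ₜ[A] z) ⊗ₜ[A] m) =
      a ⊗ₜ[A] (TensorProduct.assoc A (A' j) B M (z ⊗ₜ[A] m)) := by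
  simp only [α2, LinearEquiv.trans_apply, TensorProduct.assoc_tmul, TensorProduct.congr_tmul,
    LinearEquiv.refl_apply]

theorem Φ_eq (j k : Fin n) (x : (D j k) ⊗[A] M) :
    Φ A' B D h M j k x =
      α2 A' B M k j (TensorProduct.congr (h j k) (LinearEquiv.refl A M) x) := rfl

/-- `E j k l ⊗ M ≃ A' l ⊗ (A' k ⊗ (A' j ⊗ (B ⊗ M)))` -/
noncomputable def Ξ (j k l : Fin n) :
    (E j k l) ⊗[A] M ≃ₗ[A] A' l ⊗[A] (A' k ⊗[A] (A' j ⊗[A] (B ⊗[A] M))) :=
  (TensorProduct.congr (kk j k l) (LinearEquiv.refl A M)) ≪≫ₗ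
    TensorProduct.assoc A (A' l) (A' k ⊗[A] (A' j ⊗[A] B)) M ≪≫ₗ
      TensorProduct.congr (LinearEquiv.refl A (A' l)) (α2 A' B M k j)

theorem Ξ_tmul (j k l : Fin n) (x : E j k l) (m : M) :
    Ξ A' B E kk M j k l (x ⊗ₜ[A] m) =
      TensorProduct.congr (LinearEquiv.refl A (A' l)) (α2 A' B M k j)
        (TensorProduct.assoc A (A' l) (A' k ⊗[A] (A' j ⊗[A] B)) M ((kk j k l x) ⊗ₜ[A] m)) := by
  simp only [Ξ, LinearEquiv.trans_apply, TensorProduct.congr_tmul, LinearEquiv.refl_apply]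

variable (hf1 : ∀ j k l (d : D j k), kk j k l ((f1 j k l).hom d) = (1 : A' l) ⊗ₜ[A] (h j k d))
  (hf2 : ∀ j k l (d : D j l), kk j k l ((f2 j k l).hom d) =
    (TensorProduct.mk A (A' k) (A' j ⊗[A] B) 1).lTensor (A' l) (h j l d))
  (hf3 : ∀ j k l (d : D k l), kk j k l ((f3 j k l).hom d) =
    ((TensorProduct.mk A (A' j) B 1).lTensor (A' k)).lTensor (A' l) (h k l d))

include hf1 in
theorem t4 (j k l : Fin n) (x : (D j k) ⊗[A] M) :
    Ξ A' B E kk M j k l ((f1 j k l).hom.toLinearMap.rTensor M x) =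
      (1 : A' l) ⊗ₜ[A] (Φ A' B D h M j k x) := by
  induction x using TensorProduct.induction_on with
  | zero => simp
  | tmul d m =>
    rw [LinearMap.rTensor_tmul, Ξ_tmul, AlgHom.toLinearMap_apply, hf1, TensorProduct.assoc_tmul,
      TensorProduct.congr_tmul, LinearEquiv.refl_apply, Φ_eq, TensorProduct.congr_tmul,
      LinearEquiv.refl_apply]
  | add x y hx hy => rw [map_add, map_add, hx, hy, map_add, TensorProduct.tmul_add]

theorem t5_aux (j k l : Fin n) (y : A' l ⊗[A] (A' j ⊗[A] B)) (m : M) :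
    TensorProduct.congr (LinearEquiv.refl A (A' l)) (α2 A' B M k j)
        (TensorProduct.assoc A (A' l) (A' k ⊗[A] (A' j ⊗[A] B)) M
          (((TensorProduct.mk A (A' k) (A' j ⊗[A] B) 1).lTensor (A' l) y) ⊗ₜ[A] m)) =
      (TensorProduct.mk A (A' k) (A' j ⊗[A] (B ⊗[A] M)) 1).lTensor (A' l)
        (α2 A' B M l j (y ⊗ₜ[A] m)) := by
  induction y using TensorProduct.induction_on with
  | zero => simp
  | tmul a z =>
    rw [LinearMap.lTensor_tmul, TensorProduct.assoc_tmul, TensorProduct.congr_tmul,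
      LinearEquiv.refl_apply, TensorProduct.mk_apply, α2_tmul, α2_tmul, LinearMap.lTensor_tmul,
      TensorProduct.mk_apply]
  | add x y hx hy =>
    rw [map_add, TensorProduct.add_tmul, map_add, map_add, hx, hy, TensorProduct.add_tmul,
      map_add, map_add]

include hf2 in
theorem t5 (j k l : Fin n) (x : (D j l) ⊗[A] M) :
    Ξ A' B E kk M j k l ((f2 j k l).hom.toLinearMap.rTensor M x) =
      (TensorProduct.mk A (A' k) (A' j ⊗[A] (B ⊗[A] M)) 1).lTensor (A' l)
        (Φ A' B D h M j l x) := by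
  induction x using TensorProduct.induction_on with
  | zero => simp
  | tmul d m =>
    rw [LinearMap.rTensor_tmul, Ξ_tmul, AlgHom.toLinearMap_apply, hf2, t5_aux, Φ_eq,
      TensorProduct.congr_tmul, LinearEquiv.refl_apply]
  | add x y hx hy => rw [map_add, map_add, hx, hy, map_add, map_add]

theorem t6_aux (j k l : Fin n) (y : A' l ⊗[A] (A' k ⊗[A] B)) (m : M) :
    TensorProduct.congr (LinearEquiv.refl A (A' l)) (α2 A' B M k j)
        (TensorProduct.assoc A (A' l) (A' k ⊗[A] (A' j ⊗[A] B)) M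
          ((((TensorProduct.mk A (A' j) B 1).lTensor (A' k)).lTensor (A' l) y) ⊗ₜ[A] m)) =
      ((TensorProduct.mk A (A' j) (B ⊗[A] M) 1).lTensor (A' k)).lTensor (A' l)
        (α2 A' B M l k (y ⊗ₜ[A] m)) := by
  induction y using TensorProduct.induction_on with
  | zero => simp
  | tmul a z =>
    induction z using TensorProduct.induction_on with
    | zero => simp
    | tmul a' b =>
      simp only [LinearMap.lTensor_tmul, TensorProduct.assoc_tmul, TensorProduct.congr_tmul,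
        LinearEquiv.refl_apply, TensorProduct.mk_apply, α2_tmul]
    | add z1 z2 h1 h2 =>
      rw [TensorProduct.tmul_add, map_add, TensorProduct.add_tmul, map_add, map_add, h1, h2,
        TensorProduct.add_tmul, map_add, map_add]
  | add x y hx hy =>
    rw [map_add, TensorProduct.add_tmul, map_add, map_add, hx, hy, TensorProduct.add_tmul,
      map_add, map_add]

include hf3 in
theorem t6 (j k l : Fin n) (x : (D k l) ⊗[A] M) :
    Ξ A' B E kk M j k l ((f3 j k l).hom.toLinearMap.rTensor M x) =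
      ((TensorProduct.mk A (A' j) (B ⊗[A] M) 1).lTensor (A' k)).lTensor (A' l)
        (Φ A' B D h M k l x) := by
  induction x using TensorProduct.induction_on with
  | zero => simp
  | tmul d m =>
    rw [LinearMap.rTensor_tmul, Ξ_tmul, AlgHom.toLinearMap_apply, hf3, t6_aux, Φ_eq,
      TensorProduct.congr_tmul, LinearEquiv.refl_apply]
  | add x y hx hy => rw [map_add, map_add, hx, hy, map_add, map_add]

variable (hu : ∀ j (b : B), g j ((uu j).hom b) = (1 : A' j) ⊗ₜ[A] b)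
  (hl : ∀ j k (c : C j), h j k ((ll j k).hom c) = (1 : A' k) ⊗ₜ[A] (g j c))
  (hr : ∀ j k (c : C k), h j k ((rr j k).hom c) =
    (TensorProduct.mk A (A' j) B 1).lTensor (A' k) (g k c))

variable [Module.FaithfullyFlat A (∀ j, A' j)]

include hu hl hr in
/-- gluing for the module-level diagram -/
theorem glueM (z : ∀ j, (C j) ⊗[A] M)
    (hz : ∀ j k, (ll j k).hom.toLinearMap.rTensor M (z j) =
      (rr j k).hom.toLinearMap.rTensor M (z k)) :
    ∃ w : B ⊗[A] M, ∀ j, (uu j).hom.toLinearMap.rTensor M w = z j := by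
  have hz' : ∀ j k, (1 : A' k) ⊗ₜ[A] (Ψ A' B C g M j (z j)) =
      (TensorProduct.mk A (A' j) (B ⊗[A] M) 1).lTensor (A' k) (Ψ A' B C g M k (z k)) := by
    intro j k
    rw [← t2 A' B C D g h ll M hl j k, ← t3 A' B C D g h rr M hr j k, hz j k]
  obtain ⟨w, hw⟩ := AmitsurFam.fam_glue (R := A) A' (B ⊗[A] M)
    (fun j => Ψ A' B C g M j (z j)) (fun j k => (hz' k j).symm)
  refine ⟨w, fun j => ?_⟩
  apply (Ψ A' B C g M j).injective
  rw [t1 A' B C g uu M hu j w]
  exact (hw j).symm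

include hu hl hr in
theorem comm_ll_rr (j k : Fin n) (b : B) :
    (ll j k).hom ((uu j).hom b) = (rr j k).hom ((uu k).hom b) := by
  apply (h j k).injective
  rw [hl, hr, hu, hu, LinearMap.lTensor_tmul, TensorProduct.mk_apply]

include hu hl hr in
theorem comm_ll_rr_tensor (j k : Fin n) (w : B ⊗[A] M) :
    (ll j k).hom.toLinearMap.rTensor M ((uu j).hom.toLinearMap.rTensor M w) =
      (rr j k).hom.toLinearMap.rTensor M ((uu k).hom.toLinearMap.rTensor M w) := by
  induction w using TensorProduct.induction_on with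
  | zero => simp
  | tmul b m =>
    simp only [LinearMap.rTensor_tmul, AlgHom.toLinearMap_apply]
    rw [comm_ll_rr A' B C D g h uu ll rr hu hl hr j k b]
  | add x y hx hy => rw [map_add, map_add, map_add, map_add, hx, hy]

omit [Module.FaithfullyFlat A (∀ j, A' j)] in
theorem i_mapEl {F : MVF A} {M₁ : ModuleCat.{u + 1} A} (i : F ⟶ (underline A).obj M₁)
    {C₁ C₂ : Alg A} (f : C₁ ⟶ C₂) (x : F.obj (pt C₁)) :
    i.app (pt C₂) (mapEl F f x) = (f.hom.toLinearMap.rTensor M₁) (i.app (pt C₁) x) :=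
  i_natural i f x

include hu hl hr hf1 hf2 hf3 in
/-- vanishing of the first Cech cohomology of an adequate functor, for a diagram identified with
the standard one -/
theorem adequate_H1_generic (F : MVF A) (hF : adequate A F) (c : ∀ j k, F.obj (pt (D j k)))
    (hc : ∀ j k l, mapEl F (f1 j k l) (c j k) - mapEl F (f2 j k l) (c j l) +
      mapEl F (f3 j k l) (c k l) = 0) :
    ∃ d : ∀ j, F.obj (pt (C j)), ∀ j k,
      c j k = mapEl F (ll j k) (d j) - mapEl F (rr j k) (d k) := by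
  obtain ⟨M₁, N₁, φ₁, i, hi, hiex⟩ := (adequate_iff F).1 hF
  have hex' : ∀ (C₁ : Alg A) (x : C₁ ⊗[A] M₁),
      φ₁.hom.baseChange C₁ x = 0 ↔ x ∈ Set.range (i.app (pt C₁)) := fun C₁ x => hiex C₁ x
  have nat' : ∀ {C₁ C₂ : Alg A} (f : C₁ ⟶ C₂) (x : C₁ ⊗[A] M₁),
      φ₁.hom.baseChange C₂ (f.hom.toLinearMap.rTensor M₁ x) =
        f.hom.toLinearMap.rTensor N₁ (φ₁.hom.baseChange C₁ x) :=
    fun f x => underline_natural φ₁ f x
  -- the cocycle in the module
  have hx : ∀ j k l,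
      TensorProduct.mk A (A' l) (A' k ⊗[A] (A' j ⊗[A] (B ⊗[A] M₁))) 1
          (Φ A' B D h M₁ j k (i.app (pt (D j k)) (c j k))) -
        (TensorProduct.mk A (A' k) (A' j ⊗[A] (B ⊗[A] M₁)) 1).lTensor (A' l)
          (Φ A' B D h M₁ j l (i.app (pt (D j l)) (c j l))) +
        ((TensorProduct.mk A (A' j) (B ⊗[A] M₁) 1).lTensor (A' k)).lTensor (A' l)
          (Φ A' B D h M₁ k l (i.app (pt (D k l)) (c k l))) = 0 := by
    intro j k l
    have h0 := congrArg (fun t => i.app (pt (E j k l)) t) (hc j k l)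
    simp only [map_add, map_sub, map_zero] at h0
    rw [i_mapEl i (f1 j k l), i_mapEl i (f2 j k l), i_mapEl i (f3 j k l)] at h0
    have h0' : ((f1 j k l).hom.toLinearMap.rTensor M₁ (i.app (pt (D j k)) (c j k)) -
        (f2 j k l).hom.toLinearMap.rTensor M₁ (i.app (pt (D j l)) (c j l)) +
        (f3 j k l).hom.toLinearMap.rTensor M₁ (i.app (pt (D k l)) (c k l)) :
          (E j k l) ⊗[A] M₁) = 0 := h0
    have h1 := congrArg (Ξ A' B E kk M₁ j k l) h0'
    rw [map_add, map_sub, map_zero, t4 A' B D E h kk f1 M₁ hf1, t5 A' B D E h kk f2 M₁ hf2,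
      t6 A' B D E h kk f3 M₁ hf3] at h1
    exact h1
  obtain ⟨m, hm⟩ := AmitsurFam.fam_H1 A (A' := A') (B ⊗[A] M₁)
    (fun j k => Φ A' B D h M₁ j k (i.app (pt (D j k)) (c j k))) hx
  -- lift to `C j ⊗ M₁`
  let μ : ∀ j, (C j) ⊗[A] M₁ := fun j => (Ψ A' B C g M₁ j).symm (m j)
  have hμ : ∀ j k, i.app (pt (D j k)) (c j k) =
      (ll j k).hom.toLinearMap.rTensor M₁ (μ j) - (rr j k).hom.toLinearMap.rTensor M₁ (μ k) := by
    intro j k
    apply (Φ A' B D h M₁ j k).injective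
    rw [map_sub, t2 A' B C D g h ll M₁ hl j k, t3 A' B C D g h rr M₁ hr j k,
      LinearEquiv.apply_symm_apply, LinearEquiv.apply_symm_apply]
    exact hm j k
  -- images in `N₁` are compatible
  let ν : ∀ j, (C j) ⊗[A] N₁ := fun j => φ₁.hom.baseChange (C j) (μ j)
  have hν : ∀ j k, (ll j k).hom.toLinearMap.rTensor N₁ (ν j) =
      (rr j k).hom.toLinearMap.rTensor N₁ (ν k) := by
    intro j k
    have e3 : φ₁.hom.baseChange (D j k) (i.app (pt (D j k)) (c j k)) = 0 :=
      (hex' (D j k) _).2 ⟨c j k, rfl⟩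
    rw [hμ j k, map_sub, nat' (ll j k) (μ j), nat' (rr j k) (μ k), sub_eq_zero] at e3
    exact e3
  obtain ⟨w, hw⟩ := glueM A' B C D g h uu ll rr N₁ hu hl hr ν hν
  -- `w` is in the image of `φ₁`
  let Qm : ModuleCat.{u + 1} A := ModuleCat.of A (N₁ ⧸ LinearMap.range φ₁.hom)
  let πm : N₁ ⟶ Qm := ModuleCat.ofHom (LinearMap.range φ₁.hom).mkQ
  have hπφ : ∀ (C₁ : Alg A) (x : C₁ ⊗[A] M₁),
      (LinearMap.range φ₁.hom).mkQ.baseChange C₁ (φ₁.hom.baseChange C₁ x) = 0 := by
    intro C₁ x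
    rw [← LinearMap.comp_apply, ← LinearMap.baseChange_comp]
    have h0 : (LinearMap.range φ₁.hom).mkQ ∘ₗ φ₁.hom = 0 := by
      ext y
      exact (Submodule.Quotient.mk_eq_zero _).2 ⟨y, rfl⟩
    rw [h0, LinearMap.baseChange_zero, LinearMap.zero_apply]
  have hπw : (LinearMap.range φ₁.hom).mkQ.baseChange B w = 0 := by
    apply sepM A' B C g uu Qm hu
    intro j
    have e1 : (LinearMap.range φ₁.hom).mkQ.baseChange (C j)
        ((uu j).hom.toLinearMap.rTensor N₁ w) =
        (uu j).hom.toLinearMap.rTensor Qm ((LinearMap.range φ₁.hom).mkQ.baseChange B w) :=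
      underline_natural πm (uu j) w
    rw [← e1, hw j]
    exact hπφ (C j) (μ j)
  have hex : Function.Exact (φ₁.hom.lTensor B) ((LinearMap.range φ₁.hom).mkQ.lTensor B) :=
    lTensor_exact B (LinearMap.exact_map_mkQ_range φ₁.hom) (Submodule.mkQ_surjective _)
  have hπw' : (LinearMap.range φ₁.hom).mkQ.lTensor B w = 0 := by
    rw [← LinearMap.baseChange_eq_ltensor]
    exact hπw
  obtain ⟨m₀, hm₀⟩ := (hex w).1 hπw'
  have hm₀' : φ₁.hom.baseChange B m₀ = w := by
    rw [LinearMap.baseChange_eq_ltensor]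
    exact hm₀
  -- corrected lifts
  have hker : ∀ j, φ₁.hom.baseChange (C j)
      (μ j - (uu j).hom.toLinearMap.rTensor M₁ m₀) = 0 := by
    intro j
    rw [map_sub, nat' (uu j) m₀, hm₀', hw j]
    exact sub_self _
  choose d hd using fun j => (hex' (C j) _).1 (hker j)
  refine ⟨d, fun j k => hi (D j k) ?_⟩
  rw [map_sub, i_mapEl i (ll j k), i_mapEl i (rr j k), hd j, hd k, hμ j k, map_sub, map_sub,
    comm_ll_rr_tensor A' B C D g h uu ll rr M₁ hu hl hr j k m₀]
  abel

end Generic1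

section Family1

variable {n : ℕ} (A' : Fin n → Type u) [∀ j, CommRing (A' j)] [∀ j, Algebra A (A' j)]

theorem T1_map_compat (A₁ : Type u) [CommRing A₁] [Algebra A A₁] {X Y : Alg A} (q : X ⟶ Y)
    {X' Y' : Type u} [AddCommGroup X'] [Module A X'] [AddCommGroup Y'] [Module A Y']
    (ex : X ≃ₗ[A] X') (ey : Y ≃ₗ[A] Y') (q' : X' →ₗ[A] Y')
    (hq : ∀ x, ey (q.hom x) = q' (ex x)) (d : T1 A₁ X) :
    (γ A₁ Y ≪≫ₗ TensorProduct.congr (LinearEquiv.refl A A₁) ey)
      ((show T1 A₁ X ⟶ T1 A₁ Y from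
        (Alg.restr A A₁).map ((Alg.baseChange A A₁).map q)).hom d) =
      q'.lTensor A₁ ((γ A₁ X ≪≫ₗ TensorProduct.congr (LinearEquiv.refl A A₁) ex) d) := by
  rw [LinearEquiv.trans_apply, LinearEquiv.trans_apply]
  have key : ∀ y : A₁ ⊗[A] X,
      TensorProduct.congr (LinearEquiv.refl A A₁) ey
        (Algebra.TensorProduct.map (AlgHom.id A₁ A₁) q.hom y) =
        q'.lTensor A₁ (TensorProduct.congr (LinearEquiv.refl A A₁) ex y) := by
    intro y
    induction y using TensorProduct.induction_on with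
    | zero => simp
    | tmul a x =>
      rw [Algebra.TensorProduct.map_tmul, TensorProduct.congr_tmul, TensorProduct.congr_tmul,
        LinearMap.lTensor_tmul, hq]
      rfl
    | add x y hx hy => rw [map_add, map_add, hx, hy, map_add, map_add]
  exact key d

/-- identification of the triple overlap -/
noncomputable def ε (B : Alg A) (j k l : Fin n) :
    T1 (A' l) (T1 (A' k) (T1 (A' j) B)) ≃ₗ[A] A' l ⊗[A] (A' k ⊗[A] (A' j ⊗[A] B)) :=
  (γ (A' l) (T1 (A' k) (T1 (A' j) B))) ≪≫ₗ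
    TensorProduct.congr (LinearEquiv.refl A (A' l)) (δ A' B j k)

theorem hf1 (B : Alg A) (j k l : Fin n) (d : T1 (A' k) (T1 (A' j) B)) :
    ε A' B j k l ((show T1 (A' k) (T1 (A' j) B) ⟶ T1 (A' l) (T1 (A' k) (T1 (A' j) B)) from
      Alg.unit A (A' l) (T1 (A' k) (T1 (A' j) B))).hom d) =
      (1 : A' l) ⊗ₜ[A] (δ A' B j k d) := by
  rw [ε, LinearEquiv.trans_apply]
  exact TensorProduct.congr_tmul _ _ _ _

theorem hf2 (B : Alg A) (j k l : Fin n) (d : T1 (A' l) (T1 (A' j) B)) :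
    ε A' B j k l ((show T1 (A' l) (T1 (A' j) B) ⟶ T1 (A' l) (T1 (A' k) (T1 (A' j) B)) from
      (Alg.restr A (A' l)).map ((Alg.baseChange A (A' l)).map
        (Alg.unit A (A' k) (T1 (A' j) B)))).hom d) =
      (TensorProduct.mk A (A' k) (A' j ⊗[A] B) 1).lTensor (A' l) (δ A' B j l d) :=
  T1_map_compat (A' l) (show T1 (A' j) B ⟶ T1 (A' k) (T1 (A' j) B) from
    Alg.unit A (A' k) (T1 (A' j) B)) (γ (A' j) B) (δ A' B j k)
    (TensorProduct.mk A (A' k) (A' j ⊗[A] B) 1) (fun x => hl A' B j k x) d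

theorem hf3 (B : Alg A) (j k l : Fin n) (d : T1 (A' l) (T1 (A' k) B)) :
    ε A' B j k l ((show T1 (A' l) (T1 (A' k) B) ⟶ T1 (A' l) (T1 (A' k) (T1 (A' j) B)) from
      (Alg.restr A (A' l)).map ((Alg.baseChange A (A' l)).map
        ((Alg.restr A (A' k)).map ((Alg.baseChange A (A' k)).map
          (Alg.unit A (A' j) B))))).hom d) =
      ((TensorProduct.mk A (A' j) B 1).lTensor (A' k)).lTensor (A' l) (δ A' B k l d) :=
  T1_map_compat (A' l) (show T1 (A' k) B ⟶ T1 (A' k) (T1 (A' j) B) from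
    (Alg.restr A (A' k)).map ((Alg.baseChange A (A' k)).map (Alg.unit A (A' j) B)))
    (γ (A' k) B) (δ A' B j k)
    ((TensorProduct.mk A (A' j) B 1).lTensor (A' k)) (fun x => hr A' B j k x) d

variable [Module.FaithfullyFlat A (∀ j, A' j)]

open AdeqDescFam (T) in
/-- vanishing of the first Cech cohomology of an adequate functor along a finite jointly
faithfully flat family -/
theorem adequate_H1 (F : MVF A) (hF : adequate A F) (B : Alg A)
    (c : ∀ j k, F.obj (pt (T A' k (T A' j B))))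
    (hc : ∀ j k l, mapEl F (Alg.unit A (A' l) (T A' k (T A' j B))) (c j k) -
      mapEl F ((Alg.restr A (A' l)).map ((Alg.baseChange A (A' l)).map
        (Alg.unit A (A' k) (T A' j B)))) (c j l) +
      mapEl F ((Alg.restr A (A' l)).map ((Alg.baseChange A (A' l)).map
        ((Alg.restr A (A' k)).map ((Alg.baseChange A (A' k)).map
          (Alg.unit A (A' j) B))))) (c k l) = 0) :
    ∃ d : ∀ j, F.obj (pt (T A' j B)), ∀ j k,
      c j k = mapEl F (Alg.unit A (A' k) (T A' j B)) (d j) -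
        mapEl F ((Alg.restr A (A' k)).map ((Alg.baseChange A (A' k)).map
          (Alg.unit A (A' j) B))) (d k) :=
  adequate_H1_generic A' B (fun j => T1 (A' j) B) (fun j k => T1 (A' k) (T1 (A' j) B))
    (fun j k l => T1 (A' l) (T1 (A' k) (T1 (A' j) B)))
    (fun j => γ (A' j) B) (fun j k => δ A' B j k) (fun j k l => ε A' B j k l)
    (fun j => Alg.unit A (A' j) B) (fun j k => Alg.unit A (A' k) (T1 (A' j) B))
    (fun j k => (Alg.restr A (A' k)).map ((Alg.baseChange A (A' k)).map (Alg.unit A (A' j) B)))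
    (fun j k l => Alg.unit A (A' l) (T1 (A' k) (T1 (A' j) B)))
    (fun j k l => (Alg.restr A (A' l)).map ((Alg.baseChange A (A' l)).map
        (Alg.unit A (A' k) (T1 (A' j) B))))
    (fun j k l => (Alg.restr A (A' l)).map ((Alg.baseChange A (A' l)).map
        ((Alg.restr A (A' k)).map ((Alg.baseChange A (A' k)).map (Alg.unit A (A' j) B)))))
    (fun j k l d => hf1 A' B j k l d) (fun j k l d => hf2 A' B j k l d)
    (fun j k l d => hf3 A' B j k l d)
    (fun j b => hu A' B j b) (fun j k c => hl A' B j k c) (fun j k c => hr A' B j k c) F hF c hc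

end Family1

theorem mapEl_sub (F : MVF A) {B B' : Alg A} (f : B ⟶ B') (x y : F.obj (pt B)) :
    mapEl F f (x - y) = mapEl F f x - mapEl F f y :=
  map_sub (F.map (ptHom f)).hom x y

section Lift

variable {n : ℕ} (A' : Fin n → Type u) [∀ j, CommRing (A' j)] [∀ j, Algebra A (A' j)]
  [Module.FaithfullyFlat A (∀ j, A' j)]

open AdeqDescFam (T)

theorem unit_comm (B : Alg A) (j k : Fin n) :
    Alg.unit A (A' j) B ≫ Alg.unit A (A' k) (T A' j B) =
      Alg.unit A (A' k) B ≫ (Alg.restr A (A' k)).map ((Alg.baseChange A (A' k)).map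
        (Alg.unit A (A' j) B)) := rfl

/-- lifting sections along a map of module-valued functors with adequate kernel: local lifts
glue -/
theorem exists_lift {F₁ F₂ F₃ : MVF A} (ι : F₁ ⟶ F₂) (φ : F₂ ⟶ F₃)
    (hιinj : ∀ C : Alg A, Function.Injective (ι.app (pt C)))
    (hex : ∀ C : Alg A, Function.Exact (ι.app (pt C)) (φ.app (pt C)))
    (h₁ : adequate A F₁) (B : Alg A)
    (hsep₃ : ∀ x : F₃.obj (pt B), (∀ j, mapEl F₃ (Alg.unit A (A' j) B) x = 0) → x = 0)
    (hglue₂ : ∀ y : ∀ j, F₂.obj (pt (T A' j B)),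
      (∀ j k, mapEl F₂ (Alg.unit A (A' k) (T A' j B)) (y j) =
        mapEl F₂ ((Alg.restr A (A' k)).map ((Alg.baseChange A (A' k)).map
          (Alg.unit A (A' j) B))) (y k)) →
      ∃ x : F₂.obj (pt B), ∀ j, mapEl F₂ (Alg.unit A (A' j) B) x = y j)
    (s : F₃.obj (pt B)) (t : ∀ j, F₂.obj (pt (T A' j B)))
    (ht : ∀ j, φ.app (pt (T A' j B)) (t j) = mapEl F₃ (Alg.unit A (A' j) B) s) :
    ∃ x : F₂.obj (pt B), φ.app (pt B) x = s := by
  -- the cocycle
  have hc0 : ∀ j k, φ.app (pt (T A' k (T A' j B)))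
      (mapEl F₂ (Alg.unit A (A' k) (T A' j B)) (t j) -
        mapEl F₂ ((Alg.restr A (A' k)).map ((Alg.baseChange A (A' k)).map
          (Alg.unit A (A' j) B))) (t k)) = 0 := by
    intro j k
    rw [map_sub, app_mapEl, app_mapEl, ht j, ht k, ← mapEl_comp, ← mapEl_comp, unit_comm]
    exact sub_self _
  choose c hc using fun j k => (hex _ _).1 (hc0 j k)
  have hcoc : ∀ j k l, mapEl F₁ (Alg.unit A (A' l) (T A' k (T A' j B))) (c j k) -
      mapEl F₁ ((Alg.restr A (A' l)).map ((Alg.baseChange A (A' l)).map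
        (Alg.unit A (A' k) (T A' j B)))) (c j l) +
      mapEl F₁ ((Alg.restr A (A' l)).map ((Alg.baseChange A (A' l)).map
        ((Alg.restr A (A' k)).map ((Alg.baseChange A (A' k)).map
          (Alg.unit A (A' j) B))))) (c k l) = 0 := by
    intro j k l
    apply hιinj
    rw [map_add, map_sub, map_zero, app_mapEl, app_mapEl, app_mapEl, hc j k, hc j l, hc k l,
      mapEl_sub, mapEl_sub, mapEl_sub, ← mapEl_comp, ← mapEl_comp, ← mapEl_comp, ← mapEl_comp,
      ← mapEl_comp, ← mapEl_comp]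
    have e1 : Alg.unit A (A' k) (T A' j B) ≫ Alg.unit A (A' l) (T A' k (T A' j B)) =
        Alg.unit A (A' l) (T A' j B) ≫ (Alg.restr A (A' l)).map
          ((Alg.baseChange A (A' l)).map (Alg.unit A (A' k) (T A' j B))) := rfl
    have e2 : (Alg.restr A (A' k)).map ((Alg.baseChange A (A' k)).map (Alg.unit A (A' j) B)) ≫
        Alg.unit A (A' l) (T A' k (T A' j B)) =
        Alg.unit A (A' l) (T A' k B) ≫ (Alg.restr A (A' l)).map ((Alg.baseChange A (A' l)).map
          ((Alg.restr A (A' k)).map ((Alg.baseChange A (A' k)).map (Alg.unit A (A' j) B)))) :=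
      rfl
    have e3 : (Alg.restr A (A' l)).map ((Alg.baseChange A (A' l)).map (Alg.unit A (A' j) B)) ≫
        (Alg.restr A (A' l)).map ((Alg.baseChange A (A' l)).map
          (Alg.unit A (A' k) (T A' j B))) =
        (Alg.restr A (A' l)).map ((Alg.baseChange A (A' l)).map (Alg.unit A (A' k) B)) ≫
          (Alg.restr A (A' l)).map ((Alg.baseChange A (A' l)).map
            ((Alg.restr A (A' k)).map ((Alg.baseChange A (A' k)).map
              (Alg.unit A (A' j) B)))) := by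
      rw [← Functor.map_comp, ← Functor.map_comp, ← Functor.map_comp, ← Functor.map_comp,
        unit_comm]
    rw [e1, e2, e3]
    abel
  obtain ⟨d, hd⟩ := adequate_H1 A' F₁ h₁ B c hcoc
  -- corrected lifts
  obtain ⟨x, hx⟩ := hglue₂ (fun j => t j - ι.app (pt (T A' j B)) (d j)) (by
    intro j k
    rw [mapEl_sub, mapEl_sub, ← app_mapEl, ← app_mapEl, sub_eq_sub_iff_sub_eq_sub, ← hc j k,
      hd j k, map_sub])
  refine ⟨x, ?_⟩
  rw [← sub_eq_zero]
  apply hsep₃
  intro j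
  rw [mapEl_sub, ← app_mapEl, hx j, map_sub, ht j]
  have h0 : φ.app (pt (T A' j B)) (ι.app (pt (T A' j B)) (d j)) = 0 := (hex _ _).2 ⟨d j, rfl⟩
  rw [h0, sub_zero, sub_self]

end Lift

end Groth.Agent.R2.H80.AdeqFam
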