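import Groth.Agent.R2.H80AdeqBigColim
import Groth.Agent.R2.H80AdeqFam1

/-!
# Adequate modules on big sites: extensions (helper80)
-/

set_option autoImplicit false
universe u
open CategoryTheory Limits TensorProduct AlgebraicGeometry Opposite
open Adeq Groth.Agent.Helper13Adeq

namespace Groth.Agent.R2.H80.AdeqBigExt

open AdeqBigColim (Lsh Gsh adjsh)

variable {S : Scheme.{u}}

/-- an epimorphism of sheaves of modules on the big fppf site is locally surjective -/
theorem imageSieve_mem_of_epi {M N : BigSite.Mod Scheme.fppfPrecoverage S} (φ : M ⟶ N) [Epi φ]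
    (U : Over S) (s : N.val.obj (op U)) :
    Presheaf.imageSieve ((PresheafOfModules.toPresheaf _).map φ.val) s ∈
      QuotSh.J Scheme.fppfPrecoverage S U := by
  let Gφ := (Gsh S).map φ
  let q := cokernel.π Gφ
  have hq : Gφ ≫ q = 0 := cokernel.condition Gφ
  -- `L q = 0`
  have hLq : (Lsh S).map q = 0 := by
    have h1 : (Lsh S).map Gφ ≫ (adjsh S).counit.app N = (adjsh S).counit.app M ≫ φ :=
      (adjsh S).counit.naturality φ
    have h2 : φ ≫ (inv ((adjsh S).counit.app N) ≫ (Lsh S).map q) = 0 := by
      have h3 : φ ≫ inv ((adjsh S).counit.app N) =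
          inv ((adjsh S).counit.app M) ≫ (Lsh S).map Gφ := by
        rw [IsIso.comp_inv_eq, Category.assoc, h1, IsIso.inv_hom_id_assoc]
      rw [← Category.assoc, h3, Category.assoc, ← Functor.map_comp, hq, Functor.map_zero,
        comp_zero]
    have h4 : inv ((adjsh S).counit.app N) ≫ (Lsh S).map q = 0 :=
      (cancel_epi φ).1 (h2.trans comp_zero.symm)
    have h5 := congrArg (fun t => (adjsh S).counit.app N ≫ t) h4
    simpa using h5
  -- the unit kills `q s`
  have hunit : q ≫ (adjsh S).unit.app (cokernel Gφ) = 0 := by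
    have h1 := (adjsh S).unit.naturality q
    simp only [Functor.id_obj, Functor.id_map, Functor.comp_map] at h1
    rw [h1, hLq, Functor.map_zero, Functor.map_zero, comp_zero]
  let sG : ((Gsh S).obj N).obj (op U) := s
  have h0 : ((adjsh S).unit.app (cokernel Gφ)).app (op U) (q.app (op U) sG) =
      ((adjsh S).unit.app (cokernel Gφ)).app (op U) 0 := by
    rw [← PshMod.comp_app_apply, hunit, map_zero]
    rfl
  have hinj : Presheaf.IsLocallyInjective (QuotSh.J Scheme.fppfPrecoverage S)
      ((PresheafOfModules.toPresheaf _).map ((adjsh S).unit.app (cokernel Gφ))) :=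
    inferInstanceAs (Presheaf.IsLocallyInjective (QuotSh.J Scheme.fppfPrecoverage S)
      (CategoryTheory.toSheafify (QuotSh.J Scheme.fppfPrecoverage S) (cokernel Gφ).presheaf))
  have hmem := Presheaf.equalizerSieve_mem (QuotSh.J Scheme.fppfPrecoverage S)
    ((PresheafOfModules.toPresheaf _).map ((adjsh S).unit.app (cokernel Gφ)))
    (X := op U) (q.app (op U) sG) 0 h0
  refine (QuotSh.J Scheme.fppfPrecoverage S).superset_covering ?_ hmem
  intro V f hf
  have hf' : (cokernel Gφ).map f.op (q.app (op U) sG) = (cokernel Gφ).map f.op 0 := hf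
  have h6 : q.app (op V) (((Gsh S).obj N).map f.op sG) = 0 :=
    (PresheafOfModules.naturality_apply q f.op sG).trans
      (hf'.trans (map_zero ((cokernel Gφ).map f.op).hom))
  obtain ⟨t, ht⟩ := (PshMod.cokernel_π_exact Gφ (op V) _).1 h6
  exact ⟨t, ht⟩

theorem sections_of_shortExact (C : ShortComplex (BigSite.Mod Scheme.fppfPrecoverage S))
    (hC : C.ShortExact) (X : (Over S)ᵒᵖ) :
    Function.Injective (C.f.val.app X) ∧ Function.Exact (C.f.val.app X) (C.g.val.app X) := by
  let F := SheafOfModules.evaluation (BigSite.ORing Scheme.fppfPrecoverage S) X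
  have : F.PreservesZeroMorphisms := ⟨fun _ _ => rfl⟩
  have := hC.mono_f
  have h1 : (C.map F).Exact := hC.exact.map_of_mono_of_preservesKernel F inferInstance inferInstance
  have h2 : Mono (F.map C.f) := inferInstance
  constructor
  · exact (ModuleCat.mono_iff_injective _).1 h2
  · rw [ShortComplex.ShortExact.moduleCat_exact_iff_function_exact] at h1
    exact h1

section Surj

open AdeqDescFam (T)
open AdeqBigSheaf (Xo πo)

variable (C : ShortComplex (BigSite.Mod Scheme.fppfPrecoverage S)) (hC : C.ShortExact)
  (h₁ : adequateMod Scheme.fppfPrecoverage S C.X₁)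

include hC h₁ in
theorem surjective_base (R : CommRingCat.{u}) (a : Spec R ⟶ S) :
    Function.Surjective (C.g.val.app (op ((specOver a).obj (op (algOf R R))))) := by
  intro s
  have hOSh : BigSite.OSh (Scheme.precoverage
      ((@Flat ⊓ @LocallyOfFinitePresentation : MorphismProperty Scheme.{u}))) :=
    inferInstanceAs (BigSite.OSh Scheme.fppfPrecoverage.{u})
  have hId : MorphismProperty.ContainsIdentities
      ((@Flat ⊓ @LocallyOfFinitePresentation : MorphismProperty Scheme.{u})) :=
    ⟨fun X => ⟨inferInstance, inferInstance⟩⟩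
  have := hC.epi_g
  have hmem := imageSieve_mem_of_epi C.g ((specOver a).obj (op (algOf R R))) s
  obtain ⟨n, A', _, _, hcov, hT⟩ := AdeqBigRefine.exists_family
    (P := @Flat ⊓ @LocallyOfFinitePresentation) (fun f hf => by
      have := hf.1
      have := hf.2
      exact f.isOpenMap) R a _ hmem
  have := AdeqBigRefine.ff_of_cov (P := @Flat ⊓ @LocallyOfFinitePresentation)
    (fun _ _ f hf => hf.1) R A' hcov
  choose t ht using hT
  exact AdeqFam.exists_lift A' ((toMVF Scheme.fppfPrecoverage a).map C.f)
    ((toMVF Scheme.fppfPrecoverage a).map C.g)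
    (fun B => (sections_of_shortExact C hC _).1) (fun B => (sections_of_shortExact C hC _).2)
    (Groth.Agent.S8755.result S C.X₁ h₁ R a) (algOf R R)
    (AdeqBigSheaf.descent_hyp a A' Scheme.fppfPrecoverage C.X₃ hcov (algOf R R)).1
    (AdeqBigSheaf.descent_hyp a A' Scheme.fppfPrecoverage C.X₂ hcov (algOf R R)).2 s t ht

include hC h₁ in
theorem surjective_affine (R : CommRingCat.{u}) (a : Spec R ⟶ S) (B : Alg R) :
    Function.Surjective (C.g.val.app (op ((specOver a).obj (op B)))) := by
  have hOSh : BigSite.OSh (Scheme.precoverage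
      ((@Flat ⊓ @LocallyOfFinitePresentation : MorphismProperty Scheme.{u}))) :=
    inferInstanceAs (BigSite.OSh Scheme.fppfPrecoverage.{u})
  exact AdeqBigShf.surjective_of_iso (P := @Flat ⊓ @LocallyOfFinitePresentation) C.g.val
    (AdeqBigShf.ofBase a B) (AdeqBigShf.toBase a B) (AdeqBigShf.toBase_ofBase a B)
    (surjective_base C hC h₁ (CommRingCat.of B) (AdeqBig.bOf R B a))

include hC h₁ in
/-- the sequence of module-valued functors of a short exact sequence with adequate kernel is
short exact -/
theorem shortExact_toMVF (R : CommRingCat.{u}) (a : Spec R ⟶ S) :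
    (C.map (toMVF Scheme.fppfPrecoverage a)).ShortExact := by
  have hinj : ∀ X, Function.Injective (((toMVF Scheme.fppfPrecoverage a).map C.f).app X) :=
    fun X => (sections_of_shortExact C hC (op ((specOver a).obj (op X.unop.unop)))).1
  have hex : ∀ X, Function.Exact (((toMVF Scheme.fppfPrecoverage a).map C.f).app X)
      (((toMVF Scheme.fppfPrecoverage a).map C.g).app X) :=
    fun X => (sections_of_shortExact C hC (op ((specOver a).obj (op X.unop.unop)))).2
  have hsurj : ∀ X, Function.Surjective (((toMVF Scheme.fppfPrecoverage a).map C.g).app X) :=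
    fun X => surjective_affine C hC h₁ R a X.unop.unop
  exact
    { exact := PshMod.exact_of_app _ hex
      mono_f := PresheafOfModules.mono_of_injective hinj
      epi_g := PresheafOfModules.epi_of_surjective hsurj }

end Surj

end Groth.Agent.R2.H80.AdeqBigExt
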