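import Mathlib

/-!
# Algebra behind "the cokernel of `F ⟶ underline M` is adequate" (helper80)

Given families of linear maps `α i : P i → P' i`, `g i : P i → M`, put `K = ⨁ P i`, `K' = ⨁ P' i`,
`Q₀ = (M × K') / K`.  For every module `B` the kernel of `B ⊗ M → B ⊗ Q₀` is the set of finite sums
`∑ (B ⊗ g i) kᵢ` with `(B ⊗ α i) kᵢ = 0`.
-/

set_option autoImplicit false
universe u v w
open TensorProduct DirectSum

namespace Groth.Agent.R2.H80.AdeqCokerAlg

open scoped Classical in
section

variable {A : Type u} [CommRing A] {ι : Type w} (P P' : ι → Type v)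
  [∀ i, AddCommGroup (P i)] [∀ i, Module A (P i)] [∀ i, AddCommGroup (P' i)] [∀ i, Module A (P' i)]
  (M : Type v) [AddCommGroup M] [Module A M]
  (α : ∀ i, P i →ₗ[A] P' i) (g : ∀ i, P i →ₗ[A] M)

/-- `⨁ α i` -/
noncomputable def phi0 : (⨁ i, P i) →ₗ[A] (⨁ i, P' i) := DirectSum.lmap α

/-- `∑ g i` -/
noncomputable def gg : (⨁ i, P i) →ₗ[A] M := DirectSum.toModule A ι M g

/-- the module `Q₀ = (M × K') / K` -/
abbrev Q0 : Type (max v w) := (M × (⨁ i, P' i)) ⧸ LinearMap.range ((gg P M g).prod (phi0 P P' α))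

/-- `q : M → Q₀` -/
noncomputable def q : M →ₗ[A] Q0 P P' M α g :=
  (LinearMap.range ((gg P M g).prod (phi0 P P' α))).mkQ ∘ₗ LinearMap.inl A M (⨁ i, P' i)

/-- `Q₁ = Q₀ / M` -/
abbrev Q1 : Type (max v w) := Q0 P P' M α g ⧸ LinearMap.range (q P P' M α g)

/-- `q₁ : Q₀ → Q₁` -/
noncomputable def q1 : Q0 P P' M α g →ₗ[A] Q1 P P' M α g := (LinearMap.range (q P P' M α g)).mkQ

theorem q1_comp_q : q1 P P' M α g ∘ₗ q P P' M α g = 0 := by
  ext m
  simp [q1]

variable (B : Type*) [AddCommGroup B] [Module A B]

theorem exact_q_q1 : Function.Exact ((q P P' M α g).lTensor B) ((q1 P P' M α g).lTensor B) :=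
  lTensor_exact B (LinearMap.exact_map_mkQ_range _) (Submodule.mkQ_surjective _)

variable {B}

/-- decomposition of an element of `B ⊗ ⨁ P i` into its components -/
theorem eq_sum_components (k : B ⊗[A] (⨁ i, P i)) :
    k = ∑ i ∈ (TensorProduct.directSumRight A A B P k).support,
      (DirectSum.lof A ι P i).lTensor B ((DirectSum.component A ι P i).lTensor B k) := by
  have hcomp : ∀ (k : B ⊗[A] (⨁ i, P i)) (i : ι),
      TensorProduct.directSumRight A A B P k i = (DirectSum.component A ι P i).lTensor B k := by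
    intro k i
    induction k using TensorProduct.induction_on with
    | zero => simp
    | tmul b x => rw [TensorProduct.directSumRight_tmul, LinearMap.lTensor_tmul]; rfl
    | add x y hx hy => rw [map_add, DirectSum.add_apply, hx, hy, map_add]
  have hsymm : ∀ (i : ι) (z : B ⊗[A] P i),
      (TensorProduct.directSumRight A A B P).symm (DirectSum.lof A ι _ i z) =
        (DirectSum.lof A ι P i).lTensor B z := by
    intro i z
    induction z using TensorProduct.induction_on with
    | zero => simp
    | tmul b x => rw [TensorProduct.directSumRight_symm_lof_tmul, LinearMap.lTensor_tmul]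
    | add x y hx hy => rw [map_add, map_add, hx, hy, map_add]
  conv_lhs => rw [← (TensorProduct.directSumRight A A B P).symm_apply_apply k,
    ← DirectSum.sum_support_of (TensorProduct.directSumRight A A B P k), map_sum]
  refine Finset.sum_congr rfl (fun i _ => ?_)
  rw [← DirectSum.lof_eq_of A, hsymm, hcomp]

/-- the kernel of `B ⊗ M → B ⊗ Q₀`, one direction -/
theorem exists_of_q_eq_zero (x : B ⊗[A] M) (hx : (q P P' M α g).lTensor B x = 0) :
    ∃ (s : Finset ι) (k : ∀ i, B ⊗[A] P i), (∀ i, (α i).lTensor B (k i) = 0) ∧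
      x = ∑ i ∈ s, (g i).lTensor B (k i) := by
  -- right exactness
  have hex : Function.Exact (((gg P M g).prod (phi0 P P' α)).lTensor B)
      ((LinearMap.range ((gg P M g).prod (phi0 P P' α))).mkQ.lTensor B) :=
    lTensor_exact B (LinearMap.exact_map_mkQ_range _) (Submodule.mkQ_surjective _)
  have hx' : (LinearMap.range ((gg P M g).prod (phi0 P P' α))).mkQ.lTensor B
      ((LinearMap.inl A M (⨁ i, P' i)).lTensor B x) = 0 := by
    rw [← LinearMap.comp_apply, ← LinearMap.lTensor_comp]
    exact hx
  obtain ⟨k, hk⟩ := (hex _).1 hx'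
  have h1 : (gg P M g).lTensor B k = x := by
    have := congrArg ((LinearMap.fst A M (⨁ i, P' i)).lTensor B) hk
    rw [← LinearMap.comp_apply, ← LinearMap.lTensor_comp, ← LinearMap.comp_apply,
      ← LinearMap.lTensor_comp, LinearMap.fst_prod, LinearMap.fst_comp_inl,
      LinearMap.lTensor_id, LinearMap.id_apply] at this
    exact this
  have h2 : (phi0 P P' α).lTensor B k = 0 := by
    have := congrArg ((LinearMap.snd A M (⨁ i, P' i)).lTensor B) hk
    rw [← LinearMap.comp_apply, ← LinearMap.lTensor_comp, ← LinearMap.comp_apply,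
      ← LinearMap.lTensor_comp, LinearMap.snd_prod, LinearMap.snd_comp_inl,
      LinearMap.lTensor_zero, LinearMap.zero_apply] at this
    exact this
  refine ⟨(TensorProduct.directSumRight A A B P k).support,
    fun i => (DirectSum.component A ι P i).lTensor B k, fun i => ?_, ?_⟩
  · have hc : α i ∘ₗ DirectSum.component A ι P i =
        DirectSum.component A ι P' i ∘ₗ phi0 P P' α := by
      ext x
      rfl
    rw [← LinearMap.comp_apply, ← LinearMap.lTensor_comp, hc, LinearMap.lTensor_comp,
      LinearMap.comp_apply, h2, map_zero]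
  · conv_lhs => rw [← h1, eq_sum_components P k, map_sum]
    refine Finset.sum_congr rfl (fun i _ => ?_)
    rw [← LinearMap.comp_apply, ← LinearMap.lTensor_comp]
    have : gg P M g ∘ₗ DirectSum.lof A ι P i = g i := by
      ext x
      simp [gg]
    rw [this]

/-- the kernel of `B ⊗ M → B ⊗ Q₀`, other direction -/
theorem q_eq_zero (i : ι) (k : B ⊗[A] P i) (hk : (α i).lTensor B k = 0) :
    (q P P' M α g).lTensor B ((g i).lTensor B k) = 0 := by
  have h1 : (g i) = gg P M g ∘ₗ DirectSum.lof A ι P i := by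
    ext x
    simp [gg]
  have h2 : q P P' M α g ∘ₗ gg P M g =
      - ((LinearMap.range ((gg P M g).prod (phi0 P P' α))).mkQ ∘ₗ
          LinearMap.inr A M (⨁ i, P' i) ∘ₗ phi0 P P' α) := by
    ext j x
    simp only [q, LinearMap.coe_comp, Function.comp_apply, LinearMap.inl_apply, LinearMap.neg_apply,
      LinearMap.inr_apply, Submodule.mkQ_apply]
    rw [eq_neg_iff_add_eq_zero, ← Submodule.Quotient.mk_add, Submodule.Quotient.mk_eq_zero]
    exact ⟨DirectSum.lof A ι P j x, by simp⟩
  have h3 : phi0 P P' α ∘ₗ DirectSum.lof A ι P i = DirectSum.lof A ι P' i ∘ₗ α i := by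
    ext x
    simp [phi0]
  rw [h1, LinearMap.lTensor_comp, LinearMap.comp_apply, ← LinearMap.comp_apply,
    ← LinearMap.lTensor_comp, h2, LinearMap.lTensor_neg, LinearMap.neg_apply, neg_eq_zero,
    LinearMap.lTensor_comp, LinearMap.lTensor_comp, LinearMap.comp_apply, LinearMap.comp_apply,
    ← LinearMap.comp_apply (f := (phi0 P P' α).lTensor B), ← LinearMap.lTensor_comp, h3,
    LinearMap.lTensor_comp, LinearMap.comp_apply, hk, map_zero, map_zero, map_zero]

end

end Groth.Agent.R2.H80.AdeqCokerAlg
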