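import Groth.Agent.Lib.Helper13AdeqA
import Groth.Agent.Lib.Helper13AdeqB
import Groth.Agent.Lib.Helper13AdeqD
import Groth.Agent.R2.H80AdeqCokerAlg

/-!
# Kernels and cokernels of maps of adequate functors are adequate (helper80)

* `exists_presentation`: for adequate `F` and `b : F ⟶ underline M` there is `q : M ⟶ Q₀` with
  `F → underline M → underline Q₀` exact (pointwise).
* `adequate_cokernel_to_underline`, `adequate_kernel_to_underline`.
* `adequate_kernel`, `adequate_cokernel`.
-/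

set_option autoImplicit false
universe u
open CategoryTheory Limits TensorProduct
open Adeq Groth.Agent.Helper13Adeq

namespace Groth.Agent.R2.H80.AdeqCoker

variable {A : Type u} [CommRing A]

theorem exists_presentation (F : MVF A) (hF : adequate A F) (M : ModuleCat.{u + 1} A)
    (b : F ⟶ (underline A).obj M) :
    ∃ (Q₀ : ModuleCat.{u + 1} A) (q : M ⟶ Q₀), b ≫ (underline A).map q = 0 ∧
      ∀ (B : Alg A) (x : B ⊗[A] M), (q.hom.lTensor B) x = 0 →
        ∃ ξ : F.obj (pt B), b.app (pt B) ξ = x := by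
  classical
  let ι : Type (u + 1) := Σ B : Alg A, F.obj (pt B)
  choose L ψ hL η hη using fun idx : ι => exists_linAdequate_hits F hF idx.1 idx.2
  choose P P' α hPfin hPfree hP'fin hP'free e using hL
  let e' : ∀ idx, L idx ≅ kernel ((underline A).map (α idx)) := fun idx => (e idx).some
  have hext : ∀ idx, ∃ g : P idx ⟶ M,
      kernel.ι ((underline A).map (α idx)) ≫ (underline A).map g = (e' idx).inv ≫ ψ idx ≫ b := by
    intro idx
    have := hPfin idx
    have := hPfree idx
    have := hP'fin idx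
    have := hP'free idx
    exact exists_extension (P idx) (P' idx) M (α idx) ((e' idx).inv ≫ ψ idx ≫ b)
  choose g hg using hext
  let Q₀ : ModuleCat.{u + 1} A := ModuleCat.of A
    (AdeqCokerAlg.Q0 (fun idx => P idx) (fun idx => P' idx) M (fun idx => (α idx).hom)
      (fun idx => (g idx).hom))
  let q : M ⟶ Q₀ := ModuleCat.ofHom
    (AdeqCokerAlg.q (fun idx => P idx) (fun idx => P' idx) M (fun idx => (α idx).hom)
      (fun idx => (g idx).hom))
  -- the key computation
  have hkey : ∀ (idx : ι) (B : Alg A) (ζ : (kernel ((underline A).map (α idx))).obj (pt B)),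
      ((g idx).hom.lTensor B) ((kernel.ι ((underline A).map (α idx))).app (pt B) ζ) =
        b.app (pt B) ((ψ idx).app (pt B) ((e' idx).inv.app (pt B) ζ)) := by
    intro idx B ζ
    have := congrArg (fun t => t.app (pt B) ζ) (hg idx)
    exact this
  have hker : ∀ (idx : ι) (B : Alg A) (ζ : (kernel ((underline A).map (α idx))).obj (pt B)),
      ((α idx).hom.lTensor B) ((kernel.ι ((underline A).map (α idx))).app (pt B) ζ) = 0 := by
    intro idx B ζ
    exact (PshMod.kernel_ι_exact ((underline A).map (α idx)) (pt B) _).2 ⟨ζ, rfl⟩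
  refine ⟨Q₀, q, ?_, ?_⟩
  · ext X ξ
    let B : Alg A := X.unop.unop
    let idx : ι := ⟨B, ξ⟩
    let ζ := (e' idx).hom.app (pt B) (η idx)
    have h1 : b.app (pt B) ξ =
        ((g idx).hom.lTensor B) ((kernel.ι ((underline A).map (α idx))).app (pt B) ζ) := by
      rw [hkey idx B ζ, PshMod.hom_inv_app_apply]
      exact congrArg _ (hη idx).symm
    change (q.hom.lTensor B) (b.app (pt B) ξ) = 0
    rw [h1]
    exact AdeqCokerAlg.q_eq_zero _ _ _ _ _ idx _ (hker idx B ζ)
  · intro B x hx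
    obtain ⟨s, k, hk, hxs⟩ := AdeqCokerAlg.exists_of_q_eq_zero _ _ _ _ _ x hx
    have hζ : ∀ idx, ∃ ζ : (kernel ((underline A).map (α idx))).obj (pt B),
        (kernel.ι ((underline A).map (α idx))).app (pt B) ζ = k idx := fun idx =>
      (PshMod.kernel_ι_exact ((underline A).map (α idx)) (pt B) (k idx)).1 (hk idx)
    choose ζ hζ' using hζ
    refine ⟨∑ idx ∈ s, (ψ idx).app (pt B) ((e' idx).inv.app (pt B) (ζ idx)), ?_⟩
    rw [map_sum, hxs]
    refine Finset.sum_congr rfl (fun idx _ => ?_)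
    rw [← hkey idx B (ζ idx), hζ' idx]

/-- the cokernel of a map from an adequate functor to `underline M` is adequate -/
theorem adequate_cokernel_to_underline (F : MVF A) (hF : adequate A F) (M : ModuleCat.{u + 1} A)
    (b : F ⟶ (underline A).obj M) : adequate A (cokernel b) := by
  obtain ⟨Q₀, q, hbq, hex⟩ := exists_presentation F hF M b
  let Q₁ : ModuleCat.{u + 1} A := ModuleCat.of A (Q₀ ⧸ LinearMap.range q.hom)
  let q₁ : Q₀ ⟶ Q₁ := ModuleCat.ofHom (LinearMap.range q.hom).mkQ
  have hqq : Function.Exact q.hom q₁.hom := LinearMap.exact_map_mkQ_range _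
  have hsurj : Function.Surjective q₁.hom := Submodule.mkQ_surjective _
  have hdesc : ∀ (B : Alg A) (x : B ⊗[A] M),
      (cokernel.desc b ((underline A).map q) hbq).app (pt B) ((cokernel.π b).app (pt B) x) =
        (q.hom.lTensor B) x := by
    intro B x
    rw [← PshMod.comp_app_apply, cokernel.π_desc]
    rfl
  rw [adequate_iff]
  refine ⟨Q₀, Q₁, q₁, cokernel.desc b ((underline A).map q) hbq, fun B => ?_, fun B => ?_⟩
  · -- injectivity
    rw [injective_iff_map_eq_zero]
    intro z hz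
    obtain ⟨x, rfl⟩ := PshMod.cokernel_π_surjective b (pt B) z
    rw [hdesc] at hz
    obtain ⟨ξ, rfl⟩ := hex B x hz
    rw [← PshMod.comp_app_apply, cokernel.condition]
    rfl
  · intro y
    have hexB : Function.Exact (q.hom.lTensor B) (q₁.hom.lTensor B) := lTensor_exact B hqq hsurj
    constructor
    · intro hy
      obtain ⟨x, rfl⟩ := (hexB y).1 hy
      exact ⟨(cokernel.π b).app (pt B) x, hdesc B x⟩
    · rintro ⟨z, rfl⟩
      obtain ⟨x, rfl⟩ := PshMod.cokernel_π_surjective b (pt B) z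
      rw [hdesc]
      exact (hexB _).2 ⟨x, rfl⟩

section lT

variable {M₁ M₂ : Type*} [AddCommGroup M₁] [Module A M₁] [AddCommGroup M₂] [Module A M₂]
  (B : Type*) [AddCommGroup B] [Module A B]

theorem lT_fst_inl (x : B ⊗[A] M₁) :
    (LinearMap.fst A M₁ M₂).lTensor B ((LinearMap.inl A M₁ M₂).lTensor B x) = x := by
  rw [← LinearMap.lTensor_comp_apply, LinearMap.fst_comp_inl, LinearMap.lTensor_id,
    LinearMap.id_apply]

theorem lT_fst_inr (x : B ⊗[A] M₂) :
    (LinearMap.fst A M₁ M₂).lTensor B ((LinearMap.inr A M₁ M₂).lTensor B x) = 0 := by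
  rw [← LinearMap.lTensor_comp_apply, LinearMap.fst_comp_inr, LinearMap.lTensor_zero,
    LinearMap.zero_apply]

theorem lT_snd_inl (x : B ⊗[A] M₁) :
    (LinearMap.snd A M₁ M₂).lTensor B ((LinearMap.inl A M₁ M₂).lTensor B x) = 0 := by
  rw [← LinearMap.lTensor_comp_apply, LinearMap.snd_comp_inl, LinearMap.lTensor_zero,
    LinearMap.zero_apply]

theorem lT_snd_inr (x : B ⊗[A] M₂) :
    (LinearMap.snd A M₁ M₂).lTensor B ((LinearMap.inr A M₁ M₂).lTensor B x) = x := by
  rw [← LinearMap.lTensor_comp_apply, LinearMap.snd_comp_inr, LinearMap.lTensor_id,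
    LinearMap.id_apply]

theorem lT_prod {M₃ : Type*} [AddCommGroup M₃] [Module A M₃] (f : M₃ →ₗ[A] M₁) (g : M₃ →ₗ[A] M₂)
    (x : B ⊗[A] M₃) :
    (f.prod g).lTensor B x =
      (LinearMap.inl A M₁ M₂).lTensor B (f.lTensor B x) +
        (LinearMap.inr A M₁ M₂).lTensor B (g.lTensor B x) := by
  have : f.prod g = LinearMap.inl A M₁ M₂ ∘ₗ f + LinearMap.inr A M₁ M₂ ∘ₗ g := by
    ext x <;> simp
  rw [this, LinearMap.lTensor_add, LinearMap.add_apply, LinearMap.lTensor_comp_apply,
    LinearMap.lTensor_comp_apply]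

theorem lT_fst_prod {M₃ : Type*} [AddCommGroup M₃] [Module A M₃] (f : M₃ →ₗ[A] M₁)
    (g : M₃ →ₗ[A] M₂) (x : B ⊗[A] M₃) :
    (LinearMap.fst A M₁ M₂).lTensor B ((f.prod g).lTensor B x) = f.lTensor B x := by
  rw [← LinearMap.lTensor_comp_apply, LinearMap.fst_prod]

theorem lT_snd_prod {M₃ : Type*} [AddCommGroup M₃] [Module A M₃] (f : M₃ →ₗ[A] M₁)
    (g : M₃ →ₗ[A] M₂) (x : B ⊗[A] M₃) :
    (LinearMap.snd A M₁ M₂).lTensor B ((f.prod g).lTensor B x) = g.lTensor B x := by
  rw [← LinearMap.lTensor_comp_apply, LinearMap.snd_prod]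

end lT

/-- the kernel of a map from an adequate functor to `underline M` is adequate -/
theorem adequate_kernel_to_underline (F : MVF A) (hF : adequate A F) (M : ModuleCat.{u + 1} A)
    (b : F ⟶ (underline A).obj M) : adequate A (kernel b) := by
  obtain ⟨M₁, N₁, φ₁, i, hi, -⟩ := (adequate_iff F).1 hF
  let T : ModuleCat.{u + 1} A := ModuleCat.of A (M₁ × M)
  let inlT : M₁ ⟶ T := ModuleCat.ofHom (LinearMap.inl A M₁ M)
  let inrT : M ⟶ T := ModuleCat.ofHom (LinearMap.inr A M₁ M)
  let c : F ⟶ (underline A).obj T := i ≫ (underline A).map inlT + b ≫ (underline A).map inrT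
  have hc : ∀ (B : Alg A) (ξ : F.obj (pt B)), c.app (pt B) ξ =
      (LinearMap.inl A M₁ M).lTensor B (i.app (pt B) ξ) +
        (LinearMap.inr A M₁ M).lTensor B (b.app (pt B) ξ) := fun B ξ => rfl
  obtain ⟨Q₀, q, hcq, hex⟩ := exists_presentation F hF T c
  have hcq' : ∀ (B : Alg A) (ξ : F.obj (pt B)), (q.hom.lTensor B) (c.app (pt B) ξ) = 0 := by
    intro B ξ
    have := congrArg (fun t => t.app (pt B) ξ) hcq
    exact this
  let T' : ModuleCat.{u + 1} A := ModuleCat.of A (Q₀ × M)
  let ψ : T ⟶ T' := ModuleCat.ofHom (q.hom.prod (LinearMap.snd A M₁ M))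
  have h1 : ∀ (B : Alg A) (ξ : F.obj (pt B)),
      (LinearMap.fst A M₁ M).lTensor B (c.app (pt B) ξ) = i.app (pt B) ξ := by
    intro B ξ
    rw [hc, map_add, lT_fst_inl, lT_fst_inr, add_zero]
  have h2 : ∀ (B : Alg A) (ξ : F.obj (pt B)),
      (LinearMap.snd A M₁ M).lTensor B (c.app (pt B) ξ) = b.app (pt B) ξ := by
    intro B ξ
    rw [hc, map_add, lT_snd_inl, lT_snd_inr, zero_add]
  rw [adequate_iff]
  refine ⟨T, T', ψ, kernel.ι b ≫ c, fun B => ?_, fun B => ?_⟩
  · intro ζ₁ ζ₂ h
    apply PshMod.kernel_ι_injective b (pt B)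
    apply hi B
    have h' : c.app (pt B) ((kernel.ι b).app (pt B) ζ₁) =
        c.app (pt B) ((kernel.ι b).app (pt B) ζ₂) := h
    rw [← h1, ← h1, h']
  · intro z
    constructor
    · intro hz
      have hz' : (q.hom.prod (LinearMap.snd A M₁ M)).lTensor B z = 0 := hz
      have hz1 : (q.hom.lTensor B) z = 0 := by
        rw [← lT_fst_prod B q.hom (LinearMap.snd A M₁ M), hz', map_zero]
      have hz2 : (LinearMap.snd A M₁ M).lTensor B z = 0 := by
        rw [← lT_snd_prod B q.hom (LinearMap.snd A M₁ M), hz', map_zero]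
      obtain ⟨ξ, rfl⟩ := hex B z hz1
      rw [h2] at hz2
      obtain ⟨ζ, rfl⟩ := (PshMod.kernel_ι_exact b (pt B) ξ).1 hz2
      exact ⟨ζ, rfl⟩
    · rintro ⟨ζ, rfl⟩
      change (q.hom.prod (LinearMap.snd A M₁ M)).lTensor B
        (c.app (pt B) ((kernel.ι b).app (pt B) ζ)) = 0
      have hb0 : b.app (pt B) ((kernel.ι b).app (pt B) ζ) = (0 : B ⊗[A] M) :=
        (PshMod.kernel_ι_exact b (pt B) _).2 ⟨ζ, rfl⟩
      rw [lT_prod, hcq', h2, hb0, map_zero, map_zero, add_zero]

/-- the kernel of a map of adequate functors is adequate -/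
theorem adequate_kernel {F G : MVF A} (φ : F ⟶ G) (hF : adequate A F) (hG : adequate A G) :
    adequate A (kernel φ) := by
  obtain ⟨M₂, N₂, φ₂, j, hj, -⟩ := (adequate_iff G).1 hG
  have : Mono j := PresheafOfModules.mono_of_injective (fun X => hj X.unop.unop)
  exact (adequate A).prop_of_iso (kernelCompMono φ j)
    (adequate_kernel_to_underline F hF M₂ (φ ≫ j))

/-- the cokernel of a map of adequate functors is adequate -/
theorem adequate_cokernel {F G : MVF A} (φ : F ⟶ G) (hF : adequate A F) (hG : adequate A G) :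
    adequate A (cokernel φ) := by
  obtain ⟨M₂, N₂, φ₂, j, hj, hjex⟩ := (adequate_iff G).1 hG
  let b : F ⟶ (underline A).obj M₂ := φ ≫ j
  have hC : adequate A (cokernel b) := adequate_cokernel_to_underline F hF M₂ b
  have hjφ₂ : j ≫ (underline A).map φ₂ = 0 := by
    ext X y
    exact (hjex X.unop.unop _).2 ⟨y, rfl⟩
  have hbφ₂ : b ≫ (underline A).map φ₂ = 0 := by
    rw [Category.assoc, hjφ₂, comp_zero]
  let θ : cokernel b ⟶ (underline A).obj N₂ := cokernel.desc b ((underline A).map φ₂) hbφ₂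
  have hK : adequate A (kernel θ) := adequate_kernel_to_underline (cokernel b) hC N₂ θ
  let m : cokernel φ ⟶ cokernel b := cokernel.map φ b (𝟙 F) j (by rw [Category.id_comp])
  have hm : ∀ (B : Alg A) (y : G.obj (pt B)),
      m.app (pt B) ((cokernel.π φ).app (pt B) y) = (cokernel.π b).app (pt B) (j.app (pt B) y) := by
    intro B y
    rw [← PshMod.comp_app_apply, cokernel.π_desc]
    rfl
  have hθ : ∀ (B : Alg A) (x : B ⊗[A] M₂),
      θ.app (pt B) ((cokernel.π b).app (pt B) x) = ((underline A).map φ₂).app (pt B) x := by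
    intro B x
    rw [← PshMod.comp_app_apply, cokernel.π_desc]
  refine (adequate A).prop_of_iso (PshMod.isoKernel m θ (fun X => ?_) (fun X => ?_)).symm hK
  · let B : Alg A := X.unop.unop
    change Function.Injective (m.app (pt B))
    rw [injective_iff_map_eq_zero]
    intro z hz
    obtain ⟨y, rfl⟩ := PshMod.cokernel_π_surjective φ (pt B) z
    rw [hm] at hz
    obtain ⟨ξ, hξ⟩ := (PshMod.cokernel_π_exact b (pt B) _).1 hz
    have hy : y = φ.app (pt B) ξ := (hj B hξ).symm
    rw [hy, ← PshMod.comp_app_apply, cokernel.condition]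
    rfl
  · let B : Alg A := X.unop.unop
    change Function.Exact (m.app (pt B)) (θ.app (pt B))
    intro c
    constructor
    · intro hc
      obtain ⟨x, rfl⟩ := PshMod.cokernel_π_surjective b (pt B) c
      rw [hθ] at hc
      obtain ⟨y, rfl⟩ := (hjex B x).1 hc
      exact ⟨(cokernel.π φ).app (pt B) y, hm B y⟩
    · rintro ⟨z, rfl⟩
      obtain ⟨y, rfl⟩ := PshMod.cokernel_π_surjective φ (pt B) z
      rw [hm, hθ]
      exact (hjex B _).2 ⟨y, rfl⟩

end Groth.Agent.R2.H80.AdeqCoker
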