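import Groth.Agent.S8755
import Groth.Agent.R2.H80AdeqCoker

/-!
# Adequate modules on big sites: kernels (helper80)
-/

set_option autoImplicit false
universe u
open CategoryTheory Limits TensorProduct AlgebraicGeometry Opposite
open Adeq Groth.Agent.Helper13Adeq

namespace Groth.Agent.R2.H80.AdeqBigKer

variable (K : Precoverage Scheme.{u}) [BigSite.OSh K] {S : Scheme.{u}}

theorem kernel_sections {M N : BigSite.Mod K S} (φ : M ⟶ N) (X : (Over S)ᵒᵖ) :
    Function.Injective ((kernel.ι φ).val.app X) ∧
      Function.Exact ((kernel.ι φ).val.app X) (φ.val.app X) := by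
  let Sc : ShortComplex (BigSite.Mod K S) := ShortComplex.mk (kernel.ι φ) φ (kernel.condition φ)
  have hSc : Sc.Exact := ShortComplex.exact_of_f_is_kernel _ (kernelIsKernel φ)
  let F := SheafOfModules.evaluation (BigSite.ORing K S) X
  have : F.PreservesZeroMorphisms := ⟨fun _ _ => rfl⟩
  have h1 : (Sc.map F).Exact := hSc.map_of_mono_of_preservesKernel F inferInstance inferInstance
  have h2 : Mono (F.map (kernel.ι φ)) := inferInstance
  constructor
  · exact (ModuleCat.mono_iff_injective _).1 h2
  · rw [ShortComplex.ShortExact.moduleCat_exact_iff_function_exact] at h1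
    exact h1

theorem adequate_kernel_toMVF {M N : BigSite.Mod K S} (φ : M ⟶ N) {R : CommRingCat.{u}}
    (a : Spec R ⟶ S) (hM : adequate R ((toMVF K a).obj M)) (hN : adequate R ((toMVF K a).obj N)) :
    adequate R ((toMVF K a).obj (kernel φ)) := by
  refine (adequate R).prop_of_iso (PshMod.isoKernel ((toMVF K a).map (kernel.ι φ))
    ((toMVF K a).map φ) (fun X => ?_) (fun X => ?_)).symm
    (AdeqCoker.adequate_kernel ((toMVF K a).map φ) hM hN)
  · exact (kernel_sections K φ (op ((specOver a).obj (op X.unop.unop)))).1
  · exact (kernel_sections K φ (op ((specOver a).obj (op X.unop.unop)))).2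

end Groth.Agent.R2.H80.AdeqBigKer
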