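import Groth.Agent.S8755

/-!
# Adequate modules on big sites: pullback and descent along coverings (helper80)
-/

set_option autoImplicit false
universe u
open CategoryTheory Limits TensorProduct AlgebraicGeometry Opposite
open Adeq Groth.Agent.Helper13Adeq

namespace Groth.Agent.R2.H80.AdeqBigPull

open AdeqBig

variable (K : Precoverage Scheme.{u}) [BigSite.OSh K] {S T : Scheme.{u}} (f : T ⟶ S)
  {R : CommRingCat.{u}} (b : Spec R ⟶ T)

/-- comparison of objects of the big site of `S` -/
noncomputable def pullObj (B : Alg R) :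
    (Over.map f).obj ((specOver b).obj (op B)) ⟶ (specOver (b ≫ f)).obj (op B) :=
  overMkHom (Category.assoc _ _ _)

/-- inverse comparison -/
noncomputable def pullObjInv (B : Alg R) :
    (specOver (b ≫ f)).obj (op B) ⟶ (Over.map f).obj ((specOver b).obj (op B)) :=
  overMkHom (Category.assoc _ _ _).symm

theorem pullObj_inv (B : Alg R) : pullObj f b B ≫ pullObjInv f b B = 𝟙 _ :=
  (overMkHom_comp _ _).trans (overMkHom_refl _)

theorem pullObjInv_pullObj (B : Alg R) : pullObjInv f b B ≫ pullObj f b B = 𝟙 _ :=
  (overMkHom_comp _ _).trans (overMkHom_refl _)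

theorem pullObj_natural {B B' : Alg R} (g : B ⟶ B') :
    (Over.map f).map ((specOver b).map g.op) ≫ pullObj f b B =
      pullObj f b B' ≫ (specOver (b ≫ f)).map g.op := by
  apply Over.OverMorphism.ext
  have h1 : ((Over.map f).map ((specOver b).map g.op) ≫ pullObj f b B).left =
      Spec.map (CommRingCat.ofHom g.hom.toRingHom) ≫ 𝟙 _ := rfl
  have h2 : (pullObj f b B' ≫ (specOver (b ≫ f)).map g.op).left =
      𝟙 _ ≫ Spec.map (CommRingCat.ofHom g.hom.toRingHom) := rfl
  rw [h1, h2, Category.id_comp, Category.comp_id]

variable (M : BigSite.Mod K S)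

/-- the comparison morphism `F_{M, b ≫ f} ⟶ F_{f^* M, b}` -/
noncomputable def cmpPull :
    (toMVF K (b ≫ f)).obj M ⟶ (toMVF K b).obj ((BigSite.pullMod K f).obj M) :=
  PresheafOfModules.homMk
    { app := fun X => M.val.presheaf.map (pullObj f b X.unop.unop).op
      naturality := by
        intro X Y g
        change M.val.presheaf.map ((specOver (b ≫ f)).map g.unop).op ≫
            M.val.presheaf.map (pullObj f b Y.unop.unop).op =
          M.val.presheaf.map (pullObj f b X.unop.unop).op ≫
            M.val.presheaf.map ((Over.map f).map ((specOver b).map g.unop)).op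
        rw [← Functor.map_comp, ← Functor.map_comp, ← op_comp, ← op_comp]
        exact congrArg (fun t => M.val.presheaf.map t.op) (pullObj_natural f b g.unop.unop).symm }
    (by
      intro X r m
      have h := M.val.map_smul (pullObj f b X.unop.unop).op
        (toSect K (b ≫ f) X.unop.unop r) m
      refine h.trans ?_
      congr 1)

theorem cmpPull_app (B : Alg R) (x : ((toMVF K (b ≫ f)).obj M).obj (pt B)) :
    (cmpPull K f b M).app (pt B) x = M.val.map (pullObj f b B).op x := rfl

theorem cmpPull_bijective (B : Alg R) : Function.Bijective ((cmpPull K f b M).app (pt B)) := by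
  constructor
  · intro x y hxy
    rw [cmpPull_app, cmpPull_app] at hxy
    have h := congrArg (M.val.map (pullObjInv f b B).op) hxy
    have key : ∀ z : M.val.obj (op ((specOver (b ≫ f)).obj (op B))),
        M.val.map (pullObjInv f b B).op (M.val.map (pullObj f b B).op z) = z := by
      intro z
      rw [pmap_comp_apply, pmap_congr K M.val (pullObjInv_pullObj f b B), pmap_id_apply]
    rw [key, key] at h
    exact h
  · intro y
    refine ⟨M.val.map (pullObjInv f b B).op y, ?_⟩
    rw [cmpPull_app, pmap_comp_apply, pmap_congr K M.val (pullObj_inv f b B), pmap_id_apply]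

/-- `F_{f^* M, b} ≅ F_{M, b ≫ f}` -/
noncomputable def cmpPullIso :
    (toMVF K (b ≫ f)).obj M ≅ (toMVF K b).obj ((BigSite.pullMod K f).obj M) :=
  haveI : IsIso (cmpPull K f b M) :=
    PshMod.isIso_of_bijective _ (fun X => cmpPull_bijective K f b M X.unop.unop)
  asIso (cmpPull K f b M)

theorem adequate_pull_iff :
    adequate R ((toMVF K b).obj ((BigSite.pullMod K f).obj M)) ↔
      adequate R ((toMVF K (b ≫ f)).obj M) :=
  ⟨fun h => (adequate R).prop_of_iso (cmpPullIso K f b M).symm h,
    fun h => (adequate R).prop_of_iso (cmpPullIso K f b M) h⟩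

end Groth.Agent.R2.H80.AdeqBigPull
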