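import Groth.Agent.R2.H80AdeqColim
import Groth.Agent.Lib.Helper23PshModGroth

/-!
# The inclusion of adequate functors has a right adjoint; enough injectives (helper80)
-/

set_option autoImplicit false
universe u
open CategoryTheory Limits TensorProduct
open Adeq Groth.Agent.Helper13Adeq

namespace Groth.Agent.R2.H80.AdeqCorefl

variable (A : Type u) [CommRing A]

instance closedColim (J : Type (u + 1)) [SmallCategory J] :
    (adequate A).IsClosedUnderColimitsOfShape J :=
  ObjectProperty.IsClosedUnderColimitsOfShape.mk' (by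
    rintro _ ⟨F, hF⟩
    exact AdeqColim.adequate_colimit F hF)

instance closedKer : (adequate A).IsClosedUnderKernels where
  kernels_le := by
    rintro X ⟨f, k, hk, ⟨hX, hY⟩⟩
    exact (adequate A).prop_of_iso ((kernelIsKernel f).conePointUniqueUpToIso hk)
      (AdeqCoker.adequate_kernel f hX hY)

instance closedCoker : (adequate A).IsClosedUnderCokernels where
  cokernels_le := by
    rintro X ⟨f, k, hk, ⟨hX, hY⟩⟩
    exact (adequate A).prop_of_iso ((cokernelIsCokernel f).coconePointUniqueUpToIso hk)
      (AdeqCoker.adequate_cokernel f hX hY)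

instance containsZero : (adequate A).ContainsZero where
  exists_zero := by
    let M : ModuleCat.{u + 1} A := ModuleCat.of A PUnit
    refine ⟨kernel ((underline A).map (𝟙 M)), ?_, ⟨M, M, 𝟙 M, ⟨Iso.refl _⟩⟩⟩
    rw [(underline A).map_id]
    exact isZero_kernel_of_mono _

instance closedFinProd : (adequate A).IsClosedUnderFiniteProducts :=
  ObjectProperty.IsClosedUnderFiniteProducts.of_isClosedUnderLimitsOfShape.{u + 1}
    (fun J _ => ⟨by
      rintro X ⟨p⟩
      let f : J → MVF A := fun j => p.diag.obj ⟨j⟩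
      have : HasFiniteBiproducts (MVF A) := Abelian.hasFiniteBiproducts
      have : HasBiproductsOfShape J (MVF A) := hasBiproductsOfShape_finite (MVF A)
      have e1 : X ≅ ⨁ f :=
        IsLimit.conePointsIsoOfNatIso p.isLimit (biproduct.isLimit f) Discrete.natIsoFunctor
      have e2 : ⨁ f ≅ ∐ f := biproduct.isoCoproduct f
      exact (adequate A).prop_of_iso (e1 ≪≫ e2).symm
        (AdeqColim.adequate_sigma f (fun j => p.prop_diag_obj ⟨j⟩))⟩)

/-- standard finite free modules -/
noncomputable abbrev S (n : ℕ) : ModuleCat.{u + 1} A := ModuleCat.of A (ULift.{u + 1} (Fin n → A))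

/-- index type of the standard linearly adequate functors -/
abbrev Idx : Type (u + 1) := Σ (n m : ℕ), (S A n ⟶ S A m)

/-- the standard linearly adequate functors -/
noncomputable def Lstd (i : Idx A) : Adequate A :=
  ⟨kernel ((underline A).map i.2.2), ⟨_, _, i.2.2, ⟨Iso.refl _⟩⟩⟩

/-- the separating set -/
def P₀ : ObjectProperty (Adequate A) := ObjectProperty.ofObj (Lstd A)

instance : ObjectProperty.Small.{u + 1} (P₀ A) := by
  unfold P₀
  infer_instance

/-- a finite free module is isomorphic to a standard one -/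
theorem exists_iso_S [Nontrivial A] (M : ModuleCat.{u + 1} A) [Module.Finite A M] [Module.Free A M] :
    ∃ n : ℕ, Nonempty (M ≅ S A n) :=
  ⟨Module.finrank A M, ⟨(((Module.finBasis A M).equivFun).trans
    (ULift.moduleEquiv.{_, _, u + 1} (R := A) (M := Fin (Module.finrank A M) → A)).symm).toModuleIso⟩⟩

theorem isSeparating : (P₀ A).IsSeparating := by
  intro X Y f g h
  apply ObjectProperty.hom_ext
  ext Z ξ
  let B : Alg A := Z.unop.unop
  rcases subsingleton_or_nontrivial A with hA | hA
  · have : Subsingleton B := by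
      refine ⟨fun a b => ?_⟩
      have h01 : (0 : B) = 1 := by
        rw [← map_zero (algebraMap A B), ← map_one (algebraMap A B), Subsingleton.elim (0 : A) 1]
      rw [← mul_one a, ← mul_one b, ← h01, mul_zero, mul_zero]
    have : Subsingleton (Y.obj.obj (pt B)) := Module.subsingleton B _
    exact Subsingleton.elim (α := Y.obj.obj (pt B)) _ _
  obtain ⟨L, ψ, hL, η, hη⟩ := exists_linAdequate_hits X.obj X.property B ξ
  obtain ⟨M, N, φ, hMf, hMfree, hNf, hNfree, ⟨e⟩⟩ := hL
  obtain ⟨n, ⟨eM⟩⟩ := exists_iso_S A M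
  obtain ⟨m, ⟨eN⟩⟩ := exists_iso_S A N
  let φ' : S A n ⟶ S A m := eM.inv ≫ φ ≫ eN.hom
  have w : (underline A).map φ' ≫ ((underline A).mapIso eN.symm).hom =
      ((underline A).mapIso eM.symm).hom ≫ (underline A).map φ := by
    change (underline A).map φ' ≫ (underline A).map eN.inv =
      (underline A).map eM.inv ≫ (underline A).map φ
    rw [← Functor.map_comp, ← Functor.map_comp]
    congr 1
    simp [φ']
  let κ : kernel ((underline A).map φ') ≅ kernel ((underline A).map φ) :=
    kernel.mapIso _ _ ((underline A).mapIso eM.symm) ((underline A).mapIso eN.symm) w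
  let G : Adequate A := Lstd A ⟨n, m, φ'⟩
  let k : G ⟶ X := ObjectProperty.homMk (κ.hom ≫ e.inv ≫ ψ)
  have hk := h G (ObjectProperty.ofObj_apply _ _) k
  have hk' : (κ.hom ≫ e.inv ≫ ψ) ≫ f.hom = (κ.hom ≫ e.inv ≫ ψ) ≫ g.hom :=
    congrArg (fun t => t.hom) hk
  let η' := κ.inv.app (pt B) (e.hom.app (pt B) η)
  have h1 : (κ.hom ≫ e.inv ≫ ψ).app (pt B) η' = ξ := by
    change ψ.app (pt B) (e.inv.app (pt B) (κ.hom.app (pt B) (κ.inv.app (pt B) (e.hom.app (pt B) η)))) = ξ
    rw [PshMod.inv_hom_app_apply, PshMod.hom_inv_app_apply]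
    exact hη
  have h2 := congrArg (fun t => t.app (pt B) η') hk'
  change f.hom.app (pt B) ((κ.hom ≫ e.inv ≫ ψ).app (pt B) η') =
    g.hom.app (pt B) ((κ.hom ≫ e.inv ≫ ψ).app (pt B) η') at h2
  rw [h1] at h2
  exact h2

theorem isLeftAdjoint_ι : (adequate A).ι.IsLeftAdjoint := by
  have hcol : HasColimits (Adequate A) := ⟨fun J _ => inferInstance⟩
  have hpres : PreservesColimits (adequate A).ι := ⟨fun {J} _ => inferInstance⟩
  have hdet : (P₀ A).IsDetecting := (isSeparating A).isDetecting
  have hwp : WellPowered.{u + 1} (Adequate A) := wellPowered_of_isDetecting hdet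
  have hwpop : WellPowered.{u + 1} (Adequate A)ᵒᵖ := inferInstance
  exact isLeftAdjoint_of_preservesColimits_of_isSeparating (isSeparating A) _

theorem enoughInjectives : EnoughInjectives (Adequate A) := by
  have hla : (adequate A).ι.IsLeftAdjoint := isLeftAdjoint_ι A
  have hpm : (adequate A).ι.PreservesMonomorphisms :=
    (adequate A).preservesMonomorphisms_ι_of_isNormalEpiCategory
  have hei : EnoughInjectives (MVF A) :=
    Groth.Agent.Lib.Helper23PshModGroth.enoughInjectives (ringOf A)
  exact EnoughInjectives.of_adjunction (Adjunction.ofIsLeftAdjoint (adequate A).ι)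

end Groth.Agent.R2.H80.AdeqCorefl
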