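import Groth.Agent.R2.H80AdeqDescent
import Groth.Agent.R2.H80AdeqCorefl

/-!
# Descent of adequacy along a finite family of ring maps `A → A' j` (helper80)
-/

set_option autoImplicit false
universe u
open CategoryTheory Limits TensorProduct
open Adeq Groth.Agent.Helper13Adeq

namespace Groth.Agent.R2.H80.AdeqDescFam

variable {A : Type u} [CommRing A]

section Biproduct

instance hasBiproductsFin (n : ℕ) : HasBiproductsOfShape (Fin n) (MVF A) :=
  haveI : HasFiniteBiproducts (MVF A) := Abelian.hasFiniteBiproducts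
  HasFiniteBiproducts.out n

variable {n : ℕ} (G : Fin n → MVF A) (B : Alg A)

/-- evaluation of morphisms at an element, as an additive map -/
noncomputable def evalHom {M N : MVF A} (z : M.obj (pt B)) : (M ⟶ N) →+ N.obj (pt B) where
  toFun φ := φ.app (pt B) z
  map_zero' := rfl
  map_add' _ _ := rfl

theorem sum_app_apply {M N : MVF A} {ι : Type*} (s : Finset ι) (φ : ι → (M ⟶ N))
    (z : M.obj (pt B)) : (∑ j ∈ s, φ j).app (pt B) z = ∑ j ∈ s, (φ j).app (pt B) z :=
  map_sum (evalHom B z) φ s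

theorem total_apply (z : (⨁ G).obj (pt B)) :
    ∑ j, (biproduct.ι G j).app (pt B) ((biproduct.π G j).app (pt B) z) = z := by
  have h : (∑ j, biproduct.π G j ≫ biproduct.ι G j).app (pt B) z = (𝟙 (⨁ G) : _ ⟶ _).app (pt B) z :=
    congrArg (fun t => t.app (pt B) z) (biproduct.total (f := G))
  rw [sum_app_apply] at h
  exact h

theorem ext_apply (z z' : (⨁ G).obj (pt B))
    (h : ∀ j, (biproduct.π G j).app (pt B) z = (biproduct.π G j).app (pt B) z') : z = z' := by
  rw [← total_apply G B z, ← total_apply G B z']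
  exact Finset.sum_congr rfl (fun j _ => by rw [h j])

theorem lift_π_apply {F : MVF A} (φ : ∀ j, F ⟶ G j) (j : Fin n) (x : F.obj (pt B)) :
    (biproduct.π G j).app (pt B) ((biproduct.lift φ).app (pt B) x) = (φ j).app (pt B) x := by
  rw [← PshMod.comp_app_apply, biproduct.lift_π]

end Biproduct

section Main

open AdeqDescent

variable {n : ℕ} (A' : Fin n → Type u) [∀ j, CommRing (A' j)] [∀ j, Algebra A (A' j)]

/-- `B ↦ A' j ⊗ B` as an `A`-algebra -/
abbrev T (j : Fin n) (B : Alg A) : Alg A :=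
  (Alg.restr A (A' j)).obj ((Alg.baseChange A (A' j)).obj B)

theorem adequate_biproduct (G : Fin n → MVF A) (hG : ∀ j, adequate A (G j)) :
    adequate A (⨁ G) := by
  have := AdeqCorefl.closedFinProd A
  exact (adequate A).prop_of_isLimit_fan (biproduct.isLimit G) hG

theorem adequate_of_restr_family (F : MVF A)
    (h₁ : ∀ j, adequate (A' j) ((restr A (A' j)).obj F))
    (h₂ : ∀ B : Alg A,
      (∀ x : F.obj (pt B), (∀ j, F.map (ptHom (Alg.unit A (A' j) B)) x = 0) → x = 0) ∧
      ∀ y : ∀ j, F.obj (pt (T A' j B)),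
        (∀ j k, F.map (ptHom (Alg.unit A (A' k) (T A' j B))) (y j) =
          F.map (ptHom ((Alg.restr A (A' k)).map
            ((Alg.baseChange A (A' k)).map (Alg.unit A (A' j) B)))) (y k)) →
        ∃ x : F.obj (pt B), ∀ j, F.map (ptHom (Alg.unit A (A' j) B)) x = y j) :
    adequate A F := by
  let G₁ : Fin n → MVF A := fun j => (push A (A' j)).obj ((restr A (A' j)).obj F)
  have hG₁ : ∀ j, adequate A (G₁ j) := fun j => AdeqPush.adequate_push _ (h₁ j)
  let G₂ : Fin n → Fin n → MVF A := fun j k =>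
    (push A (A' j)).obj ((restr A (A' j)).obj (G₁ k))
  have hG₂ : ∀ j k, adequate A (G₂ j k) := fun j k =>
    AdeqPush.adequate_push _ (AdeqRestr.adequate_restr _ (hG₁ k))
  let d₀ : ∀ j k, G₁ k ⟶ G₂ j k := fun j k => unitHom (A' := A' j) (G₁ k)
  let d₁ : ∀ j k, G₁ j ⟶ G₂ j k := fun j k =>
    (push A (A' j)).map ((restr A (A' j)).map (unitHom (A' := A' k) F))
  have hd₀ : ∀ (j k : Fin n) (B : Alg A) (y : (G₁ k).obj (pt B)), (d₀ j k).app (pt B) y =
      F.map (ptHom ((Alg.restr A (A' k)).map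
        ((Alg.baseChange A (A' k)).map (Alg.unit A (A' j) B)))) y :=
    fun j k B y => rfl
  have hd₁ : ∀ (j k : Fin n) (B : Alg A) (y : (G₁ j).obj (pt B)), (d₁ j k).app (pt B) y =
      F.map (ptHom (Alg.unit A (A' k) (T A' j B))) y :=
    fun j k B y => rfl
  let u : F ⟶ ⨁ G₁ := biproduct.lift (fun j => unitHom (A' := A' j) F)
  have hu : ∀ (B : Alg A) (x : F.obj (pt B)) (j : Fin n),
      (biproduct.π G₁ j).app (pt B) (u.app (pt B) x) = F.map (ptHom (Alg.unit A (A' j) B)) x :=
    fun B x j => lift_π_apply G₁ B _ j x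
  let c : ∀ j k, ⨁ G₁ ⟶ G₂ j k := fun j k =>
    biproduct.π G₁ j ≫ d₁ j k - biproduct.π G₁ k ≫ d₀ j k
  have hc : ∀ (j k : Fin n) (B : Alg A) (z : (⨁ G₁).obj (pt B)), (c j k).app (pt B) z =
      (d₁ j k).app (pt B) ((biproduct.π G₁ j).app (pt B) z) -
        (d₀ j k).app (pt B) ((biproduct.π G₁ k).app (pt B) z) :=
    fun j k B z => rfl
  let d : ⨁ G₁ ⟶ ⨁ (fun j => ⨁ (G₂ j)) :=
    biproduct.lift (fun j => biproduct.lift (fun k => c j k))
  have hd : ∀ (B : Alg A) (z : (⨁ G₁).obj (pt B)) (j k : Fin n),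
      (biproduct.π (G₂ j) k).app (pt B)
        ((biproduct.π (fun j => ⨁ (G₂ j)) j).app (pt B) (d.app (pt B) z)) =
      (c j k).app (pt B) z := by
    intro B z j k
    rw [lift_π_apply, lift_π_apply]
  have hT : adequate A (⨁ (fun j => ⨁ (G₂ j))) :=
    adequate_biproduct _ (fun j => adequate_biproduct _ (hG₂ j))
  have hK := AdeqCoker.adequate_kernel d (adequate_biproduct _ hG₁) hT
  refine (adequate A).prop_of_iso (PshMod.isoKernel u d (fun X => ?_) (fun X => ?_)).symm hK
  · let B : Alg A := X.unop.unop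
    change Function.Injective (u.app (pt B))
    rw [injective_iff_map_eq_zero]
    intro x hx
    refine (h₂ B).1 x (fun j => ?_)
    rw [← hu, hx, map_zero]
    rfl
  · let B : Alg A := X.unop.unop
    change Function.Exact (u.app (pt B)) (d.app (pt B))
    intro z
    constructor
    · intro hz
      have hz' : ∀ j k, (c j k).app (pt B) z = 0 := by
        intro j k
        rw [← hd, hz, map_zero, map_zero]
      obtain ⟨x, hx⟩ := (h₂ B).2 (fun j => (biproduct.π G₁ j).app (pt B) z) (fun j k => by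
        have := hz' j k
        rw [hc, sub_eq_zero, hd₁, hd₀] at this
        exact this)
      refine ⟨x, ext_apply G₁ B _ _ (fun j => ?_)⟩
      rw [hu, hx]
    · rintro ⟨x, rfl⟩
      apply ext_apply _ B
      intro j
      apply ext_apply _ B
      intro k
      rw [hd, hc, hu, hu, map_zero, map_zero, sub_eq_zero, hd₁, hd₀]
      change mapEl F (Alg.unit A (A' k) (T A' j B)) (mapEl F (Alg.unit A (A' j) B) x) =
        mapEl F ((Alg.restr A (A' k)).map ((Alg.baseChange A (A' k)).map (Alg.unit A (A' j) B)))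
          (mapEl F (Alg.unit A (A' k) B) x)
      rw [← mapEl_comp, ← mapEl_comp, unit_naturality]

end Main

end Groth.Agent.R2.H80.AdeqDescFam
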