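import Groth.Agent.Lib.Helper13AdeqD
import Groth.Agent.Lib.Helper22Amitsur

/-!
# Faithfully flat descent for the values of an adequate functor (helper80)
-/

set_option autoImplicit false
universe u
open CategoryTheory Limits TensorProduct
open Adeq Groth.Agent.Helper13Adeq

namespace Groth.Agent.R2.H80.AdeqFF

section Alg

variable {A : Type u} [CommRing A] (B : Type u) [CommRing B] [Algebra A B]
  (M : Type*) [AddCommGroup M] [Module A M]

theorem rTensor_ofId_eq :
    (Algebra.ofId A B).toLinearMap.rTensor M =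
      (TensorProduct.mk A B M 1) ∘ₗ (TensorProduct.lid A M).toLinearMap := by
  apply TensorProduct.ext'
  intro a m
  simp only [LinearMap.rTensor_tmul, AlgHom.toLinearMap_apply, Algebra.ofId_apply,
    LinearMap.comp_apply, LinearEquiv.coe_coe, TensorProduct.lid_tmul, TensorProduct.mk_apply]
  rw [Algebra.algebraMap_eq_smul_one, TensorProduct.smul_tmul, TensorProduct.tmul_smul]

theorem rTensor_ofId_injective [Module.FaithfullyFlat A B] :
    Function.Injective ((Algebra.ofId A B).toLinearMap.rTensor M) := by
  rw [rTensor_ofId_eq]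
  exact (Module.FaithfullyFlat.tensorProduct_mk_injective (A := A) (B := B) M).comp
    (TensorProduct.lid A M).injective

theorem exists_of_rTensor_eq [Module.FaithfullyFlat A B] (z : B ⊗[A] M)
    (h : (Algebra.TensorProduct.includeLeft : B →ₐ[A] B ⊗[A] B).toLinearMap.rTensor M z =
      (Algebra.TensorProduct.includeRight : B →ₐ[A] B ⊗[A] B).toLinearMap.rTensor M z) :
    ∃ w : A ⊗[A] M, (Algebra.ofId A B).toLinearMap.rTensor M w = z := by
  have e1 : (TensorProduct.assoc A B B M).toLinearMap ∘ₗ
      (LinearMap.rTensor M (Algebra.TensorProduct.includeLeft : B →ₐ[A] B ⊗[A] B).toLinearMap) =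
      (TensorProduct.mk A B M 1).lTensor B := by
    ext a n
    simp
  have e2 : (TensorProduct.assoc A B B M).toLinearMap ∘ₗ
      (LinearMap.rTensor M (Algebra.TensorProduct.includeRight : B →ₐ[A] B ⊗[A] B).toLinearMap) =
      TensorProduct.mk A B (B ⊗[A] M) 1 := by
    ext a n
    simp
  have hz : z ∈ LinearMap.range (TensorProduct.mk A B M 1) := by
    apply Groth.Agent.Lib.Helper22.amitsur_mem_range
    rw [← e1, ← e2, LinearMap.comp_apply, LinearMap.comp_apply, h]
  obtain ⟨m, hm⟩ := hz
  refine ⟨(TensorProduct.lid A M).symm m, ?_⟩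
  rw [rTensor_ofId_eq, LinearMap.comp_apply, LinearEquiv.coe_coe, LinearEquiv.apply_symm_apply, hm]

end Alg

section Descent

variable {A : Type u} [CommRing A]

theorem i_natural {F : MVF A} {M : ModuleCat.{u + 1} A} (i : F ⟶ (underline A).obj M)
    {C C' : Alg A} (f : C ⟶ C') (x : F.obj (pt C)) :
    i.app (pt C') (F.map (ptHom f) x) = (f.hom.toLinearMap.rTensor M) (i.app (pt C) x) := by
  have h := app_mapEl i f x
  rw [underline_mapEl] at h
  exact h

theorem underline_natural {M N : ModuleCat.{u + 1} A} (φ : M ⟶ N) {C C' : Alg A} (f : C ⟶ C')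
    (x : C ⊗[A] M) :
    ((underline A).map φ).app (pt C') ((f.hom.toLinearMap.rTensor M) x) =
      (f.hom.toLinearMap.rTensor N) (((underline A).map φ).app (pt C) x) := by
  have h := app_mapEl ((underline A).map φ) f x
  rw [underline_mapEl, underline_mapEl] at h
  exact h

/-- faithfully flat descent for the values of an adequate functor, first two terms -/
theorem ff_descent (F : MVF A) (hF : adequate A F) (B : Type u) [CommRing B] [Algebra A B]
    [Module.FaithfullyFlat A B] :
    Function.Injective (F.map
        (ptHom (CommAlgCat.ofHom (Algebra.ofId A B) : algOf A A ⟶ algOf A B))) ∧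
      ∀ y : F.obj (pt (algOf A B)),
        F.map (ptHom (CommAlgCat.ofHom
            (Algebra.TensorProduct.includeLeft : B →ₐ[A] B ⊗[A] B) :
              algOf A B ⟶ algOf A (B ⊗[A] B))) y =
          F.map (ptHom (CommAlgCat.ofHom
            (Algebra.TensorProduct.includeRight : B →ₐ[A] B ⊗[A] B) :
              algOf A B ⟶ algOf A (B ⊗[A] B))) y →
        y ∈ Set.range (F.map
          (ptHom (CommAlgCat.ofHom (Algebra.ofId A B) : algOf A A ⟶ algOf A B))) := by
  obtain ⟨M₁, N₁, φ₁, i, hi, hiex⟩ := (adequate_iff F).1 hF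
  let e : algOf A A ⟶ algOf A B := CommAlgCat.ofHom (Algebra.ofId A B)
  let l : algOf A B ⟶ algOf A (B ⊗[A] B) := CommAlgCat.ofHom
    (Algebra.TensorProduct.includeLeft : B →ₐ[A] B ⊗[A] B)
  let r : algOf A B ⟶ algOf A (B ⊗[A] B) := CommAlgCat.ofHom
    (Algebra.TensorProduct.includeRight : B →ₐ[A] B ⊗[A] B)
  constructor
  · intro x x' hxx'
    apply hi (algOf A A)
    apply rTensor_ofId_injective B M₁
    have h1 := i_natural i e x
    have h2 := i_natural i e x'
    rw [hxx'] at h1
    exact h1.symm.trans h2
  · intro y hy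
    have h1 := i_natural i l y
    have h2 := i_natural i r y
    rw [hy] at h1
    obtain ⟨w, hw⟩ := exists_of_rTensor_eq B M₁ (i.app (pt (algOf A B)) y) (h1.symm.trans h2)
    have hw0 : ((underline A).map φ₁).app (pt (algOf A A)) w = 0 := by
      apply rTensor_ofId_injective B N₁
      have h3 := underline_natural φ₁ e w
      have h5 : ((underline A).map φ₁).app (pt (algOf A B)) (i.app (pt (algOf A B)) y) = 0 :=
        (hiex (algOf A B) _).2 ⟨y, rfl⟩
      have h4 : (e.hom.toLinearMap.rTensor M₁) w = i.app (pt (algOf A B)) y := hw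
      rw [h4, h5] at h3
      exact h3.symm.trans (map_zero ((Algebra.ofId A B).toLinearMap.rTensor N₁)).symm
    obtain ⟨x, hx⟩ := (hiex (algOf A A) w).1 hw0
    refine ⟨x, hi (algOf A B) ?_⟩
    rw [i_natural i e x, hx]
    exact hw

end Descent

end Groth.Agent.R2.H80.AdeqFF
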