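import Groth.Agent.R2.H80AmitsurFam
import Groth.Agent.R2.H80AdeqFF
import Groth.Agent.R2.H80AdeqDescFam

/-!
# Descent for the values of an adequate functor along a finite jointly faithfully flat family
(helper80)
-/

set_option autoImplicit false
universe u
open CategoryTheory Limits TensorProduct
open Adeq Groth.Agent.Helper13Adeq

namespace Groth.Agent.R2.H80.AdeqFam

open AdeqDescFam (T)
open AdeqFF (i_natural underline_natural)

variable {A : Type u} [CommRing A]

section Generic

variable {n : ℕ} (A' : Fin n → Type u) [∀ j, CommRing (A' j)] [∀ j, Algebra A (A' j)]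
  (B : Alg A) (C : Fin n → Alg A) (D : Fin n → Fin n → Alg A)
  (g : ∀ j, C j ≃ₗ[A] A' j ⊗[A] B) (h : ∀ j k, D j k ≃ₗ[A] A' k ⊗[A] (A' j ⊗[A] B))
  (uu : ∀ j, B ⟶ C j) (ll : ∀ j k, C j ⟶ D j k) (rr : ∀ j k, C k ⟶ D j k)

variable (M : Type (u + 1)) [AddCommGroup M] [Module A M]

/-- `C j ⊗ M ≃ A' j ⊗ (B ⊗ M)` -/
noncomputable def Ψ (j : Fin n) : (C j) ⊗[A] M ≃ₗ[A] A' j ⊗[A] (B ⊗[A] M) :=
  (TensorProduct.congr (g j) (LinearEquiv.refl A M)) ≪≫ₗ TensorProduct.assoc A (A' j) B M

/-- `D j k ⊗ M ≃ A' k ⊗ (A' j ⊗ (B ⊗ M))` -/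
noncomputable def Φ (j k : Fin n) :
    (D j k) ⊗[A] M ≃ₗ[A] A' k ⊗[A] (A' j ⊗[A] (B ⊗[A] M)) :=
  (TensorProduct.congr (h j k) (LinearEquiv.refl A M)) ≪≫ₗ
    TensorProduct.assoc A (A' k) (A' j ⊗[A] B) M ≪≫ₗ
      TensorProduct.congr (LinearEquiv.refl A (A' k)) (TensorProduct.assoc A (A' j) B M)

theorem Ψ_tmul (j : Fin n) (c : C j) (m : M) :
    Ψ A' B C g M j (c ⊗ₜ[A] m) = TensorProduct.assoc A (A' j) B M ((g j c) ⊗ₜ[A] m) := by
  simp only [Ψ, LinearEquiv.trans_apply, TensorProduct.congr_tmul, LinearEquiv.refl_apply]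

theorem Φ_tmul (j k : Fin n) (d : D j k) (m : M) :
    Φ A' B D h M j k (d ⊗ₜ[A] m) =
      TensorProduct.congr (LinearEquiv.refl A (A' k)) (TensorProduct.assoc A (A' j) B M)
        (TensorProduct.assoc A (A' k) (A' j ⊗[A] B) M ((h j k d) ⊗ₜ[A] m)) := by
  simp only [Φ, LinearEquiv.trans_apply, TensorProduct.congr_tmul, LinearEquiv.refl_apply]

variable (hu : ∀ j (b : B), g j ((uu j).hom b) = (1 : A' j) ⊗ₜ[A] b)
  (hl : ∀ j k (c : C j), h j k ((ll j k).hom c) = (1 : A' k) ⊗ₜ[A] (g j c))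
  (hr : ∀ j k (c : C k), h j k ((rr j k).hom c) =
    (TensorProduct.mk A (A' j) B 1).lTensor (A' k) (g k c))

include hu in
theorem t1 (j : Fin n) (x : B ⊗[A] M) :
    Ψ A' B C g M j ((uu j).hom.toLinearMap.rTensor M x) = (1 : A' j) ⊗ₜ[A] x := by
  induction x using TensorProduct.induction_on with
  | zero => simp
  | tmul b m =>
    rw [LinearMap.rTensor_tmul, Ψ_tmul, AlgHom.toLinearMap_apply, hu, TensorProduct.assoc_tmul]
  | add x y hx hy => rw [map_add, map_add, hx, hy, TensorProduct.tmul_add]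

include hl in
theorem t2 (j k : Fin n) (x : (C j) ⊗[A] M) :
    Φ A' B D h M j k ((ll j k).hom.toLinearMap.rTensor M x) =
      (1 : A' k) ⊗ₜ[A] (Ψ A' B C g M j x) := by
  induction x using TensorProduct.induction_on with
  | zero => simp
  | tmul c m =>
    rw [LinearMap.rTensor_tmul, Φ_tmul, AlgHom.toLinearMap_apply, hl, TensorProduct.assoc_tmul,
      TensorProduct.congr_tmul, LinearEquiv.refl_apply, Ψ_tmul]
  | add x y hx hy => rw [map_add, map_add, hx, hy, map_add, TensorProduct.tmul_add]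

theorem t3_aux (j k : Fin n) (y : A' k ⊗[A] B) (m : M) :
    TensorProduct.congr (LinearEquiv.refl A (A' k)) (TensorProduct.assoc A (A' j) B M)
        (TensorProduct.assoc A (A' k) (A' j ⊗[A] B) M
          (((TensorProduct.mk A (A' j) B 1).lTensor (A' k) y) ⊗ₜ[A] m)) =
      (TensorProduct.mk A (A' j) (B ⊗[A] M) 1).lTensor (A' k)
        (TensorProduct.assoc A (A' k) B M (y ⊗ₜ[A] m)) := by
  induction y using TensorProduct.induction_on with
  | zero => simp
  | tmul a b =>
    simp only [LinearMap.lTensor_tmul, TensorProduct.mk_apply, TensorProduct.assoc_tmul,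
      TensorProduct.congr_tmul, LinearEquiv.refl_apply]
  | add x y hx hy =>
    rw [map_add, TensorProduct.add_tmul, map_add, map_add, hx, hy, TensorProduct.add_tmul,
      map_add, map_add]

include hr in
theorem t3 (j k : Fin n) (x : (C k) ⊗[A] M) :
    Φ A' B D h M j k ((rr j k).hom.toLinearMap.rTensor M x) =
      (TensorProduct.mk A (A' j) (B ⊗[A] M) 1).lTensor (A' k) (Ψ A' B C g M k x) := by
  induction x using TensorProduct.induction_on with
  | zero => simp
  | tmul c m =>
    rw [LinearMap.rTensor_tmul, Φ_tmul, AlgHom.toLinearMap_apply, hr, t3_aux, Ψ_tmul]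
  | add x y hx hy => rw [map_add, map_add, hx, hy, map_add, map_add]

variable [Module.FaithfullyFlat A (∀ j, A' j)]

include hu in
theorem sepM (w : B ⊗[A] M) (hw : ∀ j, (uu j).hom.toLinearMap.rTensor M w = 0) : w = 0 := by
  apply AmitsurFam.fam_mk_injective (R := A) A' (B ⊗[A] M)
  intro j
  rw [← t1 A' B C g uu M hu j w, hw j, map_zero]

include hu hl hr in
/-- descent for the values of an adequate functor, for a diagram identified with the
standard one -/
theorem adequate_descent_generic (F : MVF A) (hF : adequate A F) :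
    (∀ x : F.obj (pt B), (∀ j, F.map (ptHom (uu j)) x = 0) → x = 0) ∧
    ∀ y : ∀ j, F.obj (pt (C j)),
      (∀ j k, F.map (ptHom (ll j k)) (y j) = F.map (ptHom (rr j k)) (y k)) →
      ∃ x : F.obj (pt B), ∀ j, F.map (ptHom (uu j)) x = y j := by
  obtain ⟨M₁, N₁, φ₁, i, hi, hiex⟩ := (adequate_iff F).1 hF
  constructor
  · intro x hx
    apply hi B
    refine Eq.trans ?_ (map_zero (i.app (pt B)).hom).symm
    apply sepM A' B C g uu M₁ hu
    intro j
    have h1 := i_natural i (uu j) x
    rw [← h1, hx j]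
    exact map_zero (i.app (pt (C j))).hom
  · intro y hy
    have hz : ∀ j k, (1 : A' k) ⊗ₜ[A] (Ψ A' B C g M₁ j (i.app (pt (C j)) (y j))) =
        (TensorProduct.mk A (A' j) (B ⊗[A] M₁) 1).lTensor (A' k)
          (Ψ A' B C g M₁ k (i.app (pt (C k)) (y k))) := by
      intro j k
      have h1 := i_natural i (ll j k) (y j)
      have h2 := i_natural i (rr j k) (y k)
      rw [hy j k] at h1
      rw [← t2 A' B C D g h ll M₁ hl j k, ← t3 A' B C D g h rr M₁ hr j k, ← h1, ← h2]
    obtain ⟨w, hw⟩ := AmitsurFam.fam_glue (R := A) A' (B ⊗[A] M₁)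
      (fun j => Ψ A' B C g M₁ j (i.app (pt (C j)) (y j))) (fun j k => (hz k j).symm)
    have hyw : ∀ j, i.app (pt (C j)) (y j) = (uu j).hom.toLinearMap.rTensor M₁ w := by
      intro j
      apply (Ψ A' B C g M₁ j).injective
      rw [t1 A' B C g uu M₁ hu j w]
      exact hw j
    have hw0 : ((underline A).map φ₁).app (pt B) w = 0 := by
      apply sepM A' B C g uu N₁ hu
      intro j
      have h3 := underline_natural φ₁ (uu j) w
      rw [← h3, ← hyw j]
      exact (hiex (C j) _).2 ⟨y j, rfl⟩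
    obtain ⟨x, hx⟩ := (hiex B w).1 hw0
    refine ⟨x, fun j => hi (C j) ?_⟩
    rw [i_natural i (uu j) x, hx]
    exact (hyw j).symm

end Generic

section Single

variable (A₁ : Type u) [CommRing A₁] [Algebra A A₁]

/-- `A₁ ⊗ B` as an `A`-algebra, through `A₁`; not reducible, so that the instances found on it are
the ones of the bundled algebra -/
noncomputable def T1 (B : Alg A) : Alg A := (Alg.restr A A₁).obj ((Alg.baseChange A A₁).obj B)

/-- the identity, as a linear equivalence from `A₁ ⊗ B` with the restricted structure -/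
noncomputable def γ (B : Alg A) : T1 A₁ B ≃ₗ[A] (A₁ ⊗[A] B) where
  toFun x := x
  invFun x := x
  map_add' _ _ := rfl
  map_smul' r x := by
    refine (Algebra.smul_def r x).trans ?_
    exact (Algebra.smul_def r (show A₁ ⊗[A] B from x)).symm
  left_inv _ := rfl
  right_inv _ := rfl

theorem γ_apply (B : Alg A) (x : T1 A₁ B) : γ A₁ B x = (show A₁ ⊗[A] B from x) := rfl

end Single

section Family

variable {n : ℕ} (A' : Fin n → Type u) [∀ j, CommRing (A' j)] [∀ j, Algebra A (A' j)]

/-- identification of the double overlap -/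
noncomputable def δ (B : Alg A) (j k : Fin n) :
    T1 (A' k) (T1 (A' j) B) ≃ₗ[A] A' k ⊗[A] (A' j ⊗[A] B) :=
  (γ (A' k) (T1 (A' j) B)) ≪≫ₗ TensorProduct.congr (LinearEquiv.refl A (A' k)) (γ (A' j) B)

theorem hu (B : Alg A) (j : Fin n) (b : B) :
    γ (A' j) B ((show B ⟶ T1 (A' j) B from Alg.unit A (A' j) B).hom b) = (1 : A' j) ⊗ₜ[A] b := rfl

theorem hl (B : Alg A) (j k : Fin n) (c : T1 (A' j) B) :
    δ A' B j k ((show T1 (A' j) B ⟶ T1 (A' k) (T1 (A' j) B) from
      Alg.unit A (A' k) (T1 (A' j) B)).hom c) = (1 : A' k) ⊗ₜ[A] (γ (A' j) B c) := by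
  rw [δ, LinearEquiv.trans_apply]
  exact TensorProduct.congr_tmul _ _ _ _

theorem hr (B : Alg A) (j k : Fin n) (c : T1 (A' k) B) :
    δ A' B j k ((show T1 (A' k) B ⟶ T1 (A' k) (T1 (A' j) B) from
      (Alg.restr A (A' k)).map ((Alg.baseChange A (A' k)).map (Alg.unit A (A' j) B))).hom c) =
      (TensorProduct.mk A (A' j) B 1).lTensor (A' k) (γ (A' k) B c) := by
  rw [δ, LinearEquiv.trans_apply]
  have key : ∀ y : A' k ⊗[A] B,
      TensorProduct.congr (LinearEquiv.refl A (A' k)) (γ (A' j) B)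
        (Algebra.TensorProduct.map (AlgHom.id (A' k) (A' k))
          (show B ⟶ T1 (A' j) B from Alg.unit A (A' j) B).hom y) =
        (TensorProduct.mk A (A' j) B 1).lTensor (A' k) y := by
    intro y
    induction y using TensorProduct.induction_on with
    | zero => simp
    | tmul a b =>
      rw [Algebra.TensorProduct.map_tmul, TensorProduct.congr_tmul, LinearMap.lTensor_tmul]
      rfl
    | add x y hx hy => rw [map_add, map_add, hx, hy, map_add]
  exact key c

variable [Module.FaithfullyFlat A (∀ j, A' j)]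

/-- descent for the values of an adequate functor along a finite jointly faithfully flat family -/
theorem adequate_descent (F : MVF A) (hF : adequate A F) (B : Alg A) :
    (∀ x : F.obj (pt B), (∀ j, F.map (ptHom (Alg.unit A (A' j) B)) x = 0) → x = 0) ∧
      ∀ y : ∀ j, F.obj (pt (T A' j B)),
        (∀ j k, F.map (ptHom (Alg.unit A (A' k) (T A' j B))) (y j) =
          F.map (ptHom ((Alg.restr A (A' k)).map
            ((Alg.baseChange A (A' k)).map (Alg.unit A (A' j) B)))) (y k)) →
        ∃ x : F.obj (pt B), ∀ j, F.map (ptHom (Alg.unit A (A' j) B)) x = y j :=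
  adequate_descent_generic A' B (fun j => T1 (A' j) B) (fun j k => T1 (A' k) (T1 (A' j) B))
    (fun j => γ (A' j) B) (fun j k => δ A' B j k)
    (fun j => Alg.unit A (A' j) B) (fun j k => Alg.unit A (A' k) (T1 (A' j) B))
    (fun j k => (Alg.restr A (A' k)).map ((Alg.baseChange A (A' k)).map (Alg.unit A (A' j) B)))
    (fun j b => hu A' B j b) (fun j k c => hl A' B j k c) (fun j k c => hr A' B j k c) F hF

end Family

end Groth.Agent.R2.H80.AdeqFam
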