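import Groth.Agent.R2.H80AdeqBigMain
import Groth.Agent.R2.H80AdeqFam

/-!
# Adequate modules on big sites: refinement of a covering sieve of an affine object (helper80)
-/

set_option autoImplicit false
universe u
open CategoryTheory Limits TensorProduct AlgebraicGeometry Opposite
open Adeq Groth.Agent.Helper13Adeq

namespace Groth.Agent.R2.H80.AdeqBigRefine

open AdeqDescFam (T)
open AdeqBigSheaf (Xo πo incL incR ringHomOf)

section FF

variable {R : Type u} [CommRing R] {n : ℕ} (A' : Fin n → Type u) [∀ j, CommRing (A' j)]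
  [∀ j, Algebra R (A' j)]

theorem ff_pi (hflat : ∀ j, Module.Flat R (A' j))
    (hsurj : ∀ p : PrimeSpectrum R, ∃ (j : Fin n) (q : PrimeSpectrum (A' j)),
      PrimeSpectrum.comap (algebraMap R (A' j)) q = p) :
    Module.FaithfullyFlat R (∀ j, A' j) := by
  have : Module.Flat R (∀ j, A' j) :=
    Module.Flat.of_linearEquiv (DirectSum.linearEquivFunOnFintype R (Fin n) A').symm
  apply Module.FaithfullyFlat.of_comap_surjective
  intro p
  obtain ⟨j, q, hq⟩ := hsurj p
  refine ⟨PrimeSpectrum.comap (Pi.evalRingHom A' j) q, ?_⟩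
  rw [← hq]
  rfl

end FF

section Cov

variable {P : MorphismProperty Scheme.{u}}

theorem ff_of_cov (hPflat : P ≤ @Flat) (R : CommRingCat.{u}) {n : ℕ} (A' : Fin n → Type u)
    [∀ j, CommRing (A' j)] [∀ j, Algebra R (A' j)]
    (hcov : Presieve.ofArrows (fun j => Spec (CommRingCat.of (A' j)))
      (fun j => Spec.map (CommRingCat.ofHom (algebraMap R (A' j)))) ∈
        (Scheme.precoverage P).coverings (Spec R)) :
    Module.FaithfullyFlat R (∀ j, A' j) := by
  rw [Scheme.ofArrows_mem_precoverage_iff] at hcov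
  obtain ⟨hs, hp⟩ := hcov
  apply ff_pi
  · intro j
    have h1 := Flat.SpecMap_iff.1 (hPflat _ (hp j))
    exact RingHom.flat_algebraMap_iff.1 h1
  · intro p
    obtain ⟨j, q, hq⟩ := hs p
    exact ⟨j, q, hq⟩

end Cov

section Refine

theorem sieve_mem_iff_left {S : Scheme.{u}} {U : Over S} (Tsv : Sieve U) {Z : Over S}
    (f : Z ⟶ U) : Tsv.arrows f ↔ (Sieve.overEquiv U Tsv).arrows f.left := by
  have h : Tsv = (Sieve.overEquiv U).symm (Sieve.overEquiv U Tsv) :=
    ((Sieve.overEquiv U).symm_apply_apply Tsv).symm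
  conv_lhs => rw [h]
  exact Sieve.overEquiv_symm_iff _ _

theorem incR_eq {R : CommRingCat.{u}} {n : ℕ} (A' : Fin n → Type u) [∀ j, CommRing (A' j)]
    [∀ j, Algebra R (A' j)] (j : Fin n) (B : Alg R) :
    CommRingCat.ofHom (algebraMap R B) ≫ incR A' j B =
      CommRingCat.ofHom (algebraMap R (A' j)) ≫ incL A' j B := by
  ext r
  change (1 : A' j) ⊗ₜ[R] (algebraMap R B r) = (algebraMap R (A' j) r) ⊗ₜ[R] (1 : B)
  rw [Algebra.algebraMap_eq_smul_one (A := B) r, Algebra.algebraMap_eq_smul_one (A := A' j) r,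
    TensorProduct.tmul_smul, TensorProduct.smul_tmul']

theorem incR_factor {R : CommRingCat.{u}} {n : ℕ} (A' : Fin n → Type u) [∀ j, CommRing (A' j)]
    [∀ j, Algebra R (A' j)] (j : Fin n) :
    Spec.map (incR A' j (algOf R R)) =
      Spec.map (incL A' j (algOf R R)) ≫ Spec.map (CommRingCat.ofHom (algebraMap R (A' j))) := by
  rw [← Spec.map_comp]
  congr 1
  ext r
  change (1 : A' j) ⊗ₜ[R] (r : R) = (algebraMap R (A' j) r) ⊗ₜ[R] (1 : R)
  rw [Algebra.algebraMap_eq_smul_one (A := A' j) r, TensorProduct.smul_tmul, smul_eq_mul, mul_one]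

variable {P : MorphismProperty Scheme.{u}} [P.IsStableUnderBaseChange]
  [P.IsStableUnderComposition] [P.ContainsIdentities]
  [Scheme.IsJointlySurjectivePreserving P] [P.RespectsLeft @IsOpenImmersion]

/-- a covering sieve of an affine object contains a finite affine covering family -/
theorem exists_family (hP : ∀ {X Y : Scheme.{u}} (f : X ⟶ Y), P f → IsOpenMap f.base)
    {S : Scheme.{u}} (R : CommRingCat.{u}) (a : Spec R ⟶ S)
    (Tsv : Sieve ((specOver a).obj (op (algOf R R))))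
    (hT : Tsv ∈ QuotSh.J (Scheme.precoverage P) S ((specOver a).obj (op (algOf R R)))) :
    ∃ (n : ℕ) (A' : Fin n → Type u) (_ : ∀ j, CommRing (A' j)) (_ : ∀ j, Algebra R (A' j)),
      Presieve.ofArrows (fun j => Spec (CommRingCat.of (A' j)))
        (fun j => Spec.map (CommRingCat.ofHom (algebraMap R (A' j)))) ∈
          (Scheme.precoverage P).coverings (Spec R) ∧
      ∀ j, Tsv.arrows (πo a A' (algOf R R) j) := by
  rw [GrothendieckTopology.mem_over_iff,
    Precoverage.mem_toGrothendieck_iff_of_isStableUnderComposition] at hT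
  obtain ⟨R', hR', hle⟩ := hT
  rw [Precoverage.mem_iff_exists_zeroHypercover] at hR'
  obtain ⟨E, rfl⟩ := hR'
  let 𝒰' : (Spec R).Cover (Scheme.precoverage P) :=
    Precoverage.ZeroHypercover.restrictIndexOfSmall.{u} E
  have hE' : ∀ i, (Sieve.overEquiv ((specOver a).obj (op (algOf R R))) Tsv).arrows (𝒰'.f i) :=
    fun i => hle _ _ ⟨Precoverage.ZeroHypercover.Small.restrictFun E i⟩
  have hqc : QuasiCompactCover 𝒰'.toPreZeroHypercover :=
    QuasiCompactCover.of_isOpenMap (fun i => hP _ (𝒰'.map_prop i))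
  have hex : ∃ (𝒱 : Scheme.AffineCover.{u} P (Spec R)) (f : 𝒱.cover ⟶ 𝒰'),
      Finite 𝒱.I₀ ∧ ∀ j, IsOpenImmersion (f.h₀ j) := QuasiCompactCover.exists_hom 𝒰'
  obtain ⟨𝒱, f, hfin, -⟩ := hex
  obtain ⟨n, ⟨e⟩⟩ := Finite.exists_equiv_fin 𝒱.I₀
  refine ⟨n, fun j => 𝒱.X (e.symm j), fun j => inferInstance,
    fun j => (Spec.preimage (𝒱.f (e.symm j))).hom.toAlgebra, ?_, ?_⟩
  · rw [Scheme.ofArrows_mem_precoverage_iff]
    constructor
    · intro x
      have h := 𝒱.covers x
      obtain ⟨j, hj⟩ := e.symm.surjective (𝒱.idx x)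
      rw [← hj] at h
      refine ⟨j, ?_⟩
      have h2 : Spec.map (Spec.preimage (𝒱.f (e.symm j))) = 𝒱.f (e.symm j) := Spec.map_preimage _
      exact h2 ▸ h
    · intro j
      have h2 : Spec.map (Spec.preimage (𝒱.f (e.symm j))) = 𝒱.f (e.symm j) := Spec.map_preimage _
      exact h2 ▸ 𝒱.map_prop _
  · intro j
    let _ : ∀ j, Algebra R (𝒱.X (e.symm j)) :=
      fun j => (Spec.preimage (𝒱.f (e.symm j))).hom.toAlgebra
    rw [sieve_mem_iff_left]
    have h2 : Spec.map (CommRingCat.ofHom (algebraMap R (𝒱.X (e.symm j)))) = 𝒱.f (e.symm j) :=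
      Spec.map_preimage _
    have h1 : f.h₀ (e.symm j) ≫ 𝒰'.f (f.s₀ (e.symm j)) = 𝒱.f (e.symm j) := f.w₀ (e.symm j)
    have h3 : (Sieve.overEquiv ((specOver a).obj (op (algOf R R))) Tsv).arrows
        (𝒱.f (e.symm j)) := by
      rw [← h1]
      exact Sieve.downward_closed _ (hE' (f.s₀ (e.symm j))) _
    have h4 : (πo a (fun j => 𝒱.X (e.symm j)) (algOf R R) j).left =
        Spec.map (incL (fun j => 𝒱.X (e.symm j)) j (algOf R R)) ≫ 𝒱.f (e.symm j) :=
      (incR_factor (fun j => 𝒱.X (e.symm j)) j).trans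
        (congrArg (fun t => Spec.map (incL (fun j => 𝒱.X (e.symm j)) j (algOf R R)) ≫ t) h2)
    rw [h4]
    exact Sieve.downward_closed _ h3 _

end Refine

end Groth.Agent.R2.H80.AdeqBigRefine
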