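import Groth.Agent.R2.H80AdeqBig
import Groth.Agent.R2.H80AdeqDescFam

/-!
# Adequate modules on big sites: the sheaf condition on affine coverings (helper80)
-/

set_option autoImplicit false
universe u
open CategoryTheory Limits TensorProduct AlgebraicGeometry Opposite
open Adeq Groth.Agent.Helper13Adeq

namespace Groth.Agent.R2.H80.AdeqBigSheaf

open AdeqDescFam (T)

variable {S : Scheme.{u}} {R : CommRingCat.{u}} (a : Spec R ⟶ S)

section SpecOver

theorem specOver_obj_hom (B : Alg R) :
    ((specOver a).obj (op B)).hom = Spec.map (CommRingCat.ofHom (algebraMap R B)) ≫ a := rfl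

theorem specOver_map_left {B B' : Alg R} (f : B ⟶ B') :
    ((specOver a).map f.op).left = Spec.map (CommRingCat.ofHom f.hom.toRingHom) := rfl

/-- the ring map underlying a map of algebras -/
abbrev ringHomOf {B B' : Alg R} (f : B ⟶ B') : CommRingCat.of B ⟶ CommRingCat.of B' :=
  CommRingCat.ofHom f.hom.toRingHom

/-- `Spec` of an algebra map is a map over `Spec R` -/
theorem spec_algHom {B B' : Alg R} (f : B ⟶ B') :
    Spec.map (CommRingCat.ofHom f.hom.toRingHom) ≫ Spec.map (CommRingCat.ofHom (algebraMap R B)) =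
      Spec.map (CommRingCat.ofHom (algebraMap R B')) := by
  rw [← Spec.map_comp, ← CommRingCat.ofHom_comp, AlgHom.toRingHom_eq_coe, AlgHom.comp_algebraMap]

end SpecOver

section Family

variable {n : ℕ} (A' : Fin n → Type u) [∀ j, CommRing (A' j)] [∀ j, Algebra R (A' j)]

/-- `a' ↦ a' ⊗ 1` as a map of rings into `T A' j B` -/
noncomputable abbrev incL (j : Fin n) (B : Alg R) :=
  CommRingCat.ofHom (Algebra.TensorProduct.includeLeftRingHom : A' j →+* A' j ⊗[R] B)

/-- `b ↦ 1 ⊗ b` as a map of rings into `T A' j B` -/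
noncomputable abbrev incR (j : Fin n) (B : Alg R) :=
  ringHomOf (Alg.unit R (A' j) B)

theorem isPullback_unit (j : Fin n) (B : Alg R) :
    IsPullback (Spec.map (incR A' j B)) (Spec.map (incL A' j B))
      (Spec.map (CommRingCat.ofHom (algebraMap R B)))
      (Spec.map (CommRingCat.ofHom (algebraMap R (A' j)))) :=
  isPullback_SpecMap_of_isPushout _ _ _ _ (CommRingCat.isPushout_tensorProduct R (A' j) B).flip

variable (K : Precoverage Scheme.{u}) [K.IsStableUnderBaseChange]

/-- the members of the covering of `Spec B` -/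
noncomputable abbrev Xo (B : Alg R) (j : Fin n) : Over S := (specOver a).obj (op (T A' j B))

/-- the maps of the covering of `Spec B` -/
noncomputable abbrev πo (B : Alg R) (j : Fin n) : Xo a A' B j ⟶ (specOver a).obj (op B) :=
  (specOver a).map (Alg.unit R (A' j) B).op

theorem mem_cov
    (hcov : Presieve.ofArrows (fun j => Spec (CommRingCat.of (A' j)))
      (fun j => Spec.map (CommRingCat.ofHom (algebraMap R (A' j)))) ∈ K.coverings (Spec R))
    (B : Alg R) :
    Sieve.ofArrows (Xo a A' B) (πo a A' B) ∈ QuotSh.J K S ((specOver a).obj (op B)) := by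
  rw [GrothendieckTopology.mem_over_iff, Sieve.overEquiv_ofArrows]
  apply Precoverage.generate_mem_toGrothendieck
  exact K.mem_coverings_of_isPullback _ hcov (Spec.map (CommRingCat.ofHom (algebraMap R B))) _ _
    (fun j => isPullback_unit A' j B)

section Lift

theorem spec_algebraMap_T (j : Fin n) (B : Alg R) :
    Spec.map (CommRingCat.ofHom (algebraMap R (T A' j B))) =
      Spec.map (incL A' j B) ≫ Spec.map (CommRingCat.ofHom (algebraMap R (A' j))) := by
  rw [← Spec.map_comp, ← CommRingCat.ofHom_comp]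

theorem ri1 {B C : Alg R} (u : B ⟶ C) (k : Fin n) :
    incR A' k B ≫ ringHomOf ((Alg.restr R (A' k)).map ((Alg.baseChange R (A' k)).map u)) =
      ringHomOf u ≫ incR A' k C := rfl

theorem ri2 {B C : Alg R} (u : B ⟶ C) (k : Fin n) :
    incL A' k B ≫ ringHomOf ((Alg.restr R (A' k)).map ((Alg.baseChange R (A' k)).map u)) =
      incL A' k C := by
  ext x
  have h := Algebra.TensorProduct.map_tmul (AlgHom.id (A' k) (A' k)) u.hom x 1
  rw [map_one] at h
  exact h

variable {W : Scheme.{u}} (B : Alg R) (j k : Fin n)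
  (uj : W ⟶ Spec (CommRingCat.of (T A' j B))) (uk : W ⟶ Spec (CommRingCat.of (T A' k B)))
  (hu : uj ≫ Spec.map (incR A' j B) = uk ≫ Spec.map (incR A' k B))

include hu in
theorem lift_compat :
    uj ≫ Spec.map (CommRingCat.ofHom (algebraMap R (T A' j B))) =
      (uk ≫ Spec.map (incL A' k B)) ≫ Spec.map (CommRingCat.ofHom (algebraMap R (A' k))) := by
  rw [Category.assoc, ← spec_algebraMap_T A' k B, ← spec_algHom (Alg.unit R (A' j) B),
    ← spec_algHom (Alg.unit R (A' k) B)]
  exact (reassoc_of% hu) _

/-- the lift to the double overlap, on underlying schemes -/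
noncomputable def liftLeft : W ⟶ Spec (CommRingCat.of (T A' k (T A' j B))) :=
  (isPullback_unit A' k (T A' j B)).lift uj (uk ≫ Spec.map (incL A' k B))
    (lift_compat A' B j k uj uk hu)

theorem liftLeft_fst :
    liftLeft A' B j k uj uk hu ≫ Spec.map (incR A' k (T A' j B)) = uj :=
  IsPullback.lift_fst _ _ _ _

theorem liftLeft_snd :
    liftLeft A' B j k uj uk hu ≫ Spec.map (incL A' k (T A' j B)) =
      uk ≫ Spec.map (incL A' k B) :=
  IsPullback.lift_snd _ _ _ _

theorem liftLeft_pk :
    liftLeft A' B j k uj uk hu ≫ Spec.map (ringHomOf ((Alg.restr R (A' k)).map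
      ((Alg.baseChange R (A' k)).map (Alg.unit R (A' j) B)))) = uk := by
  apply (isPullback_unit A' k B).hom_ext
  · rw [Category.assoc, ← Spec.map_comp, ri1, Spec.map_comp, ← Category.assoc, liftLeft_fst]
    exact hu
  · rw [Category.assoc, ← Spec.map_comp, ri2, liftLeft_snd]

end Lift

section OverLift

/-- the double overlap -/
noncomputable abbrev Xjk (B : Alg R) (j k : Fin n) : Over S :=
  (specOver a).obj (op (T A' k (T A' j B)))

/-- first projection of the double overlap -/
noncomputable abbrev pj (B : Alg R) (j k : Fin n) : Xjk a A' B j k ⟶ Xo a A' B j :=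
  (specOver a).map (Alg.unit R (A' k) (T A' j B)).op

/-- second projection of the double overlap -/
noncomputable abbrev pk (B : Alg R) (j k : Fin n) : Xjk a A' B j k ⟶ Xo a A' B k :=
  (specOver a).map ((Alg.restr R (A' k)).map ((Alg.baseChange R (A' k)).map
    (Alg.unit R (A' j) B))).op

variable {Z : Over S} (B : Alg R) (j k : Fin n) (gj : Z ⟶ Xo a A' B j) (gk : Z ⟶ Xo a A' B k)
  (hg : gj ≫ πo a A' B j = gk ≫ πo a A' B k)

include hg in
theorem hg_left :
    (gj.left : Z.left ⟶ Spec (CommRingCat.of (T A' j B))) ≫ Spec.map (incR A' j B) =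
      (gk.left : Z.left ⟶ Spec (CommRingCat.of (T A' k B))) ≫ Spec.map (incR A' k B) :=
  congrArg CommaMorphism.left hg

theorem Xjk_hom :
    (Xjk a A' B j k).hom = Spec.map (incR A' k (T A' j B)) ≫ (Xo a A' B j).hom := by
  change Spec.map (CommRingCat.ofHom (algebraMap R (T A' k (T A' j B)))) ≫ a =
    Spec.map (incR A' k (T A' j B)) ≫ Spec.map (CommRingCat.ofHom (algebraMap R (T A' j B))) ≫ a
  rw [← Category.assoc, spec_algHom]

/-- the lift to the double overlap -/
noncomputable def liftOver : Z ⟶ Xjk a A' B j k :=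
  Over.homMk (liftLeft A' B j k gj.left gk.left (hg_left a A' B j k gj gk hg))
    ((congrArg (fun t => liftLeft A' B j k gj.left gk.left (hg_left a A' B j k gj gk hg) ≫ t)
      (Xjk_hom a A' B j k)).trans ((Category.assoc _ _ _).symm.trans
        ((congrArg (fun t => t ≫ (Xo a A' B j).hom)
          (liftLeft_fst A' B j k gj.left gk.left (hg_left a A' B j k gj gk hg))).trans
            (Over.w gj))))

theorem liftOver_pj : liftOver a A' B j k gj gk hg ≫ pj a A' B j k = gj := by
  apply Over.OverMorphism.ext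
  exact liftLeft_fst A' B j k gj.left gk.left (hg_left a A' B j k gj gk hg)

theorem liftOver_pk : liftOver a A' B j k gj gk hg ≫ pk a A' B j k = gk := by
  apply Over.OverMorphism.ext
  exact liftLeft_pk A' B j k gj.left gk.left (hg_left a A' B j k gj gk hg)

end OverLift

section Main

variable [BigSite.OSh K] (M : BigSite.Mod K S)

theorem isSheafFor_cov
    (hcov : Presieve.ofArrows (fun j => Spec (CommRingCat.of (A' j)))
      (fun j => Spec.map (CommRingCat.ofHom (algebraMap R (A' j)))) ∈ K.coverings (Spec R))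
    (B : Alg R) :
    Presieve.IsSheafFor (M.val.presheaf ⋙ forget AddCommGrpCat.{u + 1})
      (Presieve.ofArrows (Xo a A' B) (πo a A' B)) :=
  (Presieve.isSheafFor_iff_generate _).mpr
    (((Presheaf.isSheaf_iff_isSheaf_forget (QuotSh.J K S) M.val.presheaf
      (forget AddCommGrpCat.{u + 1})).1 M.isSheaf).isSheafFor _ (mem_cov a A' K hcov B))

theorem descent_hyp
    (hcov : Presieve.ofArrows (fun j => Spec (CommRingCat.of (A' j)))
      (fun j => Spec.map (CommRingCat.ofHom (algebraMap R (A' j)))) ∈ K.coverings (Spec R))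
    (B : Alg R) :
    (∀ x : ((toMVF K a).obj M).obj (pt B),
        (∀ j, ((toMVF K a).obj M).map (ptHom (Alg.unit R (A' j) B)) x = 0) → x = 0) ∧
      ∀ y : ∀ j, ((toMVF K a).obj M).obj (pt (T A' j B)),
        (∀ j k, ((toMVF K a).obj M).map (ptHom (Alg.unit R (A' k) (T A' j B))) (y j) =
          ((toMVF K a).obj M).map (ptHom ((Alg.restr R (A' k)).map
            ((Alg.baseChange R (A' k)).map (Alg.unit R (A' j) B)))) (y k)) →
        ∃ x : ((toMVF K a).obj M).obj (pt B),
          ∀ j, ((toMVF K a).obj M).map (ptHom (Alg.unit R (A' j) B)) x = y j := by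
  have hsh := isSheafFor_cov a A' K M hcov B
  constructor
  · intro x hx
    refine hsh.isSeparatedFor.ext ?_
    rintro Y f ⟨j⟩
    change M.val.map (πo a A' B j).op x = M.val.map (πo a A' B j).op 0
    rw [map_zero]
    exact hx j
  · intro y hy
    rw [Presieve.isSheafFor_arrows_iff] at hsh
    have hcompat : Presieve.Arrows.Compatible (M.val.presheaf ⋙ forget AddCommGrpCat.{u + 1})
        (πo a A' B) y := by
      intro j k Z gj gk hg
      change M.val.map gj.op (y j) = M.val.map gk.op (y k)
      have e1 := AdeqBig.pmap_congr K M.val (liftOver_pj a A' B j k gj gk hg) (y j)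
      have e2 := AdeqBig.pmap_congr K M.val (liftOver_pk a A' B j k gj gk hg) (y k)
      rw [← e1, ← e2, ← AdeqBig.pmap_comp_apply, ← AdeqBig.pmap_comp_apply]
      exact congrArg (M.val.map (liftOver a A' B j k gj gk hg).op) (hy j k)
    obtain ⟨x, hx, -⟩ := hsh y hcompat
    exact ⟨x, hx⟩

end Main

end Family

end Groth.Agent.R2.H80.AdeqBigSheaf
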