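import Groth.Agent.R2.H80AdeqCoker

/-!
# Colimits of adequate functors are adequate (helper80)
-/

set_option autoImplicit false
universe u
open CategoryTheory Limits TensorProduct DirectSum
open Adeq Groth.Agent.Helper13Adeq

namespace Groth.Agent.R2.H80.AdeqColim

variable {A : Type u} [CommRing A]

/-- the images of the summands span the value of a coproduct -/
theorem iSup_range_sigma_ι {ι : Type (u + 1)} (F : ι → MVF A) (X : (Alg A)ᵒᵖᵒᵖ) :
    (⨆ j, LinearMap.range ((Sigma.ι F j).app X).hom) = ⊤ := by
  set N : Submodule _ ((∐ F).obj X) := ⨆ j, LinearMap.range ((Sigma.ι F j).app X).hom with hN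
  have : PreservesColimitsOfShape (Discrete ι) (PresheafOfModules.evaluation.{u + 1} (ringOf A) X) :=
    PresheafOfModules.evaluation_preservesColimitsOfShape _ _ X
  have hc : IsColimit ((PresheafOfModules.evaluation.{u + 1} (ringOf A) X).mapCocone
      (colimit.cocone (Discrete.functor F))) :=
    isColimitOfPreserves _ (colimit.isColimit _)
  let Q : ModuleCat ((ringOf A).obj X) := ModuleCat.of _ (((∐ F).obj X) ⧸ N)
  let f₁ : (∐ F).obj X ⟶ Q := ModuleCat.ofHom N.mkQ
  have h : f₁ = 0 := by
    refine hc.hom_ext (fun ⟨j⟩ => ?_)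
    ext x
    change N.mkQ ((Sigma.ι F j).app X x) = 0
    rw [Submodule.mkQ_apply, Submodule.Quotient.mk_eq_zero]
    exact Submodule.mem_iSup_of_mem j ⟨x, rfl⟩
  rw [eq_top_iff]
  intro z _
  have := congrArg (fun g => g.hom z) h
  change N.mkQ z = 0 at this
  rwa [Submodule.mkQ_apply, Submodule.Quotient.mk_eq_zero] at this

/-- a coproduct of adequate functors is adequate -/
theorem adequate_sigma {ι : Type (u + 1)} (F : ι → MVF A) (hF : ∀ j, adequate A (F j)) :
    adequate A (∐ F) := by
  classical
  choose M N φ i hi hex using fun j => (adequate_iff (F j)).1 (hF j)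
  let MM : ModuleCat.{u + 1} A := ModuleCat.of A (⨁ j, M j)
  let NN : ModuleCat.{u + 1} A := ModuleCat.of A (⨁ j, N j)
  let Φ : MM ⟶ NN := ModuleCat.ofHom (DirectSum.lmap (fun j => (φ j).hom))
  let inM : ∀ j, M j ⟶ MM := fun j => ModuleCat.ofHom (DirectSum.lof A ι (fun j => M j) j)
  let inN : ∀ j, N j ⟶ NN := fun j => ModuleCat.ofHom (DirectSum.lof A ι (fun j => N j) j)
  let I : ∐ F ⟶ (underline A).obj MM := Sigma.desc (fun j => i j ≫ (underline A).map (inM j))
  have hI : ∀ (B : Alg A) (j : ι) (x : (F j).obj (pt B)),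
      I.app (pt B) ((Sigma.ι F j).app (pt B) x) =
        (DirectSum.lof A ι (fun j => M j) j).lTensor B ((i j).app (pt B) x) := by
    intro B j x
    rw [← PshMod.comp_app_apply, Sigma.ι_desc]
    rfl
  have hcomm : ∀ j, inM j ≫ Φ = φ j ≫ inN j := by
    intro j
    apply ModuleCat.hom_ext
    apply LinearMap.ext
    intro x
    change DirectSum.lmap (fun j => (φ j).hom) (DirectSum.lof A ι (fun j => M j) j x) =
      DirectSum.lof A ι (fun j => N j) j ((φ j).hom x)
    rw [DirectSum.lmap_lof]
  have hiφ : ∀ j, i j ≫ (underline A).map (φ j) = 0 := by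
    intro j
    ext X x
    exact (hex j X.unop.unop _).2 ⟨x, rfl⟩
  rw [adequate_iff]
  refine ⟨MM, NN, Φ, I, fun B => ?_, fun B => ?_⟩
  · rw [injective_iff_map_eq_zero]
    intro z hz
    have hz' : z ∈ ⨆ j, LinearMap.range ((Sigma.ι F j).app (pt B)).hom := by
      rw [iSup_range_sigma_ι]
      trivial
    rw [Submodule.mem_iSup_iff_exists_finsupp] at hz'
    obtain ⟨f, hf, rfl⟩ := hz'
    choose x hx using hf
    have hx' : ∀ j, (Sigma.ι F j).app (pt B) (x j) = f j := hx
    have hzero : ∀ j ∈ f.support, f j = 0 := by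
      intro j₀ hj₀
      have h1 : ∑ j ∈ f.support, (DirectSum.lof A ι (fun j => M j) j).lTensor B
          ((i j).app (pt B) (x j)) = (0 : B ⊗[A] (⨁ j, M j)) := by
        have h0 : I.app (pt B) (∑ j ∈ f.support, f j) = 0 := hz
        rw [map_sum] at h0
        refine Eq.trans (Finset.sum_congr rfl (fun j _ => ?_)) h0
        rw [← hx' j, hI]
      have h2 := congrArg ((DirectSum.component A ι (fun j => M j) j₀).lTensor B) h1
      rw [map_sum, map_zero, Finset.sum_eq_single j₀] at h2
      · rw [← LinearMap.lTensor_comp_apply, DirectSum.component_comp_lof_same,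
          LinearMap.lTensor_id, LinearMap.id_apply] at h2
        have h3 : x j₀ = 0 := by
          apply hi j₀ B
          rw [map_zero]
          exact h2
        rw [← hx' j₀, h3, map_zero]
      · intro j _ hj
        rw [← LinearMap.lTensor_comp_apply]
        have : DirectSum.component A ι (fun j => M j) j₀ ∘ₗ DirectSum.lof A ι (fun j => M j) j = 0 := by
          ext m
          simp [DirectSum.component.of, hj]
        rw [this, LinearMap.lTensor_zero, LinearMap.zero_apply]
      · intro h
        exact absurd hj₀ h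
    exact Finset.sum_eq_zero hzero
  · intro y
    constructor
    · intro hy
      have hy' : (DirectSum.lmap (fun j => (φ j).hom)).lTensor B y = 0 := hy
      have hyj : ∀ j, ((φ j).hom.lTensor B)
          ((DirectSum.component A ι (fun j => M j) j).lTensor B y) = 0 := by
        intro j
        have hc : (φ j).hom ∘ₗ DirectSum.component A ι (fun j => M j) j =
            DirectSum.component A ι (fun j => N j) j ∘ₗ DirectSum.lmap (fun j => (φ j).hom) := by
          ext x
          rfl
        rw [← LinearMap.lTensor_comp_apply, hc, LinearMap.lTensor_comp_apply, hy', map_zero]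
      have hξ : ∀ j, ∃ ξ : (F j).obj (pt B), (i j).app (pt B) ξ =
          (DirectSum.component A ι (fun j => M j) j).lTensor B y := fun j =>
        (hex j B _).1 (hyj j)
      choose ξ hξ' using hξ
      refine ⟨∑ j ∈ (TensorProduct.directSumRight A A B (fun j => M j) y).support,
        (Sigma.ι F j).app (pt B) (ξ j), ?_⟩
      rw [map_sum]
      conv_rhs => rw [AdeqCokerAlg.eq_sum_components (fun j => M j) y]
      refine Finset.sum_congr rfl (fun j _ => ?_)
      rw [hI, hξ']
    · rintro ⟨z, rfl⟩
      rw [← PshMod.comp_app_apply]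
      have : I ≫ (underline A).map Φ = 0 := by
        apply Sigma.hom_ext
        intro j
        rw [Sigma.ι_desc_assoc, Category.assoc, ← Functor.map_comp, hcomm, Functor.map_comp,
          ← Category.assoc, hiφ, zero_comp, comp_zero]
      rw [this]
      rfl

/-- a colimit of adequate functors is adequate -/
theorem adequate_colimit {J : Type (u + 1)} [SmallCategory J] (D : J ⥤ MVF A)
    (hD : ∀ j, adequate A (D.obj j)) : adequate A (colimit D) := by
  let s : (∐ fun f : Σ p : J × J, p.1 ⟶ p.2 => D.obj f.1.1) ⟶ ∐ D.obj :=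
    Sigma.desc fun f => D.map f.2 ≫ colimit.ι (Discrete.functor D.obj) ⟨f.1.2⟩
  let t : (∐ fun f : Σ p : J × J, p.1 ⟶ p.2 => D.obj f.1.1) ⟶ ∐ D.obj :=
    Sigma.desc fun f => colimit.ι (Discrete.functor D.obj) ⟨f.1.1⟩
  have h₁ : adequate A (∐ fun f : Σ p : J × J, p.1 ⟶ p.2 => D.obj f.1.1) :=
    adequate_sigma _ (fun f => hD _)
  have h₂ : adequate A (∐ D.obj) := adequate_sigma _ hD
  have hc := AdeqCoker.adequate_cokernel (s - t) h₁ h₂
  let i : Cofork s t := Preadditive.coforkOfCokernelCofork
    (CokernelCofork.ofπ (cokernel.π (s - t)) (cokernel.condition _))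
  have hi : IsColimit i := Preadditive.isColimitCoforkOfCokernelCofork (cokernelIsCokernel (s - t))
  have hcolim := HasColimitOfHasCoproductsOfHasCoequalizers.buildIsColimit (F := D) s t
    (by simp [s]) (by simp [t]) (colimit.isColimit _) (colimit.isColimit _) hi
  exact (adequate A).prop_of_iso ((colimit.isColimit D).coconePointUniqueUpToIso hcolim).symm hc

end Groth.Agent.R2.H80.AdeqColim
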