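import Groth.Agent.Lib.Helper13AdeqA
import Groth.Agent.Lib.Helper13AdeqD

/-!
# `push` of an adequate functor is adequate (helper80)
-/

set_option autoImplicit false
universe u
open CategoryTheory Limits TensorProduct
open Adeq

namespace Groth.Agent.R2.H80.AdeqPush

section Alg

variable {A A' : Type u} [CommRing A] [CommRing A'] [Algebra A A'] (M' : Type (u+1))
  [AddCommGroup M'] [Module A' M'] [Module A M'] [IsScalarTower A A' M'] (B : Type u) [CommRing B]
  [Algebra A B]

/-- `(A' ⊗_A B) ⊗_{A'} M' ≃ B ⊗_A M'`, `(a' ⊗ b) ⊗ m ↦ b ⊗ a' m`. -/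
noncomputable def cmp : (A' ⊗[A] B) ⊗[A'] M' ≃+ B ⊗[A] M' :=
  ((TensorProduct.comm A' (A' ⊗[A] B) M').toAddEquiv.trans
    (AlgebraTensorModule.cancelBaseChange A A' A' M' B).toAddEquiv).trans
    (TensorProduct.comm A M' B).toAddEquiv

@[simp] theorem cmp_tmul (a' : A') (b : B) (m : M') :
    cmp M' B ((a' ⊗ₜ[A] b) ⊗ₜ[A'] m) = b ⊗ₜ[A] (a' • m) := rfl

variable {M' B}

theorem cmp_add (x y : (A' ⊗[A] B) ⊗[A'] M') : cmp M' B (x + y) = cmp M' B x + cmp M' B y :=
  map_add _ _ _

omit [Module A M'] [IsScalarTower A A' M'] in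
/-- induction principle for `(A' ⊗_A B) ⊗_{A'} M'` -/
theorem induction_triple {P : (A' ⊗[A] B) ⊗[A'] M' → Prop} (h0 : P 0)
    (ht : ∀ (a' : A') (b : B) (m : M'), P ((a' ⊗ₜ[A] b) ⊗ₜ[A'] m))
    (ha : ∀ x y, P x → P y → P (x + y)) (x : (A' ⊗[A] B) ⊗[A'] M') : P x := by
  induction x using TensorProduct.induction_on with
  | zero => exact h0
  | tmul c m =>
    induction c using TensorProduct.induction_on with
    | zero => rw [TensorProduct.zero_tmul]; exact h0
    | tmul a' b => exact ht a' b m
    | add c₁ c₂ h₁ h₂ => rw [TensorProduct.add_tmul]; exact ha _ _ h₁ h₂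
  | add x y hx hy => exact ha _ _ hx hy

/-- naturality in `B` -/
theorem cmp_natural {B'' : Type u} [CommRing B''] [Algebra A B''] (g : B →ₐ[A] B'')
    (x : (A' ⊗[A] B) ⊗[A'] M') :
    cmp M' B'' (((Algebra.TensorProduct.map (AlgHom.id A' A') g).toLinearMap.rTensor M') x) =
      (g.toLinearMap.rTensor M') (cmp M' B x) := by
  induction x using induction_triple with
  | h0 => simp
  | ht a' b m => simp
  | ha x y hx hy => simp only [map_add, hx, hy]

/-- `B`-linearity -/
theorem cmp_smul (b : B) (x : (A' ⊗[A] B) ⊗[A'] M') :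
    cmp M' B (((1 : A') ⊗ₜ[A] b) • x) = b • cmp M' B x := by
  induction x using induction_triple with
  | h0 => simp
  | ht a' b₁ m =>
    rw [TensorProduct.smul_tmul', smul_eq_mul, Algebra.TensorProduct.tmul_mul_tmul, one_mul,
      cmp_tmul, cmp_tmul, TensorProduct.smul_tmul', smul_eq_mul]
  | ha x y hx hy => rw [smul_add, map_add, map_add, smul_add, hx, hy]

/-- compatibility with a map of modules -/
theorem cmp_map {N' : Type (u+1)} [AddCommGroup N'] [Module A' N'] [Module A N']
    [IsScalarTower A A' N'] (φ' : M' →ₗ[A'] N') (x : (A' ⊗[A] B) ⊗[A'] M') :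
    cmp N' B ((φ'.baseChange (A' ⊗[A] B)) x) =
      ((φ'.restrictScalars A).baseChange B) (cmp M' B x) := by
  induction x using induction_triple with
  | h0 => simp
  | ht a' b m => simp
  | ha x y hx hy => simp only [map_add, hx, hy]

end Alg

section Cat

open Groth.Agent.Helper13Adeq

variable (A A' : Type u) [CommRing A] [CommRing A'] [Algebra A A']

/-- the `A`-module underlying an `A'`-module -/
noncomputable abbrev resMod (M' : ModuleCat.{u + 1} A') : ModuleCat.{u + 1} A :=
  (ModuleCat.restrictScalars (algebraMap A A')).obj M'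

/-- the `A`-module structure on an `A'`-module -/
@[reducible] def modA (M' : ModuleCat.{u + 1} A') : Module A M' := Module.compHom M' (algebraMap A A')

theorem towerA (M' : ModuleCat.{u + 1} A') :
    @IsScalarTower A A' M' _ _ (modA A A' M').toSMul :=
  letI := modA A A' M'
  ⟨fun a a' m => by
    change (a • a') • m = algebraMap A A' a • (a' • m)
    rw [Algebra.smul_def, mul_smul]⟩

variable {A A'}

/-- the comparison map at `B` as a map into the value of `underline (resMod M')`. -/
noncomputable def cmpAt (M' : ModuleCat.{u + 1} A') (B : Alg A) :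
    (((underline A').obj M').obj (pt ((Alg.baseChange A A').obj B)) : Type _) ≃+
      (((underline A).obj (resMod A A' M')).obj (pt B) : Type _) :=
  @cmp A A' _ _ _ M' _ _ (modA A A' M') (towerA A A' M') B _ _

theorem cmpAt_apply (M' : ModuleCat.{u + 1} A') (B : Alg A)
    (x : (A' ⊗[A] B) ⊗[A'] M') :
    cmpAt M' B x = @cmp A A' _ _ _ M' _ _ (modA A A' M') (towerA A A' M') B _ _ x := rfl

/-- the comparison morphism `push F' ⟶ underline (resMod M')` attached to `F' ⟶ underline M'`. -/
noncomputable def pushHom (F' : MVF A') (M' : ModuleCat.{u + 1} A')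
    (i' : F' ⟶ (underline A').obj M') :
    (push A A').obj F' ⟶ (underline A).obj (resMod A A' M') :=
  PresheafOfModules.homMk
    { app := fun X => AddCommGrpCat.ofHom
        ((cmpAt M' X.unop.unop).toAddMonoidHom.comp
          (i'.app (pt ((Alg.baseChange A A').obj X.unop.unop))).hom.toAddMonoidHom)
      naturality := by
        intro X Y f
        ext x
        change cmpAt M' Y.unop.unop (i'.app (pt ((Alg.baseChange A A').obj Y.unop.unop))
            (mapEl F' ((Alg.baseChange A A').map f.unop.unop) x)) =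
          (f.unop.unop.hom.toLinearMap.rTensor (resMod A A' M'))
            (cmpAt M' X.unop.unop (i'.app (pt ((Alg.baseChange A A').obj X.unop.unop)) x))
        rw [app_mapEl, underline_mapEl, cmpAt_apply, cmpAt_apply]
        exact @cmp_natural A A' _ _ _ M' _ _ (modA A A' M') (towerA A A' M') _ _ _ _ _ _
          f.unop.unop.hom _ }
    (by
      intro X r m
      change cmpAt M' X.unop.unop (i'.app (pt ((Alg.baseChange A A').obj X.unop.unop))
          ((((1 : A') ⊗ₜ[A] r : A' ⊗[A] X.unop.unop)) • (id m : F'.obj (pt ((Alg.baseChange A A').obj X.unop.unop))))) =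
        r • cmpAt M' X.unop.unop (i'.app (pt ((Alg.baseChange A A').obj X.unop.unop)) m)
      rw [app_smul, cmpAt_apply, cmpAt_apply]
      exact @cmp_smul A A' _ _ _ M' _ _ (modA A A' M') (towerA A A' M') _ _ _ r _)

theorem pushHom_app (F' : MVF A') (M' : ModuleCat.{u + 1} A') (i' : F' ⟶ (underline A').obj M')
    (B : Alg A) (x : F'.obj (pt ((Alg.baseChange A A').obj B))) :
    (pushHom F' M' i').app (pt B) x = cmpAt M' B (i'.app (pt ((Alg.baseChange A A').obj B)) x) :=
  rfl

theorem cmpAt_map {M' N' : ModuleCat.{u + 1} A'} (φ' : M' ⟶ N') (B : Alg A)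
    (y : (A' ⊗[A] B) ⊗[A'] M') :
    cmpAt N' B (((underline A').map φ').app (pt ((Alg.baseChange A A').obj B)) y) =
      ((underline A).map ((ModuleCat.restrictScalars (algebraMap A A')).map φ')).app (pt B)
        (cmpAt M' B y) := by
  rw [underline_map_app_apply, underline_map_app_apply, cmpAt_apply, cmpAt_apply]
  exact @cmp_map A A' _ _ _ M' _ _ (modA A A' M') (towerA A A' M') B _ _ N' _ _ (modA A A' N')
    (towerA A A' N') φ'.hom y

theorem adequate_push (F' : MVF A') (hF' : adequate A' F') :
    adequate A ((push A A').obj F') := by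
  obtain ⟨M', N', φ', i', hinj, hex⟩ := (adequate_iff F').mp hF'
  rw [adequate_iff]
  refine ⟨resMod A A' M', resMod A A' N', (ModuleCat.restrictScalars (algebraMap A A')).map φ',
    pushHom F' M' i', ?_, ?_⟩
  · intro B x y hxy
    rw [pushHom_app, pushHom_app] at hxy
    exact hinj _ ((cmpAt M' B).injective hxy)
  · intro B y
    obtain ⟨y', rfl⟩ := (cmpAt M' B).surjective y
    rw [← cmpAt_map, map_eq_zero_iff _ (cmpAt N' B).injective, hex _ y']
    constructor
    · rintro ⟨x, hx⟩
      exact ⟨x, by rw [pushHom_app, hx]⟩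
    · rintro ⟨x, hx⟩
      rw [pushHom_app] at hx
      exact ⟨x, (cmpAt M' B).injective hx⟩

end Cat

end Groth.Agent.R2.H80.AdeqPush

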