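import Groth.Agent.R2.H80AdeqCoker
import Groth.Agent.R2.H80AdeqPush
import Groth.Agent.R2.H80AdeqRestr

/-!
# Descent of adequacy along `A → A'` (helper80)
-/

set_option autoImplicit false
universe u
open CategoryTheory Limits TensorProduct
open Adeq Groth.Agent.Helper13Adeq

namespace Groth.Agent.R2.H80.AdeqDescent

variable {A A' : Type u} [CommRing A] [CommRing A'] [Algebra A A']

theorem unit_naturality {B B' : Alg A} (f : B ⟶ B') :
    f ≫ Alg.unit A A' B' =
      Alg.unit A A' B ≫ (Alg.restr A A').map ((Alg.baseChange A A').map f) := by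
  rfl

/-- the unit `G ⟶ push (restr G)`, `G(B) → G(A' ⊗ B)` -/
noncomputable def unitHom (G : MVF A) : G ⟶ (push A A').obj ((restr A A').obj G) :=
  PresheafOfModules.homMk
    { app := fun X => AddCommGrpCat.ofHom
        (G.map (ptHom (Alg.unit A A' X.unop.unop))).hom.toAddMonoidHom
      naturality := by
        intro X Y f
        ext x
        change mapEl G (Alg.unit A A' Y.unop.unop) (mapEl G f.unop.unop x) =
          mapEl G ((Alg.restr A A').map ((Alg.baseChange A A').map f.unop.unop))
            (mapEl G (Alg.unit A A' X.unop.unop) x)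
        rw [← mapEl_comp, ← mapEl_comp, unit_naturality] }
    (by
      intro X r m
      exact mapEl_smul G (Alg.unit A A' X.unop.unop) r m)

theorem unitHom_app (G : MVF A) (B : Alg A) (x : G.obj (pt B)) :
    (unitHom (A' := A') G).app (pt B) x = G.map (ptHom (Alg.unit A A' B)) x := rfl

theorem adequate_of_restr (F : MVF A) (h₁ : adequate A' ((restr A A').obj F))
    (h₂ : ∀ B : Alg A, Function.Injective (F.map (ptHom (Alg.unit A A' B))) ∧
      ∀ y : F.obj (pt ((Alg.restr A A').obj ((Alg.baseChange A A').obj B))),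
        F.map (ptHom (Alg.unit A A' ((Alg.restr A A').obj ((Alg.baseChange A A').obj B)))) y =
          F.map (ptHom ((Alg.restr A A').map ((Alg.baseChange A A').map (Alg.unit A A' B)))) y →
        y ∈ Set.range (F.map (ptHom (Alg.unit A A' B)))) : adequate A F := by
  let G₁ : MVF A := (push A A').obj ((restr A A').obj F)
  have hG₁ : adequate A G₁ := AdeqPush.adequate_push _ h₁
  let G₂ : MVF A := (push A A').obj ((restr A A').obj G₁)
  have hG₂ : adequate A G₂ := AdeqPush.adequate_push _ (AdeqRestr.adequate_restr _ hG₁)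
  let d₀ : G₁ ⟶ G₂ := unitHom G₁
  let d₁ : G₁ ⟶ G₂ := (push A A').map ((restr A A').map (unitHom F))
  have hd₀ : ∀ (B : Alg A) (y : G₁.obj (pt B)), d₀.app (pt B) y =
      F.map (ptHom ((Alg.restr A A').map ((Alg.baseChange A A').map (Alg.unit A A' B)))) y :=
    fun B y => rfl
  have hd₁ : ∀ (B : Alg A) (y : G₁.obj (pt B)), d₁.app (pt B) y =
      F.map (ptHom (Alg.unit A A' ((Alg.restr A A').obj ((Alg.baseChange A A').obj B)))) y :=
    fun B y => rfl
  have hK := AdeqCoker.adequate_kernel (d₁ - d₀) hG₁ hG₂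
  refine (adequate A).prop_of_iso
    (PshMod.isoKernel (unitHom F) (d₁ - d₀) (fun X => ?_) (fun X => ?_)).symm hK
  · exact (h₂ X.unop.unop).1
  · let B : Alg A := X.unop.unop
    intro y
    have hsub : (d₁ - d₀).app (pt B) y = d₁.app (pt B) y - d₀.app (pt B) y := rfl
    change (d₁ - d₀).app (pt B) y = 0 ↔ _
    rw [hsub, sub_eq_zero, hd₀, hd₁]
    constructor
    · intro h
      exact (h₂ B).2 y h
    · rintro ⟨x, rfl⟩
      change mapEl F (Alg.unit A A' ((Alg.restr A A').obj ((Alg.baseChange A A').obj B)))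
          (mapEl F (Alg.unit A A' B) x) =
        mapEl F ((Alg.restr A A').map ((Alg.baseChange A A').map (Alg.unit A A' B)))
          (mapEl F (Alg.unit A A' B) x)
      rw [← mapEl_comp, ← mapEl_comp, unit_naturality]

end Groth.Agent.R2.H80.AdeqDescent
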