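import Mathlib

/-!
# Polynomial bookkeeping for the splitting of extensions of linearly adequate functors (helper80)

`R` is an `A`-algebra with a "coaction" `σ : R → R[t]`.  If `e ∈ R[t] ⊗ M` satisfies the cocycle identity
`(Φ₁ ⊗ M) e - (Φ₂ ⊗ M) e = - t • (C ⊗ M) e` in `R[s][t] ⊗ M`, then `e = -(σ e₁ - t e₁)` where `e₁` is the
coefficient of `t` of `e`.
-/

set_option autoImplicit false
universe u v
open Polynomial TensorProduct

namespace Groth.Agent.R2.H80.AdeqExtAlg

variable {A : Type u} [CommRing A] {R : Type u} [CommRing R] [Algebra A R] (σ : R →ₐ[A] R[X])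

/-- apply `σ` to the coefficients -/
noncomputable def Φ₁ : R[X] →ₐ[A] R[X][X] := Polynomial.mapAlgHom σ

variable (A R) in
/-- `t ↦ s t` -/
noncomputable def Φ₂ : R[X] →ₐ[A] R[X][X] :=
  (Polynomial.aeval (R := R) (C X * X : R[X][X])).restrictScalars A

variable (A R) in
/-- coefficient of `t` -/
noncomputable def c1 : R[X] →ₗ[A] R := (Polynomial.lcoeff R 1).restrictScalars A

variable (A R) in
/-- coefficient of the outer variable -/
noncomputable def cT1 : R[X][X] →ₗ[A] R[X] := (Polynomial.lcoeff R[X] 1).restrictScalars A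

theorem cT1_Φ₁ : cT1 A R ∘ₗ (Φ₁ σ).toLinearMap = σ.toLinearMap ∘ₗ c1 A R := by
  refine LinearMap.ext (fun p => ?_)
  change (Polynomial.map (σ : R →+* R[X]) p).coeff 1 = σ (p.coeff 1)
  rw [Polynomial.coeff_map]
  rfl

theorem Φ₂_apply (p : R[X]) : Φ₂ A R p = Polynomial.aeval (R := R) (C X * X : R[X][X]) p := rfl

theorem cT1_Φ₂ : cT1 A R ∘ₗ (Φ₂ A R).toLinearMap =
    LinearMap.mulLeft A (X : R[X]) ∘ₗ (Polynomial.CAlgHom (R := A) (A := R)).toLinearMap ∘ₗ c1 A R := by
  refine LinearMap.ext (fun p => ?_)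
  change (Polynomial.aeval (R := R) (C X * X : R[X][X]) p).coeff 1 = X * C (p.coeff 1)
  induction p using Polynomial.induction_on' with
  | add p q hp hq => rw [map_add, coeff_add, hp, hq, coeff_add, map_add, mul_add]
  | monomial k r =>
    rw [Polynomial.aeval_monomial, mul_pow, ← map_pow, Polynomial.algebraMap_apply,
      Polynomial.algebraMap_apply, ← mul_assoc, ← map_mul, coeff_C_mul_X_pow, coeff_monomial]
    by_cases hk : k = 1
    · subst hk
      rw [if_pos rfl, if_pos rfl, pow_one, mul_comm]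
      rfl
    · rw [if_neg (Ne.symm hk), if_neg hk, map_zero, mul_zero]

theorem cT1_X_C : cT1 A R ∘ₗ LinearMap.mulLeft A (X : R[X][X]) ∘ₗ
    (Polynomial.CAlgHom (R := A) (A := R[X])).toLinearMap = LinearMap.id := by
  refine LinearMap.ext (fun p => ?_)
  change ((X : R[X][X]) * C p).coeff 1 = p
  rw [coeff_X_mul, coeff_C_zero]

section tensor

variable {B : Type*} [CommRing B] [Algebra A B] (M : Type v) [AddCommGroup M] [Module A M]

theorem smul_eq_rTensor (b : B) (z : B ⊗[A] M) : b • z = (LinearMap.mulLeft A b).rTensor M z := by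
  induction z using TensorProduct.induction_on with
  | zero => simp
  | tmul b' m => rw [TensorProduct.smul_tmul', LinearMap.rTensor_tmul]; rfl
  | add x y hx hy => rw [smul_add, map_add, hx, hy]

end tensor

theorem homog_identity (M : Type v) [AddCommGroup M] [Module A M] (e : R[X] ⊗[A] M)
    (h : (Φ₁ σ).toLinearMap.rTensor M e - (Φ₂ A R).toLinearMap.rTensor M e +
      (X : R[X][X]) • ((Polynomial.CAlgHom (R := A) (A := R[X])).toLinearMap.rTensor M e) = 0) :
    σ.toLinearMap.rTensor M ((c1 A R).rTensor M e) -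
      (X : R[X]) • ((Polynomial.CAlgHom (R := A) (A := R)).toLinearMap.rTensor M
        ((c1 A R).rTensor M e)) + e = 0 := by
  have h' := congrArg ((cT1 A R).rTensor M) h
  rw [map_add, map_sub, map_zero, smul_eq_rTensor, ← LinearMap.rTensor_comp_apply,
    ← LinearMap.rTensor_comp_apply, ← LinearMap.rTensor_comp_apply, ← LinearMap.rTensor_comp_apply,
    cT1_Φ₁, cT1_Φ₂, LinearMap.comp_assoc, cT1_X_C, LinearMap.rTensor_id, LinearMap.id_apply] at h'
  rw [smul_eq_rTensor, ← LinearMap.rTensor_comp_apply, ← LinearMap.rTensor_comp_apply,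
    ← LinearMap.rTensor_comp_apply, ← h']
  rfl

end Groth.Agent.R2.H80.AdeqExtAlg
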