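import Groth.Agent.R2.H80AdeqCorefl
import Groth.Agent.R2.H80AdeqExtAlg

/-!
# Extensions of adequate functors (helper80)
-/

set_option autoImplicit false
universe u
open CategoryTheory Limits TensorProduct Polynomial
open Adeq Groth.Agent.Helper13Adeq

namespace Groth.Agent.R2.H80.AdeqExt

variable {A : Type u} [CommRing A]

theorem mapEl_sub (F : MVF A) {B B' : Alg A} (f : B ⟶ B') (x y : F.obj (pt B)) :
    mapEl F f (x - y) = mapEl F f x - mapEl F f y :=
  map_sub (F.map (ptHom f)).hom x y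

theorem mapEl_neg (F : MVF A) {B B' : Alg A} (f : B ⟶ B') (x : F.obj (pt B)) :
    mapEl F f (-x) = -mapEl F f x :=
  map_neg (F.map (ptHom f)).hom x

section Homog

variable (G : MVF A) (M : ModuleCat.{u + 1} A) (j : (underline A).obj M ⟶ G)

/-- `j` at `B` as an additive map out of the tensor product -/
noncomputable def jj (B : Alg A) : (B ⊗[A] M) →+ G.obj (pt B) where
  toFun x := j.app (pt B) x
  map_zero' := map_zero (j.app (pt B)).hom
  map_add' x y := map_add (j.app (pt B)).hom x y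

theorem jj_apply (B : Alg A) (x : B ⊗[A] M) : jj G M j B x = j.app (pt B) x := rfl

theorem jj_smul (B : Alg A) (b : B) (x : B ⊗[A] M) : jj G M j B (b • x) = b • jj G M j B x :=
  app_smul j B b x

/-- naturality of `j` -/
theorem jj_rTensor {B B' : Alg A} (f : B ⟶ B') (x : B ⊗[A] M) :
    jj G M j B' ((f.hom.toLinearMap.rTensor M) x) = mapEl G f (jj G M j B x) :=
  app_mapEl j f x

variable (hj : ∀ B : Alg A, Function.Injective (j.app (pt B)))
  (R : Type u) [CommRing R] [Algebra A R] (σ : R →ₐ[A] R[X])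
  (hσ : (AdeqExtAlg.Φ₁ σ).comp σ = (AdeqExtAlg.Φ₂ A R).comp σ)

include hj hσ in
theorem homogenize (γ₀ : G.obj (pt (algOf A R))) (e : R[X] ⊗[A] M)
    (he : jj G M j (algOf A R[X]) e =
      mapEl G (CommAlgCat.ofHom σ : algOf A R ⟶ algOf A R[X]) γ₀ -
        ((X : R[X]) : algOf A R[X]) •
          mapEl G (CommAlgCat.ofHom (Polynomial.CAlgHom (R := A) (A := R)) :
            algOf A R ⟶ algOf A R[X]) γ₀) :
    mapEl G (CommAlgCat.ofHom σ : algOf A R ⟶ algOf A R[X])
        (γ₀ + jj G M j (algOf A R) ((AdeqExtAlg.c1 A R).rTensor M e)) =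
      ((X : R[X]) : algOf A R[X]) •
        mapEl G (CommAlgCat.ofHom (Polynomial.CAlgHom (R := A) (A := R)) :
            algOf A R ⟶ algOf A R[X])
          (γ₀ + jj G M j (algOf A R) ((AdeqExtAlg.c1 A R).rTensor M e)) := by
  -- abbreviations
  let RR : Alg A := algOf A R
  let TT : Alg A := algOf A R[X]
  let TT₂ : Alg A := algOf A R[X][X]
  let fσ : RR ⟶ TT := CommAlgCat.ofHom σ
  let fC : RR ⟶ TT := CommAlgCat.ofHom (Polynomial.CAlgHom (R := A) (A := R))
  let fC₂ : TT ⟶ TT₂ := CommAlgCat.ofHom (Polynomial.CAlgHom (R := A) (A := R[X]))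
  let fΦ₁ : TT ⟶ TT₂ := CommAlgCat.ofHom (AdeqExtAlg.Φ₁ σ)
  let fΦ₂ : TT ⟶ TT₂ := CommAlgCat.ofHom (AdeqExtAlg.Φ₂ A R)
  have he' : mapEl G fσ γ₀ = jj G M j TT e + ((X : R[X]) : TT) • mapEl G fC γ₀ := by
    rw [he]; abel
  -- relations between the algebra maps
  have r1 : fσ ≫ fΦ₁ = fσ ≫ fΦ₂ := by
    apply CommAlgCat.hom_ext
    exact hσ
  have r2 : fC ≫ fΦ₁ = fσ ≫ fC₂ := by
    apply CommAlgCat.hom_ext
    apply AlgHom.ext
    intro x
    change Polynomial.map (σ : R →+* R[X]) (C x) = C (σ x)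
    rw [Polynomial.map_C]
    rfl
  have r3 : fC ≫ fΦ₂ = fC ≫ fC₂ := by
    apply CommAlgCat.hom_ext
    apply AlgHom.ext
    intro x
    change Polynomial.aeval (R := R) (C X * X : R[X][X]) (C x) = C (C x)
    rw [Polynomial.aeval_C]
    rfl
  have x1 : fΦ₁.hom (X : R[X]) = (X : R[X][X]) := by
    change Polynomial.map (σ : R →+* R[X]) X = X
    rw [Polynomial.map_X]
  have x2 : fΦ₂.hom (X : R[X]) = (C X * X : R[X][X]) := by
    change Polynomial.aeval (R := R) (C X * X : R[X][X]) X = _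
    rw [Polynomial.aeval_X]
  have x3 : fC₂.hom (X : R[X]) = (C X : R[X][X]) := rfl
  set g : G.obj (pt TT₂) := mapEl G (fC ≫ fC₂) γ₀ with hg
  -- the three transports of `j e`
  have t1 : jj G M j TT₂ ((AdeqExtAlg.Φ₁ σ).toLinearMap.rTensor M e) =
      mapEl G (fσ ≫ fΦ₁) γ₀ - ((X : R[X][X]) : TT₂) •
        (jj G M j TT₂ ((Polynomial.CAlgHom (R := A) (A := R[X])).toLinearMap.rTensor M e) +
          ((C X : R[X][X]) : TT₂) • g) := by
    rw [show (AdeqExtAlg.Φ₁ σ).toLinearMap = fΦ₁.hom.toLinearMap from rfl, jj_rTensor, he, mapEl_sub,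
      mapEl_smul, ← mapEl_comp, ← mapEl_comp, r2, x1, mapEl_comp G fσ fC₂, he', mapEl_add, mapEl_smul,
      ← mapEl_comp, x3, ← jj_rTensor]
    rfl
  have t2 : jj G M j TT₂ ((AdeqExtAlg.Φ₂ A R).toLinearMap.rTensor M e) =
      mapEl G (fσ ≫ fΦ₁) γ₀ - ((C X * X : R[X][X]) : TT₂) • g := by
    rw [show (AdeqExtAlg.Φ₂ A R).toLinearMap = fΦ₂.hom.toLinearMap from rfl, jj_rTensor, he, mapEl_sub,
      mapEl_smul, ← mapEl_comp, ← mapEl_comp, r3, x2, r1]
  -- the cocycle identity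
  have hstar : (AdeqExtAlg.Φ₁ σ).toLinearMap.rTensor M e -
      (AdeqExtAlg.Φ₂ A R).toLinearMap.rTensor M e +
      (X : R[X][X]) • ((Polynomial.CAlgHom (R := A) (A := R[X])).toLinearMap.rTensor M e) = 0 := by
    have hinj : Function.Injective (jj G M j TT₂) := hj TT₂
    apply hinj
    rw [map_zero, map_add, map_sub, t1, t2, jj_smul, smul_add, smul_smul, mul_comm]
    abel
  have hid := AdeqExtAlg.homog_identity σ M e hstar
  -- conclusion
  have hfin : mapEl G fσ (γ₀ + jj G M j RR ((AdeqExtAlg.c1 A R).rTensor M e)) -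
      ((X : R[X]) : TT) • mapEl G fC (γ₀ + jj G M j RR ((AdeqExtAlg.c1 A R).rTensor M e)) = 0 := by
    have h0 := congrArg (jj G M j TT) hid
    rw [map_zero, map_add, map_sub, he, jj_smul] at h0
    have h1 : jj G M j TT (σ.toLinearMap.rTensor M ((AdeqExtAlg.c1 A R).rTensor M e)) =
        mapEl G fσ (jj G M j RR ((AdeqExtAlg.c1 A R).rTensor M e)) :=
      jj_rTensor G M j fσ _
    have h2 : jj G M j TT ((Polynomial.CAlgHom (R := A) (A := R)).toLinearMap.rTensor M
        ((AdeqExtAlg.c1 A R).rTensor M e)) =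
        mapEl G fC (jj G M j RR ((AdeqExtAlg.c1 A R).rTensor M e)) :=
      jj_rTensor G M j fC _
    rw [mapEl_add, mapEl_add, smul_add, ← h1, ← h2]
    refine Eq.trans ?_ h0
    abel
  exact sub_eq_zero.1 hfin

end Homog

/-- A representation of the underlying set-valued functor of `L` by an algebra `R`, together with the
statement that weight-one elements of `R ⊗ M` give morphisms `L ⟶ underline M`. -/
structure Rep (L : MVF A) where
  /-- the representing algebra -/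
  R : Type u
  [instR : CommRing R]
  [instA : Algebra A R]
  /-- the universal element -/
  ηu : L.obj (pt (algOf A R))
  /-- classifying maps -/
  cls : ∀ (B : Alg A), L.obj (pt B) → (algOf A R ⟶ B)
  cls_spec : ∀ (B : Alg A) (ξ : L.obj (pt B)), mapEl L (cls B ξ) ηu = ξ
  cls_uniq : ∀ (B : Alg A) (f : algOf A R ⟶ B), cls B (mapEl L f ηu) = f
  /-- weight one elements give morphisms -/
  key : ∀ (M : ModuleCat.{u + 1} A) (w : R ⊗[A] M),
    ((cls (algOf A R[X]) (((X : R[X]) : algOf A R[X]) •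
        mapEl L (CommAlgCat.ofHom (Polynomial.CAlgHom (R := A) (A := R)) :
          algOf A R ⟶ algOf A R[X]) ηu)).hom.toLinearMap.rTensor M) w =
      (X : R[X]) • ((Polynomial.CAlgHom (R := A) (A := R)).toLinearMap.rTensor M w) →
    ∃ g : L ⟶ (underline A).obj M, ∀ (B : Alg A) (ξ : L.obj (pt B)),
      g.app (pt B) ξ = ((cls B ξ).hom.toLinearMap.rTensor M) w

attribute [instance] Rep.instR Rep.instA

namespace Rep

variable {L : MVF A} (rep : Rep L)

/-- the representing algebra as an object -/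
abbrev RR : Alg A := algOf A rep.R

/-- the polynomial algebra over it -/
noncomputable abbrev TT : Alg A := algOf A rep.R[X]

/-- constants -/
noncomputable abbrev fC : rep.RR ⟶ rep.TT :=
  CommAlgCat.ofHom (Polynomial.CAlgHom (R := A) (A := rep.R))

/-- the scaling map -/
noncomputable def fσ : rep.RR ⟶ rep.TT :=
  rep.cls rep.TT (((X : rep.R[X]) : rep.TT) • mapEl L rep.fC rep.ηu)

theorem fσ_spec : mapEl L rep.fσ rep.ηu = ((X : rep.R[X]) : rep.TT) • mapEl L rep.fC rep.ηu :=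
  rep.cls_spec _ _

/-- two algebra maps agree if they classify the same element -/
theorem hom_ext {B : Alg A} {f f' : rep.RR ⟶ B} (h : mapEl L f rep.ηu = mapEl L f' rep.ηu) :
    f = f' := by
  rw [← rep.cls_uniq B f, ← rep.cls_uniq B f', h]

theorem cls_mapEl {B B' : Alg A} (g : B ⟶ B') (ξ : L.obj (pt B)) :
    rep.cls B' (mapEl L g ξ) = rep.cls B ξ ≫ g := by
  apply rep.hom_ext
  rw [rep.cls_spec, mapEl_comp, rep.cls_spec]

/-- evaluation `R[X] → B` extending a classifying map -/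
noncomputable def ev {B : Alg A} (f : rep.RR ⟶ B) (b : B) : rep.TT ⟶ B :=
  CommAlgCat.ofHom (Polynomial.eval₂AlgHom f.hom b (fun _ => Commute.all _ _))

theorem ev_X {B : Alg A} (f : rep.RR ⟶ B) (b : B) : (rep.ev f b).hom (X : rep.R[X]) = b := by
  change Polynomial.eval₂ _ b X = b
  rw [Polynomial.eval₂_X]

theorem fC_ev {B : Alg A} (f : rep.RR ⟶ B) (b : B) : rep.fC ≫ rep.ev f b = f := by
  apply CommAlgCat.hom_ext
  apply AlgHom.ext
  intro x
  change Polynomial.eval₂ _ b (C x) = f.hom x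
  rw [Polynomial.eval₂_C]
  rfl

theorem cls_smul {B : Alg A} (b : B) (ξ : L.obj (pt B)) :
    rep.cls B (b • ξ) = rep.fσ ≫ rep.ev (rep.cls B ξ) b := by
  apply rep.hom_ext
  rw [rep.cls_spec, mapEl_comp, rep.fσ_spec, mapEl_smul, ← mapEl_comp, rep.fC_ev, rep.ev_X,
    rep.cls_spec]

end Rep

namespace Rep

variable {L : MVF A} (rep : Rep L)

theorem coassoc : (AdeqExtAlg.Φ₁ rep.fσ.hom).comp rep.fσ.hom =
    (AdeqExtAlg.Φ₂ A rep.R).comp rep.fσ.hom := by
  let TT₂ : Alg A := algOf A rep.R[X][X]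
  let fC₂ : rep.TT ⟶ TT₂ := CommAlgCat.ofHom (Polynomial.CAlgHom (R := A) (A := rep.R[X]))
  let fΦ₁ : rep.TT ⟶ TT₂ := CommAlgCat.ofHom (AdeqExtAlg.Φ₁ rep.fσ.hom)
  let fΦ₂ : rep.TT ⟶ TT₂ := CommAlgCat.ofHom (AdeqExtAlg.Φ₂ A rep.R)
  have r2 : rep.fC ≫ fΦ₁ = rep.fσ ≫ fC₂ := by
    apply CommAlgCat.hom_ext
    apply AlgHom.ext
    intro x
    change Polynomial.map (rep.fσ.hom : rep.R →+* rep.R[X]) (C x) = C (rep.fσ.hom x)
    rw [Polynomial.map_C]
    rfl
  have r3 : rep.fC ≫ fΦ₂ = rep.fC ≫ fC₂ := by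
    apply CommAlgCat.hom_ext
    apply AlgHom.ext
    intro x
    change Polynomial.aeval (R := rep.R) (C X * X : rep.R[X][X]) (C x) = C (C x)
    rw [Polynomial.aeval_C]
    rfl
  have x1 : fΦ₁.hom (X : rep.R[X]) = (X : rep.R[X][X]) := by
    change Polynomial.map (rep.fσ.hom : rep.R →+* rep.R[X]) X = X
    rw [Polynomial.map_X]
  have x2 : fΦ₂.hom (X : rep.R[X]) = (C X * X : rep.R[X][X]) := by
    change Polynomial.aeval (R := rep.R) (C X * X : rep.R[X][X]) X = _
    rw [Polynomial.aeval_X]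
  have x3 : fC₂.hom (X : rep.R[X]) = (C X : rep.R[X][X]) := rfl
  have h : rep.fσ ≫ fΦ₁ = rep.fσ ≫ fΦ₂ := by
    apply rep.hom_ext
    rw [mapEl_comp, rep.fσ_spec, mapEl_smul, ← mapEl_comp, r2, x1, mapEl_comp, rep.fσ_spec,
      mapEl_smul, ← mapEl_comp, x3, mapEl_comp L rep.fσ fΦ₂, rep.fσ_spec, mapEl_smul, ← mapEl_comp,
      r3, x2, smul_smul, mul_comm]
  exact congrArg (fun t => t.hom) h

include rep in
/-- a natural, homogeneous family of maps `L(B) → B ⊗ M` is a morphism of module-valued functors -/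
theorem exists_hom_of_natural (M : ModuleCat.{u + 1} A) (δ : ∀ B : Alg A, L.obj (pt B) → B ⊗[A] M)
    (hnat : ∀ {B B' : Alg A} (g : B ⟶ B') (ξ : L.obj (pt B)),
      δ B' (mapEl L g ξ) = g.hom.toLinearMap.rTensor M (δ B ξ))
    (hhom : ∀ (B : Alg A) (b : B) (ξ : L.obj (pt B)), δ B (b • ξ) = b • δ B ξ) :
    ∃ g : L ⟶ (underline A).obj M, ∀ (B : Alg A) (ξ : L.obj (pt B)), g.app (pt B) ξ = δ B ξ := by
  obtain ⟨g, hg⟩ := rep.key M (δ rep.RR rep.ηu) (by
    change (rep.fσ.hom.toLinearMap.rTensor M) (δ rep.RR rep.ηu) = _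
    rw [← hnat, rep.fσ_spec, hhom, hnat]
    rfl)
  refine ⟨g, fun B ξ => ?_⟩
  rw [hg, ← hnat, rep.cls_spec]

end Rep

section Lift

variable {L L₂ : MVF A} (rep : Rep L) (rep₂ : Rep L₂)
  (i₁ i₂ : L ⟶ L₂) (p₁ p₂ : L₂ ⟶ L)
  (h11 : i₁ ≫ p₁ = 𝟙 L) (h22 : i₂ ≫ p₂ = 𝟙 L) (h12 : i₁ ≫ p₂ = 0) (h21 : i₂ ≫ p₁ = 0)

include rep rep₂ h11 h22 h12 h21 in
/-- maps from a (representable) linearly adequate functor lift along epimorphisms whose kernel is
of the form `underline M`. -/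
theorem exists_lift (S : ShortComplex (MVF A)) (hS : S.ShortExact) (M : ModuleCat.{u + 1} A)
    (e : S.X₁ ≅ (underline A).obj M) (lam : L ⟶ S.X₃) : ∃ t : L ⟶ S.X₂, t ≫ S.g = lam := by
  classical
  have := hS.mono_f
  have := hS.epi_g
  let G := S.X₂
  let j : (underline A).obj M ⟶ G := e.inv ≫ S.f
  -- pointwise facts
  have E1 : ∀ B : Alg A, Function.Injective (j.app (pt B)) := by
    intro B
    have : Mono j := by dsimp only [j]; infer_instance
    exact PresheafOfModules.injective_of_mono j (pt B)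
  have E1' : ∀ B : Alg A, Function.Injective (jj G M j B) := fun B => E1 B
  have E2 : ∀ B : Alg A, Function.Surjective (S.g.app (pt B)) := fun B =>
    PresheafOfModules.surjective_of_epi S.g (pt B)
  have E3 : ∀ (B : Alg A) (z : G.obj (pt B)), S.g.app (pt B) z = 0 →
      ∃ x : B ⊗[A] M, jj G M j B x = z := by
    intro B z hz
    obtain ⟨y, rfl⟩ := (PshMod.exact_app S hS.exact (pt B) z).1 hz
    refine ⟨e.hom.app (pt B) y, ?_⟩
    change S.f.app (pt B) (e.inv.app (pt B) (e.hom.app (pt B) y)) = _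
    rw [PshMod.hom_inv_app_apply]
  have E4 : ∀ (B : Alg A) (x : B ⊗[A] M), S.g.app (pt B) (jj G M j B x) = 0 := by
    intro B x
    change S.g.app (pt B) (S.f.app (pt B) (e.inv.app (pt B) x)) = 0
    rw [← PshMod.comp_app_apply, S.zero]
    rfl
  -- Step A: a homogeneous lift of the universal element
  obtain ⟨γ₀, hγ₀⟩ := E2 rep.RR (lam.app (pt rep.RR) rep.ηu)
  have hz : S.g.app (pt rep.TT) (mapEl G rep.fσ γ₀ -
      ((X : rep.R[X]) : rep.TT) • mapEl G rep.fC γ₀) = 0 := by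
    rw [map_sub, app_smul, app_mapEl, app_mapEl, hγ₀, ← app_mapEl, ← app_mapEl]
    have h1 := app_smul lam rep.TT ((X : rep.R[X]) : rep.TT) (mapEl L rep.fC rep.ηu)
    rw [← rep.fσ_spec] at h1
    rw [← h1, sub_self]
  obtain ⟨e₀, he₀⟩ := E3 rep.TT _ hz
  let γ : G.obj (pt rep.RR) := γ₀ + jj G M j rep.RR ((AdeqExtAlg.c1 A rep.R).rTensor M e₀)
  have hγhom : mapEl G rep.fσ γ = ((X : rep.R[X]) : rep.TT) • mapEl G rep.fC γ :=
    homogenize G M j E1 rep.R rep.fσ.hom rep.coassoc γ₀ e₀ he₀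
  have hγ : S.g.app (pt rep.RR) γ = lam.app (pt rep.RR) rep.ηu := by
    change S.g.app (pt rep.RR) (γ₀ + jj G M j rep.RR ((AdeqExtAlg.c1 A rep.R).rTensor M e₀)) = _
    rw [map_add, E4, add_zero, hγ₀]
  -- Step B: the lift as a family of maps
  let tfun : ∀ B : Alg A, L.obj (pt B) → G.obj (pt B) := fun B ξ => mapEl G (rep.cls B ξ) γ
  have B1 : ∀ {B B' : Alg A} (g : B ⟶ B') (ξ : L.obj (pt B)),
      tfun B' (mapEl L g ξ) = mapEl G g (tfun B ξ) := by
    intro B B' g ξ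
    change mapEl G (rep.cls B' (mapEl L g ξ)) γ = mapEl G g (mapEl G (rep.cls B ξ) γ)
    rw [rep.cls_mapEl, mapEl_comp]
  have B2 : ∀ (B : Alg A) (b : B) (ξ : L.obj (pt B)), tfun B (b • ξ) = b • tfun B ξ := by
    intro B b ξ
    change mapEl G (rep.cls B (b • ξ)) γ = b • mapEl G (rep.cls B ξ) γ
    rw [rep.cls_smul, mapEl_comp, hγhom, mapEl_smul, ← mapEl_comp, rep.fC_ev, rep.ev_X]
  have B3 : ∀ (B : Alg A) (ξ : L.obj (pt B)), S.g.app (pt B) (tfun B ξ) = lam.app (pt B) ξ := by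
    intro B ξ
    change S.g.app (pt B) (mapEl G (rep.cls B ξ) γ) = _
    rw [app_mapEl, hγ, ← app_mapEl, rep.cls_spec]
  have B4 : ∀ B : Alg A, tfun B 0 = 0 := by
    intro B
    have := B2 B 0 0
    rwa [zero_smul, zero_smul] at this
  -- Step C: additivity
  have hδ : ∀ (B : Alg A) (z : L₂.obj (pt B)), ∃ x : B ⊗[A] M, jj G M j B x =
      tfun B (p₁.app (pt B) z + p₂.app (pt B) z) - tfun B (p₁.app (pt B) z) -
        tfun B (p₂.app (pt B) z) := by
    intro B z
    apply E3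
    rw [map_sub, map_sub, B3, B3, B3, map_add]
    abel
  choose δ₂ hδ₂ using hδ
  obtain ⟨g₂, hg₂⟩ := rep₂.exists_hom_of_natural M δ₂ (by
    intro B B' g z
    apply E1' B'
    rw [jj_rTensor, hδ₂, hδ₂, mapEl_sub, mapEl_sub, ← B1, ← B1, ← B1, mapEl_add, app_mapEl,
      app_mapEl]) (by
    intro B b z
    apply E1' B
    rw [jj_smul, hδ₂, hδ₂, smul_sub, smul_sub, ← B2, ← B2, ← B2, smul_add, app_smul, app_smul])
  have hadd : ∀ (B : Alg A) (ξ ξ' : L.obj (pt B)), tfun B (ξ + ξ') = tfun B ξ + tfun B ξ' := by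
    intro B ξ ξ'
    have hp11 : ∀ x : L.obj (pt B), p₁.app (pt B) (i₁.app (pt B) x) = x := fun x => by
      rw [← PshMod.comp_app_apply, h11]; rfl
    have hp22 : ∀ x : L.obj (pt B), p₂.app (pt B) (i₂.app (pt B) x) = x := fun x => by
      rw [← PshMod.comp_app_apply, h22]; rfl
    have hp12 : ∀ x : L.obj (pt B), p₂.app (pt B) (i₁.app (pt B) x) = 0 := fun x => by
      rw [← PshMod.comp_app_apply, h12]; rfl
    have hp21 : ∀ x : L.obj (pt B), p₁.app (pt B) (i₂.app (pt B) x) = 0 := fun x => by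
      rw [← PshMod.comp_app_apply, h21]; rfl
    have d1 : δ₂ B (i₁.app (pt B) ξ) = 0 := by
      apply E1' B
      rw [hδ₂, hp11, hp12, add_zero, B4, map_zero]
      abel
    have d2 : δ₂ B (i₂.app (pt B) ξ') = 0 := by
      apply E1' B
      rw [hδ₂, hp22, hp21, zero_add, B4, map_zero]
      abel
    have hadd2 : ∀ z z' : L₂.obj (pt B), δ₂ B (z + z') = δ₂ B z + δ₂ B z' := by
      intro z z'
      rw [← hg₂, ← hg₂, ← hg₂]
      exact map_add (g₂.app (pt B)).hom z z'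
    have d3 : δ₂ B (i₁.app (pt B) ξ + i₂.app (pt B) ξ') = 0 := by
      rw [hadd2, d1, d2, add_zero]
    have d4 := hδ₂ B (i₁.app (pt B) ξ + i₂.app (pt B) ξ')
    rw [d3, map_zero, map_add, map_add, hp11, hp21, hp12, hp22, add_zero, zero_add] at d4
    have d5 : tfun B (ξ + ξ') - tfun B ξ - tfun B ξ' = 0 := d4.symm
    rw [sub_sub, sub_eq_zero] at d5
    exact d5
  -- Step D: assemble
  let t : L ⟶ G := PresheafOfModules.homMk
    { app := fun X => AddCommGrpCat.ofHom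
        { toFun := tfun X.unop.unop
          map_zero' := B4 X.unop.unop
          map_add' := hadd X.unop.unop }
      naturality := by
        intro X Y f
        ext ξ
        exact B1 f.unop.unop ξ }
    (by
      intro X r m
      exact B2 X.unop.unop r m)
  refine ⟨t, ?_⟩
  ext X ξ
  exact B3 X.unop.unop ξ

end Lift

end Groth.Agent.R2.H80.AdeqExt
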