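import Groth.Agent.R2.H80AdeqExtRep

/-!
# An extension of adequate functors is adequate (helper80)
-/

set_option autoImplicit false
universe u
open CategoryTheory Limits TensorProduct
open Adeq Groth.Agent.Helper13Adeq

namespace Groth.Agent.R2.H80.AdeqExt

variable {A : Type u} [CommRing A]

section Biprod

variable {X Y Z : MVF A} (B : Alg A)

theorem inl_fst_apply (x : X.obj (pt B)) :
    (biprod.fst : X ⊞ Y ⟶ X).app (pt B) ((biprod.inl : X ⟶ X ⊞ Y).app (pt B) x) = x := by
  rw [← PshMod.comp_app_apply, biprod.inl_fst]; rfl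

theorem inl_snd_apply (x : X.obj (pt B)) :
    (biprod.snd : X ⊞ Y ⟶ Y).app (pt B) ((biprod.inl : X ⟶ X ⊞ Y).app (pt B) x) = 0 := by
  rw [← PshMod.comp_app_apply, biprod.inl_snd]; rfl

theorem inr_fst_apply (y : Y.obj (pt B)) :
    (biprod.fst : X ⊞ Y ⟶ X).app (pt B) ((biprod.inr : Y ⟶ X ⊞ Y).app (pt B) y) = 0 := by
  rw [← PshMod.comp_app_apply, biprod.inr_fst]; rfl

theorem inr_snd_apply (y : Y.obj (pt B)) :
    (biprod.snd : X ⊞ Y ⟶ Y).app (pt B) ((biprod.inr : Y ⟶ X ⊞ Y).app (pt B) y) = y := by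
  rw [← PshMod.comp_app_apply, biprod.inr_snd]; rfl

theorem total_apply (z : (X ⊞ Y).obj (pt B)) :
    (biprod.inl : X ⟶ X ⊞ Y).app (pt B) ((biprod.fst : X ⊞ Y ⟶ X).app (pt B) z) +
      (biprod.inr : Y ⟶ X ⊞ Y).app (pt B) ((biprod.snd : X ⊞ Y ⟶ Y).app (pt B) z) = z := by
  have h := congrArg (fun t => t.app (pt B) z) (biprod.total (X := X) (Y := Y))
  exact h

theorem biprod_ext_apply (z z' : (X ⊞ Y).obj (pt B))
    (h1 : (biprod.fst : X ⊞ Y ⟶ X).app (pt B) z = (biprod.fst : X ⊞ Y ⟶ X).app (pt B) z')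
    (h2 : (biprod.snd : X ⊞ Y ⟶ Y).app (pt B) z = (biprod.snd : X ⊞ Y ⟶ Y).app (pt B) z') :
    z = z' := by
  rw [← total_apply B z, ← total_apply B z', h1, h2]

theorem desc_inl_apply (f : X ⟶ Z) (g : Y ⟶ Z) (x : X.obj (pt B)) :
    (biprod.desc f g).app (pt B) ((biprod.inl : X ⟶ X ⊞ Y).app (pt B) x) = f.app (pt B) x := by
  rw [← PshMod.comp_app_apply, biprod.inl_desc]

theorem desc_inr_apply (f : X ⟶ Z) (g : Y ⟶ Z) (y : Y.obj (pt B)) :
    (biprod.desc f g).app (pt B) ((biprod.inr : Y ⟶ X ⊞ Y).app (pt B) y) = g.app (pt B) y := by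
  rw [← PshMod.comp_app_apply, biprod.inr_desc]

theorem desc_apply (f : X ⟶ Z) (g : Y ⟶ Z) (z : (X ⊞ Y).obj (pt B)) :
    (biprod.desc f g).app (pt B) z =
      f.app (pt B) ((biprod.fst : X ⊞ Y ⟶ X).app (pt B) z) +
        g.app (pt B) ((biprod.snd : X ⊞ Y ⟶ Y).app (pt B) z) := by
  conv_lhs => rw [← total_apply B z, map_add]
  rw [desc_inl_apply, desc_inr_apply]

theorem lift_fst_apply (f : Z ⟶ X) (g : Z ⟶ Y) (z : Z.obj (pt B)) :
    (biprod.fst : X ⊞ Y ⟶ X).app (pt B) ((biprod.lift f g).app (pt B) z) = f.app (pt B) z := by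
  rw [← PshMod.comp_app_apply, biprod.lift_fst]

theorem lift_snd_apply (f : Z ⟶ X) (g : Z ⟶ Y) (z : Z.obj (pt B)) :
    (biprod.snd : X ⊞ Y ⟶ Y).app (pt B) ((biprod.lift f g).app (pt B) z) = g.app (pt B) z := by
  rw [← PshMod.comp_app_apply, biprod.lift_snd]

end Biprod

/-- an extension of an adequate functor by `underline M` is adequate -/
theorem adequate_of_shortExact_underline (S : ShortComplex (MVF A)) (hS : S.ShortExact)
    (M : ModuleCat.{u + 1} A) (e : S.X₁ ≅ (underline A).obj M) (hH : adequate A S.X₃) :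
    adequate A S.X₂ := by
  have hX₁ : adequate A S.X₁ := (adequate A).prop_of_iso e.symm (adequate_underline M)
  have := hS.mono_f
  have := hS.epi_g
  have hfinj : ∀ B : Alg A, Function.Injective (S.f.app (pt B)) :=
    fun B => PresheafOfModules.injective_of_mono S.f (pt B)
  have hex : ∀ B : Alg A, Function.Exact (S.f.app (pt B)) (S.g.app (pt B)) :=
    fun B => PshMod.exact_app S hS.exact (pt B)
  obtain ⟨ι, L, hL, c, hc, π, hπ⟩ := exists_epi_cofan_linAdequate S.X₃ hH
  have hπsurj : ∀ B : Alg A, Function.Surjective (π.app (pt B)) :=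
    fun B => PresheafOfModules.surjective_of_epi π (pt B)
  choose t ht using fun k => lift_linAdequate (L k) (hL k) S hS M e (c.inj k ≫ π)
  let T : c.pt ⟶ S.X₂ := Cofan.IsColimit.desc hc t
  have hT : T ≫ S.g = π := by
    apply Cofan.IsColimit.hom_ext hc
    intro k
    rw [Cofan.IsColimit.fac_assoc, ht]
  have hΛ : adequate A c.pt :=
    (adequate A).prop_of_iso (IsColimit.coconePointUniqueUpToIso (coproductIsCoproduct L) hc)
      (AdeqColim.adequate_sigma L (fun k => adequate_of_linAdequate (hL k)))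
  have hK : adequate A (kernel π) := AdeqCoker.adequate_kernel π hΛ hH
  have hm0 : (kernel.ι π ≫ T) ≫ S.g = 0 := by
    rw [Category.assoc, hT, kernel.condition]
  let m : kernel π ⟶ S.X₁ := hS.exact.lift (kernel.ι π ≫ T) hm0
  have hm : m ≫ S.f = kernel.ι π ≫ T := hS.exact.lift_f _ _
  let κ : kernel π ⟶ S.X₁ ⊞ c.pt := biprod.lift (-m) (kernel.ι π)
  let q : S.X₁ ⊞ c.pt ⟶ S.X₂ := biprod.desc S.f T
  have hκq : κ ≫ q = 0 := by
    rw [biprod.lift_desc, Preadditive.neg_comp, hm, neg_add_cancel]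
  have hW : adequate A (S.X₁ ⊞ c.pt) := by
    have := AdeqCorefl.closedFinProd A
    exact (adequate A).prop_of_iso (biprod.isoProd _ _).symm ((adequate A).prop_prod _ _ hX₁ hΛ)
  have hC : adequate A (cokernel κ) := AdeqCoker.adequate_cokernel κ hK hW
  let Φ : cokernel κ ⟶ S.X₂ := cokernel.desc κ q hκq
  have hΦ : ∀ (B : Alg A) (z : (S.X₁ ⊞ c.pt).obj (pt B)),
      Φ.app (pt B) ((cokernel.π κ).app (pt B) z) = q.app (pt B) z := by
    intro B z
    rw [← PshMod.comp_app_apply, cokernel.π_desc]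
  have hTg : ∀ (B : Alg A) (l : c.pt.obj (pt B)),
      S.g.app (pt B) (T.app (pt B) l) = π.app (pt B) l := by
    intro B l
    rw [← PshMod.comp_app_apply, hT]
  have hmf : ∀ (B : Alg A) (k : (kernel π).obj (pt B)),
      S.f.app (pt B) (m.app (pt B) k) = T.app (pt B) ((kernel.ι π).app (pt B) k) := by
    intro B k
    rw [← PshMod.comp_app_apply, hm, PshMod.comp_app_apply]
  have hΦiso : IsIso Φ := by
    apply PshMod.isIso_of_bijective
    intro X
    let B : Alg A := X.unop.unop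
    change Function.Bijective (Φ.app (pt B))
    constructor
    · rw [injective_iff_map_eq_zero]
      intro w hw
      obtain ⟨z, rfl⟩ := PshMod.cokernel_π_surjective κ (pt B) w
      rw [hΦ, desc_apply] at hw
      have h1 := congrArg (S.g.app (pt B)) hw
      rw [map_add, map_zero, hTg, (hex B _).2 ⟨_, rfl⟩, zero_add] at h1
      obtain ⟨k, hk⟩ := (PshMod.kernel_ι_exact π (pt B) _).1 h1
      rw [← hk, ← hmf, ← map_add] at hw
      have h2 := hfinj B (hw.trans (map_zero (S.f.app (pt B)).hom).symm)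
      have hz : z = κ.app (pt B) k := by
        apply biprod_ext_apply B
        · rw [lift_fst_apply]
          change _ = -(m.app (pt B) k)
          exact eq_neg_of_add_eq_zero_left h2
        · rw [lift_snd_apply, hk]
      rw [hz, ← PshMod.comp_app_apply, cokernel.condition]
      rfl
    · intro g
      obtain ⟨l, hl⟩ := hπsurj B (S.g.app (pt B) g)
      have h1 : S.g.app (pt B) (g - T.app (pt B) l) = 0 := by
        rw [map_sub, hTg, hl, sub_self]
      obtain ⟨x, hx⟩ := (hex B _).1 h1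
      refine ⟨(cokernel.π κ).app (pt B)
        ((biprod.inl : S.X₁ ⟶ S.X₁ ⊞ c.pt).app (pt B) x +
          (biprod.inr : c.pt ⟶ S.X₁ ⊞ c.pt).app (pt B) l), ?_⟩
      rw [hΦ, map_add, desc_inl_apply, desc_inr_apply, hx, sub_add_cancel]
  exact (adequate A).prop_of_iso (asIso Φ) hC

/-- an extension of adequate functors is adequate -/
theorem adequate_of_shortExact (S : ShortComplex (MVF A)) (hS : S.ShortExact)
    (h₁ : adequate A S.X₁) (h₃ : adequate A S.X₃) : adequate A S.X₂ := by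
  have := hS.mono_f
  have := hS.epi_g
  have hfinj : ∀ B : Alg A, Function.Injective (S.f.app (pt B)) :=
    fun B => PresheafOfModules.injective_of_mono S.f (pt B)
  have hgsurj : ∀ B : Alg A, Function.Surjective (S.g.app (pt B)) :=
    fun B => PresheafOfModules.surjective_of_epi S.g (pt B)
  have hex : ∀ B : Alg A, Function.Exact (S.f.app (pt B)) (S.g.app (pt B)) :=
    fun B => PshMod.exact_app S hS.exact (pt B)
  obtain ⟨M₁, N₁, φ₁, i, hi, hiex⟩ := (adequate_iff S.X₁).1 h₁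
  have hiφ : i ≫ (underline A).map φ₁ = 0 := by
    ext X y
    exact (hiex X.unop.unop _).2 ⟨y, rfl⟩
  let U : MVF A := (underline A).obj M₁
  let ν : S.X₁ ⟶ U ⊞ S.X₂ := biprod.lift i (-S.f)
  let j' : U ⟶ cokernel ν := biprod.inl ≫ cokernel.π ν
  let g' : S.X₂ ⟶ cokernel ν := biprod.inr ≫ cokernel.π ν
  have hν1 : ν ≫ biprod.desc (0 : U ⟶ S.X₃) S.g = 0 := by
    rw [biprod.lift_desc, Limits.comp_zero, Preadditive.neg_comp, S.zero, neg_zero, add_zero]
  have hν2 : ν ≫ biprod.desc ((underline A).map φ₁) (0 : S.X₂ ⟶ (underline A).obj N₁) = 0 := by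
    rw [biprod.lift_desc, hiφ, Limits.comp_zero, add_zero]
  let p' : cokernel ν ⟶ S.X₃ := cokernel.desc ν _ hν1
  let θ : cokernel ν ⟶ (underline A).obj N₁ := cokernel.desc ν _ hν2
  have hp' : ∀ (B : Alg A) (z : (U ⊞ S.X₂).obj (pt B)),
      p'.app (pt B) ((cokernel.π ν).app (pt B) z) =
        S.g.app (pt B) ((biprod.snd : U ⊞ S.X₂ ⟶ S.X₂).app (pt B) z) := by
    intro B z
    rw [← PshMod.comp_app_apply, cokernel.π_desc, desc_apply]
    change (0 : _) + _ = _
    rw [zero_add]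
  have hθ : ∀ (B : Alg A) (z : (U ⊞ S.X₂).obj (pt B)),
      θ.app (pt B) ((cokernel.π ν).app (pt B) z) =
        ((underline A).map φ₁).app (pt B) ((biprod.fst : U ⊞ S.X₂ ⟶ U).app (pt B) z) := by
    intro B z
    rw [← PshMod.comp_app_apply, cokernel.π_desc, desc_apply]
    change _ + (0 : _) = _
    rw [add_zero]
  have hνfst : ∀ (B : Alg A) (ξ : S.X₁.obj (pt B)),
      (biprod.fst : U ⊞ S.X₂ ⟶ U).app (pt B) (ν.app (pt B) ξ) = i.app (pt B) ξ :=
    fun B ξ => lift_fst_apply B _ _ ξ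
  have hνsnd : ∀ (B : Alg A) (ξ : S.X₁.obj (pt B)),
      (biprod.snd : U ⊞ S.X₂ ⟶ S.X₂).app (pt B) (ν.app (pt B) ξ) = -(S.f.app (pt B) ξ) :=
    fun B ξ => lift_snd_apply B _ _ ξ
  have hπν : ∀ (B : Alg A) (ξ : S.X₁.obj (pt B)),
      (cokernel.π ν).app (pt B) (ν.app (pt B) ξ) = 0 := by
    intro B ξ
    rw [← PshMod.comp_app_apply, cokernel.condition]
    rfl
  have hj'app : ∀ (B : Alg A) (x : U.obj (pt B)), j'.app (pt B) x =
      (cokernel.π ν).app (pt B) ((biprod.inl : U ⟶ U ⊞ S.X₂).app (pt B) x) := fun B x => rfl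
  have hg'app : ∀ (B : Alg A) (g : S.X₂.obj (pt B)), g'.app (pt B) g =
      (cokernel.π ν).app (pt B) ((biprod.inr : S.X₂ ⟶ U ⊞ S.X₂).app (pt B) g) := fun B g => rfl
  -- the pushed-out extension
  have hj'p' : j' ≫ p' = 0 := by
    rw [Category.assoc, cokernel.π_desc, biprod.inl_desc]
  let S' : ShortComplex (MVF A) := ShortComplex.mk j' p' hj'p'
  have hS' : S'.ShortExact := by
    have hmono : Mono S'.f := by
      apply PresheafOfModules.mono_of_injective
      intro X
      let B : Alg A := X.unop.unop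
      change Function.Injective (j'.app (pt B))
      rw [injective_iff_map_eq_zero]
      intro x hx
      rw [hj'app] at hx
      obtain ⟨ξ, hξ⟩ := (PshMod.cokernel_π_exact ν (pt B) _).1 hx
      have h1 := congrArg ((biprod.snd : U ⊞ S.X₂ ⟶ S.X₂).app (pt B)) hξ
      rw [hνsnd, inl_snd_apply, neg_eq_zero] at h1
      have hξ0 : ξ = 0 := hfinj B (h1.trans (map_zero (S.f.app (pt B)).hom).symm)
      have h2 := congrArg ((biprod.fst : U ⊞ S.X₂ ⟶ U).app (pt B)) hξ
      rw [hνfst, inl_fst_apply, hξ0, map_zero] at h2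
      exact h2.symm
    have hepi : Epi S'.g := by
      apply PresheafOfModules.epi_of_surjective
      intro X
      let B : Alg A := X.unop.unop
      change Function.Surjective (p'.app (pt B))
      intro h
      obtain ⟨g, hg⟩ := hgsurj B h
      refine ⟨(cokernel.π ν).app (pt B) ((biprod.inr : S.X₂ ⟶ U ⊞ S.X₂).app (pt B) g), ?_⟩
      rw [hp', inr_snd_apply, hg]
    refine ShortComplex.ShortExact.mk' (PshMod.exact_of_app S' ?_) hmono hepi
    intro X
    let B : Alg A := X.unop.unop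
    change Function.Exact (j'.app (pt B)) (p'.app (pt B))
    intro w
    constructor
    · intro hw
      obtain ⟨z, rfl⟩ := PshMod.cokernel_π_surjective ν (pt B) w
      rw [hp'] at hw
      obtain ⟨ξ, hξ⟩ := (hex B _).1 hw
      refine ⟨(biprod.fst : U ⊞ S.X₂ ⟶ U).app (pt B) z + i.app (pt B) ξ, ?_⟩
      have hz : (biprod.inl : U ⟶ U ⊞ S.X₂).app (pt B)
          ((biprod.fst : U ⊞ S.X₂ ⟶ U).app (pt B) z + i.app (pt B) ξ) =
          z + ν.app (pt B) ξ := by
        apply biprod_ext_apply B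
        · rw [inl_fst_apply, map_add, hνfst]
        · rw [inl_snd_apply, map_add, hνsnd, hξ, add_neg_cancel]
      change j'.app (pt B) _ = _
      rw [hj'app, hz, map_add, hπν, add_zero]
    · rintro ⟨x, rfl⟩
      rw [hj'app, hp', inl_snd_apply, map_zero]
  have hG' : adequate A (cokernel ν) :=
    adequate_of_shortExact_underline S' hS' M₁ (Iso.refl _) h₃
  have hK : adequate A (kernel θ) := AdeqCoker.adequate_kernel_to_underline _ hG' N₁ θ
  refine (adequate A).prop_of_iso (PshMod.isoKernel g' θ (fun X => ?_) (fun X => ?_)).symm hK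
  · let B : Alg A := X.unop.unop
    change Function.Injective (g'.app (pt B))
    rw [injective_iff_map_eq_zero]
    intro g hg
    rw [hg'app] at hg
    obtain ⟨ξ, hξ⟩ := (PshMod.cokernel_π_exact ν (pt B) _).1 hg
    have h1 := congrArg ((biprod.fst : U ⊞ S.X₂ ⟶ U).app (pt B)) hξ
    rw [hνfst, inr_fst_apply] at h1
    have hξ0 : ξ = 0 := hi B (h1.trans (map_zero (i.app (pt B)).hom).symm)
    have h2 := congrArg ((biprod.snd : U ⊞ S.X₂ ⟶ S.X₂).app (pt B)) hξ
    rw [hνsnd, inr_snd_apply, hξ0, map_zero, neg_zero] at h2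
    exact h2.symm
  · let B : Alg A := X.unop.unop
    change Function.Exact (g'.app (pt B)) (θ.app (pt B))
    intro w
    constructor
    · intro hw
      obtain ⟨z, rfl⟩ := PshMod.cokernel_π_surjective ν (pt B) w
      rw [hθ] at hw
      obtain ⟨ξ, hξ⟩ := (hiex B _).1 hw
      refine ⟨(biprod.snd : U ⊞ S.X₂ ⟶ S.X₂).app (pt B) z + S.f.app (pt B) ξ, ?_⟩
      have hz : (biprod.inr : S.X₂ ⟶ U ⊞ S.X₂).app (pt B)
          ((biprod.snd : U ⊞ S.X₂ ⟶ S.X₂).app (pt B) z + S.f.app (pt B) ξ) =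
          z - ν.app (pt B) ξ := by
        apply biprod_ext_apply B
        · rw [inr_fst_apply, map_sub, hνfst, hξ, sub_self]
        · rw [inr_snd_apply, map_sub, hνsnd, sub_neg_eq_add]
      rw [hg'app, hz, map_sub, hπν, sub_zero]
    · rintro ⟨g, rfl⟩
      rw [hg'app, hθ, inr_fst_apply, map_zero]

end Groth.Agent.R2.H80.AdeqExt
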