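import Groth.Agent.R2.H80AdeqExt

/-!
# The kernel of `underline α` (α between finite free modules) is represented by `A[x]/(linear forms)`
(helper80)
-/

set_option autoImplicit false
universe u
open CategoryTheory Limits TensorProduct Polynomial
open Adeq Groth.Agent.Helper13Adeq Groth.Agent.Helper13Adeq.Univ

namespace Groth.Agent.R2.H80.AdeqExt

variable {A : Type u} [CommRing A]

theorem RU_algHom_ext {n m : ℕ} (a : Fin m → Fin n → A) {B : Type*} [CommRing B] [Algebra A B]
    (f g : RU a →ₐ[A] B) (h : ∀ j, f (xb a j) = g (xb a j)) : f = g := by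
  apply Ideal.Quotient.algHom_ext
  apply MvPolynomial.algHom_ext
  intro j
  exact h j

section bases

open Module

variable {P : Type*} [AddCommGroup P] [Module A P] {n : ℕ} (eP : Basis (Fin n) A P)
  (B : Type*) [CommRing B] [Algebra A B]

theorem coords_unique (b b' : Fin n → B)
    (h : ∑ j, b j ⊗ₜ[A] eP j = ∑ j, b' j ⊗ₜ[A] eP j) : b = b' := by
  have h0 : ∑ j, (b j - b' j) ⊗ₜ[A] eP j = 0 := by
    simp_rw [TensorProduct.sub_tmul]
    rw [Finset.sum_sub_distrib, h, sub_self]
  funext j
  exact sub_eq_zero.1 (coords_eq_zero eP B (fun j => b j - b' j) h0 j)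

end bases

variable [Nontrivial A] (P P' : ModuleCat.{u + 1} A) [Module.Finite A P] [Module.Free A P]
  [Module.Finite A P'] [Module.Free A P'] (α : P ⟶ P')

theorem nonempty_rep : Nonempty (Rep (kernel ((underline A).map α))) := by
  classical
  let L : MVF A := kernel ((underline A).map α)
  let ι : L ⟶ (underline A).obj P := kernel.ι ((underline A).map α)
  have ιinj : ∀ B : Alg A, Function.Injective (ι.app (pt B)) := fun B =>
    PshMod.kernel_ι_injective _ (pt B)
  have ιex : ∀ B : Alg A, Function.Exact (ι.app (pt B)) (((underline A).map α).app (pt B)) :=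
    fun B => PshMod.kernel_ι_exact _ (pt B)
  let n := Module.finrank A P
  let m := Module.finrank A P'
  let eP : Module.Basis (Fin n) A P := Module.finBasis A P
  let eP' : Module.Basis (Fin m) A P' := Module.finBasis A P'
  let a : Fin m → Fin n → A := fun i j => eP'.repr (α.hom (eP j)) i
  let R : Alg A := algOf A (RU a)
  let ξu : (RU a) ⊗[A] P := ∑ j, xb a j ⊗ₜ[A] eP j
  have hξu : ((underline A).map α).app (pt R) ξu = 0 := by
    change α.hom.baseChange (RU a) ξu = 0
    rw [baseChange_sum_basis eP eP']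
    refine Finset.sum_eq_zero (fun i _ => ?_)
    rw [rel a i, TensorProduct.zero_tmul]
  obtain ⟨ηu, hηu⟩ := (ιex R ξu).1 hξu
  have ιnat : ∀ {B B' : Alg A} (f : B ⟶ B') (η : L.obj (pt B)),
      ι.app (pt B') (mapEl L f η) = (f.hom.toLinearMap.rTensor P) (ι.app (pt B) η) :=
    fun f η => app_mapEl ι f η
  -- coordinates
  have hcrd : ∀ (B : Alg A) (ξ : L.obj (pt B)), ∃ b : Fin n → B,
      ι.app (pt B) ξ = ∑ j, b j ⊗ₜ[A] eP j := fun B ξ => exists_coords eP B _
  choose crd hcrd' using hcrd
  have crd_unique : ∀ (B : Alg A) (ξ : L.obj (pt B)) (b : Fin n → B),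
      ι.app (pt B) ξ = ∑ j, b j ⊗ₜ[A] eP j → crd B ξ = b := by
    intro B ξ b hb
    exact coords_unique eP B _ _ ((hcrd' B ξ).symm.trans hb)
  have hrel : ∀ (B : Alg A) (ξ : L.obj (pt B)) (i : Fin m), ∑ j, a i j • crd B ξ j = 0 := by
    intro B ξ
    apply coords_eq_zero eP' B
    rw [← baseChange_sum_basis eP eP' B α.hom (crd B ξ), ← hcrd' B ξ]
    exact (ιex B _).2 ⟨ξ, rfl⟩
  let cls : ∀ (B : Alg A), L.obj (pt B) → (R ⟶ B) := fun B ξ =>
    CommAlgCat.ofHom (classify a (crd B ξ) (hrel B ξ))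
  have cls_xb : ∀ (B : Alg A) (ξ : L.obj (pt B)) (j : Fin n), (cls B ξ).hom (xb a j) = crd B ξ j :=
    fun B ξ j => classify_xb a (crd B ξ) (hrel B ξ) j
  have ι_mapEl : ∀ (B : Alg A) (f : R ⟶ B),
      ι.app (pt B) (mapEl L f ηu) = ∑ j, f.hom (xb a j) ⊗ₜ[A] eP j := by
    intro B f
    rw [ιnat, hηu]
    simp only [ξu, map_sum, LinearMap.rTensor_tmul]
    rfl
  have cls_spec : ∀ (B : Alg A) (ξ : L.obj (pt B)), mapEl L (cls B ξ) ηu = ξ := by
    intro B ξ
    apply ιinj B
    rw [ι_mapEl, hcrd' B ξ]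
    refine Finset.sum_congr rfl (fun j _ => ?_)
    rw [cls_xb]
  have cls_uniq : ∀ (B : Alg A) (f : R ⟶ B), cls B (mapEl L f ηu) = f := by
    intro B f
    apply CommAlgCat.hom_ext
    apply RU_algHom_ext
    intro j
    change (cls B (mapEl L f ηu)).hom (xb a j) = f.hom (xb a j)
    rw [cls_xb, crd_unique B _ (fun j => f.hom (xb a j)) (ι_mapEl B f)]
  refine ⟨{ R := RU a, ηu := ηu, cls := cls, cls_spec := cls_spec, cls_uniq := cls_uniq, key := ?_ }⟩
  intro M w hw
  -- identify the scaling map with `sigma a`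
  let T : Alg A := algOf A (Polynomial (RU a))
  let fC : R ⟶ T := CommAlgCat.ofHom (Polynomial.CAlgHom (R := A) (A := RU a))
  have hσ : (cls T (((X : Polynomial (RU a)) : T) • mapEl L fC ηu)).hom = sigma a := by
    apply RU_algHom_ext
    intro j
    rw [cls_xb]
    have h1 : ι.app (pt T) (((X : Polynomial (RU a)) : T) • mapEl L fC ηu) =
        ∑ j, (X * C (xb a j) : Polynomial (RU a)) ⊗ₜ[A] eP j := by
      rw [app_smul, ι_mapEl]
      change (X : Polynomial (RU a)) •
        (∑ j, fC.hom (xb a j) ⊗ₜ[A] eP j : (Polynomial (RU a)) ⊗[A] P) = _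
      rw [Finset.smul_sum]
      refine Finset.sum_congr rfl (fun j _ => ?_)
      rw [TensorProduct.smul_tmul']
      rfl
    rw [crd_unique T _ _ h1, sigma, classify_xb]
  rw [hσ] at hw
  obtain ⟨v, hv⟩ := Univ.key a w hw
  let g₀ : P →ₗ[A] M := eP.constr A v
  have hg₀ : ∀ j, g₀ (eP j) = v j := fun j => eP.constr_basis A v j
  refine ⟨ι ≫ (underline A).map (ModuleCat.ofHom g₀), fun B ξ => ?_⟩
  change g₀.baseChange B (ι.app (pt B) ξ) = _
  rw [hcrd' B ξ, hv, map_sum, map_sum]
  refine Finset.sum_congr rfl (fun j _ => ?_)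
  rw [LinearMap.baseChange_tmul, hg₀, LinearMap.rTensor_tmul]
  congr 1
  exact (cls_xb B ξ j).symm

omit [Nontrivial A] in
theorem subsingleton_obj [Subsingleton A] (F : MVF A) (B : Alg A) : Subsingleton (F.obj (pt B)) := by
  have : Subsingleton B := by
    refine ⟨fun a b => ?_⟩
    have h01 : (0 : B) = 1 := by
      rw [← map_zero (algebraMap A B), ← map_one (algebraMap A B), Subsingleton.elim (0 : A) 1]
    rw [← mul_one a, ← mul_one b, ← h01, mul_zero, mul_zero]
  exact Module.subsingleton B _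

omit [Nontrivial A] in
/-- maps from a linearly adequate functor lift along epimorphisms whose kernel is `underline M`. -/
theorem lift_linAdequate (L : MVF A) (hL : linAdequate A L) (S : ShortComplex (MVF A))
    (hS : S.ShortExact) (M : ModuleCat.{u + 1} A) (e : S.X₁ ≅ (underline A).obj M)
    (lam : L ⟶ S.X₃) : ∃ t : L ⟶ S.X₂, t ≫ S.g = lam := by
  rcases subsingleton_or_nontrivial A with hA | hA
  · refine ⟨0, ?_⟩
    ext X x
    have := subsingleton_obj S.X₃ X.unop.unop
    exact Subsingleton.elim (α := S.X₃.obj (pt X.unop.unop)) _ _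
  obtain ⟨P, P', α, hPf, hPfree, hP'f, hP'free, ⟨eL⟩⟩ := hL
  let P₂ : ModuleCat.{u + 1} A := ModuleCat.of A (P × P)
  let P₂' : ModuleCat.{u + 1} A := ModuleCat.of A (P' × P')
  let α₂ : P₂ ⟶ P₂' := ModuleCat.ofHom (α.hom.prodMap α.hom)
  obtain ⟨rep⟩ := nonempty_rep P P' α
  obtain ⟨rep₂⟩ := nonempty_rep P₂ P₂' α₂
  let inl : P ⟶ P₂ := ModuleCat.ofHom (LinearMap.inl A P P)
  let inr : P ⟶ P₂ := ModuleCat.ofHom (LinearMap.inr A P P)
  let fst : P₂ ⟶ P := ModuleCat.ofHom (LinearMap.fst A P P)
  let snd : P₂ ⟶ P := ModuleCat.ofHom (LinearMap.snd A P P)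
  let inl' : P' ⟶ P₂' := ModuleCat.ofHom (LinearMap.inl A P' P')
  let inr' : P' ⟶ P₂' := ModuleCat.ofHom (LinearMap.inr A P' P')
  let fst' : P₂' ⟶ P' := ModuleCat.ofHom (LinearMap.fst A P' P')
  let snd' : P₂' ⟶ P' := ModuleCat.ofHom (LinearMap.snd A P' P')
  have c1 : α ≫ inl' = inl ≫ α₂ := by
    apply ModuleCat.hom_ext
    apply LinearMap.ext
    intro x
    change ((α.hom x, 0) : P' × P') = (α.hom x, α.hom 0)
    rw [map_zero]
  have c2 : α ≫ inr' = inr ≫ α₂ := by
    apply ModuleCat.hom_ext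
    apply LinearMap.ext
    intro x
    change ((0, α.hom x) : P' × P') = (α.hom 0, α.hom x)
    rw [map_zero]
  have c3 : α₂ ≫ fst' = fst ≫ α := by
    apply ModuleCat.hom_ext
    apply LinearMap.ext
    intro x
    rfl
  have c4 : α₂ ≫ snd' = snd ≫ α := by
    apply ModuleCat.hom_ext
    apply LinearMap.ext
    intro x
    rfl
  let i₁ : kernel ((underline A).map α) ⟶ kernel ((underline A).map α₂) :=
    kernel.map _ _ ((underline A).map inl) ((underline A).map inl')
      (by rw [← Functor.map_comp, ← Functor.map_comp, c1])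
  let i₂ : kernel ((underline A).map α) ⟶ kernel ((underline A).map α₂) :=
    kernel.map _ _ ((underline A).map inr) ((underline A).map inr')
      (by rw [← Functor.map_comp, ← Functor.map_comp, c2])
  let p₁ : kernel ((underline A).map α₂) ⟶ kernel ((underline A).map α) :=
    kernel.map _ _ ((underline A).map fst) ((underline A).map fst')
      (by rw [← Functor.map_comp, ← Functor.map_comp, c3])
  let p₂ : kernel ((underline A).map α₂) ⟶ kernel ((underline A).map α) :=
    kernel.map _ _ ((underline A).map snd) ((underline A).map snd')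
      (by rw [← Functor.map_comp, ← Functor.map_comp, c4])
  have e11 : inl ≫ fst = 𝟙 P := by
    apply ModuleCat.hom_ext; apply LinearMap.ext; intro x; rfl
  have e22 : inr ≫ snd = 𝟙 P := by
    apply ModuleCat.hom_ext; apply LinearMap.ext; intro x; rfl
  have e12 : inl ≫ snd = 0 := by
    apply ModuleCat.hom_ext; apply LinearMap.ext; intro x; rfl
  have e21 : inr ≫ fst = 0 := by
    apply ModuleCat.hom_ext; apply LinearMap.ext; intro x; rfl
  have h11 : i₁ ≫ p₁ = 𝟙 _ := by
    rw [← cancel_mono (kernel.ι ((underline A).map α))]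
    simp only [i₁, p₁, Category.assoc, kernel.lift_ι, kernel.lift_ι_assoc, Category.id_comp]
    rw [← Functor.map_comp, e11, CategoryTheory.Functor.map_id, Category.comp_id]
  have h22 : i₂ ≫ p₂ = 𝟙 _ := by
    rw [← cancel_mono (kernel.ι ((underline A).map α))]
    simp only [i₂, p₂, Category.assoc, kernel.lift_ι, kernel.lift_ι_assoc, Category.id_comp]
    rw [← Functor.map_comp, e22, CategoryTheory.Functor.map_id, Category.comp_id]
  have h12 : i₁ ≫ p₂ = 0 := by
    rw [← cancel_mono (kernel.ι ((underline A).map α))]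
    simp only [i₁, p₂, Category.assoc, kernel.lift_ι, kernel.lift_ι_assoc, Limits.zero_comp]
    rw [← Functor.map_comp, e12, CategoryTheory.Functor.map_zero, Limits.comp_zero]
  have h21 : i₂ ≫ p₁ = 0 := by
    rw [← cancel_mono (kernel.ι ((underline A).map α))]
    simp only [i₂, p₁, Category.assoc, kernel.lift_ι, kernel.lift_ι_assoc, Limits.zero_comp]
    rw [← Functor.map_comp, e21, CategoryTheory.Functor.map_zero, Limits.comp_zero]
  obtain ⟨t', ht'⟩ := exists_lift rep rep₂ i₁ i₂ p₁ p₂ h11 h22 h12 h21 S hS M e (eL.inv ≫ lam)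
  exact ⟨eL.hom ≫ t', by rw [Category.assoc, ht', eL.hom_inv_id_assoc]⟩

omit [Nontrivial A] in
theorem adequate_underline (M : ModuleCat.{u + 1} A) : adequate A ((underline A).obj M) := by
  rw [adequate_iff]
  refine ⟨M, ModuleCat.of A PUnit, 0, 𝟙 _, fun B => Function.injective_id, fun B y => ?_⟩
  constructor
  · intro _
    exact ⟨y, rfl⟩
  · intro _
    have hz : ∀ z : B ⊗[A] (PUnit : Type (u + 1)), z = 0 := by
      intro z
      induction z using TensorProduct.induction_on with
      | zero => rfl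
      | tmul x y => rw [Subsingleton.elim y 0, TensorProduct.tmul_zero]
      | add x y hx hy => rw [hx, hy, add_zero]
    have : Subsingleton (B ⊗[A] (PUnit : Type (u + 1))) := ⟨fun a b => by rw [hz a, hz b]⟩
    exact Subsingleton.elim (α := B ⊗[A] (PUnit : Type (u + 1))) _ _

omit [Nontrivial A] in
/-- an extension of a linearly adequate functor by `underline M` splits and is adequate -/
theorem splitting_of_linAdequate (S : ShortComplex (MVF A)) (hS : S.ShortExact)
    (M : ModuleCat.{u + 1} A) (e : S.X₁ ≅ (underline A).obj M) (hL : linAdequate A S.X₃) :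
    Nonempty S.Splitting ∧ adequate A S.X₂ := by
  obtain ⟨s, hs⟩ := lift_linAdequate S.X₃ hL S hS M e (𝟙 _)
  have h : S.Splitting := ShortComplex.Splitting.ofExactOfSection S hS.exact s hs hS.mono_f
  refine ⟨⟨h⟩, ?_⟩
  have h₁ : adequate A S.X₁ := (adequate A).prop_of_iso e.symm (adequate_underline M)
  have h₃ : adequate A S.X₃ := adequate_of_linAdequate hL
  have := AdeqCorefl.closedFinProd A
  exact (adequate A).prop_of_iso (h.isoBinaryBiproduct ≪≫ biprod.isoProd _ _).symm
    ((adequate A).prop_prod _ _ h₁ h₃)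

end Groth.Agent.R2.H80.AdeqExt
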