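import Groth.Agent.R2.H80TotSheaf
import Groth.Agent.R2.H80AdeqBigShf

/-!
# Adequate modules on big sites are sheaves for the fpqc topology (helper80)
-/

set_option autoImplicit false
universe u
open CategoryTheory Limits TensorProduct AlgebraicGeometry Opposite
open Adeq Groth.Agent.Helper13Adeq

namespace Groth.Agent.R2.H80.AdeqFpqc

open AdeqDescFam (T)
open AdeqBigSheaf (Xo πo Xjk pj pk incL incR ringHomOf)

variable (K : Precoverage Scheme.{u}) [BigSite.OSh K] {S : Scheme.{u}} (M : BigSite.Mod K S)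

section Family

variable {R : CommRingCat.{u}} (a : Spec R ⟶ S) {n : ℕ} (A' : Fin n → Type u)
  [∀ j, CommRing (A' j)] [∀ j, Algebra R (A' j)] [Module.FaithfullyFlat R (∀ j, A' j)]

/-- the sheaf condition for a finite jointly faithfully flat family of affine objects -/
theorem isSheafFor_family (hadq : adequate R ((toMVF K a).obj M)) (B : Alg R) :
    Presieve.IsSheafFor (M.val.presheaf ⋙ forget AddCommGrpCat.{u + 1})
      (Presieve.ofArrows (Xo a A' B) (πo a A' B)) := by
  obtain ⟨hsep, hglue⟩ := AdeqFam.adequate_descent A' ((toMVF K a).obj M) hadq B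
  rw [Presieve.isSheafFor_arrows_iff]
  intro y hy
  have hcompat : ∀ j k,
      ((toMVF K a).obj M).map (ptHom (Alg.unit R (A' k) (T A' j B))) (y j) =
        ((toMVF K a).obj M).map (ptHom ((Alg.restr R (A' k)).map
          ((Alg.baseChange R (A' k)).map (Alg.unit R (A' j) B)))) (y k) := by
    intro j k
    exact hy j k (Xjk a A' B j k) (pj a A' B j k) (pk a A' B j k)
      (AdeqBigShf.overlap_comm a A' B j k)
  obtain ⟨x, hx⟩ := hglue y hcompat
  refine ⟨x, hx, fun x' hx' => ?_⟩
  let xF : ((toMVF K a).obj M).obj (pt B) := x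
  let xF' : ((toMVF K a).obj M).obj (pt B) := x'
  have hd : xF' - xF = 0 := by
    refine hsep (xF' - xF) (fun j => ?_)
    rw [map_sub, sub_eq_zero]
    exact (hx' j).trans (hx j).symm
  exact sub_eq_zero.1 hd

end Family

section Single

variable {R R₁ : CommRingCat.{u}} (φ : R ⟶ R₁) (g : Spec R ⟶ S)

theorem base_eq : Spec.map (CommRingCat.ofHom (algebraMap R (algOf R R))) ≫ g = g := by
  have h : Spec.map (CommRingCat.ofHom (algebraMap R (algOf R R))) = 𝟙 (Spec R) := Spec.map_id R
  exact (congrArg (fun t => t ≫ g) h).trans (Category.id_comp g)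

/-- the comparison of the standard affine object with `Over.mk g` -/
noncomputable def eBase : (specOver g).obj (op (algOf R R)) ⟶ Over.mk g :=
  AdeqBig.overMkHom (base_eq g)

instance : IsIso (eBase g) :=
  ⟨AdeqBig.overMkHom (base_eq g).symm,
    (AdeqBig.overMkHom_comp (base_eq g) (base_eq g).symm).trans (AdeqBig.overMkHom_refl _),
    (AdeqBig.overMkHom_comp (base_eq g).symm (base_eq g)).trans (AdeqBig.overMkHom_refl _)⟩

/-- the sieve on `Over.mk g` attached to the singleton covering `Spec φ` -/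
noncomputable abbrev T₀ : Sieve (Over.mk g) :=
  (Sieve.overEquiv (Over.mk g)).symm (Sieve.generate (Presieve.singleton (Spec.map φ)))

theorem ridL (A₁ : Type u) [CommRing A₁] [Algebra R A₁] :
    CommRingCat.ofHom (Algebra.TensorProduct.includeLeftRingHom : A₁ →+* A₁ ⊗[R] (algOf R R)) ≫
      CommRingCat.ofHom (Algebra.TensorProduct.rid R A₁ A₁).toRingEquiv.toRingHom =
        𝟙 (CommRingCat.of A₁) := by
  ext x
  change Algebra.TensorProduct.rid R A₁ A₁ (x ⊗ₜ[R] (1 : R)) = x
  rw [Algebra.TensorProduct.rid_tmul, one_smul]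

theorem pullback_T₀ :
    letI : Algebra R R₁ := φ.hom.toAlgebra
    Sieve.pullback (eBase g) (T₀ φ g) =
      Sieve.ofArrows (Xo g (fun _ : Fin 1 => R₁) (algOf R R))
        (πo g (fun _ : Fin 1 => R₁) (algOf R R)) := by
  let _ : Algebra R R₁ := φ.hom.toAlgebra
  have hπ : ∀ j : Fin 1, (πo g (fun _ : Fin 1 => R₁) (algOf R R) j).left =
      Spec.map (incL (fun _ : Fin 1 => R₁) j (algOf R R)) ≫ Spec.map φ :=
    fun j => AdeqBigRefine.incR_factor (fun _ : Fin 1 => R₁) j
  apply le_antisymm
  · intro V f hf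
    have hf' : (Sieve.generate (Presieve.singleton (Spec.map φ))) (f ≫ eBase g).left := hf
    obtain ⟨W, p, q, ⟨⟩, hpq⟩ := hf'
    have hpq' : p ≫ Spec.map φ = f.left := hpq.trans (Category.comp_id _)
    have hrid : Spec.map (CommRingCat.ofHom
        (Algebra.TensorProduct.rid R R₁ R₁).toRingEquiv.toRingHom) ≫
          Spec.map (incL (fun _ : Fin 1 => R₁) 0 (algOf R R)) = 𝟙 (Spec R₁) := by
      rw [← Spec.map_comp, ridL, Spec.map_id]
      rfl
    have hleft : (p ≫ Spec.map (CommRingCat.ofHom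
        (Algebra.TensorProduct.rid R R₁ R₁).toRingEquiv.toRingHom)) ≫
          (πo g (fun _ : Fin 1 => R₁) (algOf R R) 0).left = f.left :=
      (congrArg (fun t => (p ≫ Spec.map (CommRingCat.ofHom
        (Algebra.TensorProduct.rid R R₁ R₁).toRingEquiv.toRingHom)) ≫ t) (hπ 0)).trans
        ((Category.assoc _ _ _).trans ((congrArg (fun t => p ≫ t)
          ((Category.assoc _ _ _).symm.trans ((congrArg (fun t => t ≫ Spec.map φ) hrid).trans
            (Category.id_comp _)))).trans hpq'))
    refine ⟨Xo g (fun _ : Fin 1 => R₁) (algOf R R) 0,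
      Over.homMk (p ≫ Spec.map (CommRingCat.ofHom
        (Algebra.TensorProduct.rid R R₁ R₁).toRingEquiv.toRingHom)) ?_,
      πo g (fun _ : Fin 1 => R₁) (algOf R R) 0, ⟨0⟩, Over.OverMorphism.ext hleft⟩
    exact (congrArg (fun t => (p ≫ Spec.map (CommRingCat.ofHom
      (Algebra.TensorProduct.rid R R₁ R₁).toRingEquiv.toRingHom)) ≫ t)
        (Over.w (πo g (fun _ : Fin 1 => R₁) (algOf R R) 0)).symm).trans
      ((Category.assoc _ _ _).symm.trans ((congrArg
        (fun t => t ≫ ((specOver g).obj (op (algOf R R))).hom) hleft).trans (Over.w f)))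
  · rw [Sieve.ofArrows, Sieve.generate_le_iff]
    rintro V f ⟨j⟩
    change (Sieve.generate (Presieve.singleton (Spec.map φ)))
      (πo g (fun _ : Fin 1 => R₁) (algOf R R) j ≫ eBase g).left
    refine ⟨_, Spec.map (incL (fun _ : Fin 1 => R₁) j (algOf R R)), Spec.map φ, ⟨⟩, ?_⟩
    exact (hπ j).symm.trans (Category.comp_id _).symm

theorem ff_single (hfl : Flat (Spec.map φ)) (hsj : Surjective (Spec.map φ)) :
    letI : Algebra R R₁ := φ.hom.toAlgebra
    Module.FaithfullyFlat R (∀ j : Fin 1, (fun _ : Fin 1 => (R₁ : Type u)) j) := by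
  let _ : Algebra R R₁ := φ.hom.toAlgebra
  apply AdeqBigRefine.ff_pi
  · intro j
    have h1 := Flat.SpecMap_iff.1 hfl
    exact RingHom.flat_algebraMap_iff.1 h1
  · intro p
    obtain ⟨q, hq⟩ := hsj.surj p
    exact ⟨0, q, hq⟩

/-- the sheaf condition on `Over.mk g` for the covering by a faithfully flat map of rings -/
theorem isSheafFor_single (hadq : adequate R ((toMVF K g).obj M)) (hfl : Flat (Spec.map φ))
    (hsj : Surjective (Spec.map φ)) :
    Presieve.IsSheafFor (M.val.presheaf ⋙ forget AddCommGrpCat.{u + 1}) (T₀ φ g).arrows := by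
  let _ : Algebra R R₁ := φ.hom.toAlgebra
  have hff := ff_single φ hfl hsj
  rw [← Presieve.isSheafFor_pullback_iff _ (T₀ φ g) (eBase g), pullback_T₀, Sieve.ofArrows,
    ← Presieve.isSheafFor_iff_generate]
  exact isSheafFor_family K M g (fun _ : Fin 1 => (R₁ : Type u)) hadq (algOf R R)

end Single

section Main

theorem over_mono {J₁ J₂ : GrothendieckTopology Scheme.{u}} (h : J₁ ≤ J₂) (S : Scheme.{u}) :
    J₁.over S ≤ J₂.over S := by
  intro U T hT
  rw [GrothendieckTopology.mem_over_iff] at hT ⊢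
  exact h _ hT

/-- an adequate module is a sheaf for the fpqc topology -/
theorem isSheaf_fpqc (hzar : Scheme.zariskiTopology ≤ K.toGrothendieck)
    (hadq : ∀ (R : CommRingCat.{u}) (a : Spec R ⟶ S), adequate R ((toMVF K a).obj M)) :
    Presheaf.IsSheaf (QuotSh.J Scheme.fpqcPrecoverage S) M.val.presheaf := by
  have hMsh : Presieve.IsSheaf (QuotSh.J K S) (M.val.presheaf ⋙ forget AddCommGrpCat.{u + 1}) :=
    (isSheaf_iff_isSheaf_of_type _ _).1
      ((Presheaf.isSheaf_iff_isSheaf_forget (QuotSh.J K S) M.val.presheaf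
        (forget AddCommGrpCat.{u + 1})).1 M.isSheaf)
  rw [Presheaf.isSheaf_iff_isSheaf_forget (QuotSh.J Scheme.fpqcPrecoverage S) M.val.presheaf
    (forget AddCommGrpCat.{u + 1}), isSheaf_iff_isSheaf_of_type]
  refine TotSheaf.isSheaf_of_tot (S := S) (M.val.presheaf ⋙ forget AddCommGrpCat.{u + 1})
    Scheme.fpqcTopology (GrothendieckTopology.Subcanonical.isSheaf_of_isRepresentable _) ?_
  rw [Scheme.fpqcTopology_eq_propQCTopology, isSheaf_type_propQCTopology_iff]
  refine ⟨?_, ?_⟩
  · refine TotSheaf.tot_isSheaf (S := S) _ Scheme.zariskiTopology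
      (GrothendieckTopology.Subcanonical.isSheaf_of_isRepresentable _) ?_
    exact Presieve.isSheaf_of_le _ (over_mono hzar S) hMsh
  · intro R R₁ φ hfl hsj
    rw [Presieve.isSheafFor_iff_generate]
    refine TotSheaf.tot_isSheafFor _ _ ?_ (fun g => isSheafFor_single K M φ g (hadq R g) hfl hsj)
    have : Flat (Spec.map φ) := hfl
    have : Surjective (Spec.map φ) := hsj
    have hmem : Sieve.generate (Presieve.singleton (Spec.map φ)) ∈
        Scheme.fpqcTopology (Spec R) :=
      Precoverage.generate_mem_toGrothendieck (Spec.map φ).singleton_mem_fpqcPrecoverage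
    exact (GrothendieckTopology.Subcanonical.isSheaf_of_isRepresentable
      (J := Scheme.fpqcTopology) (yoneda.obj S)) _ hmem

end Main

end Groth.Agent.R2.H80.AdeqFpqc
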