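import Groth.Agent.R2.H80AdeqParasitic
import Groth.Agent.R2.H80AdeqFpqc
import Groth.Agent.S8740
import Groth.Agent.S8755

/-!
# Characterisations of parasitic adequate modules on the big fppf site (helper80)
-/

set_option autoImplicit false
universe u
open CategoryTheory Limits TensorProduct AlgebraicGeometry Opposite
open Adeq Groth.Agent.Helper13Adeq

namespace Groth.Agent.R2.H80.AdeqParaTFAE

section Functor

variable {A : Type u} [CommRing A]

/-- an adequate functor vanishing at `A` vanishes at all flat `A`-algebras -/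
theorem subsingleton_of_flat (F : MVF A) (hF : adequate A F)
    (h0 : Subsingleton (F.obj (pt (algOf A A)))) (B : Alg A) (hfl : (algebraMap A B).Flat) :
    Subsingleton (F.obj (pt B)) := by
  let f : algOf A A ⟶ B := CommAlgCat.ofHom (Algebra.ofId A B)
  have hiso : IsIso (F.bc f) := Groth.Agent.S8740.result A F hF f hfl
  have hsurj : Function.Surjective (F.bc f) :=
    (ConcreteCategory.bijective_of_isIso (F.bc f)).2
  have hsub : Subsingleton ((ModuleCat.extendScalars.{u, u, u + 1} f.hom.toRingHom).obj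
      (F.obj (pt (algOf A A)))) := by
    change Subsingleton (TensorProduct (algOf A A)
      ((ModuleCat.restrictScalars f.hom.toRingHom).obj (ModuleCat.of B B))
      (F.obj (pt (algOf A A))))
    infer_instance
  refine ⟨fun y y' => ?_⟩
  obtain ⟨z, rfl⟩ := hsurj y
  obtain ⟨z', rfl⟩ := hsurj y'
  rw [Subsingleton.elim z z']

end Functor

section Geom

variable {S : Scheme.{u}}

theorem zarIncl_obj (U : S.Opens) : (BigSite.zarIncl S).obj U = Over.mk U.ι := rfl

variable (M : BigSite.Mod Scheme.fppfPrecoverage S)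

/-- vanishing of sections is invariant under isomorphisms of objects -/
theorem subsingleton_of_iso {X Y : Over S} (i : X ⟶ Y) (i' : Y ⟶ X) (h : i' ≫ i = 𝟙 Y)
    (hX : Subsingleton (M.val.obj (op X))) : Subsingleton (M.val.obj (op Y)) := by
  refine ⟨fun y y' => ?_⟩
  have key : ∀ z : M.val.obj (op Y), M.val.map i'.op (M.val.map i.op z) = z := fun z =>
    (AdeqBig.pmap_comp_apply Scheme.fppfPrecoverage M.val i' i z).trans
      ((AdeqBig.pmap_congr Scheme.fppfPrecoverage M.val h z).trans
        (AdeqBig.pmap_id_apply Scheme.fppfPrecoverage M.val z))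
  let t : M.val.obj (op X) := M.val.map i.op y
  let t' : M.val.obj (op X) := M.val.map i.op y'
  have h1 : t = t' := Subsingleton.elim _ _
  exact (key y).symm.trans ((congrArg (fun t => M.val.map i'.op t) h1).trans (key y'))

/-- sections over an affine open of a flat `S`-scheme lying over an affine open of `S` on which
`M` vanishes -/
theorem subsingleton_affine_flat (hM : adequateMod Scheme.fppfPrecoverage S M) {U : S.Opens}
    (hU : IsAffineOpen U)
    (h0 : Subsingleton (M.val.obj (op ((BigSite.zarIncl S).obj U)))) (V : Over S)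
    (hV : Flat V.hom) {W : V.left.Opens} (hW : IsAffineOpen W) (hWU : W ≤ V.hom ⁻¹ᵁ U) :
    Subsingleton (M.val.obj (op (Over.mk (hW.fromSpec ≫ V.hom)))) := by
  let A : CommRingCat.{u} := Γ(S, U)
  let a : Spec A ⟶ S := hU.fromSpec
  have hadq := Groth.Agent.S8755.result S M hM A a
  -- vanishing at `A`
  have h1 : Subsingleton (M.val.obj (op (Over.mk a))) := by
    refine subsingleton_of_iso M (X := Over.mk U.ι) (Y := Over.mk a)
      (Over.homMk hU.isoSpec.hom hU.isoSpec_hom_fromSpec)
      (Over.homMk hU.isoSpec.inv hU.isoSpec_inv_ι) ?_ h0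
    apply Over.OverMorphism.ext
    exact hU.isoSpec.inv_hom_id
  have h2 : Subsingleton (M.val.obj (op ((specOver a).obj (op (algOf A A))))) :=
    subsingleton_of_iso M (AdeqBig.overMkHom (AdeqFpqc.base_eq a).symm)
      (AdeqBig.overMkHom (AdeqFpqc.base_eq a))
      ((AdeqBig.overMkHom_comp _ _).trans (AdeqBig.overMkHom_refl _)) h1
  -- the flat algebra
  let φ : A ⟶ Γ(V.left, W) := V.hom.appLE U W hWU
  let _ : Algebra A Γ(V.left, W) := φ.hom.toAlgebra
  have hfl : (algebraMap A Γ(V.left, W)).Flat := V.hom.flat_appLE hU hW hWU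
  have h3 := subsingleton_of_flat ((toMVF Scheme.fppfPrecoverage a).obj M) hadq h2
    (algOf A Γ(V.left, W)) hfl
  have heq : Spec.map (CommRingCat.ofHom (algebraMap A Γ(V.left, W))) ≫ a =
      hW.fromSpec ≫ V.hom := IsAffineOpen.SpecMap_appLE_fromSpec V.hom hU hW hWU
  exact subsingleton_of_iso M (AdeqBig.overMkHom heq) (AdeqBig.overMkHom heq.symm)
    ((AdeqBig.overMkHom_comp _ _).trans (AdeqBig.overMkHom_refl _)) h3

/-- an adequate module vanishing on the members of an affine open covering of `S` is parasitic -/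
theorem parasitic_of_affine_cover (hM : adequateMod Scheme.fppfPrecoverage S M) {ι : Type u}
    (U : ι → S.Opens) (hU : ∀ i, IsAffineOpen (U i)) (hcov : (⨆ i, U i) = ⊤)
    (h0 : ∀ i, Subsingleton (M.val.obj (op ((BigSite.zarIncl S).obj (U i))))) :
    parasitic Scheme.fppfPrecoverage S M := by
  intro V hV
  suffices h : ∀ x : M.val.obj (op V), x = 0 from ⟨fun x y => (h x).trans (h y).symm⟩
  intro x
  let I : Type u := {W : V.left.affineOpens // ∃ i, W.1 ≤ V.hom ⁻¹ᵁ U i}
  have hEq : Presheaf.equalizerSieve (F := M.val.presheaf) (X := op V) x 0 ∈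
      QuotSh.J Scheme.fppfPrecoverage S V := by
    refine AdeqParasitic.mem_of_precov_le (P := @Flat ⊓ @LocallyOfFinitePresentation) V _
      (Presieve.ofArrows (fun W : I => Spec Γ(V.left, W.1.1)) (fun W : I => W.1.2.fromSpec)) ?_ ?_
    · rw [Scheme.ofArrows_mem_precoverage_iff]
      refine ⟨fun v => ?_, fun W => ⟨inferInstance, inferInstance⟩⟩
      have hv : V.hom v ∈ (⨆ i, U i) := by rw [hcov]; trivial
      obtain ⟨i, hi⟩ := TopologicalSpace.Opens.mem_iSup.1 hv
      have hv' : v ∈ V.hom ⁻¹ᵁ U i := hi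
      obtain ⟨W, hW, hvW, hWU⟩ :=
        (TopologicalSpace.Opens.isBasis_iff_nbhd.1 V.left.isBasis_affineOpens) hv'
      refine ⟨⟨⟨W, hW⟩, i, hWU⟩, ?_⟩
      rw [hW.range_fromSpec]
      exact hvW
    · rintro Y g ⟨⟨W, i, hWi⟩⟩
      have hsub := subsingleton_affine_flat M hM (hU i) (h0 i) V hV W.2 hWi
      let t : M.val.obj (op (Over.mk (W.2.fromSpec ≫ V.hom))) :=
        M.val.map (Over.homMk W.2.fromSpec : Over.mk (W.2.fromSpec ≫ V.hom) ⟶ V).op x
      let t' : M.val.obj (op (Over.mk (W.2.fromSpec ≫ V.hom))) :=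
        M.val.map (Over.homMk W.2.fromSpec : Over.mk (W.2.fromSpec ≫ V.hom) ⟶ V).op 0
      have htt : t = t' := Subsingleton.elim _ _
      exact htt
  have hsep : Presheaf.IsSeparated (QuotSh.J Scheme.fppfPrecoverage S) M.val.presheaf :=
    M.isSheaf.isSeparated
  exact hsep V (Presheaf.equalizerSieve (F := M.val.presheaf) (X := op V) x 0) hEq x 0
    (fun Y f hf => hf)

end Geom

end Groth.Agent.R2.H80.AdeqParaTFAE
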