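import Groth.Agent.R2.H80AdeqBigExt
import Groth.Agent.R2.H80AdeqBigKer

/-!
# Parasitic modules on the big fppf site (helper80)
-/

set_option autoImplicit false
universe u
open CategoryTheory Limits TensorProduct AlgebraicGeometry Opposite
open Adeq Groth.Agent.Helper13Adeq

namespace Groth.Agent.R2.H80.AdeqParasitic

section Precov

variable {P : MorphismProperty Scheme.{u}} [P.IsStableUnderBaseChange]
  [P.IsStableUnderComposition] [P.ContainsIdentities]
  [Scheme.IsJointlySurjectivePreserving P]

/-- a covering sieve of the big site contains a covering family of the precoverage -/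
theorem exists_precov_le {S : Scheme.{u}} (U : Over S) (Tsv : Sieve U)
    (hT : Tsv ∈ QuotSh.J (Scheme.precoverage P) S U) :
    ∃ R' ∈ (Scheme.precoverage P).coverings U.left,
      (∀ ⦃Y : Scheme.{u}⦄ (g : Y ⟶ U.left), R' g → P g) ∧
      ∀ ⦃Y : Scheme.{u}⦄ (g : Y ⟶ U.left), R' g →
        Tsv.arrows (Over.homMk g : Over.mk (g ≫ U.hom) ⟶ U) := by
  rw [GrothendieckTopology.mem_over_iff,
    Precoverage.mem_toGrothendieck_iff_of_isStableUnderComposition] at hT
  obtain ⟨R', hR', hle⟩ := hT
  refine ⟨R', hR', fun Y g hg => hR'.2 hg, fun Y g hg => ?_⟩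
  have h1 := hle _ _ hg
  rwa [Sieve.overEquiv_iff] at h1

omit [P.IsStableUnderBaseChange] [P.IsStableUnderComposition] [P.ContainsIdentities]
  [Scheme.IsJointlySurjectivePreserving P] in
/-- a sieve containing a covering family of the precoverage is covering -/
theorem mem_of_precov_le {S : Scheme.{u}} (U : Over S) (Tsv : Sieve U)
    (R' : Presieve U.left) (hR' : R' ∈ (Scheme.precoverage P).coverings U.left)
    (h : ∀ ⦃Y : Scheme.{u}⦄ (g : Y ⟶ U.left), R' g →
        Tsv.arrows (Over.homMk g : Over.mk (g ≫ U.hom) ⟶ U)) :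
    Tsv ∈ QuotSh.J (Scheme.precoverage P) S U := by
  rw [GrothendieckTopology.mem_over_iff]
  refine GrothendieckTopology.superset_covering _ ?_ (Precoverage.generate_mem_toGrothendieck hR')
  rw [Sieve.generate_le_iff]
  intro Y g hg
  rw [Sieve.overEquiv_iff]
  exact h g hg

end Precov

section Exact

variable {S : Scheme.{u}}

/-- in an exact sequence of sheaves of modules with parasitic outer terms the middle is parasitic -/
theorem parasitic_of_exact (C : ShortComplex (BigSite.Mod Scheme.fppfPrecoverage S))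
    (hC : C.Exact) (p₁ : parasitic Scheme.fppfPrecoverage S C.X₁)
    (p₃ : parasitic Scheme.fppfPrecoverage S C.X₃) :
    parasitic Scheme.fppfPrecoverage S C.X₂ := by
  intro U hU
  have hId : MorphismProperty.ContainsIdentities
      ((@Flat ⊓ @LocallyOfFinitePresentation : MorphismProperty Scheme.{u})) :=
    ⟨fun X => ⟨inferInstance, inferInstance⟩⟩
  suffices h : ∀ x : C.X₂.val.obj (op U), x = 0 from
    ⟨fun x y => (h x).trans (h y).symm⟩
  intro x
  have hgx : C.g.val.app (op U) x = 0 := by
    have := p₃ U hU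
    exact Subsingleton.elim _ _
  have hepi : Epi (kernel.lift C.g C.f C.zero) := C.exact_iff_epi_kernel_lift.1 hC
  obtain ⟨k, hk⟩ := ((AdeqBigKer.kernel_sections Scheme.fppfPrecoverage C.g (op U)).2 x).1 hgx
  have hmem := AdeqBigExt.imageSieve_mem_of_epi (kernel.lift C.g C.f C.zero) U k
  obtain ⟨R', hR', hP, hle⟩ := exists_precov_le
    (P := @Flat ⊓ @LocallyOfFinitePresentation) U _ hmem
  have hEq : Presheaf.equalizerSieve (F := C.X₂.val.presheaf) (X := op U) x 0 ∈
      QuotSh.J Scheme.fppfPrecoverage S U := by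
    refine mem_of_precov_le (P := @Flat ⊓ @LocallyOfFinitePresentation) U _ R' hR' ?_
    intro Y g hg
    obtain ⟨t, ht⟩ := hle g hg
    have hflat : Flat (g ≫ U.hom) := by
      have := (hP g hg).1
      infer_instance
    have hsub := p₁ (Over.mk (g ≫ U.hom)) hflat
    let t' : C.X₁.val.obj (op (Over.mk (g ≫ U.hom))) := t
    have ht' : (kernel.lift C.g C.f C.zero).val.app (op (Over.mk (g ≫ U.hom))) t' =
        (kernel C.g).val.map (Over.homMk g : Over.mk (g ≫ U.hom) ⟶ U).op k := ht
    have ht0 : t' = 0 := Subsingleton.elim _ _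
    have hk0 : (kernel C.g).val.map (Over.homMk g : Over.mk (g ≫ U.hom) ⟶ U).op k = 0 := by
      rw [← ht', ht0]
      exact map_zero _
    change C.X₂.val.map (Over.homMk g : Over.mk (g ≫ U.hom) ⟶ U).op x =
      C.X₂.val.map (Over.homMk g : Over.mk (g ≫ U.hom) ⟶ U).op 0
    rw [← hk, map_zero]
    have hnat := PresheafOfModules.naturality_apply (kernel.ι C.g).val
      (Over.homMk g : Over.mk (g ≫ U.hom) ⟶ U).op k
    rw [← hnat, hk0]
    exact map_zero _
  have hsep : Presheaf.IsSeparated (QuotSh.J Scheme.fppfPrecoverage S) C.X₂.val.presheaf :=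
    C.X₂.isSheaf.isSeparated
  exact hsep U (Presheaf.equalizerSieve (F := C.X₂.val.presheaf) (X := op U) x 0) hEq x 0
    (fun Y f hf => hf)

end Exact

end Groth.Agent.R2.H80.AdeqParasitic
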