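import Groth.Agent.R2.H80AdeqPushObj
import Groth.Agent.R2.H80AdeqDescent

/-!
# Pushforward of adequate modules along a quasi-compact quasi-separated morphism (helper80)
-/

set_option autoImplicit false
universe u
open CategoryTheory Limits TensorProduct AlgebraicGeometry Opposite
open Adeq Groth.Agent.Helper13Adeq

namespace Groth.Agent.R2.H80.AdeqPushMVF

open AdeqPushObj

variable (K : Precoverage Scheme.{u}) [BigSite.OSh K] {S T : Scheme.{u}} (f : T ⟶ S)
  {R : CommRingCat.{u}} (a : Spec R ⟶ S) (M : BigSite.Mod K T)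

section Iota

variable (C : Type u) [CommRing C] [Algebra R C] (c : Spec (CommRingCat.of C) ⟶ pullback a f)
  (hc : c ≫ pullback.fst a f = Spec.map (CommRingCat.ofHom (algebraMap R C)))

theorem ring_id (B : Alg R) (r : B) :
    (BigSite.ORing K T).obj.map (mOver f a C c hc B).op
      ((Sheaf.toPushforwardOverPullback (BigSite.ORingAbs K) f).hom.app
        (op ((specOver a).obj (op B))) (toSect K a B r)) =
      toSect K (c ≫ pullback.snd a f) ((Alg.baseChange R C).obj B) ((1 : C) ⊗ₜ[R] r) := by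
  apply ULift.ext
  change ((Scheme.ΓSpecIso (CommRingCat.of B)).inv ≫ (pullback.fst (sB B ≫ a) f).appTop ≫
      (mLeft f a C c hc B).appTop) r =
    (iR C B ≫ (Scheme.ΓSpecIso (CommRingCat.of (C ⊗[R] B))).inv) r
  rw [← Scheme.Hom.comp_appTop, mLeft_fst, Scheme.ΓSpecIso_inv_naturality]

/-- restriction to the covering, as a map of module-valued functors -/
noncomputable def ιC : (toMVF K a).obj ((BigSite.pushMod K f).obj M) ⟶
    (push R C).obj ((toMVF K (c ≫ pullback.snd a f)).obj M) :=
  PresheafOfModules.homMk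
    { app := fun X => M.val.presheaf.map (mOver f a C c hc X.unop.unop).op
      naturality := by
        intro X Y g
        change M.val.presheaf.map ((Over.pullback f).map ((specOver a).map g.unop)).op ≫
            M.val.presheaf.map (mOver f a C c hc Y.unop.unop).op =
          M.val.presheaf.map (mOver f a C c hc X.unop.unop).op ≫
            M.val.presheaf.map ((specOver (c ≫ pullback.snd a f)).map
              ((Alg.baseChange R C).map g.unop.unop).op).op
        rw [← Functor.map_comp, ← Functor.map_comp, ← op_comp, ← op_comp]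
        exact congrArg (fun t => M.val.presheaf.map t.op)
          (mOver_natural f a C c hc g.unop.unop).symm }
    (by
      intro X r m
      have h := M.val.map_smul (mOver f a C c hc X.unop.unop).op
        ((Sheaf.toPushforwardOverPullback (BigSite.ORingAbs K) f).hom.app
          (op ((specOver a).obj (op X.unop.unop))) (toSect K a X.unop.unop r)) m
      refine h.trans ?_
      congr 1
      exact ring_id K f a C c hc X.unop.unop r)

theorem ιC_app (B : Alg R)
    (x : ((toMVF K a).obj ((BigSite.pushMod K f).obj M)).obj (pt B)) :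
    (ιC K f a M C c hc).app (pt B) x = M.val.map (mOver f a C c hc B).op x := rfl

end Iota

section U

variable (C D : Type u) [CommRing C] [Algebra R C] [CommRing D] [Algebra R D] (δ : C →ₐ[R] D)
  (c : Spec (CommRingCat.of C) ⟶ pullback a f) (cD : Spec (CommRingCat.of D) ⟶ pullback a f)
  (hδ : Spec.map (CommRingCat.ofHom δ.toRingHom) ≫ c = cD)

theorem ring_id2 (B : Alg R) (r : B) :
    (BigSite.ORing K T).obj.map (ρ f a C D δ c cD hδ B).op
      (toSect K (c ≫ pullback.snd a f) ((Alg.baseChange R C).obj B) ((1 : C) ⊗ₜ[R] r)) =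
      toSect K (cD ≫ pullback.snd a f) ((Alg.baseChange R D).obj B) ((1 : D) ⊗ₜ[R] r) := by
  apply ULift.ext
  change ((Scheme.ΓSpecIso (CommRingCat.of (C ⊗[R] B))).inv ≫
      (Spec.map (dmap C D δ B)).appTop) ((1 : C) ⊗ₜ[R] r) =
    (Scheme.ΓSpecIso (CommRingCat.of (D ⊗[R] B))).inv ((1 : D) ⊗ₜ[R] r)
  rw [← Scheme.ΓSpecIso_inv_naturality]
  change (Scheme.ΓSpecIso (CommRingCat.of (D ⊗[R] B))).inv
    ((Algebra.TensorProduct.map δ (AlgHom.id R B)) ((1 : C) ⊗ₜ[R] r)) = _
  rw [Algebra.TensorProduct.map_tmul, map_one]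
  rfl

/-- restriction along `Spec (D ⊗ B) → Spec (C ⊗ B)`, as a map of module-valued functors -/
noncomputable def uδ : (push R C).obj ((toMVF K (c ≫ pullback.snd a f)).obj M) ⟶
    (push R D).obj ((toMVF K (cD ≫ pullback.snd a f)).obj M) :=
  PresheafOfModules.homMk
    { app := fun X => M.val.presheaf.map (ρ f a C D δ c cD hδ X.unop.unop).op
      naturality := by
        intro X Y g
        change M.val.presheaf.map ((specOver (c ≫ pullback.snd a f)).map
              ((Alg.baseChange R C).map g.unop.unop).op).op ≫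
            M.val.presheaf.map (ρ f a C D δ c cD hδ Y.unop.unop).op =
          M.val.presheaf.map (ρ f a C D δ c cD hδ X.unop.unop).op ≫
            M.val.presheaf.map ((specOver (cD ≫ pullback.snd a f)).map
              ((Alg.baseChange R D).map g.unop.unop).op).op
        rw [← Functor.map_comp, ← Functor.map_comp, ← op_comp, ← op_comp]
        exact congrArg (fun t => M.val.presheaf.map t.op)
          (ρ_natural f a C D δ c cD hδ g.unop.unop).symm }
    (by
      intro X r m
      have h := M.val.map_smul (ρ f a C D δ c cD hδ X.unop.unop).op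
        (toSect K (c ≫ pullback.snd a f) ((Alg.baseChange R C).obj X.unop.unop)
          ((1 : C) ⊗ₜ[R] r)) m
      refine h.trans ?_
      congr 1
      exact ring_id2 K f a C D δ c cD hδ X.unop.unop r)

theorem uδ_app (B : Alg R)
    (y : ((push R C).obj ((toMVF K (c ≫ pullback.snd a f)).obj M)).obj (pt B)) :
    (uδ K f a M C D δ c cD hδ).app (pt B) y = M.val.map (ρ f a C D δ c cD hδ B).op y := rfl

end U

section Main

variable [K.IsStableUnderBaseChange]
  (C : Type u) [CommRing C] [Algebra R C] (c : Spec (CommRingCat.of C) ⟶ pullback a f)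
  (hc : c ≫ pullback.fst a f = Spec.map (CommRingCat.ofHom (algebraMap R C)))
  (hcov : Presieve.ofArrows (fun _ : PUnit.{1} => Spec (CommRingCat.of C)) (fun _ => c) ∈
    K.coverings (pullback a f))

include hcov in
theorem isSheafFor_cov (B : Alg R) :
    Presieve.IsSheafFor (M.val.presheaf ⋙ forget AddCommGrpCat.{u + 1})
      (Presieve.ofArrows (fun _ : PUnit.{1} => YC f a C c B)
        (fun _ => mOver f a C c hc B)) :=
  (Presieve.isSheafFor_iff_generate _).mpr
    (((Presheaf.isSheaf_iff_isSheaf_forget (QuotSh.J K T) M.val.presheaf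
      (forget AddCommGrpCat.{u + 1})).1 M.isSheaf).isSheafFor _ (mem_cov f a K C c hc hcov B))

include hcov in
theorem ιC_injective (B : Alg R) : Function.Injective ((ιC K f a M C c hc).app (pt B)) := by
  intro x x' hxx'
  refine (isSheafFor_cov K f a M C c hc hcov B).isSeparatedFor.ext ?_
  rintro Y g ⟨⟨⟩⟩
  exact hxx'

variable (D : Type u) [CommRing D] [Algebra R D] (δ₀ δ₁ : C →ₐ[R] D)
  (d : Spec (CommRingCat.of D) ⟶ pullback c c)
  (hδ₀ : Spec.map (CommRingCat.ofHom δ₀.toRingHom) = d ≫ pullback.fst c c)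
  (hδ₁ : Spec.map (CommRingCat.ofHom δ₁.toRingHom) = d ≫ pullback.snd c c)
  (hcovD : Presieve.ofArrows (fun _ : PUnit.{1} => Spec (CommRingCat.of D)) (fun _ => d) ∈
    K.coverings (pullback c c))

include hcov hcovD in
theorem exact_at (B : Alg R) :
    Function.Exact ((ιC K f a M C c hc).app (pt B))
      ((uδ K f a M C D δ₀ c (cD f a C c D d) (hδ₀' f a C c D δ₀ d hδ₀) -
        uδ K f a M C D δ₁ c (cD f a C c D d) (hδ₁' f a C c D δ₁ d hδ₁)).app (pt B)) := by
  intro y
  let t₀ : M.val.obj (op (YC f a D (cD f a C c D d) B)) :=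
    M.val.map (ρ f a C D δ₀ c (cD f a C c D d) (hδ₀' f a C c D δ₀ d hδ₀) B).op y
  let t₁ : M.val.obj (op (YC f a D (cD f a C c D d) B)) :=
    M.val.map (ρ f a C D δ₁ c (cD f a C c D d) (hδ₁' f a C c D δ₁ d hδ₁) B).op y
  have hiff : ((uδ K f a M C D δ₀ c (cD f a C c D d) (hδ₀' f a C c D δ₀ d hδ₀) -
      uδ K f a M C D δ₁ c (cD f a C c D d) (hδ₁' f a C c D δ₁ d hδ₁)).app (pt B) y = 0) ↔
      t₀ = t₁ := by
    constructor
    · intro h0
      have h1 : t₀ - t₁ = 0 := h0
      exact sub_eq_zero.1 h1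
    · intro h1
      have h2 : t₀ - t₁ = 0 := sub_eq_zero.2 h1
      exact h2
  refine hiff.trans ?_
  constructor
  · intro hy
    have hsh := isSheafFor_cov K f a M C c hc hcov B
    rw [Presieve.isSheafFor_arrows_iff] at hsh
    have hcompat : Presieve.Arrows.Compatible (M.val.presheaf ⋙ forget AddCommGrpCat.{u + 1})
        (fun _ : PUnit.{1} => mOver f a C c hc B) (fun _ => y) := by
      intro i j Z g₁ g₂ hg
      change M.val.map g₁.op y = M.val.map g₂.op y
      obtain ⟨Z', h, k, hZ', hk₀, hk₁⟩ := overlap_over f a K C c hc D δ₀ δ₁ d hδ₀ hδ₁ hcovD B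
        g₁ g₂ hg
      have hsep : Presieve.IsSeparatedFor (M.val.presheaf ⋙ forget AddCommGrpCat.{u + 1})
          (Presieve.ofArrows (fun _ : PUnit.{1} => Z') (fun _ => h)) :=
        ((Presieve.isSheafFor_iff_generate _).mpr
          (((Presheaf.isSheaf_iff_isSheaf_forget (QuotSh.J K T) M.val.presheaf
            (forget AddCommGrpCat.{u + 1})).1 M.isSheaf).isSheafFor _ hZ')).isSeparatedFor
      refine hsep.ext ?_
      rintro Y g ⟨⟨⟩⟩
      change M.val.map h.op (M.val.map g₁.op y) = M.val.map h.op (M.val.map g₂.op y)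
      have e₀ := (AdeqBig.pmap_comp_apply K M.val h g₁ y).trans
        ((AdeqBig.pmap_congr K M.val hk₀ y).symm.trans
          (AdeqBig.pmap_comp_apply K M.val k
            (ρ f a C D δ₀ c (cD f a C c D d) (hδ₀' f a C c D δ₀ d hδ₀) B) y).symm)
      have e₁ := (AdeqBig.pmap_comp_apply K M.val h g₂ y).trans
        ((AdeqBig.pmap_congr K M.val hk₁ y).symm.trans
          (AdeqBig.pmap_comp_apply K M.val k
            (ρ f a C D δ₁ c (cD f a C c D d) (hδ₁' f a C c D δ₁ d hδ₁) B) y).symm)
      exact e₀.trans ((congrArg (fun t => M.val.map k.op t) hy).trans e₁.symm)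
    obtain ⟨x, hx, -⟩ := hsh (fun _ => y) hcompat
    exact ⟨x, hx PUnit.unit⟩
  · rintro ⟨x, rfl⟩
    exact (AdeqBig.pmap_comp_apply K M.val
      (ρ f a C D δ₀ c (cD f a C c D d) (hδ₀' f a C c D δ₀ d hδ₀) B) (mOver f a C c hc B) x).trans
      ((AdeqBig.pmap_congr K M.val (ρ_mOver f a C D δ₀ c (cD f a C c D d)
        (hδ₀' f a C c D δ₀ d hδ₀) hc (hcD f a C c hc D δ₀ d hδ₀) B) x).trans
      ((AdeqBig.pmap_congr K M.val (ρ_mOver f a C D δ₁ c (cD f a C c D d)
        (hδ₁' f a C c D δ₁ d hδ₁) hc (hcD f a C c hc D δ₀ d hδ₀) B) x).symm.trans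
      (AdeqBig.pmap_comp_apply K M.val
        (ρ f a C D δ₁ c (cD f a C c D d) (hδ₁' f a C c D δ₁ d hδ₁) B)
          (mOver f a C c hc B) x).symm))

include hc hcov hcovD hδ₀ hδ₁ in
/-- `F_{f_* M, a}` is adequate as soon as `F_{M, ·}` is adequate on the affine coverings of
`Spec R ×_S T` and of the overlap -/
theorem adequate_push_toMVF
    (hadqC : adequate C ((toMVF K (c ≫ pullback.snd a f)).obj M))
    (hadqD : adequate D ((toMVF K (cD f a C c D d ≫ pullback.snd a f)).obj M)) :
    adequate R ((toMVF K a).obj ((BigSite.pushMod K f).obj M)) := by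
  have hG₁ := AdeqPush.adequate_push (A := R) (A' := C) _ hadqC
  have hG₂ := AdeqPush.adequate_push (A := R) (A' := D) _ hadqD
  have hK := AdeqCoker.adequate_kernel
    (uδ K f a M C D δ₀ c (cD f a C c D d) (hδ₀' f a C c D δ₀ d hδ₀) -
      uδ K f a M C D δ₁ c (cD f a C c D d) (hδ₁' f a C c D δ₁ d hδ₁)) hG₁ hG₂
  refine (adequate R).prop_of_iso (PshMod.isoKernel (ιC K f a M C c hc) _ (fun X => ?_)
    (fun X => ?_)).symm hK
  · exact ιC_injective K f a M C c hc hcov X.unop.unop
  · exact exact_at K f a M C c hc hcov D δ₀ δ₁ d hδ₀ hδ₁ hcovD X.unop.unop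

end Main

end Groth.Agent.R2.H80.AdeqPushMVF
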