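import Groth.Agent.R2.H80AdeqPushMVF

/-!
# Pushforward of adequate modules along a quasi-compact quasi-separated morphism: main (helper80)
-/

set_option autoImplicit false
universe u
open CategoryTheory Limits TensorProduct AlgebraicGeometry Opposite
open Adeq Groth.Agent.Helper13Adeq

namespace Groth.Agent.R2.H80.AdeqPushMain

open AdeqPushObj AdeqPushMVF

/-- a quasi-compact scheme has an fppf covering by a single affine scheme -/
theorem exists_affine_fppf_cover (X : Scheme.{u}) [CompactSpace X] :
    ∃ (C : CommRingCat.{u}) (c : Spec C ⟶ X),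
      Flat c ∧ LocallyOfFinitePresentation c ∧ Surjective c := by
  let 𝒰 : X.OpenCover := X.affineCover.finiteSubcover
  have hlfp : LocallyOfFinitePresentation (Sigma.desc 𝒰.f) :=
    IsZariskiLocalAtSource.sigmaDesc (fun i => inferInstance)
  refine ⟨Γ(∐ 𝒰.X, ⊤), (∐ 𝒰.X).isoSpec.inv ≫ Sigma.desc 𝒰.f, ?_, ?_, ?_⟩
  · infer_instance
  · infer_instance
  · infer_instance

theorem singleton_mem_fppf {W X : Scheme.{u}} (c : W ⟶ X) (h₁ : Flat c)
    (h₂ : LocallyOfFinitePresentation c) (h₃ : Surjective c) :
    Presieve.ofArrows (fun _ : PUnit.{1} => W) (fun _ => c) ∈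
      Scheme.fppfPrecoverage.coverings X := by
  change Presieve.ofArrows _ _ ∈
    (Scheme.precoverage (@Flat ⊓ @LocallyOfFinitePresentation)).coverings X
  rw [Scheme.ofArrows_mem_precoverage_iff]
  exact ⟨fun x => ⟨PUnit.unit, h₃.surj x⟩, fun _ => ⟨h₁, h₂⟩⟩

variable (K : Precoverage Scheme.{u}) [BigSite.OSh K] [K.IsStableUnderBaseChange]
  {S T : Scheme.{u}} (f : T ⟶ S) {R : CommRingCat.{u}} (a : Spec R ⟶ S) (M : BigSite.Mod K T)

/-- the main step, with the data given as commutative rings and maps of schemes -/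
theorem adequate_push_of_covers (C D : CommRingCat.{u}) (c : Spec C ⟶ pullback a f)
    (d : Spec D ⟶ pullback c c)
    (hcov : Presieve.ofArrows (fun _ : PUnit.{1} => Spec C) (fun _ => c) ∈
      K.coverings (pullback a f))
    (hcovD : Presieve.ofArrows (fun _ : PUnit.{1} => Spec D) (fun _ => d) ∈
      K.coverings (pullback c c))
    (hadq : ∀ (R' : CommRingCat.{u}) (b : Spec R' ⟶ T), adequate R' ((toMVF K b).obj M)) :
    adequate R ((toMVF K a).obj ((BigSite.pushMod K f).obj M)) := by
  let algC : Algebra R C := (Spec.preimage (c ≫ pullback.fst a f)).hom.toAlgebra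
  let algD : Algebra R D :=
    (Spec.preimage ((d ≫ pullback.fst c c ≫ c) ≫ pullback.fst a f)).hom.toAlgebra
  have hc : c ≫ pullback.fst a f = Spec.map (CommRingCat.ofHom (algebraMap R C)) :=
    (Spec.map_preimage _).symm
  have hD : (d ≫ pullback.fst c c ≫ c) ≫ pullback.fst a f =
      Spec.map (CommRingCat.ofHom (algebraMap R D)) := (Spec.map_preimage _).symm
  have hcomm₀ : CommRingCat.ofHom (algebraMap R C) ≫ Spec.preimage (d ≫ pullback.fst c c) =
      CommRingCat.ofHom (algebraMap R D) := by
    apply Spec.map_injective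
    rw [Spec.map_comp, Spec.map_preimage, ← hc, ← hD]
    simp only [Category.assoc]
  have hcomm₁ : CommRingCat.ofHom (algebraMap R C) ≫ Spec.preimage (d ≫ pullback.snd c c) =
      CommRingCat.ofHom (algebraMap R D) := by
    apply Spec.map_injective
    rw [Spec.map_comp, Spec.map_preimage, ← hc, ← hD]
    simp only [Category.assoc]
    rw [← pullback.condition_assoc]
  let δ₀ : C →ₐ[R] D :=
    { toRingHom := (Spec.preimage (d ≫ pullback.fst c c)).hom
      commutes' := fun r => congrArg (fun t => t.hom r) hcomm₀ }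
  let δ₁ : C →ₐ[R] D :=
    { toRingHom := (Spec.preimage (d ≫ pullback.snd c c)).hom
      commutes' := fun r => congrArg (fun t => t.hom r) hcomm₁ }
  have hδ₀ : Spec.map (CommRingCat.ofHom δ₀.toRingHom) = d ≫ pullback.fst c c :=
    Spec.map_preimage _
  have hδ₁ : Spec.map (CommRingCat.ofHom δ₁.toRingHom) = d ≫ pullback.snd c c :=
    Spec.map_preimage _
  exact adequate_push_toMVF K f a M C c hc hcov D δ₀ δ₁ d hδ₀ hδ₁ hcovD (hadq _ _) (hadq _ _)

/-- pushforward along a quasi-compact quasi-separated morphism preserves adequate modules on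
the big fppf site -/
theorem adequateMod_pushMod {S T : Scheme.{u}} (f : T ⟶ S) [QuasiCompact f] [QuasiSeparated f]
    (M : BigSite.Mod Scheme.fppfPrecoverage T)
    (hadq : ∀ (R' : CommRingCat.{u}) (b : Spec R' ⟶ T),
      adequate R' ((toMVF Scheme.fppfPrecoverage b).obj M)) :
    Adeq.adequateMod Scheme.fppfPrecoverage S
      ((BigSite.pushMod Scheme.fppfPrecoverage f).obj M) := by
  refine ⟨S.affineOpenCover.I₀, S.affineOpenCover.X, S.affineOpenCover.f, ?_, fun i => ?_⟩
  · change Presieve.ofArrows _ _ ∈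
      (Scheme.precoverage (@Flat ⊓ @LocallyOfFinitePresentation)).coverings S
    rw [Scheme.ofArrows_mem_precoverage_iff]
    refine ⟨fun x => ⟨S.affineOpenCover.idx x, S.affineOpenCover.covers x⟩, fun i => ?_⟩
    have : IsOpenImmersion (S.affineOpenCover.f i) := S.affineOpenCover.map_prop i
    exact ⟨inferInstance, inferInstance⟩
  · have hqs : QuasiSeparatedSpace ↑(pullback (S.affineOpenCover.f i) f) :=
      quasiSeparatedSpace_of_quasiSeparated (pullback.fst (S.affineOpenCover.f i) f)
    obtain ⟨C, c, h₁, h₂, h₃⟩ := exists_affine_fppf_cover (pullback (S.affineOpenCover.f i) f)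
    have hqc : QuasiCompact c := inferInstance
    obtain ⟨D, d, k₁, k₂, k₃⟩ := exists_affine_fppf_cover (pullback c c)
    exact adequate_push_of_covers Scheme.fppfPrecoverage f (S.affineOpenCover.f i) M C D c d
      (singleton_mem_fppf c h₁ h₂ h₃) (singleton_mem_fppf d k₁ k₂ k₃) hadq

end Groth.Agent.R2.H80.AdeqPushMain
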