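import Groth.Agent.R2.H80AdeqBigShf

/-!
# Pushforward of adequate modules: the objects of the big site involved (helper80)
-/

set_option autoImplicit false
universe u
open CategoryTheory Limits TensorProduct AlgebraicGeometry Opposite
open Adeq Groth.Agent.Helper13Adeq

namespace Groth.Agent.R2.H80.AdeqPushObj

variable {S T : Scheme.{u}} (f : T ⟶ S) {R : CommRingCat.{u}} (a : Spec R ⟶ S)

section Tensor

variable (C : Type u) [CommRing C] [Algebra R C] (B : Alg R)

/-- `c ↦ c ⊗ 1` -/
noncomputable abbrev iL : CommRingCat.of C ⟶ CommRingCat.of (C ⊗[R] B) :=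
  CommRingCat.ofHom (Algebra.TensorProduct.includeLeftRingHom : C →+* C ⊗[R] B)

/-- `b ↦ 1 ⊗ b` -/
noncomputable abbrev iR : CommRingCat.of B ⟶ CommRingCat.of (C ⊗[R] B) :=
  CommRingCat.ofHom (Algebra.TensorProduct.includeRight (R := R) (A := C) (B := B)).toRingHom

theorem isPullback_tensor :
    IsPullback (Spec.map (iR C B)) (Spec.map (iL C B))
      (Spec.map (CommRingCat.ofHom (algebraMap R B)))
      (Spec.map (CommRingCat.ofHom (algebraMap R C))) :=
  isPullback_SpecMap_of_isPushout _ _ _ _ (CommRingCat.isPushout_tensorProduct R C B).flip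

end Tensor

section Base

variable (B : Alg R)

/-- the structure map `Spec B → Spec R` -/
noncomputable abbrev sB : Spec (CommRingCat.of B) ⟶ Spec R :=
  Spec.map (CommRingCat.ofHom (algebraMap R B))

/-- the object `Spec B ×_S T → T` -/
noncomputable abbrev PB : Over T := (Over.pullback f).obj ((specOver a).obj (op B))

/-- its underlying scheme, with explicit type -/
noncomputable abbrev PBl : Scheme.{u} := pullback (sB B ≫ a) f

/-- the projection `Spec B ×_S T → Spec R ×_S T` -/
noncomputable def κ : PBl f a B ⟶ pullback a f :=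
  pullback.lift (pullback.fst (sB B ≫ a) f ≫ sB B)
    (pullback.snd (sB B ≫ a) f) (by rw [Category.assoc]; exact pullback.condition)

theorem κ_fst : κ f a B ≫ pullback.fst a f = pullback.fst (sB B ≫ a) f ≫ sB B :=
  pullback.lift_fst _ _ _

theorem κ_snd : κ f a B ≫ pullback.snd a f = pullback.snd (sB B ≫ a) f :=
  pullback.lift_snd _ _ _

theorem isPullback_κ :
    IsPullback (κ f a B) (pullback.fst (sB B ≫ a) f) (pullback.fst a f) (sB B) := by
  refine IsPullback.of_right ?_ (κ_fst f a B) (IsPullback.of_hasPullback a f).flip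
  rw [κ_snd]
  exact (IsPullback.of_hasPullback (sB B ≫ a) f).flip

end Base

section Functorial

variable {B B' : Alg R} (g : B ⟶ B')

/-- the ring map underlying a map of algebras -/
noncomputable abbrev rh : CommRingCat.of B ⟶ CommRingCat.of B' :=
  CommRingCat.ofHom g.hom.toRingHom

theorem rh_sB : Spec.map (rh g) ≫ sB B = sB B' := by
  rw [← Spec.map_comp, ← CommRingCat.ofHom_comp, AlgHom.toRingHom_eq_coe, AlgHom.comp_algebraMap]

/-- the map `Spec B' ×_S T → Spec B ×_S T`, with explicit types -/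
noncomputable def pbMap : PBl f a B' ⟶ PBl f a B :=
  ((Over.pullback f).map ((specOver a).map g.op)).left

theorem pbMap_fst : pbMap f a g ≫ pullback.fst (sB B ≫ a) f =
    pullback.fst (sB B' ≫ a) f ≫ Spec.map (rh g) :=
  pullback.lift_fst _ _ _

theorem pbMap_snd : pbMap f a g ≫ pullback.snd (sB B ≫ a) f = pullback.snd (sB B' ≫ a) f :=
  pullback.lift_snd _ _ _

theorem pbMap_κ : pbMap f a g ≫ κ f a B = κ f a B' := by
  apply pullback.hom_ext
  · rw [Category.assoc, κ_fst, κ_fst, ← Category.assoc, pbMap_fst, Category.assoc, rh_sB]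
  · rw [Category.assoc, κ_snd, κ_snd, pbMap_snd]

end Functorial

section Cover

variable (C : Type u) [CommRing C] [Algebra R C] (c : Spec (CommRingCat.of C) ⟶ pullback a f)
  (hc : c ≫ pullback.fst a f = Spec.map (CommRingCat.ofHom (algebraMap R C))) (B : Alg R)

include hc in
theorem m_compat : (Spec.map (iL C B) ≫ c) ≫ pullback.fst a f = Spec.map (iR C B) ≫ sB B := by
  rw [Category.assoc, hc]
  exact (isPullback_tensor C B).w.symm

/-- the map `Spec (C ⊗ B) → Spec B ×_S T` -/
noncomputable def mLeft : Spec (CommRingCat.of (C ⊗[R] B)) ⟶ PBl f a B :=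
  (isPullback_κ f a B).lift (Spec.map (iL C B) ≫ c) (Spec.map (iR C B)) (m_compat f a C c hc B)

theorem mLeft_κ : mLeft f a C c hc B ≫ κ f a B = Spec.map (iL C B) ≫ c :=
  IsPullback.lift_fst _ _ _ _

theorem mLeft_fst : mLeft f a C c hc B ≫ pullback.fst (sB B ≫ a) f = Spec.map (iR C B) :=
  IsPullback.lift_snd _ _ _ _

theorem mLeft_snd : mLeft f a C c hc B ≫ pullback.snd (sB B ≫ a) f =
    Spec.map (iL C B) ≫ c ≫ pullback.snd a f := by
  rw [← κ_snd f a B, ← Category.assoc, mLeft_κ, Category.assoc]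

theorem isPullback_m : IsPullback (Spec.map (iL C B)) (mLeft f a C c hc B) c (κ f a B) := by
  refine IsPullback.of_bot ?_ (mLeft_κ f a C c hc B).symm (isPullback_κ f a B)
  rw [mLeft_fst, hc]
  exact (isPullback_tensor C B).flip

/-- the member of the covering of `Spec B ×_S T`, as an object over `T` -/
noncomputable abbrev YC : Over T :=
  (specOver (c ≫ pullback.snd a f)).obj (op ((Alg.baseChange R C).obj B))

/-- the covering map, over `T` -/
noncomputable def mOver : YC f a C c B ⟶ PB f a B :=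
  Over.homMk (mLeft f a C c hc B) (mLeft_snd f a C c hc B)

theorem mOver_left : (mOver f a C c hc B).left = mLeft f a C c hc B := rfl

/-- the map `Spec (C ⊗ B') → Spec (C ⊗ B)` -/
noncomputable abbrev tmap {B B' : Alg R} (g : B ⟶ B') :
    CommRingCat.of (C ⊗[R] B) ⟶ CommRingCat.of (C ⊗[R] B') :=
  CommRingCat.ofHom ((Alg.baseChange R C).map g).hom.toRingHom

theorem iL_tmap {B B' : Alg R} (g : B ⟶ B') : iL C B ≫ tmap C g = iL C B' := by
  ext x
  have h := Algebra.TensorProduct.map_tmul (AlgHom.id C C) g.hom x 1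
  rw [map_one] at h
  exact h

theorem iR_tmap {B B' : Alg R} (g : B ⟶ B') : iR C B ≫ tmap C g = rh g ≫ iR C B' := by
  ext x
  have h := Algebra.TensorProduct.map_tmul (AlgHom.id C C) g.hom 1 x
  rw [map_one] at h
  exact h

theorem mLeft_natural {B B' : Alg R} (g : B ⟶ B') :
    Spec.map (tmap C g) ≫ mLeft f a C c hc B = mLeft f a C c hc B' ≫ pbMap f a g := by
  apply (isPullback_κ f a B).hom_ext
  · rw [Category.assoc, mLeft_κ, Category.assoc, pbMap_κ, mLeft_κ, ← Category.assoc,
      ← Spec.map_comp, iL_tmap]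
  · rw [Category.assoc, mLeft_fst, Category.assoc, pbMap_fst, ← Category.assoc, mLeft_fst,
      ← Spec.map_comp, ← Spec.map_comp, iR_tmap]

theorem mOver_natural {B B' : Alg R} (g : B ⟶ B') :
    (specOver (c ≫ pullback.snd a f)).map ((Alg.baseChange R C).map g).op ≫ mOver f a C c hc B =
      mOver f a C c hc B' ≫ (Over.pullback f).map ((specOver a).map g.op) :=
  Over.OverMorphism.ext (mLeft_natural f a C c hc g)

end Cover

section Rho

variable (C D : Type u) [CommRing C] [Algebra R C] [CommRing D] [Algebra R D] (δ : C →ₐ[R] D)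
  (c : Spec (CommRingCat.of C) ⟶ pullback a f) (cD : Spec (CommRingCat.of D) ⟶ pullback a f)
  (hδ : Spec.map (CommRingCat.ofHom δ.toRingHom) ≫ c = cD)
  (hc : c ≫ pullback.fst a f = Spec.map (CommRingCat.ofHom (algebraMap R C)))
  (hcD : cD ≫ pullback.fst a f = Spec.map (CommRingCat.ofHom (algebraMap R D)))

/-- `δ ⊗ id` -/
noncomputable abbrev dmap (B : Alg R) : CommRingCat.of (C ⊗[R] B) ⟶ CommRingCat.of (D ⊗[R] B) :=
  CommRingCat.ofHom (Algebra.TensorProduct.map δ (AlgHom.id R B)).toRingHom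

theorem iL_dmap (B : Alg R) :
    iL C B ≫ dmap C D δ B = CommRingCat.ofHom δ.toRingHom ≫ iL D B := by
  ext x
  have h := Algebra.TensorProduct.map_tmul δ (AlgHom.id R B) x 1
  rw [map_one] at h
  exact h

theorem iR_dmap (B : Alg R) : iR C B ≫ dmap C D δ B = iR D B := by
  ext x
  have h := Algebra.TensorProduct.map_tmul δ (AlgHom.id R B) 1 x
  rw [map_one] at h
  exact h

theorem dmap_tmap {B B' : Alg R} (g : B ⟶ B') :
    dmap C D δ B ≫ tmap D g = tmap C g ≫ dmap C D δ B' := by
  refine CommRingCat.hom_ext (RingHom.ext fun x => ?_)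
  change (Algebra.TensorProduct.map (AlgHom.id D D) g.hom)
      ((Algebra.TensorProduct.map δ (AlgHom.id R B)) x) =
    (Algebra.TensorProduct.map δ (AlgHom.id R B'))
      ((Algebra.TensorProduct.map (AlgHom.id C C) g.hom) x)
  induction x using TensorProduct.induction_on with
  | zero => simp
  | tmul x y => simp
  | add x y hx hy => rw [map_add, map_add, hx, hy, map_add, map_add]

include hδ in
theorem ρ_w (B : Alg R) :
    Spec.map (dmap C D δ B) ≫ (YC f a C c B).hom = (YC f a D cD B).hom := by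
  change Spec.map (dmap C D δ B) ≫ Spec.map (iL C B) ≫ c ≫ pullback.snd a f =
    Spec.map (iL D B) ≫ cD ≫ pullback.snd a f
  rw [← Category.assoc, ← Spec.map_comp, iL_dmap, Spec.map_comp, Category.assoc, ← hδ,
    Category.assoc]

/-- the map `Spec (D ⊗ B) → Spec (C ⊗ B)` over `T` -/
noncomputable def ρ (B : Alg R) : YC f a D cD B ⟶ YC f a C c B :=
  Over.homMk (Spec.map (dmap C D δ B)) (ρ_w f a C D δ c cD hδ B)

theorem ρ_mOver (B : Alg R) :
    ρ f a C D δ c cD hδ B ≫ mOver f a C c hc B = mOver f a D cD hcD B := by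
  apply Over.OverMorphism.ext
  change Spec.map (dmap C D δ B) ≫ mLeft f a C c hc B = mLeft f a D cD hcD B
  apply (isPullback_κ f a B).hom_ext
  · rw [Category.assoc, mLeft_κ, mLeft_κ, ← Category.assoc, ← Spec.map_comp, iL_dmap,
      Spec.map_comp, Category.assoc, hδ]
  · rw [Category.assoc, mLeft_fst, mLeft_fst, ← Spec.map_comp, iR_dmap]

theorem ρ_natural {B B' : Alg R} (g : B ⟶ B') :
    (specOver (cD ≫ pullback.snd a f)).map ((Alg.baseChange R D).map g).op ≫
        ρ f a C D δ c cD hδ B =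
      ρ f a C D δ c cD hδ B' ≫
        (specOver (c ≫ pullback.snd a f)).map ((Alg.baseChange R C).map g).op := by
  apply Over.OverMorphism.ext
  change Spec.map (tmap D g) ≫ Spec.map (dmap C D δ B) =
    Spec.map (dmap C D δ B') ≫ Spec.map (tmap C g)
  rw [← Spec.map_comp, ← Spec.map_comp, dmap_tmap]

end Rho

section Covering

variable (K : Precoverage Scheme.{u}) [K.IsStableUnderBaseChange]
  (C : Type u) [CommRing C] [Algebra R C] (c : Spec (CommRingCat.of C) ⟶ pullback a f)
  (hc : c ≫ pullback.fst a f = Spec.map (CommRingCat.ofHom (algebraMap R C)))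

theorem mem_cov
    (hcov : Presieve.ofArrows (fun _ : PUnit.{1} => Spec (CommRingCat.of C)) (fun _ => c) ∈
      K.coverings (pullback a f)) (B : Alg R) :
    Sieve.ofArrows (fun _ : PUnit.{1} => YC f a C c B) (fun _ => mOver f a C c hc B) ∈
      QuotSh.J K T (PB f a B) := by
  rw [GrothendieckTopology.mem_over_iff, Sieve.overEquiv_ofArrows]
  apply Precoverage.generate_mem_toGrothendieck
  exact K.mem_coverings_of_isPullback _ hcov (κ f a B) _ _
    (fun _ => (isPullback_m f a C c hc B).flip)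

variable (D : Type u) [CommRing D] [Algebra R D] (δ₀ δ₁ : C →ₐ[R] D)
  (d : Spec (CommRingCat.of D) ⟶ pullback c c)
  (hδ₀ : Spec.map (CommRingCat.ofHom δ₀.toRingHom) = d ≫ pullback.fst c c)
  (hδ₁ : Spec.map (CommRingCat.ofHom δ₁.toRingHom) = d ≫ pullback.snd c c)

/-- the map from the affine covering of the overlap to `X` -/
noncomputable abbrev cD : Spec (CommRingCat.of D) ⟶ pullback a f := d ≫ pullback.fst c c ≫ c

include hδ₀ in
theorem hδ₀' : Spec.map (CommRingCat.ofHom δ₀.toRingHom) ≫ c = cD f a C c D d := by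
  rw [hδ₀, Category.assoc]

include hδ₁ in
theorem hδ₁' : Spec.map (CommRingCat.ofHom δ₁.toRingHom) ≫ c = cD f a C c D d := by
  rw [hδ₁, Category.assoc, ← pullback.condition]

include hc hδ₀ in
theorem hcD : cD f a C c D d ≫ pullback.fst a f =
    Spec.map (CommRingCat.ofHom (algebraMap R D)) := by
  rw [← hδ₀' f a C c D δ₀ d hδ₀, Category.assoc, hc, ← Spec.map_comp, ← CommRingCat.ofHom_comp,
    AlgHom.toRingHom_eq_coe, AlgHom.comp_algebraMap]

include hδ₀ hδ₁ in
/-- two maps into `Spec (C ⊗ B)` which agree in `Spec B ×_S T` factor, locally, through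
`Spec (D ⊗ B)` -/
theorem overlap_core
    (hcovD : Presieve.ofArrows (fun _ : PUnit.{1} => Spec (CommRingCat.of D)) (fun _ => d) ∈
      K.coverings (pullback c c)) (B : Alg R) {Zl : Scheme.{u}}
    (g₁l g₂l : Zl ⟶ Spec (CommRingCat.of (C ⊗[R] B)))
    (hgl : g₁l ≫ mLeft f a C c hc B = g₂l ≫ mLeft f a C c hc B) :
    ∃ (Z'l : Scheme.{u}) (h₀ : Z'l ⟶ Zl) (kl : Z'l ⟶ Spec (CommRingCat.of (D ⊗[R] B))),
      Presieve.ofArrows (fun _ : PUnit.{1} => Z'l) (fun _ => h₀) ∈ K.coverings Zl ∧
      kl ≫ Spec.map (dmap C D δ₀ B) = h₀ ≫ g₁l ∧ kl ≫ Spec.map (dmap C D δ₁ B) = h₀ ≫ g₂l := by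
  have he : (g₁l ≫ Spec.map (iL C B)) ≫ c = (g₂l ≫ Spec.map (iL C B)) ≫ c := by
    rw [Category.assoc, Category.assoc, ← mLeft_κ f a C c hc B, ← Category.assoc,
      ← Category.assoc, hgl]
  have hR : g₁l ≫ Spec.map (iR C B) = g₂l ≫ Spec.map (iR C B) := by
    rw [← mLeft_fst f a C c hc B, ← Category.assoc, ← Category.assoc, hgl]
  let e : Zl ⟶ pullback c c := pullback.lift _ _ he
  have e_fst : e ≫ pullback.fst c c = g₁l ≫ Spec.map (iL C B) := pullback.lift_fst _ _ _
  have e_snd : e ≫ pullback.snd c c = g₂l ≫ Spec.map (iL C B) := pullback.lift_snd _ _ _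
  have hcond : pullback.fst e d ≫ e = pullback.snd e d ≫ d := pullback.condition
  have hcompat : (pullback.fst e d ≫ g₁l ≫ Spec.map (iR C B)) ≫ sB B =
      pullback.snd e d ≫ Spec.map (CommRingCat.ofHom (algebraMap R D)) := by
    have h1 : pullback.snd e d ≫ cD f a C c D d =
        pullback.fst e d ≫ g₁l ≫ Spec.map (iL C B) ≫ c := by
      change pullback.snd e d ≫ d ≫ pullback.fst c c ≫ c = _
      rw [← Category.assoc, ← hcond, Category.assoc, ← Category.assoc e, e_fst, Category.assoc]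
    rw [← hcD f a C c hc D δ₀ d hδ₀, ← Category.assoc (pullback.snd e d), h1]
    simp only [Category.assoc]
    rw [hc]
    congr 2
    exact (isPullback_tensor C B).w
  refine ⟨pullback e d, pullback.fst e d,
    (isPullback_tensor D B).lift (pullback.fst e d ≫ g₁l ≫ Spec.map (iR C B)) (pullback.snd e d)
      hcompat, ?_, ?_, ?_⟩
  · exact K.mem_coverings_of_isPullback _ hcovD e _ _ (fun _ => IsPullback.of_hasPullback e d)
  · apply (isPullback_tensor C B).hom_ext
    · rw [Category.assoc, ← Spec.map_comp, iR_dmap, IsPullback.lift_fst, Category.assoc]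
    · rw [Category.assoc, ← Spec.map_comp, iL_dmap, Spec.map_comp, ← Category.assoc,
        IsPullback.lift_snd, hδ₀, ← Category.assoc, ← hcond, Category.assoc, e_fst,
        Category.assoc]
  · apply (isPullback_tensor C B).hom_ext
    · rw [Category.assoc, ← Spec.map_comp, iR_dmap, IsPullback.lift_fst, Category.assoc, hR]
    · rw [Category.assoc, ← Spec.map_comp, iL_dmap, Spec.map_comp, ← Category.assoc,
        IsPullback.lift_snd, hδ₁, ← Category.assoc, ← hcond, Category.assoc, e_snd,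
        Category.assoc]

include hδ₀ hδ₁ in
theorem overlap_over
    (hcovD : Presieve.ofArrows (fun _ : PUnit.{1} => Spec (CommRingCat.of D)) (fun _ => d) ∈
      K.coverings (pullback c c)) (B : Alg R) {Z : Over T}
    (g₁ g₂ : Z ⟶ YC f a C c B)
    (hg : g₁ ≫ mOver f a C c hc B = g₂ ≫ mOver f a C c hc B) :
    ∃ (Z' : Over T) (h : Z' ⟶ Z) (k : Z' ⟶ YC f a D (cD f a C c D d) B),
      Sieve.ofArrows (fun _ : PUnit.{1} => Z') (fun _ => h) ∈ QuotSh.J K T Z ∧
      k ≫ ρ f a C D δ₀ c (cD f a C c D d) (hδ₀' f a C c D δ₀ d hδ₀) B = h ≫ g₁ ∧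
      k ≫ ρ f a C D δ₁ c (cD f a C c D d) (hδ₁' f a C c D δ₁ d hδ₁) B = h ≫ g₂ := by
  obtain ⟨Z'l, h₀, kl, hcov, hk₀, hk₁⟩ := overlap_core f a K C c hc D δ₀ δ₁ d hδ₀ hδ₁ hcovD B
    (g₁.left : Z.left ⟶ Spec (CommRingCat.of (C ⊗[R] B)))
    (g₂.left : Z.left ⟶ Spec (CommRingCat.of (C ⊗[R] B))) (congrArg CommaMorphism.left hg)
  refine ⟨Over.mk (h₀ ≫ Z.hom), Over.homMk h₀ rfl, Over.homMk kl ?_, ?_,
    Over.OverMorphism.ext hk₀, Over.OverMorphism.ext hk₁⟩
  · exact (congrArg (fun t => kl ≫ t)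
      (ρ_w f a C D δ₀ c (cD f a C c D d) (hδ₀' f a C c D δ₀ d hδ₀) B).symm).trans
      ((Category.assoc _ _ _).symm.trans ((congrArg (fun t => t ≫ (YC f a C c B).hom) hk₀).trans
        ((Category.assoc _ _ _).trans (congrArg (fun t => h₀ ≫ t) (Over.w g₁)))))
  · rw [GrothendieckTopology.mem_over_iff, Sieve.overEquiv_ofArrows]
    exact Precoverage.generate_mem_toGrothendieck hcov

end Covering

end Groth.Agent.R2.H80.AdeqPushObj
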