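import Mathlib
import Groth.Prelude.Def_Adeq
import Groth.Agent.R2.H39AdeqFlat

/-!
# Flat base change for adequate functors, in the form `B ⊗_R F(X) ≅ F(X ⊗_R B)`  (helper80)
-/

set_option autoImplicit false
set_option linter.style.haveILetI false
universe u
open CategoryTheory Limits Opposite TensorProduct
open Adeq Groth.Agent.Helper13Adeq Groth.Agent.R2.H39.AdeqBC Groth.Agent.R2.H39.AdeqFlat

namespace Groth.Agent.R2.H80.CechFlatBC

section Cancel

variable {R : Type u} [CommRing R] (B : Type u) [CommRing B] [Algebra R B] (X : Type u) [CommRing X]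
  [Algebra R X] (Y : Type (u + 1)) [AddCommGroup Y] [Module X Y] [Module R Y] [IsScalarTower R X Y]

theorem addHom_ext_tmul {Z : Type*} [AddCommGroup Z] (p q : B ⊗[R] Y →+ Z)
    (h : ∀ (b : B) (y : Y), p (b ⊗ₜ[R] y) = q (b ⊗ₜ[R] y)) (t : B ⊗[R] Y) : p t = q t := by
  induction t using TensorProduct.induction_on with
  | zero => rw [map_zero, map_zero]
  | add x y hx hy => rw [map_add, map_add, hx, hy]
  | tmul s x => exact h s x

/-- `b ⊗ y ↦ (1 ⊗ b) ⊗ y`, for an arbitrary (but propositionally standard) `X`-module structure on `X ⊗ B` -/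
theorem cancel_bijective (inst : Module X (X ⊗[R] B))
    (hinst : ∀ (x : X) (t : X ⊗[R] B),
      @SMul.smul X (X ⊗[R] B) inst.toDistribMulAction.toMulAction.toSMul x t = (x ⊗ₜ[R] (1 : B)) * t)
    (e : B ⊗[R] Y →+ @TensorProduct X _ (X ⊗[R] B) Y _ _ inst _)
    (he : ∀ (b : B) (y : Y), e (b ⊗ₜ[R] y) =
      @TensorProduct.tmul X _ (X ⊗[R] B) Y _ _ inst _ ((1 : X) ⊗ₜ[R] b) y) : Function.Bijective e := by
  have hmod : inst = TensorProduct.leftModule := by
    apply Module.ext'
    intro x t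
    refine (hinst x t).trans ?_
    induction t using TensorProduct.induction_on with
    | zero => rw [mul_zero, smul_zero]
    | tmul x₁ b =>
      rw [Algebra.TensorProduct.tmul_mul_tmul, one_mul, TensorProduct.smul_tmul', smul_eq_mul]
    | add t₁ t₂ h₁ h₂ => rw [mul_add, h₁, h₂, smul_add]
  subst hmod
  let E : B ⊗[R] Y ≃+ (X ⊗[R] B) ⊗[X] Y :=
    ((TensorProduct.comm R B Y).toAddEquiv.trans
      (TensorProduct.AlgebraTensorModule.cancelBaseChange R X X Y B).symm.toAddEquiv).trans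
      (TensorProduct.comm X Y (X ⊗[R] B)).toAddEquiv
  have hE : ∀ t, e t = E t := by
    intro t
    refine addHom_ext_tmul B Y e E.toAddMonoidHom ?_ t
    intro b y
    rw [he]
    rfl
  have : (e : B ⊗[R] Y → (X ⊗[R] B) ⊗[X] Y) = E := funext hE
  rw [this]
  exact E.bijective

end Cancel

section MVFBC

variable {R : Type u} [CommRing R] (F : MVF R) (B : Type u) [CommRing B] [Algebra R B] (X : Alg R)

/-- `X ⊗_R B` as an `R`-algebra -/
abbrev XB : Alg R := algOf R (X ⊗[R] B)

/-- `x ↦ x ⊗ 1` -/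
noncomputable def iL : X ⟶ XB B X := CommAlgCat.ofHom Algebra.TensorProduct.includeLeft

theorem iL_flat [Module.Flat R B] : (iL B X).hom.toRingHom.Flat := by
  have h : (algebraMap X (X ⊗[R] B)).Flat := RingHom.flat_algebraMap_iff.2 inferInstance
  exact h

/-- the `R`-module structure on `F(X)` -/
noncomputable abbrev modR : Module R (F.obj (pt X)) := Module.compHom _ (algebraMap R X)

theorem bijective_Θ [Module.Flat R B] (hF : adequate R F)
    (Θ : @TensorProduct R _ B (F.obj (pt X)) _ _ _ (modR F X) →+ F.obj (pt (XB B X)))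
    (hΘ : ∀ (b : B) (y : F.obj (pt X)),
      Θ (@TensorProduct.tmul R _ B (F.obj (pt X)) _ _ _ (modR F X) b y) =
        ((1 : X) ⊗ₜ[R] b : X ⊗[R] B) • mapEl F (iL B X) y) :
    Function.Bijective Θ := by
  letI : Module R (F.obj (pt X)) := modR F X
  haveI : IsScalarTower R X (F.obj (pt X)) := IsScalarTower.of_algebraMap_smul fun r y => rfl
  haveI : IsIso (F.bc (iL B X)) := isIso_bc_of_adequate_flat F hF (iL B X) (iL_flat B X)
  have hbc : Function.Bijective (F.bc (iL B X)) := bijective_bc_of_isIso F (iL B X)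
  let inst : Module X (X ⊗[R] B) := Module.compHom (X ⊗[R] B) (iL B X).hom.toRingHom
  let bcE : @TensorProduct X _ (X ⊗[R] B) (F.obj (pt X)) _ _ inst _ ≃+ F.obj (pt (XB B X)) :=
    AddEquiv.ofBijective (F.bc (iL B X)).hom.toAddMonoidHom hbc
  let e : B ⊗[R] F.obj (pt X) →+ @TensorProduct X _ (X ⊗[R] B) (F.obj (pt X)) _ _ inst _ :=
    bcE.symm.toAddMonoidHom.comp Θ
  have he : ∀ (b : B) (y : F.obj (pt X)), e (b ⊗ₜ[R] y) =
      @TensorProduct.tmul X _ (X ⊗[R] B) (F.obj (pt X)) _ _ inst _ ((1 : X) ⊗ₜ[R] b) y := by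
    intro b y
    apply bcE.injective
    have h1 : bcE (e (b ⊗ₜ[R] y)) = Θ (b ⊗ₜ[R] y) := AddEquiv.apply_symm_apply bcE _
    rw [h1, hΘ]
    exact (bc_tmul F (iL B X) _ y).symm
  have hbij := cancel_bijective B X (F.obj (pt X)) inst (fun x t => rfl) e he
  have hΘe : (Θ : B ⊗[R] F.obj (pt X) → F.obj (pt (XB B X))) = bcE ∘ e := by
    funext t
    change Θ t = bcE (bcE.symm (Θ t))
    rw [AddEquiv.apply_symm_apply]
  rw [hΘe]
  exact bcE.bijective.comp hbij

/-- the same for an arbitrary (propositionally standard) `R`-module structure on `F(X)` -/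
theorem bijective_Θ' [Module.Flat R B] (hF : adequate R F) (inst : Module R (F.obj (pt X)))
    (hinst : ∀ (r : R) (y : F.obj (pt X)),
      @SMul.smul R (F.obj (pt X)) inst.toDistribMulAction.toMulAction.toSMul r y =
        (algebraMap R X r) • y)
    (Θ : @TensorProduct R _ B (F.obj (pt X)) _ _ _ inst →+ F.obj (pt (XB B X)))
    (hΘ : ∀ (b : B) (y : F.obj (pt X)),
      Θ (@TensorProduct.tmul R _ B (F.obj (pt X)) _ _ _ inst b y) =
        ((1 : X) ⊗ₜ[R] b : X ⊗[R] B) • mapEl F (iL B X) y) :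
    Function.Bijective Θ := by
  have hmod : inst = modR F X := Module.ext' _ _ hinst
  subst hmod
  exact bijective_Θ F B X hF Θ hΘ

end MVFBC

end Groth.Agent.R2.H80.CechFlatBC
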