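import Groth.Agent.R2.H80CechTheta
import Groth.Agent.R2.H80CechFlatBC
import Groth.Agent.R2.H80AdeqPushObj

/-!
# Bijectivity of `θ : B ⊗_R M(Z) → M(V × Z)` for affine `Z`  (helper80)
-/

set_option autoImplicit false
set_option linter.style.haveILetI false
universe u
open CategoryTheory Limits TensorProduct AlgebraicGeometry Opposite
open Adeq Groth.Agent.Helper13Adeq

namespace Groth.Agent.R2.H80.CechAffine

open CechTheta

variable (K : Precoverage Scheme.{u}) [BigSite.OSh K] {S : Scheme.{u}} {R : CommRingCat.{u}}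
  (a : Spec R ⟶ S) (M : BigSite.Mod K S) (B : Type u) [CommRing B] [Algebra R B]

section Iso

/-- bijectivity of `θ` is invariant under isomorphisms -/
theorem θ_bijective_of_iso {Z Z' : Over (Spec R)} (g : Z' ⟶ Z) [IsIso g]
    (h : Function.Bijective (θ K a M B Z)) : Function.Bijective (θ K a M B Z') := by
  let L : PZ K a M Z ≃ₗ[R] PZ K a M Z' :=
    LinearEquiv.ofBijective (pmapL K a M g) (pmapL_bijective_of_isIso K a M g)
  let LT : B ⊗[R] PZ K a M Z ≃ₗ[R] B ⊗[R] PZ K a M Z' := L.lTensor B
  have hLT : ∀ t, LT t = (pmapL K a M g).lTensor B t := fun t => rfl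
  have hP : Function.Bijective (pmapL K a M (prod.map (𝟙 (VV B)) g)) :=
    pmapL_bijective_of_isIso K a M _
  have key : (θ K a M B Z' : B ⊗[R] PZ K a M Z' → PZ K a M (VV B ⨯ Z')) =
      (pmapL K a M (prod.map (𝟙 (VV B)) g)) ∘ (θ K a M B Z) ∘ LT.symm := by
    funext t'
    obtain ⟨t, rfl⟩ := LT.surjective t'
    simp only [Function.comp_apply, LinearEquiv.symm_apply_apply]
    rw [hLT]
    exact (θ_nat K a M B g t).symm
  rw [key]
  exact hP.comp (h.comp LT.symm.bijective)

end Iso

section Affine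

open AdeqPushObj

/-- the affine object `Spec X → Spec R` -/
noncomputable abbrev sO (X : Alg R) : Over (Spec R) :=
  Over.mk (Spec.map (CommRingCat.ofHom (algebraMap R X)))

variable (X : Alg R)

theorem iL_w : Spec.map (iL X (algOf R B)) ≫ Spec.map (CommRingCat.ofHom (algebraMap R X)) =
    Spec.map (CommRingCat.ofHom (algebraMap R (X ⊗[R] B))) := by
  rw [← Spec.map_comp]
  rfl

theorem iR_w : Spec.map (iR X (algOf R B)) ≫ Spec.map (CommRingCat.ofHom (algebraMap R B)) =
    Spec.map (CommRingCat.ofHom (algebraMap R (X ⊗[R] B))) := by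
  rw [(isPullback_tensor (R := R) X (algOf R B)).w]
  exact iL_w B X

/-- `Spec (X ⊗ B) → Spec B` over `Spec R` -/
noncomputable def jV : sO (CechFlatBC.XB B X) ⟶ VV B := Over.homMk (Spec.map (iR X (algOf R B))) (iR_w B X)

/-- `Spec (X ⊗ B) → Spec X` over `Spec R` -/
noncomputable def jX : sO (CechFlatBC.XB B X) ⟶ sO X := Over.homMk (Spec.map (iL X (algOf R B))) (iL_w B X)

/-- `Spec (X ⊗ B) → Spec B × Spec X` -/
noncomputable def jj : sO (CechFlatBC.XB B X) ⟶ VV B ⨯ sO X := prod.lift (jV B X) (jX B X)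

theorem isIso_jj : IsIso (jj B X) := by
  have hP : IsPullback (prod.fst : VV B ⨯ sO X ⟶ VV B).left (prod.snd : VV B ⨯ sO X ⟶ sO X).left
      (VV B).hom (sO X).hom :=
    Over.isPullback_of_binaryFan_isLimit (BinaryFan.mk prod.fst prod.snd) (prodIsProd (VV B) (sO X))
  have hT := isPullback_tensor (R := R) X (algOf R B)
  have e : (jj B X).left = (hT.isoIsPullback _ _ hP).hom := by
    apply hP.hom_ext
    · have h1 : (jj B X).left ≫ (prod.fst : VV B ⨯ sO X ⟶ VV B).left =
          Spec.map (iR X (algOf R B)) := by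
        rw [← Over.comp_left]
        unfold jj
        rw [prod.lift_fst]
        rfl
      exact h1.trans (IsPullback.isoIsPullback_hom_fst _ _ hT hP).symm
    · have h1 : (jj B X).left ≫ (prod.snd : VV B ⨯ sO X ⟶ sO X).left =
          Spec.map (iL X (algOf R B)) := by
        rw [← Over.comp_left]
        unfold jj
        rw [prod.lift_snd]
        rfl
      exact h1.trans (IsPullback.isoIsPullback_hom_snd _ _ hT hP).symm
  have h1 : IsIso (jj B X).left := by
    rw [e]
    infer_instance
  have h2 : IsIso ((Over.forget (Spec R)).map (jj B X)) := h1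
  exact isIso_of_reflects_iso (jj B X) (Over.forget (Spec R))

theorem ρ_sO (r : R) : ρ K a (sO X) r = toSect K a X (algebraMap R X r) := by
  apply ULift.ext
  change ((Scheme.ΓSpecIso R).inv ≫ (Spec.map (CommRingCat.ofHom (algebraMap R X))).appTop) r =
    (CommRingCat.ofHom (algebraMap R X) ≫ (Scheme.ΓSpecIso (CommRingCat.of X)).inv) r
  rw [Scheme.ΓSpecIso_inv_naturality]
  rfl

theorem β_jj (b : B) :
    (BigSite.ORing K S).obj.map ((Over.map a).map (jj B X)).op (β K a B (sO X) b) =
      (show (BigSite.ORing K S).obj.obj (op (YY a (sO (CechFlatBC.XB B X)))) from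
        toSect K a (CechFlatBC.XB B X) ((1 : X) ⊗ₜ[R] b)) := by
  apply ULift.ext
  change ((Scheme.ΓSpecIso (CommRingCat.of B)).inv ≫
      (prod.fst : VV B ⨯ sO X ⟶ VV B).left.appTop ≫ (jj B X).left.appTop) b =
    (Scheme.ΓSpecIso (CommRingCat.of (X ⊗[R] B))).inv ((1 : X) ⊗ₜ[R] b)
  rw [← Scheme.Hom.comp_appTop, ← Over.comp_left]
  have h : jj B X ≫ (prod.fst : VV B ⨯ sO X ⟶ VV B) = jV B X := prod.lift_fst _ _
  rw [h]
  change ((Scheme.ΓSpecIso (CommRingCat.of B)).inv ≫ (Spec.map (iR X (algOf R B))).appTop) b = _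
  rw [← Scheme.ΓSpecIso_inv_naturality]
  rfl

theorem map_jX : (Over.map a).map (jX B X) = (specOver a).map (CechFlatBC.iL B X).op := by
  apply Over.OverMorphism.ext
  rfl

variable [Module.Flat R B]

/-- `θ` is bijective over affine objects -/
theorem θ_bijective_sO (hF : adequate R ((toMVF K a).obj M)) :
    Function.Bijective (θ K a M B (sO X)) := by
  haveI := isIso_jj B X
  have hj : Function.Bijective (pmapL K a M (jj B X)) := pmapL_bijective_of_isIso K a M _
  let Θ : B ⊗[R] PZ K a M (sO X) →+ PZ K a M (sO (CechFlatBC.XB B X)) :=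
    (pmapL K a M (jj B X)).toAddMonoidHom.comp (θ K a M B (sO X))
  have hΘ : Function.Bijective Θ := by
    refine CechFlatBC.bijective_Θ' ((toMVF K a).obj M) B X hF (modR K a M (sO X)) ?_ Θ ?_
    · intro r y
      change ρ K a (sO X) r • (show PZ K a M (sO X) from y) = _
      rw [ρ_sO]
      rfl
    · intro b y
      let y' : PZ K a M (sO X) := y
      have h3 : pmapL K a M (jj B X) (pmapL K a M prod.snd y') =
          (show PZ K a M (sO (CechFlatBC.XB B X)) from
            mapEl ((toMVF K a).obj M) (CechFlatBC.iL B X) y) := by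
        rw [pmapL_comp]
        have h : jj B X ≫ (prod.snd : VV B ⨯ sO X ⟶ sO X) = jX B X := prod.lift_snd _ _
        rw [h, pmapL_apply]
        exact AdeqBig.pmap_congr K M.val (map_jX a B X) y'
      change pmapL K a M (jj B X) (θ K a M B (sO X) (b ⊗ₜ[R] y')) = _
      rw [θ_tmul, pmapL_apply]
      refine (M.val.map_smul ((Over.map a).map (jj B X)).op (β K a B (sO X) b) _).trans ?_
      rw [β_jj]
      exact congrArg (fun z : PZ K a M (sO (CechFlatBC.XB B X)) =>
        (show (BigSite.ORing K S).obj.obj (op (YY a (sO (CechFlatBC.XB B X)))) from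
          toSect K a (CechFlatBC.XB B X) ((1 : X) ⊗ₜ[R] b)) • z) h3
  exact (Function.Bijective.of_comp_iff' hj _).1 hΘ

end Affine

end Groth.Agent.R2.H80.CechAffine
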