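import Mathlib
import Groth.Agent.Lib.Helper16CechLow

/-!
# Čech complex of a single covering object: explicit form and the standard contraction  (helper80)

For an object `V` of a category with finite products:
* `W V n` the `(n+1)`-fold power, `face`, the extra degeneracy `s : V ⨯ W n ⟶ V ⨯ W (n+1)`;
* `dQ Q n` the alternating face sum for a presheaf `Q` of abelian groups, `dV Q n` the same for `Q(V ⨯ -)`;
* `contraction` : `dV n (Q(s n) y) + Q(s (n+1)) (dV (n+1) y) = y`;
* `exactAt_of_exact` : exactness of Mathlib's Čech complex for the one-member family `V` from exactness of `dQ`.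
-/

set_option autoImplicit false
set_option linter.unusedSectionVars false
universe w v u₁
open CategoryTheory Limits Opposite

namespace Groth.Agent.R2.H80.CechContr

variable {C : Type u₁} [Category.{v} C] [HasFiniteProducts C] (V : C)

/-- `(n+1)`-fold power of `V` -/
noncomputable abbrev W (n : ℕ) : C := ∏ᶜ (fun _ : Fin (n + 1) => V)

/-- the face maps -/
noncomputable def face (n : ℕ) (i : Fin (n + 2)) : W V (n + 1) ⟶ W V n :=
  Pi.lift fun k => Pi.π (fun _ : Fin (n + 2) => V) (Fin.succAbove i k)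

@[reassoc]
theorem face_π (n : ℕ) (i : Fin (n + 2)) (k : Fin (n + 1)) :
    face V n i ≫ Pi.π (fun _ : Fin (n + 1) => V) k = Pi.π (fun _ : Fin (n + 2) => V) (Fin.succAbove i k) :=
  Pi.lift_π _ _

/-- the components of the extra degeneracy -/
noncomputable def sComp (n : ℕ) : Fin (n + 2) → (V ⨯ W V n ⟶ V) :=
  Fin.cases prod.fst (fun k => prod.snd ≫ Pi.π (fun _ : Fin (n + 1) => V) k)

theorem sComp_zero (n : ℕ) : sComp V n 0 = prod.fst := rfl

theorem sComp_succ (n : ℕ) (k : Fin (n + 1)) :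
    sComp V n k.succ = prod.snd ≫ Pi.π (fun _ : Fin (n + 1) => V) k := rfl

/-- the extra degeneracy `(v, w) ↦ (v, (v, w))` -/
noncomputable def s (n : ℕ) : V ⨯ W V n ⟶ V ⨯ W V (n + 1) :=
  prod.lift prod.fst (Pi.lift (sComp V n))

@[reassoc]
theorem s_fst (n : ℕ) : s V n ≫ prod.fst = prod.fst := prod.lift_fst _ _

@[reassoc]
theorem s_snd_π (n : ℕ) (k : Fin (n + 2)) :
    s V n ≫ prod.snd ≫ Pi.π (fun _ : Fin (n + 2) => V) k = sComp V n k := by
  unfold s
  rw [prod.lift_snd_assoc, Pi.lift_π]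

theorem s_face_zero (n : ℕ) : s V n ≫ prod.map (𝟙 V) (face V n 0) = 𝟙 _ := by
  apply prod.hom_ext
  · rw [Category.assoc, prod.map_fst, Category.comp_id, s_fst, Category.id_comp]
  · rw [Category.assoc, prod.map_snd, Category.id_comp]
    apply Pi.hom_ext
    intro k
    rw [Category.assoc, Category.assoc, face_π, s_snd_π]
    rfl

theorem s_face_succ (n : ℕ) (j : Fin (n + 2)) :
    s V (n + 1) ≫ prod.map (𝟙 V) (face V (n + 1) j.succ) = prod.map (𝟙 V) (face V n j) ≫ s V n := by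
  apply prod.hom_ext
  · rw [Category.assoc, prod.map_fst, Category.comp_id, s_fst, Category.assoc, s_fst, prod.map_fst,
      Category.comp_id]
  · rw [Category.assoc, prod.map_snd]
    apply Pi.hom_ext
    intro k
    rw [Category.assoc, Category.assoc, face_π, s_snd_π, Category.assoc, Category.assoc, s_snd_π]
    refine Fin.cases ?_ (fun k' => ?_) k
    · rw [Fin.succ_succAbove_zero, sComp_zero, sComp_zero, prod.map_fst, Category.comp_id]
    · rw [Fin.succ_succAbove_succ, sComp_succ, sComp_succ, prod.map_snd_assoc, face_π]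

/-- `V^{n+2} ≅ V × V^{n+1}` -/
noncomputable def succIso (n : ℕ) : W V (n + 1) ≅ V ⨯ W V n where
  hom := prod.lift (Pi.π (fun _ : Fin (n + 2) => V) 0) (face V n 0)
  inv := Pi.lift (sComp V n)
  hom_inv_id := by
    apply Pi.hom_ext
    intro k
    rw [Category.assoc, Pi.lift_π, Category.id_comp]
    refine Fin.cases ?_ (fun k' => ?_) k
    · rw [sComp_zero, prod.lift_fst]
    · rw [sComp_succ, prod.lift_snd_assoc, face_π]
      rfl
  inv_hom_id := by
    apply prod.hom_ext
    · rw [Category.assoc, prod.lift_fst, Pi.lift_π, Category.id_comp]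
      rfl
    · rw [Category.assoc, prod.lift_snd, Category.id_comp]
      apply Pi.hom_ext
      intro k
      rw [Category.assoc, face_π, Pi.lift_π]
      rfl

/-- `V^1 ≅ V` -/
noncomputable def zeroIso : W V 0 ≅ V := productUniqueIso (fun _ : Fin 1 => V)

section Presheaf

variable (Q : Cᵒᵖ ⥤ AddCommGrpCat.{w})

/-- the alternating face sum -/
noncomputable def dQ (n : ℕ) : Q.obj (op (W V n)) →+ Q.obj (op (W V (n + 1))) :=
  ∑ i : Fin (n + 2), (-1 : ℤ) ^ (i : ℕ) • (Q.map (face V n i).op).hom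

theorem dQ_apply (n : ℕ) (y : Q.obj (op (W V n))) :
    dQ V Q n y = ∑ i : Fin (n + 2), (-1 : ℤ) ^ (i : ℕ) • Q.map (face V n i).op y := by
  unfold dQ
  rw [AddMonoidHom.finsetSum_apply]
  rfl

/-- the alternating face sum for `Q(V ⨯ -)` -/
noncomputable def dV (n : ℕ) : Q.obj (op (V ⨯ W V n)) →+ Q.obj (op (V ⨯ W V (n + 1))) :=
  ∑ i : Fin (n + 2), (-1 : ℤ) ^ (i : ℕ) • (Q.map (prod.map (𝟙 V) (face V n i)).op).hom

theorem dV_apply (n : ℕ) (y : Q.obj (op (V ⨯ W V n))) :
    dV V Q n y = ∑ i : Fin (n + 2), (-1 : ℤ) ^ (i : ℕ) • Q.map (prod.map (𝟙 V) (face V n i)).op y := by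
  unfold dV
  rw [AddMonoidHom.finsetSum_apply]
  rfl

theorem qmap_comp_apply {X Y Z : C} (f : X ⟶ Y) (g : Y ⟶ Z) (z : Q.obj (op Z)) :
    Q.map f.op (Q.map g.op z) = Q.map (f ≫ g).op z := by
  rw [op_comp, Q.map_comp]
  rfl

theorem qmap_id_apply {X : C} (z : Q.obj (op X)) : Q.map (𝟙 X).op z = z := by
  rw [op_id, Q.map_id]
  rfl

theorem qmap_sum {X Y : C} (f : X ⟶ Y) {α : Type*} (t : Finset α) (g : α → Q.obj (op Y)) :
    Q.map f.op (∑ i ∈ t, g i) = ∑ i ∈ t, Q.map f.op (g i) :=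
  map_sum (Q.map f.op).hom g t

theorem qmap_zsmul {X Y : C} (f : X ⟶ Y) (m : ℤ) (z : Q.obj (op Y)) :
    Q.map f.op (m • z) = m • Q.map f.op z :=
  map_zsmul (Q.map f.op).hom m z

/-- the contraction identity -/
theorem contraction (n : ℕ) (y : Q.obj (op (V ⨯ W V (n + 1)))) :
    dV V Q n (Q.map (s V n).op y) + Q.map (s V (n + 1)).op (dV V Q (n + 1) y) = y := by
  have key : Q.map (s V (n + 1)).op (dV V Q (n + 1) y) = y - dV V Q n (Q.map (s V n).op y) := by
    rw [dV_apply, dV_apply, qmap_sum, Fin.sum_univ_succ]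
    have h0 : Q.map (s V (n + 1)).op
        ((-1 : ℤ) ^ ((0 : Fin (n + 3)) : ℕ) • Q.map (prod.map (𝟙 V) (face V (n + 1) 0)).op y) = y := by
      rw [qmap_zsmul, qmap_comp_apply, s_face_zero, qmap_id_apply]
      simp
    have h1 : ∀ j : Fin (n + 2), Q.map (s V (n + 1)).op
        ((-1 : ℤ) ^ ((j.succ : Fin (n + 3)) : ℕ) • Q.map (prod.map (𝟙 V) (face V (n + 1) j.succ)).op y) =
        - ((-1 : ℤ) ^ (j : ℕ) • Q.map (prod.map (𝟙 V) (face V n j)).op (Q.map (s V n).op y)) := by
      intro j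
      rw [qmap_zsmul, qmap_comp_apply, s_face_succ, ← qmap_comp_apply, Fin.val_succ, pow_succ, mul_neg_one,
        neg_smul]
    rw [h0, Finset.sum_congr rfl (fun j _ => h1 j), Finset.sum_neg_distrib]
    abel
  rw [key]
  abel

end Presheaf

section CK

open Groth.Agent.Lib.Helper16.CechLow

variable (Q : Cᵒᵖ ⥤ AddCommGrpCat.{w})

/-- the one-member family -/
abbrev U1 : PUnit.{w + 1} → C := fun _ => V

/-- the unique multi-index -/
abbrev x0 (n : ℕ) : Fin (n + 1) → PUnit.{w + 1} := fun _ => PUnit.unit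

/-- the projection of the Čech complex onto its unique component -/
noncomputable def pr0 (n : ℕ) : (CK (U1 V) Q).X n →+ Q.obj (op (W V n)) :=
  (pr (U1 V) Q n (x0 n)).hom

theorem pr0_d (n : ℕ) (c : (CK (U1 V) Q).X n) :
    pr0 V Q (n + 1) ((CK (U1 V) Q).d n (n + 1) c) = dQ V Q n (pr0 V Q n c) := by
  rw [dQ_apply]
  exact d_pr_apply (U1 V) Q n (x0 (n + 1)) c

theorem pr0_injective (n : ℕ) : Function.Injective (pr0 V Q n) := by
  intro c c' h
  apply elt_ext
  intro x
  obtain rfl : x = x0 n := Subsingleton.elim _ _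
  exact h

theorem pr0_surjective (n : ℕ) : Function.Surjective (pr0 V Q n) := by
  intro y
  refine ⟨mkElt (U1 V) Q n (fun x => (Subsingleton.elim (x0 n) x) ▸ y), ?_⟩
  exact pr_mkElt (U1 V) Q n _ (x0 n)

theorem dQ_comp (n : ℕ) (y : Q.obj (op (W V n))) : dQ V Q (n + 1) (dQ V Q n y) = 0 := by
  obtain ⟨c, rfl⟩ := pr0_surjective V Q n y
  rw [← pr0_d, ← pr0_d]
  have h : (CK (U1 V) Q).d n (n + 1) ≫ (CK (U1 V) Q).d (n + 1) (n + 2) = 0 :=
    (CK (U1 V) Q).d_comp_d _ _ _
  have h2 := ConcreteCategory.congr_hom h c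
  rw [ConcreteCategory.comp_apply] at h2
  rw [h2]
  exact map_zero _

/-- exactness of Mathlib's Čech complex of the one-member family from exactness of the explicit complex. -/
theorem exactAt_of_exact (n : ℕ)
    (h : ∀ y : Q.obj (op (W V (n + 1))), dQ V Q (n + 1) y = 0 → ∃ z, dQ V Q n z = y) :
    (CK (U1 V) Q).ExactAt (n + 1) := by
  rw [HomologicalComplex.exactAt_iff' (CK (U1 V) Q) n (n + 1) (n + 2) (by simp) (by simp),
    ShortComplex.ab_exact_iff]
  intro c hc
  have hc' : (CK (U1 V) Q).d (n + 1) (n + 2) c = 0 := hc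
  obtain ⟨z, hz⟩ := h (pr0 V Q (n + 1) c) (by
    rw [← pr0_d, hc', map_zero])
  obtain ⟨b, rfl⟩ := pr0_surjective V Q n z
  refine ⟨b, pr0_injective V Q (n + 1) ?_⟩
  rw [← hz]
  exact pr0_d V Q n b

end CK

end Groth.Agent.R2.H80.CechContr
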