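import Groth.Agent.R2.H80CechAffine
import Groth.Agent.R2.H80CechContr

/-!
# Exactness of the Čech complex of an adequate module for a faithfully flat covering  (helper80)
-/

set_option autoImplicit false
set_option linter.style.haveILetI false
universe u
open CategoryTheory Limits TensorProduct AlgebraicGeometry Opposite
open Adeq Groth.Agent.Helper13Adeq

namespace Groth.Agent.R2.H80.CechMain

open CechTheta CechAffine CechContr

variable (K : Precoverage Scheme.{u}) [BigSite.OSh K] {S : Scheme.{u}} {R : CommRingCat.{u}}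
  (a : Spec R ⟶ S) (M : BigSite.Mod K S) (B : Type u) [CommRing B] [Algebra R B]

section Affine

/-- the powers of `Spec B` over `Spec R` are affine -/
theorem exists_iso_sO (n : ℕ) : ∃ X : Alg R, Nonempty (W (VV (R := R) B) n ≅ sO X) := by
  induction n with
  | zero => exact ⟨algOf R B, ⟨zeroIso (VV (R := R) B)⟩⟩
  | succ n ih =>
    obtain ⟨X, ⟨e⟩⟩ := ih
    haveI := isIso_jj (R := R) B X
    exact ⟨CechFlatBC.XB B X,
      ⟨succIso (VV (R := R) B) n ≪≫ prod.mapIso (Iso.refl (VV (R := R) B)) e ≪≫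
        (asIso (jj (R := R) B X)).symm⟩⟩

variable [Module.Flat R B]

theorem θ_bijective_W (hF : adequate R ((toMVF K a).obj M)) (n : ℕ) :
    Function.Bijective (θ K a M B (W (VV B) n)) := by
  obtain ⟨X, ⟨e⟩⟩ := exists_iso_sO (R := R) B n
  exact θ_bijective_of_iso K a M B e.hom (θ_bijective_sO K a M B X hF)

end Affine

section Exact

/-- the presheaf of abelian groups `Z ↦ M(Z → Spec R → S)` -/
noncomputable abbrev PP : (Over (Spec R))ᵒᵖ ⥤ AddCommGrpCat.{u + 1} :=
  (Over.map a).op ⋙ ((BigSite.toAbMod K S).obj M).obj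

/-- the alternating face sum, as an `R`-linear map -/
noncomputable def dL (n : ℕ) :
    PZ K a M (W (VV (R := R) B) n) →ₗ[R] PZ K a M (W (VV (R := R) B) (n + 1)) :=
  ∑ i : Fin (n + 2), (-1 : ℤ) ^ (i : ℕ) • pmapL K a M (face (VV (R := R) B) n i)

theorem dL_apply (n : ℕ) (y : PZ K a M (W (VV (R := R) B) n)) :
    dL K a M B n y =
      ∑ i : Fin (n + 2), (-1 : ℤ) ^ (i : ℕ) • pmapL K a M (face (VV (R := R) B) n i) y := by
  unfold dL
  rw [LinearMap.sum_apply]
  rfl

theorem dL_eq_dQ (n : ℕ) (y : PZ K a M (W (VV (R := R) B) n)) :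
    dL K a M B n y = dQ (VV (R := R) B) (PP K a M) n y := by
  rw [dL_apply, dQ_apply]
  rfl

theorem lTensor_dL (n : ℕ) (t : B ⊗[R] PZ K a M (W (VV (R := R) B) n)) :
    (dL K a M B n).lTensor B t =
      ∑ i : Fin (n + 2), (-1 : ℤ) ^ (i : ℕ) •
        (pmapL K a M (face (VV (R := R) B) n i)).lTensor B t := by
  have h : (dL K a M B n).lTensor B =
      ∑ i : Fin (n + 2), (-1 : ℤ) ^ (i : ℕ) •
        (pmapL K a M (face (VV (R := R) B) n i)).lTensor B := by
    unfold dL
    exact (map_sum (LinearMap.lTensorHom B) _ _).trans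
      (Finset.sum_congr rfl fun i _ => map_zsmul (LinearMap.lTensorHom B) _ _)
  rw [h, LinearMap.sum_apply]
  rfl

/-- `θ` intertwines the differentials -/
theorem θ_dL (n : ℕ) (t : B ⊗[R] PZ K a M (W (VV (R := R) B) n)) :
    θ K a M B (W (VV (R := R) B) (n + 1)) ((dL K a M B n).lTensor B t) =
      dV (VV (R := R) B) (PP K a M) n (θ K a M B (W (VV (R := R) B) n) t) := by
  rw [lTensor_dL, map_sum, dV_apply]
  refine Finset.sum_congr rfl (fun i _ => ?_)
  rw [map_zsmul, ← θ_nat]
  rfl

variable [Module.FaithfullyFlat R B]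

theorem exact_dL (hF : adequate R ((toMVF K a).obj M)) (n : ℕ) :
    Function.Exact (dL K a M B n) (dL K a M B (n + 1)) := by
  apply Module.FaithfullyFlat.lTensor_reflects_exact R B
  have hcomp : (dL K a M B (n + 1)) ∘ₗ (dL K a M B n) = 0 := by
    apply LinearMap.ext
    intro y
    rw [LinearMap.comp_apply, dL_eq_dQ, dL_eq_dQ]
    exact dQ_comp (VV (R := R) B) (PP K a M) n y
  intro t
  constructor
  · intro ht
    let y' := θ K a M B (W (VV (R := R) B) (n + 1)) t
    have h1 : dV (VV (R := R) B) (PP K a M) (n + 1) y' = 0 :=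
      (θ_dL K a M B (n + 1) t).symm.trans
        ((congrArg (θ K a M B (W (VV (R := R) B) (n + 2))) ht).trans (map_zero _))
    have h2 := contraction (VV (R := R) B) (PP K a M) n y'
    rw [h1, map_zero, add_zero] at h2
    obtain ⟨w, hw⟩ := (θ_bijective_W K a M B hF n).2
      ((PP K a M).map (s (VV (R := R) B) n).op y')
    refine ⟨w, (θ_bijective_W K a M B hF (n + 1)).1 ?_⟩
    rw [θ_dL, hw]
    exact h2
  · rintro ⟨w, rfl⟩
    rw [← LinearMap.comp_apply, ← LinearMap.lTensor_comp, hcomp, LinearMap.lTensor_zero,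
      LinearMap.zero_apply]

/-- exactness of the Čech complex in positive degrees -/
theorem exactAt (hF : adequate R ((toMVF K a).obj M)) (n : ℕ) :
    ((cechComplexFunctor (A := AddCommGrpCat.{u + 1})
        (fun _ : PUnit.{u + 2} => VV (R := R) B)).obj (PP K a M)).ExactAt (n + 1) := by
  refine exactAt_of_exact (VV (R := R) B) (PP K a M) n (fun y hy => ?_)
  have hy' : dL K a M B (n + 1) y = 0 := (dL_eq_dQ K a M B (n + 1) y).trans hy
  obtain ⟨z, hz⟩ := (exact_dL K a M B hF n y).1 hy'
  exact ⟨z, (dL_eq_dQ K a M B n z).symm.trans hz⟩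

end Exact

end Groth.Agent.R2.H80.CechMain
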