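import Groth.Prelude.Def_Adeq2
import Groth.Agent.R2.H80AdeqBig
import Groth.Agent.R2.H80CechContr

/-!
# The comparison map `B ⊗_R M(Z) → M(V × Z)` on the big site  (helper80)
-/

set_option autoImplicit false
set_option linter.style.haveILetI false
universe u
open CategoryTheory Limits TensorProduct AlgebraicGeometry Opposite
open Adeq

namespace Groth.Agent.R2.H80.CechTheta

variable (K : Precoverage Scheme.{u}) [BigSite.OSh K] {S : Scheme.{u}} {R : CommRingCat.{u}}
  (a : Spec R ⟶ S) (M : BigSite.Mod K S)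

/-- the object of the big site of `S` attached to an object over `Spec R` -/
noncomputable abbrev YY (Z : Over (Spec R)) : Over S := (Over.map a).obj Z

/-- the sections of `M` over `Z` -/
noncomputable abbrev PZ (Z : Over (Spec R)) : ModuleCat ((BigSite.ORing K S).obj.obj (op (YY a Z))) :=
  M.val.obj (op (YY a Z))

/-- the structure map `R → O(Z)` -/
noncomputable def ρ (Z : Over (Spec R)) : R →+* (BigSite.ORing K S).obj.obj (op (YY a Z)) :=
  (ULift.ringEquiv.symm : Γ(Z.left, ⊤) ≃+* ULift.{u + 1} Γ(Z.left, ⊤)).toRingHom.comp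
    (Z.hom.appTop.hom.comp (Scheme.ΓSpecIso R).inv.hom)

theorem ρ_nat {Z Z' : Over (Spec R)} (g : Z' ⟶ Z) (r : R) :
    (BigSite.ORing K S).obj.map ((Over.map a).map g).op (ρ K a Z r) = ρ K a Z' r := by
  apply ULift.ext
  change ((Scheme.ΓSpecIso R).inv ≫ Z.hom.appTop ≫ g.left.appTop) r =
    ((Scheme.ΓSpecIso R).inv ≫ Z'.hom.appTop) r
  rw [← Scheme.Hom.comp_appTop, Over.w g]

/-- the `R`-module structure on `M(Z)` -/
noncomputable instance modR (Z : Over (Spec R)) : Module R (PZ K a M Z) :=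
  Module.compHom (PZ K a M Z) (ρ K a Z)

theorem smul_def (Z : Over (Spec R)) (r : R) (x : PZ K a M Z) : r • x = ρ K a Z r • x := rfl

/-- restriction, as an `R`-linear map -/
noncomputable def pmapL {Z Z' : Over (Spec R)} (g : Z' ⟶ Z) : PZ K a M Z →ₗ[R] PZ K a M Z' where
  toFun x := M.val.map ((Over.map a).map g).op x
  map_add' x y := map_add _ x y
  map_smul' r x := by
    change M.val.map ((Over.map a).map g).op (ρ K a Z r • x) =
      ρ K a Z' r • M.val.map ((Over.map a).map g).op x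
    refine (M.val.map_smul ((Over.map a).map g).op (ρ K a Z r) x).trans ?_
    congr 1
    exact ρ_nat K a g r

theorem pmapL_apply {Z Z' : Over (Spec R)} (g : Z' ⟶ Z) (x : PZ K a M Z) :
    pmapL K a M g x = M.val.map ((Over.map a).map g).op x := rfl

theorem pmapL_comp {Z Z' Z'' : Over (Spec R)} (g : Z' ⟶ Z) (g' : Z'' ⟶ Z') (x : PZ K a M Z) :
    pmapL K a M g' (pmapL K a M g x) = pmapL K a M (g' ≫ g) x := by
  rw [pmapL_apply, pmapL_apply, pmapL_apply, AdeqBig.pmap_comp_apply]
  exact AdeqBig.pmap_congr K M.val ((Over.map a).map_comp g' g).symm x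

theorem pmapL_id (Z : Over (Spec R)) (x : PZ K a M Z) : pmapL K a M (𝟙 Z) x = x := by
  rw [pmapL_apply]
  exact (AdeqBig.pmap_congr K M.val ((Over.map a).map_id Z) x).trans
    (AdeqBig.pmap_id_apply K M.val x)

theorem pmapL_bijective_of_isIso {Z Z' : Over (Spec R)} (g : Z' ⟶ Z) [IsIso g] :
    Function.Bijective (pmapL K a M g) := by
  refine Function.bijective_iff_has_inverse.2 ⟨pmapL K a M (inv g), fun x => ?_, fun x => ?_⟩
  · rw [pmapL_comp, IsIso.inv_hom_id, pmapL_id]
  · rw [pmapL_comp, IsIso.hom_inv_id, pmapL_id]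

section Theta

variable (B : Type u) [CommRing B] [Algebra R B]

/-- the covering object `Spec B → Spec R` -/
noncomputable abbrev VV : Over (Spec R) := Over.mk (Spec.map (CommRingCat.ofHom (algebraMap R B)))

/-- `B → O(V)` -/
noncomputable def βV : B →+* (BigSite.ORing K S).obj.obj (op (YY a (VV B))) :=
  (ULift.ringEquiv.symm : Γ(Spec (CommRingCat.of B), ⊤) ≃+*
    ULift.{u + 1} Γ(Spec (CommRingCat.of B), ⊤)).toRingHom.comp
    (Scheme.ΓSpecIso (CommRingCat.of B)).inv.hom

theorem βV_algebraMap (r : R) : βV K a B (algebraMap R B r) = ρ K a (VV B) r := by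
  apply ULift.ext
  change (CommRingCat.ofHom (algebraMap R B) ≫ (Scheme.ΓSpecIso (CommRingCat.of B)).inv) r =
    ((Scheme.ΓSpecIso R).inv ≫ (Spec.map (CommRingCat.ofHom (algebraMap R B))).appTop) r
  rw [Scheme.ΓSpecIso_inv_naturality]
  rfl

/-- `B → O(V × Z)` -/
noncomputable def β (Z : Over (Spec R)) :
    B →+* (BigSite.ORing K S).obj.obj (op (YY a (VV B ⨯ Z))) :=
  ((BigSite.ORing K S).obj.map ((Over.map a).map (prod.fst : VV B ⨯ Z ⟶ VV B)).op).hom.comp
    (βV K a B)

theorem β_algebraMap (Z : Over (Spec R)) (r : R) :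
    β K a B Z (algebraMap R B r) = ρ K a (VV B ⨯ Z) r := by
  change (BigSite.ORing K S).obj.map ((Over.map a).map (prod.fst : VV B ⨯ Z ⟶ VV B)).op
    (βV K a B (algebraMap R B r)) = _
  rw [βV_algebraMap]
  exact ρ_nat K a _ r

theorem β_nat {Z Z' : Over (Spec R)} (g : Z' ⟶ Z) (b : B) :
    (BigSite.ORing K S).obj.map ((Over.map a).map (prod.map (𝟙 (VV B)) g)).op (β K a B Z b) =
      β K a B Z' b := by
  apply ULift.ext
  change ((Scheme.ΓSpecIso (CommRingCat.of B)).inv ≫ (prod.fst : VV B ⨯ Z ⟶ VV B).left.appTop ≫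
      (prod.map (𝟙 (VV B)) g).left.appTop) b =
    ((Scheme.ΓSpecIso (CommRingCat.of B)).inv ≫ (prod.fst : VV B ⨯ Z' ⟶ VV B).left.appTop) b
  rw [← Scheme.Hom.comp_appTop, ← Over.comp_left, prod.map_fst, Category.comp_id]

/-- the comparison map `b ⊗ x ↦ b|_{V × Z} • x|_{V × Z}` -/
noncomputable def θ (Z : Over (Spec R)) : B ⊗[R] PZ K a M Z →+ PZ K a M (VV B ⨯ Z) :=
  TensorProduct.liftAddHom
    { toFun := fun b =>
        { toFun := fun x => β K a B Z b • pmapL K a M (prod.snd : VV B ⨯ Z ⟶ Z) x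
          map_zero' := by rw [map_zero, smul_zero]
          map_add' := fun x y => by rw [map_add, smul_add] }
      map_zero' := by
        ext x
        change β K a B Z 0 • pmapL K a M (prod.snd : VV B ⨯ Z ⟶ Z) x = 0
        rw [map_zero, zero_smul]
      map_add' := fun b b' => by
        ext x
        change β K a B Z (b + b') • pmapL K a M (prod.snd : VV B ⨯ Z ⟶ Z) x =
          β K a B Z b • pmapL K a M (prod.snd : VV B ⨯ Z ⟶ Z) x +
            β K a B Z b' • pmapL K a M (prod.snd : VV B ⨯ Z ⟶ Z) x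
        rw [map_add, add_smul] }
    (by
      intro r b x
      change β K a B Z (r • b) • pmapL K a M (prod.snd : VV B ⨯ Z ⟶ Z) x =
        β K a B Z b • pmapL K a M (prod.snd : VV B ⨯ Z ⟶ Z) (r • x)
      rw [Algebra.smul_def, mul_comm, map_mul, β_algebraMap, mul_smul, map_smul]
      rfl)

theorem θ_tmul (Z : Over (Spec R)) (b : B) (x : PZ K a M Z) :
    θ K a M B Z (b ⊗ₜ[R] x) = β K a B Z b • pmapL K a M (prod.snd : VV B ⨯ Z ⟶ Z) x := rfl

/-- naturality of `θ` -/
theorem θ_nat {Z Z' : Over (Spec R)} (g : Z' ⟶ Z) (t : B ⊗[R] PZ K a M Z) :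
    pmapL K a M (prod.map (𝟙 (VV B)) g) (θ K a M B Z t) =
      θ K a M B Z' ((pmapL K a M g).lTensor B t) := by
  induction t using TensorProduct.induction_on with
  | zero => rw [map_zero, map_zero, map_zero, map_zero]
  | add t₁ t₂ h₁ h₂ => rw [map_add, map_add, h₁, h₂, map_add, map_add]
  | tmul b x =>
    rw [LinearMap.lTensor_tmul, θ_tmul, θ_tmul, pmapL_apply]
    refine (M.val.map_smul ((Over.map a).map (prod.map (𝟙 (VV B)) g)).op (β K a B Z b) _).trans ?_
    rw [β_nat]
    congr 1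
    change pmapL K a M (prod.map (𝟙 (VV B)) g) (pmapL K a M prod.snd x) =
      pmapL K a M prod.snd (pmapL K a M g x)
    rw [pmapL_comp, pmapL_comp, prod.map_snd]

end Theta

end Groth.Agent.R2.H80.CechTheta
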