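import Groth.Statements.S16877

/-!
# The presheaf of isomorphism classes of a gerbe over a presheaf (helper80)

For a functor `π : 𝒳 ⥤ᵇ Stk.ofPsh P` over `C` with `𝒳` fibred in groupoids: the induced map of
presheaves `Gerb.isoClPsh 𝒳 ⟶ P`, and its local surjectivity / injectivity when `π` is a gerbe.
-/

set_option autoImplicit false
set_option backward.isDefEq.respectTransparency false
set_option backward.isDefEq.respectTransparency.types false
universe w v₂ u₂ v u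

open CategoryTheory Opposite

namespace Groth.Agent.R2.H80.GerbIsoCl

variable {C : Type u} [Category.{v} C] {𝒳 : BasedCategory.{v₂, u₂} C} {P : Cᵒᵖ ⥤ Type u₂}
  (π : 𝒳 ⥤ᵇ Stk.ofPsh P)

theorem base_eq {U : C} (x : 𝒳.obj) (hx : 𝒳.p.obj x = U) : U = (π.obj x).base :=
  hx.symm.trans (π.w_obj x).symm

/-- The section of `P` over `U` attached to an object of `𝒳` over `U`. -/
def secAt {U : C} (x : 𝒳.obj) (hx : 𝒳.p.obj x = U) : P.obj (op U) :=
  P.map (eqToHom (base_eq π x hx)).op (π.obj x).sec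

theorem map_map_op {U V W : C} (a : W ⟶ V) (b : V ⟶ U) (s : P.obj (op U)) :
    P.map a.op (P.map b.op s) = P.map (a ≫ b).op s := by
  rw [op_comp, Functor.map_comp_apply]

/-- Compatibility of `secAt` with morphisms of `𝒳` lying over a morphism of the base. -/
theorem secAt_of_isHomLift {U V : C} (f : V ⟶ U) (x' : 𝒳.obj) (hx' : 𝒳.p.obj x' = V)
    (x : 𝒳.obj) (hx : 𝒳.p.obj x = U)
    (g : x' ⟶ x) (hg : 𝒳.p.IsHomLift f g) : secAt π x' hx' = P.map f.op (secAt π x hx) := by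
  have hg' : (Stk.ofPsh P).p.IsHomLift f (π.map g) := π.preserves_isHomLift f g
  have h1 : P.map (π.map g).hom.op (π.obj x).sec = (π.obj x').sec := (π.map g).map_sec
  have h2 : (π.map g).hom = eqToHom (base_eq π x' hx').symm ≫ f ≫ eqToHom (base_eq π x hx) :=
    IsHomLift.fac' (Stk.ofPsh P).p f (π.map g)
  have key : eqToHom (base_eq π x' hx') ≫ (π.map g).hom = f ≫ eqToHom (base_eq π x hx) := by
    rw [h2]; simp
  calc secAt π x' hx' = P.map (eqToHom (base_eq π x' hx')).op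
        (P.map (π.map g).hom.op (π.obj x).sec) := by rw [h1]; rfl
    _ = P.map (eqToHom (base_eq π x' hx') ≫ (π.map g).hom).op (π.obj x).sec := map_map_op _ _ _
    _ = P.map (f ≫ eqToHom (base_eq π x hx)).op (π.obj x).sec := by rw [key]
    _ = P.map f.op (secAt π x hx) := (map_map_op _ _ _).symm

variable [FibCat.IsFibGrpd 𝒳.p]

theorem secAt_pullFib {U V : C} (f : V ⟶ U) (a : 𝒳.p.Fiber U) :
    secAt π (Gerb.pullFib 𝒳 f a).1 (Gerb.pullFib 𝒳 f a).2 = P.map f.op (secAt π a.1 a.2) := by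
  have h := Gerb.pullHom_isHomLift 𝒳 a.1 (f ≫ eqToHom a.2.symm)
  have h' : 𝒳.p.IsHomLift f (Gerb.pullHom 𝒳 a.1 (f ≫ eqToHom a.2.symm)) :=
    (IsHomLift.lift_comp_eqToHom_iff 𝒳.p f _ a.2.symm).mp h
  exact secAt_of_isHomLift π f _ _ a.1 a.2 _ h'

/-- The map of presheaves from isomorphism classes of objects of `𝒳` to `P` induced by `π`. -/
noncomputable def isoClMap : Gerb.isoClPsh 𝒳 ⟶ P where
  app U := ↾(Quot.lift (fun a : 𝒳.p.Fiber U.unop => secAt π a.1 a.2) (by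
    rintro a b ⟨φ⟩
    have := secAt_of_isHomLift π (𝟙 U.unop) a.1 a.2 b.1 b.2 φ.1 φ.2
    simpa using this))
  naturality U V f := by
    ext a
    obtain ⟨a⟩ := a
    exact secAt_pullFib π f.unop a

theorem isoClMap_app_mk {U : C} (a : 𝒳.p.Fiber U) :
    (isoClMap π).app (op U) (Quot.mk _ a) = secAt π a.1 a.2 := rfl

variable (J : GrothendieckTopology C)

/-- If objects of the target lift locally, the map from isomorphism classes is locally surjective. -/
theorem isLocallySurjective_isoClMap (h : Gerb.LocSurjObj J π) :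
    Presheaf.IsLocallySurjective J (isoClMap π) where
  imageSieve_mem {U} s := by
    obtain ⟨R, hR, hRx⟩ := h ⟨U, s⟩
    refine J.superset_covering ?_ hR
    intro V f hf
    obtain ⟨x, g, hg⟩ := hRx f hf
    have hV : 𝒳.p.obj x = V := (π.w_obj x).symm.trans (IsHomLift.domain_eq (Stk.ofPsh P).p f g)
    refine ⟨Quot.mk _ ⟨x, hV⟩, ?_⟩
    rw [isoClMap_app_mk]
    have h1 : P.map g.hom.op s = (π.obj x).sec := g.map_sec
    have h2 : g.hom = eqToHom (base_eq π x hV).symm ≫ f ≫ eqToHom rfl :=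
      IsHomLift.fac' (Stk.ofPsh P).p f g
    have key : eqToHom (base_eq π x hV) ≫ g.hom = f := by
      rw [h2]; simp
    calc secAt π x hV = P.map (eqToHom (base_eq π x hV)).op (P.map g.hom.op s) := by rw [h1]; rfl
      _ = P.map (eqToHom (base_eq π x hV) ≫ g.hom).op s := map_map_op _ _ _
      _ = P.map f.op s := by rw [key]

theorem equalizerSieve_mem_aux (h : Gerb.LocSurjHom J π) {U : C} (a b : 𝒳.p.Fiber U)
    (hst : secAt π a.1 a.2 = secAt π b.1 b.2) :
    Presheaf.equalizerSieve (F := Gerb.isoClPsh 𝒳) (X := op U) (Quot.mk _ a) (Quot.mk _ b) ∈ J U := by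
  obtain ⟨xa, ha⟩ := a
  obtain ⟨xb, hb⟩ := b
  subst ha
  have hst' : secAt π xa rfl = secAt π xb hb := hst
  have e : (π.obj xa).base = (π.obj xb).base := (base_eq π xa rfl).symm.trans (base_eq π xb hb)
  have hsec : P.map (eqToHom e).op (π.obj xb).sec = (π.obj xa).sec := by
    have h3 := congrArg (P.map (eqToHom (base_eq π xa rfl).symm).op) hst'
    unfold secAt at h3
    rw [map_map_op, map_map_op] at h3
    simpa using h3.symm
  let β : π.obj xa ⟶ π.obj xb := ⟨eqToHom e, hsec⟩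
  have hβ : (Stk.ofPsh P).p.IsHomLift (𝟙 (𝒳.p.obj xa)) β :=
    IsHomLift.of_fac' (Stk.ofPsh P).p _ _ (π.w_obj xa) ((π.w_obj xb).trans hb) (by
      change eqToHom e = _
      simp)
  obtain ⟨R, hR, hRx⟩ := h xa xb β hβ
  refine J.superset_covering ?_ hR
  intro V f hf
  obtain ⟨x₀, φ, ψ, hφ, hψ, -⟩ := hRx f hf
  have hV : 𝒳.p.obj x₀ = V := IsHomLift.domain_eq 𝒳.p f φ
  have hφ' : 𝒳.p.IsHomLift (f ≫ eqToHom (rfl : 𝒳.p.obj xa = 𝒳.p.obj xa).symm) φ :=
    (IsHomLift.lift_comp_eqToHom_iff 𝒳.p f φ _).mpr hφ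
  have hψ' : 𝒳.p.IsHomLift (f ≫ eqToHom hb.symm) ψ :=
    (IsHomLift.lift_comp_eqToHom_iff 𝒳.p f ψ _).mpr hψ
  obtain ⟨χa, hχa, -⟩ := Gerb.exists_hom_pull 𝒳 xa _ φ hφ'
  obtain ⟨χb, hχb, -⟩ := Gerb.exists_hom_pull 𝒳 xb _ ψ hψ'
  change Quot.mk _ (Gerb.pullFib 𝒳 f ⟨xa, rfl⟩) = Quot.mk _ (Gerb.pullFib 𝒳 f ⟨xb, hb⟩)
  calc Quot.mk (Gerb.IsoRel 𝒳 V) (Gerb.pullFib 𝒳 f ⟨xa, rfl⟩)
      = Quot.mk (Gerb.IsoRel 𝒳 V) ⟨x₀, hV⟩ := (Quot.sound ⟨⟨χa, hχa⟩⟩).symm
    _ = Quot.mk (Gerb.IsoRel 𝒳 V) (Gerb.pullFib 𝒳 f ⟨xb, hb⟩) := Quot.sound ⟨⟨χb, hχb⟩⟩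

/-- If morphisms between images lift locally, the map from isomorphism classes is locally
injective. -/
theorem isLocallyInjective_isoClMap (h : Gerb.LocSurjHom J π) :
    Presheaf.IsLocallyInjective J (isoClMap π) where
  equalizerSieve_mem {U} s t hst := by
    induction U using Opposite.rec with
    | op U =>
    obtain ⟨a⟩ := s
    obtain ⟨b⟩ := t
    exact equalizerSieve_mem_aux π J h a b hst

end Groth.Agent.R2.H80.GerbIsoCl
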