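import Mathlib

/-!
# Dimension of the space of intertwiners of two semisimple endomorphisms (helper80)

For semisimple endomorphisms `π₁`, `π₂` of finite-dimensional vector spaces over a field `K`, the
dimension of `{h | h ∘ π₁ = π₂ ∘ h}` is `∑_P mult_P(charpoly π₁) mult_P(charpoly π₂) deg P`.
-/

set_option autoImplicit false
universe u v w

open scoped Classical
open Polynomial UniqueFactorizationMonoid

namespace Groth.Agent.R2.H80.Intertwiner

variable {K : Type u} [Field K]

/-- The number `r(f₁, f₂)`, as a sum over the irreducible factors of `f₁` counted with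
multiplicity. -/
noncomputable def rr (f₁ f₂ : K[X]) : ℕ :=
  ((normalizedFactors f₁).map fun P => (normalizedFactors f₂).count P * P.natDegree).sum

theorem rr_eq_sum (f₁ f₂ : K[X]) :
    rr f₁ f₂ = ∑ P ∈ (normalizedFactors f₁).toFinset,
      (normalizedFactors f₁).count P * (normalizedFactors f₂).count P * P.natDegree := by
  unfold rr
  rw [Finset.sum_multiset_map_count]
  apply Finset.sum_congr rfl
  intro P _
  rw [smul_eq_mul, mul_assoc]

theorem rr_mul_left (f g h : K[X]) (hf : f ≠ 0) (hg : g ≠ 0) :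
    rr (f * g) h = rr f h + rr g h := by
  unfold rr
  rw [normalizedFactors_mul hf hg, Multiset.map_add, Multiset.sum_add]

theorem rr_mul_right (h f g : K[X]) (hf : f ≠ 0) (hg : g ≠ 0) :
    rr h (f * g) = rr h f + rr h g := by
  unfold rr
  rw [normalizedFactors_mul hf hg, ← Multiset.sum_map_add]
  congr 1
  apply Multiset.map_congr rfl
  intro P _
  rw [Multiset.count_add, add_mul]

theorem rr_one_left (h : K[X]) : rr 1 h = 0 := by
  unfold rr
  rw [normalizedFactors_one]
  simp

theorem rr_one_right (h : K[X]) : rr h 1 = 0 := by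
  unfold rr
  rw [normalizedFactors_one]
  simp

theorem rr_irreducible (P Q : K[X]) (hP : Irreducible P) (hQ : Irreducible Q) (hPm : P.Monic)
    (hQm : Q.Monic) : rr P Q = if P = Q then P.natDegree else 0 := by
  unfold rr
  rw [normalizedFactors_irreducible hP, normalizedFactors_irreducible hQ, hPm.normalize_eq_self,
    hQm.normalize_eq_self]
  simp only [Multiset.map_singleton, Multiset.sum_singleton, Multiset.count_singleton]
  split_ifs <;> simp

section Generic

variable {A : Type*} {B : Type*} {C : Type*} [AddCommGroup A] [Module K A] [AddCommGroup B]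
  [Module K B] [AddCommGroup C] [Module K C]

theorem finrank_eq_of_mem_iff (E : A ≃ₗ[K] B) (p : Submodule K A) (q : Submodule K B)
    (h : ∀ a, a ∈ p ↔ E a ∈ q) : Module.finrank K p = Module.finrank K q := by
  have hq : q = p.map (E : A →ₗ[K] B) := by
    ext b
    constructor
    · intro hb
      exact ⟨E.symm b, (h _).mpr (by simpa using hb), by simp⟩
    · rintro ⟨a, ha, rfl⟩
      exact (h a).mp ha
  rw [hq]
  exact (E.submoduleMap p).finrank_eq

theorem finrank_eq_add_of_mem_iff [FiniteDimensional K B] [FiniteDimensional K C]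
    (E : A ≃ₗ[K] B × C) (p : Submodule K A) (q : Submodule K B) (r : Submodule K C)
    (h : ∀ a, a ∈ p ↔ (E a).1 ∈ q ∧ (E a).2 ∈ r) :
    Module.finrank K p = Module.finrank K q + Module.finrank K r := by
  rw [← Module.finrank_prod]
  refine LinearEquiv.finrank_eq ?_
  exact
    { toFun := fun a => (⟨(E a.1).1, ((h a.1).mp a.2).1⟩, ⟨(E a.1).2, ((h a.1).mp a.2).2⟩)
      map_add' := fun a b => by
        ext <;> simp
      map_smul' := fun c a => by
        ext <;> simp
      invFun := fun bc => ⟨E.symm (bc.1.1, bc.2.1), (h _).mpr (by simp)⟩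
      left_inv := fun a => by
        ext
        simp
      right_inv := fun bc => by
        ext <;> simp }

end Generic

section Inter

variable {V₁ : Type v} {V₂ : Type w} [AddCommGroup V₁] [Module K V₁] [AddCommGroup V₂] [Module K V₂]

/-- The space of intertwiners `{h | h ∘ π₁ = π₂ ∘ h}`. -/
def inter (π₁ : Module.End K V₁) (π₂ : Module.End K V₂) : Submodule K (V₁ →ₗ[K] V₂) :=
  LinearMap.ker (LinearMap.lcomp K V₂ π₁ - LinearMap.llcomp K V₁ V₂ V₂ π₂ :
    (V₁ →ₗ[K] V₂) →ₗ[K] (V₁ →ₗ[K] V₂))

theorem mem_inter {π₁ : Module.End K V₁} {π₂ : Module.End K V₂} {h : V₁ →ₗ[K] V₂} :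
    h ∈ inter π₁ π₂ ↔ h ∘ₗ π₁ = π₂ ∘ₗ h := by
  simp only [inter, LinearMap.mem_ker, LinearMap.sub_apply, sub_eq_zero]
  rfl

theorem mem_inter' {π₁ : Module.End K V₁} {π₂ : Module.End K V₂} {h : V₁ →ₗ[K] V₂} :
    h ∈ inter π₁ π₂ ↔ ∀ v, h (π₁ v) = π₂ (h v) := by
  rw [mem_inter, LinearMap.ext_iff]
  rfl

/-- Invariance of the dimension of the space of intertwiners under conjugation. -/
theorem finrank_inter_conj {V₁' : Type*} {V₂' : Type*} [AddCommGroup V₁'] [Module K V₁']
    [AddCommGroup V₂'] [Module K V₂'] (e₁ : V₁ ≃ₗ[K] V₁') (e₂ : V₂ ≃ₗ[K] V₂')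
    (π₁ : Module.End K V₁) (π₂ : Module.End K V₂) :
    Module.finrank K (inter (e₁.conj π₁) (e₂.conj π₂)) = Module.finrank K (inter π₁ π₂) := by
  symm
  refine finrank_eq_of_mem_iff (LinearEquiv.arrowCongr e₁ e₂) _ _ ?_
  intro h
  rw [mem_inter', mem_inter']
  constructor
  · intro hh v'
    simp only [LinearEquiv.arrowCongr_apply, LinearEquiv.conj_apply_apply,
      LinearEquiv.symm_apply_apply]
    rw [hh]
  · intro hh v
    have := hh (e₁ v)
    simp only [LinearEquiv.arrowCongr_apply, LinearEquiv.conj_apply_apply,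
      LinearEquiv.symm_apply_apply] at this
    exact e₂.injective this

variable [FiniteDimensional K V₁] [FiniteDimensional K V₂]

theorem finrank_inter_prodMap_left {V₁' : Type*} [AddCommGroup V₁'] [Module K V₁']
    [FiniteDimensional K V₁'] (π₁ : Module.End K V₁) (π₁' : Module.End K V₁')
    (π₂ : Module.End K V₂) :
    Module.finrank K (inter (π₁.prodMap π₁') π₂) =
      Module.finrank K (inter π₁ π₂) + Module.finrank K (inter π₁' π₂) := by
  refine finrank_eq_add_of_mem_iff (LinearMap.coprodEquiv K).symm _ _ _ ?_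
  intro h
  rw [mem_inter, mem_inter, mem_inter]
  constructor
  · intro hh
    constructor
    · ext v
      have := LinearMap.congr_fun hh (v, 0)
      simpa [LinearMap.coprodEquiv] using this
    · ext v
      have := LinearMap.congr_fun hh (0, v)
      simpa [LinearMap.coprodEquiv] using this
  · rintro ⟨h1, h2⟩
    apply LinearMap.prod_ext
    · ext v
      have := LinearMap.congr_fun h1 v
      simpa [LinearMap.coprodEquiv] using this
    · ext v
      have := LinearMap.congr_fun h2 v
      simpa [LinearMap.coprodEquiv] using this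

theorem finrank_inter_prodMap_right {V₂' : Type*} [AddCommGroup V₂'] [Module K V₂']
    [FiniteDimensional K V₂'] (π₁ : Module.End K V₁) (π₂ : Module.End K V₂)
    (π₂' : Module.End K V₂') :
    Module.finrank K (inter π₁ (π₂.prodMap π₂')) =
      Module.finrank K (inter π₁ π₂) + Module.finrank K (inter π₁ π₂') := by
  refine finrank_eq_add_of_mem_iff (LinearMap.prodEquiv K).symm _ _ _ ?_
  intro h
  rw [mem_inter', mem_inter', mem_inter']
  constructor
  · intro hh
    constructor
    · intro v
      have := congrArg Prod.fst (hh v)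
      simpa [LinearMap.prodEquiv] using this
    · intro v
      have := congrArg Prod.snd (hh v)
      simpa [LinearMap.prodEquiv] using this
  · rintro ⟨h1, h2⟩ v
    apply Prod.ext
    · have := h1 v
      simpa [LinearMap.prodEquiv] using this
    · have := h2 v
      simpa [LinearMap.prodEquiv] using this

end Inter

section Split

variable {V : Type v} [AddCommGroup V] [Module K V]

theorem conj_prodMap_restrict (π : Module.End K V) (W W' : Submodule K V)
    (hW : W ∈ π.invtSubmodule) (hW' : W' ∈ π.invtSubmodule) (hc : IsCompl W W') :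
    (Submodule.prodEquivOfIsCompl W W' hc).conj ((π.restrict hW).prodMap (π.restrict hW')) = π := by
  apply LinearMap.ext
  intro v
  obtain ⟨⟨w, w'⟩, rfl⟩ := (Submodule.prodEquivOfIsCompl W W' hc).surjective v
  simp [LinearEquiv.conj_apply] <;> rfl

variable [FiniteDimensional K V]

theorem charpoly_eq_mul_of_isCompl (π : Module.End K V) (W W' : Submodule K V)
    (hW : W ∈ π.invtSubmodule) (hW' : W' ∈ π.invtSubmodule) (hc : IsCompl W W') :
    π.charpoly = (π.restrict hW).charpoly * (π.restrict hW').charpoly := by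
  conv_lhs => rw [← conj_prodMap_restrict π W W' hW hW' hc]
  rw [LinearEquiv.charpoly_conj, LinearMap.charpoly_prodMap]

variable {V' : Type w} [AddCommGroup V'] [Module K V'] [FiniteDimensional K V']

theorem finrank_inter_split_left (π : Module.End K V) (π' : Module.End K V') (W W' : Submodule K V)
    (hW : W ∈ π.invtSubmodule) (hW' : W' ∈ π.invtSubmodule) (hc : IsCompl W W') :
    Module.finrank K (inter π π') =
      Module.finrank K (inter (π.restrict hW) π') + Module.finrank K (inter (π.restrict hW') π') := by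
  rw [← finrank_inter_prodMap_left,
    ← finrank_inter_conj (Submodule.prodEquivOfIsCompl W W' hc) (LinearEquiv.refl K V'),
    conj_prodMap_restrict π W W' hW hW' hc]
  congr 2

theorem finrank_inter_split_right (π' : Module.End K V') (π : Module.End K V) (W W' : Submodule K V)
    (hW : W ∈ π.invtSubmodule) (hW' : W' ∈ π.invtSubmodule) (hc : IsCompl W W') :
    Module.finrank K (inter π' π) =
      Module.finrank K (inter π' (π.restrict hW)) + Module.finrank K (inter π' (π.restrict hW')) := by
  rw [← finrank_inter_prodMap_right,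
    ← finrank_inter_conj (LinearEquiv.refl K V') (Submodule.prodEquivOfIsCompl W W' hc),
    conj_prodMap_restrict π W W' hW hW' hc]
  congr 2

end Split

section Model

/-- multiplication by the root on `AdjoinRoot P`, as a `K`-linear endomorphism. -/
noncomputable def mX (P : K[X]) : Module.End K (AdjoinRoot P) :=
  Algebra.lmul K (AdjoinRoot P) (AdjoinRoot.root P)

@[simp] theorem mX_apply (P : K[X]) (a : AdjoinRoot P) : mX P a = AdjoinRoot.root P * a := rfl

theorem charpoly_mX (P : K[X]) (hP : P.Monic) :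
    haveI := hP.finite_adjoinRoot
    haveI := hP.free_adjoinRoot
    (mX P).charpoly = P := by
  have := hP.finite_adjoinRoot
  have := hP.free_adjoinRoot
  rw [← LinearMap.charpoly_toMatrix (mX P) (AdjoinRoot.powerBasis hP.ne_zero).basis]
  have h1 : LinearMap.toMatrix (AdjoinRoot.powerBasis hP.ne_zero).basis
      (AdjoinRoot.powerBasis hP.ne_zero).basis (mX P) =
      Algebra.leftMulMatrix (AdjoinRoot.powerBasis hP.ne_zero).basis
        (AdjoinRoot.powerBasis hP.ne_zero).gen := by
    rw [Algebra.leftMulMatrix_apply]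
    rfl
  rw [h1, charpoly_leftMulMatrix, AdjoinRoot.minpoly_powerBasis_gen_of_monic hP]

theorem finrank_adjoinRoot (P : K[X]) (hP : P.Monic) :
    Module.finrank K (AdjoinRoot P) = P.natDegree := by
  rw [(AdjoinRoot.powerBasis hP.ne_zero).finrank]
  rfl

/-- An intertwiner is linear over polynomials. -/
theorem inter_mk_mul {P Q : K[X]} {h : AdjoinRoot P →ₗ[K] AdjoinRoot Q}
    (hh : h ∈ inter (mX P) (mX Q)) (q : K[X]) (a : AdjoinRoot P) :
    h (AdjoinRoot.mk P q * a) = AdjoinRoot.mk Q q * h a := by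
  rw [mem_inter'] at hh
  induction q using Polynomial.induction_on generalizing a with
  | C c =>
    rw [AdjoinRoot.mk_C, AdjoinRoot.mk_C, ← AdjoinRoot.algebraMap_eq, ← AdjoinRoot.algebraMap_eq,
      ← Algebra.smul_def, ← Algebra.smul_def, map_smul]
  | add p q hp hq => rw [map_add, map_add, add_mul, add_mul, map_add, hp, hq]
  | monomial n c ih =>
    rw [pow_succ, ← mul_assoc, RingHom.map_mul (AdjoinRoot.mk P), RingHom.map_mul (AdjoinRoot.mk Q),
      AdjoinRoot.mk_X, AdjoinRoot.mk_X, mul_assoc, mul_assoc, ih]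
    congr 1
    exact hh a

theorem inter_mX_eq_bot {P Q : K[X]} (hP : P.Monic) (hQ : Q.Monic) (hPi : Irreducible P)
    (hQi : Irreducible Q) (hne : P ≠ Q) : inter (mX P) (mX Q) = ⊥ := by
  have : Fact (Irreducible Q) := ⟨hQi⟩
  rw [eq_bot_iff]
  intro h hh
  rw [Submodule.mem_bot]
  ext a
  have h1 := inter_mk_mul hh P a
  have h2 : AdjoinRoot.mk P P = 0 := AdjoinRoot.mk_self
  rw [h2, zero_mul, map_zero] at h1
  have h3 : AdjoinRoot.mk Q P ≠ 0 := by
    rw [Ne, AdjoinRoot.mk_eq_zero]
    intro hdvd
    apply hne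
    have hass : Associated Q P := hQi.associated_of_dvd hPi hdvd
    exact (eq_of_monic_of_associated hQ hP hass).symm
  rw [LinearMap.zero_apply]
  exact (mul_eq_zero.mp h1.symm).resolve_left h3

theorem finrank_inter_mX_self {P : K[X]} (hP : P.Monic) :
    Module.finrank K (inter (mX P) (mX P)) = P.natDegree := by
  rw [← finrank_adjoinRoot P hP]
  refine LinearEquiv.finrank_eq ?_
  refine LinearEquiv.ofBijective
    ((LinearMap.applyₗ (1 : AdjoinRoot P)).comp (inter (mX P) (mX P)).subtype) ⟨?_, ?_⟩
  · rw [injective_iff_map_eq_zero]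
    rintro ⟨h, hh⟩ hker
    apply Subtype.ext
    have h0 : h 1 = 0 := hker
    ext a
    obtain ⟨q, rfl⟩ := AdjoinRoot.mk_surjective a
    have := inter_mk_mul hh q 1
    rw [mul_one, h0, mul_zero] at this
    exact this
  · intro b
    refine ⟨⟨LinearMap.mulRight K b, ?_⟩, ?_⟩
    · rw [mem_inter']
      intro a
      simp [mul_assoc]
    · simp

theorem finrank_inter_mX {P Q : K[X]} (hP : P.Monic) (hQ : Q.Monic) (hPi : Irreducible P)
    (hQi : Irreducible Q) : Module.finrank K (inter (mX P) (mX Q)) = rr P Q := by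
  rw [rr_irreducible P Q hPi hQi hP hQ]
  split_ifs with h
  · subst h
    exact finrank_inter_mX_self hP
  · rw [inter_mX_eq_bot hP hQ hPi hQi h]
    exact finrank_bot K _

end Model

section Simple

variable {V : Type v} [AddCommGroup V] [Module K V]

theorem aeval_comm (π : Module.End K V) (q : K[X]) (v : V) :
    aeval π q (π v) = π (aeval π q v) := by
  have h : aeval π q * π = π * aeval π q := by
    have h1 : aeval π (q * X) = aeval π q * π := by rw [map_mul, aeval_X]
    have h2 : aeval π (X * q) = π * aeval π q := by rw [map_mul, aeval_X]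
    rw [← h1, ← h2, mul_comm]
  exact LinearMap.congr_fun h v

theorem ker_aeval_mem_invtSubmodule (π : Module.End K V) (q : K[X]) :
    LinearMap.ker (aeval π q) ∈ π.invtSubmodule := by
  rw [Module.End.mem_invtSubmodule]
  intro v hv
  rw [Submodule.mem_comap, LinearMap.mem_ker, aeval_comm, LinearMap.mem_ker.mp hv, map_zero]

theorem range_aeval_apply_mem_invtSubmodule (π : Module.End K V) (v₀ : V) :
    LinearMap.range ((LinearMap.applyₗ v₀ : (V →ₗ[K] V) →ₗ[K] V).comp
      (aeval π).toLinearMap) ∈ π.invtSubmodule := by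
  rw [Module.End.mem_invtSubmodule]
  rintro _ ⟨q, rfl⟩
  rw [Submodule.mem_comap]
  refine ⟨X * q, ?_⟩
  simp

/-- `V` has no proper nonzero `π`-invariant subspace. -/
def IsSimpleEnd (π : Module.End K V) : Prop :=
  Nontrivial V ∧ ∀ W ∈ π.invtSubmodule, W = ⊥ ∨ W = ⊤

theorem IsSimpleEnd.aeval_eq_zero {π : Module.End K V} (hs : IsSimpleEnd π) (q : K[X]) (v : V)
    (hv : v ≠ 0) (h : aeval π q v = 0) : aeval π q = 0 := by
  rcases hs.2 _ (ker_aeval_mem_invtSubmodule π q) with h0 | h1
  · exfalso
    apply hv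
    have : v ∈ LinearMap.ker (aeval π q) := h
    rw [h0] at this
    exact this
  · exact LinearMap.ker_eq_top.mp h1

theorem isUnit_of_eq_mul_of_dvd {P a b : K[X]} (hP : P ≠ 0) (h : P = a * b) (hd : P ∣ a) :
    IsUnit b := by
  obtain ⟨c, rfl⟩ := hd
  have : P * 1 = P * (c * b) := by rw [mul_one, ← mul_assoc, ← h]
  have h1 := mul_left_cancel₀ hP this
  exact IsUnit.of_mul_eq_one c (by rw [mul_comm]; exact h1.symm)

variable [FiniteDimensional K V]

theorem IsSimpleEnd.irreducible_minpoly {π : Module.End K V} (hs : IsSimpleEnd π) :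
    Irreducible (minpoly K π) := by
  have := hs.1
  have hint : IsIntegral K π := Algebra.IsIntegral.isIntegral π
  have hP0 : minpoly K π ≠ 0 := minpoly.ne_zero hint
  refine ⟨minpoly.not_isUnit K π, ?_⟩
  intro a b hab
  obtain ⟨v, hv⟩ := exists_ne (0 : V)
  have h0 : aeval π a (aeval π b v) = 0 := by
    have := minpoly.aeval K π
    rw [hab, map_mul] at this
    exact LinearMap.congr_fun this v
  by_cases hbv : aeval π b v = 0
  · have hb0 := hs.aeval_eq_zero b v hv hbv
    have hd := minpoly.dvd K π hb0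
    left
    rw [mul_comm] at hab
    exact isUnit_of_eq_mul_of_dvd hP0 hab hd
  · have ha0 := hs.aeval_eq_zero a _ hbv h0
    have hd := minpoly.dvd K π ha0
    right
    exact isUnit_of_eq_mul_of_dvd hP0 hab hd

/-- the `K`-linear map `q ↦ q(π) v₀`. -/
noncomputable def evalAt (π : Module.End K V) (v₀ : V) : K[X] →ₗ[K] V :=
  (LinearMap.applyₗ v₀ : (V →ₗ[K] V) →ₗ[K] V).comp (aeval π).toLinearMap

omit [FiniteDimensional K V] in
@[simp] theorem evalAt_apply (π : Module.End K V) (v₀ : V) (q : K[X]) :
    evalAt π v₀ q = aeval π q v₀ := rfl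

/-- the induced map `K[X]/(P) → V` when `P(π) v₀ = 0`. -/
noncomputable def modelMap (π : Module.End K V) (v₀ : V) (P : K[X])
    (h : aeval π P v₀ = 0) : AdjoinRoot P →ₗ[K] V :=
  ((Submodule.liftQ ((Ideal.span {P}).restrictScalars K) (evalAt π v₀) (by
      intro q hq
      rw [Submodule.restrictScalars_mem, Ideal.mem_span_singleton] at hq
      obtain ⟨c, rfl⟩ := hq
      rw [LinearMap.mem_ker, evalAt_apply, mul_comm, map_mul, Module.End.mul_apply, h,
        map_zero])).comp
    (Submodule.Quotient.restrictScalarsEquiv K (Ideal.span {P})).symm.toLinearMap :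
      (K[X] ⧸ Ideal.span {P}) →ₗ[K] V)

omit [FiniteDimensional K V] in
theorem modelMap_mk (π : Module.End K V) (v₀ : V) (P : K[X]) (h : aeval π P v₀ = 0) (q : K[X]) :
    modelMap π v₀ P h (AdjoinRoot.mk P q) = aeval π q v₀ := by
  rfl

theorem IsSimpleEnd.exists_model {π : Module.End K V} (hs : IsSimpleEnd π) :
    ∃ P : K[X], P.Monic ∧ Irreducible P ∧ ∃ ψ : AdjoinRoot P ≃ₗ[K] V, ψ.conj (mX P) = π := by
  have := hs.1
  have hint : IsIntegral K π := Algebra.IsIntegral.isIntegral π
  obtain ⟨v₀, hv₀⟩ := exists_ne (0 : V)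
  refine ⟨minpoly K π, minpoly.monic hint, hs.irreducible_minpoly, ?_⟩
  have h0 : aeval π (minpoly K π) v₀ = 0 := by rw [minpoly.aeval]; rfl
  have hinj : Function.Injective (modelMap π v₀ (minpoly K π) h0) := by
    rw [injective_iff_map_eq_zero]
    intro a ha
    obtain ⟨q, rfl⟩ := AdjoinRoot.mk_surjective a
    rw [modelMap_mk] at ha
    have := hs.aeval_eq_zero q v₀ hv₀ ha
    rw [AdjoinRoot.mk_eq_zero]
    exact minpoly.dvd K π this
  have hsurj : Function.Surjective (modelMap π v₀ (minpoly K π) h0) := by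
    rw [← LinearMap.range_eq_top]
    have hmem : LinearMap.range (modelMap π v₀ (minpoly K π) h0) ∈ π.invtSubmodule := by
      rw [Module.End.mem_invtSubmodule]
      rintro _ ⟨a, rfl⟩
      obtain ⟨q, rfl⟩ := AdjoinRoot.mk_surjective a
      refine ⟨AdjoinRoot.mk _ (X * q), ?_⟩
      rw [modelMap_mk, modelMap_mk, map_mul, aeval_X]
      rfl
    rcases hs.2 _ hmem with h | h
    · exfalso
      apply hv₀
      have : v₀ ∈ LinearMap.range (modelMap π v₀ (minpoly K π) h0) :=
        ⟨AdjoinRoot.mk _ 1, by rw [modelMap_mk, map_one]; rfl⟩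
      rw [h] at this
      exact this
    · exact h
  refine ⟨LinearEquiv.ofBijective (modelMap π v₀ (minpoly K π) h0) ⟨hinj, hsurj⟩, ?_⟩
  ext v
  obtain ⟨a, rfl⟩ := hsurj v
  obtain ⟨q, rfl⟩ := AdjoinRoot.mk_surjective a
  rw [LinearEquiv.conj_apply_apply]
  have h1 : (LinearEquiv.ofBijective (modelMap π v₀ (minpoly K π) h0) ⟨hinj, hsurj⟩).symm
      (modelMap π v₀ (minpoly K π) h0 (AdjoinRoot.mk _ q)) = AdjoinRoot.mk _ q := by
    apply (LinearEquiv.ofBijective (modelMap π v₀ (minpoly K π) h0) ⟨hinj, hsurj⟩).injective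
    rw [LinearEquiv.apply_symm_apply]
    rfl
  rw [h1, mX_apply, ← AdjoinRoot.mk_X, ← map_mul, LinearEquiv.ofBijective_apply, modelMap_mk,
    modelMap_mk, map_mul, aeval_X]
  rfl

end Simple

section Main

theorem finrank_inter_of_simple {V₁ : Type v} {V₂ : Type w} [AddCommGroup V₁] [Module K V₁]
    [FiniteDimensional K V₁] [AddCommGroup V₂] [Module K V₂] [FiniteDimensional K V₂]
    (π₁ : Module.End K V₁) (π₂ : Module.End K V₂) (h₁ : IsSimpleEnd π₁) (h₂ : IsSimpleEnd π₂) :
    Module.finrank K (inter π₁ π₂) = rr π₁.charpoly π₂.charpoly := by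
  obtain ⟨P, hP, hPi, ψ₁, rfl⟩ := h₁.exists_model
  obtain ⟨Q, hQ, hQi, ψ₂, rfl⟩ := h₂.exists_model
  have := hP.finite_adjoinRoot
  have := hQ.finite_adjoinRoot
  rw [finrank_inter_conj, LinearEquiv.charpoly_conj, LinearEquiv.charpoly_conj, charpoly_mX P hP,
    charpoly_mX Q hQ]
  exact finrank_inter_mX hP hQ hPi hQi

theorem charpoly_eq_one_of_subsingleton {V : Type v} [AddCommGroup V] [Module K V]
    [FiniteDimensional K V] [Subsingleton V] (π : Module.End K V) : π.charpoly = 1 := by
  have h := LinearMap.charpoly_natDegree π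
  rw [Module.finrank_zero_of_subsingleton] at h
  exact (LinearMap.charpoly_monic π).natDegree_eq_zero.mp h

theorem main_aux (n : ℕ) : ∀ (V₁ : Type v) (V₂ : Type w) [AddCommGroup V₁] [Module K V₁]
    [FiniteDimensional K V₁] [AddCommGroup V₂] [Module K V₂] [FiniteDimensional K V₂]
    (π₁ : Module.End K V₁) (π₂ : Module.End K V₂), π₁.IsSemisimple → π₂.IsSemisimple →
    Module.finrank K V₁ + Module.finrank K V₂ = n →
    Module.finrank K (inter π₁ π₂) = rr π₁.charpoly π₂.charpoly := by
  induction n using Nat.strong_induction_on with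
  | _ n ih =>
    intro V₁ V₂ _ _ _ _ _ _ π₁ π₂ h₁ h₂ hn
    by_cases hV₁ : Subsingleton V₁
    · have : Subsingleton (V₁ →ₗ[K] V₂) :=
        ⟨fun f g => LinearMap.ext fun v => by rw [Subsingleton.elim v 0, map_zero, map_zero]⟩
      rw [charpoly_eq_one_of_subsingleton π₁, rr_one_left]
      exact Module.finrank_zero_of_subsingleton
    by_cases hV₂ : Subsingleton V₂
    · have : Subsingleton (V₁ →ₗ[K] V₂) :=
        ⟨fun f g => LinearMap.ext fun v => Subsingleton.elim _ _⟩
      rw [charpoly_eq_one_of_subsingleton π₂, rr_one_right]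
      exact Module.finrank_zero_of_subsingleton
    rw [not_subsingleton_iff_nontrivial] at hV₁ hV₂
    by_cases hs₁ : ∀ W ∈ π₁.invtSubmodule, W = ⊥ ∨ W = ⊤
    · by_cases hs₂ : ∀ W ∈ π₂.invtSubmodule, W = ⊥ ∨ W = ⊤
      · exact finrank_inter_of_simple π₁ π₂ ⟨hV₁, hs₁⟩ ⟨hV₂, hs₂⟩
      · push Not at hs₂
        obtain ⟨W, hW, hWb, hWt⟩ := hs₂
        obtain ⟨W', hW', hc⟩ := Module.End.isSemisimple_iff.mp h₂ W hW
        have hW't : W' ≠ ⊤ := by
          rintro rfl
          apply hWb
          have := hc.inf_eq_bot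
          rwa [inf_top_eq] at this
        rw [finrank_inter_split_right π₁ π₂ W W' hW hW' hc,
          charpoly_eq_mul_of_isCompl π₂ W W' hW hW' hc,
          rr_mul_right _ _ _ (LinearMap.charpoly_monic _).ne_zero
            (LinearMap.charpoly_monic _).ne_zero,
          ih _ (by rw [← hn]; exact Nat.add_lt_add_left (Submodule.finrank_lt hWt) _) V₁ W π₁
            (π₂.restrict hW) h₁ (h₂.restrict hW) rfl,
          ih _ (by rw [← hn]; exact Nat.add_lt_add_left (Submodule.finrank_lt hW't) _) V₁ W' π₁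
            (π₂.restrict hW') h₁ (h₂.restrict hW') rfl]
    · push Not at hs₁
      obtain ⟨W, hW, hWb, hWt⟩ := hs₁
      obtain ⟨W', hW', hc⟩ := Module.End.isSemisimple_iff.mp h₁ W hW
      have hW't : W' ≠ ⊤ := by
        rintro rfl
        apply hWb
        have := hc.inf_eq_bot
        rwa [inf_top_eq] at this
      rw [finrank_inter_split_left π₁ π₂ W W' hW hW' hc,
        charpoly_eq_mul_of_isCompl π₁ W W' hW hW' hc,
        rr_mul_left _ _ _ (LinearMap.charpoly_monic _).ne_zero
          (LinearMap.charpoly_monic _).ne_zero,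
        ih _ (by rw [← hn]; exact Nat.add_lt_add_right (Submodule.finrank_lt hWt) _) W V₂
          (π₁.restrict hW) π₂ (h₁.restrict hW) h₂ rfl,
        ih _ (by rw [← hn]; exact Nat.add_lt_add_right (Submodule.finrank_lt hW't) _) W' V₂
          (π₁.restrict hW') π₂ (h₁.restrict hW') h₂ rfl]

theorem main {V₁ : Type v} {V₂ : Type w} [AddCommGroup V₁] [Module K V₁]
    [FiniteDimensional K V₁] [AddCommGroup V₂] [Module K V₂] [FiniteDimensional K V₂]
    (π₁ : Module.End K V₁) (π₂ : Module.End K V₂) (h₁ : π₁.IsSemisimple) (h₂ : π₂.IsSemisimple) :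
    Module.finrank K (inter π₁ π₂) = rr π₁.charpoly π₂.charpoly :=
  main_aux _ V₁ V₂ π₁ π₂ h₁ h₂ rfl

end Main

end Groth.Agent.R2.H80.Intertwiner
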