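import Mathlib
import Groth.Prelude
import Groth.Agent.Lib.Helper13Pure

/-!
# Pure (universally exact) resolutions: linear algebra   (helper80)

Linear-algebra lemmas behind the comparison theorems for pure projective / pure injective
resolutions.

* `exact_of_rTensor_self`, `surjective_of_rTensor_self` : descend exactness / surjectivity from `- ⊗ R`.
* `univInj_ker_subtype` : in a universally exact complex the cycles are a pure submodule.
* `univInj_quot` : in a universally exact complex the map `X₀ ⧸ ker b → X₁` is universally injective.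
* `exists_lift` / `exists_ext` : the lifting / extension steps.
* `exact_rTensor_of_factor` / `exact_rTensor_of_factor'` : universal exactness of a splice.
-/

set_option autoImplicit false
universe u
open TensorProduct

namespace Groth.Agent.R2.H80.PureRes

variable {R : Type u} [CommRing R]

section self
variable {M₁ M₂ M₃ : Type u} [AddCommGroup M₁] [Module R M₁] [AddCommGroup M₂] [Module R M₂]
  [AddCommGroup M₃] [Module R M₃]

theorem rid_rTensor (f : M₁ →ₗ[R] M₂) (x : M₁ ⊗[R] R) :
    TensorProduct.rid R M₂ (f.rTensor R x) = f (TensorProduct.rid R M₁ x) := by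
  induction x using TensorProduct.induction_on with
  | zero => simp
  | tmul u v => simp
  | add w₁ w₂ h₁ h₂ => simp only [map_add, h₁, h₂]

theorem rTensor_rid_symm (f : M₁ →ₗ[R] M₂) (x : M₁) :
    f.rTensor R ((TensorProduct.rid R M₁).symm x) = (TensorProduct.rid R M₂).symm (f x) := by
  apply (TensorProduct.rid R M₂).injective
  rw [rid_rTensor, LinearEquiv.apply_symm_apply, LinearEquiv.apply_symm_apply]

theorem exact_of_rTensor_self (a : M₁ →ₗ[R] M₂) (b : M₂ →ₗ[R] M₃)
    (h : Function.Exact (a.rTensor R) (b.rTensor R)) : Function.Exact a b := by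
  intro y
  constructor
  · intro hy
    have h1 : b.rTensor R ((TensorProduct.rid R M₂).symm y) = 0 := by
      rw [rTensor_rid_symm, hy, map_zero]
    obtain ⟨x, hx⟩ := (h _).1 h1
    refine ⟨TensorProduct.rid R M₁ x, ?_⟩
    rw [← rid_rTensor, hx, LinearEquiv.apply_symm_apply]
  · rintro ⟨x, rfl⟩
    have h1 : b.rTensor R (a.rTensor R ((TensorProduct.rid R M₁).symm x)) = 0 :=
      (h _).2 ⟨_, rfl⟩
    rw [rTensor_rid_symm, rTensor_rid_symm] at h1
    exact (LinearEquiv.map_eq_zero_iff _).1 h1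

theorem surjective_of_rTensor_self (a : M₁ →ₗ[R] M₂)
    (h : Function.Surjective (a.rTensor R)) : Function.Surjective a := by
  intro y
  obtain ⟨x, hx⟩ := h ((TensorProduct.rid R M₂).symm y)
  refine ⟨TensorProduct.rid R M₁ x, ?_⟩
  rw [← rid_rTensor, hx, LinearEquiv.apply_symm_apply]

end self

section cycles
variable {X₂ X₁ X₀ Y : Type u} [AddCommGroup X₂] [Module R X₂] [AddCommGroup X₁] [Module R X₁]
  [AddCommGroup X₀] [Module R X₀] [AddCommGroup Y] [Module R Y]

/-- In a universally exact complex `X₂ → X₁ → X₀ → Y`, the cycles `ker c` form a pure submodule of `X₀`. -/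
theorem univInj_ker_subtype (a : X₂ →ₗ[R] X₁) (b : X₁ →ₗ[R] X₀) (c : X₀ →ₗ[R] Y)
    (hba : b ∘ₗ a = 0)
    (hT : ∀ (T : Type u) [AddCommGroup T] [Module R T],
      Function.Exact (a.rTensor T) (b.rTensor T))
    (hbc : Function.Exact b c) :
    CAlgX.UniversallyInjective R (LinearMap.ker c).subtype := by
  intro T _ _
  have hmem : ∀ x, b x ∈ LinearMap.ker c := fun x => (hbc (b x)).2 ⟨x, rfl⟩
  let b' : X₁ →ₗ[R] LinearMap.ker c := b.codRestrict _ hmem
  have hb' : Function.Surjective b' := by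
    rintro ⟨z, hz⟩
    obtain ⟨x, rfl⟩ := (hbc z).1 hz
    exact ⟨x, rfl⟩
  have hb'a : b' ∘ₗ a = 0 := by
    apply LinearMap.ext
    intro x
    apply Subtype.ext
    exact LinearMap.congr_fun hba x
  have hsb : (LinearMap.ker c).subtype ∘ₗ b' = b := LinearMap.subtype_comp_codRestrict _ _ _
  rw [injective_iff_map_eq_zero]
  intro z hz
  obtain ⟨w, rfl⟩ := LinearMap.rTensor_surjective T hb' z
  have h1 : b.rTensor T w = 0 := by
    rw [← hsb, LinearMap.rTensor_comp, LinearMap.comp_apply, hz]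
  obtain ⟨v, rfl⟩ := (hT T w).1 h1
  rw [← LinearMap.comp_apply, ← LinearMap.rTensor_comp, hb'a, LinearMap.rTensor_zero,
    LinearMap.zero_apply]

/-- In a universally exact complex `X₂ → X₁ → X₀`, the map `X₁ ⧸ ker b → X₀` is universally injective. -/
theorem univInj_quot (a : X₂ →ₗ[R] X₁) (b : X₁ →ₗ[R] X₀)
    (hba : b ∘ₗ a = 0)
    (hT : ∀ (T : Type u) [AddCommGroup T] [Module R T],
      Function.Exact (a.rTensor T) (b.rTensor T)) :
    CAlgX.UniversallyInjective R ((LinearMap.ker b).liftQ b le_rfl) := by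
  intro T _ _
  have hq : (LinearMap.ker b).liftQ b le_rfl ∘ₗ (LinearMap.ker b).mkQ = b :=
    Submodule.liftQ_mkQ _ _ _
  have hqa : (LinearMap.ker b).mkQ ∘ₗ a = 0 := by
    apply LinearMap.ext
    intro x
    rw [LinearMap.comp_apply, Submodule.mkQ_apply, LinearMap.zero_apply,
      Submodule.Quotient.mk_eq_zero, LinearMap.mem_ker]
    exact LinearMap.congr_fun hba x
  rw [injective_iff_map_eq_zero]
  intro z hz
  obtain ⟨w, rfl⟩ := LinearMap.rTensor_surjective T (Submodule.mkQ_surjective _) z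
  have h1 : b.rTensor T w = 0 := by
    rw [← hq, LinearMap.rTensor_comp, LinearMap.comp_apply, hz]
  obtain ⟨v, rfl⟩ := (hT T w).1 h1
  rw [← LinearMap.comp_apply, ← LinearMap.rTensor_comp, hqa, LinearMap.rTensor_zero,
    LinearMap.zero_apply]

end cycles

section lift
variable {X₁ X₀ Y Pn : Type u} [AddCommGroup X₁] [Module R X₁]
  [AddCommGroup X₀] [Module R X₀] [AddCommGroup Y] [Module R Y] [AddCommGroup Pn] [Module R Pn]

/-- The lifting step for pure projective modules. -/
theorem exists_lift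
    (hP : ∀ ⦃L T : Type u⦄ [AddCommGroup L] [Module R L] [AddCommGroup T] [Module R T] (g : L →ₗ[R] T),
          Function.Surjective g → CAlgX.UniversallyInjective R (LinearMap.ker g).subtype →
          ∀ φ : Pn →ₗ[R] T, ∃ ψ : Pn →ₗ[R] L, g ∘ₗ ψ = φ)
    (b : X₁ →ₗ[R] X₀) (c : X₀ →ₗ[R] Y) (hbc : Function.Exact b c)
    (hpure : CAlgX.UniversallyInjective R (LinearMap.ker b).subtype)
    (φ : Pn →ₗ[R] X₀) (hφ : c ∘ₗ φ = 0) : ∃ ψ : Pn →ₗ[R] X₁, b ∘ₗ ψ = φ := by
  have hmem : ∀ x, b x ∈ LinearMap.ker c := fun x => (hbc (b x)).2 ⟨x, rfl⟩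
  let b' : X₁ →ₗ[R] LinearMap.ker c := b.codRestrict _ hmem
  have hb' : Function.Surjective b' := by
    rintro ⟨z, hz⟩
    obtain ⟨x, rfl⟩ := (hbc z).1 hz
    exact ⟨x, rfl⟩
  have hker : LinearMap.ker b' = LinearMap.ker b := LinearMap.ker_codRestrict _ _ _
  have hpure' : CAlgX.UniversallyInjective R (LinearMap.ker b').subtype := by
    rw [hker]
    exact hpure
  let φ' : Pn →ₗ[R] LinearMap.ker c := φ.codRestrict _ (fun x => LinearMap.congr_fun hφ x)
  obtain ⟨ψ, hψ⟩ := hP b' hb' hpure' φ'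
  refine ⟨ψ, ?_⟩
  apply LinearMap.ext
  intro x
  have := congrArg Subtype.val (LinearMap.congr_fun hψ x)
  exact this

/-- The surjective version of the lifting step. -/
theorem exists_lift_surj
    (hP : ∀ ⦃L T : Type u⦄ [AddCommGroup L] [Module R L] [AddCommGroup T] [Module R T] (g : L →ₗ[R] T),
          Function.Surjective g → CAlgX.UniversallyInjective R (LinearMap.ker g).subtype →
          ∀ φ : Pn →ₗ[R] T, ∃ ψ : Pn →ₗ[R] L, g ∘ₗ ψ = φ)
    (b : X₁ →ₗ[R] X₀) (hb : Function.Surjective b)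
    (hpure : CAlgX.UniversallyInjective R (LinearMap.ker b).subtype)
    (φ : Pn →ₗ[R] X₀) : ∃ ψ : Pn →ₗ[R] X₁, b ∘ₗ ψ = φ :=
  hP b hb hpure φ

variable {I : Type u} [AddCommGroup I] [Module R I]

/-- The extension step for pure injective modules. -/
theorem exists_ext
    (hI : ∀ ⦃K L : Type u⦄ [AddCommGroup K] [Module R K] [AddCommGroup L] [Module R L] (g : K →ₗ[R] L),
          CAlgX.UniversallyInjective R g → ∀ φ : K →ₗ[R] I, ∃ ψ : L →ₗ[R] I, ψ ∘ₗ g = φ)
    (a : Y →ₗ[R] X₁) (b : X₁ →ₗ[R] X₀) (hab : Function.Exact a b)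
    (hpure : CAlgX.UniversallyInjective R ((LinearMap.ker b).liftQ b le_rfl))
    (φ : X₁ →ₗ[R] I) (hφ : φ ∘ₗ a = 0) : ∃ ψ : X₀ →ₗ[R] I, ψ ∘ₗ b = φ := by
  have hle : LinearMap.ker b ≤ LinearMap.ker φ := by
    intro x hx
    obtain ⟨y, rfl⟩ := (hab x).1 hx
    exact LinearMap.congr_fun hφ y
  obtain ⟨ψ, hψ⟩ := hI ((LinearMap.ker b).liftQ b le_rfl) hpure ((LinearMap.ker b).liftQ φ hle)
  refine ⟨ψ, ?_⟩
  apply LinearMap.ext
  intro x
  have := LinearMap.congr_fun hψ ((LinearMap.ker b).mkQ x)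
  simpa using this

end lift

section splice
variable {X₂ X₁ X₀ K : Type u} [AddCommGroup X₂] [Module R X₂] [AddCommGroup X₁] [Module R X₁]
  [AddCommGroup X₀] [Module R X₀] [AddCommGroup K] [Module R K]

/-- Universal exactness of a splice (projective side): `f = j ∘ p` with `p` surjective and `j`
universally injective, `d` surjecting onto `ker p`. -/
theorem exact_rTensor_of_factor (d : X₂ →ₗ[R] X₁) (p : X₁ →ₗ[R] K) (j : K →ₗ[R] X₀)
    (hp : Function.Surjective p) (hj : CAlgX.UniversallyInjective R j)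
    (hdp : Function.Exact d p)
    (T : Type u) [AddCommGroup T] [Module R T] :
    Function.Exact (d.rTensor T) ((j ∘ₗ p).rTensor T) := by
  have h1 : Function.Exact (d.rTensor T) (p.rTensor T) := rTensor_exact T hdp hp
  intro y
  rw [LinearMap.rTensor_comp, LinearMap.comp_apply]
  constructor
  · intro hy
    apply (h1 y).1
    apply hj T
    rw [hy, map_zero]
  · intro hy
    rw [(h1 y).2 hy, map_zero]

end splice

end Groth.Agent.R2.H80.PureRes
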