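import Mathlib
import Groth.Prelude
import Groth.Agent.R2.H80PureRes

/-!
# Pure (universally exact) resolutions: homological part   (helper80)

* `quasiIso_tensor_iff` : for an augmented chain complex `π : P ⟶ M[0]` of `R`-modules, `π ⊗ T` is a
  quasi-isomorphism iff the tensored augmented complex is exact (in linear-algebra terms).
* `quasiIso_tensor_iff'` : the same for coaugmented cochain complexes.
-/

set_option autoImplicit false
universe u
open CategoryTheory MonoidalCategory Limits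

namespace Groth.Agent.R2.H80.PureResCx

variable {R : Type u} [CommRing R]

theorem hom_whiskerRight {A B : ModuleCat.{u} R} (f : A ⟶ B) (T : ModuleCat.{u} R) :
    (f ▷ T).hom = LinearMap.rTensor T f.hom := rfl

section chain
variable {M : ModuleCat.{u} R} (P : ChainComplex (ModuleCat.{u} R) ℕ)
  (π : P ⟶ (ChainComplex.single₀ (ModuleCat.{u} R)).obj M) (T : ModuleCat.{u} R)

theorem exactAt_succ_tensor_single (n : ℕ) :
    (((tensorRight T).mapHomologicalComplex (ComplexShape.down ℕ)).obj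
      ((ChainComplex.single₀ (ModuleCat.{u} R)).obj M)).ExactAt (n + 1) := by
  apply HomologicalComplex.ExactAt.of_isZero
  exact Functor.map_isZero (tensorRight T)
    (HomologicalComplex.isZero_single_obj_X (ComplexShape.down ℕ) 0 M (n + 1) (by simp))

theorem quasiIsoAt_succ_iff (n : ℕ) :
    QuasiIsoAt (((tensorRight T).mapHomologicalComplex (ComplexShape.down ℕ)).map π) (n + 1) ↔
      Function.Exact ((P.d (n + 2) (n + 1)).hom.rTensor T) ((P.d (n + 1) n).hom.rTensor T) := by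
  rw [quasiIsoAt_iff_exactAt' _ _ (exactAt_succ_tensor_single T n),
    HomologicalComplex.exactAt_iff' _ (n + 2) (n + 1) n (by simp) (by simp),
    ShortComplex.moduleCat_exact_iff_range_eq_ker, LinearMap.exact_iff]
  constructor
  · intro h; exact h.symm
  · intro h; exact h.symm

theorem quasiIsoAt_zero_iff :
    QuasiIsoAt (((tensorRight T).mapHomologicalComplex (ComplexShape.down ℕ)).map π) 0 ↔
      Function.Exact ((P.d 1 0).hom.rTensor T) ((π.f 0).hom.rTensor T) ∧
      Function.Surjective ((π.f 0).hom.rTensor T) := by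
  have e1 : (((tensorRight T).mapHomologicalComplex (ComplexShape.down ℕ)).obj P).d 0 0 = 0 :=
    HomologicalComplex.shape _ _ _ (by simp)
  have e2 : (((tensorRight T).mapHomologicalComplex (ComplexShape.down ℕ)).obj
      ((ChainComplex.single₀ (ModuleCat.{u} R)).obj M)).d 1 0 = 0 := by
    change (tensorRight T).map (((ChainComplex.single₀ (ModuleCat.{u} R)).obj M).d 1 0) = 0
    rw [HomologicalComplex.single_obj_d]
    exact Functor.map_zero _ _ _
  have e3 : (((tensorRight T).mapHomologicalComplex (ComplexShape.down ℕ)).obj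
      ((ChainComplex.single₀ (ModuleCat.{u} R)).obj M)).d 0 0 = 0 :=
    HomologicalComplex.shape _ _ _ (by simp)
  rw [ChainComplex.quasiIsoAt₀_iff, ShortComplex.quasiIso_iff_of_zeros' _ e1 e2 e3,
    ShortComplex.moduleCat_exact_iff_range_eq_ker, LinearMap.exact_iff, ModuleCat.epi_iff_surjective]
  constructor
  · rintro ⟨h1, h2⟩; exact ⟨h1.symm, h2⟩
  · rintro ⟨h1, h2⟩; exact ⟨h1.symm, h2⟩

theorem quasiIso_tensor_iff :
    QuasiIso (((tensorRight T).mapHomologicalComplex (ComplexShape.down ℕ)).map π) ↔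
      (∀ n : ℕ, Function.Exact ((P.d (n + 2) (n + 1)).hom.rTensor T) ((P.d (n + 1) n).hom.rTensor T)) ∧
      Function.Exact ((P.d 1 0).hom.rTensor T) ((π.f 0).hom.rTensor T) ∧
      Function.Surjective ((π.f 0).hom.rTensor T) := by
  rw [quasiIso_iff]
  constructor
  · intro h
    exact ⟨fun n => (quasiIsoAt_succ_iff P π T n).1 (h (n + 1)), (quasiIsoAt_zero_iff P π T).1 (h 0)⟩
  · rintro ⟨h1, h2⟩ i
    cases i with
    | zero => exact (quasiIsoAt_zero_iff P π T).2 h2
    | succ n => exact (quasiIsoAt_succ_iff P π T n).2 (h1 n)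

end chain

section comparison
variable {M N : ModuleCat.{u} R} (f : M ⟶ N) (P N' : ChainComplex (ModuleCat.{u} R) ℕ)
    (π : P ⟶ (ChainComplex.single₀ (ModuleCat.{u} R)).obj M)
    (ε : N' ⟶ (ChainComplex.single₀ (ModuleCat.{u} R)).obj N)
    (hP : ∀ n : ℕ, (∀ ⦃L T : Type u⦄ [AddCommGroup L] [Module R L] [AddCommGroup T] [Module R T] (g : L →ₗ[R] T),
          Function.Surjective g → CAlgX.UniversallyInjective R (LinearMap.ker g).subtype →
          ∀ φ : P.X n →ₗ[R] T, ∃ ψ : P.X n →ₗ[R] L, g ∘ₗ ψ = φ))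
    (hN' : ∀ T : ModuleCat.{u} R,
      QuasiIso (((tensorRight T).mapHomologicalComplex (ComplexShape.down ℕ)).map ε))

include hN' in
theorem exT (n : ℕ) (T : Type u) [AddCommGroup T] [Module R T] :
    Function.Exact ((N'.d (n + 2) (n + 1)).hom.rTensor T) ((N'.d (n + 1) n).hom.rTensor T) :=
  ((quasiIso_tensor_iff N' ε (ModuleCat.of R T)).1 (hN' _)).1 n

include hN' in
theorem exT0 (T : Type u) [AddCommGroup T] [Module R T] :
    Function.Exact ((N'.d 1 0).hom.rTensor T) ((ε.f 0).hom.rTensor T) :=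
  ((quasiIso_tensor_iff N' ε (ModuleCat.of R T)).1 (hN' _)).2.1

include hN' in
theorem surjT0 (T : Type u) [AddCommGroup T] [Module R T] :
    Function.Surjective ((ε.f 0).hom.rTensor T) :=
  ((quasiIso_tensor_iff N' ε (ModuleCat.of R T)).1 (hN' _)).2.2

include hN' in
theorem ex (n : ℕ) : Function.Exact (N'.d (n + 2) (n + 1)).hom (N'.d (n + 1) n).hom :=
  PureRes.exact_of_rTensor_self _ _ (exT N' ε hN' n R)

include hN' in
theorem ex0 : Function.Exact (N'.d 1 0).hom (ε.f 0).hom :=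
  PureRes.exact_of_rTensor_self _ _ (exT0 N' ε hN' R)

include hN' in
theorem surj0 : Function.Surjective (ε.f 0).hom :=
  PureRes.surjective_of_rTensor_self _ (surjT0 N' ε hN' R)

include hN' in
theorem pure0 : CAlgX.UniversallyInjective R (LinearMap.ker (ε.f 0).hom).subtype :=
  PureRes.univInj_ker_subtype (N'.d 2 1).hom (N'.d 1 0).hom (ε.f 0).hom
    (by rw [← ModuleCat.hom_comp, N'.d_comp_d]; rfl)
    (fun T _ _ => exT N' ε hN' 0 T) (ex0 N' ε hN')

include hN' in
theorem pureSucc (n : ℕ) : CAlgX.UniversallyInjective R (LinearMap.ker (N'.d (n + 1) n).hom).subtype :=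
  PureRes.univInj_ker_subtype (N'.d (n + 3) (n + 2)).hom (N'.d (n + 2) (n + 1)).hom (N'.d (n + 1) n).hom
    (by rw [← ModuleCat.hom_comp, N'.d_comp_d]; rfl)
    (fun T _ _ => exT N' ε hN' (n + 1) T) (ex N' ε hN' n)

include hP hN' in
theorem liftAug (n : ℕ) (g : P.X n ⟶ ((ChainComplex.single₀ (ModuleCat.{u} R)).obj N).X 0) :
    ∃ h : P.X n ⟶ N'.X 0, h ≫ ε.f 0 = g := by
  obtain ⟨ψ, hψ⟩ := hP n (ε.f 0).hom (surj0 N' ε hN') (pure0 N' ε hN') g.hom
  refine ⟨ModuleCat.ofHom ψ, ?_⟩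
  apply ModuleCat.hom_ext
  exact hψ

include hP hN' in
theorem lift₀ (n : ℕ) (g : P.X n ⟶ N'.X 0) (hg : g ≫ ε.f 0 = 0) :
    ∃ h : P.X n ⟶ N'.X 1, h ≫ N'.d 1 0 = g := by
  obtain ⟨ψ, hψ⟩ := PureRes.exists_lift (hP n) (N'.d 1 0).hom (ε.f 0).hom (ex0 N' ε hN')
    (pureSucc N' ε hN' 0) g.hom (by rw [← ModuleCat.hom_comp, hg]; rfl)
  refine ⟨ModuleCat.ofHom ψ, ?_⟩
  apply ModuleCat.hom_ext
  exact hψ

include hP hN' in
theorem liftSucc (n k : ℕ) (g : P.X n ⟶ N'.X (k + 1)) (hg : g ≫ N'.d (k + 1) k = 0) :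
    ∃ h : P.X n ⟶ N'.X (k + 2), h ≫ N'.d (k + 2) (k + 1) = g := by
  obtain ⟨ψ, hψ⟩ := PureRes.exists_lift (hP n) (N'.d (k + 2) (k + 1)).hom (N'.d (k + 1) k).hom
    (ex N' ε hN' k) (pureSucc N' ε hN' (k + 1)) g.hom (by rw [← ModuleCat.hom_comp, hg]; rfl)
  refine ⟨ModuleCat.ofHom ψ, ?_⟩
  apply ModuleCat.hom_ext
  exact hψ

include hP hN' in
/-- Comparison theorem for pure projective resolutions: existence. -/
theorem exists_chainMap : ∃ φ : P ⟶ N', φ ≫ ε = π ≫ (ChainComplex.single₀ (ModuleCat.{u} R)).map f := by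
  classical
  have h0 := liftAug P N' ε hP hN' 0 (π.f 0 ≫ ((ChainComplex.single₀ (ModuleCat.{u} R)).map f).f 0)
  let zero : P.X 0 ⟶ N'.X 0 := h0.choose
  have hzero : zero ≫ ε.f 0 = π.f 0 ≫ ((ChainComplex.single₀ (ModuleCat.{u} R)).map f).f 0 := h0.choose_spec
  have hπ : P.d 1 0 ≫ π.f 0 = 0 := by
    rw [← π.comm 1 0, HomologicalComplex.single_obj_d, comp_zero]
  have h1 := lift₀ P N' ε hP hN' 1 (P.d 1 0 ≫ zero) (by
    rw [Category.assoc, hzero, ← Category.assoc, hπ, zero_comp])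
  let one : P.X 1 ⟶ N'.X 1 := h1.choose
  have hone : one ≫ N'.d 1 0 = P.d 1 0 ≫ zero := h1.choose_spec
  have hs : ∀ (n : ℕ) (p : Σ' (f : P.X n ⟶ N'.X n) (f' : P.X (n + 1) ⟶ N'.X (n + 1)),
          f' ≫ N'.d (n + 1) n = P.d (n + 1) n ≫ f),
        ∃ f'' : P.X (n + 2) ⟶ N'.X (n + 2), f'' ≫ N'.d (n + 2) (n + 1) = P.d (n + 2) (n + 1) ≫ p.2.1 := by
    intro n p
    exact liftSucc P N' ε hP hN' (n + 2) n (P.d (n + 2) (n + 1) ≫ p.2.1) (by
      rw [Category.assoc, p.2.2, ← Category.assoc, P.d_comp_d, zero_comp])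
  refine ⟨ChainComplex.mkHom P N' zero one hone (fun n p => ⟨(hs n p).choose, (hs n p).choose_spec⟩), ?_⟩
  apply HomologicalComplex.to_single_hom_ext
  rw [HomologicalComplex.comp_f, HomologicalComplex.comp_f, ChainComplex.mkHom_f_0]
  exact hzero

include hP hN' in
/-- Comparison theorem for pure projective resolutions: a map killed by the augmentation is null-homotopic. -/
theorem nonempty_homotopy_zero (e : P ⟶ N') (he : e ≫ ε = 0) : Nonempty (Homotopy e 0) := by
  classical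
  have he0 : e.f 0 ≫ ε.f 0 = 0 := by
    rw [← HomologicalComplex.comp_f, he]; rfl
  have h0 := lift₀ P N' ε hP hN' 0 (e.f 0) he0
  let zero : P.X 0 ⟶ N'.X 1 := h0.choose
  have hzero : zero ≫ N'.d 1 0 = e.f 0 := h0.choose_spec
  have h1 := liftSucc P N' ε hP hN' 1 0 (e.f 1 - P.d 1 0 ≫ zero) (by
    rw [Preadditive.sub_comp, Category.assoc, hzero, e.comm 1 0, sub_self])
  let one : P.X 1 ⟶ N'.X 2 := h1.choose
  have hone : one ≫ N'.d 2 1 = e.f 1 - P.d 1 0 ≫ zero := h1.choose_spec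
  have hs : ∀ (n : ℕ) (p : Σ' (f : P.X n ⟶ N'.X (n + 1)) (f' : P.X (n + 1) ⟶ N'.X (n + 2)),
          e.f (n + 1) = P.d (n + 1) n ≫ f + f' ≫ N'.d (n + 2) (n + 1)),
        ∃ f'' : P.X (n + 2) ⟶ N'.X (n + 3),
          f'' ≫ N'.d (n + 3) (n + 2) = e.f (n + 2) - P.d (n + 2) (n + 1) ≫ p.2.1 := by
    intro n p
    exact liftSucc P N' ε hP hN' (n + 2) (n + 1) (e.f (n + 2) - P.d (n + 2) (n + 1) ≫ p.2.1) (by
      have h2 : p.2.1 ≫ N'.d (n + 2) (n + 1) = e.f (n + 1) - P.d (n + 1) n ≫ p.1 :=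
        eq_sub_of_add_eq' p.2.2.symm
      rw [Preadditive.sub_comp, Category.assoc, h2, Preadditive.comp_sub, ← Category.assoc,
        P.d_comp_d, zero_comp, sub_zero, e.comm (n + 2) (n + 1), sub_self])
  exact ⟨Homotopy.mkInductive e zero hzero.symm one (by rw [hone]; abel)
    (fun n p => ⟨(hs n p).choose, by rw [(hs n p).choose_spec]; abel⟩)⟩

include hP hN' in
/-- Comparison theorem for pure projective resolutions: uniqueness up to homotopy. -/
theorem nonempty_homotopy (α β : P ⟶ N')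
    (hα : α ≫ ε = π ≫ (ChainComplex.single₀ (ModuleCat.{u} R)).map f)
    (hβ : β ≫ ε = π ≫ (ChainComplex.single₀ (ModuleCat.{u} R)).map f) : Nonempty (Homotopy α β) := by
  obtain ⟨h⟩ := nonempty_homotopy_zero P N' ε hP hN' (α - β) (by
    rw [Preadditive.sub_comp, hα, hβ, sub_self])
  exact ⟨Homotopy.equivSubZero.invFun h⟩

end comparison

end Groth.Agent.R2.H80.PureResCx
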