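import Mathlib
import Groth.Prelude
import Groth.Agent.R2.H80PureResCx

/-!
# Existence of pure projective resolutions   (helper80)

Iterating helper13's pure projective cover `cov R M : ⨁ Q_i → M` (`Lib/Helper13Pure`) gives a universally
exact resolution of `M` by direct sums of finitely presented modules.
-/

set_option autoImplicit false
universe u
open CategoryTheory MonoidalCategory Limits
open Groth.Agent.Helper13Pure

namespace Groth.Agent.R2.H80.PureProjRes

variable {R : Type u} [CommRing R] (M : ModuleCat.{u} R)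

/-- the iterated syzygies -/
noncomputable def Kn : ℕ → ModuleCat.{u} R
  | 0 => M
  | n + 1 => ModuleCat.of R (LinearMap.ker (cov R (Kn n)))

/-- the terms of the resolution -/
noncomputable def Pn (n : ℕ) : ModuleCat.{u} R :=
  ModuleCat.of R (Π₀ i : Idx R (Kn M n), QQ R (Kn M n) i)

noncomputable def covn (n : ℕ) : Pn M n ⟶ Kn M n := ModuleCat.ofHom (cov R (Kn M n))

noncomputable def incn (n : ℕ) : Kn M (n + 1) ⟶ Pn M n :=
  ModuleCat.ofHom (LinearMap.ker (cov R (Kn M n))).subtype

noncomputable def dn (n : ℕ) : Pn M (n + 1) ⟶ Pn M n := covn M (n + 1) ≫ incn M n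

theorem incn_covn (n : ℕ) : incn M n ≫ covn M n = 0 := by
  apply ModuleCat.hom_ext
  apply LinearMap.ext
  intro x
  exact x.2

theorem dn_comp (n : ℕ) : dn M (n + 1) ≫ dn M n = 0 := by
  unfold dn
  rw [Category.assoc, ← Category.assoc (incn M (n + 1)), incn_covn, zero_comp, comp_zero]

theorem dn_covn (n : ℕ) : dn M n ≫ covn M n = 0 := by
  unfold dn
  rw [Category.assoc, incn_covn, comp_zero]

/-- the resolution -/
noncomputable def cx : ChainComplex (ModuleCat.{u} R) ℕ := ChainComplex.of (Pn M) (dn M) (dn_comp M)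

theorem cx_d (n : ℕ) : (cx M).d (n + 1) n = dn M n := ChainComplex.of_d _ _ n

/-- the augmentation -/
noncomputable def aug : cx M ⟶ (ChainComplex.single₀ (ModuleCat.{u} R)).obj M :=
  (ChainComplex.toSingle₀Equiv (cx M) M).symm ⟨covn M 0, by rw [cx_d]; exact dn_covn M 0⟩

theorem aug_f_zero : (aug M).f 0 = covn M 0 := ChainComplex.toSingle₀Equiv_symm_apply_f_zero _ _

theorem pure_inc (n : ℕ) : CAlgX.UniversallyInjective R (LinearMap.ker (cov R (Kn M n))).subtype :=
  univInj_of_equational _ (Submodule.subtype_injective _) cov_equational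

theorem exact_dn_cov (n : ℕ) : Function.Exact (dn M n).hom (cov R (Kn M n)) := by
  intro y
  constructor
  · intro hy
    obtain ⟨z, hz⟩ := cov_surjective (R := R) (M := Kn M (n + 1)) ⟨y, hy⟩
    exact ⟨z, congrArg Subtype.val hz⟩
  · rintro ⟨z, rfl⟩
    exact LinearMap.congr_fun (congrArg ModuleCat.Hom.hom (dn_covn M n)) z

theorem exact_T (n : ℕ) (T : Type u) [AddCommGroup T] [Module R T] :
    Function.Exact ((dn M (n + 1)).hom.rTensor T) ((dn M n).hom.rTensor T) :=
  PureRes.exact_rTensor_of_factor (dn M (n + 1)).hom (cov R (Kn M (n + 1)))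
    (LinearMap.ker (cov R (Kn M n))).subtype cov_surjective (pure_inc M n) (exact_dn_cov M (n + 1)) T

theorem quasiIso_aug (T : ModuleCat.{u} R) :
    QuasiIso (((tensorRight T).mapHomologicalComplex (ComplexShape.down ℕ)).map (aug M)) := by
  rw [PureResCx.quasiIso_tensor_iff]
  refine ⟨fun n => ?_, ?_, ?_⟩
  · rw [cx_d, cx_d]
    exact exact_T M n T
  · rw [cx_d, aug_f_zero]
    exact rTensor_exact T (exact_dn_cov M 0) cov_surjective
  · rw [aug_f_zero]
    exact LinearMap.rTensor_surjective T cov_surjective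

theorem main : ∃ (P : ChainComplex (ModuleCat.{u} R) ℕ) (π : P ⟶ (ChainComplex.single₀ (ModuleCat.{u} R)).obj M),
      (∀ n : ℕ, ∃ (ι : Type u) (Q : ι → Type u) (_ : ∀ i, AddCommGroup (Q i)) (_ : ∀ i, Module R (Q i)),
        (∀ i, Module.FinitePresentation R (Q i)) ∧
        ∃ (s : P.X n →ₗ[R] (Π₀ i, Q i)) (r : (Π₀ i, Q i) →ₗ[R] P.X n), r ∘ₗ s = LinearMap.id) ∧
      ∀ N : ModuleCat.{u} R,
        QuasiIso (((MonoidalCategory.tensorRight N).mapHomologicalComplex (ComplexShape.down ℕ)).map π) := by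
  refine ⟨cx M, aug M, fun n => ?_, fun N => quasiIso_aug M N⟩
  refine ⟨Idx R (Kn M n), QQ R (Kn M n), fun i => instQQAddCommGroup R (Kn M n) i,
    fun i => instQQModule R (Kn M n) i, fun i => QQ_fp R (Kn M n) i, LinearMap.id, LinearMap.id, rfl⟩

end Groth.Agent.R2.H80.PureProjRes
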