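import Mathlib
import Groth.Prelude
import Groth.Agent.R2.H80PureResCx

/-!
# Pure (universally exact) coresolutions: homological part   (helper80)

* `quasiIso_tensor_iff'` : for a coaugmented cochain complex `η : M[0] ⟶ I` of `R`-modules, `η ⊗ T` is a
  quasi-isomorphism iff the tensored coaugmented complex is exact (in linear-algebra terms).
* `pureInjective_characterModule`, `univInj_ev` : character modules are pure injective and `M → M**` is
  universally injective.
* `main` : existence of pure injective resolutions.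
-/

set_option autoImplicit false
universe u
open CategoryTheory MonoidalCategory Limits

namespace Groth.Agent.R2.H80.PureResCo

variable {R : Type u} [CommRing R]

section cochain
variable {M : ModuleCat.{u} R} (I : CochainComplex (ModuleCat.{u} R) ℕ)
  (η : (CochainComplex.single₀ (ModuleCat.{u} R)).obj M ⟶ I) (T : ModuleCat.{u} R)

theorem exactAt_succ_tensor_single (n : ℕ) :
    (((tensorRight T).mapHomologicalComplex (ComplexShape.up ℕ)).obj
      ((CochainComplex.single₀ (ModuleCat.{u} R)).obj M)).ExactAt (n + 1) := by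
  apply HomologicalComplex.ExactAt.of_isZero
  exact Functor.map_isZero (tensorRight T)
    (HomologicalComplex.isZero_single_obj_X (ComplexShape.up ℕ) 0 M (n + 1) (by simp))

theorem quasiIsoAt_succ_iff (n : ℕ) :
    QuasiIsoAt (((tensorRight T).mapHomologicalComplex (ComplexShape.up ℕ)).map η) (n + 1) ↔
      Function.Exact ((I.d n (n + 1)).hom.rTensor T) ((I.d (n + 1) (n + 2)).hom.rTensor T) := by
  rw [quasiIsoAt_iff_exactAt _ _ (exactAt_succ_tensor_single T n),
    HomologicalComplex.exactAt_iff' _ n (n + 1) (n + 2) (by simp) (by simp),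
    ShortComplex.moduleCat_exact_iff_range_eq_ker, LinearMap.exact_iff]
  constructor
  · intro h; exact h.symm
  · intro h; exact h.symm

theorem quasiIsoAt_zero_iff :
    QuasiIsoAt (((tensorRight T).mapHomologicalComplex (ComplexShape.up ℕ)).map η) 0 ↔
      Function.Exact ((η.f 0).hom.rTensor T) ((I.d 0 1).hom.rTensor T) ∧
      Function.Injective ((η.f 0).hom.rTensor T) := by
  have e1 : (((tensorRight T).mapHomologicalComplex (ComplexShape.up ℕ)).obj
      ((CochainComplex.single₀ (ModuleCat.{u} R)).obj M)).d 0 0 = 0 :=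
    HomologicalComplex.shape _ _ _ (by simp)
  have e2 : (((tensorRight T).mapHomologicalComplex (ComplexShape.up ℕ)).obj
      ((CochainComplex.single₀ (ModuleCat.{u} R)).obj M)).d 0 1 = 0 := by
    change (tensorRight T).map (((CochainComplex.single₀ (ModuleCat.{u} R)).obj M).d 0 1) = 0
    rw [HomologicalComplex.single_obj_d]
    exact Functor.map_zero _ _ _
  have e3 : (((tensorRight T).mapHomologicalComplex (ComplexShape.up ℕ)).obj I).d 0 0 = 0 :=
    HomologicalComplex.shape _ _ _ (by simp)
  rw [CochainComplex.quasiIsoAt₀_iff, ShortComplex.quasiIso_iff_of_zeros _ e1 e2 e3,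
    ShortComplex.moduleCat_exact_iff_range_eq_ker, LinearMap.exact_iff, ModuleCat.mono_iff_injective]
  constructor
  · rintro ⟨h1, h2⟩; exact ⟨h1.symm, h2⟩
  · rintro ⟨h1, h2⟩; exact ⟨h1.symm, h2⟩

theorem quasiIso_tensor_iff' :
    QuasiIso (((tensorRight T).mapHomologicalComplex (ComplexShape.up ℕ)).map η) ↔
      (∀ n : ℕ, Function.Exact ((I.d n (n + 1)).hom.rTensor T) ((I.d (n + 1) (n + 2)).hom.rTensor T)) ∧
      Function.Exact ((η.f 0).hom.rTensor T) ((I.d 0 1).hom.rTensor T) ∧
      Function.Injective ((η.f 0).hom.rTensor T) := by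
  rw [quasiIso_iff]
  constructor
  · intro h
    exact ⟨fun n => (quasiIsoAt_succ_iff I η T n).1 (h (n + 1)), (quasiIsoAt_zero_iff I η T).1 (h 0)⟩
  · rintro ⟨h1, h2⟩ i
    cases i with
    | zero => exact (quasiIsoAt_zero_iff I η T).2 h2
    | succ n => exact (quasiIsoAt_succ_iff I η T n).2 (h1 n)

end cochain

section character
variable (A : Type u) [AddCommGroup A] [Module R A]

/-- Character modules are pure injective. -/
theorem pureInjective_characterModule ⦃K L : Type u⦄ [AddCommGroup K] [Module R K] [AddCommGroup L]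
    [Module R L] (g : K →ₗ[R] L) (hg : CAlgX.UniversallyInjective R g)
    (φ : K →ₗ[R] CharacterModule A) : ∃ ψ : L →ₗ[R] CharacterModule A, ψ ∘ₗ g = φ := by
  obtain ⟨ψ, hψ⟩ := (rTensor_injective_iff_lcomp_surjective (R := R) (B := A) (f := g)).1 (hg A) φ
  exact ⟨ψ, hψ⟩

/-- the double dual -/
abbrev E : Type u := CharacterModule (CharacterModule A)

/-- evaluation `A → A**` -/
def ev : A →ₗ[R] E A where
  toFun a :=
    { toFun := fun c => c a
      map_zero' := rfl
      map_add' := fun _ _ => rfl }
  map_add' a b := by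
    ext c
    exact map_add c a b
  map_smul' r a := by
    ext c
    rfl

theorem ev_apply (a : A) (c : CharacterModule A) : ev (R := R) A a c = c a := rfl

variable {A} in
/-- the flip of a linear map `A → T*` -/
def flip {T : Type u} [AddCommGroup T] [Module R T] (φ : A →ₗ[R] CharacterModule T) :
    T →ₗ[R] CharacterModule A where
  toFun t :=
    { toFun := fun a => φ a t
      map_zero' := by rw [map_zero]; rfl
      map_add' := fun a b => by rw [map_add]; rfl }
  map_add' s t := by
    ext a
    exact map_add (φ a) s t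
  map_smul' r t := by
    ext a
    change φ a (r • t) = φ (r • a) t
    rw [LinearMap.map_smul φ r a]
    rfl

theorem univInj_ev : CAlgX.UniversallyInjective R (ev (R := R) A) := by
  intro T _ _
  rw [rTensor_injective_iff_lcomp_surjective]
  intro φ
  refine ⟨CharacterModule.dual (flip φ), ?_⟩
  apply LinearMap.ext
  intro a
  ext t
  rfl

theorem injective_ev : Function.Injective (ev (R := R) A) :=
  Groth.Agent.Helper13Pure.injective_of_univInj _ (univInj_ev A)

end character

section resolution
variable (M : ModuleCat.{u} R)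

/-- the iterated cosyzygies -/
noncomputable def Cn : ℕ → ModuleCat.{u} R
  | 0 => M
  | n + 1 => ModuleCat.of R (E (Cn n) ⧸ LinearMap.range (ev (R := R) (Cn n)))

noncomputable def In (n : ℕ) : ModuleCat.{u} R := ModuleCat.of R (E (Cn M n))

noncomputable def jn (n : ℕ) : Cn M n ⟶ In M n := ModuleCat.ofHom (ev (R := R) (Cn M n))

noncomputable def qn (n : ℕ) : In M n ⟶ Cn M (n + 1) :=
  ModuleCat.ofHom (LinearMap.range (ev (R := R) (Cn M n))).mkQ

noncomputable def dn (n : ℕ) : In M n ⟶ In M (n + 1) := qn M n ≫ jn M (n + 1)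

theorem jn_qn (n : ℕ) : jn M n ≫ qn M n = 0 := by
  apply ModuleCat.hom_ext
  exact LinearMap.range_mkQ_comp _

theorem dn_comp (n : ℕ) : dn M n ≫ dn M (n + 1) = 0 := by
  unfold dn
  rw [Category.assoc, ← Category.assoc (jn M (n + 1)), jn_qn, zero_comp, comp_zero]

theorem jn_dn (n : ℕ) : jn M n ≫ dn M n = 0 := by
  unfold dn
  rw [← Category.assoc, jn_qn, zero_comp]

noncomputable def cx : CochainComplex (ModuleCat.{u} R) ℕ := CochainComplex.of (In M) (dn M) (dn_comp M)

theorem cx_d (n : ℕ) : (cx M).d n (n + 1) = dn M n := CochainComplex.of_d _ _ n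

noncomputable def coaug : (CochainComplex.single₀ (ModuleCat.{u} R)).obj M ⟶ cx M :=
  (CochainComplex.fromSingle₀Equiv (cx M) M).symm ⟨jn M 0, by rw [cx_d]; exact jn_dn M 0⟩

theorem coaug_f_zero : (coaug M).f 0 = jn M 0 := CochainComplex.fromSingle₀Equiv_symm_apply_f_zero _ _

theorem exact_jn_qn (n : ℕ) : Function.Exact (jn M n).hom (qn M n).hom :=
  LinearMap.exact_map_mkQ_range _

theorem surjective_qn (n : ℕ) : Function.Surjective (qn M n).hom := Submodule.mkQ_surjective _

theorem exact_dn_qn (n : ℕ) : Function.Exact (dn M n).hom (qn M (n + 1)).hom := by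
  intro y
  rw [exact_jn_qn M (n + 1) y]
  constructor
  · rintro ⟨z, rfl⟩
    obtain ⟨w, rfl⟩ := surjective_qn M n z
    exact ⟨w, rfl⟩
  · rintro ⟨w, rfl⟩
    exact ⟨(qn M n).hom w, rfl⟩

theorem quasiIso_coaug (T : ModuleCat.{u} R) :
    QuasiIso (((tensorRight T).mapHomologicalComplex (ComplexShape.up ℕ)).map (coaug M)) := by
  rw [quasiIso_tensor_iff']
  refine ⟨fun n => ?_, ?_, ?_⟩
  · rw [cx_d, cx_d]
    exact PureRes.exact_rTensor_of_factor (dn M n).hom (qn M (n + 1)).hom (jn M (n + 2)).hom
      (surjective_qn M (n + 1)) (univInj_ev _) (exact_dn_qn M n) T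
  · rw [cx_d, coaug_f_zero]
    exact PureRes.exact_rTensor_of_factor (jn M 0).hom (qn M 0).hom (jn M 1).hom
      (surjective_qn M 0) (univInj_ev _) (exact_jn_qn M 0) T
  · rw [coaug_f_zero]
    exact univInj_ev _ T

theorem main : ∃ (I : CochainComplex (ModuleCat.{u} R) ℕ) (η : (CochainComplex.single₀ (ModuleCat.{u} R)).obj M ⟶ I),
      (∀ n : ℕ, (∀ ⦃K L : Type u⦄ [AddCommGroup K] [Module R K] [AddCommGroup L] [Module R L] (g : K →ₗ[R] L),
          CAlgX.UniversallyInjective R g → ∀ φ : K →ₗ[R] I.X n, ∃ ψ : L →ₗ[R] I.X n, ψ ∘ₗ g = φ)) ∧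
      ∀ T : ModuleCat.{u} R,
      QuasiIso (((MonoidalCategory.tensorRight T).mapHomologicalComplex (ComplexShape.up ℕ)).map η) := by
  refine ⟨cx M, coaug M, fun n K L _ _ _ _ g hg φ => ?_, fun T => quasiIso_coaug M T⟩
  exact pureInjective_characterModule (CharacterModule (Cn M n)) g hg φ

end resolution

end Groth.Agent.R2.H80.PureResCo
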