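import Mathlib

/-!
# The total presheaf of a presheaf on an over category (helper80)

For `G : (Over S)ᵒᵖ ⥤ Type w`, the presheaf `Tot S G` on `C` sends `X` to the pairs of a morphism
`g : X ⟶ S` and an element of `G (X, g)`.  Sheaf conditions for `G` and for `Tot S G` correspond.
-/

set_option autoImplicit false
universe w v u
open CategoryTheory Opposite Limits

namespace Groth.Agent.R2.H80.TotSheaf

variable {C : Type u} [Category.{v} C] (S : C) (G : (Over S)ᵒᵖ ⥤ Type w)

/-- identity between objects with equal structure maps -/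
def eqHom {X : C} {g g' : X ⟶ S} (h : g = g') : Over.mk g ⟶ Over.mk g' :=
  Over.homMk (𝟙 X) (by rw [h]; exact Category.id_comp _)

/-- restriction map -/
def resHom {X Y : C} (k : Y ⟶ X) (g : X ⟶ S) : Over.mk (k ≫ g) ⟶ Over.mk g := Over.homMk k rfl

variable {S}

theorem map_congr_left {U V : Over S} {f f' : U ⟶ V} (h : f.left = f'.left) (s : G.obj (op V)) :
    G.map f.op s = G.map f'.op s := by
  have : f = f' := Over.OverMorphism.ext h
  rw [this]

theorem map_chain2 {U V W : Over S} (a : U ⟶ V) (b : V ⟶ W) (c : U ⟶ W)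
    (h : a.left ≫ b.left = c.left) (s : G.obj (op W)) :
    G.map a.op (G.map b.op s) = G.map c.op s := by
  have : a ≫ b = c := Over.OverMorphism.ext h
  rw [← this, op_comp, Functor.map_comp_apply]

theorem map_id' {U : Over S} (a : U ⟶ U) (h : a.left = 𝟙 U.left) (s : G.obj (op U)) :
    G.map a.op s = s := by
  have : a = 𝟙 U := Over.OverMorphism.ext h
  rw [this, op_id, Functor.map_id_apply]

theorem tot_ext {X : C} {g g' : X ⟶ S} (h : g = g') {s : G.obj (op (Over.mk g))}
    {s' : G.obj (op (Over.mk g'))} (hs : s = G.map (eqHom S h).op s') :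
    (⟨g, s⟩ : Σ g : X ⟶ S, G.obj (op (Over.mk g))) = ⟨g', s'⟩ := by
  subst h
  rw [hs, map_id' G (eqHom S rfl) rfl]

theorem tot_ext_iff {X : C} {a b : Σ g : X ⟶ S, G.obj (op (Over.mk g))} (e : a = b) :
    ∃ h : a.1 = b.1, a.2 = G.map (eqHom S h).op b.2 := by
  subst e
  exact ⟨rfl, (map_id' G (eqHom S rfl) rfl a.2).symm⟩

variable (S)

/-- the total presheaf -/
def Tot : Cᵒᵖ ⥤ Type (max v w) where
  obj X := Σ g : X.unop ⟶ S, G.obj (op (Over.mk g))
  map {X Y} k := ↾fun a => ⟨k.unop ≫ a.1, G.map (resHom S k.unop a.1).op a.2⟩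
  map_id X := by
    refine ConcreteCategory.hom_ext _ _ fun a => ?_
    rcases a with ⟨g, s⟩
    exact tot_ext G (Category.id_comp g) (map_congr_left G rfl s)
  map_comp {X Y Z} k l := by
    refine ConcreteCategory.hom_ext _ _ fun a => ?_
    rcases a with ⟨g, s⟩
    refine tot_ext G (Category.assoc _ _ _) ?_
    have h1 := map_chain2 G (resHom S l.unop (k.unop ≫ g)) (resHom S k.unop g)
      (Over.homMk (l.unop ≫ k.unop) (Category.assoc _ _ _)) rfl s
    have h2 := map_chain2 G (eqHom S (Category.assoc l.unop k.unop g))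
      (Over.homMk (U := Over.mk (l.unop ≫ k.unop ≫ g)) (V := Over.mk g) (l.unop ≫ k.unop)
        (Category.assoc _ _ _)) (resHom S (k ≫ l).unop g)
      (Category.id_comp _) s
    exact (h2.symm.trans (congrArg _ h1.symm))

variable {S}

theorem tot_map_fst {X Y : C} (k : Y ⟶ X) (a : (Tot S G).obj (op X)) :
    ((Tot S G).map k.op a).1 = k ≫ a.1 := rfl

theorem tot_map_snd {X Y : C} (k : Y ⟶ X) (a : (Tot S G).obj (op X)) :
    ((Tot S G).map k.op a).2 = G.map (resHom S k a.1).op a.2 := rfl

theorem map_chain3 {U V W Z : Over S} (a : U ⟶ V) (b : V ⟶ W) (c : W ⟶ Z) (d : U ⟶ Z)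
    (h : a.left ≫ b.left ≫ c.left = d.left) (s : G.obj (op Z)) :
    G.map a.op (G.map b.op (G.map c.op s)) = G.map d.op s := by
  rw [map_chain2 G b c (b ≫ c) rfl s]
  exact map_chain2 G a (b ≫ c) d h s

theorem fam_congr {D : Type*} [Category D] {X : D} {R : Presieve X} {P : Dᵒᵖ ⥤ Type*}
    (x : Presieve.FamilyOfElements P R) {Y : D} {f f' : Y ⟶ X} (h : f = f') (hf : R f)
    (hf' : R f') : x f hf = x f' hf' := by
  subst h
  rfl

/-- the total presheaf satisfies the sheaf condition for a sieve as soon as the base object does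
and the presheaf on the over category does for the induced sieves -/
theorem tot_isSheafFor {X : C} (R : Sieve X)
    (hy : Presieve.IsSheafFor (yoneda.obj S) R.arrows)
    (hG : ∀ g : X ⟶ S, Presieve.IsSheafFor G ((Sieve.overEquiv (Over.mk g)).symm R).arrows) :
    Presieve.IsSheafFor (Tot S G) R.arrows := by
  refine Presieve.IsSeparatedFor.isSheafFor ?_ ?_
  · intro x a b ha hb
    rcases a with ⟨g₁, t₁⟩
    rcases b with ⟨g₂, t₂⟩
    have hg : g₁ = g₂ := by
      refine hy.isSeparatedFor.ext ?_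
      intro Y f hf
      exact congrArg Sigma.fst ((ha f hf).trans (hb f hf).symm)
    subst hg
    refine tot_ext G rfl ?_
    rw [map_id' G (eqHom S rfl) rfl]
    refine (hG g₁).isSeparatedFor.ext ?_
    intro V f' hf'
    have h1 := (ha f'.left hf').trans (hb f'.left hf').symm
    obtain ⟨h, h2⟩ := tot_ext_iff G h1
    have h2' : G.map (resHom S f'.left g₁).op t₁ = G.map (resHom S f'.left g₁).op t₂ :=
      h2.trans (map_id' G (eqHom S h) rfl _)
    let i : V ⟶ Over.mk (f'.left ≫ g₁) := Over.homMk (𝟙 _) ((Category.id_comp _).trans (Over.w f'))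
    have e1 : ∀ t, G.map f'.op t = G.map i.op (G.map (resHom S f'.left g₁).op t) := fun t =>
      (map_chain2 G i (resHom S f'.left g₁) f' (Category.id_comp _) t).symm
    rw [e1, e1]
    exact congrArg _ h2'
  · intro x hx
    let x₁ : Presieve.FamilyOfElements (yoneda.obj S) R.arrows := fun Y f hf => (x f hf).1
    have hx₁ : x₁.Compatible := by
      intro Y₁ Y₂ Z g₁ g₂ f₁ f₂ h₁ h₂ comm
      exact congrArg Sigma.fst (hx g₁ g₂ h₁ h₂ comm)
    obtain ⟨g, hg, -⟩ := hy x₁ hx₁
    have hg' : ∀ {Y : C} (f : Y ⟶ X) (hf : R f), f ≫ g = (x f hf).1 := fun f hf => hg f hf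
    let y : Presieve.FamilyOfElements G ((Sieve.overEquiv (Over.mk g)).symm R).arrows :=
      fun V f' hf' =>
        G.map (Over.homMk (U := V) (V := Over.mk (x f'.left hf').1) (𝟙 V.left)
          ((Category.id_comp _).trans ((hg' f'.left hf').symm.trans (Over.w f')))).op
          (x f'.left hf').2
    have hy' : y.Compatible := by
      rw [Presieve.compatible_iff_sieveCompatible]
      intro V W f' k' hf'
      have hxs := (Presieve.compatible_iff_sieveCompatible x).1 hx f'.left k'.left hf'
      obtain ⟨h, h2⟩ := tot_ext_iff G hxs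
      refine (congrArg (G.map (Over.homMk (U := W)
        (V := Over.mk (x (k'.left ≫ f'.left) (R.downward_closed hf' k'.left)).1) (𝟙 W.left)
          ((Category.id_comp _).trans ((hg' (k'.left ≫ f'.left)
            (R.downward_closed hf' k'.left)).symm.trans (Over.w (k' ≫ f'))))).op) h2).trans ?_
      refine (map_chain3 G _ _ _ (k' ≫ Over.homMk (U := V) (V := Over.mk (x f'.left hf').1)
        (𝟙 V.left) ((Category.id_comp _).trans ((hg' f'.left hf').symm.trans (Over.w f')))) ?_
          _).trans ?_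
      · change 𝟙 _ ≫ 𝟙 _ ≫ k'.left = k'.left ≫ 𝟙 _
        rw [Category.id_comp, Category.id_comp, Category.comp_id]
      · exact (map_chain2 G _ _ _ rfl _).symm
    obtain ⟨t, ht, -⟩ := hG g y hy'
    refine ⟨⟨g, t⟩, ?_⟩
    intro Y f hf
    refine (tot_ext G (hg' f hf) ?_ : (⟨f ≫ g, G.map (resHom S f g).op t⟩ :
      Σ g : Y ⟶ S, G.obj (op (Over.mk g))) = ⟨(x f hf).1, (x f hf).2⟩)
    refine (ht (resHom S f g) hf).trans ?_
    exact map_congr_left G rfl _

theorem mem_overEquiv_left {U : Over S} (T : Sieve U) {V : Over S} (f' : V ⟶ U)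
    (hf' : T f') : (Sieve.overEquiv U T) f'.left := by
  rw [Sieve.overEquiv_iff]
  have h : (Over.homMk f'.left : Over.mk (f'.left ≫ U.hom) ⟶ U) =
      (Over.homMk (U := Over.mk (f'.left ≫ U.hom)) (V := V) (𝟙 _)
        ((Category.id_comp _).trans (Over.w f').symm)) ≫ f' :=
    Over.OverMorphism.ext (Category.id_comp _).symm
  rw [h]
  exact T.downward_closed hf' _

/-- conversely, the sheaf condition for the total presheaf gives the one on the over category -/
theorem isSheafFor_of_tot {U : Over S} (T : Sieve U)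
    (hy : Presieve.IsSeparatedFor (yoneda.obj S) (Sieve.overEquiv U T).arrows)
    (hT : Presieve.IsSheafFor (Tot S G) (Sieve.overEquiv U T).arrows) :
    Presieve.IsSheafFor G T.arrows := by
  let iU : Over.mk U.hom ⟶ U := Over.homMk (𝟙 _) (Category.id_comp _)
  let iU' : U ⟶ Over.mk U.hom := Over.homMk (𝟙 _) (Category.id_comp _)
  refine Presieve.IsSeparatedFor.isSheafFor ?_ ?_
  · intro y t₁ t₂ h₁ h₂
    have key : (⟨U.hom, G.map iU.op t₁⟩ : (Tot S G).obj (op U.left)) =
        ⟨U.hom, G.map iU.op t₂⟩ := by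
      refine hT.isSeparatedFor.ext ?_
      intro Y f hf
      refine tot_ext G rfl ?_
      refine Eq.trans ?_ (map_id' G (eqHom S rfl) rfl _).symm
      have hf' : T (Over.homMk f : Over.mk (f ≫ U.hom) ⟶ U) := (Sieve.overEquiv_iff T f).1 hf
      have e : ∀ t, G.map (resHom S f U.hom).op (G.map iU.op t) =
          G.map (Over.homMk f : Over.mk (f ≫ U.hom) ⟶ U).op t := fun t =>
        map_chain2 G _ _ _ (Category.comp_id _) t
      exact (e t₁).trans (((h₁ _ hf').trans (h₂ _ hf').symm).trans (e t₂).symm)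
    obtain ⟨h, h2⟩ := tot_ext_iff G key
    have h3 : G.map iU.op t₁ = G.map iU.op t₂ := h2.trans (map_id' G (eqHom S h) rfl _)
    have e : ∀ t, G.map iU'.op (G.map iU.op t) = t := fun t =>
      (map_chain2 G iU' iU (𝟙 U) (Category.id_comp _) t).trans (map_id' G (𝟙 U) rfl t)
    exact (e t₁).symm.trans ((congrArg _ h3).trans (e t₂))
  · intro y hyc
    let x : Presieve.FamilyOfElements (Tot S G) (Sieve.overEquiv U T).arrows := fun Y f hf =>
      ⟨f ≫ U.hom, y (Over.homMk f : Over.mk (f ≫ U.hom) ⟶ U) ((Sieve.overEquiv_iff T f).1 hf)⟩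
    have hx : x.Compatible := by
      rw [Presieve.compatible_iff_sieveCompatible]
      intro Y Z f k hf
      refine tot_ext G (Category.assoc _ _ _) ?_
      have hys := (Presieve.compatible_iff_sieveCompatible y).1 hyc
        (Over.homMk f : Over.mk (f ≫ U.hom) ⟶ U)
        (Over.homMk (U := Over.mk ((k ≫ f) ≫ U.hom)) (V := Over.mk (f ≫ U.hom)) k
          (Category.assoc _ _ _).symm) ((Sieve.overEquiv_iff T f).1 hf)
      refine (fam_congr y (Over.OverMorphism.ext rfl) _ _).trans (hys.trans ?_)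
      exact (map_chain2 G _ _ _ (Category.id_comp _) _).symm
    obtain ⟨a, ha, -⟩ := hT x hx
    rcases a with ⟨g, t⟩
    have hg : g = U.hom := by
      refine hy.ext ?_
      intro Y f hf
      exact congrArg Sigma.fst (ha f hf)
    subst hg
    refine ⟨G.map iU'.op t, ?_⟩
    intro V f' hf'
    have hf'' := mem_overEquiv_left T f' hf'
    obtain ⟨h, h2⟩ := tot_ext_iff G (ha f'.left hf'')
    let iV : Over.mk (f'.left ≫ U.hom) ⟶ V :=
      Over.homMk (𝟙 _) ((Category.id_comp _).trans (Over.w f').symm)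
    let jV : V ⟶ Over.mk (f'.left ≫ U.hom) :=
      Over.homMk (𝟙 _) ((Category.id_comp _).trans (Over.w f'))
    have hys := (Presieve.compatible_iff_sieveCompatible y).1 hyc f' iV hf'
    have h3 : G.map (resHom S f'.left U.hom).op t =
        G.map (eqHom S h).op (G.map iV.op (y f' hf')) :=
      h2.trans (congrArg _ ((fam_congr y (Over.OverMorphism.ext (Category.id_comp _).symm) _ _).trans
        hys))
    have h4 := congrArg (G.map jV.op) h3
    refine (map_chain2 G f' iU' (jV ≫ resHom S f'.left U.hom) ?_ t).trans ?_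
    · change f'.left ≫ 𝟙 _ = 𝟙 _ ≫ f'.left
      rw [Category.id_comp, Category.comp_id]
    · refine (map_chain2 G jV (resHom S f'.left U.hom) _ rfl t).symm.trans (h4.trans ?_)
      refine (map_chain3 G jV (eqHom S h) iV (𝟙 V) ?_ _).trans (map_id' G (𝟙 V) rfl _)
      change 𝟙 _ ≫ 𝟙 _ ≫ 𝟙 _ = 𝟙 _
      rw [Category.id_comp, Category.id_comp]

theorem tot_isSheaf (J : GrothendieckTopology C) (hy : Presieve.IsSheaf J (yoneda.obj S))
    (hG : Presieve.IsSheaf (J.over S) G) : Presieve.IsSheaf J (Tot S G) := by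
  intro X R hR
  refine tot_isSheafFor G R (hy R hR) (fun g => hG _ ?_)
  rw [GrothendieckTopology.mem_over_iff, OrderIso.apply_symm_apply]
  exact hR

theorem isSheaf_of_tot (J : GrothendieckTopology C) (hy : Presieve.IsSheaf J (yoneda.obj S))
    (hT : Presieve.IsSheaf J (Tot S G)) : Presieve.IsSheaf (J.over S) G := by
  intro U T hT'
  rw [GrothendieckTopology.mem_over_iff] at hT'
  exact isSheafFor_of_tot G T (hy _ hT').isSeparatedFor (hT _ hT')

end Groth.Agent.R2.H80.TotSheaf
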