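import Mathlib
import Groth.Prelude.Def_CohCmp
import Groth.Agent.R2.H81CohPull

/-!
# `CohPull.resLE` as a transfer map; compatibility with connecting homomorphisms (helper81)
-/

set_option autoImplicit false
universe u

open CategoryTheory CategoryTheory.Limits AlgebraicGeometry TopologicalSpace Opposite Abelian

namespace Groth.Agent.R2.H81.ResLE

open Groth.Agent.R2.H81.ExtTrans Groth.Agent.R2.H81.CohPull

noncomputable section

variable {X : Scheme.{u}}

theorem le_id_preimage {U U' : X.Opens} (h : U' ≤ U) : U' ≤ (𝟙 X : X ⟶ X) ⁻¹ᵁ U := by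
  rwa [Scheme.Hom.id_preimage]

/-- the open immersion `U' ⟶ U` used by `CohPull.resLE` -/
abbrev jj {U U' : X.Opens} (h : U' ≤ U) : (U' : Scheme.{u}) ⟶ (U : Scheme.{u}) :=
  (𝟙 X : X ⟶ X).resLE U U' (le_id_preimage h)

/-- the module-level comparison `j^*(F|_U) ⟶ F|_{U'}` used by `CohPull.resLE` -/
def resIso (F : X.Modules) {U U' : X.Opens} (h : U' ≤ U) :
    (Scheme.Modules.pullback (jj h)).obj (F.restrict U.ι) ⟶ F.restrict U'.ι :=
  (CohPull.pullOnIso (𝟙 X) U U' (le_id_preimage h) F).hom ≫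
    (Scheme.Modules.restrictFunctor U'.ι).map ((Scheme.Modules.pullbackId X).hom.app F)

theorem resIso_naturality {F F' : X.Modules} (ψ : F ⟶ F') {U U' : X.Opens} (h : U' ≤ U) :
    (Scheme.Modules.pullback (jj h)).map ((Scheme.Modules.restrictFunctor U.ι).map ψ) ≫ resIso F' h =
      resIso F h ≫ (Scheme.Modules.restrictFunctor U'.ι).map ψ := by
  rw [resIso, resIso, ← Category.assoc, pullOnIso_naturality, Category.assoc, Category.assoc,
    ← Functor.map_comp, ← Functor.map_comp]
  congr 2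
  exact (Scheme.Modules.pullbackId X).hom.naturality ψ

/-- the transition morphism of abelian sheaves used by `CohPull.resLE` -/
def resTr (F : X.Modules) {U U' : X.Opens} (h : U' ≤ U) :
    (CohPull.inv (jj h).base).obj (Coh.toAb (F.restrict U.ι)) ⟶ Coh.toAb (F.restrict U'.ι) :=
  CohPull.theta (jj h) (F.restrict U.ι) ≫
    (SheafOfModules.toSheaf (U' : Scheme.{u}).ringCatSheaf).map (resIso F h)

theorem resLE_eq_trans (F : X.Modules) {U U' : X.Opens} (h : U' ≤ U) (p : ℕ) :
    CohPull.resLE F h p = trans (CohPull.inv (jj h).base) (CohPull.oneTo (jj h).base) (resTr F h) p := by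
  ext x
  change Sheaf.H.map _ p (Sheaf.H.map _ p (CohPull.pullMod (jj h) (F.restrict U.ι) p x)) = _
  rw [pullMod_eq_trans, Hmap_trans, Hmap_trans]
  congr 1

theorem resTr_naturality {F F' : X.Modules} (ψ : F ⟶ F') {U U' : X.Opens} (h : U' ≤ U) :
    (CohPull.inv (jj h).base).map ((CohCmp.toAbOn X U).map ψ) ≫ resTr F' h =
      resTr F h ≫ (CohCmp.toAbOn X U').map ψ := by
  rw [resTr, resTr, ← Category.assoc]
  have h1 := theta_naturality (jj h) ((Scheme.Modules.restrictFunctor U.ι).map ψ)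
  have h2 := ((Functor.map_comp _ _ _).symm.trans
    (congrArg (SheafOfModules.toSheaf (U' : Scheme.{u}).ringCatSheaf).map (resIso_naturality ψ h))).trans
    (Functor.map_comp _ _ _)
  refine (congrArg (fun t => t ≫ _) h1).trans ?_
  refine (Category.assoc _ _ _).trans ?_
  refine Eq.trans ?_ (Category.assoc _ _ _).symm
  exact congrArg (fun t => CohPull.theta (jj h) (F.restrict U.ι) ≫ t) h2

/-- `CohPull.resLE` commutes with the connecting homomorphisms. -/
theorem resLE_extδ (S : ShortComplex X.Modules) {U U' : X.Opens} (h : U' ≤ U)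
    (hA : (S.map (CohCmp.toAbOn X U)).ShortExact) (hA' : (S.map (CohCmp.toAbOn X U')).ShortExact) (p : ℕ)
    (x : Coh.HHon X S.X₃ U p) :
    CohPull.resLE S.X₁ h (p + 1) (CohCmp.extδ hA p x) = CohCmp.extδ hA' p (CohPull.resLE S.X₃ h p x) := by
  rw [resLE_eq_trans, resLE_eq_trans]
  exact trans_extClass (CohPull.inv (jj h).base) (CohPull.oneTo (jj h).base) hA hA'
    (resTr S.X₁ h) (resTr S.X₂ h) (resTr S.X₃ h) (resTr_naturality S.f h).symm (resTr_naturality S.g h).symm p x

/-- `CohPull.resLE` is natural in the module. -/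
theorem resLE_mapH {F F' : X.Modules} (ψ : F ⟶ F') {U U' : X.Opens} (h : U' ≤ U) (p : ℕ)
    (x : Coh.HHon X F U p) :
    CohPull.resLE F' h p (CohPull.mapH ((Scheme.Modules.restrictFunctor U.ι).map ψ) p x) =
      CohPull.mapH ((Scheme.Modules.restrictFunctor U'.ι).map ψ) p (CohPull.resLE F h p x) := by
  rw [resLE_eq_trans, resLE_eq_trans]
  exact trans_comp_mk₀ (CohPull.inv (jj h).base) (CohPull.oneTo (jj h).base) (resTr F h) (resTr F' h)
    ((CohCmp.toAbOn X U).map ψ) ((CohCmp.toAbOn X U').map ψ) (resTr_naturality ψ h) p x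

end

end Groth.Agent.R2.H81.ResLE
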