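import Mathlib
import Groth.Prelude.Def_CohCmp
import Groth.Agent.R2.H81CohPull

/-!
# Conjugates of the isomorphisms `CohPull.pullOnIso` (helper81)
-/

set_option autoImplicit false
universe u

open CategoryTheory AlgebraicGeometry TopologicalSpace Opposite

namespace Groth.Agent.R2.H81.Conj

open Groth.Agent.R2.H81.CohPull Scheme.Modules

noncomputable section

variable {X Y : Scheme.{u}}

/-- pullback/pushforward adjunction, abbreviated -/
abbrev adjP (f : X ⟶ Y) : pullback f ⊣ pushforward f := pullbackPushforwardAdjunction f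

/-- restriction/pushforward adjunction, abbreviated -/
abbrev adjR (f : X ⟶ Y) [IsOpenImmersion f] : restrictFunctor f ⊣ pushforward f := restrictAdjunction f

theorem conj_restrictFunctorIsoPullback_inv (f : X ⟶ Y) [IsOpenImmersion f] :
    conjugateEquiv (adjR f) (adjP f) (restrictFunctorIsoPullback f).inv = 𝟙 _ := by
  change conjugateEquiv (adjR f) (adjP f) ((conjugateEquiv (adjR f) (adjP f)).symm (𝟙 _)) = 𝟙 _
  rw [Equiv.apply_symm_apply]

theorem conj_restrictFunctorIsoPullback_hom (f : X ⟶ Y) [IsOpenImmersion f] :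
    conjugateEquiv (adjP f) (adjR f) (restrictFunctorIsoPullback f).hom = 𝟙 _ := by
  change conjugateEquiv (adjP f) (adjR f) ((conjugateEquiv (adjP f) (adjR f)).symm (𝟙 _)) = 𝟙 _
  rw [Equiv.apply_symm_apply]

variable {Z : Scheme.{u}}

theorem conj_pullbackComp_hom (f : X ⟶ Y) (g : Y ⟶ Z) :
    conjugateEquiv (adjP (f ≫ g)) ((adjP g).comp (adjP f)) (pullbackComp f g).hom =
      (pushforwardComp f g).inv := by
  have h1 := conjugateEquiv_pullbackComp_inv f g
  have h2 := conjugateEquiv_comp (adjP (f ≫ g)) ((adjP g).comp (adjP f)) (adjP (f ≫ g))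
    (pullbackComp f g).hom (pullbackComp f g).inv
  rw [Iso.inv_hom_id, conjugateEquiv_id, h1] at h2
  -- h2 : conj hom ≫ (pushforwardComp f g).hom = 𝟙
  rw [← cancel_mono (pushforwardComp f g).hom, Iso.inv_hom_id]
  exact h2

theorem conj_pullbackCongr_hom {f g : X ⟶ Y} (e : f = g) :
    conjugateEquiv (adjP g) (adjP f) (pullbackCongr e).hom = (pushforwardCongr e).inv := by
  subst e
  have h1 : (pullbackCongr (rfl : f = f)).hom = 𝟙 _ := rfl
  rw [h1, conjugateEquiv_id]
  ext M U
  rw [pushforwardCongr_inv_app_app]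
  simp

/-- the conjugate of `pullOnNatIso` is the evident isomorphism of pushforwards -/
theorem conj_pullOnNatIso (g : X ⟶ Y) (U : Y.Opens) (U' : X.Opens) (h : U' ≤ g ⁻¹ᵁ U) :
    conjugateEquiv ((adjP g).comp (adjR U'.ι)) ((adjR U.ι).comp (adjP (g.resLE U U' h)))
        (pullOnNatIso g U U' h).hom =
      (pushforwardComp U'.ι g).hom ≫ (pushforwardCongr (Scheme.Hom.resLE_comp_ι g h)).inv ≫
        (pushforwardComp (g.resLE U U' h) U.ι).inv := by
  set j := g.resLE U U' h with hj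
  let A0 := (adjR U.ι).comp (adjP j)
  let A1 := (adjP U.ι).comp (adjP j)
  let A2 := adjP (j ≫ U.ι)
  let A3 := adjP (U'.ι ≫ g)
  let A4 := (adjP g).comp (adjP U'.ι)
  let A5 := (adjP g).comp (adjR U'.ι)
  let s1 : restrictFunctor U.ι ⋙ pullback j ⟶ pullback U.ι ⋙ pullback j :=
    Functor.whiskerRight (restrictFunctorIsoPullback U.ι).hom (pullback j)
  let s2 : pullback U.ι ⋙ pullback j ⟶ pullback (j ≫ U.ι) := (pullbackComp j U.ι).hom
  let s3 : pullback (j ≫ U.ι) ⟶ pullback (U'.ι ≫ g) := (pullbackCongr (Scheme.Hom.resLE_comp_ι g h)).hom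
  let s4 : pullback (U'.ι ≫ g) ⟶ pullback g ⋙ pullback U'.ι := (pullbackComp U'.ι g).inv
  let s5 : pullback g ⋙ pullback U'.ι ⟶ pullback g ⋙ restrictFunctor U'.ι :=
    Functor.whiskerLeft (pullback g) (restrictFunctorIsoPullback U'.ι).inv
  have hs : (pullOnNatIso g U U' h).hom = s1 ≫ s2 ≫ s3 ≫ s4 ≫ s5 := rfl
  have c1 : conjugateEquiv A1 A0 s1 = 𝟙 _ := by
    have := conjugateEquiv_whiskerRight (adjP U.ι) (adjR U.ι) (adjP j) (restrictFunctorIsoPullback U.ι).hom
    rw [conj_restrictFunctorIsoPullback_hom] at this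
    exact this.trans (Functor.whiskerLeft_id' _)
  have c2 : conjugateEquiv A2 A1 s2 = (pushforwardComp j U.ι).inv := conj_pullbackComp_hom j U.ι
  have c3 : conjugateEquiv A3 A2 s3 = (pushforwardCongr (Scheme.Hom.resLE_comp_ι g h)).inv :=
    conj_pullbackCongr_hom _
  have c4 : conjugateEquiv A4 A3 s4 = (pushforwardComp U'.ι g).hom := conjugateEquiv_pullbackComp_inv U'.ι g
  have c5 : conjugateEquiv A5 A4 s5 = 𝟙 _ := by
    have := conjugateEquiv_whiskerLeft (adjR U'.ι) (adjP U'.ι) (adjP g) (restrictFunctorIsoPullback U'.ι).inv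
    rw [conj_restrictFunctorIsoPullback_inv] at this
    exact this.trans (Functor.whiskerRight_id' _)
  rw [hs]
  rw [← conjugateEquiv_comp A5 A1 A0 (s2 ≫ s3 ≫ s4 ≫ s5) s1, ← conjugateEquiv_comp A5 A2 A1 (s3 ≫ s4 ≫ s5) s2,
    ← conjugateEquiv_comp A5 A3 A2 (s4 ≫ s5) s3, ← conjugateEquiv_comp A5 A4 A3 s5 s4, c1, c2, c3, c4, c5]
  simp only [Category.id_comp, Category.comp_id, Category.assoc]
  rfl

/-- unit form of `conj_pullOnNatIso` -/
theorem unit_pullOnIso (g : X ⟶ Y) (U : Y.Opens) (U' : X.Opens) (h : U' ≤ g ⁻¹ᵁ U) (F : Y.Modules) :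
    (adjR U.ι).unit.app F ≫ (pushforward U.ι).map
        ((adjP (g.resLE U U' h)).unit.app (F.restrict U.ι) ≫
          (pushforward (g.resLE U U' h)).map (CohPull.pullOnIso g U U' h F).hom) =
      (adjP g).unit.app F ≫ (pushforward g).map ((adjR U'.ι).unit.app ((pullback g).obj F)) ≫
        ((pushforwardComp U'.ι g).hom ≫ (pushforwardCongr (Scheme.Hom.resLE_comp_ι g h)).inv ≫
          (pushforwardComp (g.resLE U U' h) U.ι).inv).app (((pullback g).obj F).restrict U'.ι) := by
  have h1 := unit_conjugateEquiv ((adjP g).comp (adjR U'.ι)) ((adjR U.ι).comp (adjP (g.resLE U U' h)))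
    (pullOnNatIso g U U' h).hom F
  rw [conj_pullOnNatIso] at h1
  rw [Adjunction.comp_unit_app, Adjunction.comp_unit_app] at h1
  rw [Functor.map_comp, ← Category.assoc]
  refine Eq.trans ?_ (h1.symm.trans ?_)
  · rfl
  · rw [Category.assoc]
    rfl

end

end Groth.Agent.R2.H81.Conj
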