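import Mathlib
import Groth.Prelude.Def_CohCmp
import Groth.Agent.R2.H81Conj

/-!
# `CohPull.pullOn` and `CohPull.resLE` in degree zero (helper81)
-/

set_option autoImplicit false
universe u

open CategoryTheory AlgebraicGeometry TopologicalSpace Opposite

namespace Groth.Agent.R2.H81.Deg0

open Groth.Agent.R2.H81.CohPull Groth.Agent.R2.H81.Conj Scheme.Modules

noncomputable section




variable {X Y : Scheme.{u}}

/-- all restriction maps of a module between two given opens agree -/
theorem map_congr (M : X.Modules) {V W : X.Opens} (i i' : op V ⟶ op W) (s : M.presheaf.obj (op V)) :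
    M.presheaf.map i s = M.presheaf.map i' s := by
  rw [Subsingleton.elim i i']

theorem map_map (M : X.Modules) {V W T : X.Opens} (i : op V ⟶ op W) (i' : op W ⟶ op T)
    (s : M.presheaf.obj (op V)) :
    M.presheaf.map i' (M.presheaf.map i s) = M.presheaf.map (i ≫ i') s := by
  rw [Functor.map_comp]
  rfl

/-- the section-level form of `unit_pullOnIso`, over the open `U` of the base -/
theorem pullOnIso_sections (g : X ⟶ Y) (U : Y.Opens) (U' : X.Opens) (h : U' ≤ g ⁻¹ᵁ U) (F : Y.Modules)
    (s : F.presheaf.obj (op U))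
    (i : op (U'.ι ⁻¹ᵁ (g ⁻¹ᵁ U)) ⟶ op ((g.resLE U U' h) ⁻¹ᵁ (U.ι ⁻¹ᵁ U))) :
    (CohPull.pullOnIso g U U' h F).hom.app ((g.resLE U U' h) ⁻¹ᵁ (U.ι ⁻¹ᵁ U))
        (((adjP (g.resLE U U' h)).unit.app (F.restrict U.ι)).app (U.ι ⁻¹ᵁ U)
          (F.presheaf.map (homOfLE (U.ι.image_preimage_le U)).op s)) =
      (((pullback g).obj F).restrict U'.ι).presheaf.map i
        (((pullback g).obj F).presheaf.map (homOfLE (U'.ι.image_preimage_le (g ⁻¹ᵁ U))).op
          (((adjP g).unit.app F).app U s)) := by
  have h1 := congrArg (fun φ => (Scheme.Modules.Hom.app φ U) s) (unit_pullOnIso g U U' h F)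
  refine Eq.trans ?_ (h1.trans ?_)
  · rfl
  · simp only [Hom.comp_app, NatTrans.comp_app, pushforward_map_app, restrictAdjunction_unit_app_app,
      pushforwardCongr_inv_app_app, ConcreteCategory.comp_apply]
    exact map_congr (((pullback g).obj F).restrict U'.ι) _ i _

theorem sectH0_apply (F : X.Modules) (U : X.Opens) (s : F.presheaf.obj (op U)) :
    CohPull.sectH0 F U s =
      (Sheaf.H.equiv₀ (Coh.toAb (F.restrict U.ι))
        (Limits.isTerminalTop : Limits.IsTerminal (⊤ : U.toScheme.Opens))).symm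
        (F.presheaf.map (eqToHom U.ι_image_top).op s) :=
  AddEquiv.trans_apply _ _ _

theorem equiv₀_sectH0 (F : X.Modules) (U : X.Opens) (s : F.presheaf.obj (op U)) :
    Sheaf.H.equiv₀ (Coh.toAb (F.restrict U.ι)) (Limits.isTerminalTop : Limits.IsTerminal (⊤ : U.toScheme.Opens))
      (CohPull.sectH0 F U s) = F.presheaf.map (eqToHom U.ι_image_top).op s :=
  (congrArg _ (sectH0_apply F U s)).trans (AddEquiv.apply_symm_apply _ _)

theorem pullMod_symm (g : X ⟶ Y) (M : Y.Modules) (y : M.presheaf.obj (op ⊤)) :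
    CohPull.pullMod g M 0 ((Sheaf.H.equiv₀ (Coh.toAb M) Limits.isTerminalTop).symm y) =
      (Sheaf.H.equiv₀ (Coh.toAb ((pullback g).obj M)) Limits.isTerminalTop).symm
        (((pullbackPushforwardAdjunction g).unit.app M).app ⊤ y) :=
  (AddEquiv.eq_symm_apply _).mpr ((CohPull.equiv₀_pullMod g M _).trans
    (congrArg _ (AddEquiv.apply_symm_apply _ _)))

/-- generic element chase: `toSheaf.map b` on a unit-section is the section of `unit ≫ f_* b` -/
theorem chase (f : X ⟶ Y) (M : Y.Modules) (N : X.Modules) (b : (pullback f).obj M ⟶ N)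
    (x : M.presheaf.obj (op ⊤)) :
    ((SheafOfModules.toSheaf X.ringCatSheaf).map b).hom.app (op ⊤)
        (((pullbackPushforwardAdjunction f).unit.app M).app ⊤ x) =
      ((adjP f).unit.app M ≫ (pushforward f).map b).app ⊤ x := rfl

theorem comp_push_app (f : X ⟶ Y) (M : Y.Modules) (N : X.Modules) (b : (pullback f).obj M ⟶ N)
    (V : Y.Opens) (x : M.presheaf.obj (op V)) :
    ((adjP f).unit.app M ≫ (pushforward f).map b).app V x =
      b.app (f ⁻¹ᵁ V) (((adjP f).unit.app M).app V x) := rfl

theorem nat_push (f : X ⟶ Y) (M : Y.Modules) (N : X.Modules) (φ : M ⟶ (pushforward f).obj N)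
    {V W : Y.Opens} (i : V ⟶ W) (x : M.presheaf.obj (op W)) :
    φ.app V (M.presheaf.map i.op x) =
      N.presheaf.map ((Opens.map f.base).map i).op (φ.app W x) :=
  ConcreteCategory.congr_hom (φ.mapPresheaf.naturality i.op) x

theorem restrict_map_apply (M : Y.Modules) (f : X ⟶ Y) [IsOpenImmersion f] {V W : X.Opens} (i : V ⟶ W)
    (x : (M.restrict f).presheaf.obj (op W)) :
    (M.restrict f).presheaf.map i.op x = M.presheaf.map (f.opensFunctor.map i).op x := rfl

theorem chase2 (f : X ⟶ Y) (M : Y.Modules) (N : X.Modules) (b : (pullback f).obj M ⟶ N)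
    {V : Y.Opens} (i : (⊤ : Y.Opens) ⟶ V) (x : M.presheaf.obj (op V)) :
    ((SheafOfModules.toSheaf X.ringCatSheaf).map b).hom.app (op ⊤)
        (((pullbackPushforwardAdjunction f).unit.app M).app ⊤ (M.presheaf.map i.op x)) =
      N.presheaf.map ((Opens.map f.base).map i).op
        (b.app (f ⁻¹ᵁ V) (((adjP f).unit.app M).app V x)) :=
  (chase f M N b _).trans ((nat_push f M N _ i x).trans rfl)

/-- the section-level content of `pullOn_sectH0` -/
theorem sections_chase (g : X ⟶ Y) (U : Y.Opens) (U' : X.Opens) (h : U' ≤ g ⁻¹ᵁ U) (F : Y.Modules)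
    (s : F.presheaf.obj (op U)) :
    ((SheafOfModules.toSheaf _).map (CohPull.pullOnIso g U U' h F).hom).hom.app (op ⊤)
        (((pullbackPushforwardAdjunction (g.resLE U U' h)).unit.app (F.restrict U.ι)).app ⊤
          (F.presheaf.map (eqToHom U.ι_image_top).op s)) =
      ((pullback g).obj F).presheaf.map (eqToHom U'.ι_image_top).op
        (((pullback g).obj F).presheaf.map (homOfLE h).op (((adjP g).unit.app F).app U s)) := by
  have e₀ : (⊤ : U.toScheme.Opens) = U.ι ⁻¹ᵁ U := (Scheme.Opens.ι_preimage_self U).symm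
  have hx : F.presheaf.map (eqToHom U.ι_image_top).op s =
      (F.restrict U.ι).presheaf.map (eqToHom e₀).op
        (F.presheaf.map (homOfLE (U.ι.image_preimage_le U)).op s) := by
    refine Eq.trans ?_ (restrict_map_apply F U.ι (eqToHom e₀) _).symm
    refine Eq.trans ?_ (map_map F _ _ s).symm
    exact map_congr _ _ _ _
  refine (congrArg (fun z : (F.restrict U.ι).presheaf.obj (op ⊤) =>
    ((SheafOfModules.toSheaf _).map (CohPull.pullOnIso g U U' h F).hom).hom.app (op ⊤)
        (((pullbackPushforwardAdjunction (g.resLE U U' h)).unit.app (F.restrict U.ι)).app ⊤ z)) hx).trans ?_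
  refine (chase2 (g.resLE U U' h) (F.restrict U.ι) (((pullback g).obj F).restrict U'.ι)
    (CohPull.pullOnIso g U U' h F).hom (eqToHom e₀)
    (F.presheaf.map (homOfLE (U.ι.image_preimage_le U)).op s)).trans ?_
  refine (congrArg (fun z => (((pullback g).obj F).restrict U'.ι).presheaf.map
      ((Opens.map (g.resLE U U' h).base).map (eqToHom e₀)).op z)
    (pullOnIso_sections g U U' h F s
      (eqToHom (by rw [← Scheme.Hom.comp_preimage, ← Scheme.Hom.comp_preimage,
        Scheme.Hom.resLE_comp_ι])).op)).trans ?_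
  refine (restrict_map_apply ((pullback g).obj F) U'.ι _ _).trans ?_
  refine (congrArg _ (restrict_map_apply ((pullback g).obj F) U'.ι (eqToHom _) _)).trans ?_
  refine (map_map _ _ _ _).trans ?_
  refine (map_map _ _ _ _).trans ?_
  refine Eq.trans ?_ (map_map _ _ _ _).symm
  exact map_congr _ _ _ _

/-- `CohPull.pullOn` in degree zero, on classes of sections -/
theorem pullOn_sectH0 (g : X ⟶ Y) (U : Y.Opens) (U' : X.Opens) (h : U' ≤ g ⁻¹ᵁ U) (F : Y.Modules)
    (s : F.presheaf.obj (op U)) :
    CohPull.pullOn g U U' h F 0 (CohPull.sectH0 F U s) =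
      CohPull.sectH0 ((pullback g).obj F) U'
        (((pullback g).obj F).presheaf.map (homOfLE h).op (((adjP g).unit.app F).app U s)) := by
  refine (congrArg _ (sectH0_apply F U s)).trans ?_
  refine Eq.trans ?_ (sectH0_apply _ U' _).symm
  refine (AddMonoidHom.comp_apply _ _ _).trans ?_
  refine (congrArg _ (pullMod_symm (g.resLE U U' h) (F.restrict U.ι) _)).trans ?_
  refine (Sheaf.H.equiv₀_symm_naturality _ _ _).trans ?_
  exact congrArg _ (sections_chase g U U' h F s)

end

end Groth.Agent.R2.H81.Deg0
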