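import Mathlib
import Groth.Prelude.Def_CohCmp
import Groth.Agent.Lib.Helper23SectCmpLib

/-!
# Sections, `H^0`, effaceability and local exactness for the comparison maps (helper81)
-/

set_option autoImplicit false
universe u

open CategoryTheory CategoryTheory.Limits AlgebraicGeometry TopologicalSpace Opposite Abelian

namespace Groth.Agent.R2.H81.Sect

noncomputable section

variable {X : Scheme.{u}}

/-- `sectH0` is natural in the module. -/
theorem mapH_sectH0 {F F' : X.Modules} (ψ : F ⟶ F') (U : X.Opens) (s : F.presheaf.obj (op U)) :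
    CohPull.mapH ((Scheme.Modules.restrictFunctor U.ι).map ψ) 0 (CohPull.sectH0 F U s) =
      CohPull.sectH0 F' U (ψ.app U s) := by
  change Sheaf.H.map _ 0 ((Sheaf.H.equiv₀ (Coh.toAb (F.restrict U.ι)) isTerminalTop).symm _) =
    (Sheaf.H.equiv₀ (Coh.toAb (F'.restrict U.ι)) isTerminalTop).symm _
  rw [Sheaf.H.equiv₀_symm_naturality]
  congr 1
  exact ConcreteCategory.congr_hom (ψ.mapPresheaf.naturality (eqToHom U.ι_image_top).op) s

/-- the underlying abelian sheaf of the restriction of an injective module to an open is acyclic -/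
theorem subsingleton_HHon_of_injective (I : X.Modules) [Injective I] (U : X.Opens) (p : ℕ) :
    Subsingleton (Coh.HHon X I U (p + 1)) := by
  obtain ⟨e⟩ := Groth.Agent.Lib.Helper16.Restr.nonempty_HU_equiv (X := X.toTopCat) U (Coh.toAb I) (p + 1)
  haveI : Subsingleton (CohTop.HU (Coh.toAb I) (p + 1) U) :=
    Groth.Agent.Lib.Helper23.ModAbBridge.subsingleton_HE_of_injective I U p
  exact (show Coh.HHon X I U (p + 1) ≃ CohTop.HU (Coh.toAb I) (p + 1) U from e.symm.toEquiv).subsingleton

/-- the connecting homomorphism is onto when the middle term is injective -/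
theorem extδ_surjective (S : ShortComplex X.Modules) [Injective S.X₂] (U : X.Opens)
    (hA : (S.map (CohCmp.toAbOn X U)).ShortExact) (p : ℕ) (x : Coh.HHon X S.X₁ U (p + 1)) :
    ∃ x' : Coh.HHon X S.X₃ U p, CohCmp.extδ hA p x' = x := by
  haveI := subsingleton_HHon_of_injective S.X₂ U p
  have h0 : x.comp (Ext.mk₀ (S.map (CohCmp.toAbOn X U)).f) (add_zero (p + 1)) = 0 :=
    Subsingleton.elim (α := Coh.HHon X S.X₂ U (p + 1)) _ _
  obtain ⟨x', hx'⟩ := Ext.covariant_sequence_exact₁ _ hA x h0 rfl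
  exact ⟨x', hx'⟩

/-- the connecting homomorphism kills the image of `H^p(S.g)` -/
theorem extδ_mapH (S : ShortComplex X.Modules) (U : X.Opens)
    (hA : (S.map (CohCmp.toAbOn X U)).ShortExact) (p : ℕ) (z : Coh.HHon X S.X₂ U p) :
    CohCmp.extδ hA p (CohPull.mapH ((Scheme.Modules.restrictFunctor U.ι).map S.g) p z) = 0 := by
  have key : ∀ (A : ShortComplex (CohTop.Ab (U : Scheme.{u}))) (hA : A.ShortExact)
      (z : Ext.{u} (CohTop.const (U : Scheme.{u}) (ULift.{u} ℤ)) A.X₂ p),
      (z.comp (Ext.mk₀ A.g) (add_zero p)).comp hA.extClass rfl = 0 := by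
    intro A hA z
    rw [Ext.comp_assoc _ _ _ (add_zero p) (zero_add 1) (by omega), hA.comp_extClass, Ext.comp_zero]
  exact key _ hA z

end

section LocalExact

open Groth.Agent.Lib.Helper23.AffVanish

/-- exact sequences of abelian sheaves on a space are locally exact on sections -/
theorem exists_local_lift_of_exact_ab {Y : TopCat.{u}} (T : ShortComplex (CohTop.Ab Y)) (hT : T.Exact)
    (V : Opens Y) (b : T.X₂.obj.obj (op V)) (hb : (T.g.hom.app (op V)).hom b = 0) (y : Y) (hy : y ∈ V) :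
    ∃ (W : Opens Y) (hWV : W ≤ V), y ∈ W ∧ ∃ a : T.X₁.obj.obj (op W),
      (T.f.hom.app (op W)).hom a = (T.X₂.obj.map (homOfLE hWV).op).hom b := by
  let x : ZU V ⟶ T.X₂ := CohFree.ofSect (J Y) V T.X₂ b
  have hx : x ≫ T.g = 0 := by
    apply (CohFree.homEquivSect (J Y) V T.X₃).injective
    refine Eq.trans ?_ (map_zero _).symm
    change (T.g.hom.app (op V)).hom (CohFree.evalGen (J Y) V T.X₂ x) = 0
    rw [CohFree.evalGen_ofSect]
    exact hb
  obtain ⟨A', π, hπ, y', hy'⟩ := hT.exact_up_to_refinements x hx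
  obtain ⟨W, hWV, ⟨q, hq⟩, hyW⟩ :=
    (Groth.Agent.Lib.Helper16.ClosedEmb.locSurj_iff π).1 hπ V (CohFree.gen (J Y) V) y hy
  refine ⟨W, hWV, hyW, (y'.hom.app (op W)).hom q, ?_⟩
  have h1 : (T.f.hom.app (op W)).hom ((y'.hom.app (op W)).hom q) =
      (x.hom.app (op W)).hom ((π.hom.app (op W)).hom q) := by
    have := congrArg (fun t : A' ⟶ T.X₂ => (t.hom.app (op W)).hom q) hy'
    exact this.symm
  refine h1.trans ?_
  rw [hq]
  have nat := ConcreteCategory.congr_hom (x.hom.naturality (homOfLE hWV).op) (CohFree.gen (J Y) V)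
  refine nat.trans ?_
  have h2 : (x.hom.app (op V)).hom (CohFree.gen (J Y) V) = b :=
    CohFree.evalGen_ofSect (J Y) V T.X₂ b
  change (T.X₂.obj.map (homOfLE hWV).op).hom ((x.hom.app (op V)).hom (CohFree.gen (J Y) V)) = _
  rw [h2]

variable {Y : Scheme.{u}}

/-- exact sequences of modules are locally exact on sections -/
theorem exists_local_lift_of_exact (T : ShortComplex Y.Modules) (hT : T.Exact)
    (V : Y.Opens) (b : T.X₂.presheaf.obj (op V)) (hb : T.g.app V b = 0) (y : Y) (hy : y ∈ V) :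
    ∃ (W : Y.Opens) (hWV : W ≤ V), y ∈ W ∧ ∃ a : T.X₁.presheaf.obj (op W),
      T.f.app W a = T.X₂.presheaf.map (homOfLE hWV).op b := by
  let E : SheafOfModules.{u} Y.ringCatSheaf ⥤ Sheaf (Opens.grothendieckTopology Y) AddCommGrpCat.{u} :=
    SheafOfModules.toSheaf Y.ringCatSheaf
  let T₀ : ShortComplex (SheafOfModules.{u} Y.ringCatSheaf) := T
  have hT₀ : T₀.Exact := hT
  have hT' : (T₀.map E).Exact := hT₀.map E
  exact exists_local_lift_of_exact_ab (Y := Y.toTopCat) (T₀.map E) hT' V b hb y hy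

end LocalExact

end Groth.Agent.R2.H81.Sect
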