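import Mathlib
import Groth.Prelude.Def_CohCmp
import Groth.Agent.R2.H81Deg0
import Groth.Agent.R2.H81Sect
import Groth.Agent.R2.H81ResLE

/-!
# `CohPull.resLE` in degree zero is restriction of sections (helper81)
-/

set_option autoImplicit false
universe u

open CategoryTheory AlgebraicGeometry TopologicalSpace Opposite

namespace Groth.Agent.R2.H81.ResLE0

open Groth.Agent.R2.H81.Conj Groth.Agent.R2.H81.Deg0 Scheme.Modules

noncomputable section

variable {X : Scheme.{u}}




/-- the triangle identity for `pullbackId`: on sections, the unit of `(𝟙 X)^* ⊣ (𝟙 X)_*` followed by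
`pullbackId` is the identity -/
theorem pullbackId_unit_app (F : X.Modules) (U : X.Opens) (s : F.presheaf.obj (op U)) :
    ((pullbackId X).hom.app F).app ((𝟙 X : X ⟶ X) ⁻¹ᵁ U) (((adjP (𝟙 X)).unit.app F).app U s) = s := by
  have h1 := unit_conjugateEquiv Adjunction.id (adjP (𝟙 X)) (pullbackId X).hom F
  rw [conjugateEquiv_pullbackId_hom] at h1
  have h2 := congrArg (fun φ => (Scheme.Modules.Hom.app φ U) s) h1
  exact h2.symm

theorem hom_naturality_apply {M N : X.Modules} (ψ : M ⟶ N) {V W : X.Opens} (i : op V ⟶ op W)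
    (x : M.presheaf.obj (op V)) :
    ψ.app W (M.presheaf.map i x) = N.presheaf.map i (ψ.app V x) :=
  ConcreteCategory.congr_hom (ψ.mapPresheaf.naturality i) x

/-- **`CohPull.resLE` in degree zero is restriction of sections.** -/
theorem resLE_sectH0 (F : X.Modules) {U U' : X.Opens} (h : U' ≤ U) (s : F.presheaf.obj (op U)) :
    CohPull.resLE F h 0 (CohPull.sectH0 F U s) =
      CohPull.sectH0 F U' (F.presheaf.map (homOfLE h).op s) := by
  refine (AddMonoidHom.comp_apply _ _ _).trans ?_
  refine (congrArg _ (pullOn_sectH0 (𝟙 X) U U' (ResLE.le_id_preimage h) F s)).trans ?_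
  refine (Sect.mapH_sectH0 ((pullbackId X).hom.app F) U' _).trans ?_
  refine congrArg _ ?_
  refine (hom_naturality_apply ((pullbackId X).hom.app F) (homOfLE (ResLE.le_id_preimage h)).op _).trans ?_
  exact congrArg _ (pullbackId_unit_app F U s)

end

end Groth.Agent.R2.H81.ResLE0
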