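import Mathlib
import Groth.Prelude.Def_CohCmp
import Groth.Agent.Lib.Helper16Restr
import Groth.Agent.Lib.Helper23AffOpen2
import Groth.Agent.R2.H81ResLE0
import Groth.Agent.R2.H81ResLE
import Groth.Agent.R2.H81Sect

/-!
# The two models of `H^n(U, M)` for an open `U` of a scheme (helper81)

`HE (ab' M) n U = Ext^n(ℤ_U, M)` computed on `X` (helper23/helper1) versus the prelude's
`Coh.HHon X M U n = Ext^n(ℤ, M|_U)` computed on `U`: the bridge `β` is bijective and commutes with restrictions
(`resE` versus `CohPull.resLE`).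
-/

set_option autoImplicit false
universe u

open CategoryTheory CategoryTheory.Limits AlgebraicGeometry TopologicalSpace Opposite Abelian

namespace Groth.Agent.R2.H81.Bridge

open Groth.Agent.Lib.Helper23.AffVanish Groth.Agent.Lib.Helper16.Restr Groth.Agent.Lib.Helper16.ExtCompare
  Groth.Agent.Lib.Helper16.ClosedEmb Groth.Agent.R2.H81.ExtTrans

noncomputable section

variable {X : Scheme.{u}}

instance instPFL (U : X.Opens) : PreservesFiniteLimits (CohTop.restrFunctor (X := X.toTopCat) U) :=
  restr_preservesFiniteLimits U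

instance instPFC (U : X.Opens) : PreservesFiniteColimits (CohTop.restrFunctor (X := X.toTopCat) U) :=
  restr_preservesFiniteColimits U

/-- the bridge from `Ext^n(ℤ_U, M)` on `X` to `Ext^n(ℤ, M|_U)` on `U` -/
def β (M : X.Modules) (n : ℕ) (U : X.Opens) : HE (ab' M) n U →+ Coh.HHon X M U n :=
  trans (CohTop.restrFunctor (X := X.toTopCat) U) (wU U)
    (𝟙 ((CohTop.restrFunctor (X := X.toTopCat) U).obj (ab' M))) n

theorem β_eq_cmp (M : X.Modules) (n : ℕ) (U : X.Opens) (x : HE (ab' M) n U) :
    β M n U x = cmp (CohTop.restrFunctor (X := X.toTopCat) U) (wU U) (ab' M) n x := by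
  refine (trans_apply (CohTop.restrFunctor (X := X.toTopCat) U) (wU U)
    (𝟙 ((CohTop.restrFunctor (X := X.toTopCat) U).obj (ab' M))) n x).trans ?_
  rw [Ext.comp_mk₀_id]
  rfl

theorem β_bijective (M : X.Modules) (n : ℕ) (U : X.Opens) : Function.Bijective (β M n U) := by
  have hb := Groth.Agent.Lib.Helper16.ExtCompare.cmp_bijective.{u, u}
    (CohTop.restrFunctor (X := X.toTopCat) U) (wU U)
    (wU_bijective U) (fun I _ m => by
      have := Groth.Agent.Lib.Helper16.Flasque.injective_isFlasque I
      exact Groth.Agent.Lib.Helper16.Flasque.H_subsingleton ((CohTop.restrFunctor U).obj I) m) n (ab' M)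
  have e : (β M n U : HE (ab' M) n U → Coh.HHon X M U n) =
      cmp (CohTop.restrFunctor (X := X.toTopCat) U) (wU U) (ab' M) n := funext (β_eq_cmp M n U)
  rw [e]
  exact hb

end

end Groth.Agent.R2.H81.Bridge
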