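import Mathlib
import Groth.Prelude.Def_CohCmp
import Groth.Agent.R2.H81Bridge

/-!
# The bridge `β` in degree zero (helper81)
-/

set_option autoImplicit false
universe u

open CategoryTheory CategoryTheory.Limits AlgebraicGeometry TopologicalSpace Opposite Abelian

namespace Groth.Agent.R2.H81.Bridge

open Groth.Agent.Lib.Helper23.AffVanish Groth.Agent.Lib.Helper16.Restr Groth.Agent.Lib.Helper16.ExtCompare
  Groth.Agent.Lib.Helper16.ClosedEmb Groth.Agent.R2.H81.ExtTrans Groth.Agent.R2.H81.Deg0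

noncomputable section

variable {X : Scheme.{u}}

/-- `Sheaf.H.equiv₀` of a degree-zero class `mk₀ χ` -/
theorem equiv₀_mk₀ {Y : TopCat.{u}} (G : CohTop.Ab Y) (χ : constZ Y ⟶ G) :
    Sheaf.H.equiv₀ G (isTerminalTop : IsTerminal (⊤ : Opens Y)) (Ext.mk₀ χ) =
      ((adjC Y).homEquiv _ _ χ) ⟨1⟩ := by
  have h : Ext.addEquiv₀ (Ext.mk₀ χ) = χ := addEquiv₀_mk₀ χ
  change AddCommGrpCat.uliftZMultiplesAddEquiv _ ((adjC Y).homEquiv _ _ (Ext.addEquiv₀ (Ext.mk₀ χ))) = _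
  rw [h]
  rfl

/-- the bridge in degree zero: classes of sections -/
theorem β_zero (M : X.Modules) (U : X.Opens) (x : HE (ab' M) 0 U) :
    β M 0 U x = CohPull.sectH0 M U (h0F' M U x) := by
  obtain ⟨φ, rfl⟩ := (Ext.mk₀_bijective _ _).2 x
  refine (β_eq_cmp M 0 U _).trans ?_
  refine (cmp_mk₀ (CohTop.restrFunctor (X := X.toTopCat) U) (wU U) (ab' M) φ).trans ?_
  refine Eq.trans ?_ (sectH0_apply M U _).symm
  refine ((AddEquiv.eq_symm_apply _).mpr ?_)
  refine (equiv₀_mk₀ _ _).trans ?_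
  refine (homEquiv_wU_comp U φ).trans ?_
  have h : h0F' M U (Ext.mk₀ φ) = CohFree.evalGen (J X.toTopCat) U (ab' M) φ := by
    change CohFree.evalGen _ U _ (Ext.addEquiv₀ (Ext.mk₀ φ)) = _
    rw [addEquiv₀_mk₀]
    rfl
  rw [h]
  exact map_congr M _ _ _

end

end Groth.Agent.R2.H81.Bridge
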