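import Mathlib
import Groth.Prelude.Def_CohCmp
import Groth.Agent.R2.H81Bridge0
import Groth.Agent.Lib.Helper23SectCmpLib

/-!
# The bridge `β` commutes with restrictions (helper81)
-/

set_option autoImplicit false
universe u

open CategoryTheory CategoryTheory.Limits AlgebraicGeometry TopologicalSpace Opposite Abelian

namespace Groth.Agent.R2.H81.Bridge

open Groth.Agent.Lib.Helper23.AffVanish Groth.Agent.Lib.Helper16.Restr Groth.Agent.Lib.Helper16.ExtCompare
  Groth.Agent.Lib.Helper16.ClosedEmb Groth.Agent.R2.H81.ExtTrans Groth.Agent.R2.H81.Deg0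
  Groth.Agent.Lib.Helper23.SectCmpLib

noncomputable section

variable {X : Scheme.{u}}

/-- the underlying short complex of abelian sheaves of a short complex of modules -/
abbrev abCx (S : ShortComplex X.Modules) : ShortComplex (CohTop.Ab X.toTopCat) :=
  ShortComplex.map (C := SheafOfModules.{u} X.ringCatSheaf) S (SheafOfModules.toSheaf X.ringCatSheaf)

theorem abCx_shortExact (S : ShortComplex X.Modules) (hS : S.ShortExact) : (abCx S).ShortExact := by
  let E : SheafOfModules.{u} X.ringCatSheaf ⥤ Sheaf (Opens.grothendieckTopology X) AddCommGrpCat.{u} :=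
    SheafOfModules.toSheaf X.ringCatSheaf
  let S' : ShortComplex (SheafOfModules.{u} X.ringCatSheaf) := S
  have hS' : S'.ShortExact := hS
  have h1 : (S'.map E).ShortExact := hS'.map_of_exact E
  exact h1

/-- the bridge commutes with the connecting maps -/
theorem β_extClass (S : ShortComplex X.Modules) (hS : S.ShortExact) (U : X.Opens)
    (hA : (S.map (CohCmp.toAbOn X U)).ShortExact) (n : ℕ) (x : HE (ab' S.X₃) n U) :
    β S.X₁ (n + 1) U (x.comp (abCx_shortExact S hS).extClass rfl) = CohCmp.extδ hA n (β S.X₃ n U x) :=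
  trans_extClass (CohTop.restrFunctor (X := X.toTopCat) U) (wU U) (abCx_shortExact S hS) hA
    (𝟙 ((CohCmp.toAbOn X U).obj S.X₁)) (𝟙 ((CohCmp.toAbOn X U).obj S.X₂)) (𝟙 ((CohCmp.toAbOn X U).obj S.X₃))
    ((Category.id_comp _).trans (Eq.trans rfl (Category.comp_id _).symm))
    ((Category.id_comp _).trans (Eq.trans rfl (Category.comp_id _).symm)) n x

end

end Groth.Agent.R2.H81.Bridge
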