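import Mathlib
import Groth.Prelude.Def_CohCmp
import Groth.Agent.R2.H81Bridge1

/-!
# The bridge `β` commutes with restrictions (helper81)
-/

set_option autoImplicit false
universe u

open CategoryTheory CategoryTheory.Limits AlgebraicGeometry TopologicalSpace Opposite Abelian

namespace Groth.Agent.R2.H81.Bridge

open Groth.Agent.Lib.Helper23.AffVanish Groth.Agent.Lib.Helper16.Restr Groth.Agent.Lib.Helper16.ExtCompare
  Groth.Agent.Lib.Helper16.ClosedEmb Groth.Agent.R2.H81.ExtTrans Groth.Agent.R2.H81.Deg0
  Groth.Agent.Lib.Helper23.SectCmpLib Groth.Agent.R2.H81.ResLE0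

noncomputable section

variable {X : Scheme.{u}}

/-- degree zero -/
theorem resLE_β_zero (M : X.Modules) {U U' : X.Opens} (h : U' ≤ U) (x : HE (ab' M) 0 U) :
    CohPull.resLE M h 0 (β M 0 U x) = β M 0 U' (resE (ab' M) 0 h x) := by
  refine (congrArg (CohPull.resLE M h 0) (β_zero M U x)).trans ?_
  refine (resLE_sectH0 M h _).trans ?_
  refine Eq.trans ?_ (β_zero M U' _).symm
  exact congrArg (CohPull.sectH0 M U') (h0F'_res M h x).symm

/-- the inductive step -/
theorem resLE_β_step (n : ℕ)
    (ih : ∀ (M : X.Modules) (U U' : X.Opens) (h : U' ≤ U) (x : HE (ab' M) n U),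
      CohPull.resLE M h n (β M n U x) = β M n U' (resE (ab' M) n h x))
    (S : ShortComplex X.Modules) (hS : S.ShortExact) [Injective S.X₂] (U U' : X.Opens) (h : U' ≤ U)
    (x : HE (ab' S.X₁) (n + 1) U) :
    CohPull.resLE S.X₁ h (n + 1) (β S.X₁ (n + 1) U x) = β S.X₁ (n + 1) U' (resE (ab' S.X₁) (n + 1) h x) := by
  have hA := toAbOn_shortExact U S hS
  have hA' := toAbOn_shortExact U' S hS
  have hT := abCx_shortExact S hS
  have : Subsingleton (HE (ab' S.X₂) (n + 1) U) :=
    Groth.Agent.Lib.Helper23.ModAbBridge.subsingleton_HE_of_injective S.X₂ U n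
  have h0 : x.comp (Ext.mk₀ (abCx S).f) (add_zero (n + 1)) = 0 :=
    Subsingleton.elim (α := HE (ab' S.X₂) (n + 1) U) _ _
  obtain ⟨x', rfl⟩ := Ext.covariant_sequence_exact₁ _ hT x h0 rfl
  refine (congrArg (CohPull.resLE S.X₁ h (n + 1)) (β_extClass S hS U hA n x')).trans ?_
  refine (ResLE.resLE_extδ S h hA hA' n _).trans ?_
  refine (congrArg (CohCmp.extδ hA' n) (ih S.X₃ U U' h x')).trans ?_
  refine (β_extClass S hS U' hA' n _).symm.trans ?_
  refine congrArg (β S.X₁ (n + 1) U') ?_
  rw [resE_apply, resE_apply, Ext.comp_assoc _ _ _ (zero_add n) rfl (by omega)]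
  rfl

/-- **the bridge commutes with restrictions** -/
theorem resLE_β [EnoughInjectives X.Modules] (n : ℕ) :
    ∀ (M : X.Modules) (U U' : X.Opens) (h : U' ≤ U) (x : HE (ab' M) n U),
      CohPull.resLE M h n (β M n U x) = β M n U' (resE (ab' M) n h x) := by
  induction n with
  | zero =>
    intro M U U' h x
    exact resLE_β_zero M h x
  | succ n ih =>
    intro M U U' h x
    have hS : (ShortComplex.mk (Injective.ι M) (cokernel.π (Injective.ι M))
        (cokernel.condition _)).ShortExact :=
      { exact := ShortComplex.exact_cokernel _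
        mono_f := inferInstanceAs (Mono (Injective.ι M))
        epi_g := inferInstanceAs (Epi (cokernel.π (Injective.ι M))) }
    have hI : Injective (ShortComplex.mk (Injective.ι M) (cokernel.π (Injective.ι M))
        (cokernel.condition _)).X₂ := inferInstanceAs (Injective (Injective.under M))
    exact resLE_β_step n ih _ hS U U' h x

end

end Groth.Agent.R2.H81.Bridge
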