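import Mathlib
import Groth.Prelude.Def_CohCmp
import Groth.Agent.Lib.Helper23SectCmpLib
import Groth.Agent.R2.H81ResLE
import Groth.Agent.R2.H81ResLE0
import Groth.Agent.R2.H81Sect

/-!
# The comparison maps `ε` are locally injective (helper81)
-/

set_option autoImplicit false
universe u
open CohCmp

namespace Groth.Agent.R2.H81.LocInj

open AlgebraicGeometry CategoryTheory Scheme.Modules Opposite Limits TopologicalSpace

open Groth.Agent.Lib.Helper23.SectCmpLib Groth.Agent.R2.H81.ResLE0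

noncomputable section

variable {X Y : Scheme.{u}}


theorem sections_eq_zero_of_isZero {M : Y.Modules} (hM : IsZero M) {W : Y.Opens}
    (t : M.presheaf.obj (op W)) : t = 0 := by
  have h : 𝟙 M = 0 := hM.eq_of_src _ _
  have h2 := congrArg (fun φ : M ⟶ M => φ.app W t) h
  exact h2

theorem app_injective_of_isIso {M N : Y.Modules} (τ : M ⟶ N) [IsIso τ] {W : Y.Opens}
    (s : M.presheaf.obj (op W)) (hs : τ.app W s = 0) : s = 0 := by
  have h := congrArg (fun φ : M ⟶ M => φ.app W s) (IsIso.hom_inv_id τ)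
  have h2 : (inv τ).app W (τ.app W s) = s := h
  rw [← h2, hs, map_zero]

theorem app_injective_of_isIso' {M N : Y.Modules} (τ : M ⟶ N) [IsIso τ] {W : Y.Opens}
    (a b : M.presheaf.obj (op W)) (hab : τ.app W a = τ.app W b) : a = b := by
  have ha : (inv τ).app W (τ.app W a) = a :=
    congrArg (fun φ : M ⟶ M => φ.app W a) (IsIso.hom_inv_id τ)
  have hb : (inv τ).app W (τ.app W b) = b :=
    congrArg (fun φ : M ⟶ M => φ.app W b) (IsIso.hom_inv_id τ)
  rw [← ha, ← hb, hab]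

theorem map_id_apply (M : Y.Modules) {V : Y.Opens} (hVV : V ≤ V) (t : M.presheaf.obj (op V)) :
    M.presheaf.map (homOfLE hVV).op t = t := by
  have h3 : (homOfLE hVV).op = 𝟙 (op V) := rfl
  rw [h3, CategoryTheory.Functor.map_id]
  rfl

theorem map_map_apply (M : Y.Modules) {V W T : Y.Opens} (hWV : W ≤ V) (hTW : T ≤ W)
    (t : M.presheaf.obj (op V)) :
    M.presheaf.map (homOfLE hTW).op (M.presheaf.map (homOfLE hWV).op t) =
      M.presheaf.map (homOfLE (hTW.trans hWV)).op t := by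
  rw [← ConcreteCategory.comp_apply, ← Functor.map_comp]
  rfl

variable (f : X ⟶ Y) [HasInjectiveResolutions X.Modules] {Δ : RDer.DerivedLES (pushforward f)}
  (E : CohCmp.SectCmp f Δ)

/-- degree zero: a class whose image under `ε` restricts to zero restricts to zero -/
theorem base_case [EnoughInjectives X.Modules] (F : X.Modules) {V W : Y.Opens} (hWV : W ≤ V)
    (x : Coh.HHon X F (f ⁻¹ᵁ V) 0)
    (hx : ((Coh.Rpush f 0).obj F).presheaf.map (homOfLE hWV).op (E.ε V F 0 x) = 0) :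
    CohPull.resLE F (f.preimage_mono hWV) 0 x = 0 := by
  obtain ⟨s, rfl⟩ := (CohPull.sectH0 F (f ⁻¹ᵁ V)).surjective x
  rw [E.zero V F s] at hx
  let τ := (pushforward f).toRightDerivedZero.app F
  have : IsIso τ := inferInstance
  have nat : τ.app W (((pushforward f).obj F).presheaf.map (homOfLE hWV).op s) =
      ((Coh.Rpush f 0).obj F).presheaf.map (homOfLE hWV).op (τ.app V s) :=
    hom_naturality_apply τ (homOfLE hWV).op s
  have h0 : ((pushforward f).obj F).presheaf.map (homOfLE hWV).op s = 0 :=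
    app_injective_of_isIso τ _ (nat.trans hx)
  refine (resLE_sectH0 F (f.preimage_mono hWV) s).trans ?_
  have h1 : F.presheaf.map (homOfLE (f.preimage_mono hWV)).op s = 0 := h0
  rw [h1, map_zero]

/-- local exactness of the long exact sequence at `R^p f_* S.X₃` -/
theorem exists_lift (S : ShortComplex X.Modules) (hS : S.ShortExact) {V W : Y.Opens} (hWV : W ≤ V) (p : ℕ)
    (b : ((Coh.Rpush f p).obj S.X₃).presheaf.obj (op V))
    (hb : ((Coh.Rpush f (p + 1)).obj S.X₁).presheaf.map (homOfLE hWV).op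
      ((Δ.δ S hS p (p + 1) rfl).app V b) = 0) (y : Y) (hy : y ∈ W) :
    ∃ (W₁ : Y.Opens) (hW₁W : W₁ ≤ W), y ∈ W₁ ∧ ∃ t : ((Coh.Rpush f p).obj S.X₂).presheaf.obj (op W₁),
      ((Coh.Rpush f p).map S.g).app W₁ t =
        ((Coh.Rpush f p).obj S.X₃).presheaf.map (homOfLE (hW₁W.trans hWV)).op b := by
  have nat : (Δ.δ S hS p (p + 1) rfl).app W
      (((Coh.Rpush f p).obj S.X₃).presheaf.map (homOfLE hWV).op b) =
      ((Coh.Rpush f (p + 1)).obj S.X₁).presheaf.map (homOfLE hWV).op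
        ((Δ.δ S hS p (p + 1) rfl).app V b) :=
    hom_naturality_apply (Δ.δ S hS p (p + 1) rfl) (homOfLE hWV).op b
  obtain ⟨W₁, hW₁W, hyW₁, a, ha⟩ := Sect.exists_local_lift_of_exact
    (ShortComplex.mk _ _ (Δ.comp_δ S hS p (p + 1) rfl)) (Δ.exact₃ S hS p (p + 1) rfl) W
    (((Coh.Rpush f p).obj S.X₃).presheaf.map (homOfLE hWV).op b) (nat.trans hb) y hy
  refine ⟨W₁, hW₁W, hyW₁, a, ha.trans ?_⟩
  exact map_map_apply _ hWV hW₁W b

/-- the step from degree `0` to degree `1` -/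
theorem step_zero [EnoughInjectives X.Modules] (S : ShortComplex X.Modules) (hS : S.ShortExact)
    {V W₁ : Y.Opens} (hW₁V : W₁ ≤ V)
    (hA : (S.map (toAbOn X (f ⁻¹ᵁ V))).ShortExact)
    (x' : Coh.HHon X S.X₃ (f ⁻¹ᵁ V) 0) (t : ((Coh.Rpush f 0).obj S.X₂).presheaf.obj (op W₁))
    (ht : ((Coh.Rpush f 0).map S.g).app W₁ t =
      ((Coh.Rpush f 0).obj S.X₃).presheaf.map (homOfLE hW₁V).op (E.ε V S.X₃ 0 x')) :
    CohPull.resLE S.X₁ (f.preimage_mono hW₁V) 1 (extδ hA 0 x') = 0 := by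
  have hA' := toAbOn_shortExact (f ⁻¹ᵁ W₁) S hS
  obtain ⟨s', rfl⟩ := (CohPull.sectH0 S.X₃ (f ⁻¹ᵁ V)).surjective x'
  rw [E.zero V S.X₃ s'] at ht
  let τI := (pushforward f).toRightDerivedZero.app S.X₂
  let τQ := (pushforward f).toRightDerivedZero.app S.X₃
  have : IsIso τI := inferInstance
  have : IsIso τQ := inferInstance
  let s₁ : S.X₂.presheaf.obj (op (f ⁻¹ᵁ W₁)) := (inv τI).app W₁ t
  have hs₁ : τI.app W₁ s₁ = t :=
    congrArg (fun φ : (Coh.Rpush f 0).obj S.X₂ ⟶ (Coh.Rpush f 0).obj S.X₂ => φ.app W₁ t)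
      (IsIso.inv_hom_id τI)
  have hnat : (pushforward f).map S.g ≫ τQ = τI ≫ (Coh.Rpush f 0).map S.g :=
    (pushforward f).toRightDerivedZero.naturality S.g
  have h2 : τQ.app W₁ (S.g.app (f ⁻¹ᵁ W₁) s₁) = ((Coh.Rpush f 0).map S.g).app W₁ (τI.app W₁ s₁) :=
    congrArg (fun φ : (pushforward f).obj S.X₂ ⟶ (Coh.Rpush f 0).obj S.X₃ => φ.app W₁ s₁) hnat
  have h3 : τQ.app W₁ (((pushforward f).obj S.X₃).presheaf.map (homOfLE hW₁V).op s') =
      ((Coh.Rpush f 0).obj S.X₃).presheaf.map (homOfLE hW₁V).op (τQ.app V s') :=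
    hom_naturality_apply τQ (homOfLE hW₁V).op s'
  have h4 : S.g.app (f ⁻¹ᵁ W₁) s₁ = S.X₃.presheaf.map (homOfLE (f.preimage_mono hW₁V)).op s' := by
    have h5 : τQ.app W₁ (S.g.app (f ⁻¹ᵁ W₁) s₁) =
        τQ.app W₁ (((pushforward f).obj S.X₃).presheaf.map (homOfLE hW₁V).op s') := by
      rw [h2, hs₁, ht, h3]
    exact app_injective_of_isIso' τQ _ _ h5
  refine (ResLE.resLE_extδ S (f.preimage_mono hW₁V) hA hA' 0 _).trans ?_
  have h6 : CohPull.resLE S.X₃ (f.preimage_mono hW₁V) 0 (CohPull.sectH0 S.X₃ (f ⁻¹ᵁ V) s') =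
      CohPull.mapH ((restrictFunctor (f ⁻¹ᵁ W₁).ι).map S.g) 0 (CohPull.sectH0 S.X₂ (f ⁻¹ᵁ W₁) s₁) := by
    rw [resLE_sectH0, Sect.mapH_sectH0, h4]
  rw [h6]
  exact Sect.extδ_mapH S (f ⁻¹ᵁ W₁) hA' 0 _

omit [HasInjectiveResolutions X.Modules] in
/-- the step in degrees `≥ 1` -/
theorem step_succ (S : ShortComplex X.Modules) {U U' : X.Opens} (h : U' ≤ U)
    (hA : (S.map (toAbOn X U)).ShortExact) (hA' : (S.map (toAbOn X U')).ShortExact) (p : ℕ)
    (x' : Coh.HHon X S.X₃ U p) (hres : CohPull.resLE S.X₃ h p x' = 0) :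
    CohPull.resLE S.X₁ h (p + 1) (extδ hA p x') = 0 :=
  (ResLE.resLE_extδ S h hA hA' p x').trans
    ((congrArg (extδ hA' p) hres).trans (map_zero (extδ hA' p)))

end

end Groth.Agent.R2.H81.LocInj
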