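import Mathlib
import Groth.Prelude.Def_CohCmp
import Groth.Agent.Lib.Helper23SectCmpLib
import Groth.Agent.R2.H81LocInj

/-!
# The comparison maps `ε` commute with restriction to smaller opens (helper81)
-/

set_option autoImplicit false
universe u

open CategoryTheory CategoryTheory.Limits AlgebraicGeometry TopologicalSpace Opposite CohCmp

namespace Groth.Agent.R2.H81.EpsRes

open Groth.Agent.R2.H81.Deg0 Groth.Agent.R2.H81.ResLE0 Groth.Agent.R2.H81.LocInj
  Groth.Agent.Lib.Helper23.SectCmpLib Scheme.Modules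

noncomputable section

variable {X Y : Scheme.{u}}

variable (f : X ⟶ Y) [HasInjectiveResolutions X.Modules] {Δ : RDer.DerivedLES (pushforward f)}
  (E : CohCmp.SectCmp f Δ)

/-- degree zero -/
theorem eps_resLE_zero (F : X.Modules) {V W : Y.Opens} (hWV : W ≤ V) (x : Coh.HHon X F (f ⁻¹ᵁ V) 0) :
    E.ε W F 0 (CohPull.resLE F (f.preimage_mono hWV) 0 x) =
      ((Coh.Rpush f 0).obj F).presheaf.map (homOfLE hWV).op (E.ε V F 0 x) := by
  obtain ⟨s, rfl⟩ := (CohPull.sectH0 F (f ⁻¹ᵁ V)).surjective x
  refine (congrArg (E.ε W F 0) (resLE_sectH0 F (f.preimage_mono hWV) s)).trans ?_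
  refine (E.zero W F _).trans ?_
  refine Eq.trans ?_ (congrArg _ (E.zero V F s)).symm
  exact hom_naturality_apply ((pushforward f).toRightDerivedZero.app F) (homOfLE hWV).op s

/-- the inductive step, for a short exact sequence with injective middle term -/
theorem eps_resLE_step (p : ℕ)
    (ih : ∀ (F : X.Modules) (V W : Y.Opens) (hWV : W ≤ V) (x : Coh.HHon X F (f ⁻¹ᵁ V) p),
      E.ε W F p (CohPull.resLE F (f.preimage_mono hWV) p x) =
        ((Coh.Rpush f p).obj F).presheaf.map (homOfLE hWV).op (E.ε V F p x))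
    (S : ShortComplex X.Modules) (hS : S.ShortExact) [Injective S.X₂] (V W : Y.Opens) (hWV : W ≤ V)
    (x : Coh.HHon X S.X₁ (f ⁻¹ᵁ V) (p + 1)) :
    E.ε W S.X₁ (p + 1) (CohPull.resLE S.X₁ (f.preimage_mono hWV) (p + 1) x) =
      ((Coh.Rpush f (p + 1)).obj S.X₁).presheaf.map (homOfLE hWV).op (E.ε V S.X₁ (p + 1) x) := by
  have hA := toAbOn_shortExact (f ⁻¹ᵁ V) S hS
  have hA' := toAbOn_shortExact (f ⁻¹ᵁ W) S hS
  obtain ⟨x', rfl⟩ := Sect.extδ_surjective S (f ⁻¹ᵁ V) hA p x
  refine (congrArg (E.ε W S.X₁ (p + 1)) (ResLE.resLE_extδ S (f.preimage_mono hWV) hA hA' p x')).trans ?_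
  refine (E.delta W S hS hA' p _).trans ?_
  refine (congrArg _ (ih S.X₃ V W hWV x')).trans ?_
  refine Eq.trans ?_ (congrArg _ (E.delta V S hS hA p x')).symm
  exact hom_naturality_apply (Δ.δ S hS p (p + 1) rfl) (homOfLE hWV).op _

/-- **`ε` commutes with restriction** -/
theorem eps_resLE [EnoughInjectives X.Modules] (p : ℕ) :
    ∀ (F : X.Modules) (V W : Y.Opens) (hWV : W ≤ V) (x : Coh.HHon X F (f ⁻¹ᵁ V) p),
      E.ε W F p (CohPull.resLE F (f.preimage_mono hWV) p x) =
        ((Coh.Rpush f p).obj F).presheaf.map (homOfLE hWV).op (E.ε V F p x) := by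
  induction p with
  | zero =>
    intro F V W hWV x
    exact eps_resLE_zero f E F hWV x
  | succ p ih =>
    intro F V W hWV x
    have hS : (ShortComplex.mk (Injective.ι F) (cokernel.π (Injective.ι F))
        (cokernel.condition _)).ShortExact :=
      { exact := ShortComplex.exact_cokernel _
        mono_f := inferInstanceAs (Mono (Injective.ι F))
        epi_g := inferInstanceAs (Epi (cokernel.π (Injective.ι F))) }
    have hI : Injective (ShortComplex.mk (Injective.ι F) (cokernel.π (Injective.ι F))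
        (cokernel.condition _)).X₂ := inferInstanceAs (Injective (Injective.under F))
    exact eps_resLE_step f E p ih _ hS V W hWV x

end

end Groth.Agent.R2.H81.EpsRes
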