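import Mathlib
import Groth.Prelude.Def_CohCmp
import Groth.Agent.R2.H81EpsRes

/-!
# The comparison maps `ε` are linear over the functions of the base (helper81)

For `f : X ⟶ Y`, `V ⊆ Y` open and `r ∈ Γ(Y, V)`: `ε V F p (f^♯ r • x) = r • ε V F p x`, where `f^♯ r` acts on
`H^p(f⁻¹V, F|)` through the prelude's `Coh.moduleΓtop` (as a global function of the open subscheme `f⁻¹V`).
-/

set_option autoImplicit false
universe u

open CategoryTheory CategoryTheory.Limits AlgebraicGeometry TopologicalSpace Opposite Abelian CohCmp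

namespace Groth.Agent.R2.H81.EpsLin

open Groth.Agent.R2.H81.Deg0 Groth.Agent.R2.H81.ResLE0 Groth.Agent.R2.H81.LocInj
  Groth.Agent.Lib.Helper23.SectCmpLib Scheme.Modules

noncomputable section

variable {X Y : Scheme.{u}}

/-- an `O_X`-linear map commutes with multiplication by a global function. -/
theorem smulAb_comp {M N : X.Modules} (ψ : M ⟶ N) (r : Coh.Γtop X) :
    Coh.smulAb M r ≫ (SheafOfModules.toSheaf X.ringCatSheaf).map ψ =
      (SheafOfModules.toSheaf X.ringCatSheaf).map ψ ≫ Coh.smulAb N r := by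
  ext U m
  exact Scheme.Modules.Hom.app_smul ψ _ m

/-- `H^p` of an `O_X`-linear map is linear over the global functions. -/
theorem mapH_smul {M N : X.Modules} (ψ : M ⟶ N) (r : Coh.Γtop X) (p : ℕ) (x : Coh.HH X M p) :
    CohPull.mapH ψ p (r • x) = r • CohPull.mapH ψ p x := by
  have h2 := Sheaf.H.map_comp_apply (n := p) (Coh.smulAb M r)
    ((SheafOfModules.toSheaf X.ringCatSheaf).map ψ) x
  have h3 := Sheaf.H.map_comp_apply (n := p) ((SheafOfModules.toSheaf X.ringCatSheaf).map ψ)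
    (Coh.smulAb N r) x
  exact h2.symm.trans ((congrArg (fun t => Sheaf.H.map t p x) (smulAb_comp ψ r)).trans h3)

/-- multiplication by a global function of the open subscheme `U`, as an endomorphism of the restricted short complex -/
def smulCx (S : ShortComplex X.Modules) (U : X.Opens) (r : Coh.Γtop (U : Scheme.{u})) :
    S.map (toAbOn X U) ⟶ S.map (toAbOn X U) where
  τ₁ := Coh.smulAb (S.X₁.restrict U.ι) r
  τ₂ := Coh.smulAb (S.X₂.restrict U.ι) r
  τ₃ := Coh.smulAb (S.X₃.restrict U.ι) r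
  comm₁₂ := smulAb_comp ((restrictFunctor U.ι).map S.f) r
  comm₂₃ := smulAb_comp ((restrictFunctor U.ι).map S.g) r

/-- the connecting homomorphism is linear over the global functions of `U` -/
theorem extδ_smul (S : ShortComplex X.Modules) (U : X.Opens)
    (hA : (S.map (toAbOn X U)).ShortExact) (r : Coh.Γtop (U : Scheme.{u})) (p : ℕ)
    (x : Coh.HHon X S.X₃ U p) :
    extδ hA p (r • x) = r • (show Coh.HHon X S.X₁ U (p + 1) from extδ hA p x) := by
  have nat := ShortComplex.ShortExact.extClass_naturality hA hA (smulCx S U r)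
  change ((x.comp (Ext.mk₀ (Coh.smulAb (S.X₃.restrict U.ι) r)) (add_zero p)).comp hA.extClass rfl) =
    (x.comp hA.extClass rfl).comp (Ext.mk₀ (Coh.smulAb (S.X₁.restrict U.ι) r)) (add_zero (p + 1))
  rw [Ext.comp_assoc _ _ _ (add_zero p) (zero_add 1) (by omega)]
  rw [Ext.comp_assoc _ _ _ rfl (add_zero 1) (by omega)]
  exact congrArg (fun t => x.comp t (by omega)) nat.symm

/-- the ring map `Γ(X, U) → Γ(↑U, ⊤)` -/
abbrev toTop (U : X.Opens) : Γ(X, U) →+* Coh.Γtop (U : Scheme.{u}) := U.topIso.inv.hom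

/-- scalar multiplication on `H^0(U, F|_U)` is scalar multiplication of sections -/
theorem smul_sectH0 (F : X.Modules) (U : X.Opens) (r : Γ(X, U)) (s : F.presheaf.obj (op U)) :
    toTop U r • CohPull.sectH0 F U s = CohPull.sectH0 F U (r • (show Γ(F, U) from s)) := by
  change Sheaf.H.map (Coh.smulAb (F.restrict U.ι) (toTop U r)) 0
    ((Sheaf.H.equiv₀ (Coh.toAb (F.restrict U.ι)) isTerminalTop).symm _) =
    (Sheaf.H.equiv₀ (Coh.toAb (F.restrict U.ι)) isTerminalTop).symm _
  rw [Sheaf.H.equiv₀_symm_naturality]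
  congr 1
  have h := Scheme.Modules.map_smul F (eqToHom U.ι_image_top) r s
  refine Eq.trans ?_ h.symm
  have h2 : ∀ (r' : Γ((U : Scheme.{u}), ⊤)) (n : Γ(F.restrict U.ι, ⊤)),
      r' • n = (show Γ(X, U.ι ''ᵁ ⊤) from ((U.ι.appIso ⊤).inv.hom r')) •
        (show Γ(F, U.ι ''ᵁ ⊤) from n) := fun r' n => rfl
  refine (Coh.smulAb_app (F.restrict U.ι) (toTop U r) (op ⊤) _).trans ?_
  have h3 : Coh.resTop (U : Scheme.{u}) (op ⊤) (toTop U r) = toTop U r := by
    change ((U : Scheme.{u}).ringCatSheaf.obj.map (𝟙 (op ⊤))).hom _ = _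
    rw [CategoryTheory.Functor.map_id]
    rfl
  rw [h3]
  refine (h2 _ _).trans ?_
  congr 1
  rw [Scheme.Opens.ι_appIso]
  rfl

variable (f : X ⟶ Y) [HasInjectiveResolutions X.Modules] {Δ : RDer.DerivedLES (pushforward f)}
  (E : CohCmp.SectCmp f Δ)

/-- the ring map `Γ(Y, V) → Γ(↑(f⁻¹V), ⊤)` -/
abbrev liftΓ (V : Y.Opens) : Γ(Y, V) →+* Coh.Γtop ((f ⁻¹ᵁ V : X.Opens) : Scheme.{u}) :=
  (toTop (f ⁻¹ᵁ V)).comp (f.app V).hom

/-- degree zero -/
theorem eps_smul_zero (F : X.Modules) (V : Y.Opens) (r : Γ(Y, V)) (x : Coh.HHon X F (f ⁻¹ᵁ V) 0) :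
    E.ε V F 0 (liftΓ f V r • x) = r • (show Γ((Coh.Rpush f 0).obj F, V) from E.ε V F 0 x) := by
  obtain ⟨s, rfl⟩ := (CohPull.sectH0 F (f ⁻¹ᵁ V)).surjective x
  refine (congrArg (E.ε V F 0) (smul_sectH0 F (f ⁻¹ᵁ V) (f.app V r) s)).trans ?_
  refine (E.zero V F _).trans ?_
  refine Eq.trans ?_ (congrArg (fun z => r • (show Γ((Coh.Rpush f 0).obj F, V) from z)) (E.zero V F s)).symm
  exact Scheme.Modules.Hom.app_smul ((pushforward f).toRightDerivedZero.app F) r
    (show Γ((pushforward f).obj F, V) from s)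

/-- the inductive step -/
theorem eps_smul_step (p : ℕ)
    (ih : ∀ (F : X.Modules) (V : Y.Opens) (r : Γ(Y, V)) (x : Coh.HHon X F (f ⁻¹ᵁ V) p),
      E.ε V F p (liftΓ f V r • x) = r • (show Γ((Coh.Rpush f p).obj F, V) from E.ε V F p x))
    (S : ShortComplex X.Modules) (hS : S.ShortExact) [Injective S.X₂] (V : Y.Opens) (r : Γ(Y, V))
    (x : Coh.HHon X S.X₁ (f ⁻¹ᵁ V) (p + 1)) :
    E.ε V S.X₁ (p + 1) (liftΓ f V r • x) =
      r • (show Γ((Coh.Rpush f (p + 1)).obj S.X₁, V) from E.ε V S.X₁ (p + 1) x) := by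
  have hA := toAbOn_shortExact (f ⁻¹ᵁ V) S hS
  obtain ⟨x', rfl⟩ := Sect.extδ_surjective S (f ⁻¹ᵁ V) hA p x
  refine (congrArg (E.ε V S.X₁ (p + 1)) (extδ_smul S (f ⁻¹ᵁ V) hA (liftΓ f V r) p x').symm).trans ?_
  refine (E.delta V S hS hA p _).trans ?_
  refine (congrArg _ (ih S.X₃ V r x')).trans ?_
  refine Eq.trans ?_ (congrArg (fun z => r • (show Γ((Coh.Rpush f (p + 1)).obj S.X₁, V) from z))
    (E.delta V S hS hA p x')).symm
  exact Scheme.Modules.Hom.app_smul (Δ.δ S hS p (p + 1) rfl) r _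

/-- **`ε` is linear over the functions of the base** -/
theorem eps_smul [EnoughInjectives X.Modules] (p : ℕ) :
    ∀ (F : X.Modules) (V : Y.Opens) (r : Γ(Y, V)) (x : Coh.HHon X F (f ⁻¹ᵁ V) p),
      E.ε V F p (liftΓ f V r • x) = r • (show Γ((Coh.Rpush f p).obj F, V) from E.ε V F p x) := by
  induction p with
  | zero =>
    intro F V r x
    exact eps_smul_zero f E F V r x
  | succ p ih =>
    intro F V r x
    have hS : (ShortComplex.mk (Injective.ι F) (cokernel.π (Injective.ι F))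
        (cokernel.condition _)).ShortExact :=
      { exact := ShortComplex.exact_cokernel _
        mono_f := inferInstanceAs (Mono (Injective.ι F))
        epi_g := inferInstanceAs (Epi (cokernel.π (Injective.ι F))) }
    have hI : Injective (ShortComplex.mk (Injective.ι F) (cokernel.π (Injective.ι F))
        (cokernel.condition _)).X₂ := inferInstanceAs (Injective (Injective.under F))
    exact eps_smul_step f E p ih _ hS V r x

end

end Groth.Agent.R2.H81.EpsLin
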