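import Mathlib
import Groth.Prelude.Def_CohCmp
import Groth.Agent.R2.H81Bridge2
import Groth.Agent.R2.H81EpsRes
import Groth.Agent.R2.H1CohPushTop

/-!
# The comparison maps `ε` as a morphism of presheaves `(V ↦ H^q(f⁻¹V, F)) ⟶ R^q f_* F` (helper81)
-/

set_option autoImplicit false
universe u

open CategoryTheory CategoryTheory.Limits AlgebraicGeometry TopologicalSpace Opposite Abelian

namespace Groth.Agent.R2.H81.EpsNat

open Groth.Agent.Lib.Helper23.AffVanish Groth.Agent.R2.H81.Bridge Groth.Agent.R2.H81.EpsRes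
  Groth.Agent.R2.H1.CohPushTop Groth.Agent.R2.H1.SheafifyTop Groth.Agent.R2.H81.Deg0 Scheme.Modules

noncomputable section

variable {X S : Scheme.{u}} (f : X ⟶ S) [HasInjectiveResolutions X.Modules]
  {Δ : RDer.DerivedLES (pushforward f)} (E : CohCmp.SectCmp f Δ) (F : X.Modules) (q : ℕ)

/-- the composite `ε_V ∘ β` on sections over `V` -/
def epsβ (V : S.Opens) : (PP f F q).obj (op V) →+ ((Coh.Rpush f q).obj F).presheaf.obj (op V) :=
  (E.ε V F q).comp (β F q (f ⁻¹ᵁ V))

theorem epsβ_res [EnoughInjectives X.Modules] {V W : S.Opens} (i : op V ⟶ op W)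
    (x : (PP f F q).obj (op V)) :
    epsβ f E F q W ((PP f F q).map i x) =
      ((Coh.Rpush f q).obj F).presheaf.map i (epsβ f E F q V x) := by
  have hWV : W ≤ V := i.unop.le
  have h1 : (PP f F q).map i x = resE (ab' F) q (f.preimage_mono hWV) x := rfl
  refine (congrArg (epsβ f E F q W) h1).trans ?_
  refine (congrArg (E.ε W F q) (resLE_β q F (f ⁻¹ᵁ V) (f ⁻¹ᵁ W) (f.preimage_mono hWV) x).symm).trans ?_
  refine (eps_resLE f E q F V W hWV (β F q (f ⁻¹ᵁ V) x)).trans ?_
  exact map_congr _ _ _ _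

/-- `ε ∘ β` as a morphism of presheaves -/
def epsNat [EnoughInjectives X.Modules] : PP f F q ⟶ ((Coh.Rpush f q).obj F).presheaf where
  app V := AddCommGrpCat.ofHom (epsβ f E F q V.unop)
  naturality := by
    intro V W i
    apply ConcreteCategory.hom_ext
    intro x
    exact epsβ_res f E F q (V := V.unop) (W := W.unop) i x

end

end Groth.Agent.R2.H81.EpsNat
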