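import Mathlib
import Groth.Prelude.Def_CohCmp
import Groth.Agent.Lib.Helper23SectCmpLib
import Groth.Agent.R2.H81LocInj

/-!
# The comparison maps `ε` are locally injective: the inductive step (helper81)
-/

set_option autoImplicit false
universe u
open CohCmp

namespace Groth.Agent.R2.H81.LocInj

open AlgebraicGeometry CategoryTheory Scheme.Modules Opposite Limits TopologicalSpace

open Groth.Agent.Lib.Helper23.SectCmpLib Groth.Agent.R2.H81.ResLE0

noncomputable section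

variable {X Y : Scheme.{u}}

variable (f : X ⟶ Y) [HasInjectiveResolutions X.Modules] {Δ : RDer.DerivedLES (pushforward f)}
  (E : CohCmp.SectCmp f Δ)

/-- the inductive step, for a short exact sequence with injective middle term -/
theorem step [EnoughInjectives X.Modules] (y : Y) (p : ℕ)
    (ih : ∀ (F : X.Modules) (V W : Y.Opens) (hWV : W ≤ V) (x : Coh.HHon X F (f ⁻¹ᵁ V) p),
      ((Coh.Rpush f p).obj F).presheaf.map (homOfLE hWV).op (E.ε V F p x) = 0 → y ∈ W →
      ∃ (W' : Y.Opens) (hW' : W' ≤ W), y ∈ W' ∧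
        CohPull.resLE F (f.preimage_mono (hW'.trans hWV)) p x = 0)
    (S : ShortComplex X.Modules) (hS : S.ShortExact) [Injective S.X₂] (V W : Y.Opens) (hWV : W ≤ V)
    (x : Coh.HHon X S.X₁ (f ⁻¹ᵁ V) (p + 1))
    (hx : ((Coh.Rpush f (p + 1)).obj S.X₁).presheaf.map (homOfLE hWV).op (E.ε V S.X₁ (p + 1) x) = 0)
    (hy : y ∈ W) :
    ∃ (W' : Y.Opens) (hW' : W' ≤ W), y ∈ W' ∧
      CohPull.resLE S.X₁ (f.preimage_mono (hW'.trans hWV)) (p + 1) x = 0 := by
  have hA := toAbOn_shortExact (f ⁻¹ᵁ V) S hS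
  obtain ⟨x', rfl⟩ := Sect.extδ_surjective S (f ⁻¹ᵁ V) hA p x
  rw [E.delta V S hS hA p x'] at hx
  obtain ⟨W₁, hW₁W, hyW₁, t, ht⟩ := exists_lift f S hS hWV p (E.ε V S.X₃ p x') hx y hy
  cases p with
  | zero => exact ⟨W₁, hW₁W, hyW₁, step_zero f E S hS (hW₁W.trans hWV) hA x' t ht⟩
  | succ q =>
    have hz : IsZero ((Coh.Rpush f (q + 1)).obj S.X₂) :=
      Functor.isZero_rightDerived_obj_injective_succ _ q _
    have ht0 : t = 0 := sections_eq_zero_of_isZero hz t
    rw [ht0, map_zero] at ht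
    obtain ⟨W', hW', hyW', hres⟩ := ih S.X₃ V W₁ (hW₁W.trans hWV) x' ht.symm hyW₁
    exact ⟨W', hW'.trans hW₁W, hyW',
      step_succ S _ hA (toAbOn_shortExact (f ⁻¹ᵁ W') S hS) (q + 1) x' hres⟩

end

end Groth.Agent.R2.H81.LocInj
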