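import Mathlib
import Groth.Prelude.Def_CohCmp
import Groth.Agent.R2.H81EpsNat
import Groth.Agent.S16954
import Groth.Agent.S16955

/-!
# The comparison map `ε` over an affine base is bijective (helper81)
-/

set_option autoImplicit false
universe u

open CategoryTheory CategoryTheory.Limits AlgebraicGeometry TopologicalSpace Opposite Abelian

namespace Groth.Agent.R2.H81.EpsTop

open Groth.Agent.Lib.Helper23.AffVanish Groth.Agent.R2.H81.Bridge Groth.Agent.R2.H81.EpsRes
  Groth.Agent.R2.H81.EpsNat
  Groth.Agent.R2.H1.CohPushTop Groth.Agent.R2.H1.SheafifyTop Groth.Agent.R2.H81.Deg0 Scheme.Modules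

noncomputable section

variable {X S : Scheme.{u}} (f : X ⟶ S) [HasInjectiveResolutions X.Modules]
  {Δ : RDer.DerivedLES (pushforward f)} (E : CohCmp.SectCmp f Δ) (F : X.Modules) (q : ℕ)
  [EnoughInjectives X.Modules]

instance isLocallySurjective_epsNat :
    Presheaf.IsLocallySurjective (Opens.grothendieckTopology S) (epsNat f E F q) where
  imageSieve_mem {V} t := by
    intro y hy
    obtain ⟨W, hWV, hyW, x, hx⟩ := Groth.Agent.S16954.result f E F q V t y hy
    obtain ⟨x', rfl⟩ := (β_bijective F q (f ⁻¹ᵁ W)).2 x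
    exact ⟨W, homOfLE hWV, ⟨x', hx⟩, hyW⟩

instance isLocallyInjective_epsNat :
    Presheaf.IsLocallyInjective (Opens.grothendieckTopology S) (epsNat f E F q) where
  equalizerSieve_mem {V} x y h := by
    intro p hp
    have h' : epsβ f E F q V.unop x = epsβ f E F q V.unop y := h
    have h0 : E.ε V.unop F q (β F q (f ⁻¹ᵁ V.unop) (x - y)) = 0 := by
      have : epsβ f E F q V.unop (x - y) = 0 := by rw [map_sub, h', sub_self]
      exact this
    obtain ⟨W, hWV, hpW, hres⟩ := Groth.Agent.S16955.result f E F q V.unop _ h0 p hp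
    refine ⟨W, homOfLE hWV, ?_, hpW⟩
    have h1 := resLE_β q F (f ⁻¹ᵁ V.unop) (f ⁻¹ᵁ W) (f.preimage_mono hWV) (x - y)
    have h2 : β F q (f ⁻¹ᵁ W) (resE (ab' F) q (f.preimage_mono hWV) (x - y)) = 0 := h1.symm.trans hres
    have h3 : resE (ab' F) q (f.preimage_mono hWV) (x - y) = 0 :=
      (β_bijective F q (f ⁻¹ᵁ W)).1 (h2.trans (map_zero _).symm)
    have h4 : resE (ab' F) q (f.preimage_mono hWV) (show HE (ab' F) q (f ⁻¹ᵁ V.unop) from x) -
        resE (ab' F) q (f.preimage_mono hWV) (show HE (ab' F) q (f ⁻¹ᵁ V.unop) from y) = 0 :=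
      (map_sub (resE (ab' F) q (f.preimage_mono hWV)) _ _).symm.trans h3
    exact sub_eq_zero.mp h4

/-- **the comparison map over an affine base is bijective** -/
theorem eps_top_bijective [QuasiCompact f] [QuasiSeparated f] [IsAffine S] [F.IsQuasicoherent] :
    Function.Bijective (E.ε ⊤ F q) := by
  have hG : Presheaf.IsSheaf (Opens.grothendieckTopology S) ((Coh.Rpush f q).obj F).presheaf :=
    ((Coh.Rpush f q).obj F).isSheaf
  have hW : (Opens.grothendieckTopology S).W (epsNat f E F q) :=
    (Opens.grothendieckTopology S).W_of_isLocallyBijective _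
  have hiso : IsIso ((presheafToSheaf (Opens.grothendieckTopology S) AddCommGrpCat.{u}).map
      (epsNat f E F q)) := ((Opens.grothendieckTopology S).W_iff _).1 hW
  have hiso' : IsIso (sheafifyMap (Opens.grothendieckTopology S) (epsNat f E F q)) :=
    inferInstanceAs (IsIso ((sheafToPresheaf _ _).map
      ((presheafToSheaf (Opens.grothendieckTopology S) AddCommGrpCat.{u}).map (epsNat f E F q))))
  have hηG : IsIso (toSheafify (Opens.grothendieckTopology S) ((Coh.Rpush f q).obj F).presheaf) :=
    isIso_toSheafify _ hG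
  have hnat := toSheafify_naturality (Opens.grothendieckTopology S) (epsNat f E F q)
  have hnat' := congrArg (fun φ => φ.app (op (⊤ : S.Opens))) hnat
  have b1 : Function.Bijective
      ((toSheafify (Opens.grothendieckTopology S) ((Coh.Rpush f q).obj F).presheaf).app (op ⊤)) :=
    ConcreteCategory.bijective_of_isIso _
  have b2 : Function.Bijective
      ((sheafifyMap (Opens.grothendieckTopology S) (epsNat f E F q)).app (op ⊤)) :=
    ConcreteCategory.bijective_of_isIso _
  have b3 : Function.Bijective (η (PP f F q) ⊤) := bijective_η f F q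
  have b4 : Function.Bijective (epsβ f E F q ⊤) := by
    have e : ∀ x, (toSheafify (Opens.grothendieckTopology S) ((Coh.Rpush f q).obj F).presheaf).app (op ⊤)
        (epsβ f E F q ⊤ x) =
        (sheafifyMap (Opens.grothendieckTopology S) (epsNat f E F q)).app (op ⊤) (η (PP f F q) ⊤ x) :=
      fun x => ConcreteCategory.congr_hom hnat' x
    have b5 : Function.Bijective (fun x => (toSheafify (Opens.grothendieckTopology S)
        ((Coh.Rpush f q).obj F).presheaf).app (op ⊤) (epsβ f E F q ⊤ x)) := by
      rw [funext e]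
      exact b2.comp b3
    exact (Function.Bijective.of_comp_iff' b1 _).mp b5
  have b6 : Function.Bijective (β F q (f ⁻¹ᵁ (⊤ : S.Opens))) := β_bijective F q _
  exact (Function.Bijective.of_comp_iff _ b6).mp b4

end

end Groth.Agent.R2.H81.EpsTop
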