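import Mathlib
import Groth.Agent.Lib.Helper16Restr
import Groth.Agent.Lib.Helper16Flasque
import Groth.Agent.Lib.Helper23AffVanish1

/-!
# Cohomology over opens inside an open subspace, computed on the subspace (helper81)

For an open `T` of a space `X`, an open `W` of the subspace `T` with image `U` in `X`, and an abelian sheaf `A` on
`X`: the comparison `Θ : Ext^q(ℤ_U, A) → Ext^q(ℤ_W, A|_T)` is bijective and commutes with the restriction maps.
-/

set_option autoImplicit false
universe u
open CategoryTheory TopologicalSpace Opposite CategoryTheory.Limits Abelian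

namespace Groth.Agent.R2.H81.ThetaAb

open Groth.Agent.Lib.Helper16.SectSupp Groth.Agent.Lib.Helper16.ClosedEmb Groth.Agent.Lib.Helper16.Restr
  Groth.Agent.Lib.Helper16.ExtCompare
open Groth.Agent.Lib.Helper23.AffVanish (HE resE)

noncomputable section

variable {X : TopCat.{u}} (T : Opens X)

instance instPFL : PreservesFiniteLimits (CohTop.restrFunctor T) := restr_preservesFiniteLimits T

instance instPFC : PreservesFiniteColimits (CohTop.restrFunctor T) := restr_preservesFiniteColimits T

/-- the section of `(ℤ_U)|_T` over `W` (where `img W ≤ U`) given by the canonical section -/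
def gUW (U : Opens X) (W : Opens (TopCat.of T)) (h : img T W ≤ U) :
    ((CohTop.restrFunctor T).obj (ZU U)).obj.obj (op W) :=
  (ZU U).obj.map (homOfLE h).op (CohFree.gen (J X) U)

/-- the comparison morphism `ℤ_W ⟶ (ℤ_U)|_T` -/
def wUW (U : Opens X) (W : Opens (TopCat.of T)) (h : img T W ≤ U) :
    ZU W ⟶ (CohTop.restrFunctor T).obj (ZU U) :=
  CohFree.ofSect (J (TopCat.of T)) W _ (gUW T U W h)

theorem evalGen_wUW_comp (U : Opens X) (W : Opens (TopCat.of T)) (h : img T W ≤ U) {F : CohTop.Ab X}
    (φ : ZU U ⟶ F) :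
    CohFree.evalGen (J (TopCat.of T)) W _ (wUW T U W h ≫ (CohTop.restrFunctor T).map φ) =
      F.obj.map (homOfLE h).op (CohFree.evalGen (J X) U F φ) := by
  have h1 : CohFree.evalGen (J (TopCat.of T)) W _ (wUW T U W h ≫ (CohTop.restrFunctor T).map φ) =
      ((CohTop.restrFunctor T).map φ).hom.app (op W)
        (CohFree.evalGen (J (TopCat.of T)) W _ (wUW T U W h)) := rfl
  rw [h1, wUW, CohFree.evalGen_ofSect]
  exact ConcreteCategory.congr_hom (φ.hom.naturality (homOfLE h).op) (CohFree.gen (J X) U)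

theorem wUW_bijective (U : Opens X) (W : Opens (TopCat.of T)) (h : img T W ≤ U) (hU : U = img T W)
    (F : CohTop.Ab X) :
    Function.Bijective (fun φ : ZU U ⟶ F => wUW T U W h ≫ (CohTop.restrFunctor T).map φ) := by
  have hbij := map_bijective_of_eq F (homOfLE h) hU
  constructor
  · intro φ φ' hφ
    have h' : wUW T U W h ≫ (CohTop.restrFunctor T).map φ =
      wUW T U W h ≫ (CohTop.restrFunctor T).map φ' := hφ
    have h2 := congrArg (CohFree.evalGen (J (TopCat.of T)) W _) h'
    rw [evalGen_wUW_comp, evalGen_wUW_comp] at h2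
    exact (CohFree.homEquivSect (J X) U F).injective (hbij.1 h2)
  · intro χ
    obtain ⟨s, hs⟩ := hbij.2 (CohFree.evalGen (J (TopCat.of T)) W _ χ)
    refine ⟨CohFree.ofSect (J X) U F s, ?_⟩
    apply (CohFree.homEquivSect (J (TopCat.of T)) W _).injective
    rw [CohFree.homEquivSect_apply, CohFree.homEquivSect_apply]
    refine (evalGen_wUW_comp T U W h _).trans ?_
    rw [CohFree.evalGen_ofSect, hs]

/-- compatibility of the comparison morphisms with the transition maps of the free sheaves -/
theorem wUW_comp {U U' : Opens X} {W W' : Opens (TopCat.of T)} (h : img T W ≤ U) (h' : img T W' ≤ U')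
    (hU : U' ≤ U) (hW : W' ≤ W) :
    wUW T U' W' h' ≫ (CohTop.restrFunctor T).map (CohCx.freeSheafMap (J X) (homOfLE hU)) =
      CohCx.freeSheafMap (J (TopCat.of T)) (homOfLE hW) ≫ wUW T U W h := by
  apply (CohFree.homEquivSect (J (TopCat.of T)) W' _).injective
  rw [CohFree.homEquivSect_apply, CohFree.homEquivSect_apply, evalGen_wUW_comp,
    CohFree.evalGen_freeSheafMap_comp, wUW, CohFree.evalGen_ofSect]
  have e1 : CohFree.evalGen (J X) U' (ZU U) (CohCx.freeSheafMap (J X) (homOfLE hU)) =
      (ZU U).obj.map (homOfLE hU).op (CohFree.gen (J X) U) := CohFree.freeSheafMap_gen (J X) (homOfLE hU)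
  rw [e1]
  change ((ZU U).obj.map (homOfLE hU).op ≫ (ZU U).obj.map (homOfLE h').op) (CohFree.gen (J X) U) =
    ((ZU U).obj.map (homOfLE h).op ≫ (ZU U).obj.map
      ((T.isOpenEmbedding.isOpenMap.functor).map (homOfLE hW)).op) (CohFree.gen (J X) U)
  rw [← Functor.map_comp, ← Functor.map_comp]
  rfl

/-- the comparison `Ext^q(ℤ_U, A) → Ext^q(ℤ_W, A|_T)` -/
def Θ (A : CohTop.Ab X) (q : ℕ) (U : Opens X) (W : Opens (TopCat.of T)) (h : img T W ≤ U) :
    HE A q U →+ HE ((CohTop.restrFunctor T).obj A) q W :=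
  cmp (CohTop.restrFunctor T) (wUW T U W h) A q

theorem Θ_bijective (A : CohTop.Ab X) (q : ℕ) (U : Opens X) (W : Opens (TopCat.of T)) (h : img T W ≤ U)
    (hU : U = img T W) : Function.Bijective (Θ T A q U W h) := by
  refine cmp_bijective.{u, u} (CohTop.restrFunctor T) (wUW T U W h) (wUW_bijective T U W h hU)
    (fun I _ m => ?_) q A
  have := Groth.Agent.Lib.Helper16.Flasque.injective_isFlasque I
  exact subsingleton_of_forall_eq 0 (fun x =>
    Groth.Agent.Lib.Helper16.Flasque.ext_free_eq_zero ((CohTop.restrFunctor T).obj I) W m x)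

theorem Θ_resE (A : CohTop.Ab X) (q : ℕ) {U U' : Opens X} {W W' : Opens (TopCat.of T)} (h : img T W ≤ U)
    (h' : img T W' ≤ U') (hU : U' ≤ U) (hW : W' ≤ W) (x : HE A q U) :
    Θ T A q U' W' h' (resE A q hU x) = resE ((CohTop.restrFunctor T).obj A) q hW (Θ T A q U W h x) := by
  change (Ext.mk₀ (wUW T U' W' h')).comp
      (((Ext.mk₀ (CohCx.freeSheafMap (J X) (homOfLE hU))).comp x (zero_add q)).mapExactFunctor
        (CohTop.restrFunctor T)) (zero_add q) =
    (Ext.mk₀ (CohCx.freeSheafMap (J (TopCat.of T)) (homOfLE hW))).comp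
      ((Ext.mk₀ (wUW T U W h)).comp (x.mapExactFunctor (CohTop.restrFunctor T)) (zero_add q)) (zero_add q)
  rw [Ext.mapExactFunctor_comp, Ext.mapExactFunctor_mk₀, Ext.mk₀_comp_mk₀_assoc, Ext.mk₀_comp_mk₀_assoc,
    wUW_comp T h h' hU hW]

end

end Groth.Agent.R2.H81.ThetaAb
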