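import Mathlib
import Groth.Prelude.Def_CohCmp
import Groth.Agent.R2.H81ThetaAb
import Groth.Agent.R2.H81EpsTop
import Groth.Agent.R2.H81EpsLin
import Groth.Agent.R2.H81GenBCSpec
import Groth.Agent.R2.H1CohGlue
import Groth.Agent.R2.H1CohPushTop
import Groth.Agent.R2.H67GenBCD

/-!
# The comparison map `ε` over an affine open of the base is bijective (helper81)

`f : X ⟶ Y` quasi-compact quasi-separated, `F` quasi-coherent, `V ⊆ Y` an affine open:
`ε_V : H^q(f⁻¹V, F|) → Γ(V, R^q f_* F)` is bijective.  (Separation and gluing for the presheaf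
`V' ↦ H^q(f⁻¹V', F)` on the basic opens of `V` are transferred from helper1's localisation statements on the
quasi-compact quasi-separated scheme `f⁻¹V`; then package D of `H81GenBCSpec`.)
-/

set_option autoImplicit false
universe u

open CategoryTheory CategoryTheory.Limits AlgebraicGeometry TopologicalSpace Opposite Abelian

namespace Groth.Agent.R2.H81.EpsAff

open Groth.Agent.Lib.Helper16.ClosedEmb Groth.Agent.Lib.Helper16.Restr
open Groth.Agent.Lib.Helper23.AffVanish (HE resE ab')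
open Groth.Agent.R2.H81.ThetaAb Groth.Agent.R2.H81.EpsLin Groth.Agent.R2.H81.EpsNat
  Groth.Agent.R2.H81.Bridge Groth.Agent.R2.H1.CohLoc Groth.Agent.R2.H1.CohPushTop
  Groth.Agent.R2.H1.SheafifyTop Scheme.Modules

noncomputable section

variable {X Y : Scheme.{u}}

/-- `D(a) ⊆ ⋃ D(b j)` inside an affine open means `a ∈ √(b j)_j` -/
theorem mem_radical_of_basicOpen_le {V : Y.Opens} (hV : IsAffineOpen V) (a : Γ(Y, V)) {ι : Type*}
    (b : ι → Γ(Y, V)) (h : Y.basicOpen a ≤ ⨆ j, Y.basicOpen (b j)) :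
    a ∈ (Ideal.span (Set.range b)).radical := by
  rw [Ideal.radical_eq_sInf, Ideal.mem_sInf]
  rintro p ⟨hp, hprime⟩
  by_contra hap
  let P : PrimeSpectrum Γ(Y, V) := ⟨p, hprime⟩
  have h1 : P ∈ PrimeSpectrum.basicOpen a := hap
  have h3 : P ∈ hV.fromSpec ⁻¹ᵁ Y.basicOpen a := by
    rw [hV.fromSpec_preimage_basicOpen]
    exact h1
  obtain ⟨j, hj⟩ := Opens.mem_iSup.1 (h h3)
  have h4 : P ∈ hV.fromSpec ⁻¹ᵁ Y.basicOpen (b j) := hj
  rw [hV.fromSpec_preimage_basicOpen] at h4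
  exact h4 (hp (Ideal.subset_span ⟨j, rfl⟩))

theorem le_of_img_le {Z : TopCat.{u}} (T : Opens Z) {W W' : Opens (TopCat.of T)}
    (h : img T W ≤ img T W') : W ≤ W' := by
  intro w hw
  obtain ⟨w', hw', e⟩ := h (show (w : Z) ∈ img T W from ⟨w, hw, rfl⟩)
  have : w' = w := Subtype.ext e
  exact this ▸ hw'

variable (f : X ⟶ Y) (V : Y.Opens)

/-- the ring map `Γ(Y, V) → Γ(↑(f⁻¹V), ⊤)` (the same map as `EpsLin.liftΓ`, with commutative target) -/
abbrev lft : Γ(Y, V) →+* Γ(((f ⁻¹ᵁ V : X.Opens) : Scheme.{u}), ⊤) :=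
  ((f ⁻¹ᵁ V).topIso.inv.hom).comp (f.app V).hom

/-- the basic open of the open subscheme `f⁻¹V` attached to a function on `V` -/
abbrev Wa (a : Γ(Y, V)) : ((f ⁻¹ᵁ V : X.Opens) : Scheme.{u}).Opens :=
  ((f ⁻¹ᵁ V : X.Opens) : Scheme.{u}).basicOpen (lft f V a)

theorem img_Wa (a : Γ(Y, V)) : img (f ⁻¹ᵁ V) (Wa f V a) = f ⁻¹ᵁ (Y.basicOpen a) := by
  rw [Scheme.preimage_basicOpen]
  exact Scheme.Opens.ι_image_basicOpen_topIso_inv (f ⁻¹ᵁ V) (f.app V a)

theorem Wa_mono {a b : Γ(Y, V)} (h : Y.basicOpen b ≤ Y.basicOpen a) : Wa f V b ≤ Wa f V a := by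
  apply le_of_img_le (f ⁻¹ᵁ V)
  rw [img_Wa, img_Wa]
  exact f.preimage_mono h

variable (F : X.Modules) (q : ℕ)

/-- the comparison of `H^q(f⁻¹D(a), F)` computed on `X` and on the open subscheme `f⁻¹V` -/
def Θa (a : Γ(Y, V)) : HE (ab' F) q (f ⁻¹ᵁ (Y.basicOpen a)) →+
    HR (F.restrict (f ⁻¹ᵁ V).ι) q (Wa f V a) :=
  Θ (f ⁻¹ᵁ V) (ab' F) q (f ⁻¹ᵁ (Y.basicOpen a)) (Wa f V a) (img_Wa f V a).le

theorem Θa_bijective (a : Γ(Y, V)) : Function.Bijective (Θa f V F q a) :=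
  Θ_bijective (f ⁻¹ᵁ V) (ab' F) q _ _ _ (img_Wa f V a).symm

theorem Θa_res {a b : Γ(Y, V)} (h : Y.basicOpen b ≤ Y.basicOpen a)
    (x : HE (ab' F) q (f ⁻¹ᵁ (Y.basicOpen a))) :
    Θa f V F q b (resE (ab' F) q (f.preimage_mono h) x) =
      resR (F.restrict (f ⁻¹ᵁ V).ι) q (Wa_mono f V h) (Θa f V F q a x) :=
  Θ_resE (f ⁻¹ᵁ V) (ab' F) q (img_Wa f V a).le (img_Wa f V b).le (f.preimage_mono h) (Wa_mono f V h) x

section qcqs

variable [QuasiCompact f] [QuasiSeparated f] [F.IsQuasicoherent]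

omit [QuasiSeparated f] [F.IsQuasicoherent] in
include f in
theorem compactSpace_of_isAffineOpen (hV : IsAffineOpen V) :
    CompactSpace ((f ⁻¹ᵁ V : X.Opens) : Scheme.{u}) :=
  isCompact_iff_compactSpace.mp (QuasiCompact.isCompact_preimage (f := f) _ V.isOpen hV.isCompact)

omit [QuasiCompact f] [F.IsQuasicoherent] in
include f in
theorem quasiSeparatedSpace_of_isAffineOpen (hV : IsAffineOpen V) :
    QuasiSeparatedSpace ((f ⁻¹ᵁ V : X.Opens) : Scheme.{u}) := by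
  have : IsAffine (V : Scheme.{u}) := hV
  exact quasiSeparatedSpace_of_quasiSeparated (f ∣_ V)

/-- separation -/
theorem sep_HE (hV : IsAffineOpen V) (a : Γ(Y, V)) {ι : Type*} (b : ι → Γ(Y, V))
    (hle : ∀ k, Y.basicOpen (b k) ≤ Y.basicOpen a)
    (hcov : Y.basicOpen a ≤ ⨆ k, Y.basicOpen (b k))
    (x : HE (ab' F) q (f ⁻¹ᵁ (Y.basicOpen a)))
    (hx : ∀ k, resE (ab' F) q (f.preimage_mono (hle k)) x = 0) : x = 0 := by
  have := compactSpace_of_isAffineOpen f V hV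
  have := quasiSeparatedSpace_of_isAffineOpen f V hV
  have : (F.restrict (f ⁻¹ᵁ V).ι).IsQuasicoherent :=
    Scheme.Modules.isQuasicoherent_restrictFunctor (f ⁻¹ᵁ V).ι F
  have hrad := mem_radical_of_basicOpen_le hV a b hcov
  have hg : lft f V a ∈ (Ideal.span (Set.range fun k => lft f V (b k))).radical := by
    obtain ⟨N, hN⟩ := hrad
    refine ⟨N, ?_⟩
    rw [← map_pow, ← span_map_range]
    exact Ideal.mem_map_of_mem _ hN
  apply (Θa_bijective f V F q a).1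
  rw [map_zero]
  refine eq_zero_of_locally (F.restrict (f ⁻¹ᵁ V).ι) q (Wa f V a) (lft f V a) rfl
    (fun k => lft f V (b k)) hg (fun k => Wa f V (b k)) (fun k => Wa_mono f V (hle k))
    (fun k => (inf_eq_right.2 (Wa_mono f V (hle k))).symm) _ (fun k => ?_)
  rw [← Θa_res f V F q (hle k) x, hx k, map_zero]

/-- gluing -/
theorem glue_HE (hV : IsAffineOpen V) {ι : Type*} [Fintype ι] (a : ι → Γ(Y, V))
    (hcov : V ≤ ⨆ k, Y.basicOpen (a k))
    (x : ∀ k, HE (ab' F) q (f ⁻¹ᵁ (Y.basicOpen (a k))))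
    (hx : ∀ k l, resE (ab' F) q (f.preimage_mono
        (inf_le_left : Y.basicOpen (a k) ⊓ Y.basicOpen (a l) ≤ Y.basicOpen (a k))) (x k) =
      resE (ab' F) q (f.preimage_mono
        (inf_le_right : Y.basicOpen (a k) ⊓ Y.basicOpen (a l) ≤ Y.basicOpen (a l))) (x l)) :
    ∃ t : HE (ab' F) q (f ⁻¹ᵁ V),
      ∀ k, resE (ab' F) q (f.preimage_mono (Y.basicOpen_le (a k))) t = x k := by
  have := compactSpace_of_isAffineOpen f V hV
  have := quasiSeparatedSpace_of_isAffineOpen f V hV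
  have : (F.restrict (f ⁻¹ᵁ V).ι).IsQuasicoherent :=
    Scheme.Modules.isQuasicoherent_restrictFunctor (f ⁻¹ᵁ V).ι F
  have hspan0 : Ideal.span (Set.range a) = ⊤ := by
    rw [← Ideal.radical_eq_top, Ideal.eq_top_iff_one]
    apply mem_radical_of_basicOpen_le hV
    rw [Scheme.basicOpen_of_isUnit _ isUnit_one]
    exact hcov
  have hspan : Ideal.span (Set.range fun k => lft f V (a k)) = ⊤ := by
    rw [← span_map_range, hspan0, Ideal.map_top]
  -- the comparison on the whole of `f⁻¹V`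
  let ΘV : HE (ab' F) q (f ⁻¹ᵁ V) →+ HR (F.restrict (f ⁻¹ᵁ V).ι) q ⊤ :=
    Θ (f ⁻¹ᵁ V) (ab' F) q (f ⁻¹ᵁ V) ⊤ (img_top (f ⁻¹ᵁ V)).le
  have hΘV : Function.Bijective ΘV :=
    Θ_bijective (f ⁻¹ᵁ V) (ab' F) q _ _ _ (img_top (f ⁻¹ᵁ V)).symm
  -- the comparison on the intersections
  have hkl : ∀ k l, img (f ⁻¹ᵁ V) (Wa f V (a k) ⊓ Wa f V (a l)) ≤
      f ⁻¹ᵁ (Y.basicOpen (a k) ⊓ Y.basicOpen (a l)) := by
    intro k l
    rw [Scheme.Hom.preimage_inf]
    refine le_inf ?_ ?_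
    · refine le_trans ?_ (img_Wa f V (a k)).le
      exact (IsOpenMap.functor _).monotone inf_le_left
    · refine le_trans ?_ (img_Wa f V (a l)).le
      exact (IsOpenMap.functor _).monotone inf_le_right
  obtain ⟨t, ht⟩ := exists_glue (F.restrict (f ⁻¹ᵁ V).ι) q (fun k => lft f V (a k)) hspan ⊤ rfl
    (fun k => Wa f V (a k)) (fun k => rfl) (fun k => le_top)
    (fun k l => Wa f V (a k) ⊓ Wa f V (a l)) (fun k l => inf_le_left) (fun k l => inf_le_right)
    (fun k l => rfl) (fun k => Θa f V F q (a k) (x k)) (fun k l => by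
      have h1 := Θ_resE (f ⁻¹ᵁ V) (ab' F) q (img_Wa f V (a k)).le (hkl k l)
        (f.preimage_mono (inf_le_left : Y.basicOpen (a k) ⊓ Y.basicOpen (a l) ≤ Y.basicOpen (a k)))
        (inf_le_left : Wa f V (a k) ⊓ Wa f V (a l) ≤ Wa f V (a k)) (x k)
      have h2 := Θ_resE (f ⁻¹ᵁ V) (ab' F) q (img_Wa f V (a l)).le (hkl k l)
        (f.preimage_mono (inf_le_right : Y.basicOpen (a k) ⊓ Y.basicOpen (a l) ≤ Y.basicOpen (a l)))
        (inf_le_right : Wa f V (a k) ⊓ Wa f V (a l) ≤ Wa f V (a l)) (x l)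
      exact h1.symm.trans ((congrArg _ (hx k l)).trans h2))
  obtain ⟨t', rfl⟩ := hΘV.2 t
  refine ⟨t', fun k => ?_⟩
  apply (Θa_bijective f V F q (a k)).1
  refine Eq.trans ?_ (ht k)
  exact Θ_resE (f ⁻¹ᵁ V) (ab' F) q (img_top (f ⁻¹ᵁ V)).le (img_Wa f V (a k)).le
    (f.preimage_mono (Y.basicOpen_le (a k))) (le_top : Wa f V (a k) ≤ ⊤) t'

end qcqs

section final

variable [HasInjectiveResolutions X.Modules] [EnoughInjectives X.Modules]
  {Δ : RDer.DerivedLES (pushforward f)} (E : CohCmp.SectCmp f Δ)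
  [QuasiCompact f] [QuasiSeparated f] [F.IsQuasicoherent]

/-- **the comparison map over an affine open of the base is bijective** -/
theorem eps_bijective_of_isAffineOpen (hV : IsAffineOpen V) : Function.Bijective (E.ε V F q) := by
  have hG : Presheaf.IsSheaf (Opens.grothendieckTopology Y) ((Coh.Rpush f q).obj F).presheaf :=
    ((Coh.Rpush f q).obj F).isSheaf
  have b4 : Function.Bijective ((epsNat f E F q).app (op V)) := by
    refine Groth.Agent.R2.H67.GenBCD.pkgD (epsNat f E F q) hG V hV.isCompact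
      (Set.range (fun a : Γ(Y, V) => Y.basicOpen a)) ?_ ?_ ?_ ?_ ?_ ?_
    · intro U hU y hy
      obtain ⟨a, ha1, ha2⟩ := hV.exists_basicOpen_le (V := U) ⟨y, hy⟩ (hU hy)
      exact ⟨_, ⟨a, rfl⟩, ha2, ha1⟩
    · exact ⟨1, Scheme.basicOpen_of_isUnit _ isUnit_one⟩
    · rintro _ ⟨a, rfl⟩ _ ⟨b, rfl⟩
      exact ⟨a * b, Scheme.basicOpen_mul _ _ _⟩
    · rintro _ ⟨a, rfl⟩
      exact Y.basicOpen_le a
    · rintro _ ⟨a, rfl⟩ x hx
      choose W hWB hWle hyW hW0 using fun y : {y // y ∈ Y.basicOpen a} => hx y.1 y.2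
      choose b hb using hWB
      obtain rfl : W = fun k => Y.basicOpen (b k) := funext fun k => (hb k).symm
      refine sep_HE f V F q hV a b hWle ?_ x (fun k => hW0 k)
      intro y hy
      exact Opens.mem_iSup.2 ⟨⟨y, hy⟩, hyW ⟨y, hy⟩⟩
    · intro ι _ W hW hcov x hx
      suffices h : ∀ (hle : ∀ k, W k ≤ V), ∃ t : (PP f F q).obj (op V),
          ∀ k, rs (PP f F q) (hle k) t = x k from h _
      intro hle
      choose a ha using hW
      obtain rfl : W = fun k => Y.basicOpen (a k) := funext fun k => (ha k).symm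
      obtain ⟨t, ht⟩ := glue_HE f V F q hV a hcov.ge x hx
      exact ⟨t, ht⟩
  have b5 : Function.Bijective (epsβ f E F q V) := b4
  have b6 : Function.Bijective (β F q (f ⁻¹ᵁ V)) := β_bijective F q _
  exact (Function.Bijective.of_comp_iff _ b6).mp b5

end final

end

end Groth.Agent.R2.H81.EpsAff
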