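import Mathlib
import Groth.Prelude.Def_CohCmp
import Groth.Agent.S16954
import Groth.Agent.R2.H81ResLE0

/-!
# Morphisms out of `R^p f_* F` are determined by their values on the sections `ε(x)` (helper81)
-/

set_option autoImplicit false
universe u

open CategoryTheory AlgebraicGeometry TopologicalSpace Opposite

namespace Groth.Agent.R2.H81.EpsExt

open Groth.Agent.R2.H81.ResLE0 Scheme.Modules

noncomputable section

variable {X Y : Scheme.{u}}

/-- two morphisms out of `R^p f_* F` which agree on all sections of the form `ε(x)` are equal -/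
theorem ext_of_eps (f : X ⟶ Y) [HasInjectiveResolutions X.Modules]
    {Δ : RDer.DerivedLES (pushforward f)} (E : CohCmp.SectCmp f Δ) (F : X.Modules) (p : ℕ)
    {N : Y.Modules} (a b : (Coh.Rpush f p).obj F ⟶ N)
    (h : ∀ (V : Y.Opens) (x : Coh.HHon X F (f ⁻¹ᵁ V) p),
      a.app V (E.ε V F p x) = b.app V (E.ε V F p x)) : a = b := by
  refine Scheme.Modules.hom_ext a b (fun V => ?_)
  apply ConcreteCategory.hom_ext
  intro t
  choose W hWV hyW x hx using
    fun y : V => Groth.Agent.S16954.result f E F p V t y.1 y.2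
  refine TopCat.Sheaf.eq_of_locally_eq' ⟨N.presheaf, N.isSheaf⟩ W V (fun y => homOfLE (hWV y)) ?_ _ _ ?_
  · intro y hy
    exact Opens.mem_iSup.mpr ⟨⟨y, hy⟩, hyW ⟨y, hy⟩⟩
  · intro y
    refine (hom_naturality_apply a (homOfLE (hWV y)).op t).symm.trans ?_
    refine Eq.trans ?_ (hom_naturality_apply b (homOfLE (hWV y)).op t)
    refine (congrArg _ (hx y).symm).trans ?_
    refine Eq.trans ?_ (congrArg _ (hx y))
    exact h (W y) (x y)

end

end Groth.Agent.R2.H81.EpsExt
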