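import Mathlib.Algebra.Homology.DerivedCategory.Ext.ExactSequences
import Mathlib.Algebra.Homology.DerivedCategory.Ext.Map
import Mathlib.Algebra.Homology.DerivedCategory.Ext.EnoughInjectives
import Groth.Agent.R2.H81ExtTrans

/-!
# Induction on `Ext` classes; `mapExactFunctor` versus natural transformations and composition (helper81)

* `ext_induction`: induction principle for classes in `Ext Z A p` (fixed source `Z`), in a category with
  enough injectives: degree `0` and Yoneda products with extension classes.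
* `mapExactFunctor_natTrans`: a natural transformation `α : G' ⟶ G` of exact functors is compatible with
  `mapExactFunctor`.
* `mapExactFunctor_comp_functor`: `mapExactFunctor` of a composite functor.
* `trans_trans`, `trans_natTrans`: the corresponding statements for the transfer maps `ExtTrans.trans`.
-/

set_option autoImplicit false

universe w w' w'' v v' v'' u u' u''

open CategoryTheory CategoryTheory.Limits Abelian

namespace Groth.Agent.R2.H81.ExtInd

open Groth.Agent.R2.H81.ExtTrans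

variable {𝒜 : Type u} [Category.{v} 𝒜] [Abelian 𝒜] [HasExt.{w} 𝒜] [EnoughInjectives 𝒜]

/-- induction principle for `Ext` classes with a fixed source -/
theorem ext_induction {Z : 𝒜} (P : ∀ (p : ℕ) (A : 𝒜), Ext.{w} Z A p → Prop)
    (h0 : ∀ (A : 𝒜) (h : Z ⟶ A), P 0 A (Ext.mk₀ h))
    (hs : ∀ (p : ℕ) (S : ShortComplex 𝒜) (hS : S.ShortExact) (x' : Ext.{w} Z S.X₃ p),
      P p S.X₃ x' → P (p + 1) S.X₁ (x'.comp hS.extClass rfl)) :
    ∀ (p : ℕ) (A : 𝒜) (x : Ext.{w} Z A p), P p A x := by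
  intro p
  induction p with
  | zero =>
    intro A x
    obtain ⟨h, rfl⟩ := (Ext.mk₀_bijective (X := Z) (Y := A)).2 x
    exact h0 A h
  | succ p ih =>
    intro A x
    let S : ShortComplex 𝒜 :=
      ShortComplex.mk (Injective.ι A) (cokernel.π (Injective.ι A)) (cokernel.condition _)
    have hS : S.ShortExact :=
      { exact := ShortComplex.exact_cokernel _
        mono_f := inferInstanceAs (Mono (Injective.ι A))
        epi_g := inferInstanceAs (Epi (cokernel.π (Injective.ι A))) }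
    have : Injective S.X₂ := inferInstanceAs (Injective (Injective.under A))
    have h0' : x.comp (Ext.mk₀ S.f) (add_zero (p + 1)) = 0 := Ext.eq_zero_of_injective _
    obtain ⟨x', hx'⟩ := Ext.covariant_sequence_exact₁ Z hS x h0' rfl
    have := hs p S hS x' (ih _ x')
    rw [hx'] at this
    exact this

variable {ℬ : Type u'} [Category.{v'} ℬ] [Abelian ℬ] [HasExt.{w'} ℬ]

section NatTrans

variable (G G' : 𝒜 ⥤ ℬ) [G.Additive] [PreservesFiniteLimits G] [PreservesFiniteColimits G]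
  [G'.Additive] [PreservesFiniteLimits G'] [PreservesFiniteColimits G']

/-- a natural transformation of exact functors is compatible with `mapExactFunctor` -/
theorem mapExactFunctor_natTrans (α : G' ⟶ G) {Z : 𝒜} (p : ℕ) (A : 𝒜) (x : Ext.{w} Z A p) :
    (x.mapExactFunctor G').comp (Ext.mk₀ (α.app A)) (add_zero p) =
      (Ext.mk₀ (α.app Z)).comp (x.mapExactFunctor G) (zero_add p) := by
  refine ext_induction
    (fun p A x => (x.mapExactFunctor G').comp (Ext.mk₀ (α.app A)) (add_zero p) =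
      (Ext.mk₀ (α.app Z)).comp (x.mapExactFunctor G) (zero_add p)) ?_ ?_ p A x
  · intro A h
    rw [Ext.mapExactFunctor_mk₀, Ext.mapExactFunctor_mk₀, Ext.mk₀_comp_mk₀, Ext.mk₀_comp_mk₀,
      α.naturality]
  · intro p S hS x' ih
    have nat : (hS.map_of_exact G').extClass.comp (Ext.mk₀ (α.app S.X₁)) (add_zero 1) =
        (Ext.mk₀ (α.app S.X₃)).comp (hS.map_of_exact G).extClass (zero_add 1) :=
      ShortComplex.ShortExact.extClass_naturality (hS.map_of_exact G') (hS.map_of_exact G)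
        (S.mapNatTrans α)
    have e2' : hS.extClass.mapExactFunctor G' = (hS.map_of_exact G').extClass :=
      Ext.mapExactFunctor_extClass G' hS
    have e2 : hS.extClass.mapExactFunctor G = (hS.map_of_exact G).extClass :=
      Ext.mapExactFunctor_extClass G hS
    have nat' : (hS.extClass.mapExactFunctor G').comp (Ext.mk₀ (α.app S.X₁)) (add_zero 1) =
        (Ext.mk₀ (α.app S.X₃)).comp (hS.extClass.mapExactFunctor G) (zero_add 1) :=
      (congrArg (fun t : Ext.{w'} (G'.obj S.X₃) (G'.obj S.X₁) 1 =>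
        t.comp (Ext.mk₀ (α.app S.X₁)) (add_zero 1)) e2').trans
        (nat.trans (congrArg (fun t : Ext.{w'} (G.obj S.X₃) (G.obj S.X₁) 1 =>
          (Ext.mk₀ (α.app S.X₃)).comp t (zero_add 1)) e2.symm))
    rw [Ext.mapExactFunctor_comp, Ext.mapExactFunctor_comp,
      Ext.comp_assoc _ _ _ (rfl : p + 1 = p + 1) (add_zero 1) (by omega), nat',
      ← Ext.comp_assoc _ _ _ (add_zero p) (zero_add 1) (by omega), ih,
      Ext.comp_assoc _ _ _ (zero_add p) (rfl : p + 1 = p + 1) (by omega)]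

/-- transfer maps along naturally related exact functors -/
theorem trans_natTrans (α : G' ⟶ G) {Z : 𝒜} {Z' : ℬ} (w' : Z' ⟶ G'.obj Z) {A : 𝒜} {B : ℬ}
    (φ : G.obj A ⟶ B) (p : ℕ) (x : Ext.{w} Z A p) :
    trans G' w' (α.app A ≫ φ) p x = trans G (w' ≫ α.app Z) φ p x := by
  rw [trans_apply, trans_apply, ← Ext.mk₀_comp_mk₀, ← Ext.mk₀_comp_mk₀,
    ← Ext.comp_assoc _ _ _ (add_zero p) (add_zero 0) (by omega), mapExactFunctor_natTrans G G' α]
  simp only [Ext.comp_assoc_of_third_deg_zero, Ext.comp_assoc_of_second_deg_zero]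

end NatTrans

section Comp

variable {𝒞 : Type u''} [Category.{v''} 𝒞] [Abelian 𝒞] [HasExt.{w''} 𝒞]
  (G₂ : 𝒜 ⥤ ℬ) [G₂.Additive] [PreservesFiniteLimits G₂] [PreservesFiniteColimits G₂]
  (G₁ : ℬ ⥤ 𝒞) [G₁.Additive] [PreservesFiniteLimits G₁] [PreservesFiniteColimits G₁]
  [PreservesFiniteLimits (G₂ ⋙ G₁)] [PreservesFiniteColimits (G₂ ⋙ G₁)]

/-- `mapExactFunctor` of a composite of exact functors -/
theorem mapExactFunctor_comp_functor {Z : 𝒜} (p : ℕ) (A : 𝒜) (x : Ext.{w} Z A p) :
    x.mapExactFunctor (G₂ ⋙ G₁) = (x.mapExactFunctor G₂).mapExactFunctor G₁ := by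
  refine ext_induction
    (fun p A x => x.mapExactFunctor (G₂ ⋙ G₁) = (x.mapExactFunctor G₂).mapExactFunctor G₁) ?_ ?_ p A x
  · intro A h
    rw [Ext.mapExactFunctor_mk₀, Ext.mapExactFunctor_mk₀, Ext.mapExactFunctor_mk₀]
    rfl
  · intro p S hS x' ih
    have e12 : hS.extClass.mapExactFunctor (G₂ ⋙ G₁) = (hS.map_of_exact (G₂ ⋙ G₁)).extClass :=
      Ext.mapExactFunctor_extClass (G₂ ⋙ G₁) hS
    have e2 : hS.extClass.mapExactFunctor G₂ = (hS.map_of_exact G₂).extClass :=
      Ext.mapExactFunctor_extClass G₂ hS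
    have e1 : ((hS.map_of_exact G₂).extClass).mapExactFunctor G₁ =
        ((hS.map_of_exact G₂).map_of_exact G₁).extClass :=
      Ext.mapExactFunctor_extClass G₁ (hS.map_of_exact G₂)
    have e : hS.extClass.mapExactFunctor (G₂ ⋙ G₁) =
        (hS.extClass.mapExactFunctor G₂).mapExactFunctor G₁ := by
      refine e12.trans ?_
      refine Eq.trans ?_ (congrArg (fun t : Ext.{w'} (G₂.obj S.X₃) (G₂.obj S.X₁) 1 =>
        t.mapExactFunctor G₁) e2).symm
      exact e1.symm
    rw [Ext.mapExactFunctor_comp, Ext.mapExactFunctor_comp, Ext.mapExactFunctor_comp, ih, e]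

/-- composition of transfer maps -/
theorem trans_trans {Z : 𝒜} {Z' : ℬ} {Z'' : 𝒞} (w₂ : Z' ⟶ G₂.obj Z) (w₁ : Z'' ⟶ G₁.obj Z')
    {A : 𝒜} {B : ℬ} {C : 𝒞} (φ₂ : G₂.obj A ⟶ B) (φ₁ : G₁.obj B ⟶ C) (p : ℕ) (x : Ext.{w} Z A p) :
    trans G₁ w₁ φ₁ p (trans G₂ w₂ φ₂ p x) =
      trans (G₂ ⋙ G₁) (w₁ ≫ G₁.map w₂) (G₁.map φ₂ ≫ φ₁) p x := by
  rw [trans_apply, trans_apply, trans_apply, Ext.mapExactFunctor_comp, Ext.mapExactFunctor_comp,
    Ext.mapExactFunctor_mk₀, Ext.mapExactFunctor_mk₀, mapExactFunctor_comp_functor G₂ G₁,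
    ← Ext.mk₀_comp_mk₀, ← Ext.mk₀_comp_mk₀]
  simp only [Ext.comp_assoc_of_third_deg_zero, Ext.comp_assoc_of_second_deg_zero]

end Comp

end Groth.Agent.R2.H81.ExtInd
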