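import Mathlib
import Groth.Prelude.Def_CohCmp
import Groth.Agent.Lib.Helper13PullbackUnit

/-!
# PROJ:genbc-flat (helper81): specifications of the third batch of packages (K, L, M)

Each package is a closed `Prop`; deliverable: `theorem pkgX : Groth.Agent.R2.H81.GenBCSpec3.PkgX`.
-/

set_option autoImplicit false
universe u
open CategoryTheory CategoryTheory.Limits AlgebraicGeometry Opposite TopologicalSpace

namespace Groth.Agent.R2.H81.GenBCSpec3

/-- **PKG-K** (pure algebra): in a pushout square of commutative rings the pushout is generated, as a ring, by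
the images of the two legs. -/
def PkgK : Prop :=
  ∀ {A A' B B' : CommRingCat.{u}} (α : A ⟶ A') (i : A ⟶ B) (i' : A' ⟶ B') (β : B ⟶ B'),
    IsPushout α i i' β → Subring.closure (Set.range β.hom ∪ Set.range i'.hom) = ⊤

/-- **PKG-L** (adjunction bookkeeping): the transpose `g^*N ⟶ N'` of `φ : N ⟶ g_*N'` sends the canonical section
`unitSec g N hle m` over `W' ≤ g⁻¹W` to the restriction of `φ(m)`. -/
def PkgL : Prop :=
  ∀ {Y Y' : Scheme.{u}} (g : Y' ⟶ Y) (N : Y.Modules) (N' : Y'.Modules)
    (φ : N ⟶ (Scheme.Modules.pushforward g).obj N') {W : Y.Opens} {W' : Y'.Opens}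
    (hle : W' ≤ g ⁻¹ᵁ W) (m : Γ(N, W)),
    (((Scheme.Modules.pullbackPushforwardAdjunction g).homEquiv N N').symm φ).app W'
        (Groth.Agent.Helper13PullbackUnit.unitSec g N hle m) =
      N'.presheaf.map (homOfLE hle).op (show Γ(N', g ⁻¹ᵁ W) from φ.app W m)

/-- **PKG-M** (pure algebra, trivial transport): the universal property of a base change along `α : A → A'` is
transported along bijections compatible with the actions (actions given as plain functions). -/
def PkgM : Prop :=
  ∀ {A A' : Type u} [CommRing A] [CommRing A'] (α : A →+* A')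
    {H H' M P' : Type u} [AddCommGroup H] [AddCommGroup H'] [AddCommGroup M] [AddCommGroup P']
    (sH : A → H → H) (sH' : A' → H' → H') (sM : A → M → M) (sP' : A' → P' → P')
    (Φ : H →+ M) (_ : Function.Bijective Φ) (Ψ : H' →+ P') (_ : Function.Bijective Ψ)
    (_ : ∀ a x, Φ (sH a x) = sM a (Φ x)) (_ : ∀ a' y, Ψ (sH' a' y) = sP' a' (Ψ y))
    (π : H →+ H') (v : M →+ P') (_ : ∀ x, v (Φ x) = Ψ (π x))
    (Q : Type u) [AddCommGroup Q] [Module A' Q]
    (_ : ∀ l : H →+ Q, (∀ a x, l (sH a x) = α a • l x) →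
      ∃! l' : H' →+ Q, (∀ a' y, l' (sH' a' y) = a' • l' y) ∧ ∀ x, l' (π x) = l x)
    (l : M →+ Q) (_ : ∀ a m, l (sM a m) = α a • l m),
    ∃! l' : P' →+ Q, (∀ a' y, l' (sP' a' y) = a' • l' y) ∧ ∀ m, l' (v m) = l m

end Groth.Agent.R2.H81.GenBCSpec3
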