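import Mathlib
import Groth.Prelude.Def_CohCmp
import Groth.Agent.R2.H81ExtInd

/-!
# Inverse images of abelian sheaves along a composite and the pullback on cohomology (helper81)
-/

set_option autoImplicit false
universe u
open CategoryTheory CategoryTheory.Limits TopologicalSpace Opposite Abelian

namespace Groth.Agent.R2.H81.InvComp

open Groth.Agent.R2.H81.ExtTrans Groth.Agent.R2.H81.ExtInd

noncomputable section

variable {X Y Z : TopCat.{u}} (a : X ⟶ Y) (b : Y ⟶ Z)

/-- the composite adjunction `b⁻¹ ⋙ a⁻¹ ⊣ a_* ⋙ b_*` -/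
abbrev adjC : CohPull.inv b ⋙ CohPull.inv a ⊣ CohTop.push a ⋙ CohTop.push b :=
  (CohPull.invPushAdj b).comp (CohPull.invPushAdj a)

/-- the canonical comparison `a⁻¹ b⁻¹ ⟶ (a ≫ b)⁻¹`, conjugate to the identity of `(a ≫ b)_* = b_* a_*` -/
def invComp : CohPull.inv b ⋙ CohPull.inv a ⟶ CohPull.inv (a ≫ b) :=
  (conjugateEquiv (CohPull.invPushAdj (a ≫ b)) (adjC a b)).symm (𝟙 _)

theorem unit_invComp (A : CohTop.Ab Z) :
    (adjC a b).unit.app A ≫ (CohTop.push (a ≫ b)).map ((invComp a b).app A) =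
      (CohPull.invPushAdj (a ≫ b)).unit.app A := by
  have h := unit_conjugateEquiv (CohPull.invPushAdj (a ≫ b)) (adjC a b) (invComp a b) A
  rw [invComp, Equiv.apply_symm_apply] at h
  refine Eq.trans ?_ (h.symm.trans ?_)
  · rfl
  · exact Category.comp_id _

theorem adjC_homEquiv {A : CohTop.Ab Z} {B : CohTop.Ab X}
    (φ : (CohPull.inv a).obj ((CohPull.inv b).obj A) ⟶ B) :
    (adjC a b).homEquiv A B φ =
      (CohPull.invPushAdj b).homEquiv _ _ ((CohPull.invPushAdj a).homEquiv _ _ φ) := by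
  rw [adjC, Adjunction.comp_homEquiv]
  rfl

/-- a morphism out of `a⁻¹ b⁻¹ A` with the same transpose as a morphism out of `(a ≫ b)⁻¹ A` factors through
`invComp` -/
theorem eq_invComp_comp {A : CohTop.Ab Z} {B : CohTop.Ab X}
    (φc : (CohPull.inv (a ≫ b)).obj A ⟶ B) (φab : (CohPull.inv a).obj ((CohPull.inv b).obj A) ⟶ B)
    (hφ : (CohPull.invPushAdj (a ≫ b)).homEquiv _ _ φc =
      (CohPull.invPushAdj b).homEquiv _ _ ((CohPull.invPushAdj a).homEquiv _ _ φab)) :
    φab = (invComp a b).app A ≫ φc := by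
  apply ((adjC a b).homEquiv _ _).injective
  rw [adjC_homEquiv, ← hφ]
  refine Eq.trans ?_ (Adjunction.homEquiv_unit _ _ _ _).symm
  refine (Adjunction.homEquiv_unit _ _ _ _).trans ?_
  have h := unit_invComp a b A
  rw [Functor.map_comp, ← Category.assoc]
  exact congrArg (fun t => t ≫ (CohTop.push (a ≫ b)).map φc) h.symm

/-- `(adjZ).homEquiv` of a morphism out of the constant sheaf: the image of the section `1` -/
theorem adjZ_homEquiv {W : TopCat.{u}} {B : CohTop.Ab W} (m : CohTop.const W (ULift.{u} ℤ) ⟶ B) :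
    (CohPull.adjZ W).homEquiv _ _ m = CohPull.oneSec W ≫ m.hom.app (op ⊤) := by
  have h := Adjunction.homEquiv_naturality_right (CohPull.adjZ W) (𝟙 (CohTop.const W (ULift.{u} ℤ))) m
  rw [Category.id_comp] at h
  exact h

theorem adjZ_homEquiv_oneTo {V W : TopCat.{u}} (f : V ⟶ W) :
    CohPull.oneSec V ≫ (CohPull.oneTo f).hom.app (op ⊤) =
      CohPull.oneSec W ≫
        ((CohPull.invPushAdj f).unit.app (CohTop.const W (ULift.{u} ℤ))).hom.app (op ⊤) := by
  have h := adjZ_homEquiv (CohPull.oneTo f)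
  rw [CohPull.oneTo, Equiv.apply_symm_apply] at h
  exact h.symm

/-- compatibility of `oneTo` with composition -/
theorem oneTo_comp :
    CohPull.oneTo (a ≫ b) =
      (CohPull.oneTo a ≫ (CohPull.inv a).map (CohPull.oneTo b)) ≫
        (invComp a b).app (CohTop.const Z (ULift.{u} ℤ)) := by
  apply ((CohPull.adjZ X).homEquiv _ _).injective
  rw [adjZ_homEquiv, adjZ_homEquiv, adjZ_homEquiv_oneTo]
  -- unit naturality for `a` at `oneTo b`
  have n1 := (CohPull.invPushAdj a).unit.naturality (CohPull.oneTo b)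
  have n1' : (CohPull.oneTo b).hom.app (op ⊤) ≫
      ((CohPull.invPushAdj a).unit.app ((CohPull.inv b).obj (CohTop.const Z (ULift.{u} ℤ)))).hom.app (op ⊤) =
      ((CohPull.invPushAdj a).unit.app (CohTop.const Y (ULift.{u} ℤ))).hom.app (op ⊤) ≫
        ((CohPull.inv a).map (CohPull.oneTo b)).hom.app (op ⊤) :=
    congrArg (fun t => t.hom.app (op (⊤ : Opens Y))) n1
  have h2 : ((adjC a b).unit.app (CohTop.const Z (ULift.{u} ℤ))).hom.app (op ⊤) ≫
      ((invComp a b).app (CohTop.const Z (ULift.{u} ℤ))).hom.app (op ⊤) =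
      ((CohPull.invPushAdj (a ≫ b)).unit.app (CohTop.const Z (ULift.{u} ℤ))).hom.app (op ⊤) :=
    congrArg (fun t => t.hom.app (op (⊤ : Opens Z))) (unit_invComp a b (CohTop.const Z (ULift.{u} ℤ)))
  have h3 : ((adjC a b).unit.app (CohTop.const Z (ULift.{u} ℤ))).hom.app (op ⊤) =
      ((CohPull.invPushAdj b).unit.app (CohTop.const Z (ULift.{u} ℤ))).hom.app (op ⊤) ≫
        ((CohPull.invPushAdj a).unit.app ((CohPull.inv b).obj (CohTop.const Z (ULift.{u} ℤ)))).hom.app (op ⊤) :=
    congrArg (fun t => t.hom.app (op (⊤ : Opens Z)))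
      (Adjunction.comp_unit_app (CohPull.invPushAdj b) (CohPull.invPushAdj a) (CohTop.const Z (ULift.{u} ℤ)))
  apply ConcreteCategory.hom_ext
  intro z
  have Ea := ConcreteCategory.congr_hom (adjZ_homEquiv_oneTo a) z
  have Eb := ConcreteCategory.congr_hom (adjZ_homEquiv_oneTo b) z
  have N1 := ConcreteCategory.congr_hom n1' ((CohPull.oneSec Y).hom z)
  have H3 := ConcreteCategory.congr_hom h3 ((CohPull.oneSec Z).hom z)
  have H2 := ConcreteCategory.congr_hom h2 ((CohPull.oneSec Z).hom z)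
  refine Eq.trans ?_ (congrArg (fun t => (((invComp a b).app (CohTop.const Z (ULift.{u} ℤ))).hom.app (op ⊤)).hom
    ((((CohPull.inv a).map (CohPull.oneTo b)).hom.app (op ⊤)).hom t)) Ea.symm)
  refine Eq.trans ?_ (congrArg (fun t => (((invComp a b).app (CohTop.const Z (ULift.{u} ℤ))).hom.app (op ⊤)).hom t)
    N1)
  refine Eq.trans ?_ (congrArg (fun t => (((invComp a b).app (CohTop.const Z (ULift.{u} ℤ))).hom.app (op ⊤)).hom
    ((((CohPull.invPushAdj a).unit.app ((CohPull.inv b).obj (CohTop.const Z (ULift.{u} ℤ)))).hom.app (op ⊤)).hom t))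
    Eb.symm)
  refine Eq.trans ?_ (congrArg (fun t => (((invComp a b).app (CohTop.const Z (ULift.{u} ℤ))).hom.app (op ⊤)).hom t)
    H3)
  exact H2.symm

instance : PreservesFiniteLimits (CohPull.inv b ⋙ CohPull.inv a) :=
  comp_preservesFiniteLimits _ _

instance : PreservesFiniteColimits (CohPull.inv b ⋙ CohPull.inv a) :=
  comp_preservesFiniteColimits _ _

/-- the transfer map of a composite `a ≫ b` as the transfer map of the composite functor `b⁻¹ ⋙ a⁻¹` -/
theorem trans_inv_comp {A : CohTop.Ab Z} {B : CohTop.Ab X}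
    (φc : (CohPull.inv (a ≫ b)).obj A ⟶ B) (φab : (CohPull.inv a).obj ((CohPull.inv b).obj A) ⟶ B)
    (hφ : (CohPull.invPushAdj (a ≫ b)).homEquiv _ _ φc =
      (CohPull.invPushAdj b).homEquiv _ _ ((CohPull.invPushAdj a).homEquiv _ _ φab))
    (p : ℕ) (x : Ext.{u} (CohTop.const Z (ULift.{u} ℤ)) A p) :
    trans (CohPull.inv (a ≫ b)) (CohPull.oneTo (a ≫ b)) φc p x =
      trans (CohPull.inv b ⋙ CohPull.inv a) (CohPull.oneTo a ≫ (CohPull.inv a).map (CohPull.oneTo b))
        φab p x := by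
  rw [eq_invComp_comp a b φc φab hφ, oneTo_comp]
  exact (trans_natTrans (CohPull.inv (a ≫ b)) (CohPull.inv b ⋙ CohPull.inv a) (invComp a b) _ φc p x).symm

end

end Groth.Agent.R2.H81.InvComp
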