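import Mathlib
import Groth.Prelude.Def_CohCmp
import Groth.Agent.R2.H81InvComp
import Groth.Agent.R2.H81CohPull
import Groth.Agent.R2.H81Conj

/-!
# Pseudo-functoriality of the pullback on cohomology of O-modules (helper81)
-/

set_option autoImplicit false
universe u
open CategoryTheory AlgebraicGeometry TopologicalSpace Opposite Abelian

namespace Groth.Agent.R2.H81.PullComp

open Groth.Agent.R2.H81.ExtTrans Groth.Agent.R2.H81.ExtInd Groth.Agent.R2.H81.InvComp
  Groth.Agent.R2.H81.CohPull Groth.Agent.R2.H81.Conj Scheme.Modules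

noncomputable section

variable {S₁ S₂ S₃ : Scheme.{u}}

/-- `mapH β ∘ pullMod r M` as a transfer map -/
theorem mapH_pullMod_eq_trans (r : S₁ ⟶ S₃) (M : S₃.Modules) {N : S₁.Modules}
    (β : (pullback r).obj M ⟶ N) (p : ℕ) (x : Coh.HH S₃ M p) :
    CohPull.mapH β p (CohPull.pullMod r M p x) =
      trans (CohPull.inv r.base) (CohPull.oneTo r.base)
        (CohPull.theta r M ≫ (SheafOfModules.toSheaf S₁.ringCatSheaf).map β) p x := by
  rw [pullMod_eq_trans]
  exact Hmap_trans _ _ _ _ p x

/-- the transpose of `theta r M ≫ β` -/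
theorem homEquiv_theta_comp (r : S₁ ⟶ S₃) (M : S₃.Modules) {N : S₁.Modules}
    (β : (pullback r).obj M ⟶ N) :
    (CohPull.invPushAdj r.base).homEquiv _ _
        (CohPull.theta r M ≫ (SheafOfModules.toSheaf S₁.ringCatSheaf).map β) =
      (SheafOfModules.toSheaf S₃.ringCatSheaf).map ((adjP r).unit.app M ≫ (pushforward r).map β) := by
  rw [Adjunction.homEquiv_naturality_right, CohPull.theta, Equiv.apply_symm_apply, Functor.map_comp]
  rfl

end

end Groth.Agent.R2.H81.PullComp
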