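import Mathlib
import Groth.Prelude.Def_CohCmp
import Groth.Agent.R2.H81PullComp

/-!
# The pullback on cohomology of O-modules along a composite (helper81)
-/

set_option autoImplicit false
universe u
open CategoryTheory AlgebraicGeometry TopologicalSpace Opposite Abelian

namespace Groth.Agent.R2.H81.PullComp

open Groth.Agent.R2.H81.ExtTrans Groth.Agent.R2.H81.ExtInd Groth.Agent.R2.H81.InvComp
  Groth.Agent.R2.H81.CohPull Groth.Agent.R2.H81.Conj Scheme.Modules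

noncomputable section

variable {S₁ S₂ S₃ : Scheme.{u}}

/-- the transposed hypothesis of `mapH_pullMod_comp`, from its section-level form -/
theorem transpose_comp (r₁ : S₁ ⟶ S₂) (r₂ : S₂ ⟶ S₃)
    (M : S₃.Modules) {N₂ : S₂.Modules} {N₁ N : S₁.Modules}
    (β : (pullback (r₁ ≫ r₂)).obj M ⟶ N) (β₂ : (pullback r₂).obj M ⟶ N₂)
    (β₁ : (pullback r₁).obj N₂ ⟶ N₁) (γ : N₁ ⟶ N)
    (hs : ∀ (V : S₃.Opens) (s : M.presheaf.obj (op V)),
      ((adjP (r₁ ≫ r₂)).unit.app M ≫ (pushforward (r₁ ≫ r₂)).map β).app V s =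
        (γ.app _ (((adjP r₁).unit.app N₂ ≫ (pushforward r₁).map β₁).app (r₂ ⁻¹ᵁ V)
          (((adjP r₂).unit.app M ≫ (pushforward r₂).map β₂).app V s)))) :
    (CohPull.invPushAdj (r₁.base ≫ r₂.base)).homEquiv _ _
        (CohPull.theta (r₁ ≫ r₂) M ≫ (SheafOfModules.toSheaf S₁.ringCatSheaf).map β) =
      (CohPull.invPushAdj r₂.base).homEquiv _ _ ((CohPull.invPushAdj r₁.base).homEquiv _ _
        (((CohPull.inv r₁.base).map (CohPull.theta r₂ M ≫ (SheafOfModules.toSheaf S₂.ringCatSheaf).map β₂) ≫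
          (CohPull.theta r₁ N₂ ≫ (SheafOfModules.toSheaf S₁.ringCatSheaf).map β₁)) ≫
          (SheafOfModules.toSheaf S₁.ringCatSheaf).map γ)) := by
  refine (homEquiv_theta_comp (r₁ ≫ r₂) M β).trans ?_
  have h1 : ((CohPull.inv r₁.base).map (CohPull.theta r₂ M ≫ (SheafOfModules.toSheaf S₂.ringCatSheaf).map β₂) ≫
          (CohPull.theta r₁ N₂ ≫ (SheafOfModules.toSheaf S₁.ringCatSheaf).map β₁)) ≫
          (SheafOfModules.toSheaf S₁.ringCatSheaf).map γ =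
      (CohPull.inv r₁.base).map (CohPull.theta r₂ M ≫ (SheafOfModules.toSheaf S₂.ringCatSheaf).map β₂) ≫
        (CohPull.theta r₁ N₂ ≫ (SheafOfModules.toSheaf S₁.ringCatSheaf).map (β₁ ≫ γ)) := by
    simp only [Functor.map_comp, Category.assoc]
  have e2 : (CohPull.invPushAdj r₁.base).homEquiv _ _
      (((CohPull.inv r₁.base).map (CohPull.theta r₂ M ≫ (SheafOfModules.toSheaf S₂.ringCatSheaf).map β₂) ≫
          (CohPull.theta r₁ N₂ ≫ (SheafOfModules.toSheaf S₁.ringCatSheaf).map β₁)) ≫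
          (SheafOfModules.toSheaf S₁.ringCatSheaf).map γ) =
      (CohPull.theta r₂ M ≫ (SheafOfModules.toSheaf S₂.ringCatSheaf).map β₂) ≫
        (SheafOfModules.toSheaf S₂.ringCatSheaf).map
          ((adjP r₁).unit.app N₂ ≫ (pushforward r₁).map (β₁ ≫ γ)) :=
    (congrArg _ h1).trans ((Adjunction.homEquiv_naturality_left _ _ _).trans
      (congrArg (fun t => (CohPull.theta r₂ M ≫ (SheafOfModules.toSheaf S₂.ringCatSheaf).map β₂) ≫ t)
        (homEquiv_theta_comp r₁ N₂ (β₁ ≫ γ))))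
  refine Eq.trans ?_ (congrArg _ e2).symm
  refine Eq.trans ?_ (Adjunction.homEquiv_naturality_right (CohPull.invPushAdj r₂.base)
    (CohPull.theta r₂ M ≫ (SheafOfModules.toSheaf S₂.ringCatSheaf).map β₂)
    (show (SheafOfModules.toSheaf S₂.ringCatSheaf).obj N₂ ⟶
        (CohTop.push r₁.base).obj ((SheafOfModules.toSheaf S₁.ringCatSheaf).obj N) from
      (SheafOfModules.toSheaf S₂.ringCatSheaf).map
        ((adjP r₁).unit.app N₂ ≫ (pushforward r₁).map (β₁ ≫ γ)))).symm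
  refine Eq.trans ?_ (congrArg (fun t => t ≫ (CohTop.push r₂.base).map
    ((SheafOfModules.toSheaf S₂.ringCatSheaf).map
          ((adjP r₁).unit.app N₂ ≫ (pushforward r₁).map (β₁ ≫ γ)))) (homEquiv_theta_comp r₂ M β₂)).symm
  apply Sheaf.hom_ext
  apply NatTrans.ext
  funext V
  apply ConcreteCategory.hom_ext
  intro s
  exact hs V.unop s

/-- the pullback on cohomology along a composite `r₁ ≫ r₂`, followed by `H^p` of a morphism of modules, as the
composite of the corresponding maps for `r₂` and `r₁` -/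
theorem mapH_pullMod_comp' (r₁ : S₁ ⟶ S₂) (r₂ : S₂ ⟶ S₃)
    (M : S₃.Modules) {N₂ : S₂.Modules} {N₁ N : S₁.Modules}
    (β : (pullback (r₁ ≫ r₂)).obj M ⟶ N) (β₂ : (pullback r₂).obj M ⟶ N₂)
    (β₁ : (pullback r₁).obj N₂ ⟶ N₁) (γ : N₁ ⟶ N)
    (hs : ∀ (V : S₃.Opens) (s : M.presheaf.obj (op V)),
      ((adjP (r₁ ≫ r₂)).unit.app M ≫ (pushforward (r₁ ≫ r₂)).map β).app V s =
        (γ.app _ (((adjP r₁).unit.app N₂ ≫ (pushforward r₁).map β₁).app (r₂ ⁻¹ᵁ V)
          (((adjP r₂).unit.app M ≫ (pushforward r₂).map β₂).app V s))))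
    (p : ℕ) (x : Coh.HH S₃ M p) :
    CohPull.mapH β p (CohPull.pullMod (r₁ ≫ r₂) M p x) =
      CohPull.mapH γ p (CohPull.mapH β₁ p (CohPull.pullMod r₁ N₂ p
        (CohPull.mapH β₂ p (CohPull.pullMod r₂ M p x)))) := by
  have hφ := transpose_comp r₁ r₂ M β β₂ β₁ γ hs
  refine (mapH_pullMod_eq_trans (r₁ ≫ r₂) M β p x).trans ?_
  refine (trans_inv_comp r₁.base r₂.base _ _ hφ p x).trans ?_
  refine (Hmap_trans _ _ _ _ p x).symm.trans ?_
  refine congrArg (CohPull.mapH γ p) ?_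
  refine (trans_trans _ _ _ _ _ _ p x).symm.trans ?_
  refine (congrArg _ (mapH_pullMod_eq_trans r₂ M β₂ p x).symm).trans ?_
  exact (mapH_pullMod_eq_trans r₁ N₂ β₁ p _).symm

theorem presheaf_map_id_apply {X : Scheme.{u}} (N : X.Modules) (V : X.Opens) (i : op V ⟶ op V)
    (t : N.presheaf.obj (op V)) : N.presheaf.map i t = t := by
  rw [Subsingleton.elim i (𝟙 _), CategoryTheory.Functor.map_id]
  rfl

/-- `mapH_pullMod_comp'` for a morphism `r` equal to the composite `r₁ ≫ r₂` -/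
theorem mapH_pullMod_comp (r₁ : S₁ ⟶ S₂) (r₂ : S₂ ⟶ S₃) (r : S₁ ⟶ S₃) (e : r = r₁ ≫ r₂)
    (M : S₃.Modules) {N₂ : S₂.Modules} {N₁ N : S₁.Modules}
    (β : (pullback r).obj M ⟶ N) (β₂ : (pullback r₂).obj M ⟶ N₂)
    (β₁ : (pullback r₁).obj N₂ ⟶ N₁) (γ : N₁ ⟶ N)
    (hs : ∀ (V : S₃.Opens) (s : M.presheaf.obj (op V)) (i : op (r₁ ⁻¹ᵁ (r₂ ⁻¹ᵁ V)) ⟶ op (r ⁻¹ᵁ V)),
      ((adjP r).unit.app M ≫ (pushforward r).map β).app V s =
        N.presheaf.map i (γ.app _ (((adjP r₁).unit.app N₂ ≫ (pushforward r₁).map β₁).app (r₂ ⁻¹ᵁ V)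
          (((adjP r₂).unit.app M ≫ (pushforward r₂).map β₂).app V s))))
    (p : ℕ) (x : Coh.HH S₃ M p) :
    CohPull.mapH β p (CohPull.pullMod r M p x) =
      CohPull.mapH γ p (CohPull.mapH β₁ p (CohPull.pullMod r₁ N₂ p
        (CohPull.mapH β₂ p (CohPull.pullMod r₂ M p x)))) := by
  subst e
  exact mapH_pullMod_comp' r₁ r₂ M β β₂ β₁ γ
    (fun V s => (hs V s (𝟙 (op ((r₁ ≫ r₂) ⁻¹ᵁ V)))).trans (presheaf_map_id_apply N _ _ _)) p x

end

end Groth.Agent.R2.H81.PullComp
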