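import Mathlib
import Groth.Prelude.Def_CohCmp
import Groth.Agent.R2.H81Deg0

/-!
# Section-level description of the transpose of `CohPull.pullOnIso` (helper81)
-/

set_option autoImplicit false
universe u

open CategoryTheory AlgebraicGeometry TopologicalSpace Opposite

namespace Groth.Agent.R2.H81.PullSect

open Groth.Agent.R2.H81.CohPull Groth.Agent.R2.H81.Conj Groth.Agent.R2.H81.Deg0 Scheme.Modules

noncomputable section

variable {X Y Z : Scheme.{u}}

theorem presheaf_map_id_apply {X : Scheme.{u}} (N : X.Modules) (V : X.Opens) (i : op V ⟶ op V)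
    (t : N.presheaf.obj (op V)) : N.presheaf.map i t = t := by
  rw [Subsingleton.elim i (𝟙 _), CategoryTheory.Functor.map_id]
  rfl

/-- the section-level form of `unit_pullOnIso`, over an arbitrary open `W` of the base -/
theorem pullOnIso_sections' (g : X ⟶ Y) (U : Y.Opens) (U' : X.Opens) (h : U' ≤ g ⁻¹ᵁ U) (F : Y.Modules)
    (W : Y.Opens) (s : F.presheaf.obj (op W))
    (i : op (U'.ι ⁻¹ᵁ (g ⁻¹ᵁ W)) ⟶ op ((g.resLE U U' h) ⁻¹ᵁ (U.ι ⁻¹ᵁ W))) :
    (CohPull.pullOnIso g U U' h F).hom.app ((g.resLE U U' h) ⁻¹ᵁ (U.ι ⁻¹ᵁ W))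
        (((adjP (g.resLE U U' h)).unit.app (F.restrict U.ι)).app (U.ι ⁻¹ᵁ W)
          (F.presheaf.map (homOfLE (U.ι.image_preimage_le W)).op s)) =
      (((pullback g).obj F).restrict U'.ι).presheaf.map i
        (((pullback g).obj F).presheaf.map (homOfLE (U'.ι.image_preimage_le (g ⁻¹ᵁ W))).op
          (((adjP g).unit.app F).app W s)) := by
  have h1 := congrArg (fun φ => (Scheme.Modules.Hom.app φ W) s) (unit_pullOnIso g U U' h F)
  refine Eq.trans ?_ (h1.trans ?_)
  · rfl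
  · simp only [Hom.comp_app, NatTrans.comp_app, pushforward_map_app, restrictAdjunction_unit_app_app,
      pushforwardCongr_inv_app_app, ConcreteCategory.comp_apply]
    exact map_congr (((pullback g).obj F).restrict U'.ι) _ i _

/-- the transpose of `pullOnIso` under `j^* ⊣ j_*`, `j` the restricted morphism -/
abbrev flat (g : X ⟶ Y) (U : Y.Opens) (U' : X.Opens) (h : U' ≤ g ⁻¹ᵁ U) (F : Y.Modules) :
    F.restrict U.ι ⟶ (pushforward (g.resLE U U' h)).obj (((pullback g).obj F).restrict U'.ι) :=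
  (adjP (g.resLE U U' h)).unit.app (F.restrict U.ι) ≫
    (pushforward (g.resLE U U' h)).map (CohPull.pullOnIso g U U' h F).hom

theorem image_resLE_preimage_le (g : X ⟶ Y) (U : Y.Opens) (U' : X.Opens) (h : U' ≤ g ⁻¹ᵁ U)
    (V : U.toScheme.Opens) : U'.ι ''ᵁ ((g.resLE U U' h) ⁻¹ᵁ V) ≤ g ⁻¹ᵁ (U.ι ''ᵁ V) := by
  have e : (g.resLE U U' h) ⁻¹ᵁ V = U'.ι ⁻¹ᵁ (g ⁻¹ᵁ (U.ι ''ᵁ V)) := by
    conv_lhs => rw [← U.ι.preimage_image_eq V]
    rw [← Scheme.Hom.comp_preimage, ← Scheme.Hom.comp_preimage, Scheme.Hom.resLE_comp_ι]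
  rw [e]
  exact U'.ι.image_preimage_le _

/-- sections of the transpose of `pullOnIso`: the restriction of the unit of `g^* ⊣ g_*` -/
theorem flat_app (g : X ⟶ Y) (U : Y.Opens) (U' : X.Opens) (h : U' ≤ g ⁻¹ᵁ U) (F : Y.Modules)
    (V : U.toScheme.Opens) (s : F.presheaf.obj (op (U.ι ''ᵁ V)))
    (i : op (g ⁻¹ᵁ (U.ι ''ᵁ V)) ⟶ op (U'.ι ''ᵁ ((g.resLE U U' h) ⁻¹ᵁ V))) :
    (flat g U U' h F).app V s =
      ((pullback g).obj F).presheaf.map i (((adjP g).unit.app F).app (U.ι ''ᵁ V) s) := by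
  have e₀ : V = U.ι ⁻¹ᵁ (U.ι ''ᵁ V) := (U.ι.preimage_image_eq V).symm
  have hx : s = (F.restrict U.ι).presheaf.map (eqToHom e₀).op
      (F.presheaf.map (homOfLE (U.ι.image_preimage_le (U.ι ''ᵁ V))).op s) := by
    refine Eq.trans ?_ (restrict_map_apply F U.ι (eqToHom e₀) _).symm
    refine Eq.trans ?_ (map_map F _ _ s).symm
    exact (presheaf_map_id_apply F _ _ s).symm
  refine (congrArg (fun z : (F.restrict U.ι).presheaf.obj (op V) => (flat g U U' h F).app V z) hx).trans ?_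
  refine (nat_push (g.resLE U U' h) (F.restrict U.ι) (((pullback g).obj F).restrict U'.ι)
    (flat g U U' h F) (eqToHom e₀) _).trans ?_
  refine (congrArg (fun z => (((pullback g).obj F).restrict U'.ι).presheaf.map
      ((Opens.map (g.resLE U U' h).base).map (eqToHom e₀)).op z)
    (pullOnIso_sections' g U U' h F (U.ι ''ᵁ V) s
      (eqToHom (by rw [← Scheme.Hom.comp_preimage, ← Scheme.Hom.comp_preimage,
        Scheme.Hom.resLE_comp_ι])).op)).trans ?_
  refine (restrict_map_apply ((pullback g).obj F) U'.ι _ _).trans ?_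
  refine (congrArg _ (restrict_map_apply ((pullback g).obj F) U'.ι (eqToHom _) _)).trans ?_
  refine (map_map _ _ _ _).trans ?_
  refine (map_map _ _ _ _).trans ?_
  exact map_congr _ _ _ _

end

end Groth.Agent.R2.H81.PullSect
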