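import Mathlib
import Groth.Prelude.Def_CohCmp
import Groth.Agent.R2.H81PullSect
import Groth.Agent.R2.H81PullComp2
import Groth.Agent.R2.H81ResLE0

/-!
# `CohPull.pullOn` along a composite (helper81)
-/

set_option autoImplicit false
universe u

open CategoryTheory AlgebraicGeometry TopologicalSpace Opposite

namespace Groth.Agent.R2.H81.PullOnComp

open Groth.Agent.R2.H81.CohPull Groth.Agent.R2.H81.Conj Groth.Agent.R2.H81.Deg0
  Groth.Agent.R2.H81.PullSect Groth.Agent.R2.H81.ResLE0 Scheme.Modules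

noncomputable section

variable {X Y Z : Scheme.{u}}

/-- the unit of `(g₁ ≫ g₂)^* ⊣ (g₁ ≫ g₂)_*` on sections -/
theorem unit_comp_app (g₁ : X ⟶ Y) (g₂ : Y ⟶ Z) (F : Z.Modules) (W : Z.Opens) (s : F.presheaf.obj (op W)) :
    ((adjP (g₁ ≫ g₂)).unit.app F).app W s =
      ((pullbackComp g₁ g₂).hom.app F).app ((g₁ ≫ g₂) ⁻¹ᵁ W)
        (((adjP g₁).unit.app ((pullback g₂).obj F)).app (g₂ ⁻¹ᵁ W) (((adjP g₂).unit.app F).app W s)) := by
  have h1 := unit_conjugateEquiv (adjP (g₁ ≫ g₂)) ((adjP g₂).comp (adjP g₁)) (pullbackComp g₁ g₂).hom F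
  rw [conj_pullbackComp_hom, Adjunction.comp_unit_app] at h1
  have h2 := congrArg (fun φ => (Scheme.Modules.Hom.app φ W) s) h1
  exact h2

/-- the transposes of `pullOnIso` are compatible with composition (section-level form) -/
theorem flat_comp (g₁ : X ⟶ Y) (g₂ : Y ⟶ Z) (UZ : Z.Opens) (UY : Y.Opens) (UX : X.Opens)
    (h₂ : UY ≤ g₂ ⁻¹ᵁ UZ) (h₁ : UX ≤ g₁ ⁻¹ᵁ UY) (h : UX ≤ (g₁ ≫ g₂) ⁻¹ᵁ UZ) (F : Z.Modules)
    (V : UZ.toScheme.Opens) (s : (F.restrict UZ.ι).presheaf.obj (op V))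
    (i : ((g₁ ≫ g₂).resLE UZ UX h) ⁻¹ᵁ V ⟶ (g₁.resLE UY UX h₁) ⁻¹ᵁ ((g₂.resLE UZ UY h₂) ⁻¹ᵁ V)) :
    (flat (g₁ ≫ g₂) UZ UX h F).app V s =
      (((pullback (g₁ ≫ g₂)).obj F).restrict UX.ι).presheaf.map i.op
        (((restrictFunctor UX.ι).map ((pullbackComp g₁ g₂).hom.app F)).app _
          ((flat g₁ UY UX h₁ ((pullback g₂).obj F)).app ((g₂.resLE UZ UY h₂) ⁻¹ᵁ V)
            ((flat g₂ UZ UY h₂ F).app V s))) := by
  have kB := image_resLE_preimage_le g₂ UZ UY h₂ V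
  have kC := image_resLE_preimage_le g₁ UY UX h₁ ((g₂.resLE UZ UY h₂) ⁻¹ᵁ V)
  have kA := image_resLE_preimage_le (g₁ ≫ g₂) UZ UX h V
  have eB := flat_app g₂ UZ UY h₂ F V s (homOfLE kB).op
  have eC := flat_app g₁ UY UX h₁ ((pullback g₂).obj F) ((g₂.resLE UZ UY h₂) ⁻¹ᵁ V)
    ((flat g₂ UZ UY h₂ F).app V s) (homOfLE kC).op
  have eD := nat_push g₁ ((pullback g₂).obj F) ((pullback g₁).obj ((pullback g₂).obj F))
    ((adjP g₁).unit.app ((pullback g₂).obj F)) (homOfLE kB) (((adjP g₂).unit.app F).app (UZ.ι ''ᵁ V) s)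
  refine (flat_app (g₁ ≫ g₂) UZ UX h F V s (homOfLE kA).op).trans ?_
  refine (congrArg (fun z => ((pullback (g₁ ≫ g₂)).obj F).presheaf.map (homOfLE kA).op z)
    (unit_comp_app g₁ g₂ F (UZ.ι ''ᵁ V) s)).trans ?_
  symm
  refine (restrict_map_apply ((pullback (g₁ ≫ g₂)).obj F) UX.ι i _).trans ?_
  refine (congrArg (fun z => ((pullback (g₁ ≫ g₂)).obj F).presheaf.map (UX.ι.opensFunctor.map i).op
    (((pullbackComp g₁ g₂).hom.app F).app (UX.ι ''ᵁ ((g₁.resLE UY UX h₁) ⁻¹ᵁ ((g₂.resLE UZ UY h₂) ⁻¹ᵁ V))) z))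
    (eC.trans (congrArg (fun z => ((pullback g₁).obj ((pullback g₂).obj F)).presheaf.map (homOfLE kC).op
      (((adjP g₁).unit.app ((pullback g₂).obj F)).app _ z)) eB))).trans ?_
  refine (congrArg (fun z => ((pullback (g₁ ≫ g₂)).obj F).presheaf.map (UX.ι.opensFunctor.map i).op
    (((pullbackComp g₁ g₂).hom.app F).app (UX.ι ''ᵁ ((g₁.resLE UY UX h₁) ⁻¹ᵁ ((g₂.resLE UZ UY h₂) ⁻¹ᵁ V)))
      (((pullback g₁).obj ((pullback g₂).obj F)).presheaf.map (homOfLE kC).op z))) eD).trans ?_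
  refine (congrArg (fun z => ((pullback (g₁ ≫ g₂)).obj F).presheaf.map (UX.ι.opensFunctor.map i).op z)
    (hom_naturality_apply ((pullbackComp g₁ g₂).hom.app F) (homOfLE kC).op _)).trans ?_
  refine (congrArg (fun z => ((pullback (g₁ ≫ g₂)).obj F).presheaf.map (UX.ι.opensFunctor.map i).op
    (((pullback (g₁ ≫ g₂)).obj F).presheaf.map (homOfLE kC).op z))
    (hom_naturality_apply ((pullbackComp g₁ g₂).hom.app F) ((Opens.map g₁.base).map (homOfLE kB)).op _)).trans ?_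
  refine (map_map _ _ _ _).trans ?_
  refine (map_map _ _ _ _).trans ?_
  exact map_congr _ _ _ _

set_option maxRecDepth 8000 in
/-- **`CohPull.pullOn` along a composite**: the pullback of cohomology classes over opens along `g₁ ≫ g₂` is the
pullback along `g₂`, then along `g₁`, followed by `H^p` of the composition isomorphism of pullbacks. -/
theorem pullOn_comp (g₁ : X ⟶ Y) (g₂ : Y ⟶ Z) (UZ : Z.Opens) (UY : Y.Opens) (UX : X.Opens)
    (h₂ : UY ≤ g₂ ⁻¹ᵁ UZ) (h₁ : UX ≤ g₁ ⁻¹ᵁ UY) (h : UX ≤ (g₁ ≫ g₂) ⁻¹ᵁ UZ) (F : Z.Modules)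
    (p : ℕ) (x : Coh.HHon Z F UZ p) :
    CohPull.pullOn (g₁ ≫ g₂) UZ UX h F p x =
      CohPull.mapH ((restrictFunctor UX.ι).map ((pullbackComp g₁ g₂).hom.app F)) p
        (CohPull.pullOn g₁ UY UX h₁ ((pullback g₂).obj F) p (CohPull.pullOn g₂ UZ UY h₂ F p x)) := by
  have e : (g₁ ≫ g₂).resLE UZ UX h = g₁.resLE UY UX h₁ ≫ g₂.resLE UZ UY h₂ :=
    (Scheme.Hom.resLE_comp_resLE g₁ h₁ g₂ h₂).symm
  exact PullComp.mapH_pullMod_comp (g₁.resLE UY UX h₁) (g₂.resLE UZ UY h₂) _ e (F.restrict UZ.ι)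
    (CohPull.pullOnIso (g₁ ≫ g₂) UZ UX h F).hom (CohPull.pullOnIso g₂ UZ UY h₂ F).hom
    (CohPull.pullOnIso g₁ UY UX h₁ ((pullback g₂).obj F)).hom
    ((restrictFunctor UX.ι).map ((pullbackComp g₁ g₂).hom.app F))
    (fun V s i => flat_comp g₁ g₂ UZ UY UX h₂ h₁ h F V s i.unop) p x

end

end Groth.Agent.R2.H81.PullOnComp
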