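import Mathlib
import Groth.Prelude.Def_CohCmp
import Groth.Agent.R2.H81PullOnComp
import Groth.Agent.R2.H81ResLE

/-!
# `CohPull.pullOn` versus restriction to smaller opens (helper81)

* `pullMod_mapH`, `pullOn_mapH`: naturality in the module;
* `pullOn_congr`: transport along an equality of morphisms;
* `resLE_pullOn`: restricting after pulling back is pulling back to the smaller open;
* `pullOn_resLE`: pulling back after restricting is pulling back from the bigger open.
-/

set_option autoImplicit false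
universe u

open CategoryTheory CategoryTheory.Limits AlgebraicGeometry TopologicalSpace Opposite Abelian

namespace Groth.Agent.R2.H81.PullRes

open Groth.Agent.R2.H81.ExtTrans Groth.Agent.R2.H81.CohPull Groth.Agent.R2.H81.PullOnComp Scheme.Modules

noncomputable section

variable {X Y : Scheme.{u}}

/-- `H^p` of a composite -/
theorem mapH_comp {M N P : X.Modules} (a : M ⟶ N) (b : N ⟶ P) (p : ℕ) (x : Coh.HH X M p) :
    CohPull.mapH (a ≫ b) p x = CohPull.mapH b p (CohPull.mapH a p x) := by
  change Sheaf.H.map ((SheafOfModules.toSheaf X.ringCatSheaf).map (a ≫ b)) p x = _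
  rw [Functor.map_comp, Sheaf.H.map_comp_apply]

theorem mapH_id (M : X.Modules) (p : ℕ) (x : Coh.HH X M p) : CohPull.mapH (𝟙 M) p x = x :=
  (congrArg (fun t => Sheaf.H.map t p x)
    ((SheafOfModules.toSheaf X.ringCatSheaf).map_id M)).trans (Sheaf.H.map_id_apply x)

/-- `pullMod` is natural in the module -/
theorem pullMod_mapH (g : X ⟶ Y) {M N : Y.Modules} (ψ : M ⟶ N) (p : ℕ) (x : Coh.HH Y M p) :
    CohPull.pullMod g N p (CohPull.mapH ψ p x) =
      CohPull.mapH ((Scheme.Modules.pullback g).map ψ) p (CohPull.pullMod g M p x) := by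
  rw [pullMod_eq_trans, pullMod_eq_trans]
  exact trans_comp_mk₀ (CohPull.inv g.base) (CohPull.oneTo g.base) (CohPull.theta g M) (CohPull.theta g N)
    ((SheafOfModules.toSheaf Y.ringCatSheaf).map ψ)
    ((SheafOfModules.toSheaf X.ringCatSheaf).map ((Scheme.Modules.pullback g).map ψ))
    (theta_naturality g ψ) p x

/-- `pullOn` is natural in the module -/
theorem pullOn_mapH (g : X ⟶ Y) (U : Y.Opens) (U' : X.Opens) (h : U' ≤ g ⁻¹ᵁ U) {F F' : Y.Modules}
    (ψ : F ⟶ F') (p : ℕ) (x : Coh.HHon Y F U p) :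
    CohPull.pullOn g U U' h F' p (CohPull.mapH ((restrictFunctor U.ι).map ψ) p x) =
      CohPull.mapH ((restrictFunctor U'.ι).map ((Scheme.Modules.pullback g).map ψ)) p
        (CohPull.pullOn g U U' h F p x) := by
  change CohPull.mapH (CohPull.pullOnIso g U U' h F').hom p
    (CohPull.pullMod (g.resLE U U' h) (F'.restrict U.ι) p (CohPull.mapH ((restrictFunctor U.ι).map ψ) p x)) =
    CohPull.mapH _ p (CohPull.mapH (CohPull.pullOnIso g U U' h F).hom p
      (CohPull.pullMod (g.resLE U U' h) (F.restrict U.ι) p x))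
  rw [pullMod_mapH, ← mapH_comp, ← mapH_comp, pullOnIso_naturality]

/-- transport of `pullOn` along an equality of morphisms -/
theorem pullOn_congr {g g' : X ⟶ Y} (e : g = g') (U : Y.Opens) (U' : X.Opens) (h : U' ≤ g ⁻¹ᵁ U)
    (h' : U' ≤ g' ⁻¹ᵁ U) (F : Y.Modules) (p : ℕ) (x : Coh.HHon Y F U p) :
    CohPull.pullOn g' U U' h' F p x =
      CohPull.mapH ((restrictFunctor U'.ι).map ((pullbackCongr e).hom.app F)) p
        (CohPull.pullOn g U U' h F p x) := by
  subst e
  have h1 : (restrictFunctor U'.ι).map ((pullbackCongr (rfl : g = g)).hom.app F) = 𝟙 _ := by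
    have : (pullbackCongr (rfl : g = g)).hom.app F = 𝟙 _ := rfl
    rw [this]; exact (restrictFunctor U'.ι).map_id _
  rw [h1, mapH_id]

/-- right unitality of the pullback pseudofunctor, componentwise -/
theorem right_unit_app (g : X ⟶ Y) (F : Y.Modules) :
    (pullbackComp (𝟙 X) g).hom.app F ≫ (pullbackCongr (Category.id_comp g)).hom.app F =
      (pullbackId X).hom.app ((Scheme.Modules.pullback g).obj F) := by
  have h := congrArg (fun t => t.app F) (pseudofunctor_right_unitality g)
  simp only [NatTrans.comp_app, Functor.whiskerLeft_app, Functor.rightUnitor_hom_app] at h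
  have h2 : (pullbackId X).hom.app ((Scheme.Modules.pullback g).obj F) =
      (pullbackComp (𝟙 X) g).hom.app F ≫ ((pullbackComp (𝟙 X) g).inv.app F ≫
        (pullbackId X).hom.app ((Scheme.Modules.pullback g).obj F)) := by
    rw [← Category.assoc, Iso.hom_inv_id_app]
    exact (Category.id_comp _).symm
  rw [h2]
  exact congrArg (fun t => (pullbackComp (𝟙 X) g).hom.app F ≫ t) h.symm

/-- left unitality of the pullback pseudofunctor, componentwise -/
theorem left_unit_app (g : X ⟶ Y) (F : Y.Modules) :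
    (pullbackComp g (𝟙 Y)).inv.app F ≫ (Scheme.Modules.pullback g).map ((pullbackId Y).hom.app F) =
      (pullbackCongr (Category.comp_id g)).hom.app F := by
  have h := congrArg (fun t => t.app F) (pseudofunctor_left_unitality g)
  simp only [NatTrans.comp_app, Functor.whiskerRight_app, Functor.leftUnitor_hom_app] at h
  exact h

/-- (R1) restricting after pulling back is pulling back to the smaller open -/
theorem resLE_pullOn (g : X ⟶ Y) (U : Y.Opens) {U' U'' : X.Opens} (h : U' ≤ g ⁻¹ᵁ U)
    (hle : U'' ≤ U') (F : Y.Modules) (p : ℕ) (x : Coh.HHon Y F U p) :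
    CohPull.resLE ((Scheme.Modules.pullback g).obj F) hle p (CohPull.pullOn g U U' h F p x) =
      CohPull.pullOn g U U'' (hle.trans h) F p x := by
  have hid : U'' ≤ (𝟙 X : X ⟶ X) ⁻¹ᵁ U' := by rwa [Scheme.Hom.id_preimage]
  have hc : U'' ≤ (𝟙 X ≫ g) ⁻¹ᵁ U := by
    rw [Category.id_comp]; exact hle.trans h
  have h1 := pullOn_comp (𝟙 X) g U U' U'' h hid hc F p x
  have h2 := pullOn_congr (Category.id_comp g) U U'' hc (hle.trans h) F p x
  rw [h2, h1, ← mapH_comp, ← Functor.map_comp, right_unit_app]
  rfl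

/-- (R2) pulling back after restricting is pulling back from the bigger open -/
theorem pullOn_resLE (g : X ⟶ Y) {U V : Y.Opens} (hVU : V ≤ U) (U' : X.Opens) (h : U' ≤ g ⁻¹ᵁ V)
    (F : Y.Modules) (p : ℕ) (x : Coh.HHon Y F U p) :
    CohPull.pullOn g V U' h F p (CohPull.resLE F hVU p x) =
      CohPull.pullOn g U U' (h.trans (g.preimage_mono hVU)) F p x := by
  have hid : V ≤ (𝟙 Y : Y ⟶ Y) ⁻¹ᵁ U := by rwa [Scheme.Hom.id_preimage]
  have hc : U' ≤ (g ≫ 𝟙 Y) ⁻¹ᵁ U := by
    rw [Category.comp_id]; exact h.trans (g.preimage_mono hVU)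
  have h1 := pullOn_comp g (𝟙 Y) U V U' hid h hc F p x
  have h2 := pullOn_congr (Category.comp_id g) U U' hc (h.trans (g.preimage_mono hVU)) F p x
  change CohPull.pullOn g V U' h F p
    (CohPull.mapH ((restrictFunctor V.ι).map ((pullbackId Y).hom.app F)) p
      (CohPull.pullOn (𝟙 Y) U V hid F p x)) = _
  rw [pullOn_mapH, h2, h1, ← mapH_comp, ← Functor.map_comp, ← left_unit_app, ← Category.assoc,
    Iso.hom_inv_id_app, Category.id_comp]

end

end Groth.Agent.R2.H81.PullRes
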