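import Groth.Agent.R2.H82MulSurj
import Groth.Agent.Lib.Helper23LocGen
import Groth.Agent.Lib.Helper27TwistAmple2
import Groth.Agent.Lib.Helper27SerreGen4

/-!
# Global generation of regular modules on `P^n` (helper82)

* `locGen_of_pureSpan`: if all global sections of `G ⊗ L` are sums of pure tensors of global
  sections, `L` is generated by `u` over `W`, and `G ⊗ L` is generated by global sections over `V`,
  then `G` is generated by global sections over `V ⊓ W`.
* `isGloballyGenerated_of_pureSpan`: on `P^n_R`, a quasi-coherent module of finite type `G` such that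
  all global sections of `G ⊗ O(e)`, `e ≥ 0`, are sums of pure tensors is globally generated.
* `isGloballyGenerated_twist_of_regular`: an `m`-regular coherent `F` on `P^n_k` has `F(m)` globally
  generated.
-/

set_option autoImplicit false
set_option linter.unusedSectionVars false
set_option linter.unusedVariables false
set_option linter.style.haveILetI false

universe u

open CategoryTheory CategoryTheory.Limits AlgebraicGeometry TopologicalSpace Opposite

namespace Groth.Agent.R2.H82.GlobGen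

open Groth.Agent.R2.H82.KoszulPn Groth.Agent.R2.H79.TwistCalc
  Groth.Agent.Lib.Helper23.SecTw Groth.Agent.R2.H82.Mumford Groth.Agent.R2.H82.MulSurj
  Groth.Agent.Lib.Helper23.LocGen Groth.Agent.Lib.Helper6 Groth.Agent.Lib.Helper23.GenLocus

section General

variable {X : Scheme.{u}}

/-- restrictions of sums of pure tensors of global sections, over an open where `L` is generated
by `u`. -/
theorem exists_tm_eq_of_mem_pureSpan (G L : X.Modules) (W : X.Opens) (u : Γ(L, W))
    (hu : IsGen L W u) (B : X.Opens) (hBW : B ≤ W) {s : Γ(CohB1.tensorMod G L, ⊤)}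
    (hs : s ∈ PureSpan G L) :
    ∃ m' ∈ gspan G B, res (CohB1.tensorMod G L) (le_top : B ≤ ⊤) s = tm G L B m' (res L hBW u) := by
  induction hs using AddSubgroup.closure_induction with
  | mem s hs =>
    obtain ⟨g, t, rfl⟩ := hs
    obtain ⟨r, hr⟩ := (hu B hBW).2 (res L (le_top : B ≤ ⊤) t)
    refine ⟨r • res G (le_top : B ≤ ⊤) g, Submodule.smul_mem _ _ ?_, ?_⟩
    · rw [← sv_secHom G g B]
      exact sv_mem_gspan G _ B
    · rw [res_tm, ← hr, tm_smul_right, tm_smul_left]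
  | zero =>
    exact ⟨0, zero_mem _, by rw [res_zero, tm_zero_left]⟩
  | add a b _ _ ha hb =>
    obtain ⟨m₁, hm₁, e₁⟩ := ha
    obtain ⟨m₂, hm₂, e₂⟩ := hb
    exact ⟨m₁ + m₂, add_mem hm₁ hm₂, by rw [res_add', e₁, e₂, tm_add_left]⟩
  | neg a _ ha =>
    obtain ⟨m₁, hm₁, e₁⟩ := ha
    refine ⟨-m₁, neg_mem hm₁, ?_⟩
    rw [tm_neg_left, ← e₁]
    exact map_neg _ _

theorem exists_tm_eq_of_mem_gspan (G L : X.Modules) (W : X.Opens) (u : Γ(L, W))
    (hu : IsGen L W u) (hps : ∀ s : Γ(CohB1.tensorMod G L, ⊤), s ∈ PureSpan G L)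
    (B : X.Opens) (hBW : B ≤ W) {z : Γ(CohB1.tensorMod G L, B)}
    (hz : z ∈ gspan (CohB1.tensorMod G L) B) :
    ∃ m' ∈ gspan G B, z = tm G L B m' (res L hBW u) := by
  induction hz using Submodule.span_induction with
  | mem z hz =>
    obtain ⟨σ, rfl⟩ := hz
    obtain ⟨m', hm', e⟩ := exists_tm_eq_of_mem_pureSpan G L W u hu B hBW (hps (sv σ ⊤))
    refine ⟨m', hm', ?_⟩
    rw [← e, res_sv]
  | zero => exact ⟨0, zero_mem _, by rw [tm_zero_left]⟩
  | add a b _ _ ha hb =>
    obtain ⟨m₁, hm₁, e₁⟩ := ha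
    obtain ⟨m₂, hm₂, e₂⟩ := hb
    exact ⟨m₁ + m₂, add_mem hm₁ hm₂, by rw [e₁, e₂, tm_add_left]⟩
  | smul r a _ ha =>
    obtain ⟨m₁, hm₁, e₁⟩ := ha
    exact ⟨r • m₁, Submodule.smul_mem _ _ hm₁, by rw [e₁, tm_smul_left]⟩

/-- descent of generation by global sections along `- ⊗ L`. -/
theorem locGen_of_pureSpan (G L : X.Modules) (W : X.Opens) (u : Γ(L, W)) (hu : IsGen L W u)
    (hps : ∀ s : Γ(CohB1.tensorMod G L, ⊤), s ∈ PureSpan G L) (V : X.Opens)
    (hV : LocGen (CohB1.tensorMod G L) V) : LocGen G (V ⊓ W) := by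
  intro A hA m y hy
  have hAW : A ≤ W := hA.trans inf_le_right
  obtain ⟨B, hB, hyB, hmem⟩ := hV A (hA.trans inf_le_left) (tm G L A m (res L hAW u)) y hy
  refine ⟨B, hB, hyB, ?_⟩
  have hBW : B ≤ W := hB.trans hAW
  obtain ⟨m', hm', e⟩ := exists_tm_eq_of_mem_gspan G L W u hu hps B hBW hmem
  have e2 : tm G L B (res G hB m) (res L hBW u) = tm G L B m' (res L hBW u) := by
    rw [← e, res_tm, res_res]
  have e3 : res G hB m = m' := (bijective_tm_of_isGen G L W u hu B hBW).1 e2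
  rw [e3]
  exact hm'

end General

section Pn

variable (n : ℕ) (R : Type u) [CommRing R]

local notation "𝓟" => CohB1.polyGrading n R

open Groth.Agent.Lib.Helper27GrTildeSect in
/-- a coherent module on `P^n_R` all of whose twists `G ⊗ O(e)`, `e ≥ 0`, have their global
sections spanned by pure tensors is globally generated. -/
theorem isGloballyGenerated_of_pureSpan (G : (CohB1.ProjSpace n R).Modules) (hG : Coh.IsCoh G)
    (hps : ∀ (e : ℕ) (s : Γ(CohB1.tensorMod G (GrTilde.tilde 𝓟 𝓟 (e : ℤ)), ⊤)),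
      s ∈ PureSpan G (GrTilde.tilde 𝓟 𝓟 (e : ℤ))) :
    Curv2.IsGloballyGenerated G := by
  let G' : (Proj 𝓟).Modules := G
  haveI : G'.IsQuasicoherent := hG.1
  haveI : SheafOfModules.IsFiniteType (R := (Proj 𝓟).ringCatSheaf) G' := hG.2
  have hcov := Groth.Agent.Lib.Helper27PnSections.exists_X_not_mem n R
  haveI : CompactSpace (Proj 𝓟) := compactSpace_of_cover 𝓟 1
    (fun i : Fin (n + 1) => (MvPolynomial.X i : MvPolynomial (Fin (n + 1)) R))
    (Groth.Agent.Lib.Helper27ProjGamma.hX n R) hcov one_pos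
  have hL := isAmple_of_cover 𝓟 1
    (fun i : Fin (n + 1) => (MvPolynomial.X i : MvPolynomial (Fin (n + 1)) R))
    (Groth.Agent.Lib.Helper27ProjGamma.hX n R) hcov one_pos
  rw [Nat.cast_one] at hL
  refine isGloballyGenerated_of_locGen G' (fun x => ?_)
  obtain ⟨V, n₀, hxV, hV⟩ := exists_locGen_nhd (GrTilde.tilde 𝓟 𝓟 1) hL G' x
  obtain ⟨i, hi⟩ := hcov x
  obtain ⟨Ψ⟩ := nonempty_pow_iso 𝓟 (degOneCover_polyGrading n R) n₀
  have hN : LocGen (CohB1.tensorMod G' (GrTilde.tilde 𝓟 𝓟 (n₀ : ℤ))) V :=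
    (hV n₀ le_rfl).of_iso (Groth.Agent.Lib.Helper23.AmpleIso.tensorModIso (Iso.refl G') Ψ.symm)
  have ha : (MvPolynomial.X i : MvPolynomial (Fin (n + 1)) R) ^ n₀ ∈ 𝓟 n₀ := by
    have := SetLike.pow_mem_graded n₀ (Groth.Agent.Lib.Helper27ProjGamma.hX n R i)
    simpa using this
  have hb : (1 : MvPolynomial (Fin (n + 1)) R) ∈ 𝓟 0 := SetLike.GradedOne.one_mem
  have hWb : ∀ y : (Proj.basicOpen 𝓟 (MvPolynomial.X i : MvPolynomial (Fin (n + 1)) R)),
      (1 : MvPolynomial (Fin (n + 1)) R) ∉ y.1.asHomogeneousIdeal :=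
    fun y => Groth.Agent.R2.H82.TwistZero.one_notMem 𝓟 y.1
  have hWa : ∀ y : (Proj.basicOpen 𝓟 (MvPolynomial.X i : MvPolynomial (Fin (n + 1)) R)),
      (MvPolynomial.X i : MvPolynomial (Fin (n + 1)) R) ^ n₀ ∉ y.1.asHomogeneousIdeal := by
    intro y hy
    exact (ProjectiveSpectrum.mem_basicOpen 𝓟 _ y.1).mp y.2 (y.1.isPrime.mem_of_pow_mem _ hy)
  have hgen := isGen_fracSec 𝓟 (n₀ : ℤ) (Proj.basicOpen 𝓟 (MvPolynomial.X i)) ha hb (by simp)
    hWb hWa
  exact ⟨V ⊓ Proj.basicOpen 𝓟 (MvPolynomial.X i),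
    ⟨hxV, (ProjectiveSpectrum.mem_basicOpen _ _ _).mpr hi⟩,
    locGen_of_pureSpan G' _ _ _ hgen (hps n₀) V hN⟩

end Pn

section Field

variable (k : Type u) [Field k] (n : ℕ) (F : (CohB1.ProjSpace n k).Modules)

/-- global sections of `F(d) ⊗ O(e)` are sums of pure tensors, for `F` `m`-regular, `d ≥ m`. -/
theorem pureSpan_twist (hF : Coh.IsQCoh F) (m d : ℤ) (hd : m ≤ d)
    (h : ∀ j : ℕ, 1 ≤ j → j ≤ n → Subsingleton (Coh.HH (CohB1.ProjSpace n k)
      (CohB1.tensorMod F (Twist.twistProjSpace n k (m - j))) j)) (e : ℕ)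
    (s : Γ(CohB1.tensorMod (CohB1.tensorMod F (Twist.twistProjSpace n k d))
      (GrTilde.tilde (CohB1.polyGrading n k) (CohB1.polyGrading n k) (e : ℤ)), ⊤)) :
    s ∈ PureSpan (CohB1.tensorMod F (Twist.twistProjSpace n k d))
      (GrTilde.tilde (CohB1.polyGrading n k) (CohB1.polyGrading n k) (e : ℤ)) :=
  pureSpan_tilde_nat n k (CohB1.tensorMod F (Twist.twistProjSpace n k d))
    (fun b p hp hpn => by
      rw [← twistProjSpace_eq_tilde]
      obtain ⟨φ⟩ := Groth.Agent.R2.H82.Regularity.nonempty_twist_twist_iso n k F d ((b : ℤ) - p)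
        (d + ((b : ℤ) - p)) rfl
      haveI := subsingleton_HH_twist_of_regular k n F hF m h p (d + ((b : ℤ) - p)) hp (by omega)
      exact Groth.Agent.R2.H82.TwistZero.subsingleton_HH_of_iso φ.symm p) e s

/-- **an `m`-regular coherent module has `F(m)` globally generated**. -/
theorem isGloballyGenerated_twist_of_regular (hF : Coh.IsCoh F) (m : ℤ)
    (h : ∀ j : ℕ, 1 ≤ j → j ≤ n → Subsingleton (Coh.HH (CohB1.ProjSpace n k)
      (CohB1.tensorMod F (Twist.twistProjSpace n k (m - j))) j)) (d : ℤ) (hd : m ≤ d) :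
    Curv2.IsGloballyGenerated (CohB1.tensorMod F (Twist.twistProjSpace n k d)) :=
  isGloballyGenerated_of_pureSpan n k _
    (isCoh_tensorMod F _ hF (isInvertible_twistProjSpace n k d))
    (fun e s => pureSpan_twist k n F hF.1 m d hd h e s)

end Field

end Groth.Agent.R2.H82.GlobGen
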