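import Mathlib

/-!
# Koszul-type iterated mapping cones (helper82)

Abstract homological algebra for the Koszul complex on projective space.

A `KSys A ι` is a family of cochain complexes `C a` (`a : ℤ`) with commuting chain maps
`ξ i a : C a ⟶ C (a + 1)` (`i : ι`).  `S.next j` replaces every `C a` by the mapping cone of
`ξ j a`; `S.iter l` does this successively for the members of a list `l`.

Main result `acyc_iter`: if `Φ` is an additive functor such that `Φ (ξ i a)` is a homotopy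
equivalence for all `a`, and `i ∈ l`, then `Φ ((S.iter l).C a)` is acyclic for all `a`.
-/

set_option autoImplicit false

universe v v' u u'

open CategoryTheory CategoryTheory.Limits Pretriangulated CochainComplex HomologicalComplex

namespace Groth.Agent.R2.H82.KoszulCone

variable {A : Type u} [Category.{v} A] [Abelian A] {B : Type u'} [Category.{v'} B] [Abelian B]

section Phi

variable (Φ : A ⥤ B) [Φ.Additive]

/-- `Φ f` is a homotopy equivalence. -/
def HEq {K L : CochainComplex A ℤ} (f : K ⟶ L) : Prop :=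
  IsIso ((Φ.mapHomotopyCategory (ComplexShape.up ℤ)).map
    ((HomotopyCategory.quotient A (ComplexShape.up ℤ)).map f))

/-- `Φ K` is acyclic (formulated in the homotopy category). -/
def Acyc (K : CochainComplex A ℤ) : Prop :=
  HomotopyCategory.subcategoryAcyclic B ((Φ.mapHomotopyCategory (ComplexShape.up ℤ)).obj
    ((HomotopyCategory.quotient A (ComplexShape.up ℤ)).obj K))

lemma acyc_iff (K : CochainComplex A ℤ) :
    Acyc Φ K ↔ ((Φ.mapHomologicalComplex (ComplexShape.up ℤ)).obj K).Acyclic := by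
  rw [← HomotopyCategory.quotient_obj_mem_subcategoryAcyclic_iff_acyclic]
  exact (HomotopyCategory.subcategoryAcyclic B).prop_iff_of_iso
    ((Φ.mapHomotopyCategoryFactors (ComplexShape.up ℤ)).app K)

lemma hEq_of_isIso {K L : CochainComplex A ℤ} (f : K ⟶ L)
    (hf : IsIso ((Φ.mapHomologicalComplex (ComplexShape.up ℤ)).map f)) : HEq Φ f := by
  have h1 : IsIso ((Φ.mapHomologicalComplex (ComplexShape.up ℤ) ⋙
      HomotopyCategory.quotient B (ComplexShape.up ℤ)).map f) := by
    rw [Functor.comp_map]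
    infer_instance
  exact (NatIso.isIso_map_iff (Φ.mapHomotopyCategoryFactors (ComplexShape.up ℤ)) f).2 h1

/-- `Φ` of a map of mapping cones induced by homotopy equivalences is a homotopy equivalence. -/
lemma hEq_map {K₁ L₁ K₂ L₂ : CochainComplex A ℤ} (φ₁ : K₁ ⟶ L₁) (φ₂ : K₂ ⟶ L₂)
    (a : K₁ ⟶ K₂) (b : L₁ ⟶ L₂) (comm : φ₁ ≫ b = a ≫ φ₂) (ha : HEq Φ a) (hb : HEq Φ b) :
    HEq Φ (mappingCone.map φ₁ φ₂ a b comm) := by
  let ψ := mappingCone.trianglehMapOfHomotopy (Homotopy.ofEq comm)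
  let Ψ := (Φ.mapHomotopyCategory (ComplexShape.up ℤ)).mapTriangle.map ψ
  have h₁ : IsIso Ψ.hom₁ := ha
  have h₂ : IsIso Ψ.hom₂ := hb
  have h₃ : IsIso Ψ.hom₃ := isIso₃_of_isIso₁₂ Ψ
    ((Φ.mapHomotopyCategory (ComplexShape.up ℤ)).map_distinguished _
      (HomotopyCategory.mappingCone_triangleh_distinguished φ₁))
    ((Φ.mapHomotopyCategory (ComplexShape.up ℤ)).map_distinguished _
      (HomotopyCategory.mappingCone_triangleh_distinguished φ₂)) h₁ h₂
  have h4 : Ψ.hom₃ = (Φ.mapHomotopyCategory (ComplexShape.up ℤ)).map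
      ((HomotopyCategory.quotient A (ComplexShape.up ℤ)).map
        (mappingCone.map φ₁ φ₂ a b comm)) := by
    rw [mappingCone.map_eq_mapOfHomotopy]
    rfl
  rw [HEq, ← h4]
  exact h₃

/-- the cone of a map which `Φ` turns into a homotopy equivalence is `Φ`-acyclic. -/
lemma acyc_cone_of_hEq {K L : CochainComplex A ℤ} (φ : K ⟶ L) (h : HEq Φ φ) :
    Acyc Φ (mappingCone φ) := by
  have hT := (Φ.mapHomotopyCategory (ComplexShape.up ℤ)).map_distinguished _
    (HomotopyCategory.mappingCone_triangleh_distinguished φ)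
  have h0 : IsZero ((Φ.mapHomotopyCategory (ComplexShape.up ℤ)).obj
      ((HomotopyCategory.quotient A (ComplexShape.up ℤ)).obj (mappingCone φ))) :=
    Triangle.isZero₃_of_isIso₁ _ hT h
  exact (HomotopyCategory.subcategoryAcyclic B).prop_of_isZero h0

/-- the cone of a map between `Φ`-acyclic complexes is `Φ`-acyclic. -/
lemma acyc_cone_of_acyc {K L : CochainComplex A ℤ} (φ : K ⟶ L) (hK : Acyc Φ K) (hL : Acyc Φ L) :
    Acyc Φ (mappingCone φ) := by
  have hT := (Φ.mapHomotopyCategory (ComplexShape.up ℤ)).map_distinguished _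
    (HomotopyCategory.mappingCone_triangleh_distinguished φ)
  exact (HomotopyCategory.subcategoryAcyclic B).ext_of_isTriangulatedClosed₃ _ hT hK hL

end Phi

/-- a family of complexes with commuting degree-raising chain maps. -/
structure KSys (A : Type u) [Category.{v} A] [Abelian A] (ι : Type) where
  /-- the complexes -/
  C : ℤ → CochainComplex A ℤ
  /-- the maps -/
  ξ : ι → ∀ a, C a ⟶ C (a + 1)
  comm : ∀ i j a, ξ i a ≫ ξ j (a + 1) = ξ j a ≫ ξ i (a + 1)

variable {ι : Type}

lemma map_congr {K₁ L₁ K₂ L₂ : CochainComplex A ℤ} (φ₁ : K₁ ⟶ L₁) (φ₂ : K₂ ⟶ L₂)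
    {a a' : K₁ ⟶ K₂} {b b' : L₁ ⟶ L₂} (ha : a = a') (hb : b = b') (comm : φ₁ ≫ b = a ≫ φ₂)
    (comm' : φ₁ ≫ b' = a' ≫ φ₂) :
    mappingCone.map φ₁ φ₂ a b comm = mappingCone.map φ₁ φ₂ a' b' comm' := by
  subst ha hb
  rfl

/-- cone off the variable `j`. -/
noncomputable def KSys.next (S : KSys A ι) (j : ι) : KSys A ι where
  C a := mappingCone (S.ξ j a)
  ξ i a := mappingCone.map (S.ξ j a) (S.ξ j (a + 1)) (S.ξ i a) (S.ξ i (a + 1)) (S.comm j i a)
  comm i i' a := by
    rw [← mappingCone.map_comp, ← mappingCone.map_comp]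
    exact map_congr _ _ (S.comm i i' a) (S.comm i i' (a + 1)) _ _

/-- cone off successively the members of a list (the last member first). -/
noncomputable def KSys.iter (S : KSys A ι) : List ι → KSys A ι
  | [] => S
  | j :: l => (S.iter l).next j

variable (Φ : A ⥤ B) [Φ.Additive]

lemma hEq_iter (S : KSys A ι) (i : ι) (h : ∀ a, HEq Φ (S.ξ i a)) (l : List ι) :
    ∀ a, HEq Φ ((S.iter l).ξ i a) := by
  induction l with
  | nil => exact h
  | cons j l ih =>
    intro a
    exact hEq_map Φ _ _ _ _ ((S.iter l).comm j i a) (ih a) (ih (a + 1))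

lemma acyc_next_of_acyc (S : KSys A ι) (j : ι) (h : ∀ a, Acyc Φ (S.C a)) :
    ∀ a, Acyc Φ ((S.next j).C a) := fun a =>
  acyc_cone_of_acyc Φ _ (h a) (h (a + 1))

/-- **Main abstract result.** -/
theorem acyc_iter (S : KSys A ι) (i : ι) (h : ∀ a, HEq Φ (S.ξ i a)) (l : List ι) (hi : i ∈ l) :
    ∀ a, Acyc Φ ((S.iter l).C a) := by
  induction l with
  | nil => exact absurd hi (List.not_mem_nil)
  | cons j l ih =>
    by_cases hij : i = j
    · subst hij
      intro a
      exact acyc_cone_of_hEq Φ _ (hEq_iter Φ S i h l a)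
    · have hi' : i ∈ l := by
        rcases List.mem_cons.1 hi with h' | h'
        · exact absurd h' hij
        · exact h'
      exact acyc_next_of_acyc Φ _ j (ih hi')

section Terms

/-- the degree-`q` term of a cone. -/
noncomputable def nextXIso (S : KSys A ι) (j : ι) (a q : ℤ) :
    ((S.next j).C a).X q ≅ (S.C a).X (q + 1) ⊞ (S.C (a + 1)).X q :=
  HomologicalComplex.homotopyCofiber.XIsoBiprod (S.ξ j a) q (q + 1) rfl

/-- propagation of a property of the terms through the iterated cones. -/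
theorem prop_iter (P : ℕ → ℤ → ℤ → A → Prop)
    (hiso : ∀ k a q (M N : A), (M ≅ N) → P k a q M → P k a q N)
    (hstep : ∀ k a q (M N : A), P k a (q + 1) M → P k (a + 1) q N → P (k + 1) a q (M ⊞ N))
    (S : KSys A ι) (hS : ∀ a q, P 0 a q ((S.C a).X q)) (l : List ι) :
    ∀ a q, P l.length a q (((S.iter l).C a).X q) := by
  induction l with
  | nil => exact hS
  | cons j l ih =>
    intro a q
    exact hiso _ _ _ _ _ (nextXIso (S.iter l) j a q).symm
      (hstep _ _ _ _ _ (ih a (q + 1)) (ih (a + 1) q))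

end Terms

section Base

/-- the system of complexes concentrated in degree `d₀`. -/
noncomputable def KSys.base (d₀ : ℤ) (L : ℤ → A) (x : ι → ∀ a, L a ⟶ L (a + 1))
    (hx : ∀ i j a, x i a ≫ x j (a + 1) = x j a ≫ x i (a + 1)) : KSys A ι where
  C a := (HomologicalComplex.single A (ComplexShape.up ℤ) d₀).obj (L a)
  ξ i a := (HomologicalComplex.single A (ComplexShape.up ℤ) d₀).map (x i a)
  comm i j a := by rw [← Functor.map_comp, ← Functor.map_comp, hx]

variable (d₀ : ℤ) (L : ℤ → A) (x : ι → ∀ a, L a ⟶ L (a + 1))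
  (hx : ∀ i j a, x i a ≫ x j (a + 1) = x j a ≫ x i (a + 1))

lemma hEq_base (i : ι) (a : ℤ) (h : IsIso (Φ.map (x i a))) :
    HEq Φ ((KSys.base d₀ L x hx).ξ i a) := by
  apply hEq_of_isIso
  have h1 : IsIso ((Φ ⋙ HomologicalComplex.single B (ComplexShape.up ℤ) d₀).map (x i a)) := by
    rw [Functor.comp_map]
    infer_instance
  exact (NatIso.isIso_map_iff
    (HomologicalComplex.singleMapHomologicalComplex Φ (ComplexShape.up ℤ) d₀) (x i a)).2 h1

/-- the degree-`d₀` term of the base system. -/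
noncomputable def baseXIso (a : ℤ) : ((KSys.base d₀ L x hx).C a).X d₀ ≅ L a :=
  HomologicalComplex.singleObjXSelf (ComplexShape.up ℤ) d₀ (L a)

lemma isZero_base_X (a q : ℤ) (hq : q ≠ d₀) : IsZero (((KSys.base d₀ L x hx).C a).X q) :=
  HomologicalComplex.isZero_single_obj_X (ComplexShape.up ℤ) d₀ (L a) q hq

/-- the Koszul complexes: iterated cones over the base system. -/
noncomputable def koszul (l : List ι) (a : ℤ) : CochainComplex A ℤ :=
  ((KSys.base d₀ L x hx).iter l).C a

theorem acyc_koszul (l : List ι) (i : ι) (hi : i ∈ l) (h : ∀ a, IsIso (Φ.map (x i a))) (a : ℤ) :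
    ((Φ.mapHomologicalComplex (ComplexShape.up ℤ)).obj (koszul d₀ L x hx l a)).Acyclic :=
  (acyc_iff Φ _).1
    (acyc_iter Φ (KSys.base d₀ L x hx) i (fun a => hEq_base Φ d₀ L x hx i a (h a)) l hi a)

/-- propagation of a property to the terms of the Koszul complexes. -/
theorem prop_koszul (P : ℕ → ℤ → ℤ → A → Prop)
    (hiso : ∀ k a q (M N : A), (M ≅ N) → P k a q M → P k a q N)
    (hstep : ∀ k a q (M N : A), P k a (q + 1) M → P k (a + 1) q N → P (k + 1) a q (M ⊞ N))
    (h0 : ∀ a, P 0 a d₀ (L a)) (hz : ∀ a q (M : A), q ≠ d₀ → IsZero M → P 0 a q M)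
    (l : List ι) (a q : ℤ) : P l.length a q ((koszul d₀ L x hx l a).X q) := by
  refine prop_iter P hiso hstep (KSys.base d₀ L x hx) (fun a q => ?_) l a q
  by_cases hq : q = d₀
  · subst hq
    exact hiso _ _ _ _ _ (baseXIso q L x hx a).symm (h0 a)
  · exact hz a q _ hq (isZero_base_X d₀ L x hx a q hq)

end Base

section IsSum

variable {D : Type u} [Category.{v} D] [Abelian D]

/-- `M` is a direct sum of `c` copies of `N`. -/
def IsSum (M N : D) (c : ℕ) : Prop := Nonempty (M ≅ ∐ fun _ : Fin c => N)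

lemma IsSum.of_iso {M M' N : D} {c : ℕ} (h : IsSum M N c) (e : M ≅ M') : IsSum M' N c :=
  ⟨e.symm ≪≫ h.some⟩

lemma IsSum.congr {M N N' : D} {c c' : ℕ} (h : IsSum M N c) (hN : N = N') (hc : c = c') :
    IsSum M N' c' := by
  subst hN hc
  exact h

lemma isSum_zero {M : D} (N : D) (hM : IsZero M) : IsSum M N 0 := by
  refine ⟨hM.iso ?_⟩
  rw [IsZero.iff_id_eq_zero]
  apply Sigma.hom_ext
  intro i
  exact i.elim0

lemma IsSum.isZero {M N : D} (h : IsSum M N 0) : IsZero M := by
  obtain ⟨e⟩ := h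
  refine IsZero.of_iso ?_ e
  rw [IsZero.iff_id_eq_zero]
  apply Sigma.hom_ext
  intro i
  exact i.elim0

lemma isSum_one (N : D) : IsSum N N 1 := by
  refine ⟨⟨Sigma.ι (fun _ : Fin 1 => N) 0, Sigma.desc (fun _ => 𝟙 N), by simp, ?_⟩⟩
  apply Sigma.hom_ext
  intro i
  obtain rfl : i = 0 := Subsingleton.elim _ _
  simp

/-- the coproduct over `Fin (c + c')` as a biproduct. -/
noncomputable def sigmaFinAddIso (N : D) (c c' : ℕ) :
    (∐ fun _ : Fin (c + c') => N) ≅ (∐ fun _ : Fin c => N) ⊞ (∐ fun _ : Fin c' => N) where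
  hom := Sigma.desc (fun i : Fin (c + c') =>
    Fin.addCases (motive := fun _ => N ⟶ (∐ fun _ : Fin c => N) ⊞ (∐ fun _ : Fin c' => N))
      (fun j => Sigma.ι (fun _ : Fin c => N) j ≫ biprod.inl)
      (fun j => Sigma.ι (fun _ : Fin c' => N) j ≫ biprod.inr) i)
  inv := biprod.desc (Sigma.desc fun j => Sigma.ι (fun _ : Fin (c + c') => N) (Fin.castAdd c' j))
    (Sigma.desc fun j => Sigma.ι (fun _ : Fin (c + c') => N) (Fin.natAdd c j))
  hom_inv_id := by
    apply Sigma.hom_ext
    intro i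
    induction i using Fin.addCases with
    | left j => simp
    | right j => simp
  inv_hom_id := by
    apply biprod.hom_ext'
    · apply Sigma.hom_ext
      intro j
      simp
    · apply Sigma.hom_ext
      intro j
      simp

lemma IsSum.biprod {M M' N : D} {c c' : ℕ} (h : IsSum M N c) (h' : IsSum M' N c') :
    IsSum (M ⊞ M') N (c + c') := by
  obtain ⟨e⟩ := h
  obtain ⟨e'⟩ := h'
  exact ⟨biprod.mapIso e e' ≪≫ (sigmaFinAddIso N c c').symm⟩

end IsSum

section Count

/-- the number of summands of the Koszul complex of level `k` in degree `q` (top degree `d₀`). -/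
def cnt (d₀ : ℤ) (k : ℕ) (q : ℤ) : ℕ := if q ≤ d₀ then Nat.choose k (d₀ - q).toNat else 0

lemma cnt_zero_self (d₀ : ℤ) : cnt d₀ 0 d₀ = 1 := by simp [cnt]

lemma cnt_zero_ne (d₀ q : ℤ) (hq : q ≠ d₀) : cnt d₀ 0 q = 0 := by
  unfold cnt
  split_ifs with h
  · have : 0 < (d₀ - q).toNat := by omega
    exact Nat.choose_eq_zero_of_lt this
  · rfl

lemma cnt_succ (d₀ : ℤ) (k : ℕ) (q : ℤ) : cnt d₀ (k + 1) q = cnt d₀ k (q + 1) + cnt d₀ k q := by
  unfold cnt
  by_cases h1 : q + 1 ≤ d₀
  · have h2 : q ≤ d₀ := by omega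
    rw [if_pos h1, if_pos h2, if_pos h2]
    obtain ⟨m, hm⟩ : ∃ m : ℕ, (d₀ - q).toNat = m + 1 := ⟨(d₀ - q).toNat - 1, by omega⟩
    have hm' : (d₀ - (q + 1)).toNat = m := by omega
    rw [hm, hm', Nat.choose_succ_succ]
  · rw [if_neg h1]
    by_cases h2 : q ≤ d₀
    · have h3 : (d₀ - q).toNat = 0 := by omega
      rw [if_pos h2, if_pos h2, h3]
      simp
    · rw [if_neg h2, if_neg h2]

end Count

section Terms2

variable (d₀ : ℤ) (L : ℤ → A) (x : ι → ∀ a, L a ⟶ L (a + 1))
  (hx : ∀ i j a, x i a ≫ x j (a + 1) = x j a ≫ x i (a + 1))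

/-- the terms of the Koszul complexes are sums of copies of the `L b`. -/
theorem isSum_koszul_X (l : List ι) (a q : ℤ) :
    IsSum ((koszul d₀ L x hx l a).X q) (L (a + l.length + q - d₀)) (cnt d₀ l.length q) := by
  refine prop_koszul d₀ L x hx (fun k a q M => IsSum M (L (a + k + q - d₀)) (cnt d₀ k q))
    (fun k a q M N e h => h.of_iso e) ?_ ?_ ?_ l a q
  · intro k a q M N hM hN
    have h1 : IsSum M (L (a + (k + 1 : ℕ) + q - d₀)) (cnt d₀ k (q + 1)) :=
      hM.congr (congrArg L (by push_cast; ring)) rfl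
    have h2 : IsSum N (L (a + (k + 1 : ℕ) + q - d₀)) (cnt d₀ k q) :=
      hN.congr (congrArg L (by push_cast; ring)) rfl
    exact (h1.biprod h2).congr rfl (cnt_succ d₀ k q).symm
  · intro a
    exact (isSum_one (L a)).congr (congrArg L (by push_cast; ring)) (cnt_zero_self d₀).symm
  · intro a q M hq hM
    exact (isSum_zero _ hM).congr rfl (cnt_zero_ne d₀ q hq).symm

end Terms2

end Groth.Agent.R2.H82.KoszulCone
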