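import Groth.Agent.Lib.Helper27GrTildeMul

/-!
# Multiplication by a homogeneous element on the twisting sheaves of `Proj` (helper82)

For `g ∈ 𝒜 k`: `mulTw 𝒜 hg h : O(p) ⟶ O(q)` (`p + k = q`), multiplication by `g`.

* `mulTw_app` : on sections it is `m ↦ m * (g/1)`;
* `mulTw_comm` : these maps commute;
* `bijective_mulTw_app` : `mulTw` is bijective on sections over opens on which `g` vanishes nowhere.
-/

set_option autoImplicit false
universe u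

open CategoryTheory CategoryTheory.Limits AlgebraicGeometry TopologicalSpace Opposite
  HomogeneousLocalization

namespace Groth.Agent.R2.H82.TwistMul

open Groth.Agent.Lib.Helper27GrTildeSect

variable {R A : Type u} [CommRing R] [CommRing A] [Algebra R A] (𝒜 : ℕ → Submodule R A)
  [GradedAlgebra 𝒜]

theorem one_not_mem (y : ProjectiveSpectrum 𝒜) : (1 : A) ∉ y.asHomogeneousIdeal := fun h =>
  y.isPrime.ne_top ((Ideal.eq_top_iff_one _).mpr h)

/-- the section `g / 1` of `O(k)` over `W`, for `g` homogeneous of degree `k`. -/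
noncomputable def gSec {k : ℕ} {g : A} (hg : g ∈ 𝒜 k) (W : (Proj 𝒜).Opens) :
    Γ(GrTilde.tilde 𝒜 𝒜 (k : ℤ), W) :=
  fracSec 𝒜 (k : ℤ) W hg (SetLike.GradedOne.one_mem : (1 : A) ∈ 𝒜 0) (by simp)
    (fun y => one_not_mem 𝒜 y.1)

variable {k : ℕ} {g : A} (hg : g ∈ 𝒜 k) {p q : ℤ} (h : p + (k : ℤ) = q)

/-- multiplication by `g` on the underlying presheaves of abelian groups. -/
noncomputable def mulTwPre :
    (GrTilde.tilde 𝒜 𝒜 p).val.presheaf ⟶ (GrTilde.tilde 𝒜 𝒜 q).val.presheaf where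
  app U := AddCommGrpCat.ofHom
    { toFun := fun m => mulSec 𝒜 𝒜 h U.unop m (gSec 𝒜 hg U.unop)
      map_zero' := sec_ext 𝒜 𝒜 q U.unop _ _ (fun y hy =>
        (secVal_mulSec 𝒜 𝒜 h U.unop 0 (gSec 𝒜 hg U.unop) y hy).trans (smul_zero _))
      map_add' := fun m m' => mulSec_add_left 𝒜 𝒜 h U.unop m m' _ }
  naturality U V f := by
    ext m
    rfl

/-- multiplication by `g`: `O(p) ⟶ O(p + k)`. -/
noncomputable def mulTw : GrTilde.tilde 𝒜 𝒜 p ⟶ GrTilde.tilde 𝒜 𝒜 q :=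
  ⟨PresheafOfModules.homMk (mulTwPre 𝒜 hg h) (fun U r m =>
    mulSec_smul_left 𝒜 𝒜 h U.unop r m (gSec 𝒜 hg U.unop))⟩

theorem mulTw_app (W : (Proj 𝒜).Opens) (m : Γ(GrTilde.tilde 𝒜 𝒜 p, W)) :
    (mulTw 𝒜 hg h).app W m = mulSec 𝒜 𝒜 h W m (gSec 𝒜 hg W) := rfl

theorem secVal_mulTw_app (W : (Proj 𝒜).Opens) (m : Γ(GrTilde.tilde 𝒜 𝒜 p, W))
    (y : ProjectiveSpectrum 𝒜) (hy : y ∈ W) :
    secVal 𝒜 𝒜 q W ((mulTw 𝒜 hg h).app W m) y hy =
      (Localization.mk g (⟨1, one_not_mem 𝒜 y⟩ : y.asHomogeneousIdeal.toIdeal.primeCompl) :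
        Twist.Loc 𝒜 y) • secVal 𝒜 𝒜 p W m y hy := rfl

/-- multiplications by homogeneous elements commute. -/
theorem mulTw_comm {k' : ℕ} {g' : A} (hg' : g' ∈ 𝒜 k') {p q q' r : ℤ} (h₁ : p + (k : ℤ) = q)
    (h₂ : q + (k' : ℤ) = r) (h₁' : p + (k' : ℤ) = q') (h₂' : q' + (k : ℤ) = r) :
    mulTw 𝒜 hg h₁ ≫ mulTw 𝒜 hg' h₂ = mulTw 𝒜 hg' h₁' ≫ mulTw 𝒜 hg h₂' := by
  apply Scheme.Modules.hom_ext
  intro W
  ext m
  change (mulTw 𝒜 hg' h₂).app W ((mulTw 𝒜 hg h₁).app W m) =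
    (mulTw 𝒜 hg h₂').app W ((mulTw 𝒜 hg' h₁').app W m)
  apply sec_ext
  intro y hy
  rw [secVal_mulTw_app, secVal_mulTw_app, secVal_mulTw_app, secVal_mulTw_app]
  exact smul_comm _ _ _

/-- multiplication by `g` is bijective on sections over opens on which `g` vanishes nowhere. -/
theorem bijective_mulTw_app (W : (Proj 𝒜).Opens) (hW : ∀ y : W, g ∉ y.1.asHomogeneousIdeal) :
    Function.Bijective ((mulTw 𝒜 hg h).app W) :=
  bijective_mulSec_fracSec 𝒜 𝒜 h W hg (SetLike.GradedOne.one_mem : (1 : A) ∈ 𝒜 0) (by simp)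
    (fun y => one_not_mem 𝒜 y.1) hW

end Groth.Agent.R2.H82.TwistMul
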