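import Groth.Agent.R2.H82KoszulCone
import Groth.Agent.R2.H82TwistMul
import Groth.Agent.R2.H79TwistCalc
import Groth.Agent.Lib.Helper1KBC3

/-!
# The Koszul complex on projective space (helper82)

For an additive endofunctor `T` of `O`-modules on `P^n_R` (such as `F ⊗ -` or the identity) which
preserves "isomorphisms on a stalk", the Koszul complex
`0 → T O(a) → T O(a+1)^{n+1} → ⋯ → T O(a+n+1) → 0` (degrees `0, …, n+1`) is exact.
-/

set_option autoImplicit false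
universe u

open CategoryTheory CategoryTheory.Limits AlgebraicGeometry TopologicalSpace Opposite

namespace Groth.Agent.R2.H82.KoszulPn

open Groth.Agent.Lib.Helper1.Sky Groth.Agent.Lib.Helper1.StalkTensor Groth.Agent.Lib.Helper1.KBC
  Groth.Agent.Lib.Helper1.BKF Groth.Agent.R2.H82.KoszulCone Groth.Agent.R2.H79.TwistCalc

section Stalk

variable {X : Scheme.{u}}

lemma rs_app {M N : X.Modules} (φ : M ⟶ N) {U V : X.Opens} (i : V ⟶ U) (p : (toPM M).obj (op U)) :
    rs (toPM N) i ((toPMMap φ).app (op U) p) = (toPMMap φ).app (op V) (rs (toPM M) i p) :=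
  (PresheafOfModules.naturality_apply (toPMMap φ) i.op p).symm

/-- a morphism which is bijective on sections over all opens inside a neighbourhood `W` of `y`
is an isomorphism on the stalk at `y`. -/
theorem isIso_stalkFun_map_of_bijective {M N : X.Modules} (φ : M ⟶ N) (W : X.Opens) (y : X)
    (hy : y ∈ W) (h : ∀ V : X.Opens, V ≤ W → Function.Bijective ((toPMMap φ).app (op V))) :
    IsIso ((stalkFun y).map φ) := by
  rw [ConcreteCategory.isIso_iff_bijective]
  change Function.Bijective (sm (toPMMap φ) y)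
  constructor
  · rw [injective_iff_map_eq_zero]
    intro a ha
    obtain ⟨U, hU, p, rfl⟩ := exists_gm_eq a
    have hV : y ∈ U ⊓ W := ⟨hU, hy⟩
    have e1 := gm_rs (P := toPM M) (homOfLE (inf_le_left : U ⊓ W ≤ U)) hV p
    rw [← e1] at ha ⊢
    rw [sm_gm] at ha
    have h0 : gm (toPM N) y (U ⊓ W) hV ((toPMMap φ).app (op (U ⊓ W))
        (rs (toPM M) (homOfLE (inf_le_left : U ⊓ W ≤ U)) p)) = gm (toPM N) y (U ⊓ W) hV 0 := by
      rw [ha, map_zero]
    obtain ⟨V', hV', i1, i2, h12⟩ := gm_eq hV hV _ _ h0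
    rw [rs_app, map_zero] at h12
    have h4 : rs (toPM M) i1 (rs (toPM M) (homOfLE (inf_le_left : U ⊓ W ≤ U)) p) = 0 :=
      (h V' (i1.le.trans inf_le_right)).1 (by rw [h12, map_zero])
    rw [← gm_rs i1 hV', h4, map_zero]
  · intro b
    obtain ⟨U, hU, t, rfl⟩ := exists_gm_eq b
    have hV : y ∈ U ⊓ W := ⟨hU, hy⟩
    obtain ⟨p, hp⟩ := (h (U ⊓ W) inf_le_right).2
      (rs (toPM N) (homOfLE (inf_le_left : U ⊓ W ≤ U)) t)
    refine ⟨gm (toPM M) y (U ⊓ W) hV p, ?_⟩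
    rw [sm_gm, hp, gm_rs]

/-- `F ⊗ -` preserves isomorphisms on a stalk. -/
theorem isIso_stalkFun_map_tensor (F : X.Modules) {K K' : X.Modules} (ψ : K ⟶ K') (y : X)
    (h : IsIso ((stalkFun y).map ψ)) : IsIso ((stalkFun y).map ((tensorLeftF F).map ψ)) := by
  have h2 : IsIso (((G₂ y).obj F).map ψ) := by
    change IsIso (((MonoidalCategory.curriedTensor (ModuleCat.{u} (Groth.Agent.Lib.Helper1.Sky.Ox y))).obj
      ((stalkFun y).obj F)).map ((stalkFun y).map ψ))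
    infer_instance
  exact (NatIso.isIso_map_iff ((stalkTensorIso y).app F) ψ).2 h2

end Stalk

section Proj

variable {R A : Type u} [CommRing R] [CommRing A] [Algebra R A] (𝒜 : ℕ → Submodule R A)
  [GradedAlgebra 𝒜] {ι : Type} (g : ι → A) (hg : ∀ i, g i ∈ 𝒜 1)

/-- multiplication by `g i` : `O(a) ⟶ O(a + 1)`. -/
noncomputable def xi (i : ι) (a : ℤ) : GrTilde.tilde 𝒜 𝒜 a ⟶ GrTilde.tilde 𝒜 𝒜 (a + 1) :=
  TwistMul.mulTw 𝒜 (hg i) (show a + ((1 : ℕ) : ℤ) = a + 1 by push_cast; rfl)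

theorem xi_comm (i j : ι) (a : ℤ) :
    xi 𝒜 g hg i a ≫ xi 𝒜 g hg j (a + 1) = xi 𝒜 g hg j a ≫ xi 𝒜 g hg i (a + 1) :=
  TwistMul.mulTw_comm 𝒜 (hg i) (hg j) _ _ _ _

/-- `g i` is an isomorphism on the stalks at the points of `D₊(g i)`. -/
theorem isIso_stalkFun_map_xi (i : ι) (a : ℤ) (y : Proj 𝒜)
    (hy : g i ∉ (show ProjectiveSpectrum 𝒜 from y).asHomogeneousIdeal) :
    IsIso ((stalkFun y).map (xi 𝒜 g hg i a)) := by
  refine isIso_stalkFun_map_of_bijective (xi 𝒜 g hg i a) (Proj.basicOpen 𝒜 (g i)) y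
    ((ProjectiveSpectrum.mem_basicOpen _ _ _).mpr hy) (fun V hV => ?_)
  exact TwistMul.bijective_mulTw_app 𝒜 (hg i)
    (show a + ((1 : ℕ) : ℤ) = a + 1 by push_cast; rfl) V
    (fun z => (ProjectiveSpectrum.mem_basicOpen _ _ z.1).mp (hV z.2))

variable (T : (Proj 𝒜).Modules ⥤ (Proj 𝒜).Modules) (d₀ : ℤ) (l : List ι)

/-- the Koszul complex of `T` on the elements `g i`, `i ∈ l`, with top degree `d₀`. -/
noncomputable def kos (a : ℤ) : CochainComplex (Proj 𝒜).Modules ℤ :=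
  koszul d₀ (fun b => T.obj (GrTilde.tilde 𝒜 𝒜 b))
    (fun i b => T.map (xi 𝒜 g hg i b))
    (fun i j b => by rw [← T.map_comp, ← T.map_comp, xi_comm])
    l a

/-- the Koszul complex of `T` is acyclic if `T` preserves isomorphisms on stalks and the
`D₊(g i)`, `i ∈ l`, cover `Proj 𝒜`. -/
theorem acyclic_kos
    (hcov : ∀ y : Proj 𝒜, ∃ i ∈ l, g i ∉ (show ProjectiveSpectrum 𝒜 from y).asHomogeneousIdeal)
    (hT : ∀ (y : Proj 𝒜) (i : ι) (b : ℤ),
      IsIso ((stalkFun y).map (xi 𝒜 g hg i b)) → IsIso ((stalkFun y).map (T.map (xi 𝒜 g hg i b))))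
    (a : ℤ) : (kos 𝒜 g hg T d₀ l a).Acyclic := by
  have h : Acyc (kos 𝒜 g hg T d₀ l a) := by
    apply acyc_of_forall_acyc_stalk
    intro y
    obtain ⟨i, hil, hi⟩ := hcov y
    have h1 := acyc_koszul (stalkFun y) d₀
      (fun b => T.obj (GrTilde.tilde 𝒜 𝒜 b)) (fun i b => T.map (xi 𝒜 g hg i b))
      (fun i j b => by rw [← T.map_comp, ← T.map_comp, xi_comm])
      l i hil (fun b => hT y i b (isIso_stalkFun_map_xi 𝒜 g hg i b y hi)) a
    intro q
    exact (HomologicalComplex.exactAt_iff_isZero_homology _ _).1 (h1 q)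
  intro q
  exact (HomologicalComplex.exactAt_iff_isZero_homology _ _).2 (h q)

/-- the terms of the Koszul complex of `T`. -/
theorem isSum_kos_X (a q : ℤ) :
    IsSum ((kos 𝒜 g hg T d₀ l a).X q) (T.obj (GrTilde.tilde 𝒜 𝒜 (a + l.length + q - d₀)))
      (cnt d₀ l.length q) :=
  isSum_koszul_X d₀ (fun b => T.obj (GrTilde.tilde 𝒜 𝒜 b))
    (fun i b => T.map (xi 𝒜 g hg i b))
    (fun i j b => by rw [← T.map_comp, ← T.map_comp, xi_comm]) l a q

end Proj

end Groth.Agent.R2.H82.KoszulPn
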