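import Groth.Agent.R2.H82KoszulPn
import Groth.Agent.Lib.Helper27PnSections

/-!
# The Koszul complex on `P^n_R` (helper82)

Specialisation of `R2/H82KoszulPn` to projective space: for an endofunctor `T` of `O`-modules on
`P^n_R` preserving isomorphisms on stalks (`𝟭` or `F ⊗ -`), the complex
`0 → T O(a) → T O(a+1)^{n+1} → ⋯ → T O(a+n+1) → 0` in degrees `0, …, n + 1` is exact.
-/

set_option autoImplicit false
universe u

open CategoryTheory CategoryTheory.Limits AlgebraicGeometry TopologicalSpace Opposite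

namespace Groth.Agent.R2.H82.KoszulPn

open Groth.Agent.Lib.Helper1.Sky Groth.Agent.R2.H82.KoszulCone Groth.Agent.R2.H79.TwistCalc

variable (n : ℕ) (R : Type u) [CommRing R]

/-- `O(b)` on projective space as the module attached to the shifted polynomial ring. -/
theorem twistProjSpace_eq_tilde (b : ℤ) :
    Twist.twistProjSpace n R b =
      GrTilde.tilde (CohB1.polyGrading n R) (CohB1.polyGrading n R) b :=
  (twistProjSpace_eq n R b).trans (twist_eq_tilde _ b)

variable (T : (CohB1.ProjSpace n R).Modules ⥤ (CohB1.ProjSpace n R).Modules)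

/-- the Koszul complex of `T` on `P^n_R`, in degrees `0, …, n + 1`. -/
noncomputable def kosPn (a : ℤ) : CochainComplex (CohB1.ProjSpace n R).Modules ℤ :=
  kos (CohB1.polyGrading n R)
    (fun i : Fin (n + 1) => (MvPolynomial.X i : MvPolynomial (Fin (n + 1)) R))
    (Groth.Agent.Lib.Helper27ProjGamma.hX n R) T ((n : ℤ) + 1) (List.finRange (n + 1)) a

/-- `T` preserves isomorphisms on stalks (for the coordinate multiplications). -/
def PreservesStalkIso : Prop :=
  ∀ (y : CohB1.ProjSpace n R) (i : Fin (n + 1)) (b : ℤ),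
    IsIso ((stalkFun y).map (xi (CohB1.polyGrading n R)
      (fun i : Fin (n + 1) => (MvPolynomial.X i : MvPolynomial (Fin (n + 1)) R))
      (Groth.Agent.Lib.Helper27ProjGamma.hX n R) i b)) →
    IsIso ((stalkFun y).map (T.map (xi (CohB1.polyGrading n R)
      (fun i : Fin (n + 1) => (MvPolynomial.X i : MvPolynomial (Fin (n + 1)) R))
      (Groth.Agent.Lib.Helper27ProjGamma.hX n R) i b)))

theorem preservesStalkIso_id : PreservesStalkIso n R (𝟭 _) := fun _ _ _ h => h

theorem preservesStalkIso_tensorLeftF (F : (CohB1.ProjSpace n R).Modules) :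
    PreservesStalkIso n R (tensorLeftF F) := fun y _ _ h =>
  isIso_stalkFun_map_tensor F _ y h

theorem acyclic_kosPn (hT : PreservesStalkIso n R T) (a : ℤ) : (kosPn n R T a).Acyclic := by
  refine acyclic_kos (CohB1.polyGrading n R) _ _ T _ _ (fun y => ?_) hT a
  obtain ⟨i, hi⟩ := Groth.Agent.Lib.Helper27PnSections.exists_X_not_mem n R
    (show ProjectiveSpectrum (CohB1.polyGrading n R) from y)
  exact ⟨i, List.mem_finRange i, hi⟩

/-- the terms of the Koszul complex of `T` on `P^n_R`. -/
theorem isSum_kosPn_X (a q : ℤ) :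
    IsSum ((kosPn n R T a).X q) (T.obj (Twist.twistProjSpace n R (a + q)))
      (cnt ((n : ℤ) + 1) (n + 1) q) := by
  have h := isSum_kos_X (CohB1.polyGrading n R)
    (fun i : Fin (n + 1) => (MvPolynomial.X i : MvPolynomial (Fin (n + 1)) R))
    (Groth.Agent.Lib.Helper27ProjGamma.hX n R) T ((n : ℤ) + 1) (List.finRange (n + 1)) a q
  rw [List.length_finRange] at h
  have e : a + ((n + 1 : ℕ) : ℤ) + q - ((n : ℤ) + 1) = a + q := by push_cast; ring
  rw [e] at h
  rw [twistProjSpace_eq_tilde]
  exact h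

theorem cnt_of_le (i : ℕ) (hi : i ≤ n + 1) :
    cnt ((n : ℤ) + 1) (n + 1) (i : ℤ) = Nat.choose (n + 1) i := by
  unfold cnt
  rw [if_pos (by omega)]
  have h1 : ((n : ℤ) + 1 - (i : ℤ)).toNat = n + 1 - i := by omega
  rw [h1, Nat.choose_symm hi]

theorem cnt_of_out (q : ℤ) (hq : q < 0 ∨ (n : ℤ) + 1 < q) : cnt ((n : ℤ) + 1) (n + 1) q = 0 := by
  unfold cnt
  rcases hq with hq | hq
  · rw [if_pos (by omega)]
    exact Nat.choose_eq_zero_of_lt (by omega)
  · rw [if_neg (by omega)]

end Groth.Agent.R2.H82.KoszulPn
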