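import Mathlib
import Groth.Prelude.Def_CohB1
import Groth.Prelude.Def_BlowUp2
import Groth.Agent.Lib.Helper27ProjGamma2

/-!
# The projective line over a field is a Dedekind scheme (helper82)

Namespace `Groth.Agent.R2.H82.ProjLine`.
* `aeval_mul_of_isHomogeneous` : scaling lemma for homogeneous polynomials
* `isDomain_away`, `isPrincipalIdealRing_away` : the charts `k[X₀,X₁]_(X_i)` are PIDs
-/

set_option autoImplicit false
universe u
open CategoryTheory AlgebraicGeometry HomogeneousLocalization nonZeroDivisors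

namespace Groth.Agent.R2.H82.ProjLine

section scaling

variable {σ k S : Type*} [CommSemiring k] [CommSemiring S] [Algebra k S]

theorem aeval_mul_of_isHomogeneous (g : σ → S) (c : S) {n : ℕ} {a : MvPolynomial σ k}
    (ha : a.IsHomogeneous n) :
    MvPolynomial.aeval (fun l => c * g l) a = c ^ n * MvPolynomial.aeval g a := by
  have h := a.as_sum
  conv_lhs => rw [h]
  conv_rhs => rw [h]
  rw [map_sum, map_sum, Finset.mul_sum]
  refine Finset.sum_congr rfl fun s hs => ?_
  rw [MvPolynomial.aeval_monomial, MvPolynomial.aeval_monomial]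
  have hdeg := ha.degree_eq_sum_deg_support hs
  simp only [Finsupp.prod, mul_pow, Finset.prod_mul_distrib, Finset.prod_pow_eq_pow_sum]
  rw [← hdeg]
  ring

end scaling

variable (k : Type u) [Field k]

open Groth.Agent.Lib.Helper27ProjGamma

/-- the other index. -/
def other (i : Fin (1 + 1)) : Fin (1 + 1) := i.rev

theorem eq_or_eq_other (i l : Fin (1 + 1)) : l = i ∨ l = other i := by
  fin_cases i <;> fin_cases l <;> simp [other]

theorem other_ne (i : Fin (1 + 1)) : other i ≠ i := by
  fin_cases i <;> simp [other]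

/-- `X_j / X_i`. -/
noncomputable def ratio (i : Fin (1 + 1)) : Away (CohB1.polyGrading 1 k) (MvPolynomial.X i) :=
  Away.mk (CohB1.polyGrading 1 k) (hX 1 k i) 1 (MvPolynomial.X (other i))
    (by rw [one_smul]; exact hX 1 k (other i))

/-- constants. -/
noncomputable def constHom (i : Fin (1 + 1)) :
    k →+* Away (CohB1.polyGrading 1 k) (MvPolynomial.X i) :=
  (fromZeroRingHom (CohB1.polyGrading 1 k) _).comp (algebraMap k (CohB1.polyGrading 1 k 0))

/-- `k[t] → k[X₀,X₁]_(X_i)`, `t ↦ X_j / X_i`. -/
noncomputable def ψ (i : Fin (1 + 1)) :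
    Polynomial k →+* Away (CohB1.polyGrading 1 k) (MvPolynomial.X i) :=
  Polynomial.eval₂RingHom (constHom k i) (ratio k i)

/-- dehomogenisation. -/
noncomputable def ev (i : Fin (1 + 1)) : MvPolynomial (Fin (1 + 1)) k →ₐ[k] Polynomial k :=
  MvPolynomial.aeval (fun l => if l = i then 1 else Polynomial.X)

/-- `1 / X_i`. -/
noncomputable def u (i : Fin (1 + 1)) :
    Localization (Submonoid.powers (MvPolynomial.X i : MvPolynomial (Fin (1 + 1)) k)) :=
  Localization.mk 1 ⟨MvPolynomial.X i, ⟨1, pow_one _⟩⟩

theorem u_mul (i : Fin (1 + 1)) :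
    u k i * algebraMap (MvPolynomial (Fin (1 + 1)) k) _ (MvPolynomial.X i) = 1 := by
  rw [u, ← Localization.mk_one_eq_algebraMap, Localization.mk_mul, one_mul, mul_one]
  exact Localization.mk_self (M := MvPolynomial (Fin (1 + 1)) k)
    (S := Submonoid.powers (MvPolynomial.X i)) ⟨MvPolynomial.X i, ⟨1, pow_one _⟩⟩

theorem val_ratio (i : Fin (1 + 1)) :
    (ratio k i).val = u k i * algebraMap (MvPolynomial (Fin (1 + 1)) k) _ (MvPolynomial.X (other i)) := by
  rw [ratio, Away.val_mk, u, ← Localization.mk_one_eq_algebraMap, Localization.mk_mul, one_mul, mul_one]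
  congr 1
  exact Subtype.ext (pow_one _)

theorem val_constHom (i : Fin (1 + 1)) (r : k) :
    (constHom k i r).val = algebraMap k _ r := by
  change Localization.mk ((algebraMap k (CohB1.polyGrading 1 k 0) r :
    MvPolynomial (Fin (1 + 1)) k)) 1 = _
  rw [Localization.mk_one_eq_algebraMap,
    IsScalarTower.algebraMap_apply k (MvPolynomial (Fin (1 + 1)) k)
      (Localization (Submonoid.powers (MvPolynomial.X i : MvPolynomial (Fin (1 + 1)) k)))]
  rfl

theorem val_ψ (i : Fin (1 + 1)) (p : Polynomial k) :
    (ψ k i p).val = Polynomial.aeval ((ratio k i).val) p := by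
  have h := Polynomial.hom_eval₂ p (constHom k i)
    (algebraMap (Away (CohB1.polyGrading 1 k) (MvPolynomial.X i))
      (Localization (Submonoid.powers (MvPolynomial.X i : MvPolynomial (Fin (1 + 1)) k))))
    (ratio k i)
  rw [HomogeneousLocalization.algebraMap_apply, HomogeneousLocalization.algebraMap_apply] at h
  rw [ψ, Polynomial.coe_eval₂RingHom, h, Polynomial.aeval_def]
  congr 1

theorem aeval_comp_ev (i : Fin (1 + 1)) (a : MvPolynomial (Fin (1 + 1)) k) :
    Polynomial.aeval ((ratio k i).val) (ev k i a) =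
      MvPolynomial.aeval (fun l => u k i * algebraMap (MvPolynomial (Fin (1 + 1)) k) _
        (MvPolynomial.X l)) a := by
  have : (Polynomial.aeval ((ratio k i).val)).comp (ev k i) =
      MvPolynomial.aeval (fun l => u k i * algebraMap (MvPolynomial (Fin (1 + 1)) k)
        (Localization (Submonoid.powers (MvPolynomial.X i : MvPolynomial (Fin (1 + 1)) k)))
        (MvPolynomial.X l)) := by
    apply MvPolynomial.algHom_ext
    intro l
    rw [AlgHom.comp_apply, ev, MvPolynomial.aeval_X, MvPolynomial.aeval_X]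
    rcases eq_or_eq_other i l with rfl | rfl
    · rw [if_pos rfl, map_one, u_mul]
    · rw [if_neg (other_ne i), Polynomial.aeval_X, val_ratio]
  exact congrArg (fun f => f a) this

theorem ψ_surjective (i : Fin (1 + 1)) : Function.Surjective (ψ k i) := by
  intro z
  obtain ⟨n, a, ha, rfl⟩ := Away.mk_surjective (CohB1.polyGrading 1 k) (hX 1 k i) z
  refine ⟨ev k i a, ?_⟩
  apply val_injective
  have ha' : a.IsHomogeneous n := by
    have : n • 1 = n := by simp
    rw [this] at ha
    exact ha
  rw [val_ψ, aeval_comp_ev, aeval_mul_of_isHomogeneous _ _ ha', Away.val_mk, u, Localization.mk_pow,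
    one_pow]
  have h2 : MvPolynomial.aeval (fun l => algebraMap (MvPolynomial (Fin (1 + 1)) k)
      (Localization (Submonoid.powers (MvPolynomial.X i : MvPolynomial (Fin (1 + 1)) k)))
      (MvPolynomial.X l)) a = algebraMap _ _ a := by
    have : MvPolynomial.aeval (fun l => algebraMap (MvPolynomial (Fin (1 + 1)) k)
      (Localization (Submonoid.powers (MvPolynomial.X i : MvPolynomial (Fin (1 + 1)) k)))
      (MvPolynomial.X l)) = IsScalarTower.toAlgHom k _ _ := by
      apply MvPolynomial.algHom_ext
      intro l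
      rw [MvPolynomial.aeval_X]; rfl
    rw [this]; rfl
  rw [h2, ← Localization.mk_one_eq_algebraMap, Localization.mk_mul, one_mul, mul_one]
  congr 1

instance isDomain_away (i : Fin (1 + 1)) :
    IsDomain (Away (CohB1.polyGrading 1 k) (MvPolynomial.X i)) := by
  have h1 : Submonoid.powers (MvPolynomial.X i : MvPolynomial (Fin (1 + 1)) k) ≤
      (MvPolynomial (Fin (1 + 1)) k)⁰ :=
    powers_le_nonZeroDivisors_of_noZeroDivisors (MvPolynomial.X_ne_zero i)
  have : IsDomain (Localization (Submonoid.powers
      (MvPolynomial.X i : MvPolynomial (Fin (1 + 1)) k))) :=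
    IsLocalization.isDomain_localization h1
  exact Function.Injective.isDomain
    (algebraMap (Away (CohB1.polyGrading 1 k) (MvPolynomial.X i)) (Localization _))
    (val_injective _)

instance isPrincipalIdealRing_away (i : Fin (1 + 1)) :
    IsPrincipalIdealRing (Away (CohB1.polyGrading 1 k) (MvPolynomial.X i)) :=
  IsPrincipalIdealRing.of_surjective (ψ k i) (ψ_surjective k i)

section geometry

open Scheme.IdealSheafData

/-- the generic point of `P¹_k`. -/
noncomputable def η' : ProjectiveSpectrum (CohB1.polyGrading 1 k) where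
  asHomogeneousIdeal := ⊥
  isPrime := by
    rw [HomogeneousIdeal.toIdeal_bot]
    exact Ideal.isPrime_bot
  not_irrelevant_le := by
    intro h
    have h1 : (MvPolynomial.X 0 : MvPolynomial (Fin (1 + 1)) k) ∈
        HomogeneousIdeal.irrelevant (CohB1.polyGrading 1 k) :=
      HomogeneousIdeal.mem_irrelevant_of_mem _ Nat.one_pos (hX 1 k 0)
    have h2 : (MvPolynomial.X 0 : MvPolynomial (Fin (1 + 1)) k) ∈
        (⊥ : HomogeneousIdeal (CohB1.polyGrading 1 k)).toIdeal := h h1
    rw [HomogeneousIdeal.toIdeal_bot, Ideal.mem_bot] at h2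
    exact MvPolynomial.X_ne_zero 0 h2

/-- the generic point of `P¹_k`, as a point of the scheme. -/
noncomputable def η : ↥(Proj (CohB1.polyGrading 1 k)) := η' k

theorem closure_η' :
    closure ({η' k} : Set (ProjectiveSpectrum (CohB1.polyGrading 1 k))) = Set.univ := by
  have h1 := ProjectiveSpectrum.zeroLocus_vanishingIdeal_eq_closure (CohB1.polyGrading 1 k) {η' k}
  rw [ProjectiveSpectrum.vanishingIdeal_singleton] at h1
  rw [← ProjectiveSpectrum.zeroLocus_bot (CohB1.polyGrading 1 k)]
  exact h1.symm

theorem closure_η : closure ({η k} : Set (Proj (CohB1.polyGrading 1 k))) = Set.univ :=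
  closure_η' k

theorem η_mem_basicOpen (i : Fin (1 + 1)) :
    η k ∈ Proj.basicOpen (CohB1.polyGrading 1 k) (MvPolynomial.X i) := by
  rw [Proj.mem_basicOpen]
  intro h
  have h2 : (MvPolynomial.X i : MvPolynomial (Fin (1 + 1)) k) ∈
      (⊥ : HomogeneousIdeal (CohB1.polyGrading 1 k)).toIdeal := h
  rw [HomogeneousIdeal.toIdeal_bot, Ideal.mem_bot] at h2
  exact MvPolynomial.X_ne_zero i h2

/-- the `i`-th standard chart as an affine open. -/
noncomputable def chartOpen (i : Fin (1 + 1)) : (Proj (CohB1.polyGrading 1 k)).affineOpens :=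
  ⟨Proj.basicOpen (CohB1.polyGrading 1 k) (MvPolynomial.X i),
    Proj.isAffineOpen_basicOpen _ _ (hX 1 k i) Nat.one_pos⟩

/-- the sections over the `i`-th chart. -/
noncomputable def sectionsEquiv (i : Fin (1 + 1)) :
    Away (CohB1.polyGrading 1 k) (MvPolynomial.X i) ≃+*
      Γ(Proj (CohB1.polyGrading 1 k), (chartOpen k i).1) :=
  (Proj.basicOpenIsoAway (CohB1.polyGrading 1 k) (MvPolynomial.X i)
    (hX 1 k i) Nat.one_pos).commRingCatIsoToRingEquiv

instance isDomain_sections (i : Fin (1 + 1)) :
    IsDomain Γ(Proj (CohB1.polyGrading 1 k), (chartOpen k i).1) :=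
  (sectionsEquiv k i).symm.toMulEquiv.isDomain _

instance isPrincipalIdealRing_sections (i : Fin (1 + 1)) :
    IsPrincipalIdealRing Γ(Proj (CohB1.polyGrading 1 k), (chartOpen k i).1) :=
  IsPrincipalIdealRing.of_surjective (sectionsEquiv k i).toRingHom (sectionsEquiv k i).surjective

theorem exists_mem_chartOpen (x : Proj (CohB1.polyGrading 1 k)) :
    ∃ i, x ∈ (chartOpen k i).1 := by
  have h := Proj.iSup_basicOpen_eq_top (CohB1.polyGrading 1 k)
    (fun l : Fin (1 + 1) => (MvPolynomial.X l : MvPolynomial (Fin (1 + 1)) k)) (irrelevant_le 1 k)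
  have hx : x ∈ (⊤ : (Proj (CohB1.polyGrading 1 k)).Opens) := trivial
  rw [← h] at hx
  exact TopologicalSpace.Opens.mem_iSup.1 hx

/-- **Every quasi-coherent ideal sheaf on `P¹_k` whose support is not everything is effective
Cartier.** -/
theorem isEffCartierIdeal_of_notMem_support (J : (Proj (CohB1.polyGrading 1 k)).IdealSheafData)
    (p : Proj (CohB1.polyGrading 1 k)) (hp : p ∉ J.support) : BlowUp.IsEffCartierIdeal J := by
  intro x
  obtain ⟨i, hi⟩ := exists_mem_chartOpen k x
  obtain ⟨g, hg⟩ := (IsPrincipalIdealRing.principal (J.ideal (chartOpen k i))).principal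
  refine ⟨chartOpen k i, hi, g, ?_, hg⟩
  apply mem_nonZeroDivisors_of_ne_zero
  rintro rfl
  have hη : η k ∈ J.support := by
    rw [mem_support_iff_of_mem (U := chartOpen k i) (η_mem_basicOpen k i), hg,
      Scheme.mem_zeroLocus_iff]
    intro f hf
    have hf0 : f = 0 := by simpa using hf
    rw [hf0, Scheme.basicOpen_zero]
    exact fun h => h
  have h2 : p ∈ closure ({η k} : Set (Proj (CohB1.polyGrading 1 k))) := by
    rw [closure_η]; trivial
  exact hp (J.support.isClosed.closure_subset_iff.2 (Set.singleton_subset_iff.2 hη) h2)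

end geometry

end Groth.Agent.R2.H82.ProjLine
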