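import Groth.Agent.R2.H82SuppVan
import Groth.Agent.R2.H82Regularity2
import Groth.Agent.R2.H82Mumford

/-!
# Regularity of the cokernel and image of a termwise regular complex (helper82)

For a bounded chain complex `E` of coherent modules on `P^n_k` with `E_s` `(d + s)`-regular and
homology sheaves `H_i(E)`, `i > 0`, supported in dimension `≤ 1`: `coker (E_1 → E_0)` is
`d`-regular and `im (E_1 → E_0)` is `(d + 1)`-regular (S12910).
-/

set_option autoImplicit false
set_option linter.unusedSectionVars false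
set_option linter.unusedVariables false
set_option linter.style.haveILetI false

universe u

open CategoryTheory CategoryTheory.Limits AlgebraicGeometry TopologicalSpace Opposite

namespace Groth.Agent.R2.H82.RegComplex

open Groth.Agent.R2.H82.Regularity Groth.Agent.R2.H79.TwistCalc Groth.Agent.R2.H82.Mumford

section General

variable {X : Scheme.{u}}

theorem support_eq_of_iso {E F : X.Modules} (e : E ≅ F) : CohB1.support E = CohB1.support F := by
  ext x
  change ¬ Subsingleton (E.presheaf.stalk x) ↔ ¬ Subsingleton (F.presheaf.stalk x)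
  have e' : E.presheaf.stalk x ≅ F.presheaf.stalk x :=
    (Scheme.Modules.toPresheaf X ⋙ TopCat.Presheaf.stalkFunctor Ab.{u} x).mapIso e
  have eq : E.presheaf.stalk x ≃ F.presheaf.stalk x :=
    { toFun := e'.hom
      invFun := e'.inv
      left_inv := fun a => by
        change (e'.hom ≫ e'.inv) a = a
        rw [e'.hom_inv_id]; rfl
      right_inv := fun a => by
        change (e'.inv ≫ e'.hom) a = a
        rw [e'.inv_hom_id]; rfl }
  rw [not_iff_not]
  exact ⟨fun h => eq.symm.subsingleton, fun h => eq.subsingleton⟩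

/-- `0 → ker g → A → im g → 0`. -/
theorem shortExact_kernel_image {A B : X.Modules} (g : A ⟶ B) :
    (ShortComplex.mk (kernel.ι g) (Abelian.factorThruImage g) (by
      rw [← cancel_mono (Abelian.image.ι g), Category.assoc, Abelian.image.fac, kernel.condition,
        zero_comp])).ShortExact := by
  let S₁ : ShortComplex X.Modules := ShortComplex.mk (kernel.ι g) (Abelian.factorThruImage g) (by
      rw [← cancel_mono (Abelian.image.ι g), Category.assoc, Abelian.image.fac, kernel.condition,
        zero_comp])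
  let S₂ : ShortComplex X.Modules := ShortComplex.mk (kernel.ι g) g (kernel.condition g)
  let φ : S₁ ⟶ S₂ :=
    { τ₁ := 𝟙 _
      τ₂ := 𝟙 _
      τ₃ := Abelian.image.ι g
      comm₁₂ := by simp [S₁, S₂]
      comm₂₃ := by simp [S₁, S₂] }
  haveI : Epi φ.τ₁ := by dsimp [φ]; infer_instance
  haveI : IsIso φ.τ₂ := by dsimp [φ]; infer_instance
  haveI : Mono φ.τ₃ := by dsimp [φ]; infer_instance
  haveI : Mono S₁.f := by dsimp [S₁]; infer_instance
  haveI : Epi S₁.g := by dsimp [S₁]; infer_instance
  exact ShortComplex.ShortExact.mk ((ShortComplex.exact_iff_of_epi_of_isIso_of_mono φ).2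
    (ShortComplex.exact_kernel _))

/-- `0 → im f → B → coker f → 0`. -/
theorem shortExact_image_cokernel {A B : X.Modules} (f : A ⟶ B) :
    (ShortComplex.mk (Abelian.image.ι f) (cokernel.π f) (kernel.condition _)).ShortExact :=
  { exact := ShortComplex.exact_of_f_is_kernel _ (kernelIsKernel (cokernel.π f)) }

/-- the map `im f → ker g` for `f ≫ g = 0`. -/
noncomputable def imageToKer {A B C : X.Modules} (f : A ⟶ B) (g : B ⟶ C) (w : f ≫ g = 0) :
    Abelian.image f ⟶ kernel g :=
  kernel.lift g (Abelian.image.ι f) (by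
    rw [← cancel_epi (Abelian.factorThruImage f), ← Category.assoc, Abelian.image.fac, w, comp_zero])

instance {A B C : X.Modules} (f : A ⟶ B) (g : B ⟶ C) (w : f ≫ g = 0) : Mono (imageToKer f g w) :=
  mono_of_mono_fac (kernel.lift_ι g (Abelian.image.ι f) _)

/-- the cokernel of `im f → ker g` is the homology. -/
noncomputable def cokernelImageToKerIso {A B C : X.Modules} (f : A ⟶ B) (g : B ⟶ C)
    (w : f ≫ g = 0) : cokernel (imageToKer f g w) ≅ (ShortComplex.mk f g w).homology :=
  (cokernelEpiComp (Abelian.factorThruImage f) (imageToKer f g w)).symm ≪≫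
    cokernelIsoOfEq (show Abelian.factorThruImage f ≫ imageToKer f g w = kernel.lift g f w by
      rw [← cancel_mono (kernel.ι g)]
      simp [imageToKer]) ≪≫
    (ShortComplex.mk f g w).homologyIsoCokernelLift.symm

end General

section Pn

variable (k : Type u) [Field k] (n : ℕ)

/-- cohomology of a twist of a zero module vanishes. -/
theorem subsingleton_HH_twist_of_isZero {M : (CohB1.ProjSpace n k).Modules} (hM : IsZero M)
    (r : ℤ) (j : ℕ) :
    Subsingleton (Coh.HH (CohB1.ProjSpace n k)
      (CohB1.tensorMod M (Twist.twistProjSpace n k r)) j) :=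
  subsingleton_HH_of_isZero
    (Functor.map_isZero (tensorRightF (Twist.twistProjSpace n k r)) hM) j

/-- twists of a coherent module with support of dimension `≤ 1` have no cohomology in degrees
`≥ 2`. -/
theorem subsingleton_HH_twist_of_supportDim_le_one (Q : (CohB1.ProjSpace n k).Modules)
    (hQ : Coh.IsCoh Q) (hsupp : topologicalKrullDim (CohB1.support Q) ≤ 1) (r : ℤ) (p : ℕ)
    (hp : 2 ≤ p) :
    Subsingleton (Coh.HH (CohB1.ProjSpace n k)
      (CohB1.tensorMod Q (Twist.twistProjSpace n k r)) p) := by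
  have hP : IsProper (CohB1.ProjSpace.toSpec n k) := Groth.Agent.S9705.isProper_projSpace_toSpec n k
  have hPN : IsLocallyNoetherian (CohB1.ProjSpace n k) :=
    LocallyOfFiniteType.isLocallyNoetherian (CohB1.ProjSpace.toSpec n k)
  have hPC : CompactSpace (CohB1.ProjSpace n k) :=
    QuasiCompact.compactSpace_of_compactSpace (CohB1.ProjSpace.toSpec n k)
  have hPNoe : IsNoetherian (CohB1.ProjSpace n k) := {}
  haveI : NoetherianSpace (CohB1.ProjSpace n k) := inferInstance
  refine Groth.Agent.R2.H82.SuppVan.subsingleton_HH_of_supportDim_lt _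
    (isCoh_tensorMod Q _ hQ (isInvertible_twistProjSpace n k r)).2 2 ?_ p hp
  refine lt_of_le_of_lt ((topologicalKrullDim_mono (support_tensorMod_subset Q _)).trans hsupp) ?_
  exact_mod_cast (by norm_num : (1 : ℕ∞) < 2)

variable {k n}

/-- the inductive step. -/
theorem step {A B C : (CohB1.ProjSpace n k).Modules} (f : A ⟶ B) (g : B ⟶ C) (w : f ≫ g = 0)
    (m : ℤ)
    (hB : ∀ j : ℕ, 1 ≤ j → j ≤ n → Subsingleton (Coh.HH (CohB1.ProjSpace n k)
      (CohB1.tensorMod B (Twist.twistProjSpace n k (m - j))) j))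
    (hI : ∀ j : ℕ, 1 ≤ j → j ≤ n → Subsingleton (Coh.HH (CohB1.ProjSpace n k)
      (CohB1.tensorMod (Abelian.image f) (Twist.twistProjSpace n k (m + 1 - j))) j))
    (hH : ∀ (r : ℤ) (p : ℕ), 2 ≤ p → Subsingleton (Coh.HH (CohB1.ProjSpace n k)
      (CohB1.tensorMod (cokernel (imageToKer f g w)) (Twist.twistProjSpace n k r)) p))
    (hZ : Coh.IsQCoh (kernel g)) :
    ∀ j : ℕ, 1 ≤ j → j ≤ n → Subsingleton (Coh.HH (CohB1.ProjSpace n k)
      (CohB1.tensorMod (Abelian.image g) (Twist.twistProjSpace n k (m - j))) j) := by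
  intro j hj hjn
  have hinv := isInvertible_twistProjSpace n k (m - j)
  have hSA := shortExact_twist _ hinv (shortExact_kernel_image g)
  refine subsingleton_HH_X₃ hSA j (hB j hj hjn) ?_
  by_cases hjn' : j + 1 ≤ n
  · have hSB := shortExact_twist _ hinv (shortExact_cokernel (imageToKer f g w))
    refine subsingleton_HH_X₂ hSB (j + 1) ?_ (hH (m - j) (j + 1) (by omega))
    have := hI (j + 1) (by omega) hjn'
    have e : m + 1 - ((j + 1 : ℕ) : ℤ) = m - j := by push_cast; ring
    rw [e] at this
    exact this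
  · exact subsingleton_HH_twist_of_lt n k (kernel g) hZ (m - j) (j + 1) (by omega)

/-- the final step: the cokernel. -/
theorem step_cokernel {A B : (CohB1.ProjSpace n k).Modules} (f : A ⟶ B) (m : ℤ)
    (hB : ∀ j : ℕ, 1 ≤ j → j ≤ n → Subsingleton (Coh.HH (CohB1.ProjSpace n k)
      (CohB1.tensorMod B (Twist.twistProjSpace n k (m - j))) j))
    (hI : ∀ j : ℕ, 1 ≤ j → j ≤ n → Subsingleton (Coh.HH (CohB1.ProjSpace n k)
      (CohB1.tensorMod (Abelian.image f) (Twist.twistProjSpace n k (m + 1 - j))) j))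
    (hIq : Coh.IsQCoh (Abelian.image f)) :
    ∀ j : ℕ, 1 ≤ j → j ≤ n → Subsingleton (Coh.HH (CohB1.ProjSpace n k)
      (CohB1.tensorMod (cokernel f) (Twist.twistProjSpace n k (m - j))) j) := by
  intro j hj hjn
  have hinv := isInvertible_twistProjSpace n k (m - j)
  have hS := shortExact_twist _ hinv (shortExact_image_cokernel f)
  refine subsingleton_HH_X₃ hS j (hB j hj hjn) ?_
  by_cases hjn' : j + 1 ≤ n
  · have := hI (j + 1) (by omega) hjn'
    have e : m + 1 - ((j + 1 : ℕ) : ℤ) = m - j := by push_cast; ring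
    rw [e] at this
    exact this
  · exact subsingleton_HH_twist_of_lt n k _ hIq (m - j) (j + 1) (by omega)

variable (k n)

/-- **S12910**: regularity of the cokernel and the image of the last differential of a termwise
regular complex with small homology. -/
theorem isMRegular_cokernel_image (E : ChainComplex ((CohB1.ProjSpace n k).Modules) ℕ) (t : ℕ)
    (hbdd : ∀ s : ℕ, t < s → IsZero (E.X s)) (hcoh : ∀ s : ℕ, Coh.IsCoh (E.X s)) (d : ℤ)
    (hreg : ∀ s : ℕ, Curv2.IsMRegular k n (E.X s) (d + s))
    (hsupp : ∀ i : ℕ, 0 < i → topologicalKrullDim (CohB1.support (E.homology i)) ≤ 1) :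
    Curv2.IsMRegular k n (cokernel (E.d 1 0)) d ∧
      Curv2.IsMRegular k n (Abelian.image (E.d 1 0)) (d + 1) := by
  have hP : IsProper (CohB1.ProjSpace.toSpec n k) := Groth.Agent.S9705.isProper_projSpace_toSpec n k
  haveI hPN : IsLocallyNoetherian (CohB1.ProjSpace n k) :=
    LocallyOfFiniteType.isLocallyNoetherian (CohB1.ProjSpace.toSpec n k)
  have hBcoh : ∀ s : ℕ, Coh.IsCoh (Abelian.image (E.d (s + 1) s)) := fun s =>
    Groth.Agent.R2.H12.Dev.isCoh_kernel (hcoh s) (Groth.Agent.R2.H12.Dev.isCoh_cokernel (hcoh (s + 1)) (hcoh s) _) _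
  have hZcoh : ∀ s : ℕ, Coh.IsCoh (kernel (E.d (s + 1) s)) := fun s =>
    Groth.Agent.R2.H12.Dev.isCoh_kernel (hcoh (s + 1)) (hcoh s) _
  have hHcoh : ∀ s : ℕ, Coh.IsCoh (cokernel (imageToKer (E.d (s + 1 + 1) (s + 1)) (E.d (s + 1) s)
      (E.d_comp_d _ _ _))) := fun s => Groth.Agent.R2.H12.Dev.isCoh_cokernel (hBcoh (s + 1)) (hZcoh s) _
  have hHsupp : ∀ s : ℕ, topologicalKrullDim (CohB1.support
      (cokernel (imageToKer (E.d (s + 1 + 1) (s + 1)) (E.d (s + 1) s) (E.d_comp_d _ _ _)))) ≤ 1 := by
    intro s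
    have e1 := cokernelImageToKerIso (E.d (s + 1 + 1) (s + 1)) (E.d (s + 1) s) (E.d_comp_d _ _ _)
    have e2 : (E.sc' (s + 1 + 1) (s + 1) s).homology ≅ E.homology (s + 1) :=
      (ShortComplex.homologyMapIso (E.isoSc' (s + 1 + 1) (s + 1) s (by simp) (by simp))).symm
    rw [support_eq_of_iso (e1 ≪≫ e2)]
    exact hsupp (s + 1) (Nat.succ_pos s)
  have key : ∀ (u s : ℕ), t ≤ s + u → ∀ j : ℕ, 1 ≤ j → j ≤ n →
      Subsingleton (Coh.HH (CohB1.ProjSpace n k) (CohB1.tensorMod (Abelian.image (E.d (s + 1) s))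
        (Twist.twistProjSpace n k (d + s + 1 - j))) j) := by
    intro u
    induction u with
    | zero =>
      intro s hs j _ _
      have hz : IsZero (Abelian.image (E.d (s + 1) s)) :=
        IsZero.of_epi (Abelian.factorThruImage (E.d (s + 1) s)) (hbdd (s + 1) (by omega))
      exact subsingleton_HH_twist_of_isZero k n hz _ j
    | succ u ih =>
      intro s hs
      have hI := ih (s + 1) (by omega)
      refine step (E.d (s + 1 + 1) (s + 1)) (E.d (s + 1) s) (E.d_comp_d _ _ _) (d + s + 1)
        (fun j hj hjn => ?_) (fun j hj hjn => ?_)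
        (fun r p hp => subsingleton_HH_twist_of_supportDim_le_one k n _ (hHcoh s) (hHsupp s) r p hp)
        (hZcoh s).1
      · have := hreg (s + 1) j hj hjn
        have e : d + ((s + 1 : ℕ) : ℤ) - j = d + s + 1 - j := by push_cast; ring
        rw [e] at this
        exact this
      · have := hI j hj hjn
        have e : d + ((s + 1 : ℕ) : ℤ) + 1 - j = d + s + 1 + 1 - j := by push_cast; ring
        rw [e] at this
        exact this
  have hP0 : ∀ j : ℕ, 1 ≤ j → j ≤ n →
      Subsingleton (Coh.HH (CohB1.ProjSpace n k) (CohB1.tensorMod (Abelian.image (E.d 1 0))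
        (Twist.twistProjSpace n k (d + 1 - j))) j) := by
    intro j hj hjn
    have := key t 0 (by omega) j hj hjn
    have e : d + ((0 : ℕ) : ℤ) + 1 - j = d + 1 - j := by push_cast; ring
    rw [e] at this
    exact this
  refine ⟨?_, hP0⟩
  refine step_cokernel (E.d 1 0) d (fun j hj hjn => ?_) hP0 (hBcoh 0).1
  have := hreg 0 j hj hjn
  have e : d + ((0 : ℕ) : ℤ) - j = d - j := by push_cast; ring
  rw [e] at this
  exact this

end Pn

end Groth.Agent.R2.H82.RegComplex
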