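import Groth.Agent.R2.H2GrothVan
import Groth.Agent.S0020

/-!
# Vanishing of cohomology above the dimension of the support (helper82)

`subsingleton_HH_of_supportDim_lt`: on a scheme with Noetherian underlying space, a module of finite
type `F` with `dim Supp F < c` has `H^p(X, F) = 0` for all `p ≥ c`
(from Grothendieck vanishing on the closed subspace `Supp F`, helper2's `R2/H2GrothVan` and
helper16's closed-embedding package).
-/

set_option autoImplicit false
set_option linter.unusedSectionVars false
set_option linter.unusedVariables false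
set_option linter.style.haveILetI false

universe u

open CategoryTheory CategoryTheory.Limits AlgebraicGeometry TopologicalSpace Opposite

namespace Groth.Agent.R2.H82.SuppVan

open Groth.Agent.Lib.Helper16.ClosedEmb Groth.Agent.R2.H2.GrothVan

variable {X : Scheme.{u}}

/-- sections over an open disjoint from the support vanish -/
theorem eq_zero_of_disjoint_support (M : X.Modules) (W : X.Opens)
    (hW : ∀ x ∈ W, x ∉ CohB1.support M) (s : Γ(M, W)) : s = 0 := by
  apply TopCat.Presheaf.section_ext (⟨M.presheaf, M.isSheaf⟩ : TopCat.Sheaf _ _) W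
  intro x hx
  have h1 := hW x hx
  simp only [CohB1.support, Set.mem_ofPred_eq, not_not] at h1
  exact Subsingleton.elim _ _

/-- **vanishing above the dimension of the support.** -/
theorem subsingleton_HH_of_supportDim_lt [NoetherianSpace X] (F : X.Modules) (hF : CohB1.IsFT F)
    (c : ℕ) (hdim : topologicalKrullDim (CohB1.support F) < (c : WithBot ℕ∞)) (p : ℕ) (hp : c ≤ p) :
    Subsingleton (Coh.HH X F p) := by
  have hcl : IsClosed (CohB1.support F) := Groth.Agent.S0020.result X F hF
  let U : Opens X.toTopCat := ⟨(CohB1.support F)ᶜ, hcl.isOpen_compl⟩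
  have hSZ : SZ U (Coh.toAb F) := by
    intro V hV
    refine ⟨fun a b => ?_⟩
    have h0 : ∀ s : Γ(F, V), s = 0 :=
      eq_zero_of_disjoint_support F V (fun x hx hxs => hV hx hxs)
    exact (h0 a).trans (h0 b).symm
  have hUc : ((U : Set X.toTopCat)ᶜ : Set X.toTopCat) = CohB1.support F := compl_compl _
  haveI hNX : NoetherianSpace X.toTopCat := ‹NoetherianSpace X›
  haveI : NoetherianSpace (TopCat.of ((U : Set X.toTopCat)ᶜ : Set X.toTopCat)) :=
    @NoetherianSpace.set X.toTopCat _ hNX ((U : Set X.toTopCat)ᶜ)
  have hdim' : topologicalKrullDim (TopCat.of ((U : Set X.toTopCat)ᶜ : Set X.toTopCat)) <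
      ((c : ℕ) : WithBot ℕ∞) := by
    change topologicalKrullDim ((U : Set X.toTopCat)ᶜ : Set X.toTopCat) < _
    rw [hUc]
    exact hdim
  haveI hv := vanishing c (TopCat.of ((U : Set X.toTopCat)ᶜ : Set X.toTopCat)) hdim'
    (toZ U _ hSZ) p hp
  obtain ⟨e⟩ := nonempty_H_push (iZ U) (hiZ U) (toZ U _ hSZ) p
  haveI : Subsingleton (CohTop.H ((CohTop.push (iZ U)).obj (toZ U _ hSZ)) p) :=
    e.symm.toEquiv.subsingleton
  exact H_subsingleton_of_iso (asIso (θ U _ hSZ)) p

end Groth.Agent.R2.H82.SuppVan
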