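-- helper83: categorical lemmas for descent of affine morphisms of algebraic spaces.
import Mathlib

set_option autoImplicit false
set_option linter.style.haveILetI false
universe v u
open CategoryTheory CategoryTheory.Limits

namespace Groth.Agent.R2.H83.AffDescCat

variable {C : Type u} [Category.{v} C]

/-- two epimorphisms with the same kernel pair have isomorphic targets, in a category in which
every epimorphism is regular. -/
lemma exists_iso_of_epi_of_same_kernelPair [IsRegularEpiCategory C] {P X X'' : C}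
    (u : P ⟶ X) (u' : P ⟶ X'') [Epi u] [Epi u']
    (h : ∀ {Z : C} (g₁ g₂ : Z ⟶ P), g₁ ≫ u = g₂ ≫ u ↔ g₁ ≫ u' = g₂ ≫ u') :
    ∃ φ : X ≅ X'', u ≫ φ.hom = u' := by
  haveI : EffectiveEpi u := (regularEpiOfEpi u).effectiveEpi
  haveI : EffectiveEpi u' := (regularEpiOfEpi u').effectiveEpi
  have h1 : ∀ {Z : C} (g₁ g₂ : Z ⟶ P), g₁ ≫ u = g₂ ≫ u → g₁ ≫ u' = g₂ ≫ u' :=
    fun g₁ g₂ hg => (h g₁ g₂).1 hg
  have h2 : ∀ {Z : C} (g₁ g₂ : Z ⟶ P), g₁ ≫ u' = g₂ ≫ u' → g₁ ≫ u = g₂ ≫ u :=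
    fun g₁ g₂ hg => (h g₁ g₂).2 hg
  refine ⟨⟨EffectiveEpi.desc u u' h1, EffectiveEpi.desc u' u h2, ?_, ?_⟩,
    EffectiveEpi.fac u u' h1⟩
  · rw [← cancel_epi u, EffectiveEpi.fac_assoc, EffectiveEpi.fac, Category.comp_id]
  · rw [← cancel_epi u', EffectiveEpi.fac_assoc, EffectiveEpi.fac, Category.comp_id]

/-- Base change of a kernel pair: if `(s, t)` is the kernel pair of `u : U₀ ⟶ X'`, then the base
change of `(s, t)` along `c : W₀ ⟶ Z₀` is the kernel pair of the base change of `u`. -/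
lemma isKernelPair_baseChange {X' Z₀ W₀ X'W U₀ R₀ UW RW : C}
    {π : X' ⟶ Z₀} {c : W₀ ⟶ Z₀} {v : X'W ⟶ X'} {β : X'W ⟶ W₀} (hX : IsPullback v β π c)
    {u : U₀ ⟶ X'} {s t : R₀ ⟶ U₀} (hR : IsPullback s t u u)
    {uU : UW ⟶ U₀} {uW : UW ⟶ W₀} (hU : IsPullback uU uW (u ≫ π) c)
    {rR : RW ⟶ R₀} {rW : RW ⟶ W₀} (hRW : IsPullback rR rW (s ≫ u ≫ π) c)
    {q : UW ⟶ X'W} (hq1 : q ≫ v = uU ≫ u) (hq2 : q ≫ β = uW)
    {s' t' : RW ⟶ UW} (hs1 : s' ≫ uU = rR ≫ s) (hs2 : s' ≫ uW = rW)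
    (ht1 : t' ≫ uU = rR ≫ t) (ht2 : t' ≫ uW = rW) :
    IsPullback s' t' q q := by
  have hw : s' ≫ q = t' ≫ q := by
    apply hX.hom_ext
    · rw [Category.assoc, Category.assoc, hq1, ← Category.assoc, ← Category.assoc, hs1, ht1,
        Category.assoc, Category.assoc, hR.w]
    · rw [Category.assoc, Category.assoc, hq2, hs2, ht2]
  refine ⟨⟨hw⟩, ⟨PullbackCone.IsLimit.mk _ (fun c' => ?_) (fun c' => ?_) (fun c' => ?_) ?_⟩⟩
  · -- the lift
    have h1 : (c'.fst ≫ uU) ≫ u = (c'.snd ≫ uU) ≫ u := by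
      rw [Category.assoc, Category.assoc, ← hq1, ← Category.assoc, ← Category.assoc, c'.condition]
    have h2 : (hR.lift _ _ h1) ≫ s ≫ u ≫ π = (c'.fst ≫ uW) ≫ c := by
      rw [hR.lift_fst_assoc, Category.assoc, Category.assoc, hU.w]
    exact hRW.lift _ _ h2
  · -- fst
    have h1 : (c'.fst ≫ uU) ≫ u = (c'.snd ≫ uU) ≫ u := by
      rw [Category.assoc, Category.assoc, ← hq1, ← Category.assoc, ← Category.assoc, c'.condition]
    apply hU.hom_ext
    · rw [Category.assoc, hs1, IsPullback.lift_fst_assoc, hR.lift_fst]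
    · rw [Category.assoc, hs2, IsPullback.lift_snd]
  · -- snd
    have h1 : (c'.fst ≫ uU) ≫ u = (c'.snd ≫ uU) ≫ u := by
      rw [Category.assoc, Category.assoc, ← hq1, ← Category.assoc, ← Category.assoc, c'.condition]
    apply hU.hom_ext
    · rw [Category.assoc, ht1, IsPullback.lift_fst_assoc, hR.lift_snd]
    · rw [Category.assoc, ht2, IsPullback.lift_snd, ← hq2, ← Category.assoc, c'.condition,
        Category.assoc, hq2]
  · -- uniqueness
    intro c' m hm1 hm2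
    apply hRW.hom_ext
    · rw [IsPullback.lift_fst]
      apply hR.hom_ext
      · rw [hR.lift_fst, Category.assoc, ← hs1, ← Category.assoc, hm1]
      · rw [hR.lift_snd, Category.assoc, ← ht1, ← Category.assoc, hm2]
    · rw [IsPullback.lift_snd, ← hs2, ← Category.assoc, hm1]

end Groth.Agent.R2.H83.AffDescCat
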