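-- helper83: fpqc descent of affine morphisms of algebraic spaces: the core theorem `AD-M` of the
-- interface file `H83AffDescSpec`, from the package `AD-Q`.
import Mathlib
import Groth.Agent.R2.H83AffDescSpec
import Groth.Agent.R2.H83AffDescCat
import Groth.Agent.R2.H83MonoFpqc
import Groth.Agent.Lib.Helper12AffineDescent
import Groth.Agent.S9927
import Groth.Agent.S9874
import Groth.Agent.S9917
import Groth.Agent.S10174
import Groth.Agent.S9928
import Groth.Agent.Lib.Helper12PullbackPts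

set_option autoImplicit false
set_option backward.isDefEq.respectTransparency.types false
set_option linter.style.haveILetI false
universe u
open CategoryTheory CategoryTheory.Limits AlgebraicGeometry Opposite
open AlgSp

namespace Groth.Agent.R2.H83.AffDesc

open Groth.Agent.R2.H83.AffDescSpec Groth.Agent.R2.H83.AffDescCat
  Groth.Agent.Lib.Helper12.BaseLocal MorphismProperty

variable {S : Scheme.{u}}

/-- a quasi-compact sheaf has an étale surjective chart from an affine scheme. -/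
theorem exists_affine_chart {F : AlgSp.Sp S} (h : AlgSp.IsQuasiCompactSp F) :
    ∃ (U : Over S) (p : (AlgSp.yon S).obj U ⟶ F), AlgSp.RepWith @Etale p ∧
      AlgSp.RepWith @Surjective p ∧ IsAffine U.left := by
  obtain ⟨U₀, p₀, hpe, hps, hU₀⟩ := h
  haveI : CompactSpace ↥U₀.left := hU₀
  let 𝒰 := U₀.left.affineCover.finiteSubcover
  haveI : ∀ i, IsAffine (𝒰.X i) := fun i =>
    inferInstanceAs (IsAffine (U₀.left.affineCover.X _))
  let d : (∐ 𝒰.X) ⟶ U₀.left := Sigma.desc 𝒰.f
  haveI hde : Etale d := IsZariskiLocalAtSource.sigmaDesc (P := @Etale) (fun i => inferInstance)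
  haveI hds : Surjective d := by
    refine ⟨fun x => ?_⟩
    obtain ⟨i, y, hy⟩ := 𝒰.exists_eq x
    refine ⟨(Sigma.ι 𝒰.X i) y, ?_⟩
    rw [← Scheme.Hom.comp_apply, Sigma.ι_desc]
    exact hy
  let U : Over S := Over.mk (d ≫ U₀.hom)
  let δ : U ⟶ U₀ := Over.homMk d rfl
  refine ⟨U, (AlgSp.yon S).map δ ≫ p₀, ?_, ?_, ?_⟩
  · exact MorphismProperty.comp_mem _ _ _ ((AlgSp.repWith_yon_map_iff @Etale δ).2 hde) hpe
  · exact MorphismProperty.comp_mem _ _ _ ((AlgSp.repWith_yon_map_iff @Surjective δ).2 hds) hps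
  · show IsAffine (∐ 𝒰.X)
    infer_instance

/-- the points of a representable sheaf of an affine scheme form a compact space. -/
lemma compactSpace_points_yon (V : Over S) [IsAffine V.left] :
    CompactSpace (AlgSp.Points ((AlgSp.yon S).obj V)) :=
  Groth.Agent.S9917.compactSpace_points_of_isQuasiCompactSp
    ⟨V, 𝟙 _, AlgSp.repWith_id _ V, AlgSp.repWith_id _ V, inferInstance⟩

section Core

variable {Z : Over S} {X' : AlgSp.Sp S} (π : X' ⟶ (AlgSp.yon S).obj Z)
  {U R : Over S} (u : (AlgSp.yon S).obj U ⟶ X') (ν : U ⟶ Z)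
  (hν : (AlgSp.yon S).map ν = u ≫ π) (s t : R ⟶ U)
  (sqR : IsPullback ((AlgSp.yon S).map s) ((AlgSp.yon S).map t) u u)
  {W V : Over S} (c : W ⟶ Z) (β : V ⟶ W) (v : (AlgSp.yon S).obj V ⟶ X')
  (hV : IsPullback v ((AlgSp.yon S).map β) π ((AlgSp.yon S).map c))

include hν sqR in
lemma s_comp_ν : s ≫ ν = t ≫ ν := by
  apply (AlgSp.yon S).map_injective
  rw [Functor.map_comp, Functor.map_comp, hν, ← Category.assoc, ← Category.assoc, sqR.w]

/-- the comparison `U ×_Z W ⟶ V`. -/
noncomputable def qMap : pullback ν c ⟶ V :=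
  (AlgSp.yon S).preimage (hV.lift ((AlgSp.yon S).map (pullback.fst ν c) ≫ u)
    ((AlgSp.yon S).map (pullback.snd ν c)) (by
      rw [Category.assoc, ← hν, ← Functor.map_comp, ← Functor.map_comp, pullback.condition]))

lemma yon_qMap_v : (AlgSp.yon S).map (qMap π u ν hν c β v hV) ≫ v =
    (AlgSp.yon S).map (pullback.fst ν c) ≫ u := by
  rw [qMap, Functor.map_preimage, hV.lift_fst]

lemma qMap_β : qMap π u ν hν c β v hV ≫ β = pullback.snd ν c := by
  apply (AlgSp.yon S).map_injective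
  rw [Functor.map_comp, qMap, Functor.map_preimage, hV.lift_snd]

/-- `U ×_Z W ⟶ V` is the base change of the chart `u`. -/
lemma isPullback_qMap : IsPullback ((AlgSp.yon S).map (pullback.fst ν c))
    ((AlgSp.yon S).map (qMap π u ν hν c β v hV)) u v := by
  have big : IsPullback ((AlgSp.yon S).map (pullback.fst ν c))
      ((AlgSp.yon S).map (qMap π u ν hν c β v hV) ≫ (AlgSp.yon S).map β) (u ≫ π)
      ((AlgSp.yon S).map c) := by
    rw [← Functor.map_comp, qMap_β, ← hν]
    exact (IsPullback.of_hasPullback ν c).map (AlgSp.yon S)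
  exact IsPullback.of_bot big (yon_qMap_v π u ν hν c β v hV).symm hV

/-- the first projection `R ×_Z W ⟶ U ×_Z W`. -/
noncomputable def sMap : pullback (s ≫ ν) c ⟶ pullback ν c :=
  pullback.lift (pullback.fst (s ≫ ν) c ≫ s) (pullback.snd (s ≫ ν) c) (by
    rw [Category.assoc, pullback.condition])

/-- the second projection `R ×_Z W ⟶ U ×_Z W`. -/
noncomputable def tMap (hst : s ≫ ν = t ≫ ν) : pullback (s ≫ ν) c ⟶ pullback ν c :=
  pullback.lift (pullback.fst (s ≫ ν) c ≫ t) (pullback.snd (s ≫ ν) c) (by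
    rw [Category.assoc, ← hst, pullback.condition])

/-- the base change of the kernel pair of `u` is the kernel pair of `U ×_Z W ⟶ V`. -/
lemma isPullback_sMap_tMap :
    IsPullback (sMap ν s c) (tMap ν s t c (s_comp_ν π u ν hν s t sqR))
      (qMap π u ν hν c β v hV) (qMap π u ν hν c β v hV) := by
  have hst := s_comp_ν π u ν hν s t sqR
  have hU : IsPullback ((AlgSp.yon S).map (pullback.fst ν c))
      ((AlgSp.yon S).map (pullback.snd ν c)) (u ≫ π) ((AlgSp.yon S).map c) := by
    rw [← hν]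
    exact (IsPullback.of_hasPullback ν c).map (AlgSp.yon S)
  have hRW : IsPullback ((AlgSp.yon S).map (pullback.fst (s ≫ ν) c))
      ((AlgSp.yon S).map (pullback.snd (s ≫ ν) c)) ((AlgSp.yon S).map s ≫ u ≫ π)
      ((AlgSp.yon S).map c) := by
    rw [← hν, ← Functor.map_comp]
    exact (IsPullback.of_hasPullback (s ≫ ν) c).map (AlgSp.yon S)
  have key := isKernelPair_baseChange hV sqR hU hRW
    (q := (AlgSp.yon S).map (qMap π u ν hν c β v hV))
    (yon_qMap_v π u ν hν c β v hV)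
    (by rw [← Functor.map_comp, qMap_β])
    (s' := (AlgSp.yon S).map (sMap ν s c))
    (t' := (AlgSp.yon S).map (tMap ν s t c hst))
    (by rw [← Functor.map_comp, ← Functor.map_comp, sMap, pullback.lift_fst])
    (by rw [← Functor.map_comp, sMap, pullback.lift_snd])
    (by rw [← Functor.map_comp, ← Functor.map_comp, tMap, pullback.lift_fst])
    (by rw [← Functor.map_comp, tMap, pullback.lift_snd])
  refine IsPullback.of_map (AlgSp.yon S) ?_ key
  apply (AlgSp.yon S).map_injective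
  rw [Functor.map_comp, Functor.map_comp]
  exact key.w

include sqR in
/-- two points of `U` over a point of `W` with the same image in the quotient `Q` have the same
image in `X'`. -/
lemma yon_comp_u_eq {Q : Over S} (ρ' : U ⟶ Q) (θ : V.left ⟶ Q.left) {σ₀ : Q.left ⟶ Z.left}
    (hθ1 : (qMap π u ν hν c β v hV).left ≫ θ = (pullback.fst ν c).left ≫ ρ'.left)
    (hθ2 : IsPullback θ β.left σ₀ c.left)
    {W' : Over S} (b₁ b₂ : W' ⟶ U) (w : W' ⟶ W) (h1 : b₁ ≫ ν = w ≫ c) (h2 : b₂ ≫ ν = w ≫ c)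
    (h12 : b₁ ≫ ρ' = b₂ ≫ ρ') :
    (AlgSp.yon S).map b₁ ≫ u = (AlgSp.yon S).map b₂ ≫ u := by
  have hst := s_comp_ν π u ν hν s t sqR
  let d₁ : W' ⟶ pullback ν c := pullback.lift b₁ w h1
  let d₂ : W' ⟶ pullback ν c := pullback.lift b₂ w h2
  have hd : d₁ ≫ qMap π u ν hν c β v hV = d₂ ≫ qMap π u ν hν c β v hV := by
    apply Over.OverMorphism.ext
    apply hθ2.hom_ext
    · have e1 : (d₁ ≫ qMap π u ν hν c β v hV).left ≫ θ = (b₁ ≫ ρ').left := by
        rw [Over.comp_left, Category.assoc, hθ1, ← Category.assoc, ← Over.comp_left,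
          ← Over.comp_left, pullback.lift_fst]
      have e2 : (d₂ ≫ qMap π u ν hν c β v hV).left ≫ θ = (b₂ ≫ ρ').left := by
        rw [Over.comp_left, Category.assoc, hθ1, ← Category.assoc, ← Over.comp_left,
          ← Over.comp_left, pullback.lift_fst]
      rw [e1, e2, h12]
    · have e1 : (d₁ ≫ qMap π u ν hν c β v hV).left ≫ β.left = w.left := by
        rw [← Over.comp_left, Category.assoc, qMap_β, pullback.lift_snd]
      have e2 : (d₂ ≫ qMap π u ν hν c β v hV).left ≫ β.left = w.left := by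
        rw [← Over.comp_left, Category.assoc, qMap_β, pullback.lift_snd]
      rw [e1, e2]
  have sqK := isPullback_sMap_tMap π u ν hν s t sqR c β v hV
  let r : W' ⟶ pullback (s ≫ ν) c := sqK.lift d₁ d₂ hd
  have hr1 : r ≫ sMap ν s c = d₁ := sqK.lift_fst _ _ _
  have hr2 : r ≫ tMap ν s t c hst = d₂ := sqK.lift_snd _ _ _
  have hb1 : b₁ = (r ≫ pullback.fst (s ≫ ν) c) ≫ s := by
    have : d₁ ≫ pullback.fst ν c = b₁ := pullback.lift_fst _ _ _
    rw [← this, ← hr1, Category.assoc, sMap, pullback.lift_fst, Category.assoc]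
  have hb2 : b₂ = (r ≫ pullback.fst (s ≫ ν) c) ≫ t := by
    have : d₂ ≫ pullback.fst ν c = b₂ := pullback.lift_fst _ _ _
    rw [← this, ← hr2, Category.assoc, tMap, pullback.lift_fst, Category.assoc]
  calc (AlgSp.yon S).map b₁ ≫ u
      = (AlgSp.yon S).map (r ≫ pullback.fst (s ≫ ν) c) ≫ (AlgSp.yon S).map s ≫ u := by
        conv_lhs => rw [hb1, Functor.map_comp, Category.assoc]
    _ = (AlgSp.yon S).map (r ≫ pullback.fst (s ≫ ν) c) ≫ (AlgSp.yon S).map t ≫ u := by
        rw [sqR.w]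
    _ = (AlgSp.yon S).map b₂ ≫ u := by
        conv_rhs => rw [hb2, Functor.map_comp, Category.assoc]

end Core

/-- a fibre product of affine schemes over `S`, formed in `Over S`, is affine. -/
lemma isAffine_left_of_isPullback {A B C D : Over S} {f : A ⟶ B} {g : A ⟶ C} {h : B ⟶ D}
    {k : C ⟶ D} (sq : IsPullback f g h k) [IsAffine B.left] [IsAffine C.left] [IsAffine D.left] :
    IsAffine A.left := by
  have sq' : IsPullback f.left g.left h.left k.left := sq.map (Over.forget S)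
  haveI : IsAffine (pullback h.left k.left) := inferInstance
  exact IsAffine.of_isIso sq'.isoPullback.hom

/-- **Effectivity of affine descent data**: an algebraic space `X'` over an affine scheme `Z`
which becomes an affine scheme over each member of a standard fpqc covering of `Z` is an affine
scheme, compatibly with the base changes. -/
theorem exists_affine_rep (hQ : AffQuotStmt.{u}) {Z : Over S} [IsAffine Z.left]
    {X' : AlgSp.Sp S} (hX' : AlgSp.IsAlgSpace X') (π : X' ⟶ (AlgSp.yon S).obj Z) {m : ℕ}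
    (W : Fin m → Over S) (c : ∀ j, W j ⟶ Z) (hWa : ∀ j, IsAffine (W j).left)
    (hfl : ∀ j, Flat (c j).left) (hsurj : ∀ z : ↥Z.left, ∃ j, z ∈ Set.range (c j).left)
    (V : Fin m → Over S) (hVa : ∀ j, IsAffine (V j).left) (β : ∀ j, V j ⟶ W j)
    (v : ∀ j, (AlgSp.yon S).obj (V j) ⟶ X')
    (hV : ∀ j, IsPullback (v j) ((AlgSp.yon S).map (β j)) π ((AlgSp.yon S).map (c j))) :
    ∃ (Q : Over S) (σ : Q ⟶ Z) (e : X' ≅ (AlgSp.yon S).obj Q),
      e.hom ≫ (AlgSp.yon S).map σ = π ∧ IsAffine Q.left ∧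
      ∀ j, ∃ θ : (V j).left ⟶ Q.left, IsPullback θ (β j).left σ.left (c j).left := by
  haveI := hWa
  haveI := hVa
  -- (a) `X'` is quasi-compact
  have hqc : AlgSp.IsQuasiCompactSp X' := by
    rw [Groth.Agent.S10174.isQuasiCompactSp_iff hX']
    refine Groth.Agent.S9917.compactSpace_points_of_cover π (fun j => (AlgSp.yon S).obj (W j))
      (fun j => (AlgSp.yon S).map (c j)) ?_ (fun j => (AlgSp.yon S).obj (V j)) v
      (fun j => (AlgSp.yon S).map (β j)) hV (fun j => compactSpace_points_yon (V j))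
    intro z
    obtain ⟨j, w, hw⟩ := hsurj ((AlgSp.Points.schemeHomeo Z).symm z)
    refine ⟨j, AlgSp.Points.schemeHomeo (W j) w, ?_⟩
    rw [AlgSp.Points.map_yon_map_apply, hw, Homeomorph.apply_symm_apply]
  -- (b) an affine chart
  obtain ⟨U, u, hue, hus, hUa⟩ := exists_affine_chart hqc
  haveI : IsAffine U.left := hUa
  haveI : Epi u := Groth.Agent.S9927.epi_of_repWith u hue hus
  let ν : U ⟶ Z := (AlgSp.yon S).preimage (u ≫ π)
  have hν : (AlgSp.yon S).map ν = u ≫ π := Functor.map_preimage _ _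
  -- (c) the kernel pair of the chart
  obtain ⟨R, t, s₀, sqR₀⟩ := (hX'.representable_from_yon u) u
  obtain ⟨s, rfl⟩ := (AlgSp.yon S).map_surjective s₀
  have sqR : IsPullback ((AlgSp.yon S).map s) ((AlgSp.yon S).map t) u u := sqR₀
  have hst : s ≫ ν = t ≫ ν := s_comp_ν π u ν hν s t sqR
  -- (d) the base changes of the chart
  let q : ∀ j, pullback ν (c j) ⟶ V j := fun j => qMap π u ν hν (c j) (β j) (v j) (hV j)
  have hqe : ∀ j, Etale (q j).left := fun j =>
    hue.2 (v j) _ _ (isPullback_qMap π u ν hν (c j) (β j) (v j) (hV j))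
  have hqs : ∀ j, Surjective (q j).left := fun j =>
    hus.2 (v j) _ _ (isPullback_qMap π u ν hν (c j) (β j) (v j) (hV j))
  have hUj : ∀ j, IsAffine (pullback ν (c j)).left := fun j =>
    isAffine_left_of_isPullback (IsPullback.of_hasPullback ν (c j))
  have sqK : ∀ j, IsPullback (sMap ν s (c j)) (tMap ν s t (c j) hst) (q j) (q j) := fun j =>
    isPullback_sMap_tMap π u ν hν s t sqR (c j) (β j) (v j) (hV j)
  have hRj : ∀ j, IsAffine (pullback (s ≫ ν) (c j)).left := fun j => by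
    haveI := hUj j
    exact isAffine_left_of_isPullback (sqK j)
  haveI hsν : IsAffineHom (s ≫ ν).left := by
    haveI := Groth.Agent.Lib.Helper12.descendsAlong_isAffineHom.{u}
    refine of_standard_fpqc @IsAffineHom (s ≫ ν).left (fun j => (W j).left)
      (fun j => (c j).left) hWa hfl hsurj (fun j => ?_)
    refine ⟨(pullback (s ≫ ν) (c j)).left, (pullback.fst (s ≫ ν) (c j)).left,
      (pullback.snd (s ≫ ν) (c j)).left,
      (IsPullback.of_hasPullback (s ≫ ν) (c j)).map (Over.forget S), ?_⟩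
    haveI := hRj j
    infer_instance
  haveI hRa : IsAffine R.left := isAffine_of_isAffineHom (s ≫ ν).left
  -- (e) the affine quotient
  have hst' : s.left ≫ ν.left = t.left ≫ ν.left := by
    rw [← Over.comp_left, ← Over.comp_left, hst]
  obtain ⟨Q₀, hQ₀a, ρ, σ₀, hρσ, hsρ, hbc⟩ := hQ ν.left s.left t.left hst'
  haveI : IsAffine Q₀ := hQ₀a
  have hθ : ∀ j, ∃ θ : (V j).left ⟶ Q₀, (q j).left ≫ θ = (pullback.fst ν (c j)).left ≫ ρ ∧
      IsPullback θ (β j).left σ₀ (c j).left := fun j => by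
    haveI := hqe j
    refine hbc (W j).left (V j).left (pullback ν (c j)).left (pullback (s ≫ ν) (c j)).left
      (hWa j) (hVa j) (c j).left (hfl j) (β j).left (pullback.fst ν (c j)).left
      (pullback.snd ν (c j)).left ((IsPullback.of_hasPullback ν (c j)).map (Over.forget S))
      (pullback.fst (s ≫ ν) (c j)).left (pullback.snd (s ≫ ν) (c j)).left
      ((IsPullback.of_hasPullback (s ≫ ν) (c j)).map (Over.forget S))
      (sMap ν s (c j)).left (tMap ν s t (c j) hst).left ?_ ?_ ?_ ?_ (q j).left inferInstance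
      (hqs j) ?_ ((sqK j).map (Over.forget S))
    · rw [← Over.comp_left, ← Over.comp_left, sMap, pullback.lift_fst]
    · rw [← Over.comp_left, ← Over.comp_left, tMap, pullback.lift_fst]
    · rw [← Over.comp_left, sMap, pullback.lift_snd]
    · rw [← Over.comp_left, tMap, pullback.lift_snd]
    · rw [← Over.comp_left]
      exact congrArg _ (qMap_β π u ν hν (c j) (β j) (v j) (hV j))
  choose θ hθ1 hθ2 using hθ
  -- (f) the quotient as an object over `S`
  let Q : Over S := Over.mk (σ₀ ≫ Z.hom)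
  let σ : Q ⟶ Z := Over.homMk σ₀ rfl
  let ρ' : U ⟶ Q := Over.homMk ρ (by
    show ρ ≫ σ₀ ≫ Z.hom = U.hom
    rw [← Category.assoc, hρσ, CategoryTheory.Over.w])
  have hρ'σ : ρ' ≫ σ = ν := by
    apply Over.OverMorphism.ext
    exact hρσ
  have hsρ' : s ≫ ρ' = t ≫ ρ' := by
    apply Over.OverMorphism.ext
    exact hsρ
  have hθfl : ∀ j, Flat (θ j) := fun j =>
    MorphismProperty.of_isPullback (P := @Flat) (hθ2 j).flip (hfl j)
  have hθsurj : ∀ x : Q₀, ∃ j, x ∈ Set.range (θ j) := fun x => by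
    obtain ⟨j, w, hw⟩ := hsurj (σ₀ x)
    obtain ⟨a, ha1, -⟩ :=
      Groth.Agent.Lib.Helper12.exists_preimage_of_isPullback (hθ2 j) x w hw.symm
    exact ⟨j, a, ha1⟩
  have hsqρ : ∀ j, IsPullback (pullback.fst ν (c j)).left (q j).left ρ (θ j) := fun j => by
    have big : IsPullback (pullback.fst ν (c j)).left ((q j).left ≫ (β j).left) (ρ ≫ σ₀)
        (c j).left := by
      have e : (q j).left ≫ (β j).left = (pullback.snd ν (c j)).left := by
        rw [← Over.comp_left]
        exact congrArg _ (qMap_β π u ν hν (c j) (β j) (v j) (hV j))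
      rw [hρσ, e]
      exact (IsPullback.of_hasPullback ν (c j)).map (Over.forget S)
    exact IsPullback.of_bot big (hθ1 j).symm (hθ2 j)
  have hρe : Etale ρ := of_standard_fpqc @Etale ρ (fun j => (V j).left) θ hVa hθfl hθsurj
    (fun j => ⟨_, _, _, hsqρ j, hqe j⟩)
  have hρs : Surjective ρ := of_standard_fpqc @Surjective ρ (fun j => (V j).left) θ hVa hθfl
    hθsurj (fun j => ⟨_, _, _, hsqρ j, hqs j⟩)
  haveI : Epi ((AlgSp.yon S).map ρ') := Groth.Agent.S9927.epi_of_repWith _
    ((AlgSp.repWith_yon_map_iff @Etale ρ').2 hρe)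
    ((AlgSp.repWith_yon_map_iff @Surjective ρ').2 hρs)
  -- (g) `u` and `ρ'` have the same kernel pair
  have hker : ∀ {T : AlgSp.Sp S} (g₁ g₂ : T ⟶ (AlgSp.yon S).obj U),
      g₁ ≫ u = g₂ ≫ u ↔ g₁ ≫ (AlgSp.yon S).map ρ' = g₂ ≫ (AlgSp.yon S).map ρ' := by
    intro T g₁ g₂
    constructor
    · intro h
      calc g₁ ≫ (AlgSp.yon S).map ρ'
          = (sqR.lift g₁ g₂ h ≫ (AlgSp.yon S).map s) ≫ (AlgSp.yon S).map ρ' := by
            rw [sqR.lift_fst]
        _ = sqR.lift g₁ g₂ h ≫ (AlgSp.yon S).map (s ≫ ρ') := by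
            rw [Category.assoc, ← Functor.map_comp]
        _ = sqR.lift g₁ g₂ h ≫ (AlgSp.yon S).map (t ≫ ρ') := by rw [hsρ']
        _ = (sqR.lift g₁ g₂ h ≫ (AlgSp.yon S).map t) ≫ (AlgSp.yon S).map ρ' := by
            rw [Category.assoc, ← Functor.map_comp]
        _ = g₂ ≫ (AlgSp.yon S).map ρ' := by rw [sqR.lift_snd]
    · intro h
      refine Groth.Agent.S9928.sp_hom_ext _ _ fun T₀ x => ?_
      rw [← Category.assoc, ← Category.assoc]
      obtain ⟨a₁, ha₁⟩ := (AlgSp.yon S).map_surjective (x ≫ g₁)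
      obtain ⟨a₂, ha₂⟩ := (AlgSp.yon S).map_surjective (x ≫ g₂)
      rw [← ha₁, ← ha₂]
      have h12 : a₁ ≫ ρ' = a₂ ≫ ρ' := by
        apply (AlgSp.yon S).map_injective
        rw [Functor.map_comp, Functor.map_comp, ha₁, ha₂, Category.assoc, Category.assoc, h]
      have h12ν : a₁ ≫ ν = a₂ ≫ ν := by
        rw [← hρ'σ, ← Category.assoc, ← Category.assoc, h12]
      refine Groth.Agent.R2.H83.MonoFpqc.eq_of_forall_standard_fpqc hX' _ _
        (fun Z' ζ hZ' => ?_)
      haveI : IsAffine Z'.left := hZ'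
      refine ⟨m, fun j => pullback (ζ ≫ a₁ ≫ ν) (c j), fun j => pullback.fst _ _, fun j => ?_,
        fun j => ?_, fun z => ?_, fun j => ?_⟩
      · exact isAffine_left_of_isPullback (IsPullback.of_hasPullback (ζ ≫ a₁ ≫ ν) (c j))
      · exact MorphismProperty.of_isPullback (P := @Flat)
          ((IsPullback.of_hasPullback (ζ ≫ a₁ ≫ ν) (c j)).map (Over.forget S)).flip (hfl j)
      · obtain ⟨j, w, hw⟩ := hsurj ((ζ ≫ a₁ ≫ ν).left z)
        obtain ⟨a, ha, -⟩ := Groth.Agent.Lib.Helper12.exists_preimage_of_isPullback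
          ((IsPullback.of_hasPullback (ζ ≫ a₁ ≫ ν) (c j)).map (Over.forget S)) z w hw.symm
        exact ⟨j, a, ha⟩
      · have e1 : ((pullback.fst (ζ ≫ a₁ ≫ ν) (c j) ≫ ζ) ≫ a₁) ≫ ν =
            pullback.snd (ζ ≫ a₁ ≫ ν) (c j) ≫ c j := by
          rw [Category.assoc, Category.assoc, pullback.condition]
        have e2 : ((pullback.fst (ζ ≫ a₁ ≫ ν) (c j) ≫ ζ) ≫ a₂) ≫ ν =
            pullback.snd (ζ ≫ a₁ ≫ ν) (c j) ≫ c j := by
          rw [Category.assoc, Category.assoc, ← h12ν, pullback.condition]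
        have e3 : ((pullback.fst (ζ ≫ a₁ ≫ ν) (c j) ≫ ζ) ≫ a₁) ≫ ρ' =
            ((pullback.fst (ζ ≫ a₁ ≫ ν) (c j) ≫ ζ) ≫ a₂) ≫ ρ' := by
          simp only [Category.assoc, h12]
        have key := yon_comp_u_eq π u ν hν s t sqR (c j) (β j) (v j) (hV j) ρ' (θ j) (hθ1 j)
          (hθ2 j) _ _ (pullback.snd (ζ ≫ a₁ ≫ ν) (c j)) e1 e2 e3
        rw [Functor.map_comp, Functor.map_comp, Category.assoc, Category.assoc] at key
        exact key
  -- (h) conclusion
  obtain ⟨φ, hφ⟩ := exists_iso_of_epi_of_same_kernelPair u ((AlgSp.yon S).map ρ') hker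
  refine ⟨Q, σ, φ, ?_, hQ₀a, fun j => ⟨θ j, hθ2 j⟩⟩
  rw [← cancel_epi u, ← Category.assoc, hφ, ← Functor.map_comp, hρ'σ, hν]

/-- **THEOREM AD-M**: the core of fpqc descent for affine morphisms of algebraic spaces. -/
theorem mStmt (hQ : AffQuotStmt.{u}) (S : Scheme.{u}) : MStmt S := by
  intro P _ _ ι Y Yi g hY hcov X f hX Xi p q sq H Z hZ y
  haveI : IsAffine Z.left := hZ
  have hX' : AlgSp.IsAlgSpace (pullback f y) :=
    Groth.Agent.S9874.isAlgSpace_of_isPullback hY.diag hX (AlgSp.IsAlgSpace.yon_obj Z)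
      (IsPullback.of_hasPullback f y)
  obtain ⟨m, W, c, hWa, hfl, hsurj, hl⟩ := hcov.2 Z hZ y
  choose i_ l hl using hl
  have HV := fun j => H (i_ j) (W j) (hWa j) (l j)
  choose V β fstV hVsq hVa hPβ using HV
  have big1 : ∀ j, IsPullback (fstV j ≫ q (i_ j)) ((AlgSp.yon S).map (β j)) f
      ((AlgSp.yon S).map (c j) ≫ y) := fun j => by
    rw [← hl j]
    exact (hVsq j).paste_horiz (sq (i_ j))
  have hw : ∀ j, (fstV j ≫ q (i_ j)) ≫ f =
      ((AlgSp.yon S).map (β j) ≫ (AlgSp.yon S).map (c j)) ≫ y := fun j => by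
    rw [Category.assoc _ _ y]
    exact (big1 j).w
  let v : ∀ j, (AlgSp.yon S).obj (V j) ⟶ pullback f y := fun j => pullback.lift _ _ (hw j)
  have hv1 : ∀ j, v j ≫ pullback.fst f y = fstV j ≫ q (i_ j) := fun j =>
    pullback.lift_fst _ _ _
  have hv2 : ∀ j, v j ≫ pullback.snd f y =
      (AlgSp.yon S).map (β j) ≫ (AlgSp.yon S).map (c j) := fun j => pullback.lift_snd _ _ _
  have hV : ∀ j, IsPullback (v j) ((AlgSp.yon S).map (β j)) (pullback.snd f y)
      ((AlgSp.yon S).map (c j)) := fun j => by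
    refine IsPullback.of_right ?_ (hv2 j) (IsPullback.of_hasPullback f y)
    rw [hv1 j]
    exact big1 j
  obtain ⟨Q, σ, e, heσ, hQa, hθ⟩ :=
    exists_affine_rep hQ hX' (pullback.snd f y) W c hWa hfl hsurj V hVa β v hV
  refine ⟨Q, σ, e.inv ≫ pullback.fst f y, ?_, hQa, ?_⟩
  · refine IsPullback.of_iso (IsPullback.of_hasPullback f y) e (Iso.refl _) (Iso.refl _)
      (Iso.refl _) ?_ ?_ ?_ ?_
    · simp
    · simp [heσ]
    · simp
    · simp
  · haveI : IsAffine Q.left := hQa
    refine of_standard_fpqc P σ.left (fun j => (W j).left) (fun j => (c j).left) hWa hfl hsurj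
      (fun j => ?_)
    obtain ⟨θ, hθsq⟩ := hθ j
    exact ⟨(V j).left, θ, (β j).left, hθsq, hPβ j⟩

end Groth.Agent.R2.H83.AffDesc
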