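-- helper83: an integral birational morphism of schemes onto a normal scheme with finitely many
-- irreducible components, from a reduced scheme, is an isomorphism (scheme-level input of S10438).
import Mathlib
import Groth.Prelude.Def_Pi1
import Groth.Agent.Lib.Helper4NormIso
import Groth.Agent.Lib.Helper4EtNormalSch
import Groth.Agent.Lib.Helper14IrrComp

set_option autoImplicit false
set_option backward.isDefEq.respectTransparency.types false
set_option linter.style.haveILetI false
universe u
open CategoryTheory CategoryTheory.Limits AlgebraicGeometry Topology TopologicalSpace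

namespace Groth.Agent.R2.H83.BirNormalSch

/-- An integral birational extension of a normal domain is trivial. -/
theorem bijective_of_isIntegral_of_birational {B C K : Type*} [CommRing B] [IsDomain B]
    [IsIntegrallyClosed B] [CommRing C] [Field K] [Algebra B K] [IsFractionRing B K]
    (φ : B →+* C) (hφ : φ.IsIntegral) (ψ : C →+* K) (hψ : Function.Injective ψ)
    (hcomp : ψ.comp φ = algebraMap B K) : Function.Bijective φ := by
  constructor
  · intro a b hab
    apply IsFractionRing.injective B K
    rw [← hcomp, RingHom.comp_apply, RingHom.comp_apply, hab]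
  · intro c
    obtain ⟨p, hp, hpc⟩ := hφ c
    have h1 : IsIntegral B (ψ c) := by
      refine ⟨p, hp, ?_⟩
      rw [← hcomp, ← Polynomial.hom_eval₂, hpc, map_zero]
    obtain ⟨b, hb⟩ := IsIntegrallyClosed.isIntegral_iff.1 h1
    refine ⟨b, hψ ?_⟩
    rw [← hb, ← hcomp, RingHom.comp_apply]

/-- in a scheme every point is a specialisation of a maximal point. -/
lemma exists_isMax_specializes {W : Scheme.{u}} (w : W) : ∃ w₀ : W, IsMax w₀ ∧ w₀ ⤳ w := by
  have hirr : IsIrreducible (irreducibleComponent w) := isIrreducible_irreducibleComponent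
  have hcl : IsClosed (irreducibleComponent w) := isClosed_irreducibleComponent
  have hgen : IsGenericPoint hirr.genericPoint (irreducibleComponent w) :=
    hirr.isGenericPoint_genericPoint hcl
  refine ⟨hirr.genericPoint, ?_, ?_⟩
  · intro w' hw'
    have hs : w' ⤳ hirr.genericPoint := hw'
    have h1 : irreducibleComponent w ⊆ closure {w'} := by
      rw [← hgen.def]
      exact specializes_iff_closure_subset.1 hs
    have h2 : closure {w'} ⊆ irreducibleComponent w :=
      (irreducibleComponent_mem_irreducibleComponents w).2 isIrreducible_singleton.closure h1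
    change hirr.genericPoint ⤳ w'
    rw [specializes_iff_mem_closure, hgen.def]
    exact h2 (subset_closure rfl)
  · rw [specializes_iff_mem_closure, hgen.def]
    exact mem_irreducibleComponent

/-- a maximal point of a scheme is the generic point of an irreducible component. -/
lemma mem_genericPoints_of_isMax {W : Scheme.{u}} {w : W} (hw : IsMax w) :
    w ∈ genericPoints W := by
  change closure {w} ∈ irreducibleComponents W
  rw [Groth.Agent.Lib.Helper14.closure_mem_irreducibleComponents_iff]
  intro w' h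
  have h2 : w ⤳ w' := hw h
  exact (h.antisymm h2).eq

lemma normal_of_ringEquiv {A B : Type*} [CommRing A] [CommRing B] (e : A ≃+* B)
    (h : IsDomain B ∧ IsIntegrallyClosed B) : IsDomain A ∧ IsIntegrallyClosed A := by
  obtain ⟨hd, hic⟩ := h
  haveI : IsDomain A := e.toMulEquiv.isDomain
  exact ⟨inferInstance, IsIntegrallyClosed.of_equiv e.symm⟩

/-- an open subscheme of a normal scheme is normal. -/
lemma isNormalScheme_opens {V : Scheme.{u}} (hV : Pi1.IsNormalScheme V) (U : V.Opens) :
    Pi1.IsNormalScheme U.toScheme := fun t =>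
  normal_of_ringEquiv (U.stalkIso t).commRingCatIsoToRingEquiv (hV t.1)

/-- a space with a dense point is irreducible. -/
lemma irreducibleSpace_of_forall_specializes {α : Type*} [TopologicalSpace α] (ξ : α)
    (h : ∀ w : α, ξ ⤳ w) : IrreducibleSpace α ∧ IsGenericPoint ξ (Set.univ : Set α) := by
  have h1 : closure ({ξ} : Set α) = Set.univ :=
    Set.eq_univ_of_forall fun w => specializes_iff_mem_closure.1 (h w)
  have h2 : IsIrreducible (Set.univ : Set α) := by
    rw [← h1]
    exact isIrreducible_singleton.closure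
  exact ⟨(irreducibleSpace_def α).2 h2, h1⟩

section integral

variable {X Y : Scheme.{u}} [IsIntegral X] [IsIntegral Y]

/-- A birational morphism onto a normal integral scheme which is integral on sections over the affine
open `V` is an isomorphism on sections over `V`. -/
theorem isIso_app_of_isIntegral_of_birational (hY : Pi1.IsNormalScheme Y) (f : X ⟶ Y)
    (hgen : f (genericPoint X) = genericPoint Y) (hbir : IsIso (f.stalkMap (genericPoint X)))
    (V : Y.Opens) (hV : IsAffineOpen V) [hne : Nonempty V] (hfin : (f.app V).hom.IsIntegral) :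
    IsIso (f.app V) := by
  haveI : IsDomain Γ(Y, V) := IsIntegral.component_integral V
  haveI : IsIntegrallyClosed Γ(Y, V) :=
    Groth.Agent.Lib.Helper4.NormIso.isIntegrallyClosed_sections hY V hV
  haveI : IsFractionRing Γ(Y, V) Y.functionField := functionField_isFractionRing_of_isAffineOpen Y V hV
  have hηV : genericPoint Y ∈ V := by
    obtain ⟨⟨v, hv⟩⟩ := hne
    exact ((genericPoint_spec Y).specializes (Set.mem_univ v)).mem_open V.2 hv
  have hηX : genericPoint X ∈ f ⁻¹ᵁ V := by
    show f (genericPoint X) ∈ V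
    rw [hgen]; exact hηV
  haveI : Nonempty (f ⁻¹ᵁ V) := ⟨⟨_, hηX⟩⟩
  have hsp : f (genericPoint X) ⤳ genericPoint Y := (Inseparable.of_eq hgen).specializes
  set θ : Y.presheaf.stalk (genericPoint Y) ⟶ X.presheaf.stalk (genericPoint X) :=
    Y.presheaf.stalkSpecializes hsp ≫ f.stalkMap (genericPoint X) with hθ
  haveI : IsIso (Y.presheaf.stalkSpecializes hsp) :=
    (Y.presheaf.stalkCongr (Inseparable.of_eq hgen.symm)).isIso_hom
  haveI : IsIso θ := by rw [hθ]; infer_instance
  let ψ : Γ(X, f ⁻¹ᵁ V) →+* Y.functionField :=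
    (inv θ).hom.comp (X.presheaf.germ (f ⁻¹ᵁ V) (genericPoint X) hηX).hom
  have hψ : Function.Injective ψ := by
    have h1 : Function.Injective (inv θ).hom := (ConcreteCategory.bijective_of_isIso (inv θ)).1
    have h2 : Function.Injective (X.presheaf.germ (f ⁻¹ᵁ V) (genericPoint X) hηX).hom :=
      germ_injective_of_isIntegral X (genericPoint X) hηX
    exact h1.comp h2
  have hcomp : ψ.comp (f.app V).hom = algebraMap Γ(Y, V) Y.functionField := by
    ext b
    show (inv θ).hom ((X.presheaf.germ (f ⁻¹ᵁ V) (genericPoint X) hηX).hom ((f.app V).hom b)) =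
      (Y.presheaf.germ V (genericPoint Y) hηV).hom b
    have h1 : (X.presheaf.germ (f ⁻¹ᵁ V) (genericPoint X) hηX).hom ((f.app V).hom b) =
        θ.hom ((Y.presheaf.germ V (genericPoint Y) hηV).hom b) := by
      have h2 : Y.presheaf.germ V (genericPoint Y) hηV ≫ θ =
          f.app V ≫ X.presheaf.germ (f ⁻¹ᵁ V) (genericPoint X) hηX := by
        rw [hθ, TopCat.Presheaf.germ_stalkSpecializes_assoc, Scheme.Hom.germ_stalkMap]
      exact (congrArg (fun φ : Γ(Y, V) ⟶ X.presheaf.stalk (genericPoint X) => φ.hom b) h2).symm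
    rw [h1]
    exact congrArg (fun φ : Y.presheaf.stalk (genericPoint Y) ⟶ Y.presheaf.stalk (genericPoint Y) =>
      φ.hom ((Y.presheaf.germ V (genericPoint Y) hηV).hom b)) (IsIso.hom_inv_id θ)
  have hbij := bijective_of_isIntegral_of_birational (f.app V).hom hfin ψ hψ hcomp
  exact (ConcreteCategory.isIso_iff_bijective (f.app V)).2 hbij

end integral

/-- the local statement: around every point of the target there is an affine open over which `g`
is an isomorphism. -/
theorem exists_affineOpen_isIso {W V : Scheme.{u}} (g : W ⟶ V) [IsIntegralHom g]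
    (hV : Pi1.IsNormalScheme V) (hVf : (irreducibleComponents V).Finite) [IsReduced W]
    (hbij : Set.BijOn g (genericPoints W) (genericPoints V))
    (hiso : ∀ w ∈ genericPoints W, IsIso (g.stalkMap w)) (v : V) :
    ∃ U : V.affineOpens, v ∈ U.1 ∧ IsAffine (g ⁻¹ᵁ U.1).toScheme ∧ IsIso (g ∣_ U.1).appTop := by
  haveI hdom : ∀ t : V, IsDomain (V.presheaf.stalk t) := fun t => (hV t).1
  haveI : IsReduced V := by
    haveI : ∀ t : V, _root_.IsReduced (V.presheaf.stalk t) := fun t => inferInstance
    exact isReduced_of_isReduced_stalk V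
  set Z₀ := irreducibleComponent v with hZ₀def
  have hZ₀ : Z₀ ∈ irreducibleComponents V := irreducibleComponent_mem_irreducibleComponents v
  -- the open complement of the other components
  let O : Set V := (⋃ Z ∈ (irreducibleComponents V \ {Z₀}), Z)ᶜ
  have hOopen : IsOpen O :=
    ((hVf.subset Set.sdiff_subset).isClosed_biUnion
      (fun Z hZ => isClosed_of_mem_irreducibleComponents Z hZ.1)).isOpen_compl
  have hvO : v ∈ O := by
    intro hmem
    simp only [Set.mem_iUnion] at hmem
    obtain ⟨Z, ⟨hZ, hne⟩, hvZ⟩ := hmem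
    exact hne (Groth.Agent.Lib.Helper4.EtNormalSch.irreducibleComponents_eq_of_mem v hZ hZ₀ hvZ
      mem_irreducibleComponent)
  have hOZ : O ⊆ Z₀ := by
    intro t ht
    by_contra hne
    apply ht
    refine Set.mem_biUnion ⟨irreducibleComponent_mem_irreducibleComponents t, ?_⟩
      mem_irreducibleComponent
    intro h
    apply hne
    rw [← (h : irreducibleComponent t = Z₀)]
    exact mem_irreducibleComponent
  have hex : ∃ U : V.Opens, IsAffineOpen U ∧ v ∈ U ∧ (U : Set V) ⊆ O := by
    obtain ⟨U, hU, hvU, hUO⟩ := Opens.isBasis_iff_nbhd.1 V.isBasis_affineOpens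
      (show v ∈ (⟨O, hOopen⟩ : V.Opens) from hvO)
    exact ⟨U, hU, hvU, hUO⟩
  obtain ⟨U, hU, hvU, hUO⟩ := hex
  refine ⟨⟨U, hU⟩, hvU, ?_⟩
  change IsAffine (g ⁻¹ᵁ U).toScheme ∧ IsIso (g ∣_ U).appTop
  haveI hUaff : IsAffine U.toScheme := hU
  have hW'aff : IsAffineOpen (g ⁻¹ᵁ U) := hU.preimage g
  refine ⟨hW'aff, ?_⟩
  -- the generic point of `Z₀`
  obtain ⟨η₀, hη₀⟩ := QuasiSober.sober (isIrreducible_irreducibleComponent (x := v))
    isClosed_irreducibleComponent
  have hη₀gen : η₀ ∈ genericPoints V := by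
    change closure {η₀} ∈ irreducibleComponents V
    rw [hη₀.def]
    exact hZ₀
  have hη₀U : η₀ ∈ U := by
    have h1 : η₀ ⤳ v := hη₀.specializes mem_irreducibleComponent
    exact h1.mem_open U.2 hvU
  obtain ⟨ξ, hξgen, hξ⟩ := hbij.surjOn hη₀gen
  have hξU : ξ ∈ g ⁻¹ᵁ U := by
    change g ξ ∈ U
    rw [hξ]
    exact hη₀U
  -- every point of `g⁻¹ U` is a specialisation of `ξ`
  have hspec : ∀ w : W, g w ∈ U → ξ ⤳ w := by
    intro w hw
    obtain ⟨w₀, hw₀max, hw₀s⟩ := exists_isMax_specializes w
    have hw₀gen := mem_genericPoints_of_isMax hw₀max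
    have hgw₀U : g w₀ ∈ U := (hw₀s.map g.continuous).mem_open U.2 hw
    have hgw₀gen : g w₀ ∈ genericPoints V := hbij.mapsTo hw₀gen
    have h1 : closure {g w₀} = Z₀ := by
      by_contra hne
      exact hUO hgw₀U (Set.mem_biUnion (show closure {g w₀} ∈ irreducibleComponents V \ {Z₀} from
        ⟨hgw₀gen, hne⟩) (subset_closure rfl))
    have h2 : g w₀ = η₀ := (show IsGenericPoint (g w₀) Z₀ from h1).eq hη₀
    have h3 : w₀ = ξ := hbij.injOn hw₀gen hξgen (h2.trans hξ.symm)
    rw [← h3]
    exact hw₀s
  -- `U` is integral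
  have hUspec : ∀ t : U, (⟨η₀, hη₀U⟩ : U) ⤳ t := by
    intro t
    rw [subtype_specializes_iff]
    exact hη₀.specializes (hOZ (hUO t.2))
  obtain ⟨hUirr, hUgen⟩ := irreducibleSpace_of_forall_specializes (⟨η₀, hη₀U⟩ : U) hUspec
  haveI : IrreducibleSpace U.toScheme := hUirr
  haveI : IsReduced U.toScheme := isReduced_of_isOpenImmersion U.ι
  haveI : IsIntegral U.toScheme := isIntegral_of_irreducibleSpace_of_isReduced _
  -- `g⁻¹ U` is integral
  have hW'spec : ∀ t : (g ⁻¹ᵁ U : W.Opens), (⟨ξ, hξU⟩ : (g ⁻¹ᵁ U : W.Opens)) ⤳ t := by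
    intro t
    rw [subtype_specializes_iff]
    exact hspec t.1 t.2
  obtain ⟨hW'irr, hW'gen⟩ :=
    irreducibleSpace_of_forall_specializes (⟨ξ, hξU⟩ : (g ⁻¹ᵁ U : W.Opens)) hW'spec
  haveI : IrreducibleSpace (g ⁻¹ᵁ U).toScheme := hW'irr
  haveI : IsReduced (g ⁻¹ᵁ U).toScheme := isReduced_of_isOpenImmersion (g ⁻¹ᵁ U).ι
  haveI : IsIntegral (g ⁻¹ᵁ U).toScheme := isIntegral_of_irreducibleSpace_of_isReduced _
  have hgpW : genericPoint (g ⁻¹ᵁ U).toScheme = ⟨ξ, hξU⟩ :=
    (genericPoint_spec (g ⁻¹ᵁ U).toScheme).eq hW'gen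
  have hgpU : genericPoint U.toScheme = ⟨η₀, hη₀U⟩ := (genericPoint_spec U.toScheme).eq hUgen
  have hgen : (g ∣_ U) (genericPoint (g ⁻¹ᵁ U).toScheme) = genericPoint U.toScheme := by
    rw [hgpW, hgpU]
    apply Subtype.ext
    rw [morphismRestrict_base_coe]
    exact hξ
  have hbirall : ∀ x : (g ⁻¹ᵁ U).toScheme, x = ⟨ξ, hξU⟩ → IsIso ((g ∣_ U).stalkMap x) := by
    rintro _ rfl
    haveI : IsIso (g.stalkMap ξ) := hiso ξ hξgen
    exact ((MorphismProperty.isomorphisms _).arrow_mk_iso_iff
      (morphismRestrictStalkMap g U ⟨ξ, hξU⟩)).2 (inferInstanceAs (IsIso (g.stalkMap ξ)))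
  have hbir := hbirall _ hgpW
  haveI : IsIntegralHom (g ∣_ U) := IsZariskiLocalAtTarget.restrict ‹IsIntegralHom g› U
  haveI : Nonempty (⊤ : U.toScheme.Opens) := ⟨⟨⟨η₀, hη₀U⟩, trivial⟩⟩
  exact isIso_app_of_isIntegral_of_birational (isNormalScheme_opens hV U) (g ∣_ U) hgen hbir ⊤
    (isAffineOpen_top U.toScheme) (IsIntegralHom.isIntegral_app (g ∣_ U) ⊤ (isAffineOpen_top _))

/-- an integral birational morphism from a reduced scheme onto a normal scheme with finitely many
irreducible components is an isomorphism. -/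
theorem isIso_of_isIntegralHom_of_birational {W V : Scheme.{u}} (g : W ⟶ V) [IsIntegralHom g]
    (hV : Pi1.IsNormalScheme V) (hVf : (irreducibleComponents V).Finite) [IsReduced W]
    (hbij : Set.BijOn g (genericPoints W) (genericPoints V))
    (hiso : ∀ w ∈ genericPoints W, IsIso (g.stalkMap w)) : IsIso g := by
  choose U hvU hU using exists_affineOpen_isIso g hV hVf hbij hiso
  have hsup : ⨆ v, ((U v : V.affineOpens) : V.Opens) = ⊤ := by
    rw [eq_top_iff]
    intro v _
    exact Opens.mem_iSup.2 ⟨v, hvU v⟩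
  exact (HasAffineProperty.iff_of_iSup_eq_top (P := MorphismProperty.isomorphisms Scheme) U hsup).2
    hU

end Groth.Agent.R2.H83.BirNormalSch
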