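import Mathlib

/-!
# Flatness of `A → (1 + J)⁻¹ B` from flatness at the primes containing `J` (helper83)

Mathlib-only.

* `onePlus J`: the submonoid `1 + J` of a commutative ring.
* `flat_atPrime_of_le`: the flat locus is stable under generization (module form).
* `flat_comp_algebraMap_onePlus`: if `φ : A → B` is flat at every prime of `B` containing `J`,
  then `A → (1 + J)⁻¹ B` is flat.
* `exists_comap_eq_of_le`: every prime containing `J` comes from `(1 + J)⁻¹ B`.
-/

set_option autoImplicit false
set_option linter.style.haveILetI false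
universe u

namespace Groth.Agent.R2.H83.FlatOnePlus

/-- the submonoid `1 + J`. -/
def onePlus {B : Type*} [CommRing B] (J : Ideal B) : Submonoid B :=
  (⊥ : Submonoid (B ⧸ J)).comap (Ideal.Quotient.mk J)

lemma mem_onePlus {B : Type*} [CommRing B] {J : Ideal B} {b : B} : b ∈ onePlus J ↔ b - 1 ∈ J := by
  rw [onePlus, Submonoid.mem_comap, Submonoid.mem_bot, ← map_one (Ideal.Quotient.mk J),
    Ideal.Quotient.eq]

/-- a prime containing `J` is disjoint from `1 + J`. -/
lemma disjoint_onePlus_of_le {B : Type*} [CommRing B] {J m : Ideal B} [m.IsPrime] (h : J ≤ m) :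
    Disjoint (onePlus J : Set B) (m : Set B) := by
  rw [Set.disjoint_left]
  intro b hb hbm
  have h1 : b - 1 ∈ m := h (mem_onePlus.1 hb)
  have : (1 : B) ∈ m := by
    have := m.sub_mem hbm h1
    simpa using this
  exact (Ideal.IsPrime.ne_top ‹_›) (m.eq_top_iff_one.2 this)

/-- a prime disjoint from `1 + J` is contained in a prime containing `J`. -/
lemma exists_le_of_disjoint_onePlus {B : Type*} [CommRing B] {J q : Ideal B}
    (h : Disjoint (onePlus J : Set B) (q : Set B)) :
    ∃ m : Ideal B, m.IsPrime ∧ J ≤ m ∧ q ≤ m := by
  have hne : q ⊔ J ≠ ⊤ := by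
    intro htop
    have h1 : (1 : B) ∈ q ⊔ J := by rw [htop]; trivial
    obtain ⟨x, hx, y, hy, hxy⟩ := Submodule.mem_sup.1 h1
    have hx' : x ∈ onePlus J := by
      rw [mem_onePlus]
      have : x - 1 = -y := by rw [← hxy]; ring
      rw [this]
      exact J.neg_mem hy
    exact Set.disjoint_left.1 h hx' hx
  obtain ⟨m, hm, hle⟩ := Ideal.exists_le_maximal _ hne
  exact ⟨m, hm.isPrime, le_trans le_sup_right hle, le_trans le_sup_left hle⟩

/-- the flat locus is stable under generization. -/
theorem flat_atPrime_of_le {A B : Type*} [CommRing A] [CommRing B] [Algebra A B] (m q : Ideal B)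
    [m.IsPrime] [q.IsPrime] (hqm : q ≤ m) (h : Module.Flat A (Localization.AtPrime m)) :
    Module.Flat A (Localization.AtPrime q) := by
  have hle : m.primeCompl ≤ q.primeCompl := fun x hx hxq => hx (hqm hxq)
  letI := IsLocalization.localizationAlgebraOfSubmonoidLe (Localization.AtPrime m)
    (Localization.AtPrime q) m.primeCompl q.primeCompl hle
  haveI : IsScalarTower B (Localization.AtPrime m) (Localization.AtPrime q) :=
    IsLocalization.localization_isScalarTower_of_submonoid_le _ _ _ _ hle
  haveI := IsLocalization.isLocalization_of_submonoid_le (Localization.AtPrime m)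
    (Localization.AtPrime q) m.primeCompl q.primeCompl hle
  haveI : Module.Flat (Localization.AtPrime m) (Localization.AtPrime q) :=
    IsLocalization.flat _ (q.primeCompl.map (algebraMap B (Localization.AtPrime m)))
  haveI : IsScalarTower A (Localization.AtPrime m) (Localization.AtPrime q) :=
    IsScalarTower.of_algebraMap_eq fun a => by
      rw [IsScalarTower.algebraMap_apply A B (Localization.AtPrime q),
        IsScalarTower.algebraMap_apply A B (Localization.AtPrime m),
        ← IsScalarTower.algebraMap_apply B (Localization.AtPrime m) (Localization.AtPrime q)]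
  exact Module.Flat.trans A (Localization.AtPrime m) (Localization.AtPrime q)

/-- flatness of the local homomorphism at a prime, in module form. -/
theorem localRingHom_flat_iff {A B : Type u} [CommRing A] [CommRing B] [Algebra A B] (m : Ideal B)
    [m.IsPrime] :
    (Localization.localRingHom (m.comap (algebraMap A B)) m (algebraMap A B) rfl).Flat ↔
      Module.Flat A (Localization.AtPrime m) := by
  algebraize [Localization.localRingHom (m.comap (algebraMap A B)) m (algebraMap A B) rfl]
  have : IsScalarTower A (Localization.AtPrime (m.comap (algebraMap A B)))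
      (Localization.AtPrime m) :=
    .of_algebraMap_eq fun x ↦ by
      rw [IsScalarTower.algebraMap_apply A B (Localization.AtPrime m)]
      exact (Localization.localRingHom_to_map _ _ _ rfl x).symm
  rw [RingHom.Flat, Module.flat_iff_of_isLocalization
    (S := (Localization.AtPrime (m.comap (algebraMap A B))))
    (p := (m.comap (algebraMap A B)).primeCompl)]

/-- If `A → B` is flat at every prime of `B` containing `J`, then `A → (1 + J)⁻¹ B` is flat. -/
theorem flat_comp_algebraMap_onePlus {A B : Type u} [CommRing A] [CommRing B] (φ : A →+* B)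
    (J : Ideal B)
    (h : ∀ (m : Ideal B) [m.IsPrime], J ≤ m →
      (Localization.localRingHom (m.comap φ) m φ rfl).Flat) :
    ((algebraMap B (Localization (onePlus J))).comp φ).Flat := by
  apply RingHom.Flat.ofLocalizationPrime
  intro P' hP'
  have e := Localization.localRingHom_comp
    (I := (P'.comap (algebraMap B (Localization (onePlus J)))).comap φ)
    (P'.comap (algebraMap B (Localization (onePlus J)))) P' φ rfl
    (algebraMap B (Localization (onePlus J))) rfl
  suffices hflat : ((Localization.localRingHom
      (P'.comap (algebraMap B (Localization (onePlus J)))) P'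
      (algebraMap B (Localization (onePlus J))) rfl).comp (Localization.localRingHom
        ((P'.comap (algebraMap B (Localization (onePlus J)))).comap φ)
        (P'.comap (algebraMap B (Localization (onePlus J)))) φ rfl)).Flat by
    rw [← e] at hflat
    exact hflat
  refine RingHom.Flat.comp ?_ ?_
  · have hdisj : Disjoint (onePlus J : Set B)
        (P'.comap (algebraMap B (Localization (onePlus J))) : Set B) :=
      (IsLocalization.disjoint_under_iff (onePlus J) (Localization (onePlus J)) P').2 hP'.ne_top
    obtain ⟨m, hm, hJm, hqm⟩ := exists_le_of_disjoint_onePlus hdisj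
    have hmf := h m hJm
    letI := φ.toAlgebra
    have hmf' : Module.Flat A (Localization.AtPrime m) := (localRingHom_flat_iff m).1 hmf
    exact (localRingHom_flat_iff _).2 (flat_atPrime_of_le m _ hqm hmf')
  · have hfl : (algebraMap B (Localization (onePlus J))).Flat := by
      rw [RingHom.flat_algebraMap_iff]
      exact IsLocalization.flat _ (onePlus J)
    exact RingHom.Flat.localRingHom hfl P' _ rfl

/-- every prime containing `J` comes from `(1 + J)⁻¹ B`. -/
theorem exists_comap_eq_of_le {B : Type*} [CommRing B] (J m : Ideal B) [m.IsPrime] (h : J ≤ m) :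
    ∃ P' : Ideal (Localization (onePlus J)), P'.IsPrime ∧
      P'.comap (algebraMap B (Localization (onePlus J))) = m :=
  ⟨Ideal.map (algebraMap B (Localization (onePlus J))) m,
    IsLocalization.isPrime_of_isPrime_disjoint (onePlus J) _ m inferInstance
      (disjoint_onePlus_of_le h),
    IsLocalization.under_map_of_isPrime_disjoint (onePlus J) _ inferInstance
      (disjoint_onePlus_of_le h)⟩

open CategoryTheory CategoryTheory.Limits AlgebraicGeometry Opposite

/-- scheme form: if `Spec B → Spec A` is flat at all points of `V(J)`, then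
`Spec (1 + J)⁻¹ B → Spec A` is flat. -/
theorem flat_SpecMap_onePlus {A B : CommRingCat.{u}} (φ : A ⟶ B) (J : Ideal B)
    (h : ∀ m : Spec B, J ≤ m.asIdeal → ((Spec.map φ).stalkMap m).hom.Flat) :
    Flat (Spec.map (CommRingCat.ofHom (algebraMap B (Localization (onePlus J)))) ≫ Spec.map φ) := by
  rw [← Spec.map_comp, Flat.SpecMap_iff]
  refine flat_comp_algebraMap_onePlus φ.hom J (fun m _ hJm => ?_)
  have := h ⟨m, inferInstance⟩ hJm
  rwa [RingHom.Flat.respectsIso.arrow_mk_iso_iff (Scheme.arrowStalkMapSpecIso φ _)] at this

/-- every point of `V(J)` is in the image of `Spec (1 + J)⁻¹ B`. -/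
theorem mem_range_SpecMap_onePlus {B : CommRingCat.{u}} (J : Ideal B) (m : Spec B)
    (h : J ≤ m.asIdeal) :
    m ∈ Set.range (Spec.map (CommRingCat.ofHom (algebraMap B (Localization (onePlus J))))) := by
  haveI : m.asIdeal.IsPrime := m.isPrime
  obtain ⟨P', hP', hPm⟩ := exists_comap_eq_of_le J m.asIdeal h
  refine ⟨⟨P', hP'⟩, ?_⟩
  apply PrimeSpectrum.ext
  exact hPm

end Groth.Agent.R2.H83.FlatOnePlus
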