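-- helper83: descent of immersions of algebraic spaces along fpqc coverings, given that the image is
-- locally closed (core of S10547, S10538).
import Mathlib
import Groth.Agent.R2.H83AffDesc
import Groth.Agent.Lib.Helper12ZarGlue
import Groth.Agent.Lib.Helper12Descent
import Groth.Agent.S9906
import Groth.Agent.S10175

set_option autoImplicit false
set_option backward.isDefEq.respectTransparency.types false
set_option linter.style.haveILetI false
universe u
open CategoryTheory CategoryTheory.Limits AlgebraicGeometry Opposite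
open AlgSp

namespace Groth.Agent.R2.H83.ImmDesc

open Groth.Agent.R2.H83.AffDescSpec Groth.Agent.R2.H83.AffDesc
  Groth.Agent.Lib.Helper12.BaseLocal MorphismProperty

variable {S : Scheme.{u}}

/-- a commutative square which becomes cartesian after composing with a monomorphism is
cartesian. -/
lemma isPullback_of_comp_mono {D : Type*} [Category* D] {P A B X Z : D} {fst : P ⟶ A}
    {snd : P ⟶ B} {a : A ⟶ X} {b : B ⟶ X} (m : X ⟶ Z) [Mono m]
    (h : IsPullback fst snd (a ≫ m) (b ≫ m)) : IsPullback fst snd a b := by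
  have w : fst ≫ a = snd ≫ b := by
    rw [← cancel_mono m, Category.assoc, Category.assoc]
    exact h.w
  refine ⟨⟨w⟩, ⟨PullbackCone.IsLimit.mk _
    (fun s => h.lift s.fst s.snd (by
      rw [← Category.assoc, ← Category.assoc, s.condition]))
    (fun s => h.lift_fst _ _ _) (fun s => h.lift_snd _ _ _) ?_⟩⟩
  intro s l h1 h2
  apply h.hom_ext
  · rw [h1, h.lift_fst]
  · rw [h2, h.lift_snd]

/-- a cartesian square over a composite `b ≫ y` factors through the fibre product over `y`. -/
lemma exists_lift_isPullback {D : Type*} [Category* D] [HasPullbacks D] {X Y A B C : D}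
    (f : X ⟶ Y) (y : C ⟶ Y) {fst : A ⟶ X} {σ' : A ⟶ B} {b : B ⟶ C}
    (sqQ : IsPullback fst σ' f (b ≫ y)) :
    ∃ l : A ⟶ pullback f y, l ≫ pullback.fst f y = fst ∧
      IsPullback l σ' (pullback.snd f y) b := by
  have hw : fst ≫ f = (σ' ≫ b) ≫ y := by
    rw [Category.assoc]
    exact sqQ.w
  refine ⟨pullback.lift fst (σ' ≫ b) hw, pullback.lift_fst _ _ _, ?_⟩
  refine IsPullback.of_right ?_ (pullback.lift_snd _ _ _) (IsPullback.of_hasPullback f y)
  rw [pullback.lift_fst]
  exact sqQ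

/-- the set-theoretic image in `Z` of a morphism `π : X' ⟶ h_Z`. -/
def imgSet {X' : AlgSp.Sp S} {Z : Over S} (π : X' ⟶ (AlgSp.yon S).obj Z) : Set ↥Z.left :=
  ⇑(AlgSp.Points.schemeHomeo Z) ⁻¹' Set.range (AlgSp.Points.map π)

/-- the image of a base change is the preimage of the image. -/
lemma imgSet_baseChange {X' P : AlgSp.Sp S} {Z T : Over S} {π : X' ⟶ (AlgSp.yon S).obj Z}
    {t : T ⟶ Z} {a : P ⟶ X'} {b : P ⟶ (AlgSp.yon S).obj T}
    (sq : IsPullback a b π ((AlgSp.yon S).map t)) : imgSet b = ⇑t.left ⁻¹' imgSet π := by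
  ext x
  simp only [imgSet, Set.mem_preimage, Set.mem_range]
  constructor
  · rintro ⟨p, hp⟩
    refine ⟨AlgSp.Points.map a p, ?_⟩
    rw [← AlgSp.Points.map_comp, sq.w, AlgSp.Points.map_comp, hp, AlgSp.Points.map_yon_map_apply]
  · rintro ⟨x', hx'⟩
    obtain ⟨p, -, hp⟩ := Groth.Agent.S10175.exists_point_of_isPullback sq x'
      (AlgSp.Points.schemeHomeo T x) (by rw [hx', AlgSp.Points.map_yon_map_apply])
    exact ⟨p, hp⟩

/-- the image of a representable base change. -/
lemma range_eq_preimage_imgSet {X' : AlgSp.Sp S} {Z W V : Over S} {π : X' ⟶ (AlgSp.yon S).obj Z}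
    {c : W ⟶ Z} {β : V ⟶ W} {v : (AlgSp.yon S).obj V ⟶ X'}
    (hV : IsPullback v ((AlgSp.yon S).map β) π ((AlgSp.yon S).map c)) :
    Set.range ⇑β.left = ⇑c.left ⁻¹' imgSet π := by
  rw [← imgSet_baseChange hV]
  ext w
  simp only [imgSet, Set.mem_preimage, Set.mem_range]
  constructor
  · rintro ⟨y, rfl⟩
    exact ⟨AlgSp.Points.schemeHomeo V y, AlgSp.Points.map_yon_map_apply β y⟩
  · rintro ⟨p, hp⟩
    obtain ⟨y, rfl⟩ := (AlgSp.Points.schemeHomeo V).surjective p
    rw [AlgSp.Points.map_yon_map_apply] at hp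
    exact ⟨y, (AlgSp.Points.schemeHomeo W).injective hp⟩

section Global

variable {ι : Type u} {Y : AlgSp.Sp S} (Yi : ι → AlgSp.Sp S) (g : ∀ i, Yi i ⟶ Y)
  (hY : AlgSp.IsAlgSpace Y) (hcov : AlgSp.IsFpqcCover Yi g) {X : AlgSp.Sp S} (f : X ⟶ Y)
  (hX : AlgSp.IsAlgSpace X) (Xi : ι → AlgSp.Sp S) (p : ∀ i, Xi i ⟶ Yi i) (q : ∀ i, Xi i ⟶ X)
  (sq : ∀ i, IsPullback (q i) (p i) f (g i))
  (H : ∀ i, AlgSp.RepWith @IsImmersion (p i))

include hY hcov hX sq H in
/-- **closed case**: if the base changes of `f` along an fpqc covering are immersions and the image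
of the base change of `f` to an affine scheme `Z` is closed, then this base change is a closed
subscheme of `Z`. -/
theorem exists_closedImmersion_rep (hQ : AffQuotStmt.{u}) (Z : Over S) (hZ : IsAffine Z.left)
    (y : (AlgSp.yon S).obj Z ⟶ Y) (hE : IsClosed (imgSet (pullback.snd f y))) :
    ∃ (Q : Over S) (σ : Q ⟶ Z) (fst : (AlgSp.yon S).obj Q ⟶ X),
      IsPullback fst ((AlgSp.yon S).map σ) f y ∧ IsAffine Q.left ∧ IsClosedImmersion σ.left := by
  haveI : IsAffine Z.left := hZ
  have hX' : AlgSp.IsAlgSpace (pullback f y) :=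
    Groth.Agent.S9874.isAlgSpace_of_isPullback hY.diag hX (AlgSp.IsAlgSpace.yon_obj Z)
      (IsPullback.of_hasPullback f y)
  obtain ⟨m, W, c, hWa, hfl, hsurj, hl⟩ := hcov.2 Z hZ y
  choose i_ l hl using hl
  have HV := fun j => (H (i_ j)).1 (l j)
  choose V β fstV hVsq using HV
  have hβ : ∀ j, IsImmersion (β j).left := fun j => (H (i_ j)).2 (l j) (fstV j) (β j) (hVsq j)
  have big1 : ∀ j, IsPullback (fstV j ≫ q (i_ j)) ((AlgSp.yon S).map (β j)) f
      ((AlgSp.yon S).map (c j) ≫ y) := fun j => by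
    rw [← hl j]
    exact (hVsq j).paste_horiz (sq (i_ j))
  have hw : ∀ j, (fstV j ≫ q (i_ j)) ≫ f =
      ((AlgSp.yon S).map (β j) ≫ (AlgSp.yon S).map (c j)) ≫ y := fun j => by
    rw [Category.assoc _ _ y]
    exact (big1 j).w
  let v : ∀ j, (AlgSp.yon S).obj (V j) ⟶ pullback f y := fun j => pullback.lift _ _ (hw j)
  have hv1 : ∀ j, v j ≫ pullback.fst f y = fstV j ≫ q (i_ j) := fun j =>
    pullback.lift_fst _ _ _
  have hv2 : ∀ j, v j ≫ pullback.snd f y =
      (AlgSp.yon S).map (β j) ≫ (AlgSp.yon S).map (c j) := fun j => pullback.lift_snd _ _ _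
  have hV : ∀ j, IsPullback (v j) ((AlgSp.yon S).map (β j)) (pullback.snd f y)
      ((AlgSp.yon S).map (c j)) := fun j => by
    refine IsPullback.of_right ?_ (hv2 j) (IsPullback.of_hasPullback f y)
    rw [hv1 j]
    exact big1 j
  -- the immersions `β j` are closed immersions
  have hβc : ∀ j, IsClosedImmersion (β j).left := fun j => by
    haveI := hβ j
    refine IsClosedImmersion.of_isPreimmersion _ ?_
    rw [range_eq_preimage_imgSet (hV j)]
    exact hE.preimage (c j).left.continuous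
  have hVa : ∀ j, IsAffine (V j).left := fun j => by
    haveI := hβc j
    haveI := hWa j
    exact isAffine_of_isAffineHom (β j).left
  obtain ⟨Q, σ, e, heσ, hQa, hθ⟩ :=
    exists_affine_rep hQ hX' (pullback.snd f y) W c hWa hfl hsurj V hVa β v hV
  refine ⟨Q, σ, e.inv ≫ pullback.fst f y, ?_, hQa, ?_⟩
  · refine IsPullback.of_iso (IsPullback.of_hasPullback f y) e (Iso.refl _) (Iso.refl _)
      (Iso.refl _) ?_ ?_ ?_ ?_
    · simp
    · simp [heσ]
    · simp
    · simp
  · haveI : IsAffine Q.left := hQa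
    haveI := Groth.Agent.Lib.Helper12.descendsAlong_isClosedImmersion.{u}
    refine of_standard_fpqc @IsClosedImmersion σ.left (fun j => (W j).left)
      (fun j => (c j).left) hWa hfl hsurj (fun j => ?_)
    obtain ⟨θ, hθsq⟩ := hθ j
    exact ⟨(V j).left, θ, (β j).left, hθsq, hβc j⟩

include hY hcov hX sq H in
/-- **locally closed case**: if the base changes of `f` along an fpqc covering are immersions and
the image of the base change of `f` to an affine scheme `Z` is locally closed, then this base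
change is a subscheme of `Z`. -/
theorem exists_immersion_rep (hQ : AffQuotStmt.{u}) (Z : Over S)
    (y : (AlgSp.yon S).obj Z ⟶ Y) (hE : IsLocallyClosed (imgSet (pullback.snd f y))) :
    ∃ (Q : Over S) (σ : Q ⟶ Z) (fst : (AlgSp.yon S).obj Q ⟶ X),
      IsPullback fst ((AlgSp.yon S).map σ) f y ∧ IsImmersion σ.left := by
  obtain ⟨π, hπ⟩ : ∃ π : pullback f y ⟶ (AlgSp.yon S).obj Z, π = pullback.snd f y := ⟨_, rfl⟩
  rw [← hπ] at hE
  obtain ⟨E, hEdef⟩ : ∃ E : Set ↥Z.left, E = imgSet π := ⟨_, rfl⟩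
  rw [← hEdef] at hE
  have hX' : AlgSp.IsAlgSpace (pullback f y) :=
    Groth.Agent.S9874.isAlgSpace_of_isPullback hY.diag hX (AlgSp.IsAlgSpace.yon_obj Z)
      (IsPullback.of_hasPullback f y)
  -- the open subscheme of `Z` in which the image is closed
  let Zo : Z.left.Opens := ⟨coborder E, hE.isOpen_coborder⟩
  let O : Over S := Over.mk (Zo.ι ≫ Z.hom)
  let o : O ⟶ Z := Over.homMk Zo.ι rfl
  have hoi : IsOpenImmersion o.left := inferInstanceAs (IsOpenImmersion Zo.ι)
  have ho : AlgSp.RepWith @IsOpenImmersion ((AlgSp.yon S).map o) :=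
    (AlgSp.repWith_yon_map_iff @IsOpenImmersion o).2 hoi
  have hmono : ∀ ⦃A B : Scheme.{u}⦄ (g : A ⟶ B), IsOpenImmersion g → Mono g := fun A B g hg => by
    haveI : IsOpenImmersion g := hg
    infer_instance
  haveI : Mono ((AlgSp.yon S).map o) :=
    Groth.Agent.S9928.mono_of_repWith @IsOpenImmersion hmono _ ho
  -- `pullback f y` lies over this open subscheme
  have hfo : AlgSp.RepWith @IsOpenImmersion (pullback.fst π ((AlgSp.yon S).map o)) :=
    MorphismProperty.of_isPullback (P := AlgSp.RepWith @IsOpenImmersion)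
      (IsPullback.of_hasPullback π ((AlgSp.yon S).map o)).flip ho
  have hfsurj : Function.Surjective
      (AlgSp.Points.map (pullback.fst π ((AlgSp.yon S).map o))) := by
    intro x
    have hzE : (AlgSp.Points.schemeHomeo Z).symm (AlgSp.Points.map π x) ∈ E := by
      rw [hEdef]
      show (AlgSp.Points.schemeHomeo Z) ((AlgSp.Points.schemeHomeo Z).symm
        (AlgSp.Points.map π x)) ∈ Set.range (AlgSp.Points.map π)
      rw [Homeomorph.apply_symm_apply]
      exact ⟨x, rfl⟩
    have hz : (AlgSp.Points.schemeHomeo Z).symm (AlgSp.Points.map π x) ∈ coborder E :=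
      subset_coborder hzE
    obtain ⟨p, hp, -⟩ := Groth.Agent.S10175.exists_point_of_isPullback
      (IsPullback.of_hasPullback π ((AlgSp.yon S).map o)) x
      (AlgSp.Points.schemeHomeo O ⟨_, hz⟩) (by
        rw [AlgSp.Points.map_yon_map_apply]
        show _ = (AlgSp.Points.schemeHomeo Z) (Zo.ι ⟨_, hz⟩)
        rw [Scheme.Opens.ι_apply, Homeomorph.apply_symm_apply])
    exact ⟨p, hp⟩
  haveI : Mono (pullback.fst π ((AlgSp.yon S).map o)) :=
    Groth.Agent.S9928.mono_of_repWith @IsOpenImmersion hmono _ hfo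
  have hfe : AlgSp.RepWith @Etale (pullback.fst π ((AlgSp.yon S).map o)) :=
    ⟨hfo.1, fun U V g' a b sqab => by
      haveI : IsOpenImmersion b.left := hfo.2 g' a b sqab
      exact (inferInstance : Etale b.left)⟩
  haveI : Epi (pullback.fst π ((AlgSp.yon S).map o)) :=
    Groth.Agent.S9927.epi_of_repWith _ hfe
      (Groth.Agent.S9906.repWith_surjective_of_surjective_map _ hfo.1 hfsurj)
  haveI : IsIso (pullback.fst π ((AlgSp.yon S).map o)) := isIso_of_mono_of_epi _
  obtain ⟨πo, hπo⟩ : ∃ πo : pullback f y ⟶ (AlgSp.yon S).obj O,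
      πo ≫ (AlgSp.yon S).map o = π :=
    ⟨inv (pullback.fst π ((AlgSp.yon S).map o)) ≫ pullback.snd π ((AlgSp.yon S).map o), by
      rw [Category.assoc, ← pullback.condition, IsIso.inv_hom_id_assoc]⟩
  -- `πo` is a closed immersion
  have hrep : AlgSp.RepWith @IsClosedImmersion πo := by
    refine Groth.Agent.Lib.Helper12.ZarGlue.repWith_of_affine @IsClosedImmersion πo
      (fun T hT t => ?_)
    obtain ⟨t', rfl⟩ := (AlgSp.yon S).map_surjective t
    obtain ⟨yT, hyT⟩ : ∃ yT : (AlgSp.yon S).obj T ⟶ Y,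
        yT = (AlgSp.yon S).map (t' ≫ o) ≫ y := ⟨_, rfl⟩
    have sqT : IsPullback (pullback.fst f yT) (pullback.snd f yT) f
        ((AlgSp.yon S).map (t' ≫ o) ≫ y) := by
      rw [← hyT]
      exact IsPullback.of_hasPullback f yT
    obtain ⟨a, -, sqa⟩ := exists_lift_isPullback f y sqT
    rw [← hπ] at sqa
    have hET : IsClosed (imgSet (pullback.snd f yT)) := by
      rw [imgSet_baseChange sqa, ← hEdef]
      have e : ⇑(t' ≫ o).left ⁻¹' E = ⇑t'.left ⁻¹' (⇑Zo.ι ⁻¹' E) := by
        ext x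
        rfl
      have hc : IsClosed (⇑Zo.ι ⁻¹' E) := isClosed_preimage_val_coborder (s := E)
      rw [e]
      exact hc.preimage t'.left.continuous
    obtain ⟨Q, σ, fst, sqQ, hQa, hσ⟩ :=
      exists_closedImmersion_rep Yi g hY hcov f hX Xi p q sq H hQ T hT yT hET
    rw [hyT] at sqQ
    obtain ⟨l, -, sql⟩ := exists_lift_isPullback f y sqQ
    rw [← hπ, ← hπo, Functor.map_comp] at sql
    exact ⟨Q, σ, l, isPullback_of_comp_mono ((AlgSp.yon S).map o) sql, hσ⟩
  -- conclusion
  obtain ⟨Q, σo, fstQ, sqQ⟩ := hrep.1 (𝟙 ((AlgSp.yon S).obj O))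
  have hσo : IsClosedImmersion σo.left := hrep.2 _ _ _ sqQ
  haveI : IsIso fstQ := sqQ.isIso_fst_of_isIso
  refine ⟨Q, σo ≫ o, fstQ ≫ pullback.fst f y, ?_, ?_⟩
  · have left : IsPullback fstQ ((AlgSp.yon S).map (σo ≫ o)) π (𝟙 ((AlgSp.yon S).obj Z)) := by
      refine IsPullback.of_horiz_isIso ⟨?_⟩
      rw [Category.comp_id, Functor.map_comp, ← hπo, ← Category.assoc, sqQ.w, Category.comp_id]
    rw [hπ] at left
    have := left.paste_horiz (IsPullback.of_hasPullback f y)
    rwa [Category.id_comp] at this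
  · rw [Over.comp_left]
    infer_instance

end Global

end Groth.Agent.R2.H83.ImmDesc
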