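-- helper83: isomorphisms (and representable open immersions) of algebraic spaces are fpqc local
-- on the base.
import Mathlib
import Groth.Agent.R2.H83MonoFpqc
import Groth.Agent.S9927
import Groth.Agent.S9874
import Groth.Agent.S9928

set_option autoImplicit false
set_option backward.isDefEq.respectTransparency.types false
set_option linter.style.haveILetI false
universe u
open CategoryTheory CategoryTheory.Limits AlgebraicGeometry Opposite
open AlgSp

namespace Groth.Agent.R2.H83.IsoFpqc

open Groth.Agent.Lib.Helper12.BaseLocal MorphismProperty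

variable {S : Scheme.{u}}

/-- Let `f : X ⟶ Y` be a morphism of sheaves all of whose base changes `p i` along an fpqc
covering of `Y` are representable with a property `Q`.  For `y : h_T ⟶ Y` and a chart
`u : h_U ⟶ X ×_Y h_T`, the composite `ν : U ⟶ T` has every property `P` which is fpqc local on the
target and holds for composites of a surjective étale morphism followed by a morphism with `Q`. -/
theorem chart_property_of_fpqc (P Q : MorphismProperty Scheme.{u}) [IsZariskiLocalAtTarget P]
    [P.DescendsAlong (@Surjective ⊓ @Flat ⊓ @QuasiCompact)]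
    (hPQ : ∀ {A B C : Scheme.{u}} (e : A ⟶ B) (o : B ⟶ C), Etale e → Surjective e → Q o →
      P (e ≫ o))
    {ι : Type u} {Y : AlgSp.Sp S} (Yi : ι → AlgSp.Sp S) (g : ∀ i, Yi i ⟶ Y)
    (hcov : AlgSp.IsFpqcCover Yi g) {X : AlgSp.Sp S} (f : X ⟶ Y)
    (Xi : ι → AlgSp.Sp S) (p : ∀ i, Xi i ⟶ Yi i) (q : ∀ i, Xi i ⟶ X)
    (sq : ∀ i, IsPullback (q i) (p i) f (g i))
    (H : ∀ i, AlgSp.RepWith Q (p i))
    {T U : Over S} (y : (AlgSp.yon S).obj T ⟶ Y)
    (u : (AlgSp.yon S).obj U ⟶ pullback f y) (hu : AlgSp.RepWith @Etale u)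
    (hus : AlgSp.RepWith @Surjective u)
    (ν : U ⟶ T) (hν : (AlgSp.yon S).map ν = u ≫ pullback.snd f y) : P ν.left := by
  rw [IsZariskiLocalAtTarget.iff_of_openCover (P := P) T.left.affineCover]
  intro k
  obtain ⟨ζ, hζ⟩ : ∃ ζ : T.left.affineCover.X k ⟶ T.left, ζ = T.left.affineCover.f k := ⟨_, rfl⟩
  show P (pullback.snd ν.left (T.left.affineCover.f k))
  rw [← hζ]
  let Zo : Over S := Over.mk (ζ ≫ T.hom)
  let ζ' : Zo ⟶ T := Over.homMk ζ rfl
  have hZa : IsAffine Zo.left := by
    show IsAffine (T.left.affineCover.X k)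
    infer_instance
  obtain ⟨m, W, c, hWa, hcfl, hcs, hl⟩ := hcov.2 Zo hZa ((AlgSp.yon S).map ζ' ≫ y)
  haveI : IsAffine (T.left.affineCover.X k) := hZa
  refine of_standard_fpqc P (pullback.snd ν.left ζ) (fun j => (W j).left)
    (fun j => (c j).left) hWa hcfl hcs (fun j => ?_)
  obtain ⟨i, l, hl⟩ := hl j
  -- the base change of `p i` along `l`
  obtain ⟨O, o, γ₀, sqO⟩ := (H i).1 l
  have hQo : Q o.left := (H i).2 l γ₀ o sqO
  have big1 : IsPullback (γ₀ ≫ q i) ((AlgSp.yon S).map o) f (l ≫ g i) := sqO.paste_horiz (sq i)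
  have hlg : l ≫ g i = (AlgSp.yon S).map (c j ≫ ζ') ≫ y := by
    rw [hl, Functor.map_comp, Category.assoc]
  rw [hlg] at big1
  have hwγ : (γ₀ ≫ q i) ≫ f =
      ((AlgSp.yon S).map o ≫ (AlgSp.yon S).map (c j ≫ ζ')) ≫ y := by
    rw [Category.assoc _ _ y]; exact big1.w
  obtain ⟨γ, hγ⟩ : ∃ γ : (AlgSp.yon S).obj O ⟶ pullback f y, γ = pullback.lift _ _ hwγ :=
    ⟨_, rfl⟩
  have hγ1 : γ ≫ pullback.fst f y = γ₀ ≫ q i := by rw [hγ, pullback.lift_fst]
  have hγ2 : γ ≫ pullback.snd f y = (AlgSp.yon S).map o ≫ (AlgSp.yon S).map (c j ≫ ζ') := by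
    rw [hγ, pullback.lift_snd]
  have sqM : IsPullback γ ((AlgSp.yon S).map o) (pullback.snd f y)
      ((AlgSp.yon S).map (c j ≫ ζ')) := by
    refine IsPullback.of_right ?_ hγ2 (IsPullback.of_hasPullback f y)
    rw [hγ1]
    exact big1
  -- pull back the chart `u` along `γ`
  obtain ⟨A, a2, a1, sqA⟩ := hu.1 γ
  have hEt : Etale a2.left := hu.2 γ a1 a2 sqA
  have hSu : Surjective a2.left := hus.2 γ a1 a2 sqA
  obtain ⟨a1', rfl⟩ := (AlgSp.yon S).map_surjective a1
  have big2 := sqA.paste_vert sqM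
  rw [← hν, ← Functor.map_comp] at big2
  have hcomm : a1' ≫ ν = (a2 ≫ o) ≫ (c j ≫ ζ') := by
    apply (AlgSp.yon S).map_injective
    rw [Functor.map_comp, Functor.map_comp]
    exact big2.w
  have big3 : IsPullback a1' (a2 ≫ o) ν (c j ≫ ζ') := IsPullback.of_map (AlgSp.yon S) hcomm big2
  have big4 : IsPullback a1'.left (a2.left ≫ o.left) ν.left ((c j).left ≫ ζ) :=
    big3.map (Over.forget S)
  have hwN : a1'.left ≫ ν.left = ((a2.left ≫ o.left) ≫ (c j).left) ≫ ζ := by
    rw [Category.assoc]; exact big4.w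
  refine ⟨A.left, pullback.lift a1'.left ((a2.left ≫ o.left) ≫ (c j).left) hwN,
    a2.left ≫ o.left, ?_, hPQ _ _ hEt hSu hQo⟩
  refine IsPullback.of_right ?_ (pullback.lift_snd _ _ _) (IsPullback.of_hasPullback ν.left ζ)
  rw [pullback.lift_fst]
  exact big4

/-- an isomorphism of sheaves is representable by isomorphisms of schemes. -/
lemma repWith_isomorphisms_of_isIso {F G : AlgSp.Sp S} (f : F ⟶ G) [IsIso f] :
    AlgSp.RepWith (MorphismProperty.isomorphisms Scheme.{u}) f := by
  refine MorphismProperty.relative.of_exists (fun a g => ?_)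
  refine ⟨a, g ≫ inv f, 𝟙 a, ?_, ?_⟩
  · rw [CategoryTheory.Functor.map_id]
    exact IsPullback.of_vert_isIso ⟨by simp⟩
  · show IsIso ((Over.forget S).map (𝟙 a))
    infer_instance

/-- Isomorphisms of algebraic spaces are fpqc local on the base. -/
theorem isLocalOnBase_fpqc_isomorphisms (S : Scheme.{u}) :
    AlgSp.IsLocalOnBase (AlgSp.IsFpqcCover (S := S))
      (MorphismProperty.isomorphisms (AlgSp.Sp S)) := by
  intro ι Y Yi g hY hYi hcov X f hX Xi p q hXi sq
  constructor
  · intro hf i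
    haveI : IsIso f := hf
    exact (sq i).isIso_snd_of_isIso  
  · intro H
    haveI hiso : ∀ i, IsIso (p i) := H
    show IsIso f
    -- `f` is a monomorphism
    haveI hmono : Mono f :=
      ((Groth.Agent.R2.H83.MonoFpqc.isLocalOnBase_fpqc_mono S) Yi g hY hYi hcov f hX Xi p q hXi
        sq).2 (fun i => (inferInstance : Mono (p i)))
    -- an atlas of `Y`
    obtain ⟨V, v, hv, hvs⟩ := hY.atlas
    haveI : Epi v := Groth.Agent.S9927.epi_of_repWith v hv hvs
    have hX' : AlgSp.IsAlgSpace (pullback f v) :=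
      Groth.Agent.S9874.isAlgSpace_of_isPullback hY.diag hX (AlgSp.IsAlgSpace.yon_obj V)
        (IsPullback.of_hasPullback f v)
    obtain ⟨U, u, hu, hus⟩ := hX'.atlas
    obtain ⟨ν, hν⟩ : ∃ ν : U ⟶ V, (AlgSp.yon S).map ν = u ≫ pullback.snd f v :=
      ⟨(AlgSp.yon S).preimage _, Functor.map_preimage _ _⟩
    have hrep : ∀ i, AlgSp.RepWith (MorphismProperty.isomorphisms Scheme.{u}) (p i) :=
      fun i => repWith_isomorphisms_of_isIso (p i)
    have hνe : Etale ν.left :=
      chart_property_of_fpqc (@Etale : MorphismProperty Scheme.{u})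
        (MorphismProperty.isomorphisms Scheme.{u})
        (fun e o he _ ho => by
          haveI : IsIso o := ho
          haveI := he
          infer_instance) Yi g hcov f Xi p q sq hrep v u hu hus ν hν
    have hνs : Surjective ν.left :=
      chart_property_of_fpqc (@Surjective : MorphismProperty Scheme.{u})
        (MorphismProperty.isomorphisms Scheme.{u})
        (fun e o _ hs ho => by
          haveI : IsIso o := ho
          haveI := hs
          infer_instance) Yi g hcov f Xi p q sq hrep v u hu hus ν hν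
    haveI : Epi ((AlgSp.yon S).map ν) :=
      Groth.Agent.S9927.epi_of_repWith _ ((AlgSp.repWith_yon_map_iff @Etale ν).2 hνe)
        ((AlgSp.repWith_yon_map_iff @Surjective ν).2 hνs)
    haveI : Epi (pullback.snd f v) := epi_of_epi_fac hν.symm
    haveI : Epi (pullback.fst f v ≫ f) := by
      rw [pullback.condition]
      infer_instance
    haveI : Epi f := epi_of_epi_fac (rfl : pullback.fst f v ≫ f = _)
    exact isIso_of_mono_of_epi f

/-- uniqueness of (epi, mono) factorisations in a balanced category with pullbacks. -/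
lemma exists_iso_of_epi_mono_fac {C : Type*} [Category* C] [Balanced C] [HasPullbacks C]
    {A B B' D : C} (e : A ⟶ B) (m : B ⟶ D) (e' : A ⟶ B') (m' : B' ⟶ D) [Epi e] [Mono m] [Epi e']
    [Mono m'] (h : e ≫ m = e' ≫ m') : ∃ φ : B ≅ B', φ.hom ≫ m' = m := by
  haveI : Epi (pullback.fst m m') := epi_of_epi_fac (pullback.lift_fst e e' h)
  haveI : Epi (pullback.snd m m') := epi_of_epi_fac (pullback.lift_snd e e' h)
  haveI : IsIso (pullback.fst m m') := isIso_of_mono_of_epi _
  haveI : IsIso (pullback.snd m m') := isIso_of_mono_of_epi _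
  refine ⟨(asIso (pullback.fst m m')).symm ≪≫ asIso (pullback.snd m m'), ?_⟩
  simp only [Iso.trans_hom, Iso.symm_hom, asIso_inv, asIso_hom, Category.assoc,
    IsIso.inv_comp_eq]
  exact pullback.condition.symm

/-- an étale morphism factors as a surjective étale morphism followed by an open immersion. -/
lemma exists_open_factor {U T : Scheme.{u}} (ν : U ⟶ T) [Etale ν] :
    ∃ (O : T.Opens) (ν' : U ⟶ O.toScheme), ν' ≫ O.ι = ν ∧ Etale ν' ∧ Surjective ν' := by
  let O : T.Opens := ⟨Set.range ν, ν.isOpenMap.isOpen_range⟩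
  have hr : Set.range ν ⊆ Set.range O.ι := by
    rw [Scheme.Opens.range_ι]
    exact subset_rfl
  refine ⟨O, IsOpenImmersion.lift O.ι ν hr, IsOpenImmersion.lift_fac _ _ _, ?_, ?_⟩
  · refine MorphismProperty.of_postcomp (W := @Etale) (W' := @Etale) _ O.ι inferInstance ?_
    rw [IsOpenImmersion.lift_fac]
    infer_instance
  · refine ⟨fun x => ?_⟩
    have hx : O.ι x ∈ Set.range O.ι := ⟨x, rfl⟩
    rw [Scheme.Opens.range_ι] at hx
    obtain ⟨w, hw⟩ : O.ι x ∈ Set.range ν := hx
    refine ⟨w, ?_⟩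
    apply O.ι.injective
    rw [← Scheme.Hom.comp_apply, IsOpenImmersion.lift_fac]
    exact hw

/-- Representable open immersions of algebraic spaces are fpqc local on the base. -/
theorem isLocalOnBase_fpqc_repWith_isOpenImmersion (S : Scheme.{u}) :
    AlgSp.IsLocalOnBase (AlgSp.IsFpqcCover (S := S)) (AlgSp.RepWith @IsOpenImmersion) := by
  intro ι Y Yi g hY hYi hcov X f hX Xi p q hXi sq
  constructor
  · intro hf i
    exact MorphismProperty.of_isPullback (P := AlgSp.RepWith @IsOpenImmersion) (sq i) hf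
  · intro H
    -- `f` is a monomorphism
    have hmonoP : ∀ ⦃A B : Scheme.{u}⦄ (k : A ⟶ B), IsOpenImmersion k → Mono k :=
      fun A B k hk => by haveI := hk; infer_instance
    haveI hmono : Mono f :=
      ((Groth.Agent.R2.H83.MonoFpqc.isLocalOnBase_fpqc_mono S) Yi g hY hYi hcov f hX Xi p q hXi
        sq).2 (fun i => Groth.Agent.S9928.mono_of_repWith @IsOpenImmersion hmonoP (p i) (H i))
    refine MorphismProperty.relative.of_exists (fun T y => ?_)
    have hX' : AlgSp.IsAlgSpace (pullback f y) :=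
      Groth.Agent.S9874.isAlgSpace_of_isPullback hY.diag hX (AlgSp.IsAlgSpace.yon_obj T)
        (IsPullback.of_hasPullback f y)
    obtain ⟨U, u, hu, hus⟩ := hX'.atlas
    haveI : Epi u := Groth.Agent.S9927.epi_of_repWith u hu hus
    obtain ⟨ν, hν⟩ : ∃ ν : U ⟶ T, (AlgSp.yon S).map ν = u ≫ pullback.snd f y :=
      ⟨(AlgSp.yon S).preimage _, Functor.map_preimage _ _⟩
    haveI hνe : Etale ν.left :=
      chart_property_of_fpqc (@Etale : MorphismProperty Scheme.{u}) @IsOpenImmersion
        (fun e o he _ ho => by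
          haveI : IsOpenImmersion o := ho
          haveI := he
          infer_instance) Yi g hcov f Xi p q sq H y u hu hus ν hν
    obtain ⟨O, ν', hν', hν'e, hν's⟩ := exists_open_factor ν.left
    let Oo : Over S := Over.mk (O.ι ≫ T.hom)
    let ι' : Oo ⟶ T := Over.homMk O.ι rfl
    let ν'' : U ⟶ Oo := Over.homMk ν' (by
      show ν' ≫ O.ι ≫ T.hom = U.hom
      rw [← Category.assoc, hν']
      exact Over.w ν)
    have hfac : ν'' ≫ ι' = ν := by
      apply Over.OverMorphism.ext
      exact hν'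
    haveI : Epi ((AlgSp.yon S).map ν'') :=
      Groth.Agent.S9927.epi_of_repWith _ ((AlgSp.repWith_yon_map_iff @Etale ν'').2 hν'e)
        ((AlgSp.repWith_yon_map_iff @Surjective ν'').2 hν's)
    haveI : Mono ι' := by
      haveI : Mono ι'.left := (inferInstance : Mono O.ι)
      exact Over.mono_of_mono_left ι'
    haveI : Mono ((AlgSp.yon S).map ι') := inferInstance
    have hh : u ≫ pullback.snd f y = (AlgSp.yon S).map ν'' ≫ (AlgSp.yon S).map ι' := by
      rw [← hν, ← Functor.map_comp, hfac]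
    obtain ⟨φ, hφ⟩ := exists_iso_of_epi_mono_fac u (pullback.snd f y) ((AlgSp.yon S).map ν'')
      ((AlgSp.yon S).map ι') hh
    refine ⟨Oo, φ.inv ≫ pullback.fst f y, ι', ?_, ?_⟩
    · refine IsPullback.of_iso_pullback ⟨?_⟩ φ.symm rfl ?_
      · rw [Category.assoc, pullback.condition, ← Category.assoc, ← hφ, Iso.inv_hom_id_assoc]
      · rw [Iso.symm_hom, ← hφ, Iso.inv_hom_id_assoc]
    · show IsOpenImmersion O.ι
      infer_instance

end Groth.Agent.R2.H83.IsoFpqc
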