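-- helper83: fpqc descent of quasi-affine morphisms of algebraic spaces (S10537), from the package
-- AD-Q2 of `H83ImmDescSpec`.
import Mathlib
import Groth.Agent.R2.H83AffDesc
import Groth.Agent.R2.H83ImmDesc
import Groth.Agent.R2.H83ImmDescSpec
import Groth.Agent.R2.H83IsoFpqc
import Groth.Agent.Lib.Helper15LocEss

set_option autoImplicit false
set_option backward.isDefEq.respectTransparency.types false
set_option linter.style.haveILetI false
universe u
open CategoryTheory CategoryTheory.Limits AlgebraicGeometry Opposite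
open AlgSp

namespace Groth.Agent.R2.H83.QAffDesc

open Groth.Agent.R2.H83.AffDescSpec Groth.Agent.R2.H83.AffDescCat Groth.Agent.R2.H83.AffDesc
  Groth.Agent.R2.H83.ImmDesc Groth.Agent.R2.H83.ImmDescSpec
  Groth.Agent.Lib.Helper12.BaseLocal MorphismProperty

variable {S : Scheme.{u}}

/-- a morphism from an affine scheme to a separated scheme is affine. -/
lemma isAffineHom_of_isAffine_of_isSeparated {X Y : Scheme.{u}} [IsAffine X] [Y.IsSeparated]
    (f : X ⟶ Y) : IsAffineHom f := by
  haveI : IsAffineHom (f ≫ terminal.from Y) := by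
    rw [show f ≫ terminal.from Y = terminal.from X from terminal.hom_ext _ _]
    infer_instance
  exact IsAffineHom.of_comp f (terminal.from Y)

/-- a standard fpqc covering of an affine scheme gives an fpqc covering of the representable
sheaf. -/
lemma isFpqcCover_yon_of_standard {Q : Over S} [IsAffine Q.left] {m : ℕ} (Qj : Fin m → Over S)
    (cj : ∀ j, Qj j ⟶ Q) (hQa : ∀ j, IsAffine (Qj j).left) (hfl : ∀ j, Flat (cj j).left)
    (hsurj : ∀ z : ↥Q.left, ∃ j, z ∈ Set.range (cj j).left) :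
    AlgSp.IsFpqcCover (fun j : ULift.{u} (Fin m) => (AlgSp.yon S).obj (Qj j.down))
      (fun j => (AlgSp.yon S).map (cj j.down)) := by
  refine ⟨fun j => Groth.Agent.Lib.Helper15LocEss.locP_yon_map_of_flat _ (hfl j.down),
    fun T hT h => ?_⟩
  haveI : IsAffine T.left := hT
  obtain ⟨t, rfl⟩ := (AlgSp.yon S).map_surjective h
  refine ⟨m, fun j => pullback t (cj j), fun j => pullback.fst t (cj j), fun j => ?_, fun j => ?_,
    fun z => ?_, fun j => ⟨⟨j⟩, (AlgSp.yon S).map (pullback.snd t (cj j)), ?_⟩⟩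
  · haveI := hQa j
    exact isAffine_left_of_isPullback (IsPullback.of_hasPullback t (cj j))
  · exact MorphismProperty.of_isPullback (P := @Flat)
      ((IsPullback.of_hasPullback t (cj j)).map (Over.forget S)).flip (hfl j)
  · obtain ⟨j, w, hw⟩ := hsurj (t.left z)
    obtain ⟨a, ha, -⟩ := Groth.Agent.Lib.Helper12.exists_preimage_of_isPullback
      ((IsPullback.of_hasPullback t (cj j)).map (Over.forget S)) z w hw.symm
    exact ⟨j, a, ha⟩
  · rw [← Functor.map_comp, ← Functor.map_comp, pullback.condition]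

/-- a scheme whose sheaf receives a map, surjective on points, from a quasi-compact scheme is
quasi-compact. -/
lemma compactSpace_left_of_iso {X' : AlgSp.Sp S} {U O : Over S} [CompactSpace ↥U.left]
    (u : (AlgSp.yon S).obj U ⟶ X') (hus : Function.Surjective (AlgSp.Points.map u))
    (e : X' ≅ (AlgSp.yon S).obj O) : CompactSpace ↥O.left := by
  obtain ⟨ρ, hρ⟩ : ∃ ρ : U ⟶ O, (AlgSp.yon S).map ρ = u ≫ e.hom :=
    ⟨(AlgSp.yon S).preimage _, Functor.map_preimage _ _⟩
  have hρs : Function.Surjective ⇑ρ.left := by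
    intro z
    obtain ⟨x', hx'⟩ := hus (AlgSp.Points.map e.inv (AlgSp.Points.schemeHomeo O z))
    obtain ⟨a, rfl⟩ := (AlgSp.Points.schemeHomeo U).surjective x'
    refine ⟨a, (AlgSp.Points.schemeHomeo O).injective ?_⟩
    rw [← AlgSp.Points.map_yon_map_apply, hρ, AlgSp.Points.map_comp, hx',
      ← AlgSp.Points.map_comp, Iso.inv_hom_id, AlgSp.Points.map_id]
  exact hρs.compactSpace ρ.left.continuous

/-- **Effectivity of quasi-affine descent data**: an algebraic space `X'` over an affine scheme `Z`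
which becomes a quasi-affine scheme over each member of a standard fpqc covering of `Z` is a
quasi-affine scheme. -/
theorem exists_quasiAffine_rep (hQ : QAffQuotStmt.{u}) {Z : Over S} [IsAffine Z.left]
    {X' : AlgSp.Sp S} (hX' : AlgSp.IsAlgSpace X') (π : X' ⟶ (AlgSp.yon S).obj Z) {m : ℕ}
    (W : Fin m → Over S) (c : ∀ j, W j ⟶ Z) (hWa : ∀ j, IsAffine (W j).left)
    (hfl : ∀ j, Flat (c j).left) (hsurj : ∀ z : ↥Z.left, ∃ j, z ∈ Set.range (c j).left)
    (V : Fin m → Over S) (hVa : ∀ j, (V j).left.IsQuasiAffine) (β : ∀ j, V j ⟶ W j)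
    (v : ∀ j, (AlgSp.yon S).obj (V j) ⟶ X')
    (hV : ∀ j, IsPullback (v j) ((AlgSp.yon S).map (β j)) π ((AlgSp.yon S).map (c j))) :
    ∃ (O : Over S) (i : O ⟶ Z) (e : X' ≅ (AlgSp.yon S).obj O),
      e.hom ≫ (AlgSp.yon S).map i = π ∧ O.left.IsQuasiAffine := by
  haveI := hWa
  haveI := hVa
  -- (a) `X'` is quasi-compact
  have hqc : AlgSp.IsQuasiCompactSp X' := by
    rw [Groth.Agent.S10174.isQuasiCompactSp_iff hX']
    refine Groth.Agent.S9917.compactSpace_points_of_cover π (fun j => (AlgSp.yon S).obj (W j))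
      (fun j => (AlgSp.yon S).map (c j)) ?_ (fun j => (AlgSp.yon S).obj (V j)) v
      (fun j => (AlgSp.yon S).map (β j)) hV (fun j => ?_)
    · intro z
      obtain ⟨j, w, hw⟩ := hsurj ((AlgSp.Points.schemeHomeo Z).symm z)
      refine ⟨j, AlgSp.Points.schemeHomeo (W j) w, ?_⟩
      rw [AlgSp.Points.map_yon_map_apply, hw, Homeomorph.apply_symm_apply]
    · exact Groth.Agent.S9917.compactSpace_points_of_isQuasiCompactSp
        ⟨V j, 𝟙 _, AlgSp.repWith_id _ (V j), AlgSp.repWith_id _ (V j), inferInstance⟩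
  -- (b) an affine chart
  obtain ⟨U, u, hue, hus, hUa⟩ := exists_affine_chart hqc
  haveI : IsAffine U.left := hUa
  haveI : Epi u := Groth.Agent.S9927.epi_of_repWith u hue hus
  let ν : U ⟶ Z := (AlgSp.yon S).preimage (u ≫ π)
  have hν : (AlgSp.yon S).map ν = u ≫ π := Functor.map_preimage _ _
  -- (c) the kernel pair of the chart
  obtain ⟨R, t, s₀, sqR₀⟩ := (hX'.representable_from_yon u) u
  obtain ⟨s, rfl⟩ := (AlgSp.yon S).map_surjective s₀
  have sqR : IsPullback ((AlgSp.yon S).map s) ((AlgSp.yon S).map t) u u := sqR₀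
  have hst : s ≫ ν = t ≫ ν := s_comp_ν π u ν hν s t sqR
  -- (d) the base changes of the chart
  let q : ∀ j, pullback ν (c j) ⟶ V j := fun j => qMap π u ν hν (c j) (β j) (v j) (hV j)
  have hqe : ∀ j, Etale (q j).left := fun j =>
    hue.2 (v j) _ _ (isPullback_qMap π u ν hν (c j) (β j) (v j) (hV j))
  have hqs : ∀ j, Surjective (q j).left := fun j =>
    hus.2 (v j) _ _ (isPullback_qMap π u ν hν (c j) (β j) (v j) (hV j))
  have hUj : ∀ j, IsAffine (pullback ν (c j)).left := fun j =>
    isAffine_left_of_isPullback (IsPullback.of_hasPullback ν (c j))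
  have sqK : ∀ j, IsPullback (sMap ν s (c j)) (tMap ν s t (c j) hst) (q j) (q j) := fun j =>
    isPullback_sMap_tMap π u ν hν s t sqR (c j) (β j) (v j) (hV j)
  have hRj : ∀ j, IsAffine (pullback (s ≫ ν) (c j)).left := fun j => by
    haveI := hUj j
    haveI : IsAffineHom (q j).left := isAffineHom_of_isAffine_of_isSeparated _
    have sq' : IsPullback (sMap ν s (c j)).left (tMap ν s t (c j) hst).left (q j).left
        (q j).left := (sqK j).map (Over.forget S)
    haveI : IsAffine (pullback (q j).left (q j).left) := inferInstance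
    exact IsAffine.of_isIso sq'.isoPullback.hom
  haveI hsν : IsAffineHom (s ≫ ν).left := by
    haveI := Groth.Agent.Lib.Helper12.descendsAlong_isAffineHom.{u}
    refine of_standard_fpqc @IsAffineHom (s ≫ ν).left (fun j => (W j).left)
      (fun j => (c j).left) hWa hfl hsurj (fun j => ?_)
    refine ⟨(pullback (s ≫ ν) (c j)).left, (pullback.fst (s ≫ ν) (c j)).left,
      (pullback.snd (s ≫ ν) (c j)).left,
      (IsPullback.of_hasPullback (s ≫ ν) (c j)).map (Over.forget S), ?_⟩
    haveI := hRj j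
    infer_instance
  haveI hRa : IsAffine R.left := isAffine_of_isAffineHom (s ≫ ν).left
  -- (e) the affine hull
  have hst' : s.left ≫ ν.left = t.left ≫ ν.left := by
    rw [← Over.comp_left, ← Over.comp_left, hst]
  obtain ⟨Q₀, hQ₀a, ρ, σ₀, hρσ, hsρ, hbc⟩ := hQ ν.left s.left t.left hst'
  haveI : IsAffine Q₀ := hQ₀a
  have hθ : ∀ j, ∃ (θ : (V j).left ⟶ Q₀) (w : θ ≫ σ₀ = (β j).left ≫ (c j).left),
      (q j).left ≫ θ = (pullback.fst ν (c j)).left ≫ ρ ∧
      IsOpenImmersion (pullback.lift θ (β j).left w) := fun j => by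
    haveI := hqe j
    refine hbc (W j).left (V j).left (pullback ν (c j)).left (pullback (s ≫ ν) (c j)).left
      (hWa j) (hVa j) (c j).left (hfl j) (β j).left (pullback.fst ν (c j)).left
      (pullback.snd ν (c j)).left ((IsPullback.of_hasPullback ν (c j)).map (Over.forget S))
      (pullback.fst (s ≫ ν) (c j)).left (pullback.snd (s ≫ ν) (c j)).left
      ((IsPullback.of_hasPullback (s ≫ ν) (c j)).map (Over.forget S))
      (sMap ν s (c j)).left (tMap ν s t (c j) hst).left ?_ ?_ ?_ ?_ (q j).left inferInstance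
      (hqs j) inferInstance ?_ ((sqK j).map (Over.forget S))
    · rw [← Over.comp_left, ← Over.comp_left, sMap, pullback.lift_fst]
    · rw [← Over.comp_left, ← Over.comp_left, tMap, pullback.lift_fst]
    · rw [← Over.comp_left, sMap, pullback.lift_snd]
    · rw [← Over.comp_left, tMap, pullback.lift_snd]
    · rw [← Over.comp_left]
      exact congrArg _ (qMap_β π u ν hν (c j) (β j) (v j) (hV j))
  choose θ hθw hθ1 hθ2 using hθ
  -- (f) the affine hull as an object over `S`
  let Q : Over S := Over.mk (σ₀ ≫ Z.hom)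
  haveI : IsAffine Q.left := hQ₀a
  let σ : Q ⟶ Z := Over.homMk σ₀ rfl
  let ρ' : U ⟶ Q := Over.homMk ρ (by
    show ρ ≫ σ₀ ≫ Z.hom = U.hom
    rw [← Category.assoc, hρσ, CategoryTheory.Over.w])
  have hρ'σ : ρ' ≫ σ = ν := by
    apply Over.OverMorphism.ext
    exact hρσ
  have hsρ' : s ≫ ρ' = t ≫ ρ' := by
    apply Over.OverMorphism.ext
    exact hsρ
  -- the map from `X'` to the affine hull
  haveI : EffectiveEpi u := (regularEpiOfEpi u).effectiveEpi
  have h1 : ∀ {T : AlgSp.Sp S} (g₁ g₂ : T ⟶ (AlgSp.yon S).obj U), g₁ ≫ u = g₂ ≫ u →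
      g₁ ≫ (AlgSp.yon S).map ρ' = g₂ ≫ (AlgSp.yon S).map ρ' := by
    intro T g₁ g₂ h
    calc g₁ ≫ (AlgSp.yon S).map ρ'
        = (sqR.lift g₁ g₂ h ≫ (AlgSp.yon S).map s) ≫ (AlgSp.yon S).map ρ' := by
          rw [sqR.lift_fst]
      _ = sqR.lift g₁ g₂ h ≫ (AlgSp.yon S).map (s ≫ ρ') := by
          rw [Category.assoc, ← Functor.map_comp]
      _ = sqR.lift g₁ g₂ h ≫ (AlgSp.yon S).map (t ≫ ρ') := by rw [hsρ']
      _ = (sqR.lift g₁ g₂ h ≫ (AlgSp.yon S).map t) ≫ (AlgSp.yon S).map ρ' := by
          rw [Category.assoc, ← Functor.map_comp]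
      _ = g₂ ≫ (AlgSp.yon S).map ρ' := by rw [sqR.lift_snd]
  obtain ⟨γ, hγ⟩ : ∃ γ : X' ⟶ (AlgSp.yon S).obj Q, u ≫ γ = (AlgSp.yon S).map ρ' :=
    ⟨EffectiveEpi.desc u ((AlgSp.yon S).map ρ') h1, EffectiveEpi.fac u _ h1⟩
  have hγσ : γ ≫ (AlgSp.yon S).map σ = π := by
    rw [← cancel_epi u, ← Category.assoc, hγ, ← Functor.map_comp, hρ'σ, hν]
  -- the induced covering of the affine hull
  let Qj : Fin m → Over S := fun j => pullback σ (c j)
  let cj : ∀ j, Qj j ⟶ Q := fun j => pullback.fst σ (c j)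
  have hQja : ∀ j, IsAffine (Qj j).left := fun j =>
    isAffine_left_of_isPullback (IsPullback.of_hasPullback σ (c j))
  have hcjfl : ∀ j, Flat (cj j).left := fun j =>
    MorphismProperty.of_isPullback (P := @Flat)
      ((IsPullback.of_hasPullback σ (c j)).map (Over.forget S)).flip (hfl j)
  have hcjs : ∀ z : ↥Q.left, ∃ j, z ∈ Set.range (cj j).left := fun z => by
    obtain ⟨j, w, hw⟩ := hsurj (σ.left z)
    obtain ⟨a, ha, -⟩ := Groth.Agent.Lib.Helper12.exists_preimage_of_isPullback
      ((IsPullback.of_hasPullback σ (c j)).map (Over.forget S)) z w hw.symm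
    exact ⟨j, a, ha⟩
  have hcov := isFpqcCover_yon_of_standard Qj cj hQja hcjfl hcjs
  -- the open immersions `V j ⟶ Q j`
  let θ' : ∀ j, V j ⟶ Q := fun j => Over.homMk (θ j) (by
    show θ j ≫ σ₀ ≫ Z.hom = (V j).hom
    rw [← Category.assoc, hθw j, Category.assoc, CategoryTheory.Over.w, CategoryTheory.Over.w])
  have hθ'σ : ∀ j, θ' j ≫ σ = β j ≫ c j := fun j => by
    apply Over.OverMorphism.ext
    exact hθw j
  let lam : ∀ j, V j ⟶ Qj j := fun j => pullback.lift (θ' j) (β j) (hθ'σ j)
  have hlam : ∀ j, IsOpenImmersion (lam j).left := fun j => by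
    have sqj : IsPullback (cj j).left (pullback.snd σ (c j)).left σ₀ (c j).left :=
      (IsPullback.of_hasPullback σ (c j)).map (Over.forget S)
    have e : (lam j).left = pullback.lift (θ j) (β j).left (hθw j) ≫ sqj.isoPullback.inv := by
      rw [Iso.eq_comp_inv]
      apply pullback.hom_ext
      · rw [Category.assoc, sqj.isoPullback_hom_fst, pullback.lift_fst, ← Over.comp_left]
        exact congrArg _ (pullback.lift_fst _ _ _)
      · rw [Category.assoc, sqj.isoPullback_hom_snd, pullback.lift_snd, ← Over.comp_left]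
        exact congrArg _ (pullback.lift_snd _ _ _)
    rw [e]
    haveI := hθ2 j
    infer_instance
  -- the base change squares
  have hvγ : ∀ j, v j ≫ γ = (AlgSp.yon S).map (θ' j) := fun j => by
    haveI : Epi ((AlgSp.yon S).map (q j)) := Groth.Agent.S9927.epi_of_repWith _
      ((AlgSp.repWith_yon_map_iff @Etale (q j)).2 (hqe j))
      ((AlgSp.repWith_yon_map_iff @Surjective (q j)).2 (hqs j))
    rw [← cancel_epi ((AlgSp.yon S).map (q j)), ← Category.assoc,
      yon_qMap_v π u ν hν (c j) (β j) (v j) (hV j), Category.assoc, hγ, ← Functor.map_comp,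
      ← Functor.map_comp]
    congr 1
    apply Over.OverMorphism.ext
    exact (hθ1 j).symm
  have hsqj : ∀ j, IsPullback (v j) ((AlgSp.yon S).map (lam j)) γ
      ((AlgSp.yon S).map (cj j)) := fun j => by
    have bot : IsPullback ((AlgSp.yon S).map (cj j))
        ((AlgSp.yon S).map (pullback.snd σ (c j))) ((AlgSp.yon S).map σ)
        ((AlgSp.yon S).map (c j)) := (IsPullback.of_hasPullback σ (c j)).map (AlgSp.yon S)
    have big : IsPullback (v j)
        ((AlgSp.yon S).map (lam j) ≫ (AlgSp.yon S).map (pullback.snd σ (c j)))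
        (γ ≫ (AlgSp.yon S).map σ) ((AlgSp.yon S).map (c j)) := by
      rw [hγσ, ← Functor.map_comp, pullback.lift_snd]
      exact hV j
    refine IsPullback.of_bot big ?_ bot
    rw [hvγ, ← Functor.map_comp, pullback.lift_fst]
  -- `γ` is an open immersion
  have hloc := (Groth.Agent.R2.H83.IsoFpqc.isLocalOnBase_fpqc_repWith_isOpenImmersion S)
    (fun j : ULift.{u} (Fin m) => (AlgSp.yon S).obj (Qj j.down))
    (fun j => (AlgSp.yon S).map (cj j.down))
    (AlgSp.IsAlgSpace.yon_obj Q) (fun j => AlgSp.IsAlgSpace.yon_obj _) hcov γ hX'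
    (fun j => (AlgSp.yon S).obj (V j.down)) (fun j => (AlgSp.yon S).map (lam j.down))
    (fun j => v j.down) (fun j => AlgSp.IsAlgSpace.yon_obj _) (fun j => hsqj j.down)
  have hγoi : AlgSp.RepWith @IsOpenImmersion γ :=
    hloc.2 (fun j => (AlgSp.repWith_yon_map_iff @IsOpenImmersion _).2 (hlam j.down))
  -- conclusion
  obtain ⟨O, o, fstO, sqO⟩ := hγoi.1 (𝟙 _)
  haveI hoi : IsOpenImmersion o.left := hγoi.2 _ _ _ sqO
  haveI : IsIso fstO := sqO.isIso_fst_of_isIso
  refine ⟨O, o ≫ σ, (asIso fstO).symm, ?_, ?_⟩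
  · rw [Iso.symm_hom, asIso_inv, IsIso.inv_comp_eq, Functor.map_comp, ← hγσ, ← Category.assoc,
      sqO.w, Category.comp_id]
  · haveI : CompactSpace ↥U.left := inferInstance
    haveI : CompactSpace ↥O.left := compactSpace_left_of_iso u
      (Groth.Agent.S9906.surjective_map_of_repWith u hus) (asIso fstO).symm
    exact Scheme.IsQuasiAffine.of_isImmersion o.left

/-- quasi-affine morphisms of algebraic spaces are fpqc local on the base. -/
theorem isLocalOnBase_fpqc_isQuasiAffineMor (hQ : QAffQuotStmt.{u}) (S : Scheme.{u}) :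
    AlgSp.IsLocalOnBase (AlgSp.IsFpqcCover (S := S)) AlgSp.IsQuasiAffineMor := by
  intro ι Y Yi g hY hYi hcov X f hX Xi p q hXi sq
  constructor
  · intro hf i Z hZ l
    obtain ⟨W, w, fst, sqW, hW⟩ := hf hZ (l ≫ g i)
    have hw : fst ≫ f = ((AlgSp.yon S).map w ≫ l) ≫ g i := by
      rw [Category.assoc]
      exact sqW.w
    refine ⟨W, w, (sq i).lift fst ((AlgSp.yon S).map w ≫ l) hw, ?_, hW⟩
    refine IsPullback.of_right ?_ ((sq i).lift_snd _ _ _) (sq i)
    rw [(sq i).lift_fst]
    exact sqW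
  · intro H Z hZ y
    haveI : IsAffine Z.left := hZ
    have hX' : AlgSp.IsAlgSpace (pullback f y) :=
      Groth.Agent.S9874.isAlgSpace_of_isPullback hY.diag hX (AlgSp.IsAlgSpace.yon_obj Z)
        (IsPullback.of_hasPullback f y)
    obtain ⟨m, W, c, hWa, hfl, hsurj, hl⟩ := hcov.2 Z hZ y
    choose i_ l hl using hl
    choose V β fstV hVsq hVa using fun j => H (i_ j) (hWa j) (l j)
    have big1 : ∀ j, IsPullback (fstV j ≫ q (i_ j)) ((AlgSp.yon S).map (β j)) f
        ((AlgSp.yon S).map (c j) ≫ y) := fun j => by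
      rw [← hl j]
      exact (hVsq j).paste_horiz (sq (i_ j))
    choose v hv hV using fun j => exists_lift_isPullback f y (big1 j)
    obtain ⟨O, i, e, he, hO⟩ :=
      exists_quasiAffine_rep hQ hX' (pullback.snd f y) W c hWa hfl hsurj V hVa β v hV
    refine ⟨O, i, e.inv ≫ pullback.fst f y, ?_, hO⟩
    refine IsPullback.of_iso (IsPullback.of_hasPullback f y) e (Iso.refl _) (Iso.refl _)
      (Iso.refl _) ?_ ?_ ?_ ?_
    · simp
    · simp [he]
    · simp
    · simp

end Groth.Agent.R2.H83.QAffDesc
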