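import Mathlib
import Groth.Agent.R2.H83FlatOnePlus
import Groth.Agent.R2.H83AffDesc
import Groth.Agent.R2.H83QAffDesc
import Groth.Agent.S10194
import Groth.Agent.S9922
import Groth.Agent.S10175
import Groth.Agent.S10176
import Groth.Agent.S10177
import Groth.Agent.S9947
import Groth.Agent.S10505
import Groth.Agent.S10506
import Groth.Agent.S10507
import Groth.Agent.S10532

/-!
# An fpqc covering refining an open subspace and a modification flat along the closed complement
(helper83)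

Setting: `f : Y ⟶ X` quasi-compact, `i : Z ⟶ X` a closed immersion of finite presentation with
`f⁻¹ Z ≅ Z`, `f` flat at the points of `f⁻¹ Z`, `U` the open complement.  Then `{U ⟶ X, Y ⟶ X}` is
refined by an fpqc covering of `X` (S10704), and a morphism over `X` which becomes an isomorphism
over `U` and over `Y` is an isomorphism (S10705).
-/

set_option autoImplicit false
set_option linter.style.haveILetI false
set_option backward.isDefEq.respectTransparency.types false
universe u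
open CategoryTheory CategoryTheory.Limits AlgebraicGeometry Opposite

namespace Groth.Agent.R2.H83.FpqcRefine

open AlgSp Groth.Agent.R2.H83.FlatOnePlus

variable {S : Scheme.{u}}

/-- the image of a closed immersion of finite presentation into an affine scheme is cut out by
finitely many functions. -/
theorem exists_fin_range_eq_zeroLocus {A : CommRingCat.{u}} {Z' : Scheme.{u}} (ζ : Z' ⟶ Spec A)
    [IsClosedImmersion ζ] [LocallyOfFinitePresentation ζ] :
    ∃ (n : ℕ) (g : Fin n → A), Set.range ζ = PrimeSpectrum.zeroLocus (Set.range g) := by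
  obtain ⟨I, e, he⟩ := IsClosedImmersion.Spec_iff.1 ‹IsClosedImmersion ζ›
  have hfp : LocallyOfFinitePresentation (Spec.map (CommRingCat.ofHom (Ideal.Quotient.mk I))) := by
    have : LocallyOfFinitePresentation
        (e.hom ≫ Spec.map (CommRingCat.ofHom (Ideal.Quotient.mk I))) := by
      rw [← he]; infer_instance
    exact (MorphismProperty.cancel_left_of_respectsIso @LocallyOfFinitePresentation e.hom _).1 this
  have hfp' : (Ideal.Quotient.mk I).FinitePresentation :=
    (HasRingHomProperty.Spec_iff (P := @LocallyOfFinitePresentation)).1 hfp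
  have hI : I.FG := by
    letI := (Ideal.Quotient.mk I).toAlgebra
    haveI : Algebra.FinitePresentation A (A ⧸ I) := hfp'
    have := Algebra.FinitePresentation.ker_fG_of_surjective (Algebra.ofId A (A ⧸ I))
      Ideal.Quotient.mk_surjective
    have hk : RingHom.ker (Algebra.ofId A (A ⧸ I)).toRingHom = I := Ideal.mk_ker
    rwa [hk] at this
  obtain ⟨n, g, hg⟩ := Submodule.fg_iff_exists_fin_generating_family.1 hI
  refine ⟨n, g, ?_⟩
  have h1 : Set.range ζ = Set.range (Spec.map (CommRingCat.ofHom (Ideal.Quotient.mk I))) := by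
    rw [he]
    ext x
    constructor
    · rintro ⟨z, rfl⟩
      exact ⟨e.hom z, rfl⟩
    · rintro ⟨z, rfl⟩
      refine ⟨e.inv z, ?_⟩
      rw [Scheme.Hom.comp_apply, ← Scheme.Hom.comp_apply e.inv e.hom, e.inv_hom_id]
      rfl
  rw [h1]
  have h2 : Set.range (Spec.map (CommRingCat.ofHom (Ideal.Quotient.mk I))) =
      PrimeSpectrum.zeroLocus (I : Set A) := by
    have := range_comap_of_surjective _ (Ideal.Quotient.mk I) Ideal.Quotient.mk_surjective
    rw [Ideal.mk_ker] at this
    exact this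
  rw [h2, ← hg, PrimeSpectrum.zeroLocus_span]

/-- a finite family of flat morphisms from affine schemes, jointly surjective onto an affine
scheme, gives an fpqc covering of the representable sheaf. -/
lemma isFpqcCover_yon_of_finite {Q : Over S} [IsAffine Q.left] {κ : Type u} [Finite κ]
    (Qj : κ → Over S) (cj : ∀ j, Qj j ⟶ Q) (hQa : ∀ j, IsAffine (Qj j).left)
    (hfl : ∀ j, Flat (cj j).left) (hsurj : ∀ z : ↥Q.left, ∃ j, z ∈ Set.range (cj j).left) :
    AlgSp.IsFpqcCover (fun j : κ => (AlgSp.yon S).obj (Qj j))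
      (fun j => (AlgSp.yon S).map (cj j)) := by
  obtain ⟨m, ⟨e⟩⟩ := Finite.exists_equiv_fin κ
  refine ⟨fun j => Groth.Agent.Lib.Helper15LocEss.locP_yon_map_of_flat _ (hfl j),
    fun T hT h => ?_⟩
  haveI : IsAffine T.left := hT
  obtain ⟨t, rfl⟩ := (AlgSp.yon S).map_surjective h
  refine ⟨m, fun j => pullback t (cj (e.symm j)), fun j => pullback.fst t (cj (e.symm j)),
    fun j => ?_, fun j => ?_, fun z => ?_,
    fun j => ⟨e.symm j, (AlgSp.yon S).map (pullback.snd t (cj (e.symm j))), ?_⟩⟩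
  · haveI := hQa (e.symm j)
    exact Groth.Agent.R2.H83.AffDesc.isAffine_left_of_isPullback
      (IsPullback.of_hasPullback t (cj (e.symm j)))
  · exact MorphismProperty.of_isPullback (P := @Flat)
      ((IsPullback.of_hasPullback t (cj (e.symm j))).map (Over.forget S)).flip (hfl (e.symm j))
  · obtain ⟨j, w, hw⟩ := hsurj (t.left z)
    obtain ⟨j', rfl⟩ := e.symm.surjective j
    obtain ⟨a, ha, -⟩ := Groth.Agent.Lib.Helper12.exists_preimage_of_isPullback
      ((IsPullback.of_hasPullback t (cj (e.symm j'))).map (Over.forget S)) z w hw.symm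
    exact ⟨j', a, ha⟩
  · rw [← Functor.map_comp, ← Functor.map_comp, pullback.condition]

/-- On an affine étale chart of `X`, the preimage of a closed subspace of finite presentation is
cut out by finitely many functions. -/
theorem exists_fin_zeroLocus_of_chart {X Z : AlgSp.Space S} (i : Z ⟶ X)
    (hi : AlgSp.RepWith @IsClosedImmersion i.hom)
    (hifp : AlgSp.LocP @LocallyOfFinitePresentation i.hom)
    {A : CommRingCat.{u}} (sA : Spec A ⟶ S) (b : (AlgSp.yon S).obj (Over.mk sA) ⟶ X.obj)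
    (hb : AlgSp.RepWith @Etale b) :
    ∃ (n : ℕ) (g : Fin n → A), ∀ p : Spec A,
      AlgSp.Points.ofPt b p ∈ Set.range (AlgSp.Points.map i.hom) ↔
        p ∈ PrimeSpectrum.zeroLocus (Set.range g) := by
  obtain ⟨ZA, ζ, prZ, sqZ⟩ := hi.1 b
  haveI : IsClosedImmersion ζ.left := hi.2 b prZ ζ sqZ
  have hprZ : AlgSp.RepWith @Etale prZ :=
    MorphismProperty.of_isPullback (P := AlgSp.RepWith @Etale) sqZ.flip hb
  haveI : LocallyOfFinitePresentation ζ.left := hifp prZ b ζ hprZ hb sqZ.w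
  obtain ⟨n, g, hg⟩ := exists_fin_range_eq_zeroLocus (A := A) ζ.left
  refine ⟨n, g, fun p => ?_⟩
  rw [← hg]
  constructor
  · rintro ⟨z, hz⟩
    obtain ⟨q, hq1, hq2⟩ := Groth.Agent.S10175.exists_point_of_isPullback sqZ z
      (AlgSp.Points.schemeHomeo (Over.mk sA) p)
      (hz.trans (AlgSp.Points.ofPt_eq_map_ofScheme b p))
    obtain ⟨z', rfl⟩ := (AlgSp.Points.schemeHomeo ZA).surjective q
    refine ⟨z', ?_⟩
    apply (AlgSp.Points.schemeHomeo (Over.mk sA)).injective
    rw [← AlgSp.Points.map_yon_map_apply]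
    exact hq2
  · rintro ⟨z', rfl⟩
    refine ⟨AlgSp.Points.ofPt prZ z', ?_⟩
    rw [AlgSp.Points.map_ofPt, sqZ.w, Groth.Agent.S10176.ofPt_map_comp]

/-- An affine étale chart of `Y` over an affine étale chart of `X`, surjective onto the fibre
product, for a quasi-compact morphism `f : Y ⟶ X`. -/
theorem exists_chart_over_chart {X Y : AlgSp.Space S} (f : Y ⟶ X)
    (hqc : AlgSp.IsQuasiCompactMor f.hom)
    {A : CommRingCat.{u}} (sA : Spec A ⟶ S) (b : (AlgSp.yon S).obj (Over.mk sA) ⟶ X.obj)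
    (hb : AlgSp.RepWith @Etale b) :
    ∃ (B : CommRingCat.{u}) (sB : Spec B ⟶ S) (cY : (AlgSp.yon S).obj (Over.mk sB) ⟶ Y.obj)
      (γ : Over.mk sB ⟶ Over.mk sA), AlgSp.RepWith @Etale cY ∧
        cY ≫ f.hom = (AlgSp.yon S).map γ ≫ b ∧
        ∀ (y : AlgSp.Points Y.obj) (p : Spec A), AlgSp.Points.map f.hom y = AlgSp.Points.ofPt b p →
          ∃ m : Spec B, AlgSp.Points.ofPt cY m = y ∧ γ.left m = p := by
  have hTAq : AlgSp.IsQuasiCompactSp ((AlgSp.yon S).obj (Over.mk sA)) :=
    ⟨Over.mk sA, 𝟙 _, AlgSp.repWith_id _ _, AlgSp.repWith_id _ _,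
      (inferInstance : CompactSpace (Spec A))⟩
  have hYA := hqc (AlgSp.IsAlgSpace.yon_obj (Over.mk sA)) hTAq b (pullback.fst f.hom b)
    (pullback.snd f.hom b) (IsPullback.of_hasPullback f.hom b)
  obtain ⟨V, p, hpe, hps, hV⟩ := Groth.Agent.R2.H83.AffDesc.exists_affine_chart hYA
  haveI := hV
  let sB : Spec Γ(V.left, ⊤) ⟶ S := V.left.isoSpec.inv ≫ V.hom
  let ε : Over.mk sB ⟶ V := Over.homMk V.left.isoSpec.inv rfl
  have hεe : AlgSp.RepWith @Etale ((AlgSp.yon S).map ε) :=
    (AlgSp.repWith_yon_map_iff @Etale ε).2 (inferInstanceAs (Etale V.left.isoSpec.inv))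
  have hεs : AlgSp.RepWith @Surjective ((AlgSp.yon S).map ε) :=
    (AlgSp.repWith_yon_map_iff @Surjective ε).2 (inferInstanceAs (Surjective V.left.isoSpec.inv))
  have hp'e : AlgSp.RepWith @Etale ((AlgSp.yon S).map ε ≫ p) :=
    MorphismProperty.comp_mem _ _ _ hεe hpe
  have hp's : AlgSp.RepWith @Surjective ((AlgSp.yon S).map ε ≫ p) :=
    MorphismProperty.comp_mem _ _ _ hεs hps
  have hfst : AlgSp.RepWith @Etale (pullback.fst f.hom b) :=
    MorphismProperty.of_isPullback (P := AlgSp.RepWith @Etale)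
      (IsPullback.of_hasPullback f.hom b).flip hb
  obtain ⟨γ, hγ⟩ := (AlgSp.yon S).map_surjective
    (((AlgSp.yon S).map ε ≫ p) ≫ pullback.snd f.hom b)
  refine ⟨Γ(V.left, ⊤), sB, ((AlgSp.yon S).map ε ≫ p) ≫ pullback.fst f.hom b, γ,
    MorphismProperty.comp_mem _ _ _ hp'e hfst, ?_, fun y q hyq => ?_⟩
  · rw [hγ, Category.assoc, Category.assoc, pullback.condition]
    simp only [Category.assoc]
  · obtain ⟨ya, h1, h2⟩ := Groth.Agent.S10175.exists_point_of_isPullback
      (IsPullback.of_hasPullback f.hom b) y (AlgSp.Points.schemeHomeo (Over.mk sA) q)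
      (hyq.trans (AlgSp.Points.ofPt_eq_map_ofScheme b q))
    obtain ⟨m, hm⟩ := Groth.Agent.S10177.surjective_ofPt _ hp's ya
    refine ⟨m, ?_, ?_⟩
    · rw [← AlgSp.Points.map_ofPt, hm, h1]
    · apply (AlgSp.Points.schemeHomeo (Over.mk sA)).injective
      rw [← AlgSp.Points.map_yon_map_apply, hγ, AlgSp.Points.map_comp]
      have : AlgSp.Points.map ((AlgSp.yon S).map ε ≫ p)
          (AlgSp.Points.schemeHomeo (Over.mk sB) m) = ya := by
        rw [← hm, AlgSp.Points.ofPt_eq_map_ofScheme]; rfl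
      rw [this, h2]

/-- a prime contains the vanishing ideal of a closed set iff it lies in the set. -/
lemma vanishingIdeal_le_asIdeal_iff {R : Type*} [CommRing R] {Zc : Set (PrimeSpectrum R)}
    (hZc : IsClosed Zc) (m : PrimeSpectrum R) :
    PrimeSpectrum.vanishingIdeal Zc ≤ m.asIdeal ↔ m ∈ Zc := by
  have h := PrimeSpectrum.zeroLocus_vanishingIdeal_eq_closure Zc
  rw [hZc.closure_eq] at h
  constructor
  · intro hm
    rw [← h]
    exact (PrimeSpectrum.mem_zeroLocus m _).2 hm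
  · intro hm
    rw [← h] at hm
    exact (PrimeSpectrum.mem_zeroLocus m _).1 hm

/-- Over an affine étale chart `Spec A` of `X`: a finite affine flat covering of `Spec A` each of
whose members factors through `U` or through `Y`. -/
theorem exists_standard_cover_of_chart {X Y Z FZ U : AlgSp.Space S} (f : Y ⟶ X)
    (hqc : AlgSp.IsQuasiCompactMor f.hom) (i : Z ⟶ X)
    (hi : AlgSp.RepWith @IsClosedImmersion i.hom)
    (hifp : AlgSp.LocP @LocallyOfFinitePresentation i.hom)
    (iY : FZ ⟶ Y) (fZ : FZ ⟶ Z) (hFZ : IsPullback iY.hom fZ.hom f.hom i.hom) [IsIso fZ]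
    (hflat : ∀ y ∈ Set.range (AlgSp.Points.map iY.hom), AlgSp.IsFlatAtMor f.hom y) (j : U ⟶ X)
    (hj : AlgSp.RepWith @IsOpenImmersion j.hom)
    (hU : Set.range (AlgSp.Points.map j.hom) = (Set.range (AlgSp.Points.map i.hom))ᶜ)
    {A : CommRingCat.{u}} (sA : Spec A ⟶ S) (b : (AlgSp.yon S).obj (Over.mk sA) ⟶ X.obj)
    (hb : AlgSp.RepWith @Etale b) :
    ∃ (n : ℕ) (Q : Option (ULift.{u} (Fin n)) → Over S) (c : ∀ k, Q k ⟶ Over.mk sA),
      (∀ k, IsAffine (Q k).left) ∧ (∀ k, Flat (c k).left) ∧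
      (∀ z : Spec A, ∃ k, z ∈ Set.range (c k).left) ∧
      ∀ k, (∃ l : (AlgSp.yon S).obj (Q k) ⟶ U.obj, l ≫ j.hom = (AlgSp.yon S).map (c k) ≫ b) ∨
        (∃ l : (AlgSp.yon S).obj (Q k) ⟶ Y.obj, l ≫ f.hom = (AlgSp.yon S).map (c k) ≫ b) := by
  obtain ⟨n, g, hg⟩ := exists_fin_zeroLocus_of_chart i hi hifp sA b hb
  obtain ⟨B, sB, cY, γ, hcY, hcomm, hsurj⟩ := exists_chart_over_chart f hqc sA b hb
  -- the closed subset of `Spec B` over `Z` and its ideal
  have hicl : AlgSp.RepWith @UniversallyClosed i.hom :=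
    ⟨hi.1, fun T W g pr w sq => by
      haveI : IsClosedImmersion w.left := hi.2 g pr w sq
      change UniversallyClosed w.left
      infer_instance⟩
  have hcl : IsClosed (Set.range (AlgSp.Points.map i.hom)) :=
    (Groth.Agent.S9922.isClosedMap_map_of_repWith i.hom hicl).isClosed_range
  let Zc : Set (PrimeSpectrum B) :=
    AlgSp.Points.ofPt (cY ≫ f.hom) ⁻¹' Set.range (AlgSp.Points.map i.hom)
  have hZc : IsClosed Zc := hcl.preimage (AlgSp.Points.continuous_ofPt (cY ≫ f.hom))
  let J : Ideal B := PrimeSpectrum.vanishingIdeal Zc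
  have hJ : ∀ m : PrimeSpectrum B, J ≤ m.asIdeal ↔ m ∈ Zc :=
    fun m => vanishingIdeal_le_asIdeal_iff hZc m
  let φ : A ⟶ B := Spec.preimage γ.left
  have hφ : Spec.map φ = γ.left := Spec.map_preimage _
  -- flatness along `V(J)`
  have hfl : ∀ m : Spec B, J ≤ m.asIdeal → ((Spec.map φ).stalkMap m).hom.Flat := by
    intro m hm
    obtain ⟨z, hz⟩ := (hJ m).1 hm
    have hy : AlgSp.Points.ofPt cY m ∈ Set.range (AlgSp.Points.map iY.hom) := by
      obtain ⟨w, hw1, -⟩ := Groth.Agent.S10175.exists_point_of_isPullback hFZ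
        (AlgSp.Points.ofPt cY m) z (by rw [AlgSp.Points.map_ofPt]; exact hz.symm)
      exact ⟨w, hw1⟩
    have := hflat _ hy cY b γ m hcY hb hcomm rfl
    rw [hφ]
    exact this
  have hfZ : Function.Surjective (AlgSp.Points.map fZ.hom) := by
    haveI : IsIso fZ.hom := inferInstanceAs (IsIso ((ObjectProperty.ι _).map fZ))
    intro ζ0
    refine ⟨AlgSp.Points.map (inv fZ.hom) ζ0, ?_⟩
    rw [← AlgSp.Points.map_comp, IsIso.inv_hom_id, AlgSp.Points.map_id]
  let ρ : Spec (CommRingCat.of (Localization (onePlus J))) ⟶ Spec B :=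
    Spec.map (CommRingCat.ofHom (algebraMap B (Localization (onePlus J))))
  let σ : ∀ k : Fin n, Spec (CommRingCat.of (Localization.Away (g k))) ⟶ Spec A := fun k =>
    Spec.map (CommRingCat.ofHom (algebraMap A (Localization.Away (g k))))
  have hρ : (ρ ≫ γ.left) ≫ sA = ρ ≫ sB := by
    rw [Category.assoc]
    congr 1
    exact Over.w γ
  have hσrange : ∀ (k : Fin n) (t : Spec (CommRingCat.of (Localization.Away (g k)))),
      g k ∉ (σ k t).asIdeal := by
    intro k t
    have h1 : σ k t ∈ Set.range (PrimeSpectrum.comap (algebraMap A (Localization.Away (g k)))) :=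
      ⟨t, rfl⟩
    rw [PrimeSpectrum.localization_away_comap_range (Localization.Away (g k)) (g k)] at h1
    exact (PrimeSpectrum.mem_basicOpen _ _).1 h1
  refine ⟨n, fun k => match k with
      | none => Over.mk (ρ ≫ sB)
      | some k => Over.mk (σ k.down ≫ sA),
    fun k => match k with
      | none => Over.homMk (ρ ≫ γ.left) hρ
      | some k => Over.homMk (σ k.down) rfl, ?_, ?_, ?_, ?_⟩
  · rintro (_ | k)
    · exact (inferInstance : IsAffine (Spec _))
    · exact (inferInstance : IsAffine (Spec _))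
  · rintro (_ | k)
    · change Flat (ρ ≫ γ.left)
      rw [← hφ]
      exact flat_SpecMap_onePlus φ J hfl
    · change Flat (σ k.down)
      infer_instance
  · intro z
    by_cases hz : z ∈ PrimeSpectrum.zeroLocus (Set.range g)
    · obtain ⟨ζ0, hζ0⟩ := (hg z).2 hz
      obtain ⟨w, hw⟩ := hfZ ζ0
      have hy : AlgSp.Points.map f.hom (AlgSp.Points.map iY.hom w) = AlgSp.Points.ofPt b z := by
        rw [← AlgSp.Points.map_comp, hFZ.w, AlgSp.Points.map_comp, hw, hζ0]
      obtain ⟨m, hm1, hm2⟩ := hsurj _ z hy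
      have hmZ : m ∈ Zc := by
        change AlgSp.Points.ofPt (cY ≫ f.hom) m ∈ Set.range (AlgSp.Points.map i.hom)
        rw [← AlgSp.Points.map_ofPt, hm1, hy]
        exact ⟨ζ0, hζ0⟩
      obtain ⟨m', hm'⟩ := mem_range_SpecMap_onePlus J m ((hJ m).2 hmZ)
      refine ⟨none, m', ?_⟩
      change (ρ ≫ γ.left) m' = z
      rw [Scheme.Hom.comp_apply]
      change γ.left (ρ m') = z
      rw [show ρ m' = m from hm', hm2]
    · have hz' : ¬ (Set.range g ⊆ ((z : PrimeSpectrum A).asIdeal : Set A)) := fun h =>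
        hz ((PrimeSpectrum.mem_zeroLocus (z : PrimeSpectrum A) _).2 h)
      rw [Set.range_subset_iff] at hz'
      push Not at hz'
      obtain ⟨k, hk⟩ := hz'
      have h1 : z ∈ Set.range (PrimeSpectrum.comap (algebraMap A (Localization.Away (g k)))) := by
        rw [PrimeSpectrum.localization_away_comap_range (Localization.Away (g k)) (g k)]
        exact (PrimeSpectrum.mem_basicOpen _ _).2 hk
      obtain ⟨t, ht⟩ := h1
      exact ⟨some ⟨k⟩, t, ht⟩
  · rintro (_ | k)
    · right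
      refine ⟨(AlgSp.yon S).map (Over.homMk ρ rfl : Over.mk (ρ ≫ sB) ⟶ Over.mk sB) ≫ cY, ?_⟩
      rw [Category.assoc, hcomm, ← Category.assoc, ← Functor.map_comp]
      congr 2
    · left
      refine (Groth.Agent.S10194.exists_factor_iff j.hom hj _).2 ?_
      rintro _ ⟨q, rfl⟩
      obtain ⟨t, rfl⟩ := (AlgSp.Points.schemeHomeo _).surjective q
      rw [hU, Set.mem_compl_iff]
      intro hmem
      have e := Groth.Agent.S10176.ofPt_map_comp (Over.homMk (σ k.down) rfl :
          Over.mk (σ k.down ≫ sA) ⟶ Over.mk sA) b t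
      have h2 : AlgSp.Points.ofPt b (σ k.down t) ∈ Set.range (AlgSp.Points.map i.hom) := by
        have e' : AlgSp.Points.ofPt b (σ k.down t) = _ := e.symm
        rw [e', AlgSp.Points.ofPt_eq_map_ofScheme]
        exact hmem
      have h3 := (PrimeSpectrum.mem_zeroLocus (σ k.down t : PrimeSpectrum A) _).1 ((hg _).1 h2)
      rw [Set.range_subset_iff] at h3
      exact hσrange k.down t (h3 k.down)

/-- S10704: an fpqc covering of `X` refining `{U ⟶ X, Y ⟶ X}`. -/
theorem exists_fpqc_refinement {X Y Z FZ U : AlgSp.Space S} (f : Y ⟶ X)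
    (hqc : AlgSp.IsQuasiCompactMor f.hom) (i : Z ⟶ X)
    (hi : AlgSp.RepWith @IsClosedImmersion i.hom)
    (hifp : AlgSp.LocP @LocallyOfFinitePresentation i.hom)
    (iY : FZ ⟶ Y) (fZ : FZ ⟶ Z) (hFZ : IsPullback iY.hom fZ.hom f.hom i.hom) [IsIso fZ]
    (hflat : ∀ y ∈ Set.range (AlgSp.Points.map iY.hom), AlgSp.IsFlatAtMor f.hom y) (j : U ⟶ X)
    (hj : AlgSp.RepWith @IsOpenImmersion j.hom)
    (hU : Set.range (AlgSp.Points.map j.hom) = (Set.range (AlgSp.Points.map i.hom))ᶜ) :
    ∃ (ι : Type u) (W : ι → AlgSp.Space S) (w : ∀ k, W k ⟶ X),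
      AlgSp.IsFpqcCover (fun k => (W k).obj) (fun k => (w k).hom) ∧
        ∀ k, (∃ l : W k ⟶ U, l ≫ j = w k) ∨ (∃ l : W k ⟶ Y, l ≫ f = w k) := by
  obtain ⟨X₀, p₀, hp₀, hp₀s⟩ := X.property.atlas
  let sA : ∀ a : X₀.left.affineOpens, Spec Γ(X₀.left, a.1) ⟶ S := fun a =>
    a.2.fromSpec ≫ X₀.hom
  let ia : ∀ a : X₀.left.affineOpens, Over.mk (sA a) ⟶ X₀ := fun a =>
    Over.homMk a.2.fromSpec rfl
  let b : ∀ a : X₀.left.affineOpens, (AlgSp.yon S).obj (Over.mk (sA a)) ⟶ X.obj := fun a =>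
    (AlgSp.yon S).map (ia a) ≫ p₀
  have hb : ∀ a, AlgSp.RepWith @Etale (b a) := fun a =>
    MorphismProperty.comp_mem _ _ _
      ((AlgSp.repWith_yon_map_iff @Etale (ia a)).2 (inferInstanceAs (Etale a.2.fromSpec))) hp₀
  have key := fun a => exists_standard_cover_of_chart f hqc i hi hifp iY fZ hFZ hflat j hj hU
    (sA a) (b a) (hb a)
  choose n Q c hQa hcf hcs hfac using key
  let Xi : X₀.left.affineOpens → AlgSp.Space S := fun a =>
    (AlgSp.ofScheme S).obj (Over.mk (sA a))
  let gX : ∀ a, Xi a ⟶ X := fun a => ObjectProperty.homMk (b a)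
  let Xij : ∀ a : X₀.left.affineOpens, Option (ULift.{u} (Fin (n a))) → AlgSp.Space S :=
    fun a k => (AlgSp.ofScheme S).obj (Q a k)
  let gij : ∀ (a : X₀.left.affineOpens) (k : Option (ULift.{u} (Fin (n a)))), Xij a k ⟶ Xi a :=
    fun a k => (AlgSp.ofScheme S).map (c a k)
  have h1 : AlgSp.IsFpqcCover (fun a => (Xi a).obj) (fun a => (gX a).hom) := by
    refine Groth.Agent.S10505.result X Xi gX ⟨fun a => ⟨?_, ?_⟩, fun x => ?_⟩
    · exact Groth.Agent.S9947.locP_of_repWith_etale @Flat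
        (fun g hg => by haveI := hg; infer_instance) (b a) (hb a)
    · exact Groth.Agent.S9947.locP_of_repWith_etale @LocallyOfFinitePresentation
        (fun g hg => by haveI := hg; infer_instance) (b a) (hb a)
    · obtain ⟨x₀, rfl⟩ := Groth.Agent.S10177.surjective_ofPt p₀ hp₀s x
      obtain ⟨W, hW, hxW, -⟩ := exists_isAffineOpen_mem_and_subset (x := x₀)
        (U := (⊤ : X₀.left.Opens)) trivial
      have hx' : x₀ ∈ Set.range hW.fromSpec := by rw [hW.range_fromSpec]; exact hxW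
      obtain ⟨t, rfl⟩ := hx'
      refine ⟨⟨W, hW⟩, AlgSp.Points.schemeHomeo _ t, ?_⟩
      have e := Groth.Agent.S10176.ofPt_map_comp (ia ⟨W, hW⟩) p₀ t
      rw [AlgSp.Points.ofPt_eq_map_ofScheme] at e
      exact e
  have h2 : ∀ a, AlgSp.IsFpqcCover (fun k => (Xij a k).obj) (fun k => (gij a k).hom) := fun a => by
    haveI : IsAffine (Over.mk (sA a)).left := (inferInstance : IsAffine (Spec _))
    exact isFpqcCover_yon_of_finite (Q := Over.mk (sA a)) (Q a) (c a) (hQa a) (hcf a) (hcs a)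
  have h3 := Groth.Agent.S10507.result X Xi gX (fun a => Option (ULift.{u} (Fin (n a)))) Xij gij
    h1 h2
  refine ⟨Σ a : X₀.left.affineOpens, Option (ULift.{u} (Fin (n a))), fun r => Xij r.1 r.2,
    fun r => gij r.1 r.2 ≫ gX r.1, h3, ?_⟩
  rintro ⟨a, k⟩
  rcases hfac a k with ⟨l, hl⟩ | ⟨l, hl⟩
  · left
    exact ⟨ObjectProperty.homMk l, (ObjectProperty.ι _).map_injective hl⟩
  · right
    exact ⟨ObjectProperty.homMk l, (ObjectProperty.ι _).map_injective hl⟩

/-- if `a` becomes an isomorphism after base change along `qQ`, it does so after base change along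
every morphism factoring through `qQ`. -/
lemma isIso_snd_of_factor {C : Type*} [Category* C] [HasPullbacks C] {X₁ X₂ Q Q₁ T : C}
    (a : X₁ ⟶ X₂) (qQ : Q ⟶ X₂) (aQ : Q₁ ⟶ Q) (bQ : Q₁ ⟶ X₁) (h : IsPullback bQ aQ a qQ)
    [IsIso aQ] (t : T ⟶ X₂) (m : T ⟶ Q) (hm : m ≫ qQ = t) : IsIso (pullback.snd a t) := by
  subst hm
  have s := IsPullback.of_hasPullback a (m ≫ qQ)
  exact (IsPullback.of_right' s h).isIso_snd_of_isIso

/-- S10705: a morphism over `X` which is an isomorphism over `U` and over `Y` is an isomorphism. -/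
theorem isIso_of_isIso_baseChange {X Y Z FZ U : AlgSp.Space S} (f : Y ⟶ X)
    (hqc : AlgSp.IsQuasiCompactMor f.hom) (i : Z ⟶ X)
    (hi : AlgSp.RepWith @IsClosedImmersion i.hom)
    (hifp : AlgSp.LocP @LocallyOfFinitePresentation i.hom)
    (iY : FZ ⟶ Y) (fZ : FZ ⟶ Z) (hFZ : IsPullback iY.hom fZ.hom f.hom i.hom) [IsIso fZ]
    (hflat : ∀ y ∈ Set.range (AlgSp.Points.map iY.hom), AlgSp.IsFlatAtMor f.hom y) (j : U ⟶ X)
    (hj : AlgSp.RepWith @IsOpenImmersion j.hom)
    (hU : Set.range (AlgSp.Points.map j.hom) = (Set.range (AlgSp.Points.map i.hom))ᶜ)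
    {X₁ X₂ QU QU₁ QY QY₁ : AlgSp.Space S} (p₂ : X₂ ⟶ X) (a : X₁ ⟶ X₂)
    (qU : QU ⟶ X₂) (rU : QU ⟶ U) (hQU : IsPullback qU.hom rU.hom p₂.hom j.hom) (aU : QU₁ ⟶ QU)
    (bU : QU₁ ⟶ X₁) (hQU₁ : IsPullback bU.hom aU.hom a.hom qU.hom) [IsIso aU] (qY : QY ⟶ X₂)
    (rY : QY ⟶ Y) (hQY : IsPullback qY.hom rY.hom p₂.hom f.hom) (aY : QY₁ ⟶ QY) (bY : QY₁ ⟶ X₁)
    (hQY₁ : IsPullback bY.hom aY.hom a.hom qY.hom) [IsIso aY] : IsIso a := by
  obtain ⟨ι, W, w, hcov, hfac⟩ := exists_fpqc_refinement f hqc i hi hifp iY fZ hFZ hflat j hj hU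
  haveI : IsIso aU.hom := inferInstanceAs (IsIso ((ObjectProperty.ι _).map aU))
  haveI : IsIso aY.hom := inferInstanceAs (IsIso ((ObjectProperty.ι _).map aY))
  -- base change of the covering to `X₂`
  let W₂ : ι → AlgSp.Space S := fun k =>
    ⟨pullback p₂.hom (w k).hom, Groth.Agent.S9874.isAlgSpace_of_isPullback X.property.diag
      X₂.property (W k).property (IsPullback.of_hasPullback _ _)⟩
  let q : ∀ k, W₂ k ⟶ X₂ := fun k => ObjectProperty.homMk (pullback.fst p₂.hom (w k).hom)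
  let p : ∀ k, W₂ k ⟶ W k := fun k => ObjectProperty.homMk (pullback.snd p₂.hom (w k).hom)
  have hcov₂ : AlgSp.IsFpqcCover (fun k => (W₂ k).obj) (fun k => (q k).hom) :=
    Groth.Agent.S10506.result p₂ W w W₂ q p (fun k => IsPullback.of_hasPullback _ _) hcov
  -- the base changes of `a` to the members of the covering are isomorphisms
  have hiso : ∀ k, IsIso (pullback.snd a.hom (q k).hom) := by
    intro k
    rcases hfac k with ⟨l, hl⟩ | ⟨l, hl⟩
    · have hl' : l.hom ≫ j.hom = (w k).hom := congrArg InducedCategory.Hom.hom hl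
      have hw : (q k).hom ≫ p₂.hom = ((p k).hom ≫ l.hom) ≫ j.hom := by
        rw [Category.assoc, hl']
        exact pullback.condition
      exact isIso_snd_of_factor a.hom qU.hom aU.hom bU.hom hQU₁ (q k).hom
        (hQU.lift (q k).hom ((p k).hom ≫ l.hom) hw) (hQU.lift_fst _ _ _)
    · have hl' : l.hom ≫ f.hom = (w k).hom := congrArg InducedCategory.Hom.hom hl
      have hw : (q k).hom ≫ p₂.hom = ((p k).hom ≫ l.hom) ≫ f.hom := by
        rw [Category.assoc, hl']
        exact pullback.condition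
      exact isIso_snd_of_factor a.hom qY.hom aY.hom bY.hom hQY₁ (q k).hom
        (hQY.lift (q k).hom ((p k).hom ≫ l.hom) hw) (hQY.lift_fst _ _ _)
  have key := (Groth.Agent.S10532.result S) (fun k => (W₂ k).obj) (fun k => (q k).hom) X₂.property
    (fun k => (W₂ k).property) hcov₂ a.hom X₁.property (fun k => pullback a.hom (q k).hom)
    (fun k => pullback.snd a.hom (q k).hom) (fun k => pullback.fst a.hom (q k).hom)
    (fun k => Groth.Agent.S9874.isAlgSpace_of_isPullback X₂.property.diag X₁.property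
      (W₂ k).property (IsPullback.of_hasPullback _ _))
    (fun k => IsPullback.of_hasPullback _ _)
  haveI : IsIso a.hom := key.2 hiso
  haveI : IsIso ((ObjectProperty.ι (AlgSp.IsAlgSpace (S := S))).map a) := ‹IsIso a.hom›
  exact isIso_of_reflects_iso a (ObjectProperty.ι (AlgSp.IsAlgSpace (S := S)))

end Groth.Agent.R2.H83.FpqcRefine
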