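-- helper83: birational morphisms of decent algebraic spaces under étale base change (S10437):
-- the base change to `Spec O_{V,v}` for an étale chart `V` of the target, uniqueness of points of the
-- base change over generic points of the chart.
import Mathlib
import Groth.Agent.R2.H83Birational
import Groth.Agent.R2.H83FpqcRefine
import Groth.Agent.S10395
import Groth.Agent.S10175
import Groth.Agent.S10383
import Groth.Agent.S9874
import Groth.Agent.R2.H25DecentMor
import Groth.Agent.R2.H46FiniteSpec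
import Groth.Agent.Lib.Helper6StalkIso

set_option autoImplicit false
set_option backward.isDefEq.respectTransparency.types false
set_option linter.style.haveILetI false
universe u
open CategoryTheory CategoryTheory.Limits AlgebraicGeometry Topology TopologicalSpace
open AlgSp

namespace Groth.Agent.R2.H83.BirationalEt

open Groth.Agent.R2.H83.BirSch Groth.Agent.R2.H83.Birational

variable {S : Scheme.{u}}

/-- a point of an étale chart over a generic point has no proper generisations. -/
lemma eq_of_specializes_of_generic_chart {Y : AlgSp.Space S} (hY : AlgSp.IsDecent Y.obj)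
    {V : Over S} (b : (AlgSp.yon S).obj V ⟶ Y.obj) (hb : AlgSp.RepWith @Etale b) (v : ↥V.left)
    (hv : AlgSp.Points.ofPt b v ∈ genericPoints (AlgSp.Points Y.obj)) (v' : ↥V.left)
    (h : v' ⤳ v) : v' = v := by
  have hmax := Groth.Agent.R2.H46.GenPt.isMax_of_isGenericPoint Y hY b hb v _ hv rfl
  have h2 : v ⤳ v' := hmax h
  exact (h.antisymm h2).eq

/-- S10434 for an étale chart of the target. -/
theorem isIso_snd_specStalk_etale {X Y : AlgSp.Space S} (f : X ⟶ Y)
    (hX : AlgSp.IsDecent X.obj) (hY : AlgSp.IsDecent Y.obj)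
    (hf : W4stk3decentspacesp2.IsBirational f.hom) {V : Over S}
    (b : (AlgSp.yon S).obj V ⟶ Y.obj) (hb : AlgSp.RepWith @Etale b) (v : ↥V.left)
    (hv : AlgSp.Points.ofPt b v ∈ genericPoints (AlgSp.Points Y.obj)) {P : AlgSp.Sp S}
    (fst : P ⟶ X.obj)
    (snd : P ⟶ (AlgSp.yon S).obj (Over.mk (V.left.fromSpecStalk v ≫ V.hom)))
    (hP : IsPullback fst snd f.hom
      ((AlgSp.yon S).map (Over.homMk (V.left.fromSpecStalk v) rfl) ≫ b)) :
    IsIso snd := by
  obtain ⟨x, hx, hxv⟩ := hf.bijOn.surjOn hv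
  obtain ⟨U₀, V₀, a₀, b₀, g₀, u₀, ha₀, hb₀, comm₀, hu₀, hiso₀⟩ := hf.stalkIso x hx
  have hv₀ : AlgSp.Points.ofPt b₀ (g₀.left u₀) = AlgSp.Points.ofPt b v := by
    rw [← hxv, ← hu₀]
    exact (map_ofPt_of_comm f.hom a₀ b₀ g₀ comm₀ u₀).symm
  -- the open subscheme `V'` of `V` over `V₀`
  obtain ⟨V', ι, r', sq⟩ := hb₀.1 b
  obtain ⟨r, rfl⟩ := (AlgSp.yon S).map_surjective r'
  haveI : IsOpenImmersion ι.left := hb₀.2 b _ ι sq
  obtain ⟨v', hv'r, hv'ι⟩ := Groth.Agent.S10176.exists_point_of_isPullback_yon sq _ _ hv₀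
  -- `Spec O_{V,v} ⟶ V` factors through `V'`
  have hrange : Set.range (V.left.fromSpecStalk v) ⊆ Set.range ι.left := by
    rw [Scheme.range_fromSpecStalk]
    intro z hz
    have hz' : z ⤳ v := hz
    have hopen : IsOpen (Set.range ι.left) := ι.left.isOpenEmbedding.isOpen_range
    exact hz'.mem_open hopen ⟨v', hv'ι⟩
  let κ : Spec (V.left.presheaf.stalk v) ⟶ V'.left :=
    IsOpenImmersion.lift ι.left (V.left.fromSpecStalk v) hrange
  have hκ : κ ≫ ι.left = V.left.fromSpecStalk v := IsOpenImmersion.lift_fac _ _ _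
  let φ : Spec (V.left.presheaf.stalk v) ⟶ V₀.left := κ ≫ r.left
  set v₀ : ↥V₀.left := φ (IsLocalRing.closedPoint _) with hv₀def
  let m : Spec (V.left.presheaf.stalk v) ⟶ Spec (V₀.left.presheaf.stalk v₀) :=
    Spec.map (Scheme.stalkClosedPointTo φ)
  have hm : m ≫ V₀.left.fromSpecStalk v₀ = φ := Scheme.Spec_stalkClosedPointTo_fromSpecStalk φ
  let K : Over S := Over.mk (V.left.fromSpecStalk v ≫ V.hom)
  let K₀ : Over S := Over.mk (V₀.left.fromSpecStalk v₀ ≫ V₀.hom)
  let k : K ⟶ V := Over.homMk (V.left.fromSpecStalk v) rfl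
  let k₀ : K₀ ⟶ V₀ := Over.homMk (V₀.left.fromSpecStalk v₀) rfl
  let κO : K ⟶ V' := Over.homMk κ (by
    change κ ≫ V'.hom = V.left.fromSpecStalk v ≫ V.hom
    rw [← hκ, Category.assoc, Over.w ι])
  let mO : K ⟶ K₀ := Over.homMk m (by
    change m ≫ V₀.left.fromSpecStalk v₀ ≫ V₀.hom = V.left.fromSpecStalk v ≫ V.hom
    rw [← Category.assoc, hm, ← hκ, Category.assoc, Category.assoc, Over.w r, Over.w ι])
  have h1 : κO ≫ ι = k := Over.OverMorphism.ext hκ
  have h2 : mO ≫ k₀ = κO ≫ r := Over.OverMorphism.ext hm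
  have hfac : (AlgSp.yon S).map mO ≫ ((AlgSp.yon S).map k₀ ≫ b₀) = (AlgSp.yon S).map k ≫ b := by
    rw [← Category.assoc, ← Functor.map_comp, h2, Functor.map_comp, Category.assoc, sq.w,
      ← Category.assoc, ← Functor.map_comp, h1]
  -- the point `v₀` lies over the same generic point
  have hv₀gen : AlgSp.Points.ofPt b₀ v₀ ∈ genericPoints (AlgSp.Points Y.obj) := by
    have e1 : AlgSp.Points.ofPt b₀ v₀ = AlgSp.Points.ofPt b v := by
      have e2 : v₀ = r.left (κ (IsLocalRing.closedPoint _)) := rfl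
      have e3 : ι.left (κ (IsLocalRing.closedPoint _)) = v := by
        change (κ ≫ ι.left) (IsLocalRing.closedPoint _) = v
        rw [hκ, Scheme.fromSpecStalk_closedPoint]
      rw [e2, ← Groth.Agent.S10176.ofPt_map_comp, sq.w, Groth.Agent.S10176.ofPt_map_comp, e3]
    rw [e1]
    exact hv
  -- S10434 over `V₀`
  haveI : IsIso (pullback.snd f.hom ((AlgSp.yon S).map k₀ ≫ b₀)) :=
    isIso_snd_specStalk f hX hY hf b₀ hb₀ v₀ hv₀gen _ _ (IsPullback.of_hasPullback _ _)
  haveI : IsIso (pullback.snd f.hom ((AlgSp.yon S).map k ≫ b)) :=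
    Groth.Agent.R2.H83.FpqcRefine.isIso_snd_of_factor f.hom ((AlgSp.yon S).map k₀ ≫ b₀)
      (pullback.snd f.hom ((AlgSp.yon S).map k₀ ≫ b₀)) (pullback.fst f.hom _)
      (IsPullback.of_hasPullback _ _) ((AlgSp.yon S).map k ≫ b) ((AlgSp.yon S).map mO) hfac
  exact isIso_snd_of_isPullback hP (IsPullback.of_hasPullback _ _)

/-- if the base change of `g` to `Spec O_{B,v}` is an isomorphism, `g` induces an isomorphism of local
rings at every point over `v`. -/
lemma isIso_stalkMap_of_isIso_snd {A B : Scheme.{u}} (g : A ⟶ B) (v : B)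
    [IsIso (pullback.snd g (B.fromSpecStalk v))] (u : A) (hu : g u = v) :
    IsIso (g.stalkMap u) := by
  have hc : g u = B.fromSpecStalk v (IsLocalRing.closedPoint _) := by
    rw [Scheme.fromSpecStalk_closedPoint, hu]
  obtain ⟨t, ht1, ht2⟩ := Scheme.Pullback.exists_preimage_pullback u _ hc
  have hall : ∀ u' : A, u' = pullback.fst g (B.fromSpecStalk v) t → IsIso (g.stalkMap u') := by
    rintro _ rfl
    have h1 := Scheme.Hom.stalkMap_congr_hom _ _
      (pullback.condition (f := g) (g := B.fromSpecStalk v)) t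
    rw [Scheme.Hom.stalkMap_comp, Scheme.Hom.stalkMap_comp] at h1
    haveI h2 : IsIso ((pullback.fst g (B.fromSpecStalk v)).stalkMap t) :=
      Groth.Agent.Lib.Helper6.isIso_stalkMap_fst_pullback_fromSpecStalk g v t
    haveI h3 : IsIso ((pullback.snd g (B.fromSpecStalk v)).stalkMap t) := inferInstance
    have h4 : ∀ z, IsIso ((B.fromSpecStalk v).stalkMap z) := fun z =>
      Groth.Agent.Lib.Helper6.isIso_stalkMap_of_flat_of_isPreimmersion _ z
    haveI h5 := h4 (pullback.snd g (B.fromSpecStalk v) t)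
    have h6 : IsIso ((B.fromSpecStalk v).stalkMap (pullback.snd g (B.fromSpecStalk v) t) ≫
        (pullback.snd g (B.fromSpecStalk v)).stalkMap t) := IsIso.comp_isIso
    haveI : IsIso (g.stalkMap (pullback.fst g (B.fromSpecStalk v) t) ≫
        (pullback.fst g (B.fromSpecStalk v)).stalkMap t) := by
      rw [h1]
      exact @IsIso.comp_isIso _ _ _ _ _ _ _ inferInstance h6
    exact IsIso.of_isIso_comp_right (g.stalkMap _) ((pullback.fst g (B.fromSpecStalk v)).stalkMap t)
  exact hall u ht1.symm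

/-- the map on points induced by an isomorphism of sheaves is injective. -/
lemma map_injective_of_isIso {F G : AlgSp.Sp S} (e : F ⟶ G) [IsIso e] :
    Function.Injective (AlgSp.Points.map e) := by
  intro p q h
  have h1 := congrArg (AlgSp.Points.map (inv e)) h
  rwa [← AlgSp.Points.map_comp, ← AlgSp.Points.map_comp, IsIso.hom_inv_id, AlgSp.Points.map_id,
    AlgSp.Points.map_id] at h1

section setup

variable {X Y : AlgSp.Space S} (f : X ⟶ Y) {V : Over S} (b : (AlgSp.yon S).obj V ⟶ Y.obj)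
  {P : AlgSp.Sp S} (fst : P ⟶ X.obj) (snd : P ⟶ (AlgSp.yon S).obj V)

/-- the base change of `P = X ×_Y V` to `Spec O_{V,v}` is the base change of `X`. -/
lemma isPullback_lift_specStalk (hP : IsPullback fst snd f.hom b) (v : ↥V.left) :
    IsPullback
      (hP.lift (pullback.fst f.hom
          ((AlgSp.yon S).map (Over.homMk (U := Over.mk (V.left.fromSpecStalk v ≫ V.hom))
            (V.left.fromSpecStalk v) rfl) ≫ b))
        (pullback.snd f.hom _ ≫ (AlgSp.yon S).map (Over.homMk
          (U := Over.mk (V.left.fromSpecStalk v ≫ V.hom)) (V.left.fromSpecStalk v) rfl))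
        (by rw [Category.assoc]; exact pullback.condition))
      (pullback.snd f.hom _) snd
      ((AlgSp.yon S).map (Over.homMk (U := Over.mk (V.left.fromSpecStalk v ≫ V.hom))
        (V.left.fromSpecStalk v) rfl)) := by
  have big := IsPullback.of_hasPullback f.hom
    ((AlgSp.yon S).map (Over.homMk (U := Over.mk (V.left.fromSpecStalk v ≫ V.hom))
      (V.left.fromSpecStalk v) rfl) ≫ b)
  refine (IsPullback.of_bot ?_ ?_ hP.flip).flip
  · rw [hP.lift_fst]
    exact big.flip
  · rw [hP.lift_snd]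

end setup

/-- membership in `genericPoints` in the form used by S10395. -/
lemma mem_genericPoints_iff {α : Type*} [TopologicalSpace α] (w : α) :
    w ∈ genericPoints α ↔ ∃ T ∈ irreducibleComponents α, IsGenericPoint w T := by
  constructor
  · intro h
    exact ⟨closure {w}, h, rfl⟩
  · rintro ⟨T, hT, hg⟩
    change closure {w} ∈ irreducibleComponents α
    rw [hg.def]
    exact hT

section main

variable {X Y : AlgSp.Space S} (f : X ⟶ Y) {V : Over S} (b : (AlgSp.yon S).obj V ⟶ Y.obj)
  {P : AlgSp.Sp S} (fst : P ⟶ X.obj) (snd : P ⟶ (AlgSp.yon S).obj V)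

/-- (U1): a point of `X ×_Y V` is determined by its image in `V` when the latter lies over a generic
point of `Y`. -/
lemma eq_of_map_snd_eq (hX : AlgSp.IsDecent X.obj) (hY : AlgSp.IsDecent Y.obj)
    (hf : W4stk3decentspacesp2.IsBirational f.hom) (hb : AlgSp.RepWith @Etale b)
    (hP : IsPullback fst snd f.hom b) (v : ↥V.left)
    (hv : AlgSp.Points.ofPt b v ∈ genericPoints (AlgSp.Points Y.obj)) (p p' : AlgSp.Points P)
    (hp : AlgSp.Points.map snd p = AlgSp.Points.schemeHomeo V v)
    (hp' : AlgSp.Points.map snd p' = AlgSp.Points.schemeHomeo V v) : p = p' := by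
  have sq := isPullback_lift_specStalk f b fst snd hP v
  haveI : IsIso (pullback.snd f.hom ((AlgSp.yon S).map (Over.homMk
      (U := Over.mk (V.left.fromSpecStalk v ≫ V.hom)) (V.left.fromSpecStalk v) rfl) ≫ b)) :=
    isIso_snd_specStalk_etale f hX hY hf b hb v hv _ _ (IsPullback.of_hasPullback _ _)
  have hc : AlgSp.Points.map ((AlgSp.yon S).map (Over.homMk
      (U := Over.mk (V.left.fromSpecStalk v ≫ V.hom)) (V.left.fromSpecStalk v) rfl))
      (AlgSp.Points.schemeHomeo _ (IsLocalRing.closedPoint _)) = AlgSp.Points.schemeHomeo V v := by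
    rw [AlgSp.Points.map_yon_map_apply]
    congr 1
    exact Scheme.fromSpecStalk_closedPoint
  obtain ⟨q, hq1, hq2⟩ := Groth.Agent.S10175.exists_point_of_isPullback sq p _ (hp.trans hc.symm)
  obtain ⟨q', hq1', hq2'⟩ :=
    Groth.Agent.S10175.exists_point_of_isPullback sq p' _ (hp'.trans hc.symm)
  have hqq : q = q' := map_injective_of_isIso _ (hq2.trans hq2'.symm)
  rw [← hq1, ← hq1', hqq]

end main

/-- étale morphisms of decent spaces detect generic points (S10395 in terms of `genericPoints`). -/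
lemma mem_genericPoints_iff_of_etale {X Y : AlgSp.Space S} (hX : AlgSp.IsDecent X.obj) (f : Y ⟶ X)
    (hf : AlgSp.RepWith @Etale f.hom) (y : AlgSp.Points Y.obj) :
    y ∈ genericPoints (AlgSp.Points Y.obj) ↔
      AlgSp.Points.map f.hom y ∈ genericPoints (AlgSp.Points X.obj) := by
  rw [mem_genericPoints_iff, mem_genericPoints_iff]
  exact Groth.Agent.S10395.result hX f
    (fun U φ hφ => MorphismProperty.comp_mem _ _ _ hφ hf) y

/-- finiteness of the set of irreducible components from finiteness of the set of generic points. -/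
lemma irreducibleComponents_finite_of_genericPoints {α : Type*} [TopologicalSpace α] [QuasiSober α]
    (h : (genericPoints α).Finite) : (irreducibleComponents α).Finite := by
  haveI : Finite (genericPoints α) := h
  exact Finite.of_surjective _ (genericPoints.component_surjective (α := α))

section main2

variable {X Y : AlgSp.Space S} (f : X ⟶ Y) {V : Over S} (b : (AlgSp.yon S).obj V ⟶ Y.obj)
  {P : AlgSp.Sp S} (fst : P ⟶ X.obj) (snd : P ⟶ (AlgSp.yon S).obj V)

/-- first half of S10437: decency, finiteness, and the bijection on generic points. -/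
theorem baseChange_part1 (hX : AlgSp.IsDecent X.obj) (hY : AlgSp.IsDecent Y.obj)
    (hYf : (irreducibleComponents (AlgSp.Points Y.obj)).Finite)
    (hf : W4stk3decentspacesp2.IsBirational f.hom) [IsAffine V.left]
    (hb : AlgSp.RepWith @Etale b) (hP : IsPullback fst snd f.hom b) :
    AlgSp.IsDecent P ∧ (irreducibleComponents (AlgSp.Points P)).Finite ∧
      (irreducibleComponents (AlgSp.Points ((AlgSp.yon S).obj V))).Finite ∧
      Set.BijOn (AlgSp.Points.map snd) (genericPoints (AlgSp.Points P))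
        (genericPoints (AlgSp.Points ((AlgSp.yon S).obj V))) ∧
      (∀ p : AlgSp.Points P, p ∈ genericPoints (AlgSp.Points P) ↔
        AlgSp.Points.map fst p ∈ genericPoints (AlgSp.Points X.obj)) ∧
      (∀ ν : AlgSp.Points ((AlgSp.yon S).obj V),
        ν ∈ genericPoints (AlgSp.Points ((AlgSp.yon S).obj V)) ↔
        AlgSp.Points.map b ν ∈ genericPoints (AlgSp.Points Y.obj)) := by
  have hPalg : AlgSp.IsAlgSpace P :=
    Groth.Agent.S9874.isAlgSpace_of_isPullback Y.property.diag X.property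
      (AlgSp.IsAlgSpace.yon_obj V) hP
  have hVdec : AlgSp.IsDecent ((AlgSp.yon S).obj V) := Groth.Agent.R2.H25.DecentMor.isDecent_yon V
  have hPdec : AlgSp.IsDecent P :=
    Groth.Agent.S10383.isDecent_of_isPullback Y.property.diag hP hX hVdec
  let PS : AlgSp.Space S := ⟨P, hPalg⟩
  let VS : AlgSp.Space S := ⟨(AlgSp.yon S).obj V, AlgSp.IsAlgSpace.yon_obj V⟩
  let fstS : PS ⟶ X := ObjectProperty.homMk fst
  let bS : VS ⟶ Y := ObjectProperty.homMk b
  have hfstE : AlgSp.RepWith @Etale fst :=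
    MorphismProperty.of_isPullback (P := AlgSp.RepWith @Etale) hP.flip hb
  haveI : T0Space (AlgSp.Points P) := Groth.Agent.S10338.result PS hPdec
  haveI : QuasiSober (AlgSp.Points P) := Groth.Agent.S10339.result PS hPdec
  haveI : T0Space (AlgSp.Points ((AlgSp.yon S).obj V)) := Groth.Agent.S10338.result VS hVdec
  haveI : QuasiSober (AlgSp.Points ((AlgSp.yon S).obj V)) := Groth.Agent.S10339.result VS hVdec
  haveI : T0Space (AlgSp.Points Y.obj) := Groth.Agent.S10338.result Y hY
  haveI : QuasiSober (AlgSp.Points Y.obj) := Groth.Agent.S10339.result Y hY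
  have gP : ∀ p : AlgSp.Points P, p ∈ genericPoints (AlgSp.Points P) ↔
      AlgSp.Points.map fst p ∈ genericPoints (AlgSp.Points X.obj) :=
    fun p => mem_genericPoints_iff_of_etale hX fstS hfstE p
  have gV : ∀ ν : AlgSp.Points ((AlgSp.yon S).obj V),
      ν ∈ genericPoints (AlgSp.Points ((AlgSp.yon S).obj V)) ↔
      AlgSp.Points.map b ν ∈ genericPoints (AlgSp.Points Y.obj) :=
    fun ν => mem_genericPoints_iff_of_etale hY bS hb ν
  have hcomm : ∀ p : AlgSp.Points P, AlgSp.Points.map f.hom (AlgSp.Points.map fst p) =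
      AlgSp.Points.map b (AlgSp.Points.map snd p) := by
    intro p
    rw [← AlgSp.Points.map_comp, ← AlgSp.Points.map_comp, hP.w]
  have hbij : Set.BijOn (AlgSp.Points.map snd) (genericPoints (AlgSp.Points P))
      (genericPoints (AlgSp.Points ((AlgSp.yon S).obj V))) := by
    refine ⟨?_, ?_, ?_⟩
    · intro p hp
      rw [gV, ← hcomm]
      exact hf.bijOn.mapsTo ((gP p).1 hp)
    · intro p hp p' hp' h
      obtain ⟨v, hv⟩ := (AlgSp.Points.schemeHomeo V).surjective (AlgSp.Points.map snd p)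
      have hvgen : AlgSp.Points.ofPt b v ∈ genericPoints (AlgSp.Points Y.obj) := by
        rw [AlgSp.Points.ofPt_eq_map_ofScheme]
        change AlgSp.Points.map b (AlgSp.Points.schemeHomeo V v) ∈ _
        rw [hv, ← hcomm]
        exact hf.bijOn.mapsTo ((gP p).1 hp)
      exact eq_of_map_snd_eq f b fst snd hX hY hf hb hP v hvgen p p' hv.symm (h ▸ hv.symm)
    · intro ν hν
      obtain ⟨x, hx, hxν⟩ := hf.bijOn.surjOn ((gV ν).1 hν)
      obtain ⟨p, hp1, hp2⟩ := Groth.Agent.S10175.exists_point_of_isPullback hP x ν hxν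
      exact ⟨p, (gP p).2 (hp1 ▸ hx), hp2⟩
  -- finiteness
  have hYgen : (genericPoints (AlgSp.Points Y.obj)).Finite := genericPoints.finite hYf
  have hVgen : (genericPoints (AlgSp.Points ((AlgSp.yon S).obj V))).Finite := by
    have hsub : genericPoints (AlgSp.Points ((AlgSp.yon S).obj V)) ⊆
        ⋃ y ∈ genericPoints (AlgSp.Points Y.obj),
          (AlgSp.Points.schemeHomeo V) '' (AlgSp.Points.ofPt b ⁻¹' {y}) := by
      intro ν hν
      obtain ⟨v, rfl⟩ := (AlgSp.Points.schemeHomeo V).surjective ν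
      refine Set.mem_biUnion ((gV _).1 hν) ⟨v, ?_, rfl⟩
      change AlgSp.Points.ofPt b v = _
      rw [AlgSp.Points.ofPt_eq_map_ofScheme]
      rfl
    refine Set.Finite.subset (Set.Finite.biUnion hYgen fun y _ => Set.Finite.image _ ?_) hsub
    exact Groth.Agent.R2.H46.FiniteSpec.finite_fibre_of_isDecent Y hY y V b inferInstance hb
  have hPgen : (genericPoints (AlgSp.Points P)).Finite :=
    Set.Finite.of_finite_image (hVgen.subset hbij.mapsTo.image_subset) hbij.injOn
  exact ⟨hPdec, irreducibleComponents_finite_of_genericPoints hPgen,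
    irreducibleComponents_finite_of_genericPoints hVgen, hbij, gP, gV⟩

end main2

section main3

variable {X Y : AlgSp.Space S} (f : X ⟶ Y) {V : Over S} (b : (AlgSp.yon S).obj V ⟶ Y.obj)
  {P : AlgSp.Sp S} (fst : P ⟶ X.obj) (snd : P ⟶ (AlgSp.yon S).obj V)

/-- second half of S10437: the local-ring clause. -/
theorem baseChange_stalkIso (hX : AlgSp.IsDecent X.obj) (hY : AlgSp.IsDecent Y.obj)
    (hf : W4stk3decentspacesp2.IsBirational f.hom)
    (hb : AlgSp.RepWith @Etale b) (hP : IsPullback fst snd f.hom b) (p : AlgSp.Points P)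
    (hx : AlgSp.Points.map fst p ∈ genericPoints (AlgSp.Points X.obj)) :
    ∃ (U' V' : Over S) (a' : (AlgSp.yon S).obj U' ⟶ P)
      (b' : (AlgSp.yon S).obj V' ⟶ (AlgSp.yon S).obj V) (g' : U' ⟶ V') (u' : ↥U'.left),
      AlgSp.RepWith @IsOpenImmersion a' ∧ AlgSp.RepWith @IsOpenImmersion b' ∧
        a' ≫ snd = (AlgSp.yon S).map g' ≫ b' ∧ AlgSp.Points.ofPt a' u' = p ∧
        IsIso (g'.left.stalkMap u') := by
  obtain ⟨v, hv⟩ := (AlgSp.Points.schemeHomeo V).surjective (AlgSp.Points.map snd p)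
  have hcomm : AlgSp.Points.map f.hom (AlgSp.Points.map fst p) = AlgSp.Points.ofPt b v := by
    rw [AlgSp.Points.ofPt_eq_map_ofScheme]
    change _ = AlgSp.Points.map b (AlgSp.Points.schemeHomeo V v)
    rw [hv, ← AlgSp.Points.map_comp, ← AlgSp.Points.map_comp, hP.w]
  have hvgen : AlgSp.Points.ofPt b v ∈ genericPoints (AlgSp.Points Y.obj) :=
    hcomm ▸ hf.bijOn.mapsTo hx
  obtain ⟨U, V₀, a, b₀, g, u, ha, hb₀, comm, hu, hiso⟩ := hf.stalkIso _ hx
  -- `U' = U ×_Y V`
  obtain ⟨U', q, g'', sq'⟩ := hb.1 (a ≫ f.hom)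
  obtain ⟨g', rfl⟩ := (AlgSp.yon S).map_surjective g''
  have sq := sq'.flip
  have hw : ((AlgSp.yon S).map q ≫ a) ≫ f.hom = (AlgSp.yon S).map g' ≫ b := by
    rw [Category.assoc]
    exact sq.w
  have ha'1 : hP.lift ((AlgSp.yon S).map q ≫ a) ((AlgSp.yon S).map g') hw ≫ fst =
      (AlgSp.yon S).map q ≫ a := hP.lift_fst _ _ _
  have ha'2 : hP.lift ((AlgSp.yon S).map q ≫ a) ((AlgSp.yon S).map g') hw ≫ snd =
      (AlgSp.yon S).map g' := hP.lift_snd _ _ _
  generalize hP.lift ((AlgSp.yon S).map q ≫ a) ((AlgSp.yon S).map g') hw = a' at ha'1 ha'2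
  have sqL : IsPullback a' ((AlgSp.yon S).map q) fst a :=
    IsPullback.of_right (by rw [ha'2]; exact sq.flip) ha'1 hP.flip
  have ha' : AlgSp.RepWith @IsOpenImmersion a' :=
    MorphismProperty.of_isPullback (P := AlgSp.RepWith @IsOpenImmersion) sqL.flip ha
  -- the point `u'`
  have e : AlgSp.Points.ofPt (a ≫ f.hom) u = AlgSp.Points.ofPt b v := by
    rw [← AlgSp.Points.map_ofPt, hu, hcomm]
  obtain ⟨u', hu'q, hu'g⟩ := Groth.Agent.S10176.exists_point_of_isPullback_yon sq u v e
  have hpu' : AlgSp.Points.ofPt a' u' = p := by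
    apply eq_of_map_snd_eq f b fst snd hX hY hf hb hP v hvgen
    · rw [AlgSp.Points.map_ofPt, ha'2, AlgSp.Points.ofPt_eq_map_ofScheme]
      change AlgSp.Points.map _ (AlgSp.Points.schemeHomeo U' u') = _
      rw [AlgSp.Points.map_yon_map_apply, hu'g]
    · exact hv.symm
  refine ⟨U', V, a', 𝟙 _, g', u', ha', AlgSp.repWith_id _ V, by rw [Category.comp_id, ha'2],
    hpu', ?_⟩
  -- the local ring
  set k : Over.mk (V.left.fromSpecStalk v ≫ V.hom) ⟶ V :=
    Over.homMk (V.left.fromSpecStalk v) rfl with hk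
  have hmin : ∀ v' : ↥V.left, v' ⤳ v → v' = v :=
    eq_of_specializes_of_generic_chart hY b hb v hvgen
  have hkv : ∀ t, k.left t = v := fun t =>
    hmin _ (Groth.Agent.Lib.Helper14.fromSpecStalk_specializes V.left v t)
  have sqρ := isPullback_lift_specStalk f b fst snd hP v
  haveI : IsIso (pullback.snd f.hom ((AlgSp.yon S).map k ≫ b)) :=
    isIso_snd_specStalk_etale f hX hY hf b hb v hvgen _ _ (IsPullback.of_hasPullback _ _)
  generalize hP.lift _ _ _ = ρ at sqρ
  have hpts : ∀ z, AlgSp.Points.map ρ z = p := by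
    intro z
    apply eq_of_map_snd_eq f b fst snd hX hY hf hb hP v hvgen _ _ ?_ hv.symm
    rw [← AlgSp.Points.map_comp, sqρ.w, AlgSp.Points.map_comp]
    obtain ⟨t, ht⟩ := (AlgSp.Points.schemeHomeo _).surjective
      (AlgSp.Points.map (pullback.snd f.hom ((AlgSp.yon S).map k ≫ b)) z)
    rw [← ht, AlgSp.Points.map_yon_map_apply, hkv]
  obtain ⟨l, hl⟩ := (Groth.Agent.S10194.exists_factor_iff a' ha' ρ).2 (by
    rintro _ ⟨z, rfl⟩
    rw [hpts z]
    exact ⟨AlgSp.Points.ofScheme U' u', by rw [← AlgSp.Points.ofPt_eq_map_ofScheme]; exact hpu'⟩)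
  haveI : Mono a' := Groth.Agent.Lib.Helper12.LargestOpen.mono_of_open a' ha'
  have sq1 : IsPullback l (pullback.snd f.hom ((AlgSp.yon S).map k ≫ b))
      ((AlgSp.yon S).map g') ((AlgSp.yon S).map k) := by
    have h0 : IsPullback ρ (pullback.snd f.hom ((AlgSp.yon S).map k ≫ b)) snd
        ((AlgSp.yon S).map k ≫ 𝟙 _) := by
      rw [Category.comp_id]
      exact sqρ
    exact isPullback_of_mono_factor (b := 𝟙 _) h0 (by rw [Category.comp_id, ha'2]) hl
  have sqO := IsPullback.of_hasPullback g' k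
  have sqY := sqO.map (AlgSp.yon S)
  have sqS : IsPullback (pullback.fst g' k).left (pullback.snd g' k).left g'.left
      (V.left.fromSpecStalk v) := sqO.map (Over.forget S)
  haveI : IsIso ((AlgSp.yon S).map (pullback.snd g' k)) := isIso_snd_of_isPullback sqY sq1
  haveI : IsIso (pullback.snd g' k) := isIso_of_fully_faithful (AlgSp.yon S) _
  haveI : IsIso (pullback.snd g' k).left :=
    inferInstanceAs (IsIso ((Over.forget S).map (pullback.snd g' k)))
  haveI : IsIso (pullback.snd g'.left (V.left.fromSpecStalk v)) :=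
    isIso_snd_of_isPullback (IsPullback.of_hasPullback _ _) sqS
  exact isIso_stalkMap_of_isIso_snd g'.left v u' hu'g

/-- S10437. -/
theorem isBirational_baseChange (hX : AlgSp.IsDecent X.obj) (hY : AlgSp.IsDecent Y.obj)
    (hYf : (irreducibleComponents (AlgSp.Points Y.obj)).Finite)
    (hf : W4stk3decentspacesp2.IsBirational f.hom) [IsAffine V.left]
    (hb : AlgSp.RepWith @Etale b) (hP : IsPullback fst snd f.hom b) :
    AlgSp.IsDecent P ∧ (irreducibleComponents (AlgSp.Points P)).Finite ∧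
      (irreducibleComponents (AlgSp.Points ((AlgSp.yon S).obj V))).Finite ∧
      W4stk3decentspacesp2.IsBirational snd := by
  obtain ⟨h1, h2, h3, h4, gP, -⟩ := baseChange_part1 f b fst snd hX hY hYf hf hb hP
  exact ⟨h1, h2, h3, h4, fun p hp =>
    baseChange_stalkIso f b fst snd hX hY hf hb hP p ((gP p).1 hp)⟩

end main3

end Groth.Agent.R2.H83.BirationalEt
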