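-- helper83: immersions of algebraic spaces are fppf local on the base (S10547); quasi-compact
-- immersions are fpqc local on the base (S10538, from the package LC-1).
import Mathlib
import Groth.Agent.R2.H83ImmDesc
import Groth.Agent.R2.H83ImmDescSpec
import Groth.Agent.R2.H37AffQuotStmt
import Groth.Agent.Lib.Helper12FppfRefine
import Groth.Agent.S9906
import Groth.Agent.S9917
import Groth.Agent.S10174

set_option autoImplicit false
set_option backward.isDefEq.respectTransparency.types false
set_option linter.style.haveILetI false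
universe u
open CategoryTheory CategoryTheory.Limits AlgebraicGeometry Opposite
open AlgSp

namespace Groth.Agent.R2.H83.ImmDescRows

open Groth.Agent.R2.H83.AffDescSpec Groth.Agent.R2.H83.AffDesc Groth.Agent.R2.H83.ImmDesc
  Groth.Agent.R2.H83.ImmDescSpec Groth.Agent.Lib.Helper12.BaseLocal MorphismProperty

variable {S : Scheme.{u}}

/-- a subset whose preimages under a jointly surjective family of continuous open maps are locally
closed is locally closed. -/
lemma isLocallyClosed_of_open_family {Z : Type*} [TopologicalSpace Z] {ι : Type*} {W : ι → Type*}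
    [∀ i, TopologicalSpace (W i)] (c : ∀ i, W i → Z) (hc : ∀ i, Continuous (c i))
    (ho : ∀ i, IsOpenMap (c i)) (hs : ∀ z, ∃ i, z ∈ Set.range (c i)) (E : Set Z)
    (h : ∀ i, IsLocallyClosed (c i ⁻¹' E)) : IsLocallyClosed E := by
  rw [isLocallyClosed_iff_isOpen_coborder]
  have e : coborder E = ⋃ i, c i '' (coborder (c i ⁻¹' E)) := by
    ext z
    constructor
    · intro hz
      obtain ⟨i, w, rfl⟩ := hs z
      refine Set.mem_iUnion.2 ⟨i, w, ?_, rfl⟩
      rw [coborder_preimage (ho i) (hc i)]
      exact hz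
    · intro hz
      obtain ⟨i, w, hw, rfl⟩ := Set.mem_iUnion.1 hz
      rw [coborder_preimage (ho i) (hc i)] at hw
      exact hw
  rw [e]
  exact isOpen_iUnion fun i => ho i _ (h i).isOpen_coborder

/-- an fppf covering of an algebraic space by algebraic spaces is an fpqc covering. -/
lemma isFpqcCover_of_isFppfCover {ι : Type u} {Y : AlgSp.Sp S} (hY : AlgSp.IsAlgSpace Y)
    (Yi : ι → AlgSp.Sp S) (hYi : ∀ i, AlgSp.IsAlgSpace (Yi i)) (g : ∀ i, Yi i ⟶ Y)
    (hcov : AlgSp.IsFppfCover Yi g) : AlgSp.IsFpqcCover Yi g :=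
  ⟨fun i => (hcov.1 i).1, fun Z hZ h =>
    Groth.Agent.Lib.Helper12.FppfRefine.refines_of_fppfCover hY Yi hYi g hcov Z hZ h⟩

/-- immersions of algebraic spaces are fppf local on the base. -/
theorem isLocalOnBase_fppf_repWith_isImmersion (S : Scheme.{u}) :
    AlgSp.IsLocalOnBase (AlgSp.IsFppfCover (S := S)) (AlgSp.RepWith @IsImmersion) := by
  intro ι Y Yi g hY hYi hcov X f hX Xi p q hXi sq
  constructor
  · intro hf i
    exact MorphismProperty.of_isPullback (P := AlgSp.RepWith @IsImmersion) (sq i) hf
  · intro H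
    have hcov' := isFpqcCover_of_isFppfCover hY Yi hYi g hcov
    refine Groth.Agent.Lib.Helper12.ZarGlue.repWith_of_affine @IsImmersion f (fun Z hZ y => ?_)
    refine exists_immersion_rep Yi g hY hcov' f hX Xi p q sq H
      Groth.Agent.R2.H37.AffQuot.affQuotStmt Z y ?_
    -- the image is locally closed
    obtain ⟨Tk, c, l, hfl, hfp, hsurj, hl⟩ :=
      Groth.Agent.Lib.Helper12.FppfRefine.exists_fppf_family hY Yi hYi g hcov y
    haveI := hfl
    haveI := hfp
    refine isLocallyClosed_of_open_family (fun i => ⇑(c i).left) (fun i => (c i).left.continuous)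
      (fun i => (c i).left.isOpenMap) hsurj _ (fun i => ?_)
    obtain ⟨V, β, fstV, hVsq⟩ := (H i).1 (l i)
    haveI hβ : IsImmersion β.left := (H i).2 (l i) fstV β hVsq
    have big1 : IsPullback (fstV ≫ q i) ((AlgSp.yon S).map β) f
        ((AlgSp.yon S).map (c i) ≫ y) := by
      rw [← hl i]
      exact hVsq.paste_horiz (sq i)
    obtain ⟨v, -, hV⟩ := exists_lift_isPullback f y big1
    rw [← range_eq_preimage_imgSet hV]
    exact β.left.isLocallyClosed_range

/-- quasi-compact immersions of algebraic spaces are fpqc local on the base. -/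
theorem isLocalOnBase_fpqc_repWith_qcImmersion (hLC : LocClosedFpqcStmt.{u}) (S : Scheme.{u}) :
    AlgSp.IsLocalOnBase (AlgSp.IsFpqcCover (S := S))
      (AlgSp.RepWith (@IsImmersion ⊓ @QuasiCompact)) := by
  intro ι Y Yi g hY hYi hcov X f hX Xi p q hXi sq
  constructor
  · intro hf i
    exact MorphismProperty.of_isPullback (P := AlgSp.RepWith (@IsImmersion ⊓ @QuasiCompact))
      (sq i) hf
  · intro H
    have H' : ∀ i, AlgSp.RepWith @IsImmersion (p i) := fun i =>
      ⟨(H i).1, fun U V g' a b sqab => ((H i).2 g' a b sqab).1⟩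
    refine Groth.Agent.Lib.Helper12.ZarGlue.repWith_of_affine (@IsImmersion ⊓ @QuasiCompact) f
      (fun Z hZ y => ?_)
    haveI : IsAffine Z.left := hZ
    obtain ⟨m, W, c, hWa, hfl, hsurj, hl⟩ := hcov.2 Z hZ y
    choose i_ l hl using hl
    choose V β fstV hVsq using fun j => (H (i_ j)).1 (l j)
    have hβ : ∀ j, IsImmersion (β j).left ∧ QuasiCompact (β j).left := fun j =>
      (H (i_ j)).2 (l j) (fstV j) (β j) (hVsq j)
    have big1 : ∀ j, IsPullback (fstV j ≫ q (i_ j)) ((AlgSp.yon S).map (β j)) f
        ((AlgSp.yon S).map (c j) ≫ y) := fun j => by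
      rw [← hl j]
      exact (hVsq j).paste_horiz (sq (i_ j))
    choose v hv hV using fun j => exists_lift_isPullback f y (big1 j)
    have hX' : AlgSp.IsAlgSpace (pullback f y) :=
      Groth.Agent.S9874.isAlgSpace_of_isPullback hY.diag hX (AlgSp.IsAlgSpace.yon_obj Z)
        (IsPullback.of_hasPullback f y)
    -- the base change is quasi-compact
    have hqc : AlgSp.IsQuasiCompactSp (pullback f y) := by
      rw [Groth.Agent.S10174.isQuasiCompactSp_iff hX']
      refine Groth.Agent.S9917.compactSpace_points_of_cover (pullback.snd f y)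
        (fun j => (AlgSp.yon S).obj (W j)) (fun j => (AlgSp.yon S).map (c j)) ?_
        (fun j => (AlgSp.yon S).obj (V j)) v (fun j => (AlgSp.yon S).map (β j)) hV (fun j => ?_)
      · intro z
        obtain ⟨j, w, hw⟩ := hsurj ((AlgSp.Points.schemeHomeo Z).symm z)
        refine ⟨j, AlgSp.Points.schemeHomeo (W j) w, ?_⟩
        rw [AlgSp.Points.map_yon_map_apply, hw, Homeomorph.apply_symm_apply]
      · haveI := hWa j
        haveI : CompactSpace ↥(V j).left := (quasiCompact_iff_compactSpace (β j).left).1 (hβ j).2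
        exact Groth.Agent.S9917.compactSpace_points_of_isQuasiCompactSp
          ⟨V j, 𝟙 _, AlgSp.repWith_id _ (V j), AlgSp.repWith_id _ (V j), inferInstance⟩
    obtain ⟨U, u, hue, hus, hUa⟩ := exists_affine_chart hqc
    haveI : IsAffine U.left := hUa
    obtain ⟨ν, hν⟩ : ∃ ν : U ⟶ Z, (AlgSp.yon S).map ν = u ≫ pullback.snd f y :=
      ⟨(AlgSp.yon S).preimage _, Functor.map_preimage _ _⟩
    have hus' := Groth.Agent.S9906.surjective_map_of_repWith u hus
    -- the image of the base change is the image of the chart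
    have hE : imgSet (pullback.snd f y) = Set.range ⇑ν.left := by
      ext z
      simp only [imgSet, Set.mem_preimage, Set.mem_range]
      constructor
      · rintro ⟨x, hx⟩
        obtain ⟨x', rfl⟩ := hus' x
        obtain ⟨a, rfl⟩ := (AlgSp.Points.schemeHomeo U).surjective x'
        rw [← AlgSp.Points.map_comp, ← hν, AlgSp.Points.map_yon_map_apply] at hx
        exact ⟨a, (AlgSp.Points.schemeHomeo Z).injective hx⟩
      · rintro ⟨a, rfl⟩
        refine ⟨AlgSp.Points.map u (AlgSp.Points.schemeHomeo U a), ?_⟩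
        rw [← AlgSp.Points.map_comp, ← hν, AlgSp.Points.map_yon_map_apply]
    have hlc : IsLocallyClosed (imgSet (pullback.snd f y)) := by
      rw [hE]
      refine hLC ν.left (fun j => (W j).left) (fun j => (c j).left) hWa hfl hsurj (fun j => ?_)
      rw [← hE, ← range_eq_preimage_imgSet (hV j)]
      haveI := (hβ j).1
      exact (β j).left.isLocallyClosed_range
    obtain ⟨Q, σ, fst, sqQ, hσ⟩ := exists_immersion_rep Yi g hY hcov f hX Xi p q sq H'
      Groth.Agent.R2.H37.AffQuot.affQuotStmt Z y hlc
    refine ⟨Q, σ, fst, sqQ, hσ, ?_⟩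
    -- `Q` is quasi-compact
    show QuasiCompact σ.left
    rw [quasiCompact_iff_compactSpace]
    obtain ⟨ρ, hρ⟩ : ∃ ρ : U ⟶ Q, (AlgSp.yon S).map ρ = u ≫ sqQ.isoPullback.inv :=
      ⟨(AlgSp.yon S).preimage _, Functor.map_preimage _ _⟩
    have hρs : Function.Surjective ⇑ρ.left := by
      intro z
      obtain ⟨x', hx'⟩ := hus' (AlgSp.Points.map sqQ.isoPullback.hom (AlgSp.Points.schemeHomeo Q z))
      obtain ⟨a, rfl⟩ := (AlgSp.Points.schemeHomeo U).surjective x'
      refine ⟨a, (AlgSp.Points.schemeHomeo Q).injective ?_⟩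
      rw [← AlgSp.Points.map_yon_map_apply, hρ, AlgSp.Points.map_comp, hx',
        ← AlgSp.Points.map_comp, Iso.hom_inv_id, AlgSp.Points.map_id]
    exact hρs.compactSpace ρ.left.continuous

end Groth.Agent.R2.H83.ImmDescRows
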