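-- helper83: properties of morphisms of algebraic spaces which are fppf local on the base descend
-- along a surjective étale chart of the target (S9932 and similar rows).
import Mathlib
import Groth.Agent.R2.H83ImmDescRows
import Groth.Agent.R2.H83IsoFpqc
import Groth.Agent.R2.H37AffDescRows
import Groth.Agent.S9947

set_option autoImplicit false
set_option backward.isDefEq.respectTransparency.types false
set_option linter.style.haveILetI false
universe u
open CategoryTheory CategoryTheory.Limits AlgebraicGeometry Opposite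
open AlgSp

namespace Groth.Agent.R2.H83.EtChartDesc

variable {S : Scheme.{u}}

/-- a surjective étale chart is an fppf covering. -/
lemma isFppfCover_of_chart {Y : AlgSp.Sp S} {V : Over S} (p : (AlgSp.yon S).obj V ⟶ Y)
    (hp : AlgSp.RepWith @Etale p) (hps : AlgSp.RepWith @Surjective p) :
    AlgSp.IsFppfCover (fun _ : PUnit.{u + 1} => (AlgSp.yon S).obj V) (fun _ => p) := by
  refine ⟨fun _ => ⟨Groth.Agent.S9947.locP_of_repWith_etale @Flat
      (fun g hg => by haveI := hg; infer_instance) p hp,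
    Groth.Agent.S9947.locP_of_repWith_etale @LocallyOfFinitePresentation
      (fun g hg => by haveI := hg; infer_instance) p hp⟩, fun x => ?_⟩
  obtain ⟨v, hv⟩ := Groth.Agent.S9906.surjective_map_of_repWith p hps x
  exact ⟨PUnit.unit, v, hv⟩

/-- a property which is fpqc local on the base is fppf local on the base. -/
lemma isLocalOnBase_fppf_of_fpqc {Q : MorphismProperty (AlgSp.Sp S)}
    (hQ : AlgSp.IsLocalOnBase (AlgSp.IsFpqcCover (S := S)) Q) :
    AlgSp.IsLocalOnBase (AlgSp.IsFppfCover (S := S)) Q := by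
  intro ι Y Yi g hY hYi hcov X f hX Xi p q hXi sq
  exact hQ Yi g hY hYi
    (Groth.Agent.R2.H83.ImmDescRows.isFpqcCover_of_isFppfCover hY Yi hYi g hcov) f hX Xi p q hXi sq

/-- a property which is fppf local on the base descends along a surjective étale chart. -/
lemma of_chart {Q : MorphismProperty (AlgSp.Sp S)}
    (hQ : AlgSp.IsLocalOnBase (AlgSp.IsFppfCover (S := S)) Q) {X Y : AlgSp.Sp S}
    (hX : AlgSp.IsAlgSpace X) (hY : AlgSp.IsAlgSpace Y) (f : X ⟶ Y) (V : Over S)
    (p : (AlgSp.yon S).obj V ⟶ Y) (hp : AlgSp.RepWith @Etale p)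
    (hps : AlgSp.RepWith @Surjective p) {P₀ : AlgSp.Sp S} (fst : P₀ ⟶ X)
    (snd : P₀ ⟶ (AlgSp.yon S).obj V) (sq : IsPullback fst snd f p) (h : Q snd) : Q f := by
  have hP₀ : AlgSp.IsAlgSpace P₀ :=
    Groth.Agent.S9874.isAlgSpace_of_isPullback hY.diag hX (AlgSp.IsAlgSpace.yon_obj V) sq
  exact (hQ (fun _ : PUnit.{u + 1} => (AlgSp.yon S).obj V) (fun _ => p) hY
    (fun _ => AlgSp.IsAlgSpace.yon_obj V) (isFppfCover_of_chart p hp hps) f hX (fun _ => P₀)
    (fun _ => snd) (fun _ => fst) (fun _ => hP₀) (fun _ => sq)).2 (fun _ => h)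

/-- closed immersions are fppf local on the base. -/
lemma isLocalOnBase_fppf_repWith_isClosedImmersion :
    AlgSp.IsLocalOnBase (AlgSp.IsFppfCover (S := S)) (AlgSp.RepWith @IsClosedImmersion) :=
  isLocalOnBase_fppf_of_fpqc
    (Groth.Agent.R2.H37.AffDescRows.isLocalOnBase_fpqc_repWith_isClosedImmersion
      (Groth.Agent.R2.H83.AffDesc.mStmt Groth.Agent.R2.H37.AffQuot.affQuotStmt S))

/-- open immersions are fppf local on the base. -/
lemma isLocalOnBase_fppf_repWith_isOpenImmersion :
    AlgSp.IsLocalOnBase (AlgSp.IsFppfCover (S := S)) (AlgSp.RepWith @IsOpenImmersion) :=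
  isLocalOnBase_fppf_of_fpqc
    (Groth.Agent.R2.H83.IsoFpqc.isLocalOnBase_fpqc_repWith_isOpenImmersion S)

end Groth.Agent.R2.H83.EtChartDesc
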