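-- helper83: an integral birational morphism of decent algebraic spaces onto a normal space, from a
-- reduced space, is an isomorphism (S10438).
import Mathlib
import Groth.Agent.R2.H83BirNormalSch
import Groth.Agent.R2.H83BirationalEt
import Groth.Agent.R2.H83EtChartDesc
import Groth.Agent.R2.H44LimRed

set_option autoImplicit false
set_option backward.isDefEq.respectTransparency.types false
set_option linter.style.haveILetI false
universe u
open CategoryTheory CategoryTheory.Limits AlgebraicGeometry Topology TopologicalSpace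
open AlgSp

namespace Groth.Agent.R2.H83.BirNormal

open Groth.Agent.R2.H83.BirNormalSch Groth.Agent.R2.H83.BirationalEt Groth.Agent.R2.H83.Birational

/-- irreducible components correspond under a homeomorphism. -/
lemma image_mem_irreducibleComponents {α β : Type*} [TopologicalSpace α] [TopologicalSpace β]
    (e : α ≃ₜ β) {s : Set α} (hs : s ∈ irreducibleComponents α) :
    e '' s ∈ irreducibleComponents β := by
  refine ⟨hs.1.image e e.continuous.continuousOn, fun t ht hst => ?_⟩
  have h1 : IsIrreducible (e.symm '' t) := ht.image e.symm e.symm.continuous.continuousOn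
  have h2 : s ⊆ e.symm '' t := by
    intro x hx
    exact ⟨e x, hst ⟨x, hx, rfl⟩, e.symm_apply_apply x⟩
  have h3 : e.symm '' t ⊆ s := hs.2 h1 h2
  intro y hy
  exact ⟨e.symm y, h3 ⟨y, hy, rfl⟩, e.apply_symm_apply y⟩

lemma mem_genericPoints_homeo {α β : Type*} [TopologicalSpace α] [TopologicalSpace β]
    (e : α ≃ₜ β) (x : α) : e x ∈ genericPoints β ↔ x ∈ genericPoints α := by
  constructor
  · intro h
    have h1 := image_mem_irreducibleComponents e.symm h
    change closure {x} ∈ irreducibleComponents α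
    rwa [e.symm.image_closure, Set.image_singleton, e.symm_apply_apply] at h1
  · intro h
    have h1 := image_mem_irreducibleComponents e h
    change closure {e x} ∈ irreducibleComponents β
    rwa [e.image_closure, Set.image_singleton] at h1

lemma irreducibleComponents_finite_homeo {α β : Type*} [TopologicalSpace α] [TopologicalSpace β]
    (e : α ≃ₜ β) (h : (irreducibleComponents β).Finite) : (irreducibleComponents α).Finite := by
  refine (h.preimage (f := Set.image e) (e.injective.image_injective.injOn)).subset ?_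
  intro s hs
  exact image_mem_irreducibleComponents e hs

/-- if `α ≫ i = g' ≫ β` with `α`, `β` open immersions and `g'` inducing an isomorphism of local
rings at `z`, then `i` induces an isomorphism of local rings at `α z`. -/
lemma isIso_stalkMap_of_comm' {A B C D : Scheme.{u}} (α : A ⟶ B) (i : B ⟶ D) (g' : A ⟶ C)
    (β : C ⟶ D) [IsOpenImmersion α] [IsOpenImmersion β] (h : α ≫ i = g' ≫ β) (z : A)
    [IsIso (g'.stalkMap z)] : IsIso (i.stalkMap (α z)) := by
  have h1 := Scheme.Hom.stalkMap_congr_hom _ _ h z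
  rw [Scheme.Hom.stalkMap_comp, Scheme.Hom.stalkMap_comp] at h1
  haveI h2 : IsIso (α.stalkMap z) := inferInstance
  have h3 : ∀ t, IsIso (β.stalkMap t) := fun t => inferInstance
  haveI h3' := h3 (g' z)
  have h4 : IsIso (β.stalkMap (g' z) ≫ g'.stalkMap z) := IsIso.comp_isIso
  haveI : IsIso (i.stalkMap (α z) ≫ α.stalkMap z) := by
    rw [h1]
    exact @IsIso.comp_isIso _ _ _ _ _ _ _ inferInstance h4
  exact IsIso.of_isIso_comp_right (i.stalkMap (α z)) (α.stalkMap z)

variable {S : Scheme.{u}}

/-- scheme-level content of birationality of `h_i` for a morphism `i` of schemes over `S`. -/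
lemma bijOn_and_stalk_of_isBirational {W V : Over S} (i : W ⟶ V)
    (hbir : W4stk3decentspacesp2.IsBirational ((AlgSp.yon S).map i)) :
    Set.BijOn i.left (genericPoints W.left) (genericPoints V.left) ∧
      ∀ w ∈ genericPoints W.left, IsIso (i.left.stalkMap w) := by
  have hW := mem_genericPoints_homeo (AlgSp.Points.schemeHomeo W)
  have hV := mem_genericPoints_homeo (AlgSp.Points.schemeHomeo V)
  refine ⟨⟨?_, ?_, ?_⟩, ?_⟩
  · intro w hw
    have h1 := hbir.bijOn.mapsTo ((hW w).2 hw)
    rw [AlgSp.Points.map_yon_map_apply] at h1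
    exact (hV _).1 h1
  · intro w hw w' hw' h
    have h1 : AlgSp.Points.map ((AlgSp.yon S).map i) (AlgSp.Points.schemeHomeo W w) =
        AlgSp.Points.map ((AlgSp.yon S).map i) (AlgSp.Points.schemeHomeo W w') := by
      rw [AlgSp.Points.map_yon_map_apply, AlgSp.Points.map_yon_map_apply, h]
    exact (AlgSp.Points.schemeHomeo W).injective
      (hbir.bijOn.injOn ((hW w).2 hw) ((hW w').2 hw') h1)
  · intro v hv
    obtain ⟨p, hp, hpv⟩ := hbir.bijOn.surjOn ((hV v).2 hv)
    obtain ⟨w, rfl⟩ := (AlgSp.Points.schemeHomeo W).surjective p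
    rw [AlgSp.Points.map_yon_map_apply] at hpv
    exact ⟨w, (hW w).1 hp, (AlgSp.Points.schemeHomeo V).injective hpv⟩
  · intro w hw
    obtain ⟨U', V', a', b', g', u', ha', hb', comm, hu', hiso⟩ :=
      hbir.stalkIso _ ((hW w).2 hw)
    obtain ⟨α, rfl⟩ := (AlgSp.yon S).map_surjective a'
    obtain ⟨β, rfl⟩ := (AlgSp.yon S).map_surjective b'
    haveI : IsOpenImmersion α.left := (AlgSp.repWith_yon_map_iff @IsOpenImmersion α).1 ha'
    haveI : IsOpenImmersion β.left := (AlgSp.repWith_yon_map_iff @IsOpenImmersion β).1 hb'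
    have hcomm : α ≫ i = g' ≫ β := by
      apply (AlgSp.yon S).map_injective
      rw [Functor.map_comp, Functor.map_comp]
      exact comm
    have hcomm' : α.left ≫ i.left = g'.left ≫ β.left := by
      rw [← Over.comp_left, ← Over.comp_left, hcomm]
    have hαu : α.left u' = w := by
      apply (AlgSp.Points.schemeHomeo W).injective
      rw [← hu', AlgSp.Points.ofPt_eq_map_ofScheme]
      exact (AlgSp.Points.map_yon_map_apply α u').symm
    haveI := hiso
    have hall : ∀ t : ↥W.left, t = α.left u' → IsIso (i.left.stalkMap t) := by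
      rintro _ rfl
      exact isIso_stalkMap_of_comm' α.left i.left g'.left β.left hcomm' u'
    exact hall w hαu.symm

/-- the base change of an integral birational morphism to a normal affine étale chart of the target
is an isomorphism. -/
theorem isIso_snd_of_affine_chart {X Y : AlgSp.Space S} (f : X ⟶ Y)
    (hX : AlgSp.IsDecent X.obj) (hY : AlgSp.IsDecent Y.obj)
    (hYf : (irreducibleComponents (AlgSp.Points Y.obj)).Finite)
    (hi : AlgSp.IsIntegralMor f.hom) (hf : W4stk3decentspacesp2.IsBirational f.hom)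
    (hXr : AlgSp.EtaleLocally (fun T => IsReduced T) X.obj)
    {V : Over S} [hVa : IsAffine V.left] (b : (AlgSp.yon S).obj V ⟶ Y.obj)
    (hb : AlgSp.RepWith @Etale b) (hVn : Pi1.IsNormalScheme V.left) :
    IsIso (pullback.snd f.hom b) := by
  obtain ⟨W, i, fst, sq, hW, hint⟩ := hi hVa b
  obtain ⟨-, -, hVfin, hbir⟩ := isBirational_baseChange f b fst ((AlgSp.yon S).map i) hX hY hYf hf hb sq
  have hfstE : AlgSp.RepWith @Etale fst :=
    MorphismProperty.of_isPullback (P := AlgSp.RepWith @Etale) sq.flip hb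
  haveI : IsReduced W.left := Groth.Agent.R2.H44.LimRed.isReduced_of_etale_chart hXr fst hfstE
  have hVfin' : (irreducibleComponents V.left).Finite :=
    irreducibleComponents_finite_homeo (AlgSp.Points.schemeHomeo V) hVfin
  obtain ⟨hbij, hiso⟩ := bijOn_and_stalk_of_isBirational i hbir
  haveI := hint
  haveI : IsIso i.left := isIso_of_isIntegralHom_of_birational i.left hVn hVfin' hbij hiso
  haveI : IsIso ((Over.forget S).map i) := ‹IsIso i.left›
  haveI : IsIso i := isIso_of_reflects_iso _ (Over.forget S)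
  haveI : IsIso ((AlgSp.yon S).map i) := inferInstance
  exact isIso_snd_of_isPullback (IsPullback.of_hasPullback f.hom b) sq

/-- S10438. -/
theorem isIso_of_integral_birational {X Y : AlgSp.Space S} (f : X ⟶ Y)
    (hX : AlgSp.IsDecent X.obj) (hY : AlgSp.IsDecent Y.obj)
    (hYf : (irreducibleComponents (AlgSp.Points Y.obj)).Finite)
    (hi : AlgSp.IsIntegralMor f.hom) (hf : W4stk3decentspacesp2.IsBirational f.hom)
    (hYn : AlgSp.EtaleLocally (fun T => ∀ t : ↥T, IsDomain ↥(T.presheaf.stalk t) ∧
      IsIntegrallyClosed ↥(T.presheaf.stalk t)) Y.obj)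
    (hXr : AlgSp.EtaleLocally (fun T => IsReduced T) X.obj) : IsIso f.hom := by
  obtain ⟨U, p, hpe, hps, hUn⟩ := hYn
  have hUn' : Pi1.IsNormalScheme U.left := hUn
  let Ui : U.left.affineOpens → Over S := fun i => Over.mk (i.1.ι ≫ U.hom)
  let ji : ∀ i, Ui i ⟶ U := fun i => Over.homMk i.1.ι rfl
  let gi : ∀ i, (AlgSp.yon S).obj (Ui i) ⟶ Y.obj := fun i => (AlgSp.yon S).map (ji i) ≫ p
  have hgi : ∀ i, AlgSp.RepWith @Etale (gi i) := fun i =>
    MorphismProperty.comp_mem _ _ _
      ((AlgSp.repWith_yon_map_iff @Etale (ji i)).2 (inferInstanceAs (Etale i.1.ι))) hpe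
  have hcov : AlgSp.IsFppfCover (fun i => (AlgSp.yon S).obj (Ui i)) gi := by
    refine ⟨fun i => ⟨Groth.Agent.S9947.locP_of_repWith_etale @Flat
        (fun g hg => by haveI := hg; infer_instance) (gi i) (hgi i),
      Groth.Agent.S9947.locP_of_repWith_etale @LocallyOfFinitePresentation
        (fun g hg => by haveI := hg; infer_instance) (gi i) (hgi i)⟩, fun y => ?_⟩
    obtain ⟨u, rfl⟩ := Groth.Agent.S10177.surjective_ofPt p hps y
    obtain ⟨W, hW, huW, -⟩ : ∃ W : U.left.Opens, W ∈ U.left.affineOpens ∧ u ∈ W ∧ W ≤ ⊤ :=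
      TopologicalSpace.Opens.isBasis_iff_nbhd.1 U.left.isBasis_affineOpens
        (TopologicalSpace.Opens.mem_top u)
    refine ⟨⟨W, hW⟩, AlgSp.Points.ofScheme _ (⟨u, huW⟩ : W), ?_⟩
    rw [← AlgSp.Points.ofPt_eq_map_ofScheme, Groth.Agent.S10176.ofPt_map_comp]
    rfl
  have hloc := Groth.Agent.R2.H83.EtChartDesc.isLocalOnBase_fppf_of_fpqc
    (Groth.Agent.R2.H83.IsoFpqc.isLocalOnBase_fpqc_isomorphisms S)
  refine (hloc (fun i => (AlgSp.yon S).obj (Ui i)) gi Y.property
    (fun i => AlgSp.IsAlgSpace.yon_obj _) hcov f.hom X.property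
    (fun i => pullback f.hom (gi i)) (fun i => pullback.snd _ _) (fun i => pullback.fst _ _)
    (fun i => Groth.Agent.S9874.isAlgSpace_of_isPullback Y.property.diag X.property
      (AlgSp.IsAlgSpace.yon_obj _) (IsPullback.of_hasPullback f.hom (gi i)))
    (fun i => IsPullback.of_hasPullback _ _)).2 (fun i => ?_)
  haveI : IsAffine (Ui i).left := i.2
  exact isIso_snd_of_affine_chart f hX hY hYf hi hf hXr (gi i) (hgi i)
    (isNormalScheme_opens hUn' i.1)

end Groth.Agent.R2.H83.BirNormal
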