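import Mathlib
import Groth.Prelude.Def_AlgSpRep

/-!
# fppf covering sieves over a base, open images of flat lfp morphisms (helper96)

Tools for checking the fppf sheaf condition by hand:
* `mem_J_of_fppf`, `mem_Jz_of_openCover`: covering sieves from families;
* `exists_family_of_mem_J`: a covering sieve contains an fppf covering family indexed by the points;
* `img`, `imgι`, `imgLift`: the open image `W` of a flat lfp morphism `v : V ⟶ T` over `S`, with the
  open immersion `W ⟶ T` and the fppf covering `V ⟶ W`.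
-/

set_option autoImplicit false
universe u
open CategoryTheory CategoryTheory.Limits AlgebraicGeometry Opposite

namespace Groth.Agent.R2.H96.FppfGlue

variable {S : Scheme.{u}}

/-- A jointly surjective family of flat, locally finitely presented morphisms is an fppf covering. -/
lemma mem_J_of_fppf {T : Over S} {ι : Type*} (U : ι → Over S) (u : ∀ i, U i ⟶ T)
    (hsurj : ∀ t : T.left, ∃ i, t ∈ Set.range (u i).left)
    (hfl : ∀ i, Flat (u i).left) (hfp : ∀ i, LocallyOfFinitePresentation (u i).left) :
    Sieve.ofArrows U u ∈ AlgSp.J S T := by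
  rw [GrothendieckTopology.mem_over_iff, Sieve.overEquiv_ofArrows]
  apply Precoverage.generate_mem_toGrothendieck
  refine (Scheme.ofArrows_mem_precoverage_iff
    (fun {A B : Scheme.{u}} (m : A ⟶ B) => Flat m ∧ LocallyOfFinitePresentation m)).2 ?_
  exact ⟨hsurj, fun i => ⟨hfl i, hfp i⟩⟩

/-- A jointly surjective family of open immersions is a Zariski covering. -/
lemma mem_Jz_of_openImm {T : Over S} {ι : Type*} (U : ι → Over S) (u : ∀ i, U i ⟶ T)
    (hsurj : ∀ t : T.left, ∃ i, t ∈ Set.range (u i).left)
    (ho : ∀ i, IsOpenImmersion (u i).left) :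
    Sieve.ofArrows U u ∈ QuotSh.J Scheme.zariskiPrecoverage S T := by
  rw [GrothendieckTopology.mem_over_iff, Sieve.overEquiv_ofArrows]
  apply Precoverage.generate_mem_toGrothendieck
  refine (Scheme.ofArrows_mem_precoverage_iff (@IsOpenImmersion)).2 ?_
  exact ⟨hsurj, fun i => ho i⟩

/-- A covering sieve for the fppf topology contains a small fppf covering family. -/
theorem exists_family_of_mem_J {U : Over S} (R : Sieve U) (hR : R ∈ AlgSp.J S U) :
    ∃ (V : ↥U.left → Over S) (v : ∀ x, V x ⟶ U), (∀ x, R.arrows (v x)) ∧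
      (∀ x, Flat (v x).left) ∧ (∀ x, LocallyOfFinitePresentation (v x).left) ∧
      ∀ x, x ∈ Set.range (v x).left := by
  have : Precoverage.HasIsos Scheme.fppfPrecoverage.{u} := by
    unfold Scheme.fppfPrecoverage
    have : (@Flat ⊓ @LocallyOfFinitePresentation :
        MorphismProperty Scheme.{u}).ContainsIdentities :=
      ⟨fun X => ⟨inferInstanceAs (Flat (𝟙 X)), inferInstanceAs (LocallyOfFinitePresentation (𝟙 X))⟩⟩
    infer_instance
  rw [GrothendieckTopology.mem_over_iff,
    Precoverage.mem_toGrothendieck_iff_of_isStableUnderComposition] at hR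
  obtain ⟨R', hR', hle⟩ := hR
  have hjs : ∀ x : ↥U.left, ∃ (Y : Scheme.{u}) (g : Y ⟶ U.left), R' g ∧ x ∈ Set.range g := by
    intro x
    have h1 := hR'.1
    rw [Scheme.jointlySurjectivePrecoverage,
      Presieve.mem_comap_jointlySurjectivePrecoverage_iff] at h1
    obtain ⟨Y, g, hg, hx⟩ := h1 x
    exact ⟨Y, g, hg, hx⟩
  choose Y g hg hx using hjs
  refine ⟨fun x => Over.mk (g x ≫ U.hom), fun x => Over.homMk (g x) rfl, fun x => ?_, ?_, ?_, ?_⟩
  · have h4 := hle _ _ (hg x)
    rw [Sieve.overEquiv_iff] at h4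
    exact h4
  · intro x; exact (hR'.2 (hg x)).1
  · intro x; exact (hR'.2 (hg x)).2
  · intro x; exact hx x

lemma ofArrows_iff {T Z : Over S} {ι : Type*} (U : ι → Over S) (u : ∀ i, U i ⟶ T) (g : Z ⟶ T) :
    (Sieve.ofArrows U u).arrows g ↔ ∃ (i : ι) (k : Z ⟶ U i), k ≫ u i = g := by
  rw [Sieve.ofArrows, Sieve.generate_apply]
  constructor
  · rintro ⟨Y, k, _, ⟨i⟩, rfl⟩
    exact ⟨i, k, rfl⟩
  · rintro ⟨i, k, rfl⟩
    exact ⟨U i, k, u i, ⟨i⟩, rfl⟩

/-! ## Open images -/

section Img

variable {V T : Over S} (v : V ⟶ T) [Flat v.left] [LocallyOfFinitePresentation v.left]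

/-- the open image of a flat lfp morphism. -/
noncomputable def imgOpen : T.left.Opens :=
  ⟨Set.range v.left, v.left.isOpenMap.isOpen_range⟩

/-- the open image, as a scheme over `S`. -/
noncomputable abbrev img : Over S := Over.mk ((imgOpen v).ι ≫ T.hom)

/-- the open immersion of the image. -/
noncomputable def imgι : img v ⟶ T := Over.homMk (imgOpen v).ι rfl

instance : IsOpenImmersion (imgι v).left := inferInstanceAs (IsOpenImmersion (imgOpen v).ι)

lemma range_imgι : Set.range (imgι v).left = Set.range v.left := by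
  change Set.range (imgOpen v).ι = _
  rw [Scheme.Opens.range_ι]
  rfl

instance : Mono (imgι v) := by
  have : Mono ((Over.forget S).map (imgι v)) := inferInstanceAs (Mono (imgOpen v).ι)
  exact (Over.forget S).mono_of_mono_map this

/-- the lift of `v` to its open image. -/
noncomputable def imgLift : V ⟶ img v :=
  Over.homMk (IsOpenImmersion.lift (imgOpen v).ι v.left (by rw [Scheme.Opens.range_ι]; rfl)) (by
    change _ ≫ (imgOpen v).ι ≫ T.hom = V.hom
    rw [← Category.assoc, IsOpenImmersion.lift_fac, Over.w v])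

@[reassoc (attr := simp)]
lemma imgLift_imgι : imgLift v ≫ imgι v = v := by
  apply Over.OverMorphism.ext
  exact IsOpenImmersion.lift_fac _ _ _

instance : Flat (imgLift v).left := by
  have h : (imgLift v).left ≫ (imgι v).left = v.left := by
    rw [← Over.comp_left, imgLift_imgι]
  exact MorphismProperty.of_postcomp (W := @Flat) (W' := @IsOpenImmersion) (imgLift v).left
    (imgι v).left inferInstance (by rw [h]; infer_instance)

instance : LocallyOfFinitePresentation (imgLift v).left := by
  have h : (imgLift v).left ≫ (imgι v).left = v.left := by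
    rw [← Over.comp_left, imgLift_imgι]
  exact MorphismProperty.of_postcomp (W := @LocallyOfFinitePresentation) (W' := @IsOpenImmersion)
    (imgLift v).left (imgι v).left inferInstance (by rw [h]; infer_instance)

lemma imgLift_surjective : Function.Surjective (imgLift v).left := by
  intro w
  have hw : (imgι v).left w ∈ Set.range v.left := by
    rw [← range_imgι]; exact ⟨w, rfl⟩
  obtain ⟨x, hx⟩ := hw
  refine ⟨x, ?_⟩
  have hinj : Function.Injective (imgι v).left := (imgι v).left.isOpenEmbedding.injective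
  apply hinj
  rw [← Scheme.Hom.comp_apply, ← Over.comp_left, imgLift_imgι, hx]

/-- the lift to the open image generates an fppf covering sieve. -/
lemma imgLift_mem_J :
    Sieve.ofArrows (fun _ : PUnit.{1} => V) (fun _ => imgLift v) ∈ AlgSp.J S (img v) :=
  mem_J_of_fppf (T := img v) (fun _ : PUnit.{1} => V) (fun _ => imgLift v)
    (fun t => ⟨⟨⟩, imgLift_surjective v t⟩) (fun _ => inferInstance) (fun _ => inferInstance)

lemma ofArrows_pUnit_iff {V W Z : Over S} (v : V ⟶ W) (g : Z ⟶ W) :
    (Sieve.ofArrows (fun _ : PUnit.{1} => V) (fun _ => v)).arrows g ↔ ∃ k : Z ⟶ V, k ≫ v = g := by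
  rw [Sieve.ofArrows, Sieve.generate_apply]
  constructor
  · rintro ⟨Y, k, _, ⟨_⟩, rfl⟩
    exact ⟨k, rfl⟩
  · rintro ⟨k, rfl⟩
    exact ⟨V, k, v, ⟨⟨⟩⟩, rfl⟩

end Img

end Groth.Agent.R2.H96.FppfGlue
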