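import Mathlib
import Groth.Agent.R2.H59BootDiag
import Groth.Agent.R2.H43Quot
import Groth.Agent.R2.H47SpColim
import Groth.Agent.S10096
import Groth.Agent.S10107

/-!
# The fppf bootstrap for algebraic spaces, given the scheme case (helper83)

`S10103Stmt` is the statement of milestone S10103 (the fppf quotient of a flat, locally finitely
presented equivalence relation of schemes is an algebraic space).  Everything here is proved
*assuming* it:

* `s10104_of` : a sheaf with an fppf cover by an algebraic space, representable by algebraic spaces,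
  is an algebraic space.
-/

set_option autoImplicit false
set_option backward.isDefEq.respectTransparency.types false
set_option linter.style.haveILetI false
universe u
open CategoryTheory CategoryTheory.Limits AlgebraicGeometry Opposite
open AlgSp

namespace Groth.Agent.R2.H83.BootSpaces

open Groth.Agent.R2.H59.Boot Groth.Agent.R2.H59.BootDiag Groth.Agent.R2.H59.EtSheaf
  Groth.Agent.R2.H43.Quot

/-- the statement of milestone S10103. -/
def S10103Stmt : Prop :=
  ∀ (S : Scheme.{u}) {R U : Over S} (s t : R ⟶ U)
    (_ : AlgSp.IsEqvRel s t) [Flat s.left] [LocallyOfFinitePresentation s.left]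
    [Flat t.left] [LocallyOfFinitePresentation t.left],
    AlgSp.IsAlgSpace (QuotSh.quot Scheme.fppfPrecoverage s t)

variable {S : Scheme.{u}}

/-- a sheaf receiving an epimorphism from a scheme whose kernel pair is a flat, locally finitely
presented equivalence relation of schemes is an algebraic space. -/
theorem isAlgSpace_of_kernelPair (h103 : S10103Stmt.{u}) {F : Sp S} {R U : Over S} (s t : R ⟶ U)
    (q : (yon S).obj U ⟶ F) [Epi q]
    (sq : IsPullback ((yon S).map t) ((yon S).map s) q q)
    [Flat s.left] [LocallyOfFinitePresentation s.left]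
    [Flat t.left] [LocallyOfFinitePresentation t.left] : IsAlgSpace F := by
  have hE : IsEqvRel s t :=
    isEqvRel_of_isPullback s t q.hom (sq.map (sheafToPresheaf (J S) (Type (u + 1))))
  have hG := h103 S s t hE
  have hkπ := isPullback_πy s t hE
  obtain ⟨e, -⟩ := exists_iso_of_isKernelPair ((yon S).map t) ((yon S).map s) q (πy s t) sq hkπ
  exact hG.of_iso e.symm

/-- **Bootstrap, given the scheme case**: a sheaf with an fppf cover by an algebraic space which is
representable by algebraic spaces is an algebraic space. -/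
theorem s10104_of (h103 : S10103Stmt.{u}) (S : Scheme.{u}) (F : AlgSp.Sp S) (U : AlgSp.Space S)
    (p : U.obj ⟶ F)
    (hp : AlgSp.RepBySpWith (AlgSp.IsSurjectiveMor ⊓ AlgSp.LocP @Flat ⊓
      AlgSp.LocP @LocallyOfFinitePresentation) p.hom) :
    AlgSp.IsAlgSpace F := by
  have hdiag : Representable (Limits.diag F) := representable_diag U.property p hp
  obtain ⟨U₀, c, hce, hcs⟩ := U.property.atlas
  obtain ⟨q, hq⟩ : ∃ q : (yon S).obj U₀ ⟶ F, q = c ≫ p := ⟨_, rfl⟩
  obtain ⟨R₀, s, fst, sq⟩ := (Functor.relativelyRepresentable.of_diag hdiag q) q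
  obtain ⟨t, rfl⟩ := (yon S).map_surjective fst
  -- the base change of `p` to `U₀`
  have hp' := (repBySpWith_hom_iff _ p).1 hp
  have sqY := IsPullback.of_hasPullback p q
  obtain ⟨hY, ⟨-, hYfl⟩, hYfp⟩ := hp' q _ _ sqY
  -- flatness of one projection, for a kernel pair in either orientation
  have key : ∀ (a b : R₀ ⟶ U₀), IsPullback ((yon S).map a) ((yon S).map b) q q →
      Flat b.left ∧ LocallyOfFinitePresentation b.left := by
    intro a b sqab
    have hw : ((yon S).map a ≫ c) ≫ p = (yon S).map b ≫ q := by
      rw [Category.assoc, ← hq, sqab.w]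
    obtain ⟨m, hm⟩ : ∃ m : (yon S).obj R₀ ⟶ pullback p q,
        m = pullback.lift ((yon S).map a ≫ c) ((yon S).map b) hw := ⟨_, rfl⟩
    have hm1 : m ≫ pullback.fst p q = (yon S).map a ≫ c := by rw [hm, pullback.lift_fst]
    have hm2 : m ≫ pullback.snd p q = (yon S).map b := by rw [hm, pullback.lift_snd]
    have sqL : IsPullback m ((yon S).map a) (pullback.fst p q) c := by
      refine IsPullback.of_right ?_ hm1 sqY.flip
      rw [hm2, ← hq]
      exact sqab.flip
    have hme : RepWith @Etale m :=
      MorphismProperty.of_isPullback (P := RepWith @Etale) sqL.flip hce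
    exact ⟨hYfl m (𝟙 _) b hme (repWith_id _ U₀) (by rw [hm2, Category.comp_id]),
      hYfp m (𝟙 _) b hme (repWith_id _ U₀) (by rw [hm2, Category.comp_id])⟩
  obtain ⟨h1, h2⟩ := key t s sq
  obtain ⟨h3, h4⟩ := key s t sq.flip
  haveI : Epi c := Groth.Agent.R2.H47.SpColim.epi_of_etale_surj c hce hcs
  haveI : Epi p := Groth.Agent.S10096.result S U.obj F p hp
  haveI : Epi q := by rw [hq]; exact epi_comp _ _
  exact isAlgSpace_of_kernelPair h103 s t q sq

/-- **representability by algebraic spaces descends along an fppf cover of the source which is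
representable by algebraic spaces, given the scheme case of the bootstrap.** -/
theorem s10106_of (h103 : S10103Stmt.{u}) (S : Scheme.{u}) (F G H : AlgSp.Sp S) (a : F ⟶ G)
    (b : G ⟶ H)
    (ha : AlgSp.RepBySpWith (AlgSp.IsSurjectiveMor ⊓ AlgSp.LocP @Flat ⊓
      AlgSp.LocP @LocallyOfFinitePresentation) a.hom)
    (hab : AlgSp.RepBySp (a ≫ b).hom) : AlgSp.RepBySp b.hom := by
  rw [repBySp_hom_iff] at hab ⊢
  intro T ξ G' fst snd sq
  have sqF := IsPullback.of_hasPullback a fst
  have hF' : IsAlgSpace (pullback a fst) := hab ξ _ _ (sqF.paste_vert sq)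
  exact s10104_of h103 S G' ⟨pullback a fst, hF'⟩ (pullback.snd a fst)
    (repBySpWith_baseChange _ sqF ha)

end Groth.Agent.R2.H83.BootSpaces
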