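import Mathlib
import Groth.Prelude.Def_AlgSp
import Groth.Agent.S13210
import Groth.Agent.S9878
import Groth.Agent.S9884
import Groth.Agent.Lib.Helper12ZarGlue

/-!
# Open coverings and coproducts of algebraic spaces (helper83)

`isAlgSpace_of_open_family`: an fppf sheaf with a jointly surjective family of open subfunctors
which are algebraic spaces is an algebraic space (no size hypothesis beyond `ι : Type u`).
`isAlgSpace_cofan_pt`: a coproduct of algebraic spaces is an algebraic space.
`exists_iso_yon_of_cofan`: a coproduct (in sheaves) of representable sheaves is representable.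
Uses helper12's Zariski gluing of representability (`Lib/Helper12ZarGlue`) and the clopen
decomposition of maps to a coproduct of sheaves (`S9878.exists_clopen_decomposition`).
-/

set_option autoImplicit false
set_option backward.isDefEq.respectTransparency.types false
set_option linter.style.haveILetI false
universe u
open CategoryTheory CategoryTheory.Limits AlgebraicGeometry Opposite
open AlgSp

namespace Groth.Agent.R2.H83.Coprod

open Groth.Agent.S13210

variable {S : Scheme.{u}}

section Family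

variable {F : AlgSp.Sp S} {ι : Type u} {Fi : ι → AlgSp.Sp S} (f : ∀ i, Fi i ⟶ F)

/-- joint surjectivity of a family of maps of sheaves, tested on points of schemes. -/
def JointlySurj : Prop :=
  ∀ (T : Over S) (g : (AlgSp.yon S).obj T ⟶ F) (t : T.left),
    ∃ (i : ι) (V : Over S) (v : V ⟶ T) (a : (AlgSp.yon S).obj V ⟶ Fi i),
      a ≫ f i = (AlgSp.yon S).map v ≫ g ∧ t ∈ Set.range v.left

variable {f}

/-- the members of the canonical open cover of `T` attached to `g : h_T ⟶ F` cover `T`. -/
lemma JointlySurj.exists_mem_range (hs : JointlySurj f)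
    (hopen : ∀ i, AlgSp.RepWith @IsOpenImmersion (f i)) {T : Over S}
    (g : (AlgSp.yon S).obj T ⟶ F) (t : T.left) :
    ∃ i, t ∈ Set.range ((hopen i).rep.snd g).left := by
  obtain ⟨i, V, v, a, hav, s, rfl⟩ := hs T g t
  refine ⟨i, ?_⟩
  obtain ⟨l, hl⟩ := (AlgSp.yon S).map_surjective
    (((hopen i).rep.isPullback g).lift a ((AlgSp.yon S).map v) hav)
  have h2 : l ≫ (hopen i).rep.snd g = v := by
    apply (AlgSp.yon S).map_injective
    rw [Functor.map_comp, hl, IsPullback.lift_snd]
  refine ⟨l.left s, ?_⟩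
  rw [← h2]
  rfl

/-- every map from a scheme to a sheaf covered by open algebraic subspaces is representable. -/
theorem representable_from_yon (hopen : ∀ i, AlgSp.RepWith @IsOpenImmersion (f i))
    (halg : ∀ i, AlgSp.IsAlgSpace (Fi i)) (hs : JointlySurj f) {T : Over S}
    (g : (AlgSp.yon S).obj T ⟶ F) : AlgSp.Representable g := by
  intro T' g'
  let Ti : ι → Over S := fun i => (hopen i).rep.pullback g'
  let j : ∀ i, Ti i ⟶ T' := fun i => (hopen i).rep.snd g'
  haveI : ∀ i, IsOpenImmersion (j i).left := fun i => (hopen i).property_snd g'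
  have hj : ∀ t : T'.left, ∃ i, t ∈ Set.range (j i).left := fun t =>
    hs.exists_mem_range hopen g' t
  have hrep : ∀ i, ∃ (W : Over S) (w : W ⟶ Ti i) (b : (AlgSp.yon S).obj W ⟶
      (AlgSp.yon S).obj ((hopen i).rep.pullback g)),
      IsPullback b ((AlgSp.yon S).map w) ((hopen i).rep.fst g) ((hopen i).rep.fst g') := fun i =>
    (halg i).representable_from_yon ((hopen i).rep.fst g) ((hopen i).rep.fst g')
  choose W w b hb using hrep
  have sq : ∀ i, IsPullback (b i ≫ (AlgSp.yon S).map ((hopen i).rep.snd g))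
      ((AlgSp.yon S).map (w i)) g ((AlgSp.yon S).map (j i) ≫ g') := by
    intro i
    have h1 := (hb i).paste_horiz ((hopen i).rep.isPullback g).flip
    have h2 : (hopen i).rep.fst g' ≫ f i = (AlgSp.yon S).map (j i) ≫ g' :=
      ((hopen i).rep.isPullback g').w
    rw [h2] at h1
    exact h1
  obtain ⟨W₀, w₀, a₀, sq₀, -⟩ := Groth.Agent.Lib.Helper12.ZarGlue.exists_rep_of_openCover
    g g' Ti j W w _ sq hj
  exact ⟨W₀, w₀, a₀, sq₀⟩

theorem representable_diag (hopen : ∀ i, AlgSp.RepWith @IsOpenImmersion (f i))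
    (halg : ∀ i, AlgSp.IsAlgSpace (Fi i)) (hs : JointlySurj f) :
    AlgSp.Representable (Limits.diag F) :=
  Functor.relativelyRepresentable.diag_of_map_from_obj
    (fun _ g => representable_from_yon hopen halg hs g)

end Family

section Cofan

variable {ι : Type u} {F : ι → AlgSp.Sp S} (c : Cofan F) (hc : IsColimit c)

include hc in
/-- the coprojections of a coproduct of sheaves are representable by open and closed
immersions. -/
theorem repWith_inj (i : ι) :
    AlgSp.RepWith (@IsOpenImmersion ⊓ @IsClosedImmersion) (c.inj i) := by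
  refine MorphismProperty.relative.of_exists (fun T x => ?_)
  obtain ⟨W, hd, hcov, hW⟩ := Groth.Agent.S9878.exists_clopen_decomposition c hc x
  obtain ⟨a, sq⟩ := hW i
  refine ⟨_, a, _, sq, ?_⟩
  have h1 : IsOpenImmersion (W i).ι := inferInstance
  have h2 : IsClosedImmersion (W i).ι := by
    refine IsClosedImmersion.of_isPreimmersion _ ?_
    rw [Scheme.Opens.range_ι]
    exact Groth.Agent.S9878.isClosed_of_partition W hd hcov _
  exact ⟨h1, h2⟩

include hc in
theorem repWith_isOpenImmersion_inj (i : ι) : AlgSp.RepWith @IsOpenImmersion (c.inj i) :=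
  MorphismProperty.relative_monotone
    (fun _ _ _ h => h.1) _ (repWith_inj c hc i)

include hc in
theorem jointlySurj_inj : JointlySurj c.inj := by
  intro T g t
  obtain ⟨W, hd, hcov, hW⟩ := Groth.Agent.S9878.exists_clopen_decomposition c hc g
  have ht : t ∈ ⨆ i, W i := by rw [hcov]; trivial
  obtain ⟨i, hi⟩ := TopologicalSpace.Opens.mem_iSup.1 ht
  obtain ⟨a, sq⟩ := hW i
  refine ⟨i, _, _, a, sq.w, ?_⟩
  show t ∈ Set.range (W i).ι
  rw [Scheme.Opens.range_ι]
  exact hi

end Cofan

section Atlas

/-- a coproduct of representable sheaves is representable. -/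
theorem exists_iso_yon_of_cofan {ι : Type u} {U : ι → Over S}
    (d : Cofan (fun i => (AlgSp.yon S).obj (U i))) (hd : IsColimit d) :
    ∃ (W : Over S) (e : (AlgSp.yon S).obj W ≅ d.pt) (k : ∀ i, U i ⟶ W),
      (∀ i, (AlgSp.yon S).map (k i) ≫ e.hom = d.inj i) ∧ (∀ i, IsOpenImmersion (k i).left) ∧
      ∀ x : W.left, ∃ i, x ∈ Set.range (k i).left := by
  have hf := repWith_isOpenImmersion_inj d hd
  have hs : Groth.Agent.Lib.Helper12.ZarGlue.JointlySurjective hf := fun T g t =>
    (jointlySurj_inj d hd).exists_mem_range hf g t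
  obtain ⟨W, e, k, hk, hko⟩ := Groth.Agent.Lib.Helper12.ZarGlue.exists_iso hf hs
  refine ⟨W, e, k, hk, hko, fun x => ?_⟩
  obtain ⟨i, y, hy⟩ := hs W e.hom x
  refine ⟨i, ?_⟩
  obtain ⟨φ, hφ⟩ := (AlgSp.yon S).map_surjective ((hf i).rep.fst e.hom)
  have h1 : φ ≫ k i = (hf i).rep.snd e.hom := by
    apply (AlgSp.yon S).map_injective
    rw [← cancel_mono e.hom, Functor.map_comp, Category.assoc, hk i, hφ]
    exact ((hf i).rep.isPullback e.hom).w
  refine ⟨φ.left y, ?_⟩
  rw [← hy, ← h1]
  rfl

variable {F : AlgSp.Sp S} {ι : Type u} {Fi : ι → AlgSp.Sp S} {f : ∀ i, Fi i ⟶ F}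

/-- **open coverings by algebraic spaces**: a sheaf with a jointly surjective family of open
subfunctors which are algebraic spaces is an algebraic space. -/
theorem isAlgSpace_of_open_family (hopen : ∀ i, AlgSp.RepWith @IsOpenImmersion (f i))
    (halg : ∀ i, AlgSp.IsAlgSpace (Fi i)) (hs : JointlySurj f) : AlgSp.IsAlgSpace F := by
  have hdiag := representable_diag hopen halg hs
  refine ⟨hdiag, ?_⟩
  choose U p hpe hps using fun i => (halg i).atlas
  let d : Cofan (fun i => (AlgSp.yon S).obj (U i)) := Cofan.mk (∐ fun i => (AlgSp.yon S).obj (U i))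
    (Sigma.ι _)
  have hd : IsColimit d := coproductIsCoproduct _
  obtain ⟨W, e, k, hk, hko, hkcov⟩ := exists_iso_yon_of_cofan d hd
  let γ : (AlgSp.yon S).obj W ⟶ F := e.hom ≫ Cofan.IsColimit.desc hd (fun i => p i ≫ f i)
  have hγ : ∀ i, (AlgSp.yon S).map (k i) ≫ γ = p i ≫ f i := by
    intro i
    show (AlgSp.yon S).map (k i) ≫ e.hom ≫ _ = _
    rw [← Category.assoc, hk i, Cofan.IsColimit.fac]
  have hrepγ : AlgSp.Representable γ := representable_from_yon hopen halg hs γ
  have hle : (@IsOpenImmersion : MorphismProperty Scheme.{u}) ≤ @Etale := by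
    intro X Y g hg
    haveI : IsOpenImmersion g := hg
    infer_instance
  have hcomp : ∀ i, AlgSp.RepWith @Etale (p i ≫ f i) := fun i =>
    MorphismProperty.comp_mem _ _ _ (hpe i)
      (MorphismProperty.relative_monotone
        (fun _ _ g hg => hle _ hg) _ (hopen i))
  refine ⟨W, γ, ?_, ?_⟩
  · refine MorphismProperty.relative_of_snd hrepγ (fun T g => ?_)
    show Etale (hrepγ.snd g).left
    obtain ⟨φ, hφ⟩ := (AlgSp.yon S).map_surjective (hrepγ.fst g)
    have sq₀ := hrepγ.isPullback g
    rw [← hφ] at sq₀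
    have hkrep : ∀ i, AlgSp.RepWith @IsOpenImmersion ((AlgSp.yon S).map (k i)) := fun i =>
      (AlgSp.repWith_yon_map_iff _ _).2 (hko i)
    let P₀ := hrepγ.pullback g
    let Pi : ι → Over S := fun i => (hkrep i).rep.pullback ((AlgSp.yon S).map φ)
    let s : ∀ i, Pi i ⟶ P₀ := fun i => (hkrep i).rep.snd ((AlgSp.yon S).map φ)
    haveI : ∀ i, IsOpenImmersion (s i).left := fun i => (hkrep i).property_snd _
    have hcov : ∀ x : P₀.left, ∃ i, x ∈ Set.range (s i).left := by
      intro x
      obtain ⟨i, u, hu⟩ := hkcov (φ.left x)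
      refine ⟨i, ?_⟩
      obtain ⟨ψ, hψ⟩ := (AlgSp.yon S).map_surjective ((hkrep i).rep.fst ((AlgSp.yon S).map φ))
      have h1 := (hkrep i).rep.isPullback ((AlgSp.yon S).map φ)
      rw [← hψ] at h1
      have h2 := (IsPullback.of_map (AlgSp.yon S) (by
        apply (AlgSp.yon S).map_injective
        rw [Functor.map_comp, Functor.map_comp]
        exact h1.w) h1).map (Over.forget S)
      obtain ⟨q, -, hq⟩ := Groth.Agent.Lib.Helper12.exists_preimage_of_isPullback h2 u x hu
      exact ⟨q, hq⟩
    let 𝒰 : P₀.left.OpenCover := {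
      I₀ := ι, X i := (Pi i).left, f i := (s i).left,
      mem₀ := by
        rw [Scheme.presieve₀_mem_precoverage_iff]
        exact ⟨fun x ↦ hcov x, inferInstance⟩ }
    refine (IsZariskiLocalAtSource.iff_of_openCover (P := @Etale) 𝒰).2 fun i => ?_
    have h3 := ((hkrep i).rep.isPullback ((AlgSp.yon S).map φ)).paste_vert sq₀
    rw [hγ i, ← Functor.map_comp] at h3
    exact (hcomp i).property g _ _ h3
  · refine MorphismProperty.relative_of_snd hrepγ (fun T g => ?_)
    show Surjective (hrepγ.snd g).left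
    refine ⟨fun t => ?_⟩
    obtain ⟨i, V, v, a, hav, y, rfl⟩ := hs T g t
    have hrp := (hps i).rep
    have hq : Surjective (hrp.snd a).left := (hps i).property_snd a
    obtain ⟨z, hz⟩ := hq.surj y
    have hw : (hrp.fst a ≫ (AlgSp.yon S).map (k i)) ≫ γ =
        (AlgSp.yon S).map (hrp.snd a ≫ v) ≫ g := by
      rw [Category.assoc, hγ i, ← Category.assoc, (hrp.isPullback a).w, Category.assoc, hav,
        Functor.map_comp, Category.assoc]
    obtain ⟨l, hl⟩ := (AlgSp.yon S).map_surjective ((hrepγ.isPullback g).lift _ _ hw)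
    have h2 : l ≫ hrepγ.snd g = hrp.snd a ≫ v := by
      apply (AlgSp.yon S).map_injective
      rw [Functor.map_comp, hl, IsPullback.lift_snd]
    refine ⟨l.left z, ?_⟩
    have h3 := congrArg (fun m => m.left z) h2
    simp only [Over.comp_left, Scheme.Hom.comp_apply] at h3
    rw [h3, hz]

end Atlas

section Rows

variable {F : AlgSp.Sp S} {ι : Type u} {Fi : ι → AlgSp.Sp S}

/-- joint surjectivity from local surjectivity of the map from the coproduct. -/
theorem jointlySurj_of_isLocallySurjective (f : ∀ i, Fi i ⟶ F) (c : Cofan Fi) (hc : IsColimit c)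
    (hsurj : Sheaf.IsLocallySurjective (Cofan.IsColimit.desc hc f)) : JointlySurj f := by
  intro T g t
  obtain ⟨R, hR, hlift⟩ := Groth.Agent.S9884.exists_fppf_lift (Cofan.IsColimit.desc hc f) g
  obtain ⟨hRs, -⟩ := (Groth.Agent.S14276.mem_precoverage_iff').1 hR
  obtain ⟨U₀, g₀, hg₀, y, rfl⟩ := hRs t
  obtain ⟨d, hd⟩ := hlift g₀ hg₀
  obtain ⟨i, V, v, a, hav, hy⟩ := jointlySurj_inj c hc (Over.mk (g₀ ≫ T.hom)) d y
  refine ⟨i, V, v ≫ (Over.homMk g₀ : Over.mk (g₀ ≫ T.hom) ⟶ T), a, ?_, ?_⟩
  · have h1 : c.inj i ≫ Cofan.IsColimit.desc hc f = f i := Cofan.IsColimit.fac hc f i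
    rw [← h1, ← Category.assoc, hav, Category.assoc, hd, Functor.map_comp, Category.assoc]
  · obtain ⟨z, hz⟩ := hy
    exact ⟨z, by rw [Over.comp_left, Scheme.Hom.comp_apply, hz]; rfl⟩

/-- a coproduct of algebraic spaces (indexed by a type in the universe of `S`) is an algebraic
space. -/
theorem isAlgSpace_cofan_pt (h : ∀ i, AlgSp.IsAlgSpace (Fi i)) (c : Cofan Fi) (hc : IsColimit c) :
    AlgSp.IsAlgSpace c.pt :=
  isAlgSpace_of_open_family (repWith_isOpenImmersion_inj c hc) h (jointlySurj_inj c hc)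

end Rows

end Groth.Agent.R2.H83.Coprod
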