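import Mathlib
import Groth.Agent.R2.H83BootSpaces
import Groth.Agent.R2.H83Coprod
import Groth.Agent.S10175

/-!
# The fppf bootstrap for families (helper83)

* `locP_of_open_family` : `LocP P` of a map out of a sheaf covered by open subfunctors can be
  checked on the members of the cover (`P` Zariski local on the source).
* `repBySpWith_fppf_sigma_desc` : a jointly surjective family of maps `G i ⟶ F`, each representable
  by algebraic spaces, flat and locally of finite presentation, induces a map `∐ G i ⟶ F` which is
  representable by algebraic spaces, surjective, flat and locally of finite presentation.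
* `isAlgSpace_of_fppf_family` : given the statement of S10103, such an `F` is an algebraic space
  as soon as the `G i` are.
-/

set_option autoImplicit false
set_option backward.isDefEq.respectTransparency.types false
set_option linter.style.haveILetI false
universe u
open CategoryTheory CategoryTheory.Limits AlgebraicGeometry Opposite
open AlgSp

namespace Groth.Agent.R2.H83.BootSpaces

open Groth.Agent.R2.H59.Boot Groth.Agent.R2.H59.BootDiag Groth.Agent.R2.H83.Coprod

variable {S : Scheme.{u}}

/-- `LocP P` can be checked on a jointly surjective family of open subfunctors of the source. -/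
theorem locP_of_open_family (P : MorphismProperty Scheme.{u}) [IsZariskiLocalAtSource P]
    {Y Z : Sp S} {ι : Type u} {Yi : ι → Sp S} (f : ∀ i, Yi i ⟶ Y)
    (hopen : ∀ i, RepWith @IsOpenImmersion (f i)) (hs : JointlySurj f) (snd : Y ⟶ Z)
    (h : ∀ i, LocP P (f i ≫ snd)) : LocP P snd := by
  intro A B a b k ha hb comm
  let Ai : ι → Over S := fun i => (hopen i).rep.pullback a
  let o : ∀ i, Ai i ⟶ A := fun i => (hopen i).rep.snd a
  haveI : ∀ i, IsOpenImmersion (o i).left := fun i => (hopen i).property_snd _
  have hcov : ∀ x : A.left, ∃ i, x ∈ Set.range (o i).left :=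
    fun x => hs.exists_mem_range hopen a x
  let 𝒰 : A.left.OpenCover := {
    I₀ := ι, X i := (Ai i).left, f i := (o i).left,
    mem₀ := by
      rw [Scheme.presieve₀_mem_precoverage_iff]
      exact ⟨fun x ↦ hcov x, inferInstance⟩ }
  refine (IsZariskiLocalAtSource.iff_of_openCover (P := P) 𝒰).2 fun i => ?_
  have sqi := (hopen i).rep.isPullback a
  have hae : RepWith @Etale ((hopen i).rep.fst a) :=
    MorphismProperty.of_isPullback (P := RepWith @Etale) sqi.flip ha
  exact h i ((hopen i).rep.fst a) b (o i ≫ k) hae hb (by
    rw [← Category.assoc, sqi.w, Category.assoc, comm, Functor.map_comp, Category.assoc])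

/-- the map from the coproduct induced by a jointly surjective family of flat, locally finitely
presented maps representable by algebraic spaces is an fppf cover representable by algebraic
spaces. -/
theorem repBySpWith_fppf_sigma_desc {ι : Type u} {F : Sp S} (G : ι → Sp S) (p : ∀ i, G i ⟶ F)
    (hp : ∀ i, RepBySpWith (LocP @Flat ⊓ LocP @LocallyOfFinitePresentation) (p i).hom)
    (hsurj : ∀ z : Points F, ∃ i, z ∈ Set.range (Points.map (p i))) :
    RepBySpWith (IsSurjectiveMor ⊓ LocP @Flat ⊓ LocP @LocallyOfFinitePresentation)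
      (Sigma.desc p).hom := by
  rw [repBySpWith_hom_iff]
  intro T ξ Y fst snd sq
  let c : Cofan G := Cofan.mk (∐ G) (Sigma.ι G)
  have hc : IsColimit c := coproductIsCoproduct G
  let Yi : ι → Sp S := fun i => pullback (Sigma.ι G i) fst
  let f : ∀ i, Yi i ⟶ Y := fun i => pullback.snd (Sigma.ι G i) fst
  have sqi : ∀ i, IsPullback (pullback.fst (Sigma.ι G i) fst) (f i ≫ snd) (p i) ξ := by
    intro i
    have := (IsPullback.of_hasPullback (Sigma.ι G i) fst).paste_vert sq
    rwa [Sigma.ι_desc] at this
  have hpi := fun i => (repBySpWith_hom_iff _ (p i)).1 (hp i) ξ _ _ (sqi i)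
  have hopen : ∀ i, RepWith @IsOpenImmersion (f i) := fun i =>
    MorphismProperty.of_isPullback (P := RepWith @IsOpenImmersion)
      (IsPullback.of_hasPullback (Sigma.ι G i) fst) (repWith_isOpenImmersion_inj c hc i)
  have hs : JointlySurj f := by
    intro T' g t'
    obtain ⟨i, V, v, a', hav, ht'⟩ := jointlySurj_inj c hc T' (g ≫ fst) t'
    have hav' : a' ≫ Sigma.ι G i = ((yon S).map v ≫ g) ≫ fst := by
      rw [Category.assoc]; exact hav
    exact ⟨i, V, v, pullback.lift a' ((yon S).map v ≫ g) hav',
      pullback.lift_snd _ _ _, ht'⟩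
  have hY : IsAlgSpace Y := isAlgSpace_of_open_family hopen (fun i => (hpi i).1) hs
  refine ⟨hY, ⟨?_, ?_⟩, ?_⟩
  · intro z
    obtain ⟨i, x, hx⟩ := hsurj (Points.map ξ z)
    obtain ⟨y, hy1, -⟩ := Groth.Agent.S10175.exists_point_of_isPullback (sqi i).flip z x hx.symm
    exact ⟨Points.map (f i) y, by rw [← Points.map_comp]; exact hy1⟩
  · exact locP_of_open_family @Flat f hopen hs snd (fun i => (hpi i).2.1)
  · exact locP_of_open_family @LocallyOfFinitePresentation f hopen hs snd (fun i => (hpi i).2.2)

/-- **Bootstrap for families, given the scheme case.** -/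
theorem isAlgSpace_of_fppf_family (h103 : S10103Stmt.{u}) {ι : Type u} {F : Sp S} (G : ι → Sp S)
    (hG : ∀ i, IsAlgSpace (G i)) (p : ∀ i, G i ⟶ F)
    (hp : ∀ i, RepBySpWith (LocP @Flat ⊓ LocP @LocallyOfFinitePresentation) (p i).hom)
    (hsurj : ∀ z : Points F, ∃ i, z ∈ Set.range (Points.map (p i))) : IsAlgSpace F :=
  s10104_of h103 S F ⟨∐ G, isAlgSpace_cofan_pt hG _ (coproductIsCoproduct G)⟩ (Sigma.desc p)
    (repBySpWith_fppf_sigma_desc G p hp hsurj)

end Groth.Agent.R2.H83.BootSpaces
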