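import Mathlib
import Groth.Agent.R2.H83BootFamily
import Groth.Agent.S9874
import Groth.Agent.Lib.Helper15PtsTop
import Groth.Agent.Lib.Helper15LocEss

/-!
# fppf descent of algebraic spaces, given the scheme case of the bootstrap (helper83)

* `s10138_of` : an fppf sheaf over an algebraic space `X` whose base changes to the members of an
  fppf covering of `X` are algebraic spaces is an algebraic space.
* `s10105_of` : being an algebraic space is fppf local on the base scheme.
-/

set_option autoImplicit false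
set_option backward.isDefEq.respectTransparency.types false
set_option linter.style.haveILetI false
universe u
open CategoryTheory CategoryTheory.Limits AlgebraicGeometry Opposite
open AlgSp

namespace Groth.Agent.R2.H83.BootSpaces

open Groth.Agent.R2.H59.Boot Groth.Agent.R2.H59.BootDiag Groth.Agent.R2.H83.Coprod
  Groth.Agent.Lib.Helper15DiagLft

variable {S : Scheme.{u}}

/-- **fppf descent of algebraic spaces, given the scheme case of the bootstrap.** -/
theorem s10138_of (h103 : S10103Stmt.{u}) (S : Scheme.{u}) (X : AlgSp.Space S) {ι : Type u}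
    (Xi : ι → AlgSp.Space S) (g : ∀ i, (Xi i).obj ⟶ X.obj)
    (hcov : AlgSp.IsFppfCover (fun i => (Xi i).obj) g)
    (F : AlgSp.Sp S) (p : F ⟶ X.obj)
    (h : ∀ (i : ι) (P : AlgSp.Sp S) (fst : P ⟶ F) (snd : P ⟶ (Xi i).obj),
      IsPullback fst snd p (g i) → AlgSp.IsAlgSpace P) :
    AlgSp.IsAlgSpace F := by
  refine isAlgSpace_of_fppf_family h103 (fun i => pullback p (g i))
    (fun i => h i _ _ _ (IsPullback.of_hasPullback p (g i)))
    (fun i => pullback.fst p (g i)) ?_ ?_
  · intro i
    rw [repBySpWith_hom_iff]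
    intro T ξ Y fst' snd' sq'
    have big : IsPullback (fst' ≫ pullback.snd p (g i)) snd' (g i) (ξ ≫ p) :=
      (sq'.flip.paste_vert (IsPullback.of_hasPullback p (g i))).flip
    have hY : IsAlgSpace Y :=
      Groth.Agent.S9874.isAlgSpace_of_isPullback X.property.diag (Xi i).property
        (IsAlgSpace.yon_obj T) big
    exact ⟨hY,
      Groth.Agent.Lib.Helper15PtsTop.bcStable_flat (Xi i).property X.property hY
        (IsAlgSpace.yon_obj T) (g i) (ξ ≫ p) snd' _ big (hcov.1 i).1,
      Groth.Agent.Lib.Helper15PtsTop.bcStable_lfp (Xi i).property X.property hY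
        (IsAlgSpace.yon_obj T) (g i) (ξ ≫ p) snd' _ big (hcov.1 i).2⟩
  · intro z
    obtain ⟨i, x, hx⟩ := hcov.2 (Points.map p z)
    obtain ⟨y, hy1, -⟩ := Groth.Agent.S10175.exists_point_of_isPullback
      (IsPullback.of_hasPullback p (g i)) z x hx.symm
    exact ⟨i, y, hy1⟩

/-- **being an algebraic space is fppf local on the base, given the scheme case of the
bootstrap.** -/
theorem s10105_of (h103 : S10103Stmt.{u}) (S : Scheme.{u}) (F : AlgSp.Sp S) {ι : Type u}
    (Si : ι → Over S)
    (hfl : ∀ i, Flat (Si i).hom) (hfp : ∀ i, LocallyOfFinitePresentation (Si i).hom)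
    (hsurj : ∀ x : ↥S, ∃ (i : ι) (y : ↥(Si i).left), (Si i).hom.base y = x)
    (halg : ∀ i, AlgSp.IsAlgSpace ((AlgSp.yon S).obj (Si i) ⨯ F)) :
    AlgSp.IsAlgSpace F := by
  let T₀ : Over S := Over.mk (𝟙 S)
  have hT : IsTerminal ((AlgSp.yon S).obj T₀) :=
    IsTerminal.isTerminalObj (AlgSp.yon S) T₀ Over.mkIdTerminal
  let w : ∀ i, Si i ⟶ T₀ := fun i => Over.homMk (Si i).hom
  have hw : ∀ i, (w i).left = (Si i).hom := fun i => rfl
  have hcov : AlgSp.IsFppfCover (fun i => (AlgSp.yon S).obj (Si i))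
      (fun i => (AlgSp.yon S).map (w i)) :=
    Groth.Agent.Lib.Helper15LocEss.isFppfCover_of_schemes Si w (fun i => by rw [hw]; exact hfl i)
      (fun i => by rw [hw]; exact hfp i) (fun x => by
        obtain ⟨i, y, hy⟩ := hsurj x
        exact ⟨i, y, hy⟩)
  refine s10138_of h103 S ⟨(AlgSp.yon S).obj T₀, IsAlgSpace.yon_obj T₀⟩
    (fun i => ⟨(AlgSp.yon S).obj (Si i), IsAlgSpace.yon_obj (Si i)⟩)
    (fun i => (AlgSp.yon S).map (w i)) hcov F (hT.from F) ?_
  intro i P fst snd sq
  have sq' : IsPullback (prod.snd : (AlgSp.yon S).obj (Si i) ⨯ F ⟶ F) prod.fst (hT.from F)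
      ((AlgSp.yon S).map (w i)) := by
    have := (IsPullback.of_is_product' (prodIsProd ((AlgSp.yon S).obj (Si i)) F) hT).flip
    rwa [hT.hom_ext (hT.from ((AlgSp.yon S).obj (Si i))) ((AlgSp.yon S).map (w i))] at this
  exact (halg i).of_iso (sq'.isoIsPullback _ _ sq)

end Groth.Agent.R2.H83.BootSpaces
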