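import Mathlib
import Groth.Agent.R2.H83BootDescent
import Groth.Agent.S10107
import Groth.Agent.S9947
import Groth.Agent.R2.H44FppfLocal

/-!
# Quotients of flat, locally finitely presented equivalence relations of algebraic spaces, given the
scheme case of the bootstrap (helper83)

* `locP_of_fppf_cover_target` : for a map from an algebraic space to a scheme, `LocP P` can be
  checked after base change to an fppf covering of the target (`P` fppf local on the target).
* `repBySpWith_quotSpπ` : the quotient map `U ⟶ U/R` is representable by algebraic spaces,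
  surjective, flat and locally of finite presentation.
* `s10102_of` : `U/R` is an algebraic space.
-/

set_option autoImplicit false
set_option backward.isDefEq.respectTransparency.types false
set_option linter.style.haveILetI false
universe u
open CategoryTheory CategoryTheory.Limits AlgebraicGeometry Opposite
open AlgSp

namespace Groth.Agent.R2.H83.BootSpaces

open Groth.Agent.R2.H59.Boot Groth.Agent.R2.H59.BootDiag Groth.Agent.R2.H83.Coprod
  Groth.Agent.Lib.Helper15DiagLft

variable {S : Scheme.{u}}

/-- fppf descent of `LocP P` along a covering of a target scheme. -/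
theorem locP_of_fppf_cover_target (P : MorphismProperty Scheme.{u})
    (hchart : ∀ {X Y : AlgSp.Space S} (f : X ⟶ Y) {U' V : Over S}
      (a : (AlgSp.yon S).obj U' ⟶ X.obj) (b : (AlgSp.yon S).obj V ⟶ Y.obj) (h : U' ⟶ V),
      AlgSp.RepWith @Etale a → AlgSp.RepWith @Surjective a → AlgSp.RepWith @Etale b →
      a ≫ f.hom = (AlgSp.yon S).map h ≫ b → P h.left → AlgSp.LocP P f.hom)
    (hloc : P.IsLocalAtTarget Scheme.fppfPrecoverage)
    {Y : Sp S} (hY : IsAlgSpace Y) {T : Over S} (snd : Y ⟶ (yon S).obj T) {κ : Type u}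
    (V : κ → Over S) (c : ∀ x, V x ⟶ T) (hfl : ∀ x, Flat (c x).left)
    (hfp : ∀ x, LocallyOfFinitePresentation (c x).left)
    (hsurj : ∀ t : T.left, ∃ x, t ∈ Set.range (c x).left)
    (hV : ∀ x, LocP P (pullback.snd snd ((yon S).map (c x)))) : LocP P snd := by
  have : P.RespectsIso := hloc.toRespects
  obtain ⟨W, w, hwe, hws⟩ := hY.atlas
  obtain ⟨h, hh⟩ := (yon S).map_surjective (w ≫ snd)
  refine hchart (X := ⟨Y, hY⟩) (Y := ⟨(yon S).obj T, IsAlgSpace.yon_obj T⟩)
    (ObjectProperty.homMk snd) w (𝟙 _) h hwe hws (repWith_id _ T) (by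
      rw [hh, Category.comp_id]; rfl) ?_
  have hcov : Presieve.ofArrows (fun x => (V x).left) (fun x => (c x).left) ∈
      Scheme.fppfPrecoverage T.left := by
    refine (Scheme.ofArrows_mem_precoverage_iff
      (fun {A B : Scheme.{u}} (m : A ⟶ B) => Flat m ∧ LocallyOfFinitePresentation m)).2 ?_
    exact ⟨hsurj, fun x => ⟨hfl x, hfp x⟩⟩
  refine hloc.of_forall_pullbackSnd hcov ?_
  rintro _ _ _ ⟨x⟩
  have sqS : IsPullback (pullback.fst h (c x)).left (pullback.snd h (c x)).left h.left (c x).left :=
    (IsPullback.of_hasPullback h (c x)).map (Over.forget S)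
  suffices hfin : P (pullback.snd h (c x)).left by
    rw [← sqS.isoPullback_hom_snd] at hfin
    exact (P.cancel_left_of_respectsIso _ _).1 hfin
  have sqW : IsPullback ((yon S).map (pullback.fst h (c x)))
      ((yon S).map (pullback.snd h (c x))) ((yon S).map h) ((yon S).map (c x)) :=
    (IsPullback.of_hasPullback h (c x)).map (yon S)
  have hcomm' : ((yon S).map (pullback.fst h (c x)) ≫ w) ≫ snd =
      (yon S).map (pullback.snd h (c x)) ≫ (yon S).map (c x) := by
    rw [Category.assoc, ← hh, sqW.w]
  obtain ⟨e', he'⟩ : ∃ e' : (yon S).obj (pullback h (c x)) ⟶ pullback snd ((yon S).map (c x)),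
      e' = pullback.lift _ _ hcomm' := ⟨_, rfl⟩
  have he'1 : e' ≫ pullback.fst snd ((yon S).map (c x)) =
      (yon S).map (pullback.fst h (c x)) ≫ w := by rw [he', pullback.lift_fst]
  have he'2 : e' ≫ pullback.snd snd ((yon S).map (c x)) =
      (yon S).map (pullback.snd h (c x)) := by rw [he', pullback.lift_snd]
  have sqE : IsPullback e' ((yon S).map (pullback.fst h (c x)))
      (pullback.fst snd ((yon S).map (c x))) w := by
    refine IsPullback.of_right ?_ he'1 (IsPullback.of_hasPullback snd ((yon S).map (c x))).flip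
    rw [he'2, ← hh]
    exact sqW.flip
  have he'e : RepWith @Etale e' :=
    MorphismProperty.of_isPullback (P := RepWith @Etale) sqE.flip hwe
  exact hV x e' (𝟙 _) (pullback.snd h (c x)) he'e (repWith_id _ (V x))
    (by rw [he'2, Category.comp_id])

/-- the quotient map of a flat, locally finitely presented equivalence relation of algebraic
spaces is an fppf cover representable by algebraic spaces (given the scheme case of the
bootstrap). -/
theorem repBySpWith_quotSpπ (h103 : S10103Stmt.{u}) {R U : Sp S} (hR : IsAlgSpace R)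
    (hU : IsAlgSpace U) (s t : R ⟶ U) (hj : IsEqvRelSp s t)
    (ht : LocP @Flat t ∧ LocP @LocallyOfFinitePresentation t) :
    RepBySpWith (IsSurjectiveMor ⊓ LocP @Flat ⊓ LocP @LocallyOfFinitePresentation)
      (quotSpπ s t).hom := by
  rw [repBySpWith_hom_iff]
  intro T ξ Y fst snd sq
  set π := quotSpπ s t with hπ
  haveI : Epi π := by rw [hπ]; unfold quotSpπ; exact coequalizer.π_epi
  obtain ⟨V, c, σ, hfl, hfp, hsurj, hσ⟩ := Groth.Agent.S10107.exists_local_lift π ξ
  -- the base change to a member of the covering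
  have key : ∀ (x : T.left) (Yx : Sp S) (a : Yx ⟶ Y) (b : Yx ⟶ (yon S).obj (V x)),
      IsPullback a b snd ((yon S).map (c x)) →
      IsAlgSpace Yx ∧ LocP @Flat b ∧ LocP @LocallyOfFinitePresentation b := by
    intro x Yx a b sqx
    have sqR := IsPullback.of_hasPullback t (σ x)
    have hR' : IsAlgSpace (pullback t (σ x)) :=
      Groth.Agent.S9874.isAlgSpace_of_isPullback hU.diag hR (IsAlgSpace.yon_obj (V x)) sqR
    have outer : IsPullback (pullback.fst t (σ x) ≫ s) (pullback.snd t (σ x)) π
        ((yon S).map (c x) ≫ ξ) := by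
      have := sqR.paste_horiz (Groth.Agent.S10107.isPullback_quotSpπ s t hj)
      rwa [hσ x] at this
    have big : IsPullback (a ≫ fst) b π ((yon S).map (c x) ≫ ξ) :=
      (sqx.flip.paste_vert sq.flip).flip
    let e : Yx ≅ pullback t (σ x) := big.isoIsPullback _ _ outer
    have he : e.hom ≫ pullback.snd t (σ x) = b := big.isoIsPullback_hom_snd _ _ outer
    have hYx : IsAlgSpace Yx := hR'.of_iso e.symm
    refine ⟨hYx, ?_, ?_⟩
    · rw [← he]
      exact precomp_iso_of_bcStable _ Groth.Agent.Lib.Helper15PtsTop.bcStable_flat hYx hR'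
        (IsAlgSpace.yon_obj (V x)) e _
        (Groth.Agent.Lib.Helper15PtsTop.bcStable_flat hR hU hR' (IsAlgSpace.yon_obj (V x)) t (σ x)
          (pullback.snd t (σ x)) (pullback.fst t (σ x)) sqR ht.1)
    · rw [← he]
      exact precomp_iso_of_bcStable _ Groth.Agent.Lib.Helper15PtsTop.bcStable_lfp hYx hR'
        (IsAlgSpace.yon_obj (V x)) e _
        (Groth.Agent.Lib.Helper15PtsTop.bcStable_lfp hR hU hR' (IsAlgSpace.yon_obj (V x)) t (σ x)
          (pullback.snd t (σ x)) (pullback.fst t (σ x)) sqR ht.2)
  have hcov : AlgSp.IsFppfCover (fun x => (yon S).obj (V x)) (fun x => (yon S).map (c x)) :=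
    Groth.Agent.Lib.Helper15LocEss.isFppfCover_of_schemes V c hfl hfp (fun x => ⟨x, hsurj x⟩)
  have hY : IsAlgSpace Y :=
    s10138_of h103 S ⟨(yon S).obj T, IsAlgSpace.yon_obj T⟩
      (fun x => ⟨(yon S).obj (V x), IsAlgSpace.yon_obj (V x)⟩) (fun x => (yon S).map (c x)) hcov
      Y snd (fun x P a b sqx => (key x P a b sqx).1)
  refine ⟨hY, ⟨?_, ?_⟩, ?_⟩
  · intro z
    obtain ⟨v', hv'⟩ := hsurj (Points.toScheme T z)
    refine ⟨Points.map (sq.lift (σ _) ((yon S).map (c _)) (hσ _)) (Points.ofScheme (V _) v'), ?_⟩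
    rw [← Points.map_comp, sq.lift_snd, Groth.Agent.Lib.Helper15LocEss.points_map_yon_ofScheme, hv',
      Points.ofScheme_toScheme]
  · exact locP_of_fppf_cover_target @Flat
      (fun f _ _ a b h ha has hb comm hh =>
        Groth.Agent.S9947.result @Flat (Or.inr (Or.inr (Or.inl rfl))) f a b h ha has hb comm hh)
      (Groth.Agent.R2.H44.FppfLocal.isLocalAtTarget_fppf_of_fpqc _
        Groth.Agent.Lib.Helper12.descendsAlong_flat) hY snd V c hfl hfp (fun x => ⟨x, hsurj x⟩)
      (fun x => (key x _ _ _ (IsPullback.of_hasPullback snd ((yon S).map (c x)))).2.1)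
  · exact locP_of_fppf_cover_target @LocallyOfFinitePresentation
      (fun f _ _ a b h ha has hb comm hh =>
        Groth.Agent.S9947.result @LocallyOfFinitePresentation (Or.inr (Or.inl rfl)) f a b h ha has
          hb comm hh)
      Groth.Agent.R2.H44.FppfLocal.locallyOfFinitePresentation hY snd V c hfl hfp
      (fun x => ⟨x, hsurj x⟩)
      (fun x => (key x _ _ _ (IsPullback.of_hasPullback snd ((yon S).map (c x)))).2.2)

/-- **quotients of flat, locally finitely presented equivalence relations of algebraic spaces are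
algebraic spaces, given the scheme case.** -/
theorem s10102_of (h103 : S10103Stmt.{u}) (S : Scheme.{u}) (R U : AlgSp.Sp S)
    (hR : AlgSp.IsAlgSpace R) (hU : AlgSp.IsAlgSpace U) (s t : R ⟶ U) (hj : AlgSp.IsEqvRelSp s t)
    (ht : AlgSp.LocP @Flat t ∧ AlgSp.LocP @LocallyOfFinitePresentation t) :
    AlgSp.IsAlgSpace (AlgSp.quotSp s t) :=
  s10104_of h103 S (quotSp s t) ⟨U, hU⟩ (quotSpπ s t) (repBySpWith_quotSpπ h103 hR hU s t hj ht)

end Groth.Agent.R2.H83.BootSpaces
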