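import Mathlib
import Groth.Agent.R2.H83BootQuot
import Groth.Agent.Lib.Helper9SpFree

/-!
# Quotients by free actions of flat, locally finitely presented group algebraic spaces, given the
scheme case of the bootstrap (helper83)

* `isEqvRelSp_of_isFree` : a free action gives an equivalence relation `G ×_B X ⇉ X`.
* `twist` : the involution `(g, x) ↦ (g⁻¹, g x)` of `G ×_B X`, exchanging projection and action.
* `s10112_of` : the quotient is an algebraic space, the quotient map is an fppf cover and
  `G ×_B X ≅ X ×_{X/G} X`.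
-/

set_option autoImplicit false
set_option backward.isDefEq.respectTransparency.types false
set_option linter.style.haveILetI false
set_option linter.unusedSectionVars false
universe u
open CategoryTheory CategoryTheory.Limits AlgebraicGeometry Opposite
open AlgSp MonoidalCategory MonObj CartesianMonoidalCategory

namespace Groth.Agent.R2.H83.BootSpaces

open Groth.Agent.Lib.Helper9.SpFree Groth.Agent.Lib.Helper15DiagLft

variable {S : Scheme.{u}} {B : AlgSp.Sp S} {G X : Over B} [GrpObj G] (a : AlgSp.GAction G X)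

lemma smul_fst_snd : smul a (fst G X) (snd G X) = a.act := by
  unfold smul
  rw [lift_fst_snd, Category.id_comp]

lemma smul_comp_fst_snd {T : Over B} (r : T ⟶ G ⊗ X) :
    smul a (r ≫ fst G X) (r ≫ snd G X) = r ≫ a.act := by
  unfold smul
  rw [lift_comp_fst_snd]

lemma lift_smul_act_left {T : Over B} (g : T ⟶ G) (x : T ⟶ X) :
    (lift g x).left ≫ a.act.left = (smul a g x).left := rfl

lemma lift_snd_left {T : Over B} (g : T ⟶ G) (x : T ⟶ X) :
    (lift g x).left ≫ (snd G X).left = x.left := by
  rw [← Over.comp_left, lift_snd]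

/-- a free action defines an equivalence relation. -/
theorem isEqvRelSp_of_isFree (ha : a.IsFree) :
    AlgSp.IsEqvRelSp (snd G X).left a.act.left := by
  refine ⟨?_, ?_⟩
  · intro T r r' h1 h2
    haveI := mono_shear a ha
    rw [← cancel_mono (lift a.act (snd G X)).left]
    apply Over.tensorObj_ext
    · have e : (lift a.act (snd G X)).left ≫ pullback.fst X.hom X.hom = a.act.left := by
        rw [← Over.fst_left, ← Over.comp_left, lift_fst]
      rw [Category.assoc, Category.assoc, e, h1]
    · have e : (lift a.act (snd G X)).left ≫ pullback.snd X.hom X.hom = (snd G X).left := by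
        rw [← Over.snd_left (R := X) (S := X), ← Over.comp_left, lift_snd]
      rw [Category.assoc, Category.assoc, e, h2]
  · intro T
    refine ⟨?_, ?_, ?_⟩
    · intro a₀
      let x : Over.mk (a₀ ≫ X.hom) ⟶ X := Over.homMk a₀ rfl
      refine ⟨(lift (1 : Over.mk (a₀ ≫ X.hom) ⟶ G) x).left, ?_, ?_⟩
      · rw [lift_smul_act_left, Groth.Agent.Lib.Helper9.SpFree.one_smul]; rfl
      · rw [lift_snd_left]; rfl
    · rintro a₀ b₀ ⟨r, hr1, hr2⟩
      let r' : Over.mk (r ≫ (G ⊗ X).hom) ⟶ G ⊗ X := Over.homMk r rfl
      let g := r' ≫ fst G X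
      let x := r' ≫ snd G X
      have hy : smul a g x = r' ≫ a.act := smul_comp_fst_snd a r'
      refine ⟨(lift g⁻¹ (smul a g x)).left, ?_, ?_⟩
      · rw [lift_smul_act_left, ← Groth.Agent.Lib.Helper9.SpFree.mul_smul, inv_mul_cancel,
          Groth.Agent.Lib.Helper9.SpFree.one_smul]
        exact hr2
      · rw [lift_snd_left, hy]
        exact hr1
    · rintro a₀ b₀ c₀ ⟨r₁, h11, h12⟩ ⟨r₂, h21, h22⟩
      have w1 : r₁ ≫ (G ⊗ X).hom = b₀ ≫ X.hom := by
        rw [← Over.w (snd G X), ← Category.assoc, h12]
      have w2 : r₂ ≫ (G ⊗ X).hom = b₀ ≫ X.hom := by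
        rw [← Over.w a.act, ← Category.assoc, h21]
      let r₁' : Over.mk (b₀ ≫ X.hom) ⟶ G ⊗ X := Over.homMk r₁ w1
      let r₂' : Over.mk (b₀ ≫ X.hom) ⟶ G ⊗ X := Over.homMk r₂ w2
      let g₁ := r₁' ≫ fst G X
      let x₁ := r₁' ≫ snd G X
      let g₂ := r₂' ≫ fst G X
      let x₂ := r₂' ≫ snd G X
      have e1 : smul a g₂ x₂ = x₁ := by
        rw [smul_comp_fst_snd]
        apply Over.OverMorphism.ext
        change r₂ ≫ a.act.left = r₁ ≫ (snd G X).left
        rw [h21, h12]
      refine ⟨(lift (g₁ * g₂) x₂).left, ?_, ?_⟩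
      · rw [lift_smul_act_left, Groth.Agent.Lib.Helper9.SpFree.mul_smul, e1, smul_comp_fst_snd]
        exact h11
      · rw [lift_snd_left]
        exact h22

/-- the involution `(g, x) ↦ (g⁻¹, g x)` of `G ×_B X`. -/
noncomputable def twist : G ⊗ X ⟶ G ⊗ X := lift (fst G X)⁻¹ a.act

lemma twist_snd : twist a ≫ snd G X = a.act := lift_snd _ _

lemma twist_twist : twist a ≫ twist a = 𝟙 _ := by
  have h1 : twist a ≫ (fst G X)⁻¹ = fst G X := by
    rw [GrpObj.comp_inv]
    unfold twist
    rw [lift_fst, inv_inv]
  have h2 : twist a ≫ a.act = snd G X := by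
    have : twist a ≫ a.act = smul a (fst G X)⁻¹ (smul a (fst G X) (snd G X)) := by
      rw [smul_fst_snd]; rfl
    rw [this, ← Groth.Agent.Lib.Helper9.SpFree.mul_smul, inv_mul_cancel,
      Groth.Agent.Lib.Helper9.SpFree.one_smul]
  unfold twist at h1 h2 ⊢
  rw [comp_lift, h1, h2, lift_fst_snd]

/-- the involution as an isomorphism of sheaves. -/
noncomputable def twistIso : (G ⊗ X).left ≅ (G ⊗ X).left where
  hom := (twist a).left
  inv := (twist a).left
  hom_inv_id := by rw [← Over.comp_left, twist_twist]; rfl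
  inv_hom_id := by rw [← Over.comp_left, twist_twist]; rfl

lemma twistIso_hom_snd : (twistIso a).hom ≫ (snd G X).left = a.act.left := by
  change (twist a).left ≫ (snd G X).left = a.act.left
  rw [← Over.comp_left, twist_snd]

/-- **quotients by free actions of flat, locally finitely presented group algebraic spaces, given
the scheme case of the bootstrap.** -/
theorem s10112_of (h103 : S10103Stmt.{u}) (S : Scheme.{u}) (B : AlgSp.Sp S)
    (hB : AlgSp.IsAlgSpace B)
    (G X : Over B) [GrpObj G] (hG : AlgSp.IsAlgSpace G.left) (hX : AlgSp.IsAlgSpace X.left)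
    (a : AlgSp.GAction G X) (ha : a.IsFree)
    (hfl : AlgSp.LocP @Flat G.hom ∧ AlgSp.LocP @LocallyOfFinitePresentation G.hom) :
    AlgSp.IsAlgSpace a.quot ∧
      (AlgSp.IsSurjectiveMor a.quotπ ∧ AlgSp.LocP @Flat a.quotπ ∧
        AlgSp.LocP @LocallyOfFinitePresentation a.quotπ) ∧
      IsIso (pullback.lift a.act.left (CartesianMonoidalCategory.snd G X).left
        (AlgSp.quotSp_condition (CartesianMonoidalCategory.snd G X).left a.act.left).symm :
          (G ⊗ X).left ⟶ pullback a.quotπ a.quotπ) := by
  have sqGX : IsPullback (fst G X).left (snd G X).left G.hom X.hom :=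
    IsPullback.of_hasPullback G.hom X.hom
  have hGX : IsAlgSpace (G ⊗ X).left :=
    Groth.Agent.S9874.isAlgSpace_of_isPullback hB.diag hG hX sqGX
  have hj := isEqvRelSp_of_isFree a ha
  have hs : LocP @Flat (snd G X).left ∧ LocP @LocallyOfFinitePresentation (snd G X).left :=
    ⟨Groth.Agent.Lib.Helper15PtsTop.bcStable_flat hG hB hGX hX G.hom X.hom (snd G X).left
        (fst G X).left sqGX hfl.1,
      Groth.Agent.Lib.Helper15PtsTop.bcStable_lfp hG hB hGX hX G.hom X.hom (snd G X).left
        (fst G X).left sqGX hfl.2⟩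
  have ht : LocP @Flat a.act.left ∧ LocP @LocallyOfFinitePresentation a.act.left := by
    rw [← twistIso_hom_snd a]
    exact ⟨precomp_iso_of_bcStable _ Groth.Agent.Lib.Helper15PtsTop.bcStable_flat hGX hGX hX
        (twistIso a) _ hs.1,
      precomp_iso_of_bcStable _ Groth.Agent.Lib.Helper15PtsTop.bcStable_lfp hGX hGX hX
        (twistIso a) _ hs.2⟩
  have hF : IsAlgSpace a.quot := s10102_of h103 S _ _ hGX hX _ _ hj ht
  refine ⟨hF, Groth.Agent.S10107.result S _ _ hGX hX _ _ hj hs ht hF, ?_⟩
  have hk : IsPullback a.act.left (snd G X).left (quotSpπ (snd G X).left a.act.left)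
      (quotSpπ (snd G X).left a.act.left) :=
    (Groth.Agent.S10107.isPullback_quotSpπ (snd G X).left a.act.left hj).flip
  change IsIso (pullback.lift a.act.left (snd G X).left
      (AlgSp.quotSp_condition (snd G X).left a.act.left).symm :
        (G ⊗ X).left ⟶ pullback (quotSpπ (snd G X).left a.act.left)
          (quotSpπ (snd G X).left a.act.left))
  have e : (pullback.lift a.act.left (snd G X).left
      (AlgSp.quotSp_condition (snd G X).left a.act.left).symm :
        (G ⊗ X).left ⟶ pullback (quotSpπ (snd G X).left a.act.left)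
          (quotSpπ (snd G X).left a.act.left)) = hk.isoPullback.hom := by
    apply pullback.hom_ext
    · rw [pullback.lift_fst, hk.isoPullback_hom_fst]
    · rw [pullback.lift_snd, hk.isoPullback_hom_snd]
  rw [e]
  infer_instance

end Groth.Agent.R2.H83.BootSpaces
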