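-- helper83: an induction principle for iterated fibre products (wide pullbacks over `Fin (n+1)`).
import Mathlib

set_option autoImplicit false
universe v u w
open CategoryTheory CategoryTheory.Limits

namespace Groth.Agent.R2.H83.Cech

variable {C : Type u} [Category.{v} C] [HasPullbacks C]
  [∀ n : ℕ, HasLimitsOfShape (WidePullbackShape (Fin n)) C]

section

variable {ι : Type w} {U : C} (Ui : ι → C) (g : ∀ i, Ui i ⟶ U) (n : ℕ) (c : Fin (n + 1) → ι)

/-- the base map of the wide pullback of the first `n` members. -/
noncomputable abbrev base' : widePullback U (fun k : Fin n => Ui (c k.castSucc))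
    (fun k => g (c k.castSucc)) ⟶ U :=
  WidePullback.base (fun k : Fin n => g (c k.castSucc))

/-- comparison map to the binary pullback. -/
noncomputable def succHom :
    widePullback U (fun k : Fin (n + 1) => Ui (c k)) (fun k => g (c k)) ⟶
      pullback (base' Ui g n c) (g (c (Fin.last n))) :=
  pullback.lift
    (WidePullback.lift (WidePullback.base _)
      (fun k : Fin n => WidePullback.π (fun k : Fin (n + 1) => g (c k)) k.castSucc)
      (fun k => WidePullback.π_arrow _ _))
    (WidePullback.π (fun k : Fin (n + 1) => g (c k)) (Fin.last n))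
    (by rw [WidePullback.lift_base, WidePullback.π_arrow])

lemma succHom_snd : succHom Ui g n c ≫ pullback.snd _ _ =
    WidePullback.π (fun k : Fin (n + 1) => g (c k)) (Fin.last n) := by
  simp only [succHom, pullback.lift_snd]

lemma succHom_fst_π (k : Fin n) :
    succHom Ui g n c ≫ pullback.fst _ _ ≫ WidePullback.π (fun k : Fin n => g (c k.castSucc)) k =
      WidePullback.π (fun k : Fin (n + 1) => g (c k)) k.castSucc := by
  simp only [succHom, pullback.lift_fst_assoc, WidePullback.lift_π]

lemma succHom_fst_base :
    succHom Ui g n c ≫ pullback.fst _ _ ≫ base' Ui g n c =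
      WidePullback.base (fun k : Fin (n + 1) => g (c k)) := by
  simp only [succHom, pullback.lift_fst_assoc, WidePullback.lift_base]

/-- inverse comparison map. -/
noncomputable def succInv :
    pullback (base' Ui g n c) (g (c (Fin.last n))) ⟶
      widePullback U (fun k : Fin (n + 1) => Ui (c k)) (fun k => g (c k)) :=
  WidePullback.lift
    (pullback.snd (base' Ui g n c) (g (c (Fin.last n))) ≫ g (c (Fin.last n)))
    (fun k => Fin.lastCases
      (motive := fun k => pullback (base' Ui g n c) (g (c (Fin.last n))) ⟶ Ui (c k))
      (pullback.snd _ _)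
      (fun j => pullback.fst _ _ ≫ WidePullback.π (fun k : Fin n => g (c k.castSucc)) j) k)
    (fun k => by
      refine Fin.lastCases ?_ (fun j => ?_) k
      · rw [Fin.lastCases_last]
      · rw [Fin.lastCases_castSucc, Category.assoc, WidePullback.π_arrow, pullback.condition])

lemma succInv_base : succInv Ui g n c ≫ WidePullback.base (fun k : Fin (n + 1) => g (c k)) =
    pullback.snd (base' Ui g n c) (g (c (Fin.last n))) ≫ g (c (Fin.last n)) := by
  simp only [succInv, WidePullback.lift_base]

lemma succInv_π_last :
    succInv Ui g n c ≫ WidePullback.π (fun k : Fin (n + 1) => g (c k)) (Fin.last n) =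
      pullback.snd _ _ := by
  simp only [succInv, WidePullback.lift_π, Fin.lastCases_last]

lemma succInv_π_castSucc (j : Fin n) :
    succInv Ui g n c ≫ WidePullback.π (fun k : Fin (n + 1) => g (c k)) j.castSucc =
      pullback.fst _ _ ≫ WidePullback.π (fun k : Fin n => g (c k.castSucc)) j := by
  simp only [succInv, WidePullback.lift_π, Fin.lastCases_castSucc]

/-- the wide pullback over `Fin (n+1)` is a binary pullback of the wide pullback over
`Fin n`. -/
noncomputable def widePullbackSuccIso :
    widePullback U (fun k : Fin (n + 1) => Ui (c k)) (fun k => g (c k)) ≅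
      pullback (base' Ui g n c) (g (c (Fin.last n))) where
  hom := succHom Ui g n c
  inv := succInv Ui g n c
  hom_inv_id := by
    apply WidePullback.hom_ext
    · intro k
      refine Fin.lastCases ?_ (fun j => ?_) k
      · rw [Category.assoc, succInv_π_last, succHom_snd, Category.id_comp]
      · rw [Category.assoc, succInv_π_castSucc, succHom_fst_π, Category.id_comp]
    · rw [Category.assoc, succInv_base, ← Category.assoc, succHom_snd, WidePullback.π_arrow,
        Category.id_comp]
  inv_hom_id := by
    apply pullback.hom_ext
    · rw [Category.id_comp]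
      apply WidePullback.hom_ext
      · intro k
        rw [Category.assoc, Category.assoc, succHom_fst_π, succInv_π_castSucc]
      · rw [Category.assoc, Category.assoc, succHom_fst_base, succInv_base, pullback.condition]
    · rw [Category.assoc, succHom_snd, succInv_π_last, Category.id_comp]

lemma widePullbackSuccIso_hom_snd :
    (widePullbackSuccIso Ui g n c).hom ≫ pullback.snd _ _ ≫ g (c (Fin.last n)) =
      WidePullback.base (fun k : Fin (n + 1) => g (c k)) := by
  show succHom Ui g n c ≫ _ = _
  rw [← Category.assoc, succHom_snd, WidePullback.π_arrow]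

end

/-- a pullback square stays a pullback square after composing both legs with a monomorphism. -/
lemma isPullback_comp_mono {D : Type*} [Category* D] {P A B X Z : D} {fst : P ⟶ A} {snd : P ⟶ B}
    {a : A ⟶ X} {b : B ⟶ X} (h : IsPullback fst snd a b) (m : X ⟶ Z) [Mono m] :
    IsPullback fst snd (a ≫ m) (b ≫ m) := by
  refine ⟨⟨by rw [← Category.assoc, h.w, Category.assoc]⟩, ⟨PullbackCone.IsLimit.mk _
    (fun s => h.lift s.fst s.snd (by
      rw [← cancel_mono m, Category.assoc, Category.assoc]
      exact s.condition)) (fun s => h.lift_fst _ _ _) (fun s => h.lift_snd _ _ _) ?_⟩⟩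
  intro s l h1 h2
  apply h.hom_ext
  · rw [h1, h.lift_fst]
  · rw [h2, h.lift_snd]

/-- the base map of the wide pullback of the empty family is an isomorphism. -/
instance isIso_base_zero {ι : Type w} {U : C} (Ui : ι → C) (g : ∀ i, Ui i ⟶ U) (c : Fin 0 → ι) :
    IsIso (WidePullback.base (fun k : Fin 0 => g (c k))) := by
  refine ⟨WidePullback.lift (𝟙 U) (fun k => k.elim0) (fun k => k.elim0), ?_, ?_⟩
  · apply WidePullback.hom_ext
    · intro k
      exact k.elim0
    · rw [Category.assoc, WidePullback.lift_base, Category.comp_id, Category.id_comp]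
  · rw [WidePullback.lift_base]

/-- Induction principle for the iterated fibre products of a family `g i : Ui i ⟶ U`. -/
theorem widePullback_induction {ι : Type w} {U : C} (Ui : ι → C) (g : ∀ i, Ui i ⟶ U)
    (Q : ∀ ⦃P : C⦄, (P ⟶ U) → Prop)
    (hiso : ∀ ⦃P P' : C⦄ (e : P' ≅ P) (b : P ⟶ U), Q b → Q (e.hom ≫ b))
    (hbase : ∀ i, Q (g i))
    (hstep : ∀ ⦃P : C⦄ (b : P ⟶ U) (i : ι), Q b → Q (pullback.snd b (g i) ≫ g i)) :
    ∀ (n : ℕ) (c : Fin (n + 1) → ι), Q (WidePullback.base (fun k : Fin (n + 1) => g (c k))) := by
  intro n
  induction n with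
  | zero =>
    intro c
    haveI : IsIso (base' Ui g 0 c) := isIso_base_zero Ui g (fun k => c k.castSucc)
    have h2 := hiso (asIso (pullback.snd (base' Ui g 0 c) (g (c (Fin.last 0))))) _
      (hbase (c (Fin.last 0)))
    have h3 := hiso (widePullbackSuccIso Ui g 0 c) _ h2
    rw [asIso_hom] at h3
    rwa [widePullbackSuccIso_hom_snd] at h3
  | succ n ih =>
    intro c
    have h1 := ih (fun k => c k.castSucc)
    have h2 := hstep _ (c (Fin.last (n + 1))) h1
    have h3 := hiso (widePullbackSuccIso Ui g (n + 1) c) _ h2
    rwa [widePullbackSuccIso_hom_snd] at h3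

end Groth.Agent.R2.H83.Cech
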