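-- helper83: a property of sheaves over an algebraic space that descends along Čech coverings and
-- holds for flat lfp affine schemes holds for the space.
import Mathlib
import Groth.Agent.R2.H83Cech
import Groth.Agent.Lib.Helper15LocEss
import Groth.Agent.Lib.Helper15Descent
import Groth.Agent.S9906
import Groth.Agent.S9947

set_option autoImplicit false
set_option backward.isDefEq.respectTransparency.types false
set_option linter.style.haveILetI false
universe u
open CategoryTheory CategoryTheory.Limits AlgebraicGeometry Opposite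
open AlgSp

namespace Groth.Agent.R2.H83.CechDesc

open Groth.Agent.R2.H83.Cech Groth.Agent.Lib.Helper15Descent MorphismProperty

variable {S : Scheme.{u}}

lemma locP_comp_iso (P : MorphismProperty Scheme.{u}) {F G G' : AlgSp.Sp S} (f : F ⟶ G)
    (e : G ≅ G') (hf : AlgSp.LocP P f) : AlgSp.LocP P (f ≫ e.hom) := by
  intro U V a b h ha hb hcomm
  refine hf a (b ≫ e.inv) h ha
    (MorphismProperty.comp_mem _ _ _ hb (repWith_etale_of_isIso e.inv)) ?_
  rw [← Category.assoc, ← hcomm, Category.assoc, Category.assoc, e.hom_inv_id, Category.comp_id]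

/-- postcomposing an fppf covering with an isomorphism. -/
lemma isFppfCover_comp_iso {ι : Type u} {X X' : AlgSp.Sp S} (Y : ι → AlgSp.Sp S)
    (g : ∀ i, Y i ⟶ X) (hg : AlgSp.IsFppfCover Y g) (e : X ≅ X') :
    AlgSp.IsFppfCover Y (fun i => g i ≫ e.hom) := by
  refine ⟨fun i => ⟨locP_comp_iso _ _ e (hg.1 i).1, locP_comp_iso _ _ e (hg.1 i).2⟩, fun x => ?_⟩
  obtain ⟨i, y, hy⟩ := hg.2 (AlgSp.Points.map e.inv x)
  refine ⟨i, y, ?_⟩
  rw [AlgSp.Points.map_comp, hy, ← AlgSp.Points.map_comp, e.inv_hom_id, AlgSp.Points.map_id]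

/-- an open of `T.left` as an object over `S`. -/
noncomputable abbrev opn (T : Over S) (O : T.left.Opens) : Over S := Over.mk (O.ι ≫ T.hom)

/-- the inclusion of an open, over `S`. -/
noncomputable abbrev opnι (T : Over S) (O : T.left.Opens) : opn T O ⟶ T := Over.homMk O.ι rfl

/-- inclusions of opens, over `S`. -/
noncomputable abbrev opnLE (T : Over S) {O O' : T.left.Opens} (h : O ≤ O') : opn T O ⟶ opn T O' :=
  Over.homMk (T.left.homOfLE h) (by
    show T.left.homOfLE h ≫ O'.ι ≫ T.hom = O.ι ≫ T.hom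
    rw [Scheme.homOfLE_ι_assoc])

lemma opnLE_ι (T : Over S) {O O' : T.left.Opens} (h : O ≤ O') :
    opnLE T h ≫ opnι T O' = opnι T O := by
  apply Over.OverMorphism.ext
  exact Scheme.homOfLE_ι _ h

lemma isPullback_opn_inf (T : Over S) (O O' : T.left.Opens) :
    IsPullback (opnLE T (inf_le_left : O ⊓ O' ≤ O)) (opnLE T (inf_le_right : O ⊓ O' ≤ O'))
      (opnι T O) (opnι T O') := by
  refine IsPullback.of_map (Over.forget S) ?_ (isPullback_opens_inf O O')
  rw [opnLE_ι, opnLE_ι]

lemma repWith_etale_opnι (T : Over S) (O : T.left.Opens) :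
    AlgSp.RepWith @Etale ((AlgSp.yon S).map (opnι T O)) :=
  (AlgSp.repWith_yon_map_iff @Etale _).2 (inferInstance : Etale O.ι)

section Main

variable (X : AlgSp.Space S) (P : ∀ ⦃U : AlgSp.Sp S⦄, (U ⟶ X.obj) → Prop)

/-- the Čech descent hypothesis. -/
def CechHyp : Prop :=
  ∀ ⦃U : AlgSp.Sp S⦄ (a : U ⟶ X.obj), AlgSp.IsAlgSpace U →
    ∀ ⦃ι : Type u⦄ (Ui : ι → AlgSp.Sp S) (g : ∀ i, Ui i ⟶ U), (∀ i, AlgSp.IsAlgSpace (Ui i)) →
    AlgSp.IsFppfCover Ui g →
    (∀ (n : ℕ) (c : Fin (n + 1) → ι),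
      P (WidePullback.base (fun k : Fin (n + 1) => g (c k)) ≫ a)) → P a

/-- `P` holds for all flat lfp sheaves over `X` isomorphic to a scheme in the class `𝒯`. -/
def Claim (𝒯 : Over S → Prop) : Prop :=
  ∀ ⦃W : AlgSp.Sp S⦄ (b : W ⟶ X.obj) (T : Over S) (_ : W ≅ (AlgSp.yon S).obj T), 𝒯 T →
    AlgSp.LocP @Flat b → AlgSp.LocP @LocallyOfFinitePresentation b → P b

variable {X P}

/-- passing from a class of schemes to the schemes with an open covering all of whose finite
intersections are in the class. -/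
theorem step (hP : CechHyp X P) (𝒯₁ : Over S → Prop) (hC1 : Claim X P 𝒯₁)
    (T : Over S) (good : T.left.Opens → Prop) (hgood : ∀ O, good O → 𝒯₁ (opn T O))
    {ι : Type u} (O : ι → T.left.Opens) (hcov : ∀ x : T.left, ∃ i, x ∈ O i)
    (hbase : ∀ i, good (O i)) (hinf : ∀ O' i, good O' → good (O' ⊓ O i))
    ⦃W : AlgSp.Sp S⦄ (b : W ⟶ X.obj) (e : W ≅ (AlgSp.yon S).obj T)
    (hfl : AlgSp.LocP @Flat b) (hfp : AlgSp.LocP @LocallyOfFinitePresentation b) : P b := by
  have hW : AlgSp.IsAlgSpace W := (AlgSp.IsAlgSpace.yon_obj T).of_iso e.symm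
  have hcover : AlgSp.IsFppfCover (fun i => (AlgSp.yon S).obj (opn T (O i)))
      (fun i => (AlgSp.yon S).map (opnι T (O i)) ≫ e.inv) := by
    refine isFppfCover_comp_iso _ _ ?_ e.symm
    refine Groth.Agent.Lib.Helper15LocEss.isFppfCover_of_schemes (fun i => opn T (O i))
      (fun i => opnι T (O i)) (fun i => (inferInstance : Flat (O i).ι))
      (fun i => (inferInstance : LocallyOfFinitePresentation (O i).ι)) (fun x => ?_)
    obtain ⟨i, hi⟩ := hcov x
    refine ⟨i, ?_⟩
    show x ∈ Set.range (O i).ι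
    rw [Scheme.Opens.range_ι]
    exact hi
  refine hP b hW _ _ (fun i => AlgSp.IsAlgSpace.yon_obj _) hcover ?_
  -- the iterated fibre products are opens of `T`
  have key := widePullback_induction (C := AlgSp.Sp S)
    (fun i => (AlgSp.yon S).obj (opn T (O i)))
    (fun i => (AlgSp.yon S).map (opnι T (O i)) ≫ e.inv)
    (fun P' b' => ∃ (O' : T.left.Opens) (e' : P' ≅ (AlgSp.yon S).obj (opn T O')),
      good O' ∧ e'.hom ≫ (AlgSp.yon S).map (opnι T O') ≫ e.inv = b')
    (by
      rintro P₁ P₂ ε b' ⟨O', e', hO', rfl⟩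
      exact ⟨O', ε ≪≫ e', hO', by rw [Iso.trans_hom, Category.assoc]⟩)
    (fun i => ⟨O i, Iso.refl _, hbase i, by rw [Iso.refl_hom, Category.id_comp]⟩)
    (by
      rintro P₁ b' i ⟨O', e', hO', rfl⟩
      have sq1 := (isPullback_opn_inf T O' (O i)).map (AlgSp.yon S)
      have sq2 : IsPullback ((AlgSp.yon S).map (opnLE T (inf_le_left : O' ⊓ O i ≤ O')))
          ((AlgSp.yon S).map (opnLE T (inf_le_right : O' ⊓ O i ≤ O i)))
          ((AlgSp.yon S).map (opnι T O') ≫ e.inv) ((AlgSp.yon S).map (opnι T (O i)) ≫ e.inv) :=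
        isPullback_comp_mono sq1 e.inv
      have sq3 : IsPullback ((AlgSp.yon S).map (opnLE T (inf_le_left : O' ⊓ O i ≤ O')) ≫ e'.inv)
          ((AlgSp.yon S).map (opnLE T (inf_le_right : O' ⊓ O i ≤ O i)))
          (e'.hom ≫ (AlgSp.yon S).map (opnι T O') ≫ e.inv)
          ((AlgSp.yon S).map (opnι T (O i)) ≫ e.inv) :=
        IsPullback.of_iso sq2 (Iso.refl _) e'.symm (Iso.refl _) (Iso.refl _) (by simp) (by simp)
          (by simp) (by simp)
      refine ⟨O' ⊓ O i, sq3.isoPullback.symm, hinf O' i hO', ?_⟩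
      rw [Iso.symm_hom, ← sq3.isoPullback_inv_snd, Category.assoc]
      congr 1
      rw [← Category.assoc, ← Functor.map_comp, opnLE_ι])
  intro n c
  obtain ⟨O', e', hO', hb'⟩ := key n c
  have het : AlgSp.RepWith @Etale (WidePullback.base
      (fun k : Fin (n + 1) => (AlgSp.yon S).map (opnι T (O (c k))) ≫ e.inv)) := by
    rw [← hb']
    exact MorphismProperty.comp_mem _ _ _ (repWith_etale_of_isIso e'.hom)
      (MorphismProperty.comp_mem _ _ _ (repWith_etale_opnι T O') (repWith_etale_of_isIso e.inv))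
  exact hC1 _ (opn T O') e' (hgood O' hO') (locP_precomp_etale _ _ b het hfl)
    (locP_precomp_etale _ _ b het hfp)

/-- from all schemes to the algebraic space itself. -/
theorem final (hP : CechHyp X P) (hC : Claim X P (fun _ => True)) : P (𝟙 X.obj) := by
  obtain ⟨V, v, hv, hvs⟩ := X.property.atlas
  have hflat : ∀ {A B : Scheme.{u}} (g : A ⟶ B), Etale g → Flat g :=
    fun g hg => by haveI := hg; infer_instance
  have hlfp : ∀ {A B : Scheme.{u}} (g : A ⟶ B), Etale g → LocallyOfFinitePresentation g :=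
    fun g hg => by haveI := hg; infer_instance
  have hcover : AlgSp.IsFppfCover (fun _ : PUnit.{u + 1} => (AlgSp.yon S).obj V) (fun _ => v) :=
    ⟨fun _ => ⟨Groth.Agent.S9947.locP_of_repWith_etale @Flat hflat v hv,
      Groth.Agent.S9947.locP_of_repWith_etale @LocallyOfFinitePresentation hlfp v hv⟩,
     fun x => ⟨PUnit.unit, Groth.Agent.S9906.surjective_map_of_repWith v hvs x⟩⟩
  refine hP (𝟙 X.obj) X.property _ _ (fun _ => AlgSp.IsAlgSpace.yon_obj V) hcover ?_
  have key := widePullback_induction (C := AlgSp.Sp S)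
    (fun _ : PUnit.{u + 1} => (AlgSp.yon S).obj V) (fun _ => v)
    (fun P' b' => AlgSp.RepWith @Etale b' ∧ ∃ (T : Over S), Nonempty (P' ≅ (AlgSp.yon S).obj T))
    (by
      rintro P₁ P₂ ε b' ⟨hb', T, ⟨e'⟩⟩
      exact ⟨MorphismProperty.comp_mem _ _ _ (repWith_etale_of_isIso ε.hom) hb', T, ⟨ε ≪≫ e'⟩⟩)
    (fun _ => ⟨hv, V, ⟨Iso.refl _⟩⟩)
    (by
      rintro P₁ b' _ ⟨hb', T, ⟨e'⟩⟩
      refine ⟨MorphismProperty.comp_mem _ _ _ (MorphismProperty.pullback_snd _ _ hb') hv, ?_⟩
      obtain ⟨A, snd, fst, sq⟩ := hv.1 (e'.inv ≫ b')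
      have sq' : IsPullback fst ((AlgSp.yon S).map snd ≫ e'.inv) v b' :=
        IsPullback.of_iso sq (Iso.refl _) (Iso.refl _) e'.symm (Iso.refl _) (by simp) (by simp)
          (by simp) (by simp)
      exact ⟨A, ⟨sq'.flip.isoPullback.symm⟩⟩)
  intro n c
  rw [Category.comp_id]
  obtain ⟨het, T, ⟨e'⟩⟩ := key n c
  exact hC _ T e' trivial (Groth.Agent.S9947.locP_of_repWith_etale @Flat hflat _ het)
    (Groth.Agent.S9947.locP_of_repWith_etale @LocallyOfFinitePresentation hlfp _ het)

lemma exists_affineOpen_mem (Y : Scheme.{u}) (x : Y) : ∃ i : Y.affineOpens, x ∈ i.1 := by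
  obtain ⟨U, hU, hxU, -⟩ := exists_isAffineOpen_mem_and_subset (x := x) (U := ⊤) trivial
  exact ⟨⟨U, hU⟩, hxU⟩

/-- a property of sheaves over an algebraic space `X` that descends along Čech coverings and holds
for flat lfp affine schemes over `X` holds for `X`. -/
theorem main (hP : CechHyp X P) (haff : Claim X P (fun T => IsAffine T.left)) : P (𝟙 X.obj) := by
  -- schemes with affine diagonal
  have hC2 : Claim X P (fun T => IsAffineHom (pullback.diagonal (terminal.from T.left))) := by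
    intro W b T e hT hfl hfp
    haveI := hT
    exact step hP _ haff T (fun O => IsAffineOpen O) (fun O hO => hO)
      (ι := T.left.affineOpens) (fun i => i.1) (exists_affineOpen_mem T.left) (fun i => i.2)
      (fun O' i hO' => hO'.inf i.2) b e hfl hfp
  -- all schemes
  have hC3 : Claim X P (fun _ => True) := by
    intro W b T e _ hfl hfp
    refine step hP _ hC2 T (fun O => ∃ V : T.left.Opens, IsAffineOpen V ∧ O ≤ V) ?_
      (ι := T.left.affineOpens) (fun i => i.1) (exists_affineOpen_mem T.left)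
      (fun i => ⟨i.1, i.2, le_rfl⟩)
      (fun O' i ⟨V, hV, hle⟩ => ⟨V, hV, inf_le_left.trans hle⟩) b e hfl hfp
    rintro O ⟨V, hV, hle⟩
    show IsAffineHom (pullback.diagonal (terminal.from (O : Scheme.{u})))
    haveI : IsAffine (V : Scheme.{u}) := hV
    have h1 : terminal.from (O : Scheme.{u}) =
        T.left.homOfLE hle ≫ terminal.from (V : Scheme.{u}) := Subsingleton.elim _ _
    haveI : IsSeparated (terminal.from (O : Scheme.{u})) := by
      rw [h1]
      infer_instance
    infer_instance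
  exact final hP hC3

end Main

end Groth.Agent.R2.H83.CechDesc
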