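import Mathlib
import Groth.Agent.R2.H83Coprod

/-!
# Coproducts of schemes over `S` and the represented fppf sheaves (helper83)

* `yon_cofan`: `h_{∐ U_i} = ∐ h_{U_i}` (the Yoneda functor to fppf sheaves preserves coproducts
  indexed by a type in the universe of `S`); coprojections are open immersions and cover.
* `nonempty_isColimit_cofan_of_partition`: a scheme over `S` is the coproduct in `Over S` of the
  members of a partition into opens.
* `exists_decomposition`: every `T`-point of `∐ U_i` decomposes `T` into a coproduct of opens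
  `W_i` mapping to `U_i`.
-/

set_option autoImplicit false
set_option backward.isDefEq.respectTransparency.types false
set_option linter.style.haveILetI false
universe u
open CategoryTheory CategoryTheory.Limits AlgebraicGeometry Opposite
open AlgSp

namespace Groth.Agent.R2.H83.CoprodOver

open Groth.Agent.S13210 Groth.Agent.R2.H83.Coprod

variable {S : Scheme.{u}} {ι : Type u} {U : ι → Over S} (c : Cofan U) (hc : IsColimit c)

include hc in
/-- a coproduct of schemes over `S` (indexed by a type in the universe of `S`) is also a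
coproduct of the represented fppf sheaves; the coprojections are open immersions and cover. -/
theorem yon_cofan :
    Nonempty (IsColimit (Cofan.mk ((AlgSp.yon S).obj c.pt) (fun i => (AlgSp.yon S).map (c.inj i)))) ∧
      (∀ i, IsOpenImmersion (c.inj i).left) ∧ ∀ x : c.pt.left, ∃ i, x ∈ Set.range (c.inj i).left := by
  let d : Cofan (fun i => (AlgSp.yon S).obj (U i)) :=
    Cofan.mk (∐ fun i => (AlgSp.yon S).obj (U i)) (Sigma.ι _)
  have hd : IsColimit d := coproductIsCoproduct _
  obtain ⟨W, e, k, hk, hko, hkcov⟩ := exists_iso_yon_of_cofan d hd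
  let φ : c.pt ⟶ W := Cofan.IsColimit.desc hc k
  have hφ : ∀ i, c.inj i ≫ φ = k i := fun i => Cofan.IsColimit.fac hc k i
  let ψ' : d.pt ⟶ (AlgSp.yon S).obj c.pt :=
    Cofan.IsColimit.desc hd (fun i => (AlgSp.yon S).map (c.inj i))
  have hψ' : ∀ i, d.inj i ≫ ψ' = (AlgSp.yon S).map (c.inj i) := fun i =>
    Cofan.IsColimit.fac hd _ i
  obtain ⟨ψ₀, hψ₀⟩ := (AlgSp.yon S).map_surjective (e.hom ≫ ψ')
  have h1 : φ ≫ ψ₀ = 𝟙 c.pt := by
    refine Cofan.IsColimit.hom_ext hc _ _ (fun i => ?_)
    rw [← Category.assoc, hφ, Category.comp_id]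
    apply (AlgSp.yon S).map_injective
    rw [Functor.map_comp, hψ₀, ← Category.assoc, hk, hψ']
  have h2' : ψ' ≫ (AlgSp.yon S).map φ = e.inv := by
    refine Cofan.IsColimit.hom_ext hd _ _ (fun i => ?_)
    rw [← Category.assoc, hψ', ← Functor.map_comp, hφ, ← hk, Category.assoc, e.hom_inv_id,
      Category.comp_id]
  have h2 : ψ₀ ≫ φ = 𝟙 W := by
    apply (AlgSp.yon S).map_injective
    rw [Functor.map_comp, hψ₀, Category.assoc, h2', e.hom_inv_id, CategoryTheory.Functor.map_id]
  let E : c.pt ≅ W := ⟨φ, ψ₀, h1, h2⟩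
  refine ⟨?_, fun i => ?_, fun x => ?_⟩
  · -- transport the colimit along the iso `yon c.pt ≅ d.pt`
    let e' : (AlgSp.yon S).obj c.pt ≅ d.pt := (AlgSp.yon S).mapIso E ≪≫ e
    have he' : ∀ i, (AlgSp.yon S).map (c.inj i) ≫ e'.hom = d.inj i := by
      intro i
      show (AlgSp.yon S).map (c.inj i) ≫ (AlgSp.yon S).map φ ≫ e.hom = _
      rw [← Category.assoc, ← Functor.map_comp, hφ, hk]
    refine ⟨IsColimit.ofIsoColimit hd (Cofan.ext e'.symm (fun i => ?_))⟩
    show d.inj i ≫ e'.inv = (AlgSp.yon S).map (c.inj i)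
    rw [← he' i, Category.assoc, e'.hom_inv_id, Category.comp_id]
  · have : (c.inj i).left = (k i).left ≫ ψ₀.left := by
      rw [← Over.comp_left, ← hφ, Category.assoc, h1, Category.comp_id]
    rw [this]
    haveI := hko i
    haveI : IsIso ψ₀ := ⟨φ, h2, h1⟩
    haveI : IsIso ψ₀.left := inferInstanceAs (IsIso ((Over.forget S).map ψ₀))
    infer_instance
  · obtain ⟨i, y, hy⟩ := hkcov (φ.left x)
    refine ⟨i, y, ?_⟩
    have h3 : (c.inj i).left ≫ φ.left = (k i).left := by rw [← Over.comp_left, hφ]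
    have h4 : φ.left ((c.inj i).left y) = φ.left x := by
      rw [← Scheme.Hom.comp_apply, h3, hy]
    have h6 : φ.left ≫ ψ₀.left = 𝟙 _ := by rw [← Over.comp_left, h1]; rfl
    have h7 : ∀ z : c.pt.left, ψ₀.left (φ.left z) = z := fun z => by
      rw [← Scheme.Hom.comp_apply, h6]; rfl
    rw [← h7 ((c.inj i).left y), h4, h7]

end Groth.Agent.R2.H83.CoprodOver

namespace Groth.Agent.R2.H83.CoprodOver

open Groth.Agent.S13210 Groth.Agent.R2.H83.Coprod

variable {S : Scheme.{u}}

/-- the inclusion of an open subscheme, over `S`. -/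
abbrev incl (T : Over S) (W : T.left.Opens) : Over.mk (W.ι ≫ T.hom) ⟶ T := Over.homMk W.ι

/-- a scheme over `S` is the coproduct (in `Over S`) of the members of a partition into opens. -/
theorem nonempty_isColimit_cofan_of_partition {ι : Type u} (T : Over S) (W : ι → T.left.Opens)
    (hd : ∀ i j, i ≠ j → Disjoint (W i) (W j)) (hcov : ⨆ i, W i = ⊤) :
    Nonempty (IsColimit (Cofan.mk T
      (fun i => incl T (W i)))) := by
  obtain ⟨h⟩ := nonempty_isColimit_cofanMk_of (fun i => (W i).ι) (by
      simp only [Scheme.Opens.opensRange_ι]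
      exact hcov) (by
      intro i j hij
      simp only [Function.onFun, Scheme.Opens.opensRange_ι]
      exact hd i j hij)
  exact ⟨isColimitOfReflects (Over.forget S)
    ((isColimitMapCoconeCofanMkEquiv (Over.forget S) _ _).symm h)⟩

variable {ι : Type u} {U : ι → Over S} (c : Cofan U) (hc : IsColimit c)

include hc in
/-- decomposition of a `T`-point of a coproduct of schemes over `S`. -/
theorem exists_decomposition {T : Over S} (r : T ⟶ c.pt) :
    ∃ (W : ι → T.left.Opens) (α : ∀ i, Over.mk ((W i).ι ≫ T.hom) ⟶ U i),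
      (∀ i j, i ≠ j → Disjoint (W i) (W j)) ∧ (⨆ i, W i = ⊤) ∧
      (∀ i, incl T (W i) ≫ r = α i ≫ c.inj i) ∧
      Nonempty (IsColimit (Cofan.mk T
        (fun i => incl T (W i)))) := by
  obtain ⟨⟨hy⟩, -, -⟩ := yon_cofan c hc
  obtain ⟨W, hd, hcov, hW⟩ := Groth.Agent.S9878.exists_clopen_decomposition _ hy
    ((AlgSp.yon S).map r)
  choose a sq using hW
  have hα : ∀ i, ∃ α : Over.mk ((W i).ι ≫ T.hom) ⟶ U i, (AlgSp.yon S).map α = a i := fun i =>
    (AlgSp.yon S).map_surjective (a i)
  choose α hα using hα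
  refine ⟨W, α, hd, hcov, fun i => ?_, nonempty_isColimit_cofan_of_partition T W hd hcov⟩
  apply (AlgSp.yon S).map_injective
  rw [Functor.map_comp, Functor.map_comp, hα]
  exact (sq i).w.symm

end Groth.Agent.R2.H83.CoprodOver
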