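-- helper83: lifting an integral curve along a surjective morphism of proper schemes over a field.
import Mathlib
import Groth.Agent.Lib.Helper4DimFormulaW
import Groth.Agent.Lib.Helper4DimFormulaAL
import Groth.Agent.Lib.Helper10RedInd

set_option autoImplicit false
set_option linter.style.haveILetI false

universe u

open AlgebraicGeometry CategoryTheory TopologicalSpace

namespace Groth.Agent.R2.H83.CurveLift

open Groth.Agent.Lib.Helper4.VarDim Groth.Agent.Lib.Helper4.FibDim
  Groth.Agent.Lib.Helper4.DimFormula

attribute [local instance] Curv2.resAlgebra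

section

variable {X Y : Scheme.{u}} (f : Y ⟶ X) [LocallyOfFiniteType f]

/-- A closed point of a fibre has residue field algebraic over that of its image. -/
theorem ptTrdeg_fiberι_eq_zero (η : X) (z : f.fiber η) (hz : IsClosed ({z} : Set (f.fiber η))) :
    ptTrdeg f (f.fiberι η z) = 0 := by
  letI : (f.fiber η).Over (Spec (CommRingCat.of (X.residueField η))) :=
    ⟨f.fiberToSpecResidueField η⟩
  haveI : LocallyOfFiniteType ((f.fiber η) ↘ Spec (CommRingCat.of (X.residueField η))) :=
    locallyOfFiniteType_fiberToSpecResidueField f _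
  rw [← trdegNat_eq_ptTrdeg f η z]
  exact trdegNat_eq_of_trdeg_eq _ _ z 0 (by
    rw [trdeg_eq_zero_of_isClosed (X.residueField η) (f.fiber η) z hz]
    simp)

end

theorem irreducibleSpace_subscheme_vanishingIdeal_closure {Y : Scheme.{u}} (y : Y) :
    IrreducibleSpace
      (Scheme.IdealSheafData.vanishingIdeal ⟨closure {y}, isClosed_closure⟩).subscheme := by
  set I := Scheme.IdealSheafData.vanishingIdeal (X := Y) ⟨closure {y}, isClosed_closure⟩ with hI
  have hr : Set.range I.subschemeι = closure {y} := by
    rw [Scheme.IdealSheafData.range_subschemeι, Scheme.IdealSheafData.coe_support_vanishingIdeal]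
    rfl
  obtain ⟨ξ, hξ⟩ : y ∈ Set.range I.subschemeι := hr ▸ subset_closure rfl
  rw [irreducibleSpace_def]
  have h1 : closure ({ξ} : Set I.subscheme) = Set.univ := by
    rw [I.subschemeι.isEmbedding.closure_eq_preimage_closure_image, Set.image_singleton, hξ, ← hr]
    exact Set.preimage_range _
  change IsIrreducible (Set.univ : Set I.subscheme)
  rw [← h1]
  exact isIrreducible_singleton.closure

theorem main (k : Type u) [Field k] (X Y : Scheme.{u})
    [X.Over (Spec (CommRingCat.of k))] [IsProper (X ↘ (Spec (CommRingCat.of k)))]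
    [Y.Over (Spec (CommRingCat.of k))] [IsProper (Y ↘ (Spec (CommRingCat.of k)))]
    (f : Y ⟶ X) (hf : f ≫ (X ↘ (Spec (CommRingCat.of k))) = Y ↘ (Spec (CommRingCat.of k)))
    [Surjective f]
    (C : X.IdealSheafData) [IsIntegral C.subscheme]
    (hC : topologicalKrullDim (C.support : Set X) = 1) :
    ∃ C' : Y.IdealSheafData, IsIntegral C'.subscheme ∧
      topologicalKrullDim (C'.support : Set Y) = 1 ∧
      f.base '' (C'.support : Set Y) = (C.support : Set X) := by
  haveI : LocallyOfFiniteType f := locallyOfFiniteType_of_over k f hf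
  haveI : IsProper f := by
    haveI : IsProper (f ≫ (X ↘ (Spec (CommRingCat.of k)))) := by rw [hf]; infer_instance
    exact IsProper.of_comp f (X ↘ (Spec (CommRingCat.of k)))
  -- the generic point of `C`
  have hirr : IsIrreducible (C.support : Set X) := by
    rw [← C.range_subschemeι, ← Set.image_univ]
    exact (IrreducibleSpace.isIrreducible_univ _).image _ C.subschemeι.continuous.continuousOn
  obtain ⟨η, hη⟩ := QuasiSober.sober hirr C.support.isClosed
  have h1 : trdegNat k X η = 1 := by
    have h := topologicalKrullDim_closure_singleton k X η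
    rw [hη.def, hC] at h
    exact_mod_cast h.symm
  -- a closed point of the fibre over `η`
  obtain ⟨y0, hy0⟩ := f.surjective η
  subst hy0
  obtain ⟨z, -, hz⟩ := nonempty_inter_closedPoints (X := f.fiber (f.base y0)) (Z := Set.univ)
    ⟨f.asFiber y0, trivial⟩ isOpen_univ.isLocallyClosed
  have hz' : IsClosed ({z} : Set (f.fiber (f.base y0))) := hz
  set y := f.fiberι (f.base y0) z with hy
  have hfy : f.base y = f.base y0 := by
    have : y ∈ Set.range (f.fiberι (f.base y0)) := ⟨z, rfl⟩
    rw [f.range_fiberι] at this
    exact this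
  have h2 : ptTrdeg f y = 0 := ptTrdeg_fiberι_eq_zero f _ z hz'
  have h3 : trdegNat k Y y = 1 := by
    rw [trdegNat_eq_add_ptTrdeg k f hf y, hfy, h1, h2]
  have h4 : topologicalKrullDim (closure ({y} : Set Y)) = 1 := by
    rw [topologicalKrullDim_closure_singleton k Y y, h3]
    rfl
  refine ⟨Scheme.IdealSheafData.vanishingIdeal ⟨closure {y}, isClosed_closure⟩, ?_, ?_, ?_⟩
  · haveI := Groth.Agent.Lib.Helper10.RedInd.isReduced_subscheme_vanishingIdeal
      (X := Y) ⟨closure {y}, isClosed_closure⟩
    haveI := irreducibleSpace_subscheme_vanishingIdeal_closure y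
    exact isIntegral_of_irreducibleSpace_of_isReduced _
  · rw [Scheme.IdealSheafData.coe_support_vanishingIdeal]
    exact h4
  · rw [Scheme.IdealSheafData.coe_support_vanishingIdeal]
    change f.base '' closure {y} = _
    rw [← hη.def, ← f.isClosedMap.closure_image_eq_of_continuous f.continuous, Set.image_singleton,
      hfy]

end Groth.Agent.R2.H83.CurveLift
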