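-- helper83: the diagonal of a product of functors over a common base.
import Mathlib
import Groth.Agent.Lib.Helper15DiagOfComp
import Groth.Agent.Lib.Helper15FpSwap

set_option autoImplicit false
set_option backward.isDefEq.respectTransparency false
set_option backward.isDefEq.respectTransparency.types false
open CategoryTheory CategoryTheory.Functor CategoryTheory.Limits Opposite AlgebraicGeometry

universe u

namespace Groth.Agent.R2.H83.DiagProd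

open Groth.Agent.Lib.Helper17 Groth.Agent.Lib.Helper15PshFib Groth.Agent.Lib.Helper15RepComp
  Groth.Agent.Lib.Helper15RepPsh Groth.Agent.Lib.Helper15DiagBase Groth.Agent.Lib.Helper15DiagRepSp
  Groth.Agent.Lib.Helper15Descent Groth.Agent.Lib.Helper15DiagLft
  Groth.Agent.Lib.Helper15.DiagBC Groth.Agent.Lib.Helper15FpSwap Groth.Agent.Lib.Helper15DiagOfComp

section Iso

variable {S : Scheme.{u}} {𝒜 ℬ : AlgSt.Cat S}

/-- The diagonals of isomorphic functors are representable with `Q` simultaneously. -/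
theorem repByAlgSpWith_diag_of_iso (Q : MorphismProperty (AlgSp.Sp S)) {F F' : 𝒜 ⥤ᵇ ℬ}
    (φ : F' ≅ F) :
    AlgSt.RepByAlgSpWith Q (FibCat.diag F) ↔ AlgSt.RepByAlgSpWith Q (FibCat.diag F') := by
  have iB := IsEquivOver.isEquivalence (BasedFunctor.id ℬ) (isEquivOver_id _)
  let φ' : BasedFunctor.comp F' (BasedFunctor.id ℬ) ≅ BasedFunctor.comp (BasedFunctor.id 𝒜) F := φ
  let M : FibCat.fp F' F' ⥤ᵇ FibCat.fp F F :=
    fpMap F F F' F' (BasedFunctor.id 𝒜) (BasedFunctor.id 𝒜) (BasedFunctor.id ℬ) φ' φ'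
  have hM : FibCat.IsEquivOver M :=
    isEquivOver_fpMap F F F' F' (BasedFunctor.id 𝒜) (BasedFunctor.id 𝒜) (BasedFunctor.id ℬ) φ' φ'
      (isEquivOver_id _) (isEquivOver_id _)
  refine repByAlgSpWith_of_square Q (FibCat.diag F) (FibCat.diag F') (BasedFunctor.id 𝒜) M
    (isEquivOver_id _) hM ?_
  exact fpIsoMk F F (H := BasedFunctor.comp (FibCat.diag F') M)
    (K := BasedFunctor.comp (BasedFunctor.id 𝒜) (FibCat.diag F)) (Iso.refl _) (Iso.refl _) (fun a => by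
      change F.map (𝟙 _) ≫ 𝟙 _ =
        ((bApp φ' a).inv ≫ (BasedFunctor.id ℬ).map (𝟙 _) ≫ (bApp φ' a).hom) ≫ F.map (𝟙 _)
      rw [F.toFunctor.map_id]
      change 𝟙 _ ≫ 𝟙 _ = ((bApp φ' a).inv ≫ 𝟙 _ ≫ (bApp φ' a).hom) ≫ 𝟙 _
      simp)

end Iso

section Prod

variable {S : Scheme.{u}} {𝒳 𝒳' 𝒴 𝒴' 𝒵 : AlgSt.Cat S}
  (p' : 𝒳' ⥤ᵇ 𝒵) (q' : 𝒴' ⥤ᵇ 𝒵) (f : 𝒳 ⥤ᵇ 𝒳') (g : 𝒴 ⥤ᵇ 𝒴')

/-- The projection `𝒳' ×_𝒵 𝒴 ⟶ 𝒳'`. -/
abbrev πM : FibCat.fp p' (BasedFunctor.comp g q') ⥤ᵇ 𝒳' := FibCat.fpFst p' (BasedFunctor.comp g q')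

/-- `id × g : 𝒳' ×_𝒵 𝒴 ⟶ 𝒳' ×_𝒵 𝒴'`. -/
def F₂ : FibCat.fp p' (BasedFunctor.comp g q') ⥤ᵇ FibCat.fp p' q' :=
  FibCat.fpLift (FibCat.fpFst p' (BasedFunctor.comp g q'))
    (BasedFunctor.comp (FibCat.fpSnd p' (BasedFunctor.comp g q')) g)
    (FibCat.fpIso p' (BasedFunctor.comp g q'))

/-- `f × id`, seen on `𝒳 ×_{𝒳'} (𝒳' ×_𝒵 𝒴)`. -/
abbrev G₁ : FibCat.fp f (πM p' q' g) ⥤ᵇ FibCat.fp p' (BasedFunctor.comp g q') :=
  FibCat.fpSnd f (πM p' q' g)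

/-- The base change of `g` to `𝒳' ×_𝒵 𝒴'`. -/
abbrev G₂ : FibCat.fp (FibCat.fpSnd p' q') g ⥤ᵇ FibCat.fp p' q' :=
  FibCat.fpFst (FibCat.fpSnd p' q') g

/-- `pasteR ≫ (id × g)` is the base change of `g`. -/
def isoF₂ : BasedFunctor.comp (pasteR p' g q') (F₂ p' q' g) ≅ G₂ p' q' g :=
  fpIsoMk p' q' (H := BasedFunctor.comp (pasteR p' g q') (F₂ p' q' g)) (K := G₂ p' q' g)
    (Iso.refl _) (FibCat.fpIso (FibCat.fpSnd p' q') g).symm (fun s => by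
      change p'.map (𝟙 _) ≫ s.obj.fst.obj.iso.hom =
        (s.obj.fst.obj.iso.hom ≫ q'.map s.obj.iso.hom) ≫ q'.map s.obj.iso.inv
      rw [p'.toFunctor.map_id, Category.assoc, ← q'.toFunctor.map_comp, Iso.hom_inv_id,
        q'.toFunctor.map_id]
      simp)

theorem repByAlgSpWith_diag_F₂ (Q : MorphismProperty (AlgSp.Sp S))
    (hg : AlgSt.RepByAlgSpWith Q (FibCat.diag g)) :
    AlgSt.RepByAlgSpWith Q (FibCat.diag (F₂ p' q' g)) := by
  have h1 : AlgSt.RepByAlgSpWith Q (FibCat.diag (G₂ p' q' g)) :=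
    repByAlgSpWith_diag_fpFst Q g (FibCat.fpSnd p' q') hg
  have h2 : AlgSt.RepByAlgSpWith Q (FibCat.diag (BasedFunctor.comp (pasteR p' g q') (F₂ p' q' g))) :=
    (repByAlgSpWith_diag_of_iso Q (isoF₂ p' q' g)).1 h1
  exact (repByAlgSpWith_diag_equiv_source Q (pasteR p' g q') (isEquivOver_pasteR p' g q')
    (F₂ p' q' g)).2 h2

theorem repByAlgSpWith_diag_G₁ (Q : MorphismProperty (AlgSp.Sp S))
    (hf : AlgSt.RepByAlgSpWith Q (FibCat.diag f)) :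
    AlgSt.RepByAlgSpWith Q (FibCat.diag (G₁ p' q' f g)) := by
  have h1 : AlgSt.RepByAlgSpWith Q (FibCat.diag (FibCat.fpFst (πM p' q' g) f)) :=
    repByAlgSpWith_diag_fpFst Q f (πM p' q' g) hf
  exact (repByAlgSpWith_diag_equiv_source Q (fpSwap f (πM p' q' g))
    (isEquivOver_fpSwap f (πM p' q' g)) (FibCat.fpFst (πM p' q' g) f)).1 h1

variable (e : BasedFunctor.comp (BasedFunctor.comp (FibCat.fpFst (BasedFunctor.comp f p') (BasedFunctor.comp g q')) f) p' ≅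
      BasedFunctor.comp (BasedFunctor.comp (FibCat.fpSnd (BasedFunctor.comp f p') (BasedFunctor.comp g q')) g) q')

/-- The product functor `f ×_𝒵 g`, in the form of the statement. -/
abbrev prodF : FibCat.fp (BasedFunctor.comp f p') (BasedFunctor.comp g q') ⥤ᵇ FibCat.fp p' q' :=
  FibCat.fpLift (BasedFunctor.comp (FibCat.fpFst (BasedFunctor.comp f p') (BasedFunctor.comp g q')) f)
    (BasedFunctor.comp (FibCat.fpSnd (BasedFunctor.comp f p') (BasedFunctor.comp g q')) g) e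

/-- `pasteL ≫ (f × g) ≅ (f × id) ≫ (id × g)`. -/
def isoProd (he : ∀ x, e.hom.toNatTrans.app x = x.obj.iso.hom) :
    BasedFunctor.comp (pasteL (BasedFunctor.comp g q') p' f) (prodF p' q' f g e) ≅
    BasedFunctor.comp (G₁ p' q' f g) (F₂ p' q' g) :=
  fpIsoMk p' q' (H := BasedFunctor.comp (pasteL (BasedFunctor.comp g q') p' f) (prodF p' q' f g e))
    (K := BasedFunctor.comp (G₁ p' q' f g) (F₂ p' q' g))
    (FibCat.fpIso f (πM p' q' g)) (Iso.refl _) (fun s => by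
      change p'.map s.obj.iso.hom ≫ s.obj.snd.obj.iso.hom =
        e.hom.toNatTrans.app ((pasteL (BasedFunctor.comp g q') p' f).obj s) ≫ q'.map (𝟙 _)
      rw [he, q'.toFunctor.map_id, pasteL_obj_iso_hom]
      exact (Category.comp_id _).symm)

theorem repByAlgSpWith_diag_prodF (he : ∀ x, e.hom.toNatTrans.app x = x.obj.iso.hom)
    (h𝒳 : FibCat.IsFibGrpd 𝒳.p) (h𝒳' : FibCat.IsFibGrpd 𝒳'.p)
    (h𝒴 : FibCat.IsFibGrpd 𝒴.p) (h𝒵 : FibCat.IsFibGrpd 𝒵.p)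
    (P : MorphismProperty (AlgSp.Sp S))
    (hPc : ∀ ⦃X Y Z : AlgSp.Sp S⦄, AlgSp.IsAlgSpace X → AlgSp.IsAlgSpace Y → AlgSp.IsAlgSpace Z →
      ∀ (a : X ⟶ Y) (b : Y ⟶ Z), P a → P b → P (a ≫ b))
    (hP : AlgSp.IsLocalOnBase AlgSp.IsEtCover P)
    (hf : AlgSt.RepByAlgSpWith P (FibCat.diag f)) (hg : AlgSt.RepByAlgSpWith P (FibCat.diag g)) :
    AlgSt.RepByAlgSpWith P (FibCat.diag (prodF p' q' f g e)) := by
  have hM : FibCat.IsFibGrpd (FibCat.fp p' (BasedFunctor.comp g q')).p :=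
    isFibGrpd_fp p' (BasedFunctor.comp g q') h𝒳' h𝒴 h𝒵
  have hA : FibCat.IsFibGrpd (FibCat.fp f (πM p' q' g)).p :=
    isFibGrpd_fp f (πM p' q' g) h𝒳 hM h𝒳'
  have h1 := repByAlgSpWith_diag_G₁ p' q' f g P hf
  have h2 := repByAlgSpWith_diag_F₂ p' q' g P hg
  have h3 : AlgSt.RepByAlgSpWith P
      (FibCat.diag (BasedFunctor.comp (G₁ p' q' f g) (F₂ p' q' g))) :=
    Groth.Agent.Lib.Helper15DiagComp.repByAlgSpWith_diag_comp hA hM P hPc hP _ _ h1 h2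
  have h4 : AlgSt.RepByAlgSpWith P (FibCat.diag
      (BasedFunctor.comp (pasteL (BasedFunctor.comp g q') p' f) (prodF p' q' f g e))) :=
    (repByAlgSpWith_diag_of_iso P (isoProd p' q' f g e he)).1 h3
  exact (repByAlgSpWith_diag_equiv_source P (pasteL (BasedFunctor.comp g q') p' f)
    (isEquivOver_pasteL (BasedFunctor.comp g q') p' f) (prodF p' q' f g e)).2 h4

end Prod

end Groth.Agent.R2.H83.DiagProd
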