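import Mathlib

set_option autoImplicit false
set_option backward.isDefEq.respectTransparency.types false
set_option linter.style.haveILetI false
universe u
open CategoryTheory CategoryTheory.Limits AlgebraicGeometry Opposite

namespace Groth.Agent.R2.H83.Residual

/-- a monomorphism to the spectrum of a field is an open immersion. -/
lemma isOpenImmersion_of_mono_field {P : Scheme.{u}} {F : CommRingCat.{u}} (hF : IsField F)
    (f : P ⟶ Spec F) [Mono f] : IsOpenImmersion f := by
  letI := hF.toField
  by_cases hP : IsEmpty P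
  · infer_instance
  · rw [not_isEmpty_iff] at hP
    haveI : Subsingleton (Spec F) := inferInstanceAs (Subsingleton (PrimeSpectrum F))
    haveI : IsIntegral (Spec F) := inferInstance
    haveI : Flat f := inferInstance
    haveI : Surjective f := ⟨fun y => ⟨hP.some, Subsingleton.elim _ _⟩⟩
    haveI : Subsingleton P := f.injective.subsingleton
    haveI : QuasiCompact f := ⟨fun U _ _ => (Set.toFinite _).isCompact⟩
    haveI := Flat.isIso_of_surjective_of_mono f
    infer_instance

/-- a scheme étale over a field is covered by open spectra of fields. -/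
lemma exists_field_chart {E : Scheme.{u}} {k : CommRingCat.{u}} (hk : IsField k) (f : E ⟶ Spec k)
    [Etale f] (e : E) :
    ∃ (F : CommRingCat.{u}) (_ : IsField F) (j : Spec F ⟶ E), IsOpenImmersion j ∧
      e ∈ Set.range j := by
  letI := hk.toField
  obtain ⟨_, ⟨V, hV : IsAffineOpen V, rfl⟩, heV, -⟩ :=
    E.isBasis_affineOpens.exists_subset_of_mem_open (Set.mem_univ e) isOpen_univ
  set A : CommRingCat.{u} := Γ(E, V) with hA
  set g : Spec A ⟶ E := hV.fromSpec with hg
  have hrange : Set.range g = V := hV.range_fromSpec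
  obtain ⟨a, ha⟩ : e ∈ Set.range g := by rw [hrange]; exact heV
  set φ : k ⟶ A := Spec.preimage (g ≫ f) with hφ
  have hφe : RingHom.Etale φ.hom := by
    refine (HasRingHomProperty.Spec_iff (P := @Etale)).1 ?_
    rw [hφ, Spec.map_preimage]
    infer_instance
  algebraize [φ.hom]
  obtain ⟨I, _, Ai, _, _, eq, -⟩ := (Algebra.Etale.iff_exists_algEquiv_prod k A).mp
    (inferInstance : Algebra.Etale k A)
  let R : I → CommRingCat.{u} := fun i => CommRingCat.of (Ai i)
  let h : Spec (CommRingCat.of (Π i, Ai i)) ⟶ Spec A :=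
    Spec.map (CommRingCat.ofHom eq.toRingEquiv.toRingHom)
  haveI : IsIso (CommRingCat.ofHom eq.toRingEquiv.toRingHom) :=
    (eq.toRingEquiv.toCommRingCatIso).isIso_hom
  haveI : IsIso h := inferInstance
  obtain ⟨b, hb⟩ := h.surjective a
  obtain ⟨y, hy⟩ := (sigmaSpec R).surjective b
  obtain ⟨⟨i, z⟩, hz⟩ := (sigmaMk (fun i => Spec (R i))).surjective y
  rw [sigmaMk_mk] at hz
  refine ⟨R i, Field.toIsField _,
    Spec.map (CommRingCat.ofHom (Pi.evalRingHom _ i)) ≫ h ≫ g, inferInstance, z, ?_⟩
  rw [← ι_sigmaSpec R i]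
  simp only [Scheme.Hom.comp_apply]
  rw [hz, hy, hb, ha]

/-- a monomorphism to a scheme covered by open spectra of fields is an open immersion. -/
lemma isOpenImmersion_of_mono_of_field_charts {P E : Scheme.{u}} (m : P ⟶ E) [Mono m]
    (hE : ∀ e : E, ∃ (F : CommRingCat.{u}) (_ : IsField F) (j : Spec F ⟶ E), IsOpenImmersion j ∧
      e ∈ Set.range j) : IsOpenImmersion m := by
  choose F hF j hj hmem using hE
  haveI := hj
  let 𝒰 : E.OpenCover := {
    I₀ := E, X := fun e => Spec (F e), f := j,
    mem₀ := by
      rw [Scheme.presieve₀_mem_precoverage_iff]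
      exact ⟨fun x ↦ ⟨x, hmem x⟩, inferInstance⟩ }
  refine (IsZariskiLocalAtTarget.iff_of_openCover (P := @IsOpenImmersion) 𝒰).2 fun e => ?_
  haveI : Mono (Scheme.Cover.pullbackHom 𝒰 m e) := by
    unfold Scheme.Cover.pullbackHom
    exact pullback.snd_of_mono
  exact isOpenImmersion_of_mono_field (hF e) _

/-- the base change of a monomorphism to a scheme étale over a field is étale over that field. -/
lemma etale_snd_comp {U K E : Scheme.{u}} {k : CommRingCat.{u}} (hk : IsField k) (ι : K ⟶ U)
    [Mono ι] (e₁ : E ⟶ U) (e₂ : E ⟶ Spec k) [Etale e₂] {P : Scheme.{u}} (t : P ⟶ K) (r : P ⟶ E)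
    (sq : IsPullback t r ι e₁) : Etale (r ≫ e₂) := by
  haveI : Mono r := ⟨fun {W} a b hab => by
    apply sq.hom_ext
    · rw [← cancel_mono ι, Category.assoc, Category.assoc, sq.w, ← Category.assoc, hab,
        Category.assoc]
    · exact hab⟩
  haveI : IsOpenImmersion r :=
    isOpenImmersion_of_mono_of_field_charts r (exists_field_chart hk e₂)
  infer_instance

end Groth.Agent.R2.H83.Residual
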