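import Mathlib
import Groth.Agent.R2.H83Residual1
import Groth.Agent.R2.H59EtQuot
import Groth.Agent.S9906
import Groth.Agent.S9947

set_option autoImplicit false
set_option backward.isDefEq.respectTransparency.types false
set_option linter.style.haveILetI false
universe u
open CategoryTheory CategoryTheory.Limits AlgebraicGeometry Opposite
open AlgSp

namespace Groth.Agent.R2.H83.Residual

variable {S : Scheme.{u}}

section

variable {X : AlgSp.Sp S} {U : Over S} (p : (AlgSp.yon S).obj U ⟶ X) (u : U.left)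

/-- the spectrum of the residue field of a point, as a scheme over `S`. -/
noncomputable abbrev kPt : Over S := Over.mk (U.left.fromSpecResidueField u ≫ U.hom)

/-- the canonical map from the spectrum of the residue field. -/
noncomputable abbrev ιPt : kPt u ⟶ U := Over.homMk (U.left.fromSpecResidueField u) rfl

/-- the field valued point of `X` defined by a point of a chart. -/
noncomputable abbrev ξ : (AlgSp.yon S).obj (kPt u) ⟶ X := (AlgSp.yon S).map (ιPt u) ≫ p

include p in
/-- the kernel pair of a field valued point lying on an étale chart is represented by a scheme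
étale over the field. -/
lemma exists_kernelPair (hp : AlgSp.RepWith @Etale p) :
    ∃ (R : Over S) (t s : R ⟶ kPt u),
      IsPullback ((AlgSp.yon S).map t) ((AlgSp.yon S).map s) (ξ p u) (ξ p u) ∧ Etale s.left := by
  obtain ⟨E, e₂, e₁', sqE⟩ := hp.1 (ξ p u)
  haveI : Etale e₂.left := hp.2 _ _ e₂ sqE
  obtain ⟨e₁, rfl⟩ := (AlgSp.yon S).map_surjective e₁'
  let t : pullback (ιPt u) e₁ ⟶ kPt u := pullback.fst _ _
  let r : pullback (ιPt u) e₁ ⟶ E := pullback.snd _ _
  have h1 : IsPullback ((AlgSp.yon S).map t) ((AlgSp.yon S).map r) ((AlgSp.yon S).map (ιPt u))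
      ((AlgSp.yon S).map e₁) := (IsPullback.of_hasPullback (ιPt u) e₁).map (AlgSp.yon S)
  have h2 := h1.paste_vert sqE
  rw [← Functor.map_comp] at h2
  refine ⟨pullback (ιPt u) e₁, t, r ≫ e₂, h2, ?_⟩
  have h3 : IsPullback t.left r.left (ιPt u).left e₁.left :=
    (IsPullback.of_hasPullback (ιPt u) e₁).map (Over.forget S)
  rw [Over.comp_left]
  exact etale_snd_comp (k := U.left.residueField u) (Field.toIsField _) (ιPt u).left e₁.left
    e₂.left t.left r.left h3

include p in
/-- both projections of any kernel pair of the point are étale. -/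
lemma etale_of_kernelPair (hp : AlgSp.RepWith @Etale p) {R : Over S} (a b : R ⟶ kPt u)
    (h : IsPullback ((AlgSp.yon S).map a) ((AlgSp.yon S).map b) (ξ p u) (ξ p u)) :
    Etale b.left := by
  obtain ⟨R', t, s, h2, hs⟩ := exists_kernelPair p u hp
  let φ := h.isoIsPullback _ _ h2
  obtain ⟨φ', hφ'⟩ := (AlgSp.yon S).map_surjective φ.hom
  have h4 : φ' ≫ s = b := by
    apply (AlgSp.yon S).map_injective
    rw [Functor.map_comp, hφ']
    exact h.isoIsPullback_hom_snd _ _ h2
  haveI : IsIso ((AlgSp.yon S).map φ') := by rw [hφ']; infer_instance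
  haveI : IsIso φ' := isIso_of_reflects_iso φ' (AlgSp.yon S)
  haveI : IsIso φ'.left := inferInstanceAs (IsIso ((Over.forget S).map φ'))
  rw [← h4, Over.comp_left]
  infer_instance

end

end Groth.Agent.R2.H83.Residual

namespace Groth.Agent.R2.H83.Residual

variable {S : Scheme.{u}}

/-- cancelling a monomorphism in a pullback square. -/
lemma isPullback_of_comp_mono {C : Type*} [Category C] {P A B Z X : C} {a : P ⟶ A} {b : P ⟶ B}
    {f : A ⟶ Z} {g : B ⟶ Z} (i : Z ⟶ X) [Mono i] (h : IsPullback a b (f ≫ i) (g ≫ i)) :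
    IsPullback a b f g := by
  refine IsPullback.mk' ?_ ?_ ?_
  · rw [← cancel_mono i, Category.assoc, Category.assoc, h.w]
  · intro T φ φ' h1 h2
    exact h.hom_ext h1 h2
  · intro T a' b' hab
    refine ⟨h.lift a' b' ?_, h.lift_fst _ _ _, h.lift_snd _ _ _⟩
    rw [← Category.assoc, hab, Category.assoc]

/-- **Residual space** of a point of an algebraic space. -/
theorem exists_residualSpace {X : AlgSp.Sp S} (hX : AlgSp.IsAlgSpace X) (x : AlgSp.Points X) :
    ∃ (Z : AlgSp.Sp S) (_ : AlgSp.IsAlgSpace Z) (i : Z ⟶ X), Mono i ∧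
      Set.range (AlgSp.Points.map i) = {x} ∧
      ∃ (k : Type u) (_ : Field k) (str : Spec (CommRingCat.of k) ⟶ S)
        (q : (AlgSp.yon S).obj (Over.mk str) ⟶ Z),
        AlgSp.RepWith @Etale q ∧ AlgSp.RepWith @Surjective q := by
  obtain ⟨U, p, hp, hps⟩ := hX.atlas
  obtain ⟨v, hv⟩ := Groth.Agent.S9906.surjective_map_of_repWith p hps x
  set u : U.left := AlgSp.Points.toScheme U v with hu
  have hvu : v = AlgSp.Points.ofScheme U u := (AlgSp.Points.ofScheme_toScheme U v).symm
  obtain ⟨R, t, s, hpb, hs⟩ := exists_kernelPair p u hp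
  have ht : Etale t.left := etale_of_kernelPair p u hp s t hpb.flip
  set ξ₀ := ξ p u with hξ₀
  let Z : AlgSp.Sp S := Sheaf.image ξ₀
  let π : (AlgSp.yon S).obj (kPt u) ⟶ Z := Sheaf.toImage ξ₀
  let ι : Z ⟶ X := Sheaf.imageι ξ₀
  have hπι : π ≫ ι = ξ₀ := Sheaf.toImage_ι ξ₀
  haveI : Mono ι := inferInstanceAs (Mono (Sheaf.imageι ξ₀))
  haveI : Sheaf.IsLocallySurjective π := inferInstanceAs (Sheaf.IsLocallySurjective (Sheaf.toImage ξ₀))
  have hk : IsPullback ((AlgSp.yon S).map t) ((AlgSp.yon S).map s) π π := by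
    apply isPullback_of_comp_mono ι
    rw [hπι]
    exact hpb
  obtain ⟨hZ, hπe, hπs⟩ := Groth.Agent.R2.H59.EtQuot.isAlgSpace_of_kernelPair s t π hk hs ht
  have hpt : ∀ w : (kPt u).left, AlgSp.Points.map ξ₀ (AlgSp.Points.schemeHomeo (kPt u) w) = x := by
    intro w
    rw [hξ₀, AlgSp.Points.map_comp, AlgSp.Points.map_yon_map_apply]
    have : (ιPt u).left w = u := Scheme.fromSpecResidueField_apply _ _
    rw [this, ← hv, hvu]
    rfl
  refine ⟨Z, hZ, ι, inferInstance, ?_, ↥(U.left.residueField u), inferInstance,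
    U.left.fromSpecResidueField u ≫ U.hom, π, hπe, hπs⟩
  ext y
  simp only [Set.mem_range, Set.mem_singleton_iff]
  constructor
  · rintro ⟨z, rfl⟩
    obtain ⟨w, rfl⟩ := Groth.Agent.S9906.surjective_map_of_repWith π hπs z
    obtain ⟨w', rfl⟩ := (AlgSp.Points.schemeHomeo (kPt u)).surjective w
    rw [← AlgSp.Points.map_comp, hπι]
    exact hpt w'
  · rintro rfl
    obtain ⟨w'⟩ : Nonempty (kPt u).left :=
      inferInstanceAs (Nonempty (PrimeSpectrum (U.left.residueField u)))
    refine ⟨AlgSp.Points.map π (AlgSp.Points.schemeHomeo (kPt u) w'), ?_⟩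
    rw [← AlgSp.Points.map_comp, hπι]
    exact hpt w'

end Groth.Agent.R2.H83.Residual
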