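import Mathlib
import Groth.Agent.R2.H83Residual
import Groth.Agent.R2.H43Quot
import Groth.Agent.S10261
import Groth.Agent.S10176
import Groth.Agent.S9878

set_option autoImplicit false
set_option backward.isDefEq.respectTransparency.types false
set_option linter.style.haveILetI false
universe u
open CategoryTheory CategoryTheory.Limits AlgebraicGeometry Opposite
open AlgSp

namespace Groth.Agent.R2.H83.ElemDist

open Groth.Agent.S13210 Groth.Agent.Lib.Helper12.ZarGlue Groth.Agent.R2.H83.Residual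

variable {S : Scheme.{u}}

/-- maps from a representable sheaf to a sheaf agree if they agree on an fppf covering family. -/
lemma yon_hom_ext_of_cover {T : Over S} {Q : AlgSp.Sp S} (x y : (AlgSp.yon S).obj T ⟶ Q)
    {κ : Type*} (Y : κ → Over S) (g : ∀ k, Y k ⟶ T)
    (hf : ∀ k, Flat (g k).left ∧ LocallyOfFinitePresentation (g k).left)
    (hs : ∀ w : T.left, ∃ k, w ∈ Set.range (g k).left)
    (h : ∀ k, (AlgSp.yon S).map (g k) ≫ x = (AlgSp.yon S).map (g k) ≫ y) : x = y := by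
  apply (yEquiv T Q).injective
  have hsh : Presieve.IsSheaf (AlgSp.J S) Q.obj := (isSheaf_iff_isSheaf_of_type _ _).1 Q.property
  have hcov := Groth.Agent.R2.H43.Quot.ofArrows_mem_J' Y g hf hs
  refine (hsh _ hcov).isSeparatedFor.ext ?_
  rintro Z m ⟨Z', a, b, ⟨k⟩, rfl⟩
  rw [map_yEquiv, map_yEquiv, Functor.map_comp, Category.assoc, Category.assoc, h k]

/-- maps from a sheaf to a sheaf agree if they agree on all points from schemes. -/
lemma hom_ext_of_yon {F Q : AlgSp.Sp S} (c c' : F ⟶ Q)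
    (h : ∀ (T : Over S) (w : (AlgSp.yon S).obj T ⟶ F), w ≫ c = w ≫ c') : c = c' := by
  apply Sheaf.hom_ext
  ext X s
  obtain ⟨T⟩ := X
  have := h T ((yEquiv T F).symm s)
  rw [yEquiv_symm_comp, yEquiv_symm_comp] at this
  exact (yEquiv T Q).symm.injective this

/-- a point of a test scheme whose image lies in the image of a representable map lifts to the
pullback. -/
lemma mem_range_of_isPullback {F G : AlgSp.Sp S} {T T' : Over S} (f : F ⟶ G)
    (w : (AlgSp.yon S).obj T ⟶ G) (pr : (AlgSp.yon S).obj T' ⟶ F) (t : T' ⟶ T)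
    (sq : IsPullback pr ((AlgSp.yon S).map t) f w) (τ : T.left)
    (h : AlgSp.Points.ofPt w τ ∈ Set.range (AlgSp.Points.map f)) : τ ∈ Set.range t.left := by
  obtain ⟨x, hx⟩ := h
  rw [AlgSp.Points.ofPt_eq_map_ofScheme] at hx
  obtain ⟨p, hp1, hp2⟩ := Groth.Agent.S10175.exists_point_of_isPullback sq.flip _ _ hx.symm
  obtain ⟨y, rfl⟩ := (AlgSp.Points.schemeHomeo T').surjective p
  refine ⟨y, ?_⟩
  apply (AlgSp.Points.schemeHomeo T).injective
  rw [← AlgSp.Points.map_yon_map_apply]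
  exact hp1


section Main

variable {U V W P : AlgSp.Sp S} {j : U ⟶ W} {f : V ⟶ W}

/-- the two charts of an elementary distinguished square are jointly surjective on points. -/
lemma mem_range_or (hsq : AlgSp.IsElemDistSq j f) (x : AlgSp.Points W) :
    x ∈ Set.range (AlgSp.Points.map j) ∨ x ∈ Set.range (AlgSp.Points.map f) := by
  obtain ⟨-, -, T', P', i, p₁, p₂, hi, hpb, hiso⟩ := hsq
  by_cases hx : x ∈ Set.range (AlgSp.Points.map j)
  · exact Or.inl hx
  · right
    have hx' : x ∈ Set.range (AlgSp.Points.map i) := by rw [hi.2.1]; exact hx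
    obtain ⟨z, rfl⟩ := hx'
    haveI := hiso
    refine ⟨AlgSp.Points.map p₂ (AlgSp.Points.map (inv p₁) z), ?_⟩
    rw [← AlgSp.Points.map_comp, ← AlgSp.Points.map_comp, ← hpb.w, IsIso.inv_hom_id_assoc]

/-- the two charts of an elementary distinguished square are jointly epimorphic on sheaves. -/
lemma hom_ext (hV : AlgSp.IsAlgSpace V) (hsq : AlgSp.IsElemDistSq j f) {Q : AlgSp.Sp S}
    (c c' : W ⟶ Q) (h1 : j ≫ c = j ≫ c') (h2 : f ≫ c = f ≫ c') : c = c' := by
  apply hom_ext_of_yon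
  intro T w
  have hj := hsq.1
  have hf := hsq.2.1
  obtain ⟨V₀, φ, hφe, hφs⟩ := hV.atlas
  have hφf : AlgSp.RepWith @Etale (φ ≫ f) := hf φ hφe
  obtain ⟨TU, tU, prU, sqU⟩ := hj.1 w
  haveI : IsOpenImmersion tU.left := hj.2 _ _ tU sqU
  obtain ⟨TV, tV, prV, sqV⟩ := hφf.1 w
  haveI : Etale tV.left := hφf.2 _ _ tV sqV
  refine yon_hom_ext_of_cover _ _ (fun b : Bool => Bool.rec TV TU b)
    (fun b => by cases b <;> [exact tV; exact tU]) ?_ ?_ ?_
  · intro b
    cases b
    · exact ⟨inferInstance, inferInstance⟩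
    · exact ⟨inferInstance, inferInstance⟩
  · intro τ
    rcases mem_range_or hsq (AlgSp.Points.ofPt w τ) with h | h
    · exact ⟨true, mem_range_of_isPullback j w prU tU sqU τ h⟩
    · refine ⟨false, mem_range_of_isPullback (φ ≫ f) w prV tV sqV τ ?_⟩
      obtain ⟨v, hv⟩ := h
      obtain ⟨v₀, rfl⟩ := Groth.Agent.S9906.surjective_map_of_repWith φ hφs v
      exact ⟨v₀, by rw [AlgSp.Points.map_comp, hv]⟩
  · intro b
    cases b
    · show (AlgSp.yon S).map tV ≫ w ≫ c = (AlgSp.yon S).map tV ≫ w ≫ c'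
      have e1 : ∀ {Z : AlgSp.Sp S} (m : W ⟶ Z), (AlgSp.yon S).map tV ≫ w ≫ m = prV ≫ φ ≫ f ≫ m :=
        fun m => by rw [← Category.assoc, ← sqV.w]; simp only [Category.assoc]
      rw [e1, e1, h2]
    · show (AlgSp.yon S).map tU ≫ w ≫ c = (AlgSp.yon S).map tU ≫ w ≫ c'
      have e1 : ∀ {Z : AlgSp.Sp S} (m : W ⟶ Z), (AlgSp.yon S).map tU ≫ w ≫ m = prU ≫ j ≫ m :=
        fun m => by rw [← Category.assoc, ← sqU.w]; simp only [Category.assoc]
      rw [e1, e1, h1]


/-- a monomorphism from a nonempty scheme to the spectrum of a field is an isomorphism. -/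
lemma isIso_of_mono_field {P : Scheme.{u}} {F : CommRingCat.{u}} (hF : IsField F)
    (g : P ⟶ Spec F) [Mono g] [Nonempty P] : IsIso g := by
  letI := hF.toField
  haveI : Subsingleton (Spec F) := inferInstanceAs (Subsingleton (PrimeSpectrum F))
  haveI : IsIntegral (Spec F) := inferInstance
  haveI : Flat g := inferInstance
  haveI : Surjective g := ⟨fun y => ⟨Classical.arbitrary P, Subsingleton.elim _ _⟩⟩
  haveI : Subsingleton P := g.injective.subsingleton
  haveI : QuasiCompact g := ⟨fun U _ _ => (Set.toFinite _).isCompact⟩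
  exact Flat.isIso_of_surjective_of_mono g

/-- over the closed complement, two field valued points of `V` with the same image in `W`
agree. -/
lemma eq_of_closed_point (hsq : AlgSp.IsElemDistSq j f) {T : Over S} (τ : T.left)
    (x' y' : (AlgSp.yon S).obj T ⟶ V) (hxy : x' ≫ f = y' ≫ f)
    (hτ : AlgSp.Points.ofPt (x' ≫ f) τ ∉ Set.range (AlgSp.Points.map j)) :
    (AlgSp.yon S).map (ιPt τ) ≫ x' = (AlgSp.yon S).map (ιPt τ) ≫ y' := by
  obtain ⟨-, -, T', P', i, p₁, p₂, hi, hpb, hiso⟩ := hsq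
  haveI := hiso
  set xK := (AlgSp.yon S).map (ιPt τ) ≫ x' with hxK
  set yK := (AlgSp.yon S).map (ιPt τ) ≫ y' with hyK
  have hxyK : xK ≫ f = yK ≫ f := by rw [hxK, hyK, Category.assoc, Category.assoc, hxy]
  obtain ⟨pt⟩ : Nonempty (kPt τ).left :=
    inferInstanceAs (Nonempty (PrimeSpectrum (T.left.residueField τ)))
  have hmem : AlgSp.Points.ofPt (xK ≫ f) pt ∈ Set.range (AlgSp.Points.map i) := by
    rw [hi.2.1, hxK, Category.assoc, Groth.Agent.S10176.ofPt_map_comp]
    have : (ιPt τ).left pt = τ := Scheme.fromSpecResidueField_apply _ _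
    rw [this]
    exact hτ
  obtain ⟨C, c, pr, sqC⟩ := hi.1.1 (xK ≫ f)
  haveI : IsClosedImmersion c.left := hi.1.2 _ _ c sqC
  obtain ⟨z, -⟩ := mem_range_of_isPullback i (xK ≫ f) pr c sqC pt hmem
  haveI : Nonempty C.left := ⟨z⟩
  haveI : IsIso c.left :=
    isIso_of_mono_field (F := T.left.residueField τ) (Field.toIsField _) c.left
  haveI : IsIso ((Over.forget S).map c) := ‹IsIso c.left›
  haveI : IsIso c := isIso_of_reflects_iso c (Over.forget S)
  let w' : (AlgSp.yon S).obj (kPt τ) ⟶ T' := (AlgSp.yon S).map (inv c) ≫ pr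
  have hw' : w' ≫ i = xK ≫ f := by
    show ((AlgSp.yon S).map (inv c) ≫ pr) ≫ i = xK ≫ f
    rw [Category.assoc, sqC.w, ← Category.assoc, ← Functor.map_comp, IsIso.inv_hom_id,
      (AlgSp.yon S).map_id, Category.id_comp]
  have e1 : hpb.lift w' xK hw' = hpb.lift w' yK (hw'.trans hxyK) := by
    rw [← cancel_mono p₁, hpb.lift_fst, hpb.lift_fst]
  calc xK = hpb.lift w' xK hw' ≫ p₂ := (hpb.lift_snd _ _ _).symm
    _ = hpb.lift w' yK (hw'.trans hxyK) ≫ p₂ := by rw [e1]
    _ = yK := hpb.lift_snd _ _ _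


variable {p : P ⟶ U} {q : P ⟶ V}

/-- two points of `V` with the same image in `W` have the same image under a map compatible
with the square. -/
lemma comp_eq_of_VV (hV : AlgSp.IsAlgSpace V) (hsq : AlgSp.IsElemDistSq j f)
    (hP : IsPullback p q j f) {Q : AlgSp.Sp S} (a : U ⟶ Q) (b : V ⟶ Q) (hab : p ≫ a = q ≫ b)
    {T : Over S} (x' y' : (AlgSp.yon S).obj T ⟶ V) (hxy : x' ≫ f = y' ≫ f) :
    x' ≫ b = y' ≫ b := by
  have hj := hsq.1
  obtain ⟨TP, tP, u', sqP⟩ := hj.1 (x' ≫ f)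
  haveI : IsOpenImmersion tP.left := hj.2 _ _ tP sqP
  have hΔ := Groth.Agent.S10261.repWith_isOpenImmersion_diagonal hV f hsq.2.1
  let xy : (AlgSp.yon S).obj T ⟶ pullback f f := pullback.lift x' y' hxy
  obtain ⟨TD, tD, d, sqD⟩ := hΔ.1 xy
  haveI : IsOpenImmersion tD.left := hΔ.2 _ _ tD sqD
  refine yon_hom_ext_of_cover _ _ (fun b : Bool => Bool.rec TD TP b)
    (fun b => by cases b <;> [exact tD; exact tP]) ?_ ?_ ?_
  · intro b
    cases b
    · exact ⟨inferInstance, inferInstance⟩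
    · exact ⟨inferInstance, inferInstance⟩
  · intro τ
    by_cases h : AlgSp.Points.ofPt (x' ≫ f) τ ∈ Set.range (AlgSp.Points.map j)
    · exact ⟨true, mem_range_of_isPullback j (x' ≫ f) u' tP sqP τ h⟩
    · refine ⟨false, mem_range_of_isPullback (pullback.diagonal f) xy d tD sqD τ ?_⟩
      have hK := eq_of_closed_point hsq τ x' y' hxy h
      obtain ⟨pt⟩ : Nonempty (kPt τ).left :=
        inferInstanceAs (Nonempty (PrimeSpectrum (T.left.residueField τ)))
      have hpt : (ιPt τ).left pt = τ := Scheme.fromSpecResidueField_apply _ _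
      have e1 : (AlgSp.yon S).map (ιPt τ) ≫ xy =
          ((AlgSp.yon S).map (ιPt τ) ≫ x') ≫ pullback.diagonal f := by
        apply pullback.hom_ext
        · simp only [Category.assoc, pullback.diagonal_fst, Category.comp_id, xy,
            pullback.lift_fst]
        · simp only [Category.assoc, pullback.diagonal_snd, Category.comp_id, xy,
            pullback.lift_snd]
          exact hK.symm
      refine ⟨AlgSp.Points.ofPt ((AlgSp.yon S).map (ιPt τ) ≫ x') pt, ?_⟩
      rw [AlgSp.Points.map_ofPt, ← e1, Groth.Agent.S10176.ofPt_map_comp, hpt]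
  · intro b'
    cases b'
    · show (AlgSp.yon S).map tD ≫ x' ≫ b = (AlgSp.yon S).map tD ≫ y' ≫ b
      have e1 : (AlgSp.yon S).map tD ≫ x' = d := by
        have := congrArg (· ≫ pullback.fst f f) sqD.w
        simp only [Category.assoc, pullback.diagonal_fst, Category.comp_id, xy,
          pullback.lift_fst] at this
        exact this.symm
      have e2 : (AlgSp.yon S).map tD ≫ y' = d := by
        have := congrArg (· ≫ pullback.snd f f) sqD.w
        simp only [Category.assoc, pullback.diagonal_snd, Category.comp_id, xy,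
          pullback.lift_snd] at this
        exact this.symm
      rw [← Category.assoc, e1, ← Category.assoc, e2]
    · show (AlgSp.yon S).map tP ≫ x' ≫ b = (AlgSp.yon S).map tP ≫ y' ≫ b
      have w1 : u' ≫ j = ((AlgSp.yon S).map tP ≫ x') ≫ f := by rw [sqP.w, Category.assoc]
      have w2 : u' ≫ j = ((AlgSp.yon S).map tP ≫ y') ≫ f := by
        rw [sqP.w, Category.assoc, hxy]
      have h1 : ((AlgSp.yon S).map tP ≫ x') ≫ b = u' ≫ a := by
        rw [← hP.lift_snd u' _ w1, Category.assoc, ← hab, ← Category.assoc, hP.lift_fst]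
      have h2 : ((AlgSp.yon S).map tP ≫ y') ≫ b = u' ≫ a := by
        rw [← hP.lift_snd u' _ w2, Category.assoc, ← hab, ← Category.assoc, hP.lift_fst]
      rw [← Category.assoc, h1, ← Category.assoc, h2]


/-- case analysis for points of a binary coproduct of sheaves. -/
lemma hom_ext_coprod_cases {A B Q : AlgSp.Sp S} {T : Over S} (x : (AlgSp.yon S).obj T ⟶ A ⨿ B)
    (m m' : (AlgSp.yon S).obj T ⟶ Q)
    (hl : ∀ (T' : Over S) (t : T' ⟶ T) (x₁ : (AlgSp.yon S).obj T' ⟶ A),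
      x₁ ≫ coprod.inl = (AlgSp.yon S).map t ≫ x →
        (AlgSp.yon S).map t ≫ m = (AlgSp.yon S).map t ≫ m')
    (hr : ∀ (T' : Over S) (t : T' ⟶ T) (x₂ : (AlgSp.yon S).obj T' ⟶ B),
      x₂ ≫ coprod.inr = (AlgSp.yon S).map t ≫ x →
        (AlgSp.yon S).map t ≫ m = (AlgSp.yon S).map t ≫ m') : m = m' := by
  let F : WalkingPair → AlgSp.Sp S := fun i => WalkingPair.casesOn i A B
  let c₂ : Cofan F := Cofan.mk (A ⨿ B)
    (fun i => match i with
      | .left => (coprod.inl : A ⟶ A ⨿ B)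
      | .right => (coprod.inr : B ⟶ A ⨿ B))
  have hc₂ : IsColimit c₂ := coprodIsCoprod A B
  obtain ⟨Wx, -, hcov, hax⟩ := Groth.Agent.S9878.exists_clopen_decomposition c₂ hc₂ x
  refine yon_hom_ext_of_cover m m' (fun i => Over.mk ((Wx i).ι ≫ T.hom))
    (fun i => Over.homMk (Wx i).ι) ?_ ?_ ?_
  · intro i
    exact ⟨inferInstanceAs (Flat (Wx i).ι),
      inferInstanceAs (LocallyOfFinitePresentation (Wx i).ι)⟩
  · intro τ
    have hτ : τ ∈ (⨆ i, Wx i : T.left.Opens) := by rw [hcov]; trivial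
    obtain ⟨i, hi⟩ := TopologicalSpace.Opens.mem_iSup.1 hτ
    refine ⟨i, ?_⟩
    show τ ∈ Set.range (Wx i).ι
    rw [Scheme.Opens.range_ι]
    exact hi
  · intro i
    obtain ⟨a, ha⟩ := hax i
    cases i
    · exact hl _ _ a ha.w
    · exact hr _ _ a ha.w

/-- **An elementary distinguished square is a pushout square for maps to sheaves.** -/
theorem exists_desc (hV : AlgSp.IsAlgSpace V) (hsq : AlgSp.IsElemDistSq j f)
    (hP : IsPullback p q j f) {Q : AlgSp.Sp S} (a : U ⟶ Q) (b : V ⟶ Q) (hab : p ≫ a = q ≫ b) :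
    ∃ c : W ⟶ Q, j ≫ c = a ∧ f ≫ c = b := by
  haveI : Mono j := Groth.Agent.S9928.mono_of_repWith @IsOpenImmersion
    (fun _ _ g hg => by haveI : IsOpenImmersion g := hg; infer_instance) j hsq.1
  let e : U ⨿ V ⟶ W := coprod.desc j f
  let g : U ⨿ V ⟶ Q := coprod.desc a b
  have hle : coprod.inl ≫ e = j := coprod.inl_desc _ _
  have hre : coprod.inr ≫ e = f := coprod.inr_desc _ _
  have hlg : coprod.inl ≫ g = a := coprod.inl_desc _ _
  have hrg : coprod.inr ≫ g = b := coprod.inr_desc _ _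
  haveI : Epi e := ⟨fun c c' h => hom_ext hV hsq c c'
    (by rw [← hle, Category.assoc, h, Category.assoc])
    (by rw [← hre, Category.assoc, h, Category.assoc])⟩
  haveI : IsRegularEpi e := IsRegularEpiCategory.regularEpiOfEpi e
  -- the three kinds of pairs of points
  have hUU : ∀ (T : Over S) (x₁ y₁ : (AlgSp.yon S).obj T ⟶ U),
      x₁ ≫ coprod.inl ≫ e = y₁ ≫ coprod.inl ≫ e → x₁ ≫ coprod.inl ≫ g = y₁ ≫ coprod.inl ≫ g := by
    intro T x₁ y₁ h
    rw [hle] at h
    rw [(cancel_mono j).1 h]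
  have hUV : ∀ (T : Over S) (x₁ : (AlgSp.yon S).obj T ⟶ U) (y₂ : (AlgSp.yon S).obj T ⟶ V),
      x₁ ≫ coprod.inl ≫ e = y₂ ≫ coprod.inr ≫ e → x₁ ≫ coprod.inl ≫ g = y₂ ≫ coprod.inr ≫ g := by
    intro T x₁ y₂ h
    rw [hle, hre] at h
    rw [hlg, hrg, ← hP.lift_fst x₁ y₂ h, Category.assoc, hab, ← Category.assoc, hP.lift_snd]
  have hVV : ∀ (T : Over S) (x₂ y₂ : (AlgSp.yon S).obj T ⟶ V),
      x₂ ≫ coprod.inr ≫ e = y₂ ≫ coprod.inr ≫ e → x₂ ≫ coprod.inr ≫ g = y₂ ≫ coprod.inr ≫ g := by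
    intro T x₂ y₂ h
    rw [hre] at h
    rw [hrg]
    exact comp_eq_of_VV hV hsq hP a b hab x₂ y₂ h
  have inner : ∀ {A B : AlgSp.Sp S} (iA : A ⟶ U ⨿ V) (iB : B ⟶ U ⨿ V)
      (_ : ∀ (T : Over S) (x₁ : (AlgSp.yon S).obj T ⟶ A) (y₁ : (AlgSp.yon S).obj T ⟶ B),
        x₁ ≫ iA ≫ e = y₁ ≫ iB ≫ e → x₁ ≫ iA ≫ g = y₁ ≫ iB ≫ g)
      {T T' T'' : Over S} (t : T' ⟶ T) (t' : T'' ⟶ T') (x y : (AlgSp.yon S).obj T ⟶ U ⨿ V)
      (_ : x ≫ e = y ≫ e) (x₁ : (AlgSp.yon S).obj T' ⟶ A)
      (_ : x₁ ≫ iA = (AlgSp.yon S).map t ≫ x) (y₁ : (AlgSp.yon S).obj T'' ⟶ B)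
      (_ : y₁ ≫ iB = (AlgSp.yon S).map t' ≫ (AlgSp.yon S).map t ≫ y),
      (AlgSp.yon S).map t' ≫ (AlgSp.yon S).map t ≫ x ≫ g =
        (AlgSp.yon S).map t' ≫ (AlgSp.yon S).map t ≫ y ≫ g := by
    intro A B iA iB hAB T T' T'' t t' x y hxy x₁ hx₁ y₁ hy₁
    have h1 : (AlgSp.yon S).map t' ≫ (AlgSp.yon S).map t ≫ x =
        ((AlgSp.yon S).map t' ≫ x₁) ≫ iA := by rw [Category.assoc, hx₁]
    have h2 : ((AlgSp.yon S).map t' ≫ x₁) ≫ iA ≫ e = y₁ ≫ iB ≫ e := by
      rw [← Category.assoc, ← h1, ← Category.assoc y₁, hy₁]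
      simp only [Category.assoc]
      rw [hxy]
    have h3 := hAB _ _ _ h2
    calc (AlgSp.yon S).map t' ≫ (AlgSp.yon S).map t ≫ x ≫ g
        = (((AlgSp.yon S).map t' ≫ x₁) ≫ iA) ≫ g := by rw [← h1]; simp only [Category.assoc]
      _ = ((AlgSp.yon S).map t' ≫ x₁) ≫ iA ≫ g := Category.assoc _ _ _
      _ = y₁ ≫ iB ≫ g := h3
      _ = ((AlgSp.yon S).map t' ≫ (AlgSp.yon S).map t ≫ y) ≫ g := by
        rw [← hy₁, Category.assoc]
      _ = _ := by simp only [Category.assoc]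
  have key : pullback.fst e e ≫ g = pullback.snd e e ≫ g := by
    apply hom_ext_of_yon
    intro T k
    have hxy : (k ≫ pullback.fst e e) ≫ e = (k ≫ pullback.snd e e) ≫ e := by
      rw [Category.assoc, Category.assoc, pullback.condition]
    rw [← Category.assoc, ← Category.assoc]
    generalize k ≫ pullback.fst e e = x at hxy ⊢
    generalize k ≫ pullback.snd e e = y at hxy ⊢
    apply hom_ext_coprod_cases x
    · intro T' t x₁ hx₁
      apply hom_ext_coprod_cases ((AlgSp.yon S).map t ≫ y)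
      · intro T'' t' y₁ hy₁
        exact inner coprod.inl coprod.inl hUU t t' x y hxy x₁ hx₁ y₁ hy₁
      · intro T'' t' y₂ hy₂
        exact inner coprod.inl coprod.inr hUV t t' x y hxy x₁ hx₁ y₂ hy₂
    · intro T' t x₂ hx₂
      apply hom_ext_coprod_cases ((AlgSp.yon S).map t ≫ y)
      · intro T'' t' y₁ hy₁
        refine inner coprod.inr coprod.inl ?_ t t' x y hxy x₂ hx₂ y₁ hy₁
        intro T₀ x₀ y₀ h0
        exact (hUV T₀ y₀ x₀ h0.symm).symm
      · intro T'' t' y₂ hy₂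
        exact inner coprod.inr coprod.inr hVV t t' x y hxy x₂ hx₂ y₂ hy₂
  obtain ⟨c, hc⟩ := IsRegularEpi.exists_of_isKernelPair e (IsPullback.of_hasPullback e e) g key
  exact ⟨c, by rw [← hle, Category.assoc, hc, hlg], by rw [← hre, Category.assoc, hc, hrg]⟩

end Main

end Groth.Agent.R2.H83.ElemDist
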