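-- helper83: surjective charts with a composable property on 2-fibre products; etale versions.
import Mathlib
import Groth.Agent.Lib.Helper15Atlas
import Groth.Agent.S10544

set_option autoImplicit false
set_option backward.isDefEq.respectTransparency false
set_option backward.isDefEq.respectTransparency.types false
open CategoryTheory CategoryTheory.Functor CategoryTheory.Limits Opposite AlgebraicGeometry

universe u

namespace Groth.Agent.R2.H83.FpAtlas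

open Groth.Agent.Lib.Helper17 Groth.Agent.Lib.Helper15PshFib Groth.Agent.Lib.Helper15RepComp
  Groth.Agent.Lib.Helper15RepPsh Groth.Agent.Lib.Helper15DiagBase Groth.Agent.Lib.Helper15DiagRepSp
  Groth.Agent.Lib.Helper15Descent Groth.Agent.Lib.Helper15DiagLft
  Groth.Agent.Lib.Helper15DiagDescent Groth.Agent.Lib.Helper15SpMapRep
  Groth.Agent.Lib.Helper15SrcCancel Groth.Agent.Lib.Helper15ChartSp
  Groth.Agent.Lib.Helper15Atlas

section Props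

variable {S : Scheme.{u}}

theorem isEtaleMor_comp {X Y Z : AlgSp.Sp S} (a : X ⟶ Y) (b : Y ⟶ Z)
    (ha : AlgSp.IsEtaleMor a) (hb : AlgSp.IsEtaleMor b) : AlgSp.IsEtaleMor (a ≫ b) := by
  intro U φ hφ
  rw [← Category.assoc]
  exact hb _ (ha φ hφ)

theorem compCond_isEtaleMor : CompCond (AlgSp.IsEtaleMor (S := S)) :=
  Groth.Agent.S12780.Aux.compCond_of_local _
    (fun _ _ _ _ _ _ a b ha hb => isEtaleMor_comp a b ha hb)
    (isLocalOnBase_fppf_of_fpqc _ (Groth.Agent.S10544.result S))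

end Props

section Atlas

variable {S : Scheme.{u}} {𝒜 𝒲 𝒳 𝒴 𝒵 : AlgSt.Cat S}

/-- A surjective functor with a composable property `Q` from a category with a surjective `Q`-chart
gives a surjective `Q`-chart of the target. -/
theorem hasAtlas_of_cover (Q : MorphismProperty (AlgSp.Sp S)) (hQ : CompCond Q)
    (h𝒜 : FibCat.IsFibGrpd 𝒜.p)
    (a : 𝒜 ⥤ᵇ 𝒲) (ha₁ : AlgSt.RepByAlgSpWith Q a)
    (ha₂ : AlgSt.RepByAlgSpWith AlgSp.IsSurjectiveMor a)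
    (hA : AlgSt.HasAtlas Q 𝒜) : AlgSt.HasAtlas Q 𝒲 := by
  obtain ⟨U, x, hx₁, hx₂⟩ := hA
  have hU : FibCat.IsFibGrpd (FibCat.overCat U).p := (isFibSet_overForget U).1
  exact ⟨U, BasedFunctor.comp x a,
    repByAlgSpWith_comp_of_compCond hU h𝒜 _ hQ x a hx₁ ha₁,
    repByAlgSpWith_comp_of_compCond hU h𝒜 _ compCond_isSurjectiveMor x a hx₂ ha₂⟩

/-- The source of a functor representable by algebraic spaces to a category with a surjective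
`Q`-chart has a surjective `Q`-chart. -/
theorem hasAtlas_of_repByAlgSp1 (Q : MorphismProperty (AlgSp.Sp S)) (hQ : CompCond Q)
    (hQ' : ∀ (X : AlgSp.Space S) (T : Over S) (s : X.obj ⟶ (AlgSp.yon S).obj T),
      AlgSp.RepWith @Etale s → AlgSp.RepWith @Surjective s → Q s)
    (h𝒳 : FibCat.IsFibGrpd 𝒳.p) (h𝒴 : FibCat.IsFibGrpd 𝒴.p) (hat : AlgSt.HasAtlas Q 𝒴)
    (j : 𝒳 ⥤ᵇ 𝒴) (hj : AlgSt.RepByAlgSp1 j) : AlgSt.HasAtlas Q 𝒳 := by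
  obtain ⟨V, y, hy₁, hy₂⟩ := hat
  have hV : FibCat.IsFibGrpd (FibCat.overCat V).p := (isFibSet_overForget V).1
  have hA : AlgSt.RepByAlgSp (FibCat.fp y j) := hj V y
  have hAt : AlgSt.HasAtlas Q (FibCat.fp y j) := hasAtlas_of_repByAlgSp Q hQ' hA
  exact hasAtlas_of_cover Q hQ (isFibGrpd_fp y j hV h𝒳 h𝒴) (FibCat.fpSnd y j)
    (repByAlgSpWith_fpSnd _ y j hy₁) (repByAlgSpWith_fpSnd _ y j hy₂) hAt

/-- Surjective `Q`-charts of `𝒳` and `𝒴` give one of `𝒳 ×_𝒵 𝒴` when the diagonal of `𝒵` is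
representable by algebraic spaces. -/
theorem hasAtlas_fp (Q : MorphismProperty (AlgSp.Sp S)) (hQ : CompCond Q)
    (hQ' : ∀ (X : AlgSp.Space S) (T : Over S) (s : X.obj ⟶ (AlgSp.yon S).obj T),
      AlgSp.RepWith @Etale s → AlgSp.RepWith @Surjective s → Q s)
    (h𝒳 : FibCat.IsFibGrpd 𝒳.p) (h𝒴 : FibCat.IsFibGrpd 𝒴.p) (h𝒵 : FibCat.IsFibGrpd 𝒵.p)
    (hΔ : AlgSt.RepByAlgSp1 (FibCat.diag (FibCat.toSelf 𝒵)))
    (hX : AlgSt.HasAtlas Q 𝒳) (hY : AlgSt.HasAtlas Q 𝒴)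
    (f : 𝒳 ⥤ᵇ 𝒵) (g : 𝒴 ⥤ᵇ 𝒵) : AlgSt.HasAtlas Q (FibCat.fp f g) := by
  obtain ⟨U, x, hx₁, hx₂⟩ := hX
  have hU : FibCat.IsFibGrpd (FibCat.overCat U).p := (isFibSet_overForget U).1
  let pr : FibCat.fp f g ⥤ᵇ 𝒳 := FibCat.fpFst f g
  have ha₁ := repByAlgSpWith_fpSnd Q x pr hx₁
  have ha₂ := repByAlgSpWith_fpSnd AlgSp.IsSurjectiveMor x pr hx₂
  have hxf : AlgSt.RepByAlgSp1 (BasedFunctor.comp x f) :=
    repByAlgSp1_of_repByAlgSp1_diag hΔ U (BasedFunctor.comp x f)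
  have hsnd : AlgSt.RepByAlgSp1 (FibCat.fpSnd (BasedFunctor.comp x f) g) :=
    Groth.Agent.Lib.Helper17.RepStack.repByAlgSp1_fpSnd (BasedFunctor.comp x f) g hxf
  have hfibB : FibCat.IsFibGrpd (FibCat.fp (BasedFunctor.comp x f) g).p :=
    isFibGrpd_fp _ g hU h𝒴 h𝒵
  have hB : AlgSt.HasAtlas Q (FibCat.fp (BasedFunctor.comp x f) g) :=
    hasAtlas_of_repByAlgSp1 Q hQ hQ' hfibB h𝒴 hY _ hsnd
  obtain ⟨e', he', -, -⟩ :=
    IsEquivOver.exists_inverse_isEquivOver' (pasteL g f x) (isEquivOver_pasteL g f x)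
  have hA : AlgSt.HasAtlas Q (FibCat.fp x pr) := hasAtlas_of_isEquivOver Q e' he' hB
  have hfibA : FibCat.IsFibGrpd (FibCat.fp x pr).p :=
    isFibGrpd_fp x pr hU (isFibGrpd_fp f g h𝒳 h𝒴 h𝒵) h𝒳
  exact hasAtlas_of_cover Q hQ hfibA (FibCat.fpSnd x pr) ha₁ ha₂ hA

/-- The 2-fibre product of algebraic stacks (for any precoverage `K`) is an algebraic stack. -/
theorem isAlgStack_fp (K : Precoverage Scheme.{u})
    (h𝒳 : AlgSt.IsAlgStack K 𝒳) (h𝒴 : AlgSt.IsAlgStack K 𝒴) (h𝒵 : AlgSt.IsAlgStack K 𝒵)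
    (f : 𝒳 ⥤ᵇ 𝒵) (g : 𝒴 ⥤ᵇ 𝒵) : AlgSt.IsAlgStack K (FibCat.fp f g) := by
  refine ⟨Groth.Agent.S12792.result _ f g h𝒳.isStack h𝒴.isStack
      (Groth.Agent.Lib.Helper17.IsStack.isPrestack _ h𝒵.isStack),
    Groth.Agent.Lib.Helper15DiagOfComp.repByAlgSp1_diag_toSelf_fp h𝒳.isStack.1 h𝒴.isStack.1
      h𝒵.isStack.1 h𝒳.diag h𝒴.diag h𝒵.diag f g,
    hasAtlas_fp _ compCond_smooth locP_smooth_of_etale_surjective h𝒳.isStack.1 h𝒴.isStack.1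
      h𝒵.isStack.1 h𝒵.diag h𝒳.atlas h𝒴.atlas f g⟩

/-- The 2-fibre product of Deligne-Mumford stacks (for any precoverage `K`) is Deligne-Mumford. -/
theorem isDM_fp (K : Precoverage Scheme.{u})
    (h𝒳 : AlgSt.IsDM K 𝒳) (h𝒴 : AlgSt.IsDM K 𝒴) (h𝒵 : AlgSt.IsDM K 𝒵)
    (f : 𝒳 ⥤ᵇ 𝒵) (g : 𝒴 ⥤ᵇ 𝒵) : AlgSt.IsDM K (FibCat.fp f g) :=
  ⟨isAlgStack_fp K h𝒳.1 h𝒴.1 h𝒵.1 f g,
    hasAtlas_fp _ compCond_isEtaleMor isEtaleMor_of_etale_surjective h𝒳.1.isStack.1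
      h𝒴.1.isStack.1 h𝒵.1.isStack.1 h𝒵.1.diag h𝒳.2 h𝒴.2 f g⟩

end Atlas

end Groth.Agent.R2.H83.FpAtlas
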