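-- helper83: separatedness can be checked on an elementary distinguished square (S10698).
import Mathlib
import Groth.Agent.R2.H83ElemDist
import Groth.Agent.R2.H83EtChartDesc
import Groth.Agent.R2.H83FpAtlas
import Groth.Agent.Lib.Helper12EtSmST
import Groth.Agent.Lib.Helper12LargestOpen
import Groth.Agent.S10209
import Groth.Agent.S10210
import Groth.Agent.S9928

set_option autoImplicit false
set_option backward.isDefEq.respectTransparency.types false
set_option linter.style.haveILetI false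
universe u
open CategoryTheory CategoryTheory.Limits AlgebraicGeometry Opposite
open AlgSp

namespace Groth.Agent.R2.H83.ElemDistSep

open Groth.Agent.R2.H83.ElemDist

variable {S : Scheme.{u}}

/-- a morphism `c : PX ⟶ PY = U ×_Y V` whose composite to `V` is an open immersion, with `U ⟶ Y`
separated, which is closed on points, is a closed immersion. -/
theorem repWith_isClosedImmersion_of_open_of_separated {PX PY U V Y : AlgSp.Sp S} (c : PX ⟶ PY)
    (pY : PY ⟶ U) (qY : PY ⟶ V) (u : U ⟶ Y) (v : V ⟶ Y) (hPY : IsPullback pY qY u v)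
    (ho : AlgSp.RepWith @IsOpenImmersion (c ≫ qY)) (hu : AlgSp.IsSeparatedMor u)
    (hcl : AlgSp.IsClosedMor c) : AlgSp.RepWith @IsClosedImmersion c := by
  refine MorphismProperty.relative.of_exists (fun T t => ?_)
  -- the open part
  obtain ⟨T', o, s, sq1⟩ := ho.1 (t ≫ qY)
  haveI ho' : IsOpenImmersion o.left := ho.2 _ _ o sq1
  -- the closed part
  have hm : (s ≫ c ≫ pY) ≫ u = ((AlgSp.yon S).map o ≫ t ≫ pY) ≫ u := by
    simp only [Category.assoc]
    rw [hPY.w]
    have := sq1.w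
    rw [reassoc_of% this]
  obtain ⟨Z, k, r, sq2⟩ := hu.1 (pullback.lift (s ≫ c ≫ pY) ((AlgSp.yon S).map o ≫ t ≫ pY) hm)
  haveI hk' : IsClosedImmersion k.left := hu.2 _ _ k sq2
  have hr1 : (AlgSp.yon S).map k ≫ s ≫ c ≫ pY = r := by
    have := sq2.w =≫ pullback.fst u u
    simp only [Category.assoc, pullback.lift_fst, pullback.diagonal_fst, Category.comp_id] at this
    exact this.symm
  have hr2 : (AlgSp.yon S).map k ≫ (AlgSp.yon S).map o ≫ t ≫ pY = r := by
    have := sq2.w =≫ pullback.snd u u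
    simp only [Category.assoc, pullback.lift_snd, pullback.diagonal_snd, Category.comp_id] at this
    exact this.symm
  have hw : ((AlgSp.yon S).map k ≫ s) ≫ c = (AlgSp.yon S).map (k ≫ o) ≫ t := by
    apply hPY.hom_ext
    · simp only [Category.assoc, Functor.map_comp]
      rw [hr1, hr2]
    · have := sq1.w
      simp only [Category.assoc, Functor.map_comp] at this ⊢
      rw [this]
  have sq : IsPullback ((AlgSp.yon S).map k ≫ s) ((AlgSp.yon S).map (k ≫ o)) c t := by
    refine IsPullback.mk' hw ?_ ?_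
    · intro W φ φ' h1 h2
      apply sq2.hom_ext
      · rw [← hr1]
        rw [reassoc_of% h1]
      · apply sq1.hom_ext
        · simpa only [Category.assoc] using h1
        · simpa only [Category.assoc, Functor.map_comp] using h2
    · intro W a b hab
      have h1 : a ≫ (c ≫ qY) = b ≫ (t ≫ qY) := by rw [reassoc_of% hab]
      have e1 : sq1.lift a b h1 ≫ s = a := sq1.lift_fst _ _ _
      have e2 : sq1.lift a b h1 ≫ (AlgSp.yon S).map o = b := sq1.lift_snd _ _ _
      have h2 : (a ≫ c ≫ pY) ≫ pullback.diagonal u = sq1.lift a b h1 ≫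
          pullback.lift (s ≫ c ≫ pY) ((AlgSp.yon S).map o ≫ t ≫ pY) hm := by
        apply pullback.hom_ext
        · simp only [Category.assoc, pullback.lift_fst, pullback.diagonal_fst, Category.comp_id]
          rw [reassoc_of% e1]
        · simp only [Category.assoc, pullback.lift_snd, pullback.diagonal_snd, Category.comp_id]
          rw [reassoc_of% e2, reassoc_of% hab]
      refine ⟨sq2.lift _ _ h2, ?_, ?_⟩
      · rw [← Category.assoc, sq2.lift_snd, e1]
      · rw [Functor.map_comp, ← Category.assoc, sq2.lift_snd, e2]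
  refine ⟨Z, (AlgSp.yon S).map k ≫ s, k ≫ o, sq, ?_⟩
  change IsClosedImmersion (k ≫ o).left
  rw [Over.comp_left]
  haveI : IsPreimmersion (k.left ≫ o.left) := inferInstance
  apply IsClosedImmersion.of_isPreimmersion
  have hrange : Set.range (k.left ≫ o.left) =
      AlgSp.Points.ofPt t ⁻¹' Set.range (AlgSp.Points.map c) := by
    ext τ
    constructor
    · rintro ⟨z, rfl⟩
      refine ⟨AlgSp.Points.ofPt ((AlgSp.yon S).map k ≫ s) z, ?_⟩
      rw [AlgSp.Points.map_ofPt, hw, Groth.Agent.S10176.ofPt_map_comp, Over.comp_left]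
    · intro h
      have := mem_range_of_isPullback c t _ (k ≫ o) sq τ h
      rwa [Over.comp_left] at this
  rw [hrange]
  exact (hcl.isClosed_range).preimage (AlgSp.Points.continuous_ofPt t)

section Magic

variable {C : Type*} [Category C] [HasPullbacks C]

set_option backward.isDefEq.respectTransparency false in
/-- the magic square for abstract fibre products: for `a : A ⟶ X`, `b : B ⟶ X`, `g : X ⟶ Y`, the
comparison `A ×_X B ⟶ A ×_Y B` is the base change of the diagonal of `g`. -/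
theorem isPullback_magic {A B X Y P Q : C} (g : X ⟶ Y) (a : A ⟶ X) (b : B ⟶ X)
    {p₁ : P ⟶ A} {p₂ : P ⟶ B} (hP : IsPullback p₁ p₂ a b)
    {q₁ : Q ⟶ A} {q₂ : Q ⟶ B} (hQ : IsPullback q₁ q₂ (a ≫ g) (b ≫ g))
    (c : P ⟶ Q) (hc₁ : c ≫ q₁ = p₁) (hc₂ : c ≫ q₂ = p₂) :
    IsPullback (p₁ ≫ a) c (pullback.diagonal g)
      (pullback.lift (q₁ ≫ a) (q₂ ≫ b) (by simpa only [Category.assoc] using hQ.w)) := by
  refine (pullback_map_diagonal_isPullback a b g).of_iso hP.isoPullback.symm (Iso.refl _)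
    hQ.isoPullback.symm (Iso.refl _) ?_ ?_ ?_ ?_
  · simp
  · apply hQ.hom_ext
    · simp [hc₁]
    · simp [hc₂]
  · simp
  · apply pullback.hom_ext <;> simp

end Magic

section Chart

set_option backward.isDefEq.respectTransparency false in
/-- the chart `A ×_Y B ⟶ X ×_Y X` of the fibre square of `g : X ⟶ Y` given by étale `a : A ⟶ X`,
`b : B ⟶ X` is étale, and hits every point whose two projections are hit by `a`, `b`. -/
theorem chart_etale {A B X Y Q : AlgSp.Sp S} (hA : AlgSp.IsAlgSpace A) (hB : AlgSp.IsAlgSpace B)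
    (hX : AlgSp.IsAlgSpace X) (hY : AlgSp.IsAlgSpace Y)
    (g : X ⟶ Y) (a : A ⟶ X) (b : B ⟶ X)
    (ha : AlgSp.IsEtaleMor a) (hb : AlgSp.IsEtaleMor b)
    {q₁ : Q ⟶ A} {q₂ : Q ⟶ B} (hQ : IsPullback q₁ q₂ (a ≫ g) (b ≫ g))
    (w : (q₁ ≫ a) ≫ g = (q₂ ≫ b) ≫ g) :
    AlgSp.IsEtaleMor (pullback.lift (q₁ ≫ a) (q₂ ≫ b) w) ∧
      ∀ x : AlgSp.Points (pullback g g),
        AlgSp.Points.map (pullback.fst g g) x ∈ Set.range (AlgSp.Points.map a) →
        AlgSp.Points.map (pullback.snd g g) x ∈ Set.range (AlgSp.Points.map b) →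
        x ∈ Set.range (AlgSp.Points.map (pullback.lift (q₁ ≫ a) (q₂ ≫ b) w)) := by
  -- the intermediate space `R = A ×_Y X`
  have hR : AlgSp.IsAlgSpace (pullback (a ≫ g) g) :=
    Groth.Agent.S9874.isAlgSpace_of_isPullback hY.diag hA hX (IsPullback.of_hasPullback _ _)
  have hXX : AlgSp.IsAlgSpace (pullback g g) :=
    Groth.Agent.S9874.isAlgSpace_of_isPullback hY.diag hX hX (IsPullback.of_hasPullback _ _)
  let l₁ : Q ⟶ pullback (a ≫ g) g := pullback.lift q₁ (q₂ ≫ b)
    (by simpa only [Category.assoc] using hQ.w)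
  let l₂ : pullback (a ≫ g) g ⟶ pullback g g :=
    pullback.lift (pullback.fst _ _ ≫ a) (pullback.snd _ _)
      (by simpa only [Category.assoc] using pullback.condition)
  have hl : pullback.lift (q₁ ≫ a) (q₂ ≫ b) w = l₁ ≫ l₂ := by
    apply pullback.hom_ext <;> simp [l₁, l₂]
  -- first square: `l₁` is a base change of `b`
  have sq1 : IsPullback l₁ q₂ (pullback.snd (a ≫ g) g) b := by
    refine IsPullback.of_right (h₁₂ := pullback.fst (a ≫ g) g) (h₂₂ := g) (v₁₃ := a ≫ g) ?_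
      (by simp [l₁]) (IsPullback.of_hasPullback _ _)
    have : l₁ ≫ pullback.fst (a ≫ g) g = q₁ := by simp [l₁]
    rw [this]
    exact hQ
  -- second square: `l₂` is a base change of `a`
  have sq2 : IsPullback (pullback.fst (a ≫ g) g) l₂ a (pullback.fst g g) := by
    refine IsPullback.of_bot (v₂₁ := pullback.snd g g) (v₂₂ := g) (h₃₁ := g) ?_
      (by simp [l₂]) (IsPullback.of_hasPullback g g)
    have : l₂ ≫ pullback.snd g g = pullback.snd (a ≫ g) g := by simp [l₂]
    rw [this]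
    exact IsPullback.of_hasPullback _ _
  have h1 : AlgSp.IsEtaleMor l₁ := Groth.Agent.S10209.isEtaleMor_of_isPullback hB hR sq1 hb
  have h2 : AlgSp.IsEtaleMor l₂ := Groth.Agent.S10209.isEtaleMor_of_isPullback hA hXX sq2.flip ha
  refine ⟨by rw [hl]; exact Groth.Agent.R2.H83.FpAtlas.isEtaleMor_comp _ _ h1 h2, ?_⟩
  rintro x ⟨α, hα⟩ ⟨β, hβ⟩
  obtain ⟨x', hx'1, hx'2⟩ := Groth.Agent.S10175.exists_point_of_isPullback sq2.flip x α hα.symm
  have hβ' : AlgSp.Points.map (pullback.snd (a ≫ g) g) x' = AlgSp.Points.map b β := by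
    rw [hβ, ← hx'1, ← AlgSp.Points.map_comp]
    congr 1
    simp [l₂]
  obtain ⟨x'', hx''1, hx''2⟩ := Groth.Agent.S10175.exists_point_of_isPullback sq1 x' β hβ'
  refine ⟨x'', ?_⟩
  rw [hl, AlgSp.Points.map_comp, hx''1, hx'1]

end Chart

section Charts

/-- a chart of `X ×_Y X` over which the diagonal of `g` is a closed immersion. -/
structure DiagChart {X Y : AlgSp.Sp S} (g : X ⟶ Y) where
  /-- the chart -/
  Q : AlgSp.Sp S
  /-- its fibre product with the diagonal -/
  P : AlgSp.Sp S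
  /-- the chart map -/
  χ : Q ⟶ pullback g g
  /-- the base change of the diagonal -/
  c : P ⟶ Q
  /-- the other projection -/
  π : P ⟶ X
  hQ : AlgSp.IsAlgSpace Q
  hP : AlgSp.IsAlgSpace P
  sq : IsPullback π c (pullback.diagonal g) χ
  hχ : AlgSp.IsEtaleMor χ
  hc : AlgSp.RepWith @IsClosedImmersion c

/-- the chart of `X ×_Y X` defined by two étale maps `a : A ⟶ X`, `b : B ⟶ X`. -/
noncomputable def DiagChart.ofEtale {A B X Y P Q : AlgSp.Sp S} (hA : AlgSp.IsAlgSpace A)
    (hB : AlgSp.IsAlgSpace B) (hX : AlgSp.IsAlgSpace X) (hY : AlgSp.IsAlgSpace Y)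
    (g : X ⟶ Y) (a : A ⟶ X) (b : B ⟶ X)
    (ha : AlgSp.IsEtaleMor a) (hb : AlgSp.IsEtaleMor b)
    {p₁ : P ⟶ A} {p₂ : P ⟶ B} (hP : IsPullback p₁ p₂ a b)
    {q₁ : Q ⟶ A} {q₂ : Q ⟶ B} (hQ : IsPullback q₁ q₂ (a ≫ g) (b ≫ g))
    (c : P ⟶ Q) (hc₁ : c ≫ q₁ = p₁) (hc₂ : c ≫ q₂ = p₂)
    (hc : AlgSp.RepWith @IsClosedImmersion c) : DiagChart g where
  Q := Q
  P := P
  χ := pullback.lift (q₁ ≫ a) (q₂ ≫ b) (by simpa only [Category.assoc] using hQ.w)
  c := c
  π := p₁ ≫ a
  hQ := Groth.Agent.S9874.isAlgSpace_of_isPullback hY.diag hA hB hQ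
  hP := Groth.Agent.S9874.isAlgSpace_of_isPullback hX.diag hA hB hP
  sq := isPullback_magic g a b hP hQ c hc₁ hc₂
  hχ := (chart_etale hA hB hX hY g a b ha hb hQ _).1
  hc := hc

/-- if the diagonal of `g` is a closed immersion over a jointly surjective family of étale
charts of `X ×_Y X`, then `g` is separated. -/
theorem isSeparatedMor_of_charts {X Y : AlgSp.Sp S} (hX : AlgSp.IsAlgSpace X)
    (hY : AlgSp.IsAlgSpace Y) (g : X ⟶ Y) {ι : Type u} (ch : ι → DiagChart g)
    (hcov : ∀ x : AlgSp.Points (pullback g g),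
      ∃ i, x ∈ Set.range (AlgSp.Points.map (ch i).χ)) : AlgSp.IsSeparatedMor g := by
  have hXX : AlgSp.IsAlgSpace (pullback g g) :=
    Groth.Agent.S9874.isAlgSpace_of_isPullback hY.diag hX hX (IsPullback.of_hasPullback _ _)
  have hloc : ∀ i, AlgSp.LocP @Etale (ch i).χ := fun i =>
    Groth.Agent.Lib.Helper12.SrcLocal.locP_etale_of_isEtaleMor _ (ch i).hχ
  refine (Groth.Agent.R2.H83.EtChartDesc.isLocalOnBase_fppf_repWith_isClosedImmersion
    (fun i => (ch i).Q) (fun i => (ch i).χ) hXX (fun i => (ch i).hQ) ⟨fun i => ⟨?_, ?_⟩, hcov⟩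
    (pullback.diagonal g) hX (fun i => (ch i).P) (fun i => (ch i).c) (fun i => (ch i).π)
    (fun i => (ch i).hP) (fun i => (ch i).sq)).2 (fun i => (ch i).hc)
  · exact Groth.Agent.Lib.Helper12.LargestOpen.locP_mono
      (fun _ _ k hk => by haveI : Etale k := hk; infer_instance) (hloc i)
  · exact Groth.Agent.Lib.Helper12.LargestOpen.locP_mono
      (fun _ _ k hk => by haveI : Etale k := hk; infer_instance) (hloc i)

/-- index set of the four charts. -/
inductive Idx : Type u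
  | uu | uv | vu | vv

/-- **Separatedness over an elementary distinguished square.** -/
theorem isSeparatedMor_of_isElemDistSq {U V X Y PX PY QX QY : AlgSp.Sp S}
    (hU' : AlgSp.IsAlgSpace U) (hV' : AlgSp.IsAlgSpace V) (hX : AlgSp.IsAlgSpace X)
    (hY : AlgSp.IsAlgSpace Y) (g : X ⟶ Y)
    (j : U ⟶ X) (f : V ⟶ X) (hsq : AlgSp.IsElemDistSq j f)
    (hU : AlgSp.IsSeparatedMor (j ≫ g))
    (pX : PX ⟶ U) (qX : PX ⟶ V) (hPX : IsPullback pX qX j f)
    (pY : PY ⟶ U) (qY : PY ⟶ V) (hPY : IsPullback pY qY (j ≫ g) (f ≫ g))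
    (c : PX ⟶ PY) (hc₁ : c ≫ pY = pX) (hc₂ : c ≫ qY = qX) (hcl : AlgSp.IsClosedMor c)
    (rX₁ rX₂ : QX ⟶ V) (hQX : IsPullback rX₁ rX₂ f f)
    (rY₁ rY₂ : QY ⟶ V) (hQY : IsPullback rY₁ rY₂ (f ≫ g) (f ≫ g))
    (d : QX ⟶ QY) (hd₁ : d ≫ rY₁ = rX₁) (hd₂ : d ≫ rY₂ = rX₂)
    (hdcl : AlgSp.RepWith @IsClosedImmersion d) : AlgSp.IsSeparatedMor g := by
  have hje : AlgSp.IsEtaleMor j := fun T φ hφ =>
    (AlgSp.RepWith @Etale).comp_mem _ _ hφ
      (Groth.Agent.S10210.repWith_etale_of_isOpenImmersion hsq.1)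
  have hfe : AlgSp.IsEtaleMor f := hsq.2.1
  haveI : Mono j := Groth.Agent.S9928.mono_of_repWith @IsOpenImmersion
    (fun _ _ k hk => by haveI : IsOpenImmersion k := hk; infer_instance) j hsq.1
  have hqX : AlgSp.RepWith @IsOpenImmersion (c ≫ qY) := by
    rw [hc₂]
    exact MorphismProperty.of_isPullback (P := AlgSp.RepWith @IsOpenImmersion) hPX hsq.1
  have hccl : AlgSp.RepWith @IsClosedImmersion c :=
    repWith_isClosedImmersion_of_open_of_separated c pY qY (j ≫ g) (f ≫ g) hPY hqX hU hcl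
  have hjj : IsPullback (𝟙 U) (𝟙 U) j j := IsKernelPair.id_of_mono j
  let ch : Idx.{u} → DiagChart g := fun i =>
    match i with
    | .uu => DiagChart.ofEtale hU' hU' hX hY g j j hje hje hjj
        (IsPullback.of_hasPullback (j ≫ g) (j ≫ g)) (pullback.diagonal (j ≫ g))
        (pullback.diagonal_fst _) (pullback.diagonal_snd _) hU
    | .uv => DiagChart.ofEtale hU' hV' hX hY g j f hje hfe hPX hPY c hc₁ hc₂ hccl
    | .vu => DiagChart.ofEtale hV' hU' hX hY g f j hfe hje hPX.flip hPY.flip c hc₂ hc₁ hccl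
    | .vv => DiagChart.ofEtale hV' hV' hX hY g f f hfe hfe hQX hQY d hd₁ hd₂ hdcl
  refine isSeparatedMor_of_charts hX hY g ch (fun x => ?_)
  rcases mem_range_or hsq (AlgSp.Points.map (pullback.fst g g) x) with h1 | h1 <;>
    rcases mem_range_or hsq (AlgSp.Points.map (pullback.snd g g) x) with h2 | h2
  · exact ⟨.uu, (chart_etale hU' hU' hX hY g j j hje hje
      (IsPullback.of_hasPullback (j ≫ g) (j ≫ g)) _).2 x h1 h2⟩
  · exact ⟨.uv, (chart_etale hU' hV' hX hY g j f hje hfe hPY _).2 x h1 h2⟩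
  · exact ⟨.vu, (chart_etale hV' hU' hX hY g f j hfe hje hPY.flip _).2 x h1 h2⟩
  · exact ⟨.vv, (chart_etale hV' hV' hX hY g f f hfe hfe hQY _).2 x h1 h2⟩

end Charts

end Groth.Agent.R2.H83.ElemDistSep
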