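-- helper83: a finite disjoint union of algebraic spaces finite over `Y` is finite over `Y` (S10325).
import Mathlib
import Groth.Agent.R2.H47YonSigma
import Groth.Agent.R2.H62FinSigma

set_option autoImplicit false
set_option backward.isDefEq.respectTransparency.types false
set_option linter.style.haveILetI false
universe u
open CategoryTheory CategoryTheory.Limits AlgebraicGeometry Opposite
open AlgSp

namespace Groth.Agent.R2.H83.FinCoprod

open Groth.Agent.R2.H47.YonSigma

variable {S : Scheme.{u}}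

/-- a finite coproduct of sheaves finite over `Y` is finite over `Y` (index type in `Type u`). -/
theorem isFiniteMor_cofan_desc {κ : Type u} [Finite κ] {X : κ → AlgSp.Sp S} {Y : AlgSp.Sp S}
    (g : ∀ k, X k ⟶ Y) (hg : ∀ k, AlgSp.IsFiniteMor (g k)) (c : Cofan X) (hc : IsColimit c)
    (d : c.pt ⟶ Y) (hd : ∀ k, c.inj k ≫ d = g k) : AlgSp.IsFiniteMor d := by
  intro Z hZ z
  haveI := hZ
  choose W w fst sq haff hfin using fun k => hg k hZ z
  -- the pullback of `d` along `z` is the coproduct of the `h_{W k}`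
  have hl : ∀ k, (fst k ≫ c.inj k) ≫ d = (AlgSp.yon S).map (w k) ≫ z := fun k => by
    rw [Category.assoc, hd k, (sq k).w]
  let l : ∀ k, (AlgSp.yon S).obj (W k) ⟶ pullback d z := fun k =>
    pullback.lift (fst k ≫ c.inj k) ((AlgSp.yon S).map (w k)) (hl k)
  have hl1 : ∀ k, l k ≫ pullback.fst d z = fst k ≫ c.inj k := fun k => pullback.lift_fst _ _ _
  have hl2 : ∀ k, l k ≫ pullback.snd d z = (AlgSp.yon S).map (w k) := fun k =>
    pullback.lift_snd _ _ _
  have sqk : ∀ k, IsPullback (l k) (fst k) (pullback.fst d z) (c.inj k) := by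
    intro k
    refine IsPullback.of_right (h₁₂ := pullback.snd d z) (h₂₂ := d) (v₁₃ := z) ?_ (hl1 k)
      (IsPullback.of_hasPullback d z).flip
    rw [hl2 k, hd k]
    exact (sq k).flip
  obtain ⟨hP⟩ := isColimit_cofan_of_isPullback c hc (pullback.fst d z) _ l fst sqk
  -- compare with `h_{∐ W k}`
  have hT := isColimitYonSigmaOver W
  let e : (AlgSp.yon S).obj (sigmaOver W) ≅ pullback d z :=
    hT.coconePointUniqueUpToIso hP
  have he : ∀ k, (AlgSp.yon S).map (sigmaOverι W k) ≫ e.hom = l k := fun k =>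
    hT.comp_coconePointUniqueUpToIso_hom hP ⟨k⟩
  have he2 : e.hom ≫ pullback.snd d z = (AlgSp.yon S).map (sigmaOverDesc W w) := by
    refine Cofan.IsColimit.hom_ext hT _ _ (fun k => ?_)
    change (AlgSp.yon S).map (sigmaOverι W k) ≫ _ = (AlgSp.yon S).map (sigmaOverι W k) ≫ _
    rw [reassoc_of% he k, hl2 k, ← Functor.map_comp, sigmaOverι_desc]
  refine ⟨sigmaOver W, sigmaOverDesc W w, e.hom ≫ pullback.fst d z, ?_, ?_, ?_⟩
  · refine (IsPullback.of_hasPullback d z).of_iso e.symm (Iso.refl _) (Iso.refl _) (Iso.refl _)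
      (by simp) ?_ (by simp) (by simp)
    rw [Iso.symm_hom, Iso.refl_hom, Category.comp_id, ← he2, Iso.inv_hom_id_assoc]
  · haveI : ∀ k, IsFinite (w k).left := hfin
    haveI : IsFinite (sigmaOverDesc W w).left :=
      Groth.Agent.R2.H62.FinSigma.isFinite_sigmaDesc (fun k => (W k).left) (fun k => (w k).left)
    exact isAffine_of_isAffineHom (sigmaOverDesc W w).left
  · haveI : ∀ k, IsFinite (w k).left := hfin
    exact Groth.Agent.R2.H62.FinSigma.isFinite_sigmaDesc (fun k => (W k).left) (fun k => (w k).left)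

/-- reindexing a cofan over `Fin n` by `ULift (Fin n)`. -/
noncomputable def isColimitULift {C : Type*} [Category C] {n : ℕ} {X : Fin n → C} (c : Cofan X)
    (hc : IsColimit c) :
    IsColimit (Cofan.mk c.pt (fun k : ULift.{u} (Fin n) => c.inj k.down)) :=
  Cofan.IsColimit.mk _ (fun s => Cofan.IsColimit.desc hc (fun i => s.inj ⟨i⟩))
    (fun s k => by
      change c.inj k.down ≫ _ = _
      rw [Cofan.IsColimit.fac])
    (fun s m hm => by
      refine Cofan.IsColimit.hom_ext hc _ _ (fun i => ?_)
      rw [Cofan.IsColimit.fac]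
      exact hm ⟨i⟩)

end Groth.Agent.R2.H83.FinCoprod
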