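import Mathlib
import Groth.Agent.R2.H83CoprodOver

set_option autoImplicit false
set_option backward.isDefEq.respectTransparency.types false
set_option linter.style.haveILetI false
universe u
open CategoryTheory CategoryTheory.Limits AlgebraicGeometry Opposite
open AlgSp

namespace Groth.Agent.R2.H83.FreeAct

open Groth.Agent.R2.H83.CoprodOver

variable {S : Scheme.{u}} {U : Over S} {G : Type u} [Group G] (ρ : G →* Aut U)

lemma rho_mul_hom (g h : G) : (ρ (g * h)).hom = (ρ h).hom ≫ (ρ g).hom := by
  rw [map_mul]; rfl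

lemma rho_inv_hom (g : G) : (ρ g⁻¹).hom = (ρ g).inv := by
  rw [map_inv]; rfl

/-- the spectrum of a field extension is an epimorphism of schemes. -/
lemma epi_SpecMap_of_isField {K L : CommRingCat.{u}} (hK : IsField K) (hL : IsField L)
    (φ : K ⟶ L) : Epi (Spec.map φ) := by
  letI := hK.toField
  letI := hL.toField
  haveI : Flat (Spec.map φ) := by
    rw [HasRingHomProperty.Spec_iff (P := @Flat)]
    algebraize [φ.hom]
    exact (inferInstance : Module.Flat K L)
  haveI : Surjective (Spec.map φ) := by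
    refine ⟨fun y => ?_⟩
    obtain ⟨x⟩ : Nonempty (PrimeSpectrum L) := inferInstance
    exact ⟨x, @Subsingleton.elim (PrimeSpectrum K) _ _ _⟩
  exact Flat.epi_of_flat_of_surjective _

variable {ρ}

/-- a map from a scheme over `S` which is fixed by a nontrivial element of a free action has
empty source. -/
lemma isEmpty_of_fixed
    (hfree : ∀ (g : G) (x : U.left), g ≠ 1 →
      U.left.fromSpecResidueField x ≫ (ρ g).hom.left ≠ U.left.fromSpecResidueField x)
    {P : Over S} (δ : P ⟶ U) {g : G} (hg : g ≠ 1) (h : δ ≫ (ρ g).hom = δ) : IsEmpty P.left := by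
  refine ⟨fun x => hfree g (δ.left x) hg ?_⟩
  have hl : δ.left ≫ (ρ g).hom.left = δ.left := by rw [← Over.comp_left, h]
  haveI := epi_SpecMap_of_isField (Field.toIsField _) (Field.toIsField _)
    (δ.left.residueFieldMap x)
  rw [← cancel_epi (Spec.map (δ.left.residueFieldMap x)),
    Scheme.Hom.SpecMap_residueFieldMap_fromSpecResidueField_assoc, hl,
    Scheme.Hom.SpecMap_residueFieldMap_fromSpecResidueField]

/-- two maps out of a scheme over `S` with empty underlying scheme agree. -/
lemma hom_ext_of_isEmpty {P Q : Over S} [IsEmpty P.left] (a b : P ⟶ Q) : a = b := by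
  ext1
  exact (isInitialOfIsEmpty : IsInitial P.left).hom_ext _ _

variable (c : Cofan (fun _ : G => U)) (hc : IsColimit c) (s t : c.pt ⟶ U)

include hc in
theorem isEtaleEqvRel_of_free
    (hfree : ∀ (g : G) (x : U.left), g ≠ 1 →
      U.left.fromSpecResidueField x ≫ (ρ g).hom.left ≠ U.left.fromSpecResidueField x)
    (hs : ∀ g, c.inj g ≫ s = 𝟙 U) (ht : ∀ g, c.inj g ≫ t = (ρ g).hom) :
    AlgSp.IsEtaleEqvRel s t := by
  -- the shift maps
  let μ : G → (c.pt ⟶ c.pt) := fun g => Cofan.IsColimit.desc hc (fun h => c.inj (g * h))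
  have hμ : ∀ g h, c.inj h ≫ μ g = c.inj (g * h) := fun g h => Cofan.IsColimit.fac hc _ h
  have hμs : ∀ g, μ g ≫ s = s := by
    intro g
    refine Cofan.IsColimit.hom_ext hc _ _ (fun h => ?_)
    rw [← Category.assoc, hμ, hs, hs]
  have hμt : ∀ g, μ g ≫ t = t ≫ (ρ g).hom := by
    intro g
    refine Cofan.IsColimit.hom_ext hc _ _ (fun h => ?_)
    rw [← Category.assoc, hμ, ht, ← Category.assoc, ht, rho_mul_hom]
  let inv : c.pt ⟶ c.pt := Cofan.IsColimit.desc hc (fun g => (ρ g).hom ≫ c.inj g⁻¹)
  have hinv : ∀ g, c.inj g ≫ inv = (ρ g).hom ≫ c.inj g⁻¹ := fun g => Cofan.IsColimit.fac hc _ g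
  have hinvs : inv ≫ s = t := by
    refine Cofan.IsColimit.hom_ext hc _ _ (fun g => ?_)
    rw [← Category.assoc, hinv, Category.assoc, hs, Category.comp_id, ht]
  have hinvt : inv ≫ t = s := by
    refine Cofan.IsColimit.hom_ext hc _ _ (fun g => ?_)
    rw [← Category.assoc, hinv, Category.assoc, ht, hs, rho_inv_hom, Iso.hom_inv_id]
  refine ⟨⟨?_, ?_⟩, ?_, ?_⟩
  · -- injectivity
    intro T r r' ht' hs'
    obtain ⟨W, α, hd, hcov, hα, ⟨hT⟩⟩ := exists_decomposition c hc r
    refine Cofan.IsColimit.hom_ext hT _ _ (fun g => ?_)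
    show incl T (W g) ≫ r = incl T (W g) ≫ r'
    rw [hα g]
    set q := incl T (W g) ≫ r' with hq
    have hqs : q ≫ s = α g := by
      rw [hq, Category.assoc, ← hs', ← Category.assoc, hα, Category.assoc, hs, Category.comp_id]
    have hqt : q ≫ t = α g ≫ (ρ g).hom := by
      rw [hq, Category.assoc, ← ht', ← Category.assoc, hα, Category.assoc, ht]
    obtain ⟨V, β, hd', hcov', hβ, ⟨hV⟩⟩ := exists_decomposition c hc q
    refine Cofan.IsColimit.hom_ext hV _ _ (fun h => ?_)
    show incl _ (V h) ≫ α g ≫ c.inj g = incl _ (V h) ≫ q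
    rw [hβ h]
    have hβs : β h = incl _ (V h) ≫ α g := by
      have h1 := congrArg (fun m => m ≫ s) (hβ h)
      simp only [Category.assoc, hs, hqs, Category.comp_id] at h1
      exact h1.symm
    have hβt : β h ≫ (ρ h).hom = incl _ (V h) ≫ α g ≫ (ρ g).hom := by
      have h1 := congrArg (fun m => m ≫ t) (hβ h)
      simp only [Category.assoc, ht, hqt] at h1
      exact h1.symm
    by_cases hgh : h = g
    · subst hgh
      rw [hβs, Category.assoc]
    · haveI : IsEmpty (Over.mk ((V h).ι ≫ (Over.mk ((W g).ι ≫ T.hom)).hom)).left := by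
        refine isEmpty_of_fixed hfree (β h) (g := h⁻¹ * g) ?_ ?_
        · intro h1
          apply hgh
          have := congrArg (fun z => h * z) h1
          simpa using this.symm
        · rw [rho_mul_hom, rho_inv_hom, ← Category.assoc, hβs]
          have h2 : (incl _ (V h) ≫ α g) ≫ (ρ g).hom = β h ≫ (ρ h).hom := by
            rw [Category.assoc]; exact hβt.symm
          rw [h2, Category.assoc, Iso.hom_inv_id, Category.comp_id, hβs]
      exact hom_ext_of_isEmpty _ _
  · -- equivalence relation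
    intro T
    refine ⟨fun a => ⟨a ≫ c.inj 1, ?_, ?_⟩, ?_, ?_⟩
    · rw [Category.assoc, ht, map_one]
      exact Category.comp_id a
    · rw [Category.assoc, hs, Category.comp_id]
    · rintro a b ⟨r, hra, hrb⟩
      exact ⟨r ≫ inv, by rw [Category.assoc, hinvt, hrb], by rw [Category.assoc, hinvs, hra]⟩
    · rintro a b c₀ ⟨r, hra, hrb⟩ ⟨r', hr'b, hr'c⟩
      obtain ⟨W, α, hd, hcov, hα, ⟨hT⟩⟩ := exists_decomposition c hc r
      let r'' : T ⟶ c.pt := Cofan.IsColimit.desc hT
        (fun g => incl T (W g) ≫ r' ≫ μ g)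
      have hr'' : ∀ g, incl T (W g) ≫ r'' =
          incl T (W g) ≫ r' ≫ μ g := fun g => Cofan.IsColimit.fac hT _ g
      have hαb : ∀ g, incl T (W g) ≫ b = α g := by
        intro g
        rw [← hrb, ← Category.assoc, hα, Category.assoc, hs, Category.comp_id]
      have hαa : ∀ g, incl T (W g) ≫ a =
          α g ≫ (ρ g).hom := by
        intro g
        rw [← hra, ← Category.assoc, hα, Category.assoc, ht]
      refine ⟨r'', ?_, ?_⟩
      · refine Cofan.IsColimit.hom_ext hT _ _ (fun g => ?_)
        show incl T (W g) ≫ r'' ≫ t = incl T (W g) ≫ a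
        rw [← Category.assoc, hr'', Category.assoc, Category.assoc, hμt, ← Category.assoc r',
          hr'b, ← Category.assoc, hαb, hαa]
      · refine Cofan.IsColimit.hom_ext hT _ _ (fun g => ?_)
        show incl T (W g) ≫ r'' ≫ s = incl T (W g) ≫ c₀
        rw [← Category.assoc, hr'', Category.assoc, Category.assoc, hμs, hr'c]
  · -- `s` is etale
    obtain ⟨-, hopen, hcov⟩ := yon_cofan c hc
    haveI := hopen
    let 𝒰 : c.pt.left.OpenCover := {
      I₀ := G, X _ := U.left, f g := (c.inj g).left,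
      mem₀ := by
        rw [Scheme.presieve₀_mem_precoverage_iff]
        exact ⟨fun x ↦ hcov x, inferInstance⟩ }
    refine (IsZariskiLocalAtSource.iff_of_openCover (P := @Etale) 𝒰).2 fun g => ?_
    show Etale ((c.inj g).left ≫ s.left)
    rw [← Over.comp_left, hs]
    exact (inferInstance : Etale (𝟙 U.left))
  · obtain ⟨-, hopen, hcov⟩ := yon_cofan c hc
    haveI := hopen
    let 𝒰 : c.pt.left.OpenCover := {
      I₀ := G, X _ := U.left, f g := (c.inj g).left,
      mem₀ := by
        rw [Scheme.presieve₀_mem_precoverage_iff]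
        exact ⟨fun x ↦ hcov x, inferInstance⟩ }
    refine (IsZariskiLocalAtSource.iff_of_openCover (P := @Etale) 𝒰).2 fun g => ?_
    show Etale ((c.inj g).left ≫ t.left)
    rw [← Over.comp_left, ht]
    haveI : IsIso (ρ g).hom.left := inferInstanceAs (IsIso ((Over.forget S).map (ρ g).hom))
    infer_instance

end Groth.Agent.R2.H83.FreeAct
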