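import Mathlib
import Groth.Agent.R2.H83FreeAct
import Groth.Agent.R2.H59EtQuot
import Groth.Agent.R2.H43Quot
import Groth.Agent.S9884

set_option autoImplicit false
set_option backward.isDefEq.respectTransparency.types false
set_option linter.style.haveILetI false
universe u
open CategoryTheory CategoryTheory.Limits AlgebraicGeometry Opposite
open AlgSp

namespace Groth.Agent.R2.H83.FreeActSep

open Groth.Agent.R2.H83.CoprodOver Groth.Agent.R2.H83.FreeAct

section Sch

variable {X Y : Scheme.{u}} (j : X ⟶ Y) {ι : Type*} [Finite ι] (V : ι → Scheme.{u})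
  (k : ∀ i, V i ⟶ X)

include V k in
/-- quasi-compactness can be checked on a finite jointly surjective family on the source. -/
lemma quasiCompact_of_finite_cover (hcov : ∀ x : X, ∃ i, x ∈ Set.range (k i))
    (h : ∀ i, QuasiCompact (k i ≫ j)) : QuasiCompact j := by
  refine ⟨fun W hW hWc => ?_⟩
  have : j ⁻¹' W = ⋃ i, (k i) '' ((k i ≫ j) ⁻¹' W) := by
    ext x
    constructor
    · intro hx
      obtain ⟨i, y, rfl⟩ := hcov x
      exact Set.mem_iUnion.2 ⟨i, y, by simpa using hx, rfl⟩
    · intro hx
      obtain ⟨i, y, hy, rfl⟩ := Set.mem_iUnion.1 hx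
      simpa using hy
  rw [this]
  exact isCompact_iUnion (fun i => ((h i).isCompact_preimage W hW hWc).image (k i).continuous)

include V k in
/-- a monomorphism which is a closed immersion on each member of a finite open cover of the source
is a closed immersion. -/
lemma isClosedImmersion_of_finite_cover [∀ i, IsOpenImmersion (k i)]
    (hcov : ∀ x : X, ∃ i, x ∈ Set.range (k i))
    (h : ∀ i, IsClosedImmersion (k i ≫ j)) [Mono j] : IsClosedImmersion j := by
  let 𝒰 : X.OpenCover := {
    I₀ := ι, X := V, f := k,
    mem₀ := by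
      rw [Scheme.presieve₀_mem_precoverage_iff]
      exact ⟨fun x ↦ hcov x, inferInstance⟩ }
  haveI : SurjectiveOnStalks j :=
    (IsZariskiLocalAtSource.iff_of_openCover (P := @SurjectiveOnStalks) 𝒰).2
      fun i => (inferInstance : SurjectiveOnStalks (k i ≫ j))
  refine ⟨?_⟩
  refine Topology.IsClosedEmbedding.of_continuous_injective_isClosedMap j.continuous j.injective ?_
  intro Z hZ
  have : j '' Z = ⋃ i, (k i ≫ j) '' ((k i) ⁻¹' Z) := by
    ext y
    constructor
    · rintro ⟨x, hx, rfl⟩
      obtain ⟨i, x', rfl⟩ := hcov x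
      exact Set.mem_iUnion.2 ⟨i, x', hx, by simp⟩
    · intro hy
      obtain ⟨i, x', hx', rfl⟩ := Set.mem_iUnion.1 hy
      exact ⟨k i x', hx', by simp⟩
  rw [this]
  exact isClosed_iUnion_of_finite
    (fun i => (h i).isClosedEmbedding.isClosedMap _ (hZ.preimage (k i).continuous))

end Sch

variable {S : Scheme.{u}} {U : Over S}

/-- the graph of an automorphism of `U` over `S` has every isomorphism invariant property of the
relative diagonal of `U`. -/
lemma graph_left (P : MorphismProperty Scheme.{u}) [P.RespectsIso] (σ : Aut U)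
    (h : P (pullback.diagonal U.hom)) : P (prod.lift σ.hom (𝟙 U)).left := by
  have h1 : prod.lift σ.hom (𝟙 U) = Limits.diag U ≫ prod.map σ.hom (𝟙 U) := by
    apply Limits.prod.hom_ext <;> simp
  rw [h1, Over.comp_left]
  haveI : IsIso (prod.map σ.hom (𝟙 U)).left :=
    inferInstanceAs (IsIso ((Over.forget S).map (prod.map σ.hom (𝟙 U))))
  rw [P.cancel_right_of_respectsIso]
  rw [← AlgSp.diag_left_comp_prodLeftIsoPullback] at h
  exact (P.cancel_right_of_respectsIso _ _).1 h

variable {G : Type u} [Group G] [Finite G] {ρ : G →* Aut U}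
  (c : Cofan (fun _ : G => U)) (hc : IsColimit c) (s t : c.pt ⟶ U)

include hc in
theorem separation_of_free
    (hfree : ∀ (g : G) (x : U.left), g ≠ 1 →
      U.left.fromSpecResidueField x ≫ (ρ g).hom.left ≠ U.left.fromSpecResidueField x)
    (hs : ∀ g, c.inj g ≫ s = 𝟙 U) (ht : ∀ g, c.inj g ≫ t = (ρ g).hom) :
    (QuasiSeparated U.hom → AlgSp.IsQuasiSeparatedSp (QuotSh.quot Scheme.fppfPrecoverage s t)) ∧
      (IsSeparated U.hom → AlgSp.IsSeparatedSp (QuotSh.quot Scheme.fppfPrecoverage s t)) := by
  have hrel := isEtaleEqvRel_of_free c hc s t hfree hs ht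
  set π := Groth.Agent.R2.H43.Quot.πy s t with hπdef
  have hk := Groth.Agent.R2.H43.Quot.isPullback_πy s t hrel.toIsEqvRel
  have hF := (Groth.Agent.R2.H59.EtQuot.isAlgSpace_of_kernelPair s t π hk hrel.etale_left
    hrel.etale_right).1
  haveI : Sheaf.IsLocallySurjective (prod.map π π) :=
    Groth.Agent.R2.H59.EtQuot.isLocallySurjective_prod_map π π
  have hsq := Groth.Agent.R2.H59.EtQuot.isPullback_diag_of_kernelPair hk
  have hj : prod.lift ((AlgSp.yon S).map t) ((AlgSp.yon S).map s) =
      (AlgSp.yon S).map (prod.lift t s) ≫ prodComparison (AlgSp.yon S) U U := by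
    apply Limits.prod.hom_ext
    · rw [prod.lift_fst, Category.assoc, prodComparison_fst, ← Functor.map_comp, prod.lift_fst]
    · rw [prod.lift_snd, Category.assoc, prodComparison_snd, ← Functor.map_comp, prod.lift_snd]
  have hrep : ∀ (P : MorphismProperty Scheme.{u}) [P.IsStableUnderBaseChange],
      P (prod.lift t s).left →
      AlgSp.RepWith P (prod.lift ((AlgSp.yon S).map t) ((AlgSp.yon S).map s)) := by
    intro P _ hP
    have : P.RespectsIso := MorphismProperty.IsStableUnderBaseChange.respectsIso
    rw [hj]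
    exact (MorphismProperty.cancel_right_of_respectsIso (AlgSp.RepWith P) _ _).2
      ((AlgSp.repWith_yon_map_iff P _).2 hP)
  obtain ⟨-, hopen, hcov⟩ := yon_cofan c hc
  haveI := hopen
  have hgraph : ∀ g, (c.inj g).left ≫ (prod.lift t s).left = (prod.lift (ρ g).hom (𝟙 U)).left := by
    intro g
    rw [← Over.comp_left]
    congr 1
    apply Limits.prod.hom_ext
    · rw [Category.assoc, prod.lift_fst, prod.lift_fst, ht]
    · rw [Category.assoc, prod.lift_snd, prod.lift_snd, hs]
  haveI hmono : Mono (prod.lift t s) := ⟨fun {T} x y hxy => by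
    apply hrel.injective
    · have := congrArg (· ≫ prod.fst) hxy
      simp only [Category.assoc] at this
      rw [prod.lift_fst] at this
      exact this
    · have := congrArg (· ≫ prod.snd) hxy
      simp only [Category.assoc] at this
      rw [prod.lift_snd] at this
      exact this⟩
  haveI : Mono (prod.lift t s).left := inferInstance
  constructor
  · intro hqs
    haveI := Groth.Agent.R2.H44.FppfLocal.quasiCompact.{u}
    refine Groth.Agent.S9884.repWith_of_locallySurjective (Limits.diag _) hF.diag (prod.map π π)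
      _ _ hsq @QuasiCompact (hrep @QuasiCompact ?_)
    refine quasiCompact_of_finite_cover _ (fun _ : G => U.left) (fun g => (c.inj g).left) hcov
      (fun g => ?_)
    rw [hgraph]
    exact graph_left @QuasiCompact (ρ g) hqs.1
  · intro hsep
    haveI := Groth.Agent.R2.H44.FppfLocal.isClosedImmersion.{u}
    refine Groth.Agent.S9884.repWith_of_locallySurjective (Limits.diag _) hF.diag (prod.map π π)
      _ _ hsq @IsClosedImmersion (hrep @IsClosedImmersion ?_)
    refine isClosedImmersion_of_finite_cover _ (fun _ : G => U.left) (fun g => (c.inj g).left) hcov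
      (fun g => ?_)
    rw [hgraph]
    exact graph_left @IsClosedImmersion (ρ g) hsep.1

end Groth.Agent.R2.H83.FreeActSep
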