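import Mathlib
import Groth.Prelude.Def_AlgSpDec
import Groth.Agent.S9900
import Groth.Agent.S10177

/-!
# Lifting a point of `|X|` to a geometric point with a large algebraically closed field (helper83)

* `algebraMap_bijective_of_adjoin_eq_top`: an algebraically closed field `K` has no proper field
  extension generated as a `K`-algebra by fewer than `#K` elements.
* `bijective_of_finiteType_tensor`: a field of finite type over `κ ⊗[R] K` with `#κ < #K` and `K`
  algebraically closed is `K`.
* `exists_factor_of_rel`: if two field-valued points `q₁`, `q₂` of an algebraic space are equivalent,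
  `q₂.K` is algebraically closed and `#q₁.K < #q₂.K`, then `q₂` factors through `q₁`.
* `exists_geometric_lift`: S10000.
-/

set_option autoImplicit false
set_option linter.style.haveILetI false
set_option backward.isDefEq.respectTransparency.types false
universe u
open CategoryTheory CategoryTheory.Limits AlgebraicGeometry Opposite Cardinal

namespace Groth.Agent.R2.H83.GeomLift

/-- An algebraically closed field `K` has no proper field extension generated, as a `K`-algebra, by
fewer than `#K` elements. -/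
theorem algebraMap_bijective_of_adjoin_eq_top {K L : Type u} [Field K] [Field L] [Algebra K L]
    [IsAlgClosed K] (G : Set L) (hG : Algebra.adjoin K G = ⊤) (hcard : #G < #K) :
    Function.Bijective (algebraMap K L) := by
  suffices h : Algebra.IsIntegral K L from IsAlgClosed.algebraMap_bijective_of_isIntegral
  by_cases hfin : G.Finite
  · haveI : Algebra.FiniteType K L := ⟨⟨hfin.toFinset, by simpa using hG⟩⟩
    haveI : Module.Finite K L := finite_of_finite_type_of_isJacobsonRing K L
    infer_instance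
  · by_contra hint
    rw [← Algebra.isAlgebraic_iff_isIntegral, ← Algebra.transcendental_iff_not_isAlgebraic] at hint
    have h1 : Module.rank K L = #L := Algebra.Transcendental.rank_eq_cardinalMk K L
    have h2 : #K ≤ #L := Cardinal.mk_le_of_injective (algebraMap K L).injective
    have hsurj : Function.Surjective (MvPolynomial.aeval (R := K) (fun g : G => (g : L))) := by
      rw [← AlgHom.range_eq_top, ← Algebra.adjoin_range_eq_range_aeval]
      simpa using hG
    have h3 : Module.rank K L ≤ Module.rank K (MvPolynomial G K) :=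
      LinearMap.rank_le_of_surjective
        (MvPolynomial.aeval (R := K) (fun g : G => (g : L))).toLinearMap hsurj
    have hinfG : Infinite G := Set.infinite_coe_iff.2 hfin
    rw [MvPolynomial.rank_eq, Cardinal.mk_finsupp_nat] at h3
    have hinf : ℵ₀ ≤ #G := Cardinal.aleph0_le_mk G
    rw [max_eq_left hinf, h1] at h3
    exact absurd (h2.trans h3) (not_le.2 hcard)

open TensorProduct in
/-- A field `L` of finite type over `κ ⊗[R] K`, with `K` algebraically closed of cardinality bigger
than that of `κ`, is `K` itself. -/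
theorem bijective_of_finiteType_tensor {R κ K L : Type u} [CommRing R] [Field κ] [Field K]
    [Field L] [Algebra R κ] [Algebra R K] [IsAlgClosed K] (hcard : #κ < #K)
    (ψ : κ ⊗[R] K →+* L) (hψ : ψ.FiniteType) :
    Function.Bijective (ψ.comp
      (Algebra.TensorProduct.includeRight (R := R) (A := κ) (B := K)).toRingHom) := by
  letI : Algebra K L := (ψ.comp
      (Algebra.TensorProduct.includeRight (R := R) (A := κ) (B := K)).toRingHom).toAlgebra
  letI : Algebra (κ ⊗[R] K) L := ψ.toAlgebra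
  obtain ⟨s, hs⟩ := (show Algebra.FiniteType (κ ⊗[R] K) L from hψ).out
  let G : Set L := Set.range (fun x : κ => ψ (x ⊗ₜ[R] (1 : K))) ∪ (s : Set L)
  have hK : ∀ y : K, algebraMap K L y = ψ ((1 : κ) ⊗ₜ[R] y) := fun y => rfl
  have hA : ∀ a : κ ⊗[R] K, ψ a ∈ Algebra.adjoin K G := by
    intro a
    induction a using TensorProduct.induction_on with
    | zero => rw [map_zero]; exact zero_mem _
    | tmul x y =>
      have : x ⊗ₜ[R] y = (x ⊗ₜ[R] (1 : K)) * ((1 : κ) ⊗ₜ[R] y) := by
        rw [Algebra.TensorProduct.tmul_mul_tmul, mul_one, one_mul]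
      rw [this, map_mul]
      refine mul_mem (Algebra.subset_adjoin (Or.inl ⟨x, rfl⟩)) ?_
      rw [← hK]
      exact Subalgebra.algebraMap_mem _ _
    | add a b ha hb => rw [map_add]; exact add_mem ha hb
  have hG : Algebra.adjoin K G = ⊤ := by
    rw [eq_top_iff]
    rintro l -
    have hl : l ∈ Algebra.adjoin (κ ⊗[R] K) (s : Set L) := by rw [hs]; trivial
    induction hl using Algebra.adjoin_induction with
    | mem x hx => exact Algebra.subset_adjoin (Or.inr hx)
    | algebraMap a => exact hA a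
    | add x y _ _ hx hy => exact add_mem hx hy
    | mul x y _ _ hx hy => exact mul_mem hx hy
  refine algebraMap_bijective_of_adjoin_eq_top G hG ?_
  have hKinf : ℵ₀ ≤ #K := Cardinal.aleph0_le_mk K
  calc #G ≤ #(Set.range (fun x : κ => ψ (x ⊗ₜ[R] (1 : K)))) + #(s : Set L) :=
        Cardinal.mk_union_le _ _
    _ < #K := Cardinal.add_lt_of_lt hKinf (lt_of_le_of_lt Cardinal.mk_range_le hcard)
        (lt_of_lt_of_le (Cardinal.lt_aleph0_of_finite _) hKinf)

/-- Two morphisms from spectra of fields to `S` that agree on a common field extension factor through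
a common affine open of `S`. -/
theorem exists_affine_factor {S : Scheme.{u}} {Ω κ K : Type u} [Field Ω] [Field κ] [Field K]
    (sκ : Spec (.of κ) ⟶ S) (sK : Spec (.of K) ⟶ S) (α : Spec (.of Ω) ⟶ Spec (.of κ))
    (β : Spec (.of Ω) ⟶ Spec (.of K)) (h : α ≫ sκ = β ≫ sK) :
    ∃ (R : CommRingCat.{u}) (j : Spec R ⟶ S) (_ : IsOpenImmersion j) (φκ : R ⟶ .of κ)
      (φK : R ⟶ .of K), Spec.map φκ ≫ j = sκ ∧ Spec.map φK ≫ j = sK := by
  obtain ⟨R, j, hj, hs, -⟩ := Scheme.exists_affine_mem_range_and_range_subset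
    (x := sK (IsLocalRing.closedPoint K)) (U := ⊤) trivial
  haveI := hj
  have hK : Set.range sK ⊆ Set.range j := by
    rintro _ ⟨z, rfl⟩
    rw [Subsingleton.elim z (IsLocalRing.closedPoint K)]
    exact hs
  have hκ : Set.range sκ ⊆ Set.range j := by
    rintro _ ⟨z, rfl⟩
    have h1 : z = α (IsLocalRing.closedPoint Ω) := Subsingleton.elim _ _
    have h2 : IsLocalRing.closedPoint K = β (IsLocalRing.closedPoint Ω) := Subsingleton.elim _ _
    rw [h1, ← Scheme.Hom.comp_apply, h, Scheme.Hom.comp_apply, ← h2]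
    exact hs
  refine ⟨R, j, hj, Spec.preimage (IsOpenImmersion.lift j sκ hκ),
    Spec.preimage (IsOpenImmersion.lift j sK hK), ?_, ?_⟩
  · rw [Spec.map_preimage, IsOpenImmersion.lift_fac]
  · rw [Spec.map_preimage, IsOpenImmersion.lift_fac]

open AlgSp

variable {S : Scheme.{u}}

/-- the relation on field-valued points in terms of the associated morphisms (as in helper9's
`SpPoint.rel_toHom`, restated here to keep the import chain short). -/
lemma rel_toHom {F : Sp S} {q₁ q₂ : FieldPt F} (h : FieldPt.Rel q₁ q₂) :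
    ∃ (Ω : Type u) (_ : Field Ω) (w : Spec (CommRingCat.of Ω) ⟶ S) (a : Over.mk w ⟶ q₁.pt)
      (b : Over.mk w ⟶ q₂.pt), (yon S).map a ≫ q₁.toHom = (yon S).map b ≫ q₂.toHom := by
  obtain ⟨Ω, hΩ, w, a, b, hab⟩ := h
  refine ⟨Ω, hΩ, w, a, b, ?_⟩
  change (AlgSp.J S).uliftYoneda.map a ≫ (AlgSp.J S).uliftYonedaEquiv.symm q₁.val =
    (AlgSp.J S).uliftYoneda.map b ≫ (AlgSp.J S).uliftYonedaEquiv.symm q₂.val
  rw [GrothendieckTopology.uliftYonedaEquiv_symm_naturality_left,
    GrothendieckTopology.uliftYonedaEquiv_symm_naturality_left, hab]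

open TensorProduct in
/-- If two field-valued points `q₁`, `q₂` of an algebraic space are equivalent, the field of `q₂` is
algebraically closed and of cardinality bigger than the field of `q₁`, then `q₂` factors through
`q₁`. -/
theorem exists_factor_of_rel {Y : AlgSp.Sp S} (hY : AlgSp.IsAlgSpace Y) (q₁ q₂ : FieldPt Y)
    (h : FieldPt.Rel q₁ q₂) (hK : IsAlgClosed q₂.K) (hcard : #q₁.K < #q₂.K) :
    ∃ σ : q₂.pt ⟶ q₁.pt, (yon S).map σ ≫ q₁.toHom = q₂.toHom := by
  obtain ⟨Ω, hΩ, w, α, β, hαβ⟩ := rel_toHom h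
  have hw : α.left ≫ q₁.str = β.left ≫ q₂.str := (Over.w α).trans (Over.w β).symm
  obtain ⟨R, j, hj, φκ, φK, h1, h2⟩ := exists_affine_factor q₁.str q₂.str α.left β.left hw
  letI : Algebra R q₁.K := φκ.hom.toAlgebra
  letI : Algebra R q₂.K := φK.hom.toAlgebra
  -- ring maps to Ω
  let αr : q₁.K →+* Ω := (Spec.preimage α.left).hom
  let βr : q₂.K →+* Ω := (Spec.preimage β.left).hom
  have hαβr : αr.comp φκ.hom = βr.comp φK.hom := by
    have e1 : Spec.map (φκ ≫ Spec.preimage α.left) ≫ j =
        Spec.map (φK ≫ Spec.preimage β.left) ≫ j := by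
      rw [Spec.map_comp, Spec.map_comp, Spec.map_preimage, Spec.map_preimage, Category.assoc,
        Category.assoc, h1, h2, hw]
    have e2 := Spec.map_injective ((cancel_mono j).1 e1)
    exact congrArg CommRingCat.Hom.hom e2
  letI : Algebra R Ω := (αr.comp φκ.hom).toAlgebra
  let αa : q₁.K →ₐ[R] Ω := ⟨αr, fun r => rfl⟩
  let βa : q₂.K →ₐ[R] Ω := ⟨βr, fun r => (RingHom.congr_fun hαβr r).symm⟩
  let ωr : q₁.K ⊗[R] q₂.K →+* Ω := (Algebra.TensorProduct.productMap αa βa).toRingHom
  let iL : q₁.K →+* q₁.K ⊗[R] q₂.K := Algebra.TensorProduct.includeLeftRingHom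
  let iR : q₂.K →+* q₁.K ⊗[R] q₂.K :=
    (Algebra.TensorProduct.includeRight (R := R) (A := q₁.K) (B := q₂.K)).toRingHom
  have hiL : iL.comp φκ.hom = algebraMap R (q₁.K ⊗[R] q₂.K) := by
    ext r; rfl
  have hiR : iR.comp φK.hom = algebraMap R (q₁.K ⊗[R] q₂.K) := by
    ext r
    exact (Algebra.TensorProduct.includeRight (R := R) (A := q₁.K) (B := q₂.K)).commutes r
  have hωL : ωr.comp iL = αr := by
    ext x
    change Algebra.TensorProduct.productMap αa βa (x ⊗ₜ[R] 1) = αr x
    rw [Algebra.TensorProduct.productMap_left_apply]; rfl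
  have hωR : ωr.comp iR = βr := by
    ext x
    change Algebra.TensorProduct.productMap αa βa (1 ⊗ₜ[R] x) = βr x
    rw [Algebra.TensorProduct.productMap_right_apply]; rfl
  -- the scheme `T = Spec (κ ⊗[R] K)` over `S`
  let T : Over S := Over.mk (Spec.map (CommRingCat.ofHom (algebraMap R (q₁.K ⊗[R] q₂.K))) ≫ j)
  have hp1 : Spec.map (CommRingCat.ofHom iL) ≫ q₁.str = T.hom := by
    change _ = Spec.map (CommRingCat.ofHom (algebraMap R (q₁.K ⊗[R] q₂.K))) ≫ j
    rw [← h1, ← Category.assoc, ← Spec.map_comp, ← hiL]; rfl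
  have hp2 : Spec.map (CommRingCat.ofHom iR) ≫ q₂.str = T.hom := by
    change _ = Spec.map (CommRingCat.ofHom (algebraMap R (q₁.K ⊗[R] q₂.K))) ≫ j
    rw [← h2, ← Category.assoc, ← Spec.map_comp, ← hiR]; rfl
  let p1 : T ⟶ q₁.pt := Over.homMk (Spec.map (CommRingCat.ofHom iL)) hp1
  let p2 : T ⟶ q₂.pt := Over.homMk (Spec.map (CommRingCat.ofHom iR)) hp2
  have hωα : Spec.map (CommRingCat.ofHom ωr) ≫ Spec.map (CommRingCat.ofHom iL) = α.left := by
    rw [← Spec.map_comp, ← CommRingCat.ofHom_comp, hωL]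
    exact Spec.map_preimage α.left
  have hωβ : Spec.map (CommRingCat.ofHom ωr) ≫ Spec.map (CommRingCat.ofHom iR) = β.left := by
    rw [← Spec.map_comp, ← CommRingCat.ofHom_comp, hωR]
    exact Spec.map_preimage β.left
  have hω : Spec.map (CommRingCat.ofHom ωr) ≫ T.hom = w := by
    rw [← hp1, ← Category.assoc, hωα]
    exact Over.w α
  let ω : Over.mk w ⟶ T := Over.homMk (Spec.map (CommRingCat.ofHom ωr)) hω
  have hω1 : ω ≫ p1 = α := Over.OverMorphism.ext hωα
  have hω2 : ω ≫ p2 = β := Over.OverMorphism.ext hωβ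
  -- the locus in `T` where the two points agree
  obtain ⟨E, e, he⟩ := Groth.Agent.S9900.exists_isEqLocus hY.diag
    ((yon S).map p1 ≫ q₁.toHom) ((yon S).map p2 ≫ q₂.toHom)
  haveI : LocallyOfFiniteType e.left := he.locallyOfFiniteType hY
  obtain ⟨t', ht'⟩ := (he.2 (Over.mk w) ω).1 (by
    rw [← Category.assoc, ← Category.assoc, ← Functor.map_comp, ← Functor.map_comp, hω1, hω2,
      hαβ])
  -- an affine open of `E` and a closed point of it
  obtain ⟨C, i, hi, ⟨z, hz⟩, -⟩ := Scheme.exists_affine_mem_range_and_range_subset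
    (x := t'.left (IsLocalRing.closedPoint Ω)) (U := ⊤) trivial
  haveI := hi
  haveI : Nontrivial C := PrimeSpectrum.nontrivial z
  obtain ⟨m, hm⟩ := Ideal.exists_maximal C
  letI : Field (C ⧸ m) := Ideal.Quotient.field m
  let ψ' : CommRingCat.of (q₁.K ⊗[R] q₂.K) ⟶ C := Spec.preimage (i ≫ e.left)
  have hψ' : Spec.map ψ' = i ≫ e.left := Spec.map_preimage _
  have hft : ψ'.hom.FiniteType := by
    have : LocallyOfFiniteType (Spec.map ψ') := by rw [hψ']; infer_instance
    exact (HasRingHomProperty.Spec_iff (P := @LocallyOfFiniteType)).1 this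
  let ψ : q₁.K ⊗[R] q₂.K →+* C ⧸ m := (Ideal.Quotient.mk m).comp ψ'.hom
  have hψ : ψ.FiniteType :=
    (RingHom.FiniteType.of_surjective _ Ideal.Quotient.mk_surjective).comp hft
  have hbij := bijective_of_finiteType_tensor hcard ψ hψ
  let θ : C ⧸ m ≃+* q₂.K := (RingEquiv.ofBijective _ hbij).symm
  have hθ : (θ : C ⧸ m →+* q₂.K).comp (ψ.comp iR) = RingHom.id _ := by
    ext x
    exact (RingEquiv.ofBijective _ hbij).symm_apply_apply x
  -- the section
  let σl : Spec (.of q₂.K) ⟶ E.left := Spec.map (CommRingCat.ofHom (θ : C ⧸ m →+* q₂.K)) ≫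
    Spec.map (CommRingCat.ofHom (Ideal.Quotient.mk m)) ≫ i
  have hσ2 : σl ≫ e.left ≫ Spec.map (CommRingCat.ofHom iR) = 𝟙 _ := by
    simp only [σl, Category.assoc]
    rw [← Category.assoc i, ← hψ', ← Spec.map_comp, ← Spec.map_comp, ← Spec.map_comp]
    have : ((CommRingCat.ofHom iR ≫ ψ') ≫ CommRingCat.ofHom (Ideal.Quotient.mk m)) ≫
        CommRingCat.ofHom (θ : C ⧸ m →+* q₂.K) = 𝟙 _ := by
      ext x
      exact RingHom.congr_fun hθ x
    rw [this, Spec.map_id]
  have hσE : σl ≫ E.hom = q₂.str := by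
    rw [← Over.w e, ← hp2, ← Category.assoc, ← Category.assoc, Category.assoc σl, hσ2,
      Category.id_comp]
  let σE : q₂.pt ⟶ E := Over.homMk σl hσE
  have hσp2 : (σE ≫ e) ≫ p2 = 𝟙 _ := Over.OverMorphism.ext (by
    simpa [σE, p2, Category.assoc] using hσ2)
  have key := (he.2 q₂.pt (σE ≫ e)).2 ⟨σE, rfl⟩
  refine ⟨(σE ≫ e) ≫ p1, ?_⟩
  rw [Functor.map_comp, Category.assoc, key, ← Category.assoc, ← Functor.map_comp, hσp2,
    CategoryTheory.Functor.map_id, Category.id_comp]

/-- S10000: lifting a point of `|X|` over a geometric point of `Y` with a large field. -/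
theorem exists_geometric_lift {X Y : AlgSp.Space S} (f : X ⟶ Y)
    {U : Over S} (a : (AlgSp.yon S).obj U ⟶ X.obj) (has : AlgSp.RepWith @Surjective a)
    (ybar : AlgSp.FieldPt Y.obj) (hy : ybar.IsGeometric)
    (hk : ∀ u : ↥U.left, Cardinal.mk ↥(U.left.residueField u) < Cardinal.mk ybar.K)
    (x : AlgSp.Points X.obj) (hx : AlgSp.Points.map f.hom x = AlgSp.Points.mk ybar) :
    ∃ xbar : (AlgSp.yon S).obj ybar.pt ⟶ X.obj, xbar ≫ f.hom = ybar.toHom ∧
      AlgSp.Points.ofPt xbar (IsLocalRing.closedPoint ybar.K) = x := by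
  obtain ⟨u, rfl⟩ := Groth.Agent.S10177.surjective_ofPt a has x
  rw [AlgSp.Points.map_ofPt] at hx
  obtain ⟨σ, hσ⟩ := exists_factor_of_rel Y.property (FieldPt.ofPt (a ≫ f.hom) u) ybar
    (AlgSp.Points.mk_eq_mk_iff.1 hx) hy (hk u)
  rw [FieldPt.toHom_ofPt] at hσ
  refine ⟨(AlgSp.yon S).map (σ ≫ Over.homMk (U.left.fromSpecResidueField u) rfl) ≫ a, ?_, ?_⟩
  · rw [Functor.map_comp, Category.assoc, Category.assoc]
    exact hσ
  · rw [Groth.Agent.S10176.ofPt_map_comp]
    congr 1
    rw [Over.comp_left, Scheme.Hom.comp_apply]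
    exact Scheme.fromSpecResidueField_apply _ _

end Groth.Agent.R2.H83.GeomLift
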