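-- helper83: package LC-1 of `H83ImmDescSpec`: locally closedness of the image of a morphism of
-- affine schemes descends along standard fpqc coverings.
import Mathlib
import Groth.Agent.R2.H83ImmDescSpec

set_option autoImplicit false
set_option backward.isDefEq.respectTransparency.types false
set_option linter.style.haveILetI false
universe u
open CategoryTheory CategoryTheory.Limits AlgebraicGeometry Opposite

namespace Groth.Agent.R2.H83.LocClosed

/-- every point of the closure of the image of `Spec S ⟶ Spec R` is a specialisation of a point of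
the image. -/
lemma exists_specializes_of_mem_closure_range_comap {R S : Type u} [CommRing R] [CommRing S]
    (φ : R →+* S) (𝔭 : PrimeSpectrum R)
    (h : 𝔭 ∈ closure (Set.range (PrimeSpectrum.comap φ))) :
    ∃ 𝔮 : PrimeSpectrum S, PrimeSpectrum.comap φ 𝔮 ⤳ 𝔭 := by
  rw [PrimeSpectrum.closure_range_comap, PrimeSpectrum.mem_zeroLocus] at h
  obtain ⟨p', hp', hle⟩ := Ideal.exists_minimalPrimes_le (J := 𝔭.asIdeal) h
  have hp'' : p' ∈ ((⊥ : Ideal S).comap φ).minimalPrimes := hp'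
  obtain ⟨q, hq, -, rfl⟩ := Ideal.exists_comap_eq_of_mem_minimalPrimes φ p' hp''
  exact ⟨⟨q, hq⟩, (PrimeSpectrum.le_iff_specializes _ 𝔭).mp hle⟩

/-- the same for a morphism of affine schemes. -/
lemma exists_specializes_of_mem_closure_range {Z U : Scheme.{u}} [IsAffine Z] [IsAffine U]
    (ν : U ⟶ Z) (z : Z) (h : z ∈ closure (Set.range ⇑ν)) : ∃ a : U, ν a ⤳ z := by
  have hnat : ν ≫ Z.toSpecΓ = U.toSpecΓ ≫ Spec.map ν.appTop := Scheme.toSpecΓ_naturality ν
  let eZ : Z ≃ₜ Spec Γ(Z, ⊤) := Scheme.Hom.homeomorph Z.toSpecΓ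
  let eU : U ≃ₜ Spec Γ(U, ⊤) := Scheme.Hom.homeomorph U.toSpecΓ
  have hz : Z.toSpecΓ z ∈ closure (Set.range ⇑(Spec.map ν.appTop)) := by
    have h1 : eZ z ∈ eZ '' closure (Set.range ⇑ν) := Set.mem_image_of_mem _ h
    rw [eZ.image_closure, ← Set.range_comp] at h1
    refine closure_mono ?_ h1
    rintro _ ⟨a, rfl⟩
    refine ⟨U.toSpecΓ a, ?_⟩
    rw [← Scheme.Hom.comp_apply, ← hnat, Scheme.Hom.comp_apply]
    rfl
  obtain ⟨𝔮, h𝔮⟩ := exists_specializes_of_mem_closure_range_comap ν.appTop.hom (Z.toSpecΓ z) hz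
  obtain ⟨a, rfl⟩ := eU.surjective 𝔮
  refine ⟨a, ?_⟩
  have h2 : Z.toSpecΓ (ν a) ⤳ Z.toSpecΓ z := by
    rw [← Scheme.Hom.comp_apply, hnat, Scheme.Hom.comp_apply]
    exact h𝔮
  exact eZ.isInducing.specializes_iff.mp h2

/-- the closure of the image of a morphism of affine schemes commutes with flat base change. -/
lemma preimage_closure_range_subset {Z U W : Scheme.{u}} [IsAffine Z] [IsAffine U] (ν : U ⟶ Z)
    (c : W ⟶ Z) [Flat c] :
    ⇑c ⁻¹' closure (Set.range ⇑ν) ⊆ closure (⇑c ⁻¹' Set.range ⇑ν) := by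
  intro w hw
  obtain ⟨a, ha⟩ := exists_specializes_of_mem_closure_range ν (c w) hw
  obtain ⟨w', hw', hcw'⟩ := Flat.generalizingMap c ha
  have : w' ∈ ⇑c ⁻¹' Set.range ⇑ν := ⟨a, hcw'.symm⟩
  exact hw'.mem_closed isClosed_closure (subset_closure this)

/-- closedness descends along a standard fpqc covering. -/
lemma isClosed_of_standard_fpqc {Z : Scheme.{u}} {m : ℕ} (W : Fin m → Scheme.{u})
    (c : ∀ j, W j ⟶ Z) (hWa : ∀ j, IsAffine (W j)) [IsAffine Z] (hfl : ∀ j, Flat (c j))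
    (hsurj : ∀ z : Z, ∃ j, z ∈ Set.range (c j)) (T : Set Z)
    (hT : ∀ j, IsClosed (⇑(c j) ⁻¹' T)) : IsClosed T := by
  haveI := hWa
  haveI : Flat (Sigma.desc c) := IsZariskiLocalAtSource.sigmaDesc (P := @Flat) hfl
  haveI : Surjective (Sigma.desc c) := by
    refine ⟨fun z => ?_⟩
    obtain ⟨j, w, hw⟩ := hsurj z
    refine ⟨(Sigma.ι W j) w, ?_⟩
    rw [← Scheme.Hom.comp_apply, Sigma.ι_desc]
    exact hw
  haveI : QuasiCompact (Sigma.desc c) := inferInstance
  have hq := Flat.isQuotientMap_of_surjective (Sigma.desc c)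
  rw [← isOpen_compl_iff, ← hq.isOpen_preimage]
  have e : ⇑(Sigma.desc c) ⁻¹' Tᶜ = ⋃ j, ⇑(Sigma.ι W j) '' (⇑(c j) ⁻¹' T)ᶜ := by
    ext x
    simp only [Set.mem_preimage, Set.mem_compl_iff, Set.mem_iUnion, Set.mem_image]
    constructor
    · intro hx
      obtain ⟨j, w, rfl⟩ := (sigmaOpenCover W).exists_eq x
      refine ⟨j, w, ?_, rfl⟩
      have h1 : (Sigma.desc c) ((Sigma.ι W j) w) = (c j) w := by
        rw [← Scheme.Hom.comp_apply, Sigma.ι_desc]
      rw [← h1]
      exact hx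
    · rintro ⟨j, w, hw, rfl⟩
      have h1 : (Sigma.desc c) ((Sigma.ι W j) w) = (c j) w := by
        rw [← Scheme.Hom.comp_apply, Sigma.ι_desc]
      rw [h1]
      exact hw
  rw [e]
  exact isOpen_iUnion fun j => (Sigma.ι W j).isOpenMap _ (hT j).isOpen_compl

/-- **PACKAGE LC-1**. -/
theorem locClosedFpqcStmt : Groth.Agent.R2.H83.ImmDescSpec.LocClosedFpqcStmt.{u} := by
  intro Z U _ _ ν m W c hWa hfl hsurj h
  rw [isLocallyClosed_iff_isOpen_coborder, coborder, isOpen_compl_iff]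
  refine isClosed_of_standard_fpqc W c hWa hfl hsurj _ (fun j => ?_)
  haveI := hfl j
  have e : ⇑(c j) ⁻¹' (closure (Set.range ⇑ν) \ Set.range ⇑ν) =
      closure (⇑(c j) ⁻¹' Set.range ⇑ν) \ (⇑(c j) ⁻¹' Set.range ⇑ν) := by
    rw [Set.preimage_sdiff]
    congr 1
    exact (preimage_closure_range_subset ν (c j)).antisymm
      ((c j).continuous.closure_preimage_subset _)
  rw [e]
  have := (h j).isOpen_coborder
  rwa [coborder, isOpen_compl_iff] at this

end Groth.Agent.R2.H83.LocClosed
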