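import Groth.Prelude.Def_Flatn
import Mathlib.AlgebraicGeometry.Morphisms.Proper
import Mathlib.AlgebraicGeometry.Morphisms.Flat
import Mathlib.AlgebraicGeometry.Pullbacks
import Mathlib.AlgebraicGeometry.PullbackCarrier
import Mathlib.CategoryTheory.Comma.Over.Basic
import Mathlib.CategoryTheory.Yoneda

/-!
# `Mor_S(X, U) → Mor_S(X, Y)` is an open immersion for `U ⊆ Y` open and `X/S` proper

Helper library (helper83) for S17080.
-/

set_option autoImplicit false
universe u
open CategoryTheory CategoryTheory.Limits AlgebraicGeometry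

namespace Groth.Agent.R2.H83.MorSOpen

variable {X Y U S : Scheme.{u}} (gX : X ⟶ S) (gY : Y ⟶ S)
    (j : U ⟶ Y) (M : Over S) (e : (Flatn.morS gX gY).RepresentableBy M)

/-- The universal `S`-morphism `M ×_S X ⟶ Y`. -/
noncomputable def univ : (Over.map gX).obj ((Over.pullback gX).obj M) ⟶ Over.mk gY :=
  e.homEquiv (𝟙 M)

lemma homEquiv_eq {T : Over S} (ψ : T ⟶ M) :
    e.homEquiv ψ = (Over.map gX).map ((Over.pullback gX).map ψ) ≫ univ gX gY M e := by
  have := e.homEquiv_comp ψ (𝟙 M)
  rw [Category.comp_id] at this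
  exact this

lemma homEquiv_left {T : Over S} (ψ : T ⟶ M) :
    (e.homEquiv ψ).left =
      pullback.lift (pullback.fst T.hom gX ≫ ψ.left) (pullback.snd T.hom gX)
        (by simp [pullback.condition]) ≫ (univ gX gY M e).left := by
  rw [homEquiv_eq]
  rfl

/-- The closed "bad" subset of `M`: the image of the locus of `M ×_S X` not mapped into `U`. -/
def badSet : Set M.left :=
  (pullback.fst M.hom gX).base '' ((univ gX gY M e).left.base ⁻¹' (Set.range j.base)ᶜ)

lemma isClosed_badSet [IsProper gX] [IsOpenImmersion j] : IsClosed (badSet gX gY j M e) := by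
  have : IsProper (pullback.fst M.hom gX) := inferInstance
  refine (pullback.fst M.hom gX).isClosedMap _ ?_
  exact IsClosed.preimage (univ gX gY M e).left.continuous
    j.isOpenEmbedding.isOpen_range.isClosed_compl

/-- The open subset of `M` classifying morphisms landing in `U`. -/
def M₀ [IsProper gX] [IsOpenImmersion j] : M.left.Opens :=
  ⟨(badSet gX gY j M e)ᶜ, (isClosed_badSet gX gY j M e).isOpen_compl⟩

lemma range_subset_iff [IsProper gX] [IsOpenImmersion j] {T : Over S} (ψ : T ⟶ M) :
    Set.range ψ.left.base ⊆ ((M₀ gX gY j M e : M.left.Opens) : Set M.left) ↔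
      Set.range (e.homEquiv ψ).left.base ⊆ Set.range j.base := by
  set q : pullback T.hom gX ⟶ pullback M.hom gX :=
    pullback.lift (pullback.fst T.hom gX ≫ ψ.left) (pullback.snd T.hom gX)
      (by simp [pullback.condition]) with hq
  have hleft : (e.homEquiv ψ).left = q ≫ (univ gX gY M e).left := homEquiv_left gX gY M e ψ
  have hq1 : q ≫ pullback.fst M.hom gX = pullback.fst T.hom gX ≫ ψ.left := pullback.lift_fst _ _ _
  have hq2 : q ≫ pullback.snd M.hom gX = pullback.snd T.hom gX := pullback.lift_snd _ _ _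
  constructor
  · rintro h _ ⟨w, rfl⟩
    by_contra hw
    have h1 : ψ.left.base ((pullback.fst T.hom gX).base w) ∈
        ((M₀ gX gY j M e : M.left.Opens) : Set M.left) := h ⟨_, rfl⟩
    apply h1
    refine ⟨q.base w, ?_, ?_⟩
    · simpa [hleft] using hw
    · rw [← Scheme.Hom.comp_apply, hq1, Scheme.Hom.comp_apply]
  · rintro h _ ⟨t, rfl⟩
    rintro ⟨z, hz, hzt⟩
    -- the square `q, fst; fst, ψ.left` is a pullback
    have hpb : IsPullback q (pullback.fst T.hom gX) (pullback.fst M.hom gX) ψ.left := by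
      have hbig : IsPullback (pullback.snd T.hom gX) (pullback.fst T.hom gX) gX T.hom :=
        (IsPullback.of_hasPullback T.hom gX).flip
      have hright : IsPullback (pullback.snd M.hom gX) (pullback.fst M.hom gX) gX M.hom :=
        (IsPullback.of_hasPullback M.hom gX).flip
      have hw : ψ.left ≫ M.hom = T.hom := Over.w ψ
      refine IsPullback.of_right (t := hright) ?_ hq1 |>.flip.flip
      · rw [hq2, hw]; exact hbig
    obtain ⟨w, hw1, hw2⟩ := AlgebraicGeometry.Scheme.exists_preimage_of_isPullback hpb z t hzt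
    apply hz
    apply h
    refine ⟨w, ?_⟩
    rw [hleft, Scheme.Hom.comp_apply, hw1]


section Rep

variable [IsProper gX] [IsOpenImmersion j]

/-- `e.homEquiv` with its codomain typed as a hom-set of `Over S`. -/
noncomputable def hE {T : Over S} :
    (T ⟶ M) ≃ ((Over.map gX).obj ((Over.pullback gX).obj T) ⟶ Over.mk gY) where
  toFun ψ := e.homEquiv ψ
  invFun b := e.homEquiv.symm b
  left_inv ψ := e.homEquiv.left_inv ψ
  right_inv b := e.homEquiv.right_inv b

omit [IsProper gX] in
lemma hE_comp {T T' : Over S} (f : T ⟶ T') (g : T' ⟶ M) :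
    hE gX gY M e (f ≫ g) =
      (Over.map gX).map ((Over.pullback gX).map f) ≫ hE gX gY M e g :=
  e.homEquiv_comp f g

lemma range_subset_iff' {T : Over S} (ψ : T ⟶ M) :
    Set.range ψ.left.base ⊆ ((M₀ gX gY j M e : M.left.Opens) : Set M.left) ↔
      Set.range (hE gX gY M e ψ).left.base ⊆ Set.range j.base :=
  range_subset_iff gX gY j M e ψ

/-- The object `M₀` over `S`. -/
noncomputable abbrev M₀Over : Over S := Over.mk ((M₀ gX gY j M e).ι ≫ M.hom)

/-- The inclusion `M₀ ⟶ M` over `S`. -/
noncomputable abbrev ιOver : M₀Over gX gY j M e ⟶ M := Over.homMk (M₀ gX gY j M e).ι rfl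

/-- `j` as a morphism over `S`. -/
noncomputable abbrev jOver : (Over.mk (j ≫ gY) : Over S) ⟶ Over.mk gY := Over.homMk j rfl

instance : Mono (jOver gY j) := by
  have : Mono (jOver gY j).left := by dsimp; infer_instance
  exact (Over.forget S).mono_of_mono_map this

instance : Mono (ιOver gX gY j M e) := by
  have : Mono (ιOver gX gY j M e).left := by dsimp; infer_instance
  exact (Over.forget S).mono_of_mono_map this

lemma range_fwd {T : Over S} (φ : T ⟶ M₀Over gX gY j M e) :
    Set.range (hE gX gY M e (φ ≫ ιOver gX gY j M e)).left.base ⊆ Set.range j.base := by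
  rw [← range_subset_iff']
  rintro _ ⟨t, rfl⟩
  have : (φ ≫ ιOver gX gY j M e).left = φ.left ≫ (M₀ gX gY j M e).ι := rfl
  rw [this, Scheme.Hom.comp_apply]
  exact (φ.left.base t).2

/-- forward map of the representation. -/
noncomputable def fwd {T : Over S} (φ : T ⟶ M₀Over gX gY j M e) :
    (Over.map gX).obj ((Over.pullback gX).obj T) ⟶ Over.mk (j ≫ gY) :=
  Over.homMk (IsOpenImmersion.lift j (hE gX gY M e (φ ≫ ιOver gX gY j M e)).left
      (range_fwd gX gY j M e φ)) (by
    have h := Over.w (hE gX gY M e (φ ≫ ιOver gX gY j M e))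
    dsimp at h ⊢
    rw [IsOpenImmersion.lift_fac_assoc]
    exact h)

lemma fwd_comp {T : Over S} (φ : T ⟶ M₀Over gX gY j M e) :
    fwd gX gY j M e φ ≫ jOver gY j = hE gX gY M e (φ ≫ ιOver gX gY j M e) := by
  ext
  exact IsOpenImmersion.lift_fac _ _ _

lemma range_bwd {T : Over S}
    (b : (Over.map gX).obj ((Over.pullback gX).obj T) ⟶ Over.mk (j ≫ gY)) :
    Set.range ((hE gX gY M e).symm (b ≫ jOver gY j)).left.base ⊆
      Set.range (M₀ gX gY j M e).ι.base := by
  have h0 : Set.range (M₀ gX gY j M e).ι.base = ((M₀ gX gY j M e : M.left.Opens) : Set M.left) := by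
    simp
  rw [h0, range_subset_iff', Equiv.apply_symm_apply]
  rintro _ ⟨w, rfl⟩
  exact ⟨b.left.base w, rfl⟩

/-- backward map of the representation. -/
noncomputable def bwd {T : Over S}
    (b : (Over.map gX).obj ((Over.pullback gX).obj T) ⟶ Over.mk (j ≫ gY)) :
    T ⟶ M₀Over gX gY j M e :=
  Over.homMk (IsOpenImmersion.lift (M₀ gX gY j M e).ι
      ((hE gX gY M e).symm (b ≫ jOver gY j)).left (range_bwd gX gY j M e b)) (by
    have h := Over.w ((hE gX gY M e).symm (b ≫ jOver gY j))
    dsimp at h ⊢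
    rw [IsOpenImmersion.lift_fac_assoc]
    exact h)

lemma bwd_comp {T : Over S}
    (b : (Over.map gX).obj ((Over.pullback gX).obj T) ⟶ Over.mk (j ≫ gY)) :
    bwd gX gY j M e b ≫ ιOver gX gY j M e = (hE gX gY M e).symm (b ≫ jOver gY j) := by
  ext
  exact IsOpenImmersion.lift_fac _ _ _

lemma bwd_fwd {T : Over S} (φ : T ⟶ M₀Over gX gY j M e) :
    bwd gX gY j M e (fwd gX gY j M e φ) = φ := by
  rw [← cancel_mono (ιOver gX gY j M e), bwd_comp, fwd_comp, Equiv.symm_apply_apply]

lemma fwd_bwd {T : Over S}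
    (b : (Over.map gX).obj ((Over.pullback gX).obj T) ⟶ Over.mk (j ≫ gY)) :
    fwd gX gY j M e (bwd gX gY j M e b) = b := by
  rw [← cancel_mono (jOver gY j), fwd_comp, bwd_comp, Equiv.apply_symm_apply]

lemma fwd_naturality {T T' : Over S} (f : T ⟶ T') (g : T' ⟶ M₀Over gX gY j M e) :
    fwd gX gY j M e (f ≫ g) =
      (Over.map gX).map ((Over.pullback gX).map f) ≫ fwd gX gY j M e g := by
  rw [← cancel_mono (jOver gY j), fwd_comp, Category.assoc, Category.assoc, fwd_comp, hE_comp]

/-- The representation of `Mor_S(X, U)` by `M₀`. -/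
noncomputable def rep : (Flatn.morS gX (j ≫ gY)).RepresentableBy (M₀Over gX gY j M e) where
  homEquiv {_} :=
    { toFun := fun φ => fwd gX gY j M e φ
      invFun := fun b => bwd gX gY j M e b
      left_inv := fun φ => bwd_fwd gX gY j M e φ
      right_inv := fun b => fwd_bwd gX gY j M e b }
  homEquiv_comp f g := fwd_naturality gX gY j M e f g

lemma rep_homEquiv {T : Over S} (φ : T ⟶ M₀Over gX gY j M e) :
    (rep gX gY j M e).homEquiv φ = fwd gX gY j M e φ := rfl

lemma rep_compat {T : Over S} (φ : T ⟶ M₀Over gX gY j M e) :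
    (e.homEquiv (φ ≫ ιOver gX gY j M e) :
        (Over.map gX).obj ((Over.pullback gX).obj T) ⟶ Over.mk gY) =
      ((rep gX gY j M e).homEquiv φ :
        (Over.map gX).obj ((Over.pullback gX).obj T) ⟶ Over.mk (j ≫ gY)) ≫ jOver gY j :=
  (fwd_comp gX gY j M e φ).symm

end Rep

end Groth.Agent.R2.H83.MorSOpen
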