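/-
helper87: tools for standard ph coverings (Stacks 0DBG): finite affine refinements of open covers of
compact schemes, common refinement of finitely many proper surjective morphisms, and the
"proper closure" construction based on Chow's lemma.
-/
import Mathlib
import Groth.Agent.S7409
import Groth.Agent.S9705
import Groth.Agent.R2.H87ProjSpaceOver
import Groth.Prelude.Def_HTop

set_option autoImplicit false
universe w u
open CategoryTheory AlgebraicGeometry Limits TopologicalSpace

namespace Groth.Agent.R2.H87.PhCover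

/-- An open cover of a compact scheme has a finite refinement by affine opens. -/
theorem exists_finite_affine_refinement {V : Scheme.{u}} [CompactSpace V] {κ : Type*}
    (A : κ → V.Opens) (hA : ∀ v : V, ∃ k, v ∈ A k) :
    ∃ (N : ℕ) (B : Fin N → V.Opens) (s : Fin N → κ), (∀ a, IsAffineOpen (B a)) ∧
      (∀ a, B a ≤ A (s a)) ∧ ∀ v : V, ∃ a, v ∈ B a := by
  classical
  have h1 : ∀ v : V, ∃ (k : κ) (B : V.Opens), IsAffineOpen B ∧ v ∈ B ∧ B ≤ A k := by
    intro v
    obtain ⟨k, hk⟩ := hA v
    obtain ⟨B, hB, hvB, hBA⟩ := Opens.isBasis_iff_nbhd.mp V.isBasis_affineOpens hk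
    exact ⟨k, B, hB, hvB, hBA⟩
  choose k B hB hvB hBA using h1
  obtain ⟨t, ht⟩ := isCompact_univ.elim_finite_subcover (fun v => (B v : Set V))
    (fun v => (B v).isOpen) (fun v _ => Set.mem_iUnion.mpr ⟨v, hvB v⟩)
  refine ⟨t.card, fun a => B (t.equivFin.symm a).1, fun a => k (t.equivFin.symm a).1,
    fun a => hB _, fun a => hBA _, fun v => ?_⟩
  have hv := ht (Set.mem_univ v)
  simp only [Set.mem_iUnion] at hv
  obtain ⟨x, hx, hvx⟩ := hv
  exact ⟨t.equivFin ⟨x, hx⟩, by simpa using hvx⟩

/-- Finitely many proper surjective morphisms to `U` are dominated by a single one. -/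
theorem exists_common_proper_surjective {U : Scheme.{u}} {J : Type*} [Finite J]
    (Vj : J → Scheme.{u}) (p : ∀ j, Vj j ⟶ U) (hp : ∀ j, IsProper (p j))
    (hs : ∀ j, Surjective (p j)) :
    ∃ (V : Scheme.{u}) (q : V ⟶ U) (pr : ∀ j, V ⟶ Vj j), IsProper q ∧ Surjective q ∧
      ∀ j, pr j ≫ p j = q := by
  classical
  have key : ∀ s : Finset J, ∃ (V : Scheme.{u}) (q : V ⟶ U) (pr : ∀ j, j ∈ s → (V ⟶ Vj j)),
      IsProper q ∧ Surjective q ∧ ∀ j (hj : j ∈ s), pr j hj ≫ p j = q := by
    intro s
    induction s using Finset.induction_on with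
    | empty =>
      exact ⟨U, 𝟙 U, fun j hj => absurd hj (Finset.notMem_empty j), inferInstance, inferInstance,
        fun j hj => absurd hj (Finset.notMem_empty j)⟩
    | insert a s ha ih =>
      obtain ⟨V, q, pr, hq, hqs, hpr⟩ := ih
      have := hp a
      have := hs a
      refine ⟨pullback q (p a), pullback.fst q (p a) ≫ q,
        fun j hj => if h : j = a then pullback.snd q (p a) ≫ eqToHom (by rw [h])
          else pullback.fst q (p a) ≫ pr j ((Finset.mem_insert.mp hj).resolve_left h),
        inferInstance, inferInstance, fun j hj => ?_⟩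
      by_cases h : j = a
      · subst h
        simp only [dif_pos, eqToHom_refl, Category.comp_id]
        exact pullback.condition.symm
      · simp only [dif_neg h, Category.assoc]
        rw [hpr]
  have := Fintype.ofFinite J
  obtain ⟨V, q, pr, hq, hqs, hpr⟩ := key Finset.univ
  exact ⟨V, q, fun j => pr j (Finset.mem_univ j), hq, hqs, fun j => hpr j _⟩

/-- For an open embedding `e` and a closed set `C`, the closure of `e '' C` meets the range of `e`
exactly in `e '' C`. -/
theorem closure_image_inter_range {A P : Type*} [TopologicalSpace A] [TopologicalSpace P]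
    {e : A → P} (he : Topology.IsOpenEmbedding e) {C : Set A} (hC : IsClosed C) :
    closure (e '' C) ∩ Set.range e = e '' C := by
  apply Set.Subset.antisymm
  · rintro x ⟨hx, a, rfl⟩
    by_contra hcon
    have ha : a ∉ C := fun h => hcon ⟨a, h, rfl⟩
    have hopen : IsOpen (e '' Cᶜ) := he.isOpenMap _ hC.isOpen_compl
    obtain ⟨y, ⟨b, hb, rfl⟩, c, hc, hcb⟩ := mem_closure_iff.mp hx _ hopen ⟨a, ha, rfl⟩
    exact hb (he.injective hcb ▸ hc)
  · rintro x ⟨a, ha, rfl⟩
    exact ⟨subset_closure ⟨a, ha, rfl⟩, a, rfl⟩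

open CohB1 Groth.Agent.R2.H87.ProjSpaceOver in
/-- The Chow + closure construction of Stacks 0DBG: for an open immersion `ι : X ⟶ U` from a qcqs
scheme and `g : W ⟶ X` proper surjective there are a proper surjective `p : V ⟶ U`, a surjective
`π : W' ⟶ W` and an open immersion `o : W' ⟶ V` over `U` whose range contains `p⁻¹(ι(X))`. -/
theorem exists_proper_closure {U X W : Scheme.{u}} (ι : X ⟶ U) [IsOpenImmersion ι] [QuasiCompact ι]
    [CompactSpace X] [QuasiSeparatedSpace X] (g : W ⟶ X) [IsProper g] [Surjective g] :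
    ∃ (V W' : Scheme.{u}) (p : V ⟶ U) (π : W' ⟶ W) (o : W' ⟶ V), IsProper p ∧ Surjective p ∧
      Surjective π ∧ IsOpenImmersion o ∧ o ≫ p = π ≫ g ≫ ι ∧
      ∀ v : V, p.base v ∈ Set.range ι.base → v ∈ Set.range o.base := by
  classical
  obtain ⟨n, W', π, c, hc, hcomm, hπp, hπs⟩ := Groth.Agent.S7409.result g
  have hbX : IsProper (ProjSpaceOver.toBase n X) := Groth.Agent.S9705.isProper_toBase n X
  have hbU : IsProper (ProjSpaceOver.toBase n U) := Groth.Agent.S9705.isProper_toBase n U
  have hcp : IsProper c := by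
    have : IsProper (c ≫ ProjSpaceOver.toBase n X) := by rw [hcomm]; infer_instance
    exact IsProper.of_comp c (ProjSpaceOver.toBase n X)
  have hcc : IsClosedImmersion c :=
    IsClosedImmersion.of_isPreimmersion _ (Scheme.Hom.isClosedMap _).isClosed_range
  have hmapqc : QuasiCompact (map n ι) :=
    MorphismProperty.of_isPullback (P := @QuasiCompact) (isPullback_map n ι).flip inferInstance
  -- the immersion into `P^n_U`
  obtain ⟨m, hm⟩ : ∃ m : W' ⟶ ProjSpaceOver n U, m = c ≫ map n ι := ⟨_, rfl⟩
  have hmi : IsImmersion m := by rw [hm]; infer_instance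
  have hmq : QuasiCompact m := by rw [hm]; infer_instance
  have hmb : m ≫ ProjSpaceOver.toBase n U = π ≫ g ≫ ι := by
    rw [hm, Category.assoc, map_toBase, ← Category.assoc, hcomm, Category.assoc]
  -- the reduced complement
  let Zc : Closeds U := ⟨(Set.range ι.base)ᶜ, ι.isOpenEmbedding.isOpen_range.isClosed_compl⟩
  let z : (Scheme.IdealSheafData.vanishingIdeal Zc).subscheme ⟶ U :=
    (Scheme.IdealSheafData.vanishingIdeal Zc).subschemeι
  have hzr : Set.range z.base = (Set.range ι.base)ᶜ := by
    have h1 := (Scheme.IdealSheafData.vanishingIdeal Zc).range_subschemeι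
    have h2 := Scheme.IdealSheafData.coe_support_vanishingIdeal Zc
    exact h1.trans h2
  -- the proper scheme `V`
  let b : m.image ⟶ U := m.imageι ≫ ProjSpaceOver.toBase n U
  have hb : IsProper b := inferInstance
  have hpdesc : coprod.desc b z = coprod.map b z ≫ coprod.desc (𝟙 U) (𝟙 U) := by
    rw [coprod.map_desc, Category.comp_id, Category.comp_id]
  have hpp : IsProper (coprod.desc b z) := by
    rw [hpdesc]
    have : IsProper (coprod.map b z) :=
      IsZariskiLocalAtTarget.coprodMap (P := @IsProper) b z hb inferInstance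
    infer_instance
  have hop : (m.toImage ≫ coprod.inl) ≫ coprod.desc b z = π ≫ g ≫ ι := by
    rw [Category.assoc, coprod.inl_desc, ← Category.assoc, m.toImage_imageι, hmb]
  refine ⟨m.image ⨿ (Scheme.IdealSheafData.vanishingIdeal Zc).subscheme, W', coprod.desc b z, π,
    m.toImage ≫ coprod.inl, hpp, ⟨fun u => ?_⟩, hπs, inferInstance, hop, fun v hv => ?_⟩
  · -- surjectivity
    by_cases hu : u ∈ Set.range ι.base
    · obtain ⟨x, rfl⟩ := hu
      obtain ⟨w, rfl⟩ := ‹Surjective g›.surj x
      obtain ⟨w', rfl⟩ := hπs.surj w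
      refine ⟨(m.toImage ≫ coprod.inl).base w', ?_⟩
      have := congrArg (fun k => k.base w') hop
      simpa using this
    · have hu' : u ∈ Set.range z.base := by rw [hzr]; exact hu
      obtain ⟨y, rfl⟩ := hu'
      refine ⟨(coprod.inr : _ ⟶ m.image ⨿ _).base y, ?_⟩
      have := congrArg (fun k => k.base y) (coprod.inr_desc b z)
      simpa using this
  · -- the range of `o`
    have hcompl := isCompl_range_inl_inr m.image (Scheme.IdealSheafData.vanishingIdeal Zc).subscheme
    have hv' : v ∈ Set.range (coprod.inl : m.image ⟶ m.image ⨿ _).base ∨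
        v ∈ Set.range (coprod.inr : (Scheme.IdealSheafData.vanishingIdeal Zc).subscheme ⟶
          m.image ⨿ _).base := by
      have := hcompl.codisjoint.top_le (Set.mem_univ v)
      exact this
    rcases hv' with ⟨y, rfl⟩ | ⟨y, rfl⟩
    · -- `y ∈ m.image` with `b y ∈ range ι`
      have hby : b.base y ∈ Set.range ι.base := by
        have := congrArg (fun k => k.base y) (coprod.inl_desc b z)
        simp only [Scheme.Hom.comp_base, TopCat.hom_comp, ContinuousMap.comp_apply] at this
        rw [← this]; exact hv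
      -- the point `m.imageι y` lies in the range of `map n ι`
      have hrange_map : Set.range (map n ι).base =
          (ProjSpaceOver.toBase n U).base ⁻¹' Set.range ι.base := by
        have hpb := isPullback_map n ι
        have h1 : map n ι = hpb.isoPullback.hom ≫ pullback.fst _ _ := by simp
        rw [h1]
        have h2 : Set.range (hpb.isoPullback.hom ≫ pullback.fst (ProjSpaceOver.toBase n U) ι).base =
            Set.range (pullback.fst (ProjSpaceOver.toBase n U) ι).base := by
          simp only [Scheme.Hom.comp_base, TopCat.hom_comp, ContinuousMap.coe_comp]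
          rw [Set.range_comp, Set.range_eq_univ.mpr, Set.image_univ]
          exact (hpb.isoPullback.hom.homeomorph).surjective
        rw [h2]
        exact Scheme.Pullback.range_fst _ _
      have hy1 : m.imageι.base y ∈ Set.range (map n ι).base := by
        rw [hrange_map]; exact hby
      have hy2 : m.imageι.base y ∈ closure (Set.range m.base) := by
        have h1 : Set.range m.imageι.base = closure (Set.range m.base) := by
          have := m.ker.range_subschemeι
          rw [Scheme.Hom.support_ker] at this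
          exact this
        rw [← h1]; exact ⟨y, rfl⟩
      have hrm : Set.range m.base = (map n ι).base '' Set.range c.base := by
        rw [hm]
        simp only [Scheme.Hom.comp_base, TopCat.hom_comp, ContinuousMap.coe_comp]
        rw [Set.range_comp]
      have hclosed : IsClosed (Set.range c.base) := c.isClosedEmbedding.isClosed_range
      have hmem : m.imageι.base y ∈ Set.range m.base := by
        rw [hrm, ← closure_image_inter_range (map n ι).isOpenEmbedding hclosed, ← hrm]
        exact ⟨hy2, hy1⟩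
      obtain ⟨w', hw'⟩ := hmem
      refine ⟨w', ?_⟩
      have h3 : m.imageι.base (m.toImage.base w') = m.imageι.base y := by
        rw [← hw']
        exact congrArg (fun k => k.base w') m.toImage_imageι
      have h4 : m.toImage.base w' = y := m.imageι.isEmbedding.injective h3
      simp only [Scheme.Hom.comp_base, TopCat.hom_comp, ContinuousMap.comp_apply]
      rw [h4]
    · -- `y ∈ Z`: impossible
      exfalso
      have hzy : z.base y ∈ Set.range ι.base := by
        have := congrArg (fun k => k.base y) (coprod.inr_desc b z)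
        simp only [Scheme.Hom.comp_base, TopCat.hom_comp, ContinuousMap.comp_apply] at this
        rw [← this]; exact hv
      have : z.base y ∈ (Set.range ι.base)ᶜ := by rw [← hzr]; exact ⟨y, rfl⟩
      exact this hzy

/-- Stacks 0DBG (1): an open covering of an affine scheme is refined by a standard ph covering. -/
theorem exists_standardPh_refining_openCover {T : Scheme.{u}} [IsAffine T] (𝒰 : T.OpenCover) :
    ∃ F : PreZeroHypercover.{0} T, HTop.IsStandardPh F ∧
      Nonempty (F.Hom 𝒰.toPreZeroHypercover) := by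
  classical
  have hA : ∀ v : T, ∃ i, v ∈ (𝒰.f i).opensRange := by
    intro v
    obtain ⟨i, y, hy⟩ := 𝒰.exists_eq v
    exact ⟨i, y, hy⟩
  obtain ⟨N, B, s, hBaff, hBA, hBcov⟩ :=
    exists_finite_affine_refinement (fun i => (𝒰.f i).opensRange) hA
  refine ⟨{ I₀ := Fin N, X := fun a => (B a : Scheme.{u}), f := fun a => (B a).ι },
    ⟨inferInstance, inferInstanceAs (Finite (Fin N)), fun a => hBaff a,
      ⟨T, 𝟙 T, fun a => (B a).ι, inferInstance, inferInstance, fun a => inferInstance,
        fun a => Category.comp_id _, fun v => ?_⟩⟩, ⟨?_⟩⟩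
  · obtain ⟨a, ha⟩ := hBcov v
    exact ⟨a, by simpa using ha⟩
  · have hr : ∀ a, Set.range (B a).ι.base ⊆ Set.range (𝒰.f (s a)).base := by
      intro a
      rintro _ ⟨x, rfl⟩
      exact hBA a x.2
    exact { s₀ := s
            h₀ := fun a => IsOpenImmersion.lift (𝒰.f (s a)) (B a).ι (hr a)
            w₀ := fun a => IsOpenImmersion.lift_fac _ _ _ }

/-- Stacks 0DBG (3): a composite of standard ph coverings is refined by a standard ph covering. -/
theorem exists_standardPh_refining_bind {T : Scheme.{u}} (E : PreZeroHypercover.{w} T)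
    (hE : HTop.IsStandardPh E) (F : ∀ j, PreZeroHypercover.{w} (E.X j))
    (hF : ∀ j, HTop.IsStandardPh (F j)) :
    ∃ F' : PreZeroHypercover.{0} T, HTop.IsStandardPh F' ∧ Nonempty (F'.Hom (E.bind F)) := by
  classical
  have hT := hE.isAffine
  have hfin := hE.finite_index
  obtain ⟨U, f, ι, hf, hfs, hι, hιf, hcov⟩ := hE.exists_proper
  have hUc : CompactSpace U := QuasiCompact.compactSpace_of_compactSpace f
  have hUq : QuasiSeparatedSpace U := quasiSeparatedSpace_of_quasiSeparated f
  have hj : ∀ j, ∃ (V W' W : Scheme.{u}) (g : W ⟶ E.X j) (κ : ∀ i, (F j).X i ⟶ W) (p : V ⟶ U)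
      (π : W' ⟶ W) (o : W' ⟶ V), IsProper p ∧ Surjective p ∧ Surjective π ∧ IsOpenImmersion o ∧
      o ≫ p = π ≫ g ≫ ι j ∧ (∀ v : V, p.base v ∈ Set.range (ι j).base → v ∈ Set.range o.base) ∧
      (∀ i, IsOpenImmersion (κ i)) ∧ (∀ i, κ i ≫ g = (F j).f i) ∧
      ∀ x : W, ∃ i, x ∈ Set.range (κ i).base := by
    intro j
    obtain ⟨W, g, κ, hg, hgs, hκ, hκg, hκcov⟩ := (hF j).exists_proper
    have := hι j
    have := hE.isAffine_obj j
    have : QuasiCompact (ι j) := inferInstance
    obtain ⟨V, W', p, π, o, h1, h2, h3, h4, h5, h6⟩ := exists_proper_closure (ι j) g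
    exact ⟨V, W', W, g, κ, p, π, o, h1, h2, h3, h4, h5, h6, hκ, hκg, hκcov⟩
  choose V W' W g κ p π o hp hps hπs ho hop hrange hκ hκg hκcov using hj
  obtain ⟨VV, q, pr, hq, hqs, hpr⟩ := exists_common_proper_surjective V p hp hps
  have hqf : IsProper (q ≫ f) := inferInstance
  have hVc : CompactSpace VV := QuasiCompact.compactSpace_of_compactSpace (q ≫ f)
  have hprv : ∀ j (v : VV), (p j).base ((pr j).base v) = q.base v := fun j v =>
    congrArg (fun k => k.base v) (hpr j)
  let A : (Σ j, (F j).I₀) → VV.Opens := fun ji =>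
    pr ji.1 ⁻¹ᵁ ((o ji.1) ''ᵁ ((π ji.1) ⁻¹ᵁ (κ ji.1 ji.2).opensRange))
  have hA : ∀ v : VV, ∃ ji, v ∈ A ji := by
    intro v
    obtain ⟨j, hj⟩ := hcov (q.base v)
    have h1 : (p j).base ((pr j).base v) ∈ Set.range (ι j).base := by rw [hprv]; exact hj
    obtain ⟨w', hw'⟩ := hrange j _ h1
    obtain ⟨i, hi⟩ := hκcov j ((π j).base w')
    exact ⟨⟨j, i⟩, w', hi, hw'⟩
  obtain ⟨N, B, s, hBaff, hBA, hBcov⟩ := exists_finite_affine_refinement A hA
  -- the two lifts
  have hκ' : ∀ a, IsOpenImmersion (κ (s a).1 (s a).2) := fun a => hκ _ _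
  have ho' : ∀ a, IsOpenImmersion (o (s a).1) := fun a => ho _
  have hr1 : ∀ a, Set.range ((B a).ι ≫ pr (s a).1).base ⊆ Set.range (o (s a).1).base := by
    intro a
    rintro _ ⟨x, rfl⟩
    obtain ⟨w', -, hw'⟩ := hBA a x.2
    exact ⟨w', hw'⟩
  have hr2 : ∀ a, Set.range (IsOpenImmersion.lift (o (s a).1) ((B a).ι ≫ pr (s a).1) (hr1 a) ≫
      π (s a).1).base ⊆ Set.range (κ (s a).1 (s a).2).base := by
    intro a
    rintro _ ⟨x, rfl⟩
    obtain ⟨w', hw'1, hw'2⟩ := hBA a x.2
    have h1 : (o (s a).1).base ((IsOpenImmersion.lift (o (s a).1) ((B a).ι ≫ pr (s a).1)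
        (hr1 a)).base x) = (pr (s a).1).base ((B a).ι.base x) :=
      congrArg (fun k => k.base x) (IsOpenImmersion.lift_fac (o (s a).1) _ (hr1 a))
    have h2 : (IsOpenImmersion.lift (o (s a).1) ((B a).ι ≫ pr (s a).1) (hr1 a)).base x = w' :=
      (o (s a).1).isOpenEmbedding.injective (h1.trans hw'2.symm)
    change (π (s a).1).base ((IsOpenImmersion.lift (o (s a).1) ((B a).ι ≫ pr (s a).1)
        (hr1 a)).base x) ∈ _
    rw [h2]
    exact hw'1
  refine ⟨{ I₀ := Fin N, X := fun a => (B a : Scheme.{u}), f := fun a => (B a).ι ≫ q ≫ f },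
    ⟨hT, inferInstanceAs (Finite (Fin N)), fun a => hBaff a,
      ⟨VV, q ≫ f, fun a => (B a).ι, inferInstance, inferInstance, fun a => inferInstance,
        fun a => rfl, fun v => ?_⟩⟩, ⟨?_⟩⟩
  · obtain ⟨a, ha⟩ := hBcov v
    exact ⟨a, by simpa using ha⟩
  · refine { s₀ := s
             h₀ := fun a : Fin N => @IsOpenImmersion.lift _ _ _ (κ (s a).1 (s a).2)
               (IsOpenImmersion.lift (o (s a).1) ((B a).ι ≫ pr (s a).1) (hr1 a) ≫ π (s a).1) (hκ' a)
               (hr2 a)
             w₀ := fun a : Fin N => ?_ }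
    change IsOpenImmersion.lift (κ (s a).1 (s a).2) _ (hr2 a) ≫
      ((F (s a).1).f (s a).2 ≫ E.f (s a).1) = (B a).ι ≫ q ≫ f
    rw [← hκg, ← hιf, Category.assoc, IsOpenImmersion.lift_fac_assoc, Category.assoc,
      ← Category.assoc (π (s a).1), ← Category.assoc (π (s a).1 ≫ g (s a).1),
      Category.assoc (π (s a).1), ← hop, Category.assoc, IsOpenImmersion.lift_fac_assoc,
      Category.assoc, ← Category.assoc (pr (s a).1), hpr]

end Groth.Agent.R2.H87.PhCover
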