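-- helper83: ph coverings of algebraic spaces compose (S10517).
import Mathlib
import Groth.Prelude.Def_W4stk3sptopologiesPh
import Groth.Agent.R2.H87PhCover
import Groth.Agent.S9985

set_option autoImplicit false
set_option backward.isDefEq.respectTransparency.types false
set_option linter.style.haveILetI false
universe u
open CategoryTheory CategoryTheory.Limits AlgebraicGeometry
open AlgSp

namespace Groth.Agent.R2.H83.PhSigma

variable {S : Scheme.{u}}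

/-- ph coverings of algebraic spaces compose. -/
theorem isPhCover_sigma (X : AlgSp.Space S) {ι : Type u}
    (Xi : ι → AlgSp.Space S) (g : ∀ i, Xi i ⟶ X) (κ : ι → Type u) (Xij : ∀ i, κ i → AlgSp.Space S)
    (gij : ∀ i j, Xij i j ⟶ Xi i)
    (h : AlgSp.IsPhCover (fun i => (Xi i).obj) (fun i => (g i).hom))
    (hij : ∀ i, AlgSp.IsPhCover (fun j => (Xij i j).obj) (fun j => (gij i j).hom)) :
    AlgSp.IsPhCover (fun r : Σ i, κ i => (Xij r.1 r.2).obj) (fun r => (gij r.1 r.2 ≫ g r.1).hom) := by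
  classical
  refine ⟨fun r => ?_, fun Z hZ h₀ => ?_⟩
  · exact Groth.Agent.S9985.result @LocallyOfFiniteType (Or.inl rfl) (gij r.1 r.2) (g r.1)
      ((hij r.1).1 r.2) (h.1 r.1)
  obtain ⟨F, hF, hlift⟩ := h.2 Z hZ h₀
  choose i l hl using hlift
  have hG : ∀ j : F.I₀, ∃ (G : PreZeroHypercover.{0} (F.X j)), HTop.IsStandardPh G ∧
      ∀ k : G.I₀, ∃ (k' : κ (i j))
        (m : (AlgSp.yon S).obj (Over.mk (G.f k ≫ F.f j ≫ Z.hom)) ⟶ (Xij (i j) k').obj),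
        m ≫ (gij (i j) k').hom = (AlgSp.yon S).map (Over.homMk (G.f k) rfl :
          Over.mk (G.f k ≫ F.f j ≫ Z.hom) ⟶ Over.mk (F.f j ≫ Z.hom)) ≫ l j := by
    intro j
    exact (hij (i j)).2 (Over.mk (F.f j ≫ Z.hom)) (hF.isAffine_obj j) (l j)
  choose G hGph hGlift using hG
  choose k' m hm using hGlift
  obtain ⟨F', hF', ⟨φ⟩⟩ :=
    Groth.Agent.R2.H87.PhCover.exists_standardPh_refining_bind F hF G hGph
  refine ⟨F', hF', fun a => ?_⟩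
  have hw : φ.h₀ a ≫ (G (φ.s₀ a).1).f (φ.s₀ a).2 ≫ F.f (φ.s₀ a).1 = F'.f a := φ.w₀ a
  let φa : Over.mk (F'.f a ≫ Z.hom) ⟶
      Over.mk ((G (φ.s₀ a).1).f (φ.s₀ a).2 ≫ F.f (φ.s₀ a).1 ≫ Z.hom) :=
    Over.homMk (φ.h₀ a) (by
      change φ.h₀ a ≫ (G (φ.s₀ a).1).f (φ.s₀ a).2 ≫ F.f (φ.s₀ a).1 ≫ Z.hom = F'.f a ≫ Z.hom
      rw [← hw]
      simp only [Category.assoc])
  refine ⟨⟨i (φ.s₀ a).1, k' (φ.s₀ a).1 (φ.s₀ a).2⟩,
    (AlgSp.yon S).map φa ≫ m (φ.s₀ a).1 (φ.s₀ a).2, ?_⟩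
  change ((AlgSp.yon S).map φa ≫ m (φ.s₀ a).1 (φ.s₀ a).2) ≫
    ((gij (i (φ.s₀ a).1) (k' (φ.s₀ a).1 (φ.s₀ a).2)).hom ≫ (g (i (φ.s₀ a).1)).hom) = _
  rw [Category.assoc, ← Category.assoc (m _ _), hm, Category.assoc, hl, ← Category.assoc,
    ← Category.assoc, ← Functor.map_comp, ← Functor.map_comp]
  congr 2
  apply Over.OverMorphism.ext
  change (φ.h₀ a ≫ (G (φ.s₀ a).1).f (φ.s₀ a).2) ≫ F.f (φ.s₀ a).1 = F'.f a
  rw [Category.assoc]
  exact hw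

end Groth.Agent.R2.H83.PhSigma
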