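-- helper83: the image of a quasi-compact étale chart in a representable algebraic space is a
-- quasi-compact open subscheme (S10321, on top of Theorem Q = S10259).
import Mathlib
import Groth.Agent.S10259
import Groth.Agent.S10210
import Groth.Agent.S10211

set_option autoImplicit false
set_option backward.isDefEq.respectTransparency.types false
set_option linter.style.haveILetI false
universe u
open CategoryTheory CategoryTheory.Limits AlgebraicGeometry Opposite
open AlgSp

namespace Groth.Agent.R2.H83.QcOpenImage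

variable {S : Scheme.{u}}

/-- In a sheaf `X ≅ h_{X₀}` represented by a scheme, the image of an étale map from an algebraic
space `V` covered by a quasi-compact scheme is a quasi-compact open subscheme. -/
theorem exists_open_subscheme_of_etale {X V : AlgSp.Sp S} {X₀ W₁ : Over S}
    (ε : (AlgSp.yon S).obj X₀ ≅ X) (hV : AlgSp.IsAlgSpace V) (g : V ⟶ X)
    (hg : AlgSp.IsEtaleMor g) (c : (AlgSp.yon S).obj W₁ ⟶ V)
    (hc : Function.Surjective (AlgSp.Points.map c)) [CompactSpace W₁.left] :
    ∃ (W : Over S) (i : (AlgSp.yon S).obj W ⟶ X), AlgSp.RepWith @IsOpenImmersion i ∧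
      CompactSpace ↥W.left ∧
      Set.range (AlgSp.Points.map i) = Set.range (AlgSp.Points.map g) := by
  have hopen : IsOpenMap (AlgSp.Points.map g) :=
    Groth.Agent.S10211.isOpenMap_map_of_isEtaleMor hV g hg
  set R : Set (AlgSp.Points X) := Set.range (AlgSp.Points.map g) with hR
  have hRo : IsOpen R := hopen.isOpen_range
  -- the homeomorphism `X₀ ≃ |X|`
  let h : X₀.left → AlgSp.Points X := fun x =>
    AlgSp.Points.map ε.hom (AlgSp.Points.schemeHomeo X₀ x)
  let h' : AlgSp.Points X → X₀.left := fun y =>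
    (AlgSp.Points.schemeHomeo X₀).symm (AlgSp.Points.map ε.inv y)
  have hh' : ∀ y, h (h' y) = y := fun y => by
    change AlgSp.Points.map ε.hom (AlgSp.Points.schemeHomeo X₀
      ((AlgSp.Points.schemeHomeo X₀).symm (AlgSp.Points.map ε.inv y))) = y
    rw [Homeomorph.apply_symm_apply, ← AlgSp.Points.map_comp, ε.inv_hom_id, AlgSp.Points.map_id]
  have h'h : ∀ x, h' (h x) = x := fun x => by
    change (AlgSp.Points.schemeHomeo X₀).symm (AlgSp.Points.map ε.inv
      (AlgSp.Points.map ε.hom (AlgSp.Points.schemeHomeo X₀ x))) = x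
    rw [← AlgSp.Points.map_comp, ε.hom_inv_id, AlgSp.Points.map_id, Homeomorph.symm_apply_apply]
  have hcont : Continuous h :=
    (AlgSp.Points.continuous_map ε.hom).comp (AlgSp.Points.schemeHomeo X₀).continuous
  have hcont' : Continuous h' :=
    (AlgSp.Points.schemeHomeo X₀).symm.continuous.comp (AlgSp.Points.continuous_map ε.inv)
  let O : X₀.left.Opens := ⟨h ⁻¹' R, hRo.preimage hcont⟩
  have hO : ∀ x, x ∈ O ↔ h x ∈ R := fun x => Iff.rfl
  let W : Over S := Over.mk (O.ι ≫ X₀.hom)
  let ιW : W ⟶ X₀ := Over.homMk O.ι rfl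
  refine ⟨W, (AlgSp.yon S).map ιW ≫ ε.hom, ?_, ?_, ?_⟩
  · exact (MorphismProperty.cancel_right_of_respectsIso (AlgSp.RepWith @IsOpenImmersion) _ _).2
      ((AlgSp.repWith_yon_map_iff @IsOpenImmersion _).2
        (inferInstanceAs (IsOpenImmersion O.ι)))
  · -- compactness
    have hRc : IsCompact R := by
      have : R = Set.range (fun w : W₁.left =>
          AlgSp.Points.map g (AlgSp.Points.map c (AlgSp.Points.schemeHomeo W₁ w))) := by
        ext y
        constructor
        · rintro ⟨v, rfl⟩
          obtain ⟨z, rfl⟩ := hc v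
          obtain ⟨w, rfl⟩ := (AlgSp.Points.schemeHomeo W₁).surjective z
          exact ⟨w, rfl⟩
        · rintro ⟨w, rfl⟩
          exact ⟨_, rfl⟩
      rw [this]
      exact isCompact_range ((AlgSp.Points.continuous_map g).comp
        ((AlgSp.Points.continuous_map c).comp (AlgSp.Points.schemeHomeo W₁).continuous))
    have hOc : IsCompact (O : Set X₀.left) := by
      have : (O : Set X₀.left) = h' '' R := by
        ext x
        constructor
        · intro hx
          exact ⟨h x, hx, h'h x⟩
        · rintro ⟨y, hy, rfl⟩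
          change h (h' y) ∈ R
          rwa [hh' y]
      rw [this]
      exact hRc.image hcont'
    exact isCompact_iff_compactSpace.1 hOc
  · ext y
    constructor
    · rintro ⟨z, rfl⟩
      obtain ⟨w, rfl⟩ := (AlgSp.Points.schemeHomeo W).surjective z
      rw [AlgSp.Points.map_comp, AlgSp.Points.map_yon_map_apply]
      have : ιW.left w ∈ O := by
        change O.ι w ∈ O
        exact w.2
      exact (hO _).1 this
    · intro hy
      have hx : h' y ∈ O := by
        rw [hO, hh' y]
        exact hy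
      refine ⟨AlgSp.Points.schemeHomeo W ⟨h' y, hx⟩, ?_⟩
      rw [AlgSp.Points.map_comp, AlgSp.Points.map_yon_map_apply]
      have : ιW.left ⟨h' y, hx⟩ = h' y := rfl
      rw [this]
      exact hh' y

/-- S10321 in full. -/
theorem qc_open_subscheme_of_quasiAffine_over_etale {T T' : Over S} [IsAffine T.left]
    [IsAffine T'.left] (e : T' ⟶ T) [Etale e.left] {X P V' : AlgSp.Space S}
    (f : X ⟶ (AlgSp.ofScheme S).obj T)
    (hsep : AlgSp.IsSeparatedMor f.hom)
    (hqf : AlgSp.LocP (@LocallyQuasiFinite ⊓ @LocallyOfFiniteType) f.hom)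
    (p1 : P ⟶ (AlgSp.ofScheme S).obj T') (p2 : P ⟶ X)
    (sq : IsPullback p2.hom p1.hom f.hom ((AlgSp.yon S).map e)) (j : V' ⟶ P)
    (hj : AlgSp.RepWith @IsOpenImmersion j.hom) (hqa : AlgSp.IsQuasiAffineMor (j ≫ p1).hom) :
    ∃ (W : Over S) (i : (AlgSp.yon S).obj W ⟶ X.obj), AlgSp.RepWith @IsOpenImmersion i ∧
      CompactSpace ↥W.left ∧
      Set.range (AlgSp.Points.map i) = Set.range (AlgSp.Points.map (j ≫ p2).hom) := by
  obtain ⟨X₀, ⟨r⟩⟩ := (Groth.Agent.S10259.result T X f hqf hsep).has_representation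
  have hp2 : AlgSp.RepWith @Etale p2.hom :=
    MorphismProperty.of_isPullback (P := AlgSp.RepWith @Etale) sq.flip
      ((AlgSp.repWith_yon_map_iff @Etale e).2 inferInstance)
  have hj' : AlgSp.RepWith @Etale j.hom :=
    Groth.Agent.S10210.repWith_etale_of_isOpenImmersion hj
  have hjp : AlgSp.RepWith @Etale (j ≫ p2).hom :=
    (AlgSp.RepWith @Etale).comp_mem _ _ hj' hp2
  have hg : AlgSp.IsEtaleMor (j ≫ p2).hom := fun U φ hφ =>
    (AlgSp.RepWith @Etale).comp_mem _ _ hφ hjp
  obtain ⟨W₁, i₁, fst, sq₁, hqa₁⟩ := hqa (Z := T') inferInstance (𝟙 _)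
  haveI : IsIso fst := sq₁.isIso_fst_of_isIso (IsIso.id _)
  haveI : CompactSpace W₁.left := hqa₁.toCompactSpace
  refine exists_open_subscheme_of_etale
    (AlgSp.isoOfRepresentableBy r) V'.property (j ≫ p2).hom hg fst (fun v => ?_)
  refine ⟨AlgSp.Points.map (inv fst) v, ?_⟩
  rw [← AlgSp.Points.map_comp, IsIso.inv_hom_id, AlgSp.Points.map_id]

end Groth.Agent.R2.H83.QcOpenImage
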