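import Mathlib
import Groth.Prelude.Def_AlgSpSub
import Groth.Agent.R2.H48ClosedSub
import Groth.Agent.R2.H48SchImage
import Groth.Agent.R2.H59OpenDesc
import Groth.Agent.S9912

/-!
# Flat base change of scheme theoretic images and closures of quasi-compact immersions (helper83)

* `SchImgBC.isSchemeTheoreticallyDominant_toImage`, `SchImgBC.ker_eq_comap_of_isPullback`
  (scheme level: `f'.ker = f.ker.comap g` for `f` quasi-compact and `g` flat).
* `SchClosure.chartIdeal`, `comap_chartIdeal`, `invariant_chartIdeal`: for a representable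
  quasi-compact `i : Z ⟶ X` of fppf sheaves and an etale chart `p : h_U ⟶ X`, the kernel of
  `Z ×_X U ⟶ U` is invariant (in the sense of helper48's `R2/H48ClosedSub`).
* `exists_factor`, `repWith_isOpenImmersion_factor`: `i` factors through the closed subsheaf cut
  out by the chart ideal, by an open immersion when `i` is a quasi-compact immersion.
-/

set_option autoImplicit false
set_option backward.isDefEq.respectTransparency.types false
set_option linter.style.haveILetI false
universe u
open CategoryTheory CategoryTheory.Limits AlgebraicGeometry Opposite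
open AlgSp

namespace Groth.Agent.R2.H83.SchImgBC

/-- the map to the scheme theoretic image of a quasi-compact morphism is scheme theoretically
dominant. -/
theorem isSchemeTheoreticallyDominant_toImage {X Y : Scheme.{u}} (f : X ⟶ Y) [QuasiCompact f] :
    IsSchemeTheoreticallyDominant f.toImage := by
  rw [isSchemeTheoreticallyDominant_iff]
  refine Scheme.IdealSheafData.ext_of_iSup_eq_top
    (fun U : Y.affineOpens => ⟨f.imageι ⁻¹ᵁ U.1, U.2.preimage f.imageι⟩) ?_ ?_
  · rw [eq_top_iff]
    intro z _
    obtain ⟨_, ⟨W, hW, rfl⟩, hzW, -⟩ :=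
      Y.isBasis_affineOpens.exists_subset_of_mem_open (Set.mem_univ (f.imageι z)) isOpen_univ
    exact TopologicalSpace.Opens.mem_iSup.2 ⟨⟨W, hW⟩, hzW⟩
  · intro U
    rw [Scheme.Hom.ker_apply]
    simp only [Scheme.IdealSheafData.ideal_bot, Pi.bot_apply]
    exact (RingHom.injective_iff_ker_eq_bot _).1 (f.toImage_app_injective U)

/-- **flat base change of the scheme theoretic image** of a quasi-compact morphism. -/
theorem ker_eq_comap_of_isPullback {X Y X' Y' : Scheme.{u}} {f : X ⟶ Y} {g : Y' ⟶ Y}
    {g' : X' ⟶ X} {f' : X' ⟶ Y'} (sq : IsPullback g' f' f g) [QuasiCompact f] [Flat g] :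
    f'.ker = f.ker.comap g := by
  let Z' := pullback g f.imageι
  let i' : Z' ⟶ Y' := pullback.fst g f.imageι
  let q : Z' ⟶ f.image := pullback.snd g f.imageι
  have hw : f' ≫ g = (g' ≫ f.toImage) ≫ f.imageι := by
    rw [Category.assoc, f.toImage_imageι, sq.w]
  let h : X' ⟶ Z' := pullback.lift f' (g' ≫ f.toImage) hw
  have hh1 : h ≫ i' = f' := pullback.lift_fst _ _ _
  have hh2 : h ≫ q = g' ≫ f.toImage := pullback.lift_snd _ _ _
  have sqL : IsPullback g' h f.toImage q := by
    have big : IsPullback g' (h ≫ i') (f.toImage ≫ f.imageι) g := by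
      rw [hh1, f.toImage_imageι]; exact sq
    have right : IsPullback q i' f.imageι g := (IsPullback.of_hasPullback g f.imageι).flip
    exact IsPullback.of_bot big hh2.symm right
  haveI : Flat q := MorphismProperty.pullback_snd (P := @Flat) g f.imageι inferInstance
  haveI := isSchemeTheoreticallyDominant_toImage f
  haveI : IsSchemeTheoreticallyDominant h := IsSchemeTheoreticallyDominant.of_isPullback sqL
  rw [← hh1, Scheme.Hom.ker_comp, h.ker_eq_bot, Scheme.IdealSheafData.map_bot]
  rfl

end Groth.Agent.R2.H83.SchImgBC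

namespace Groth.Agent.R2.H83.SchClosure

open Groth.Agent.S13210 Groth.Agent.R2.H48.ClosedSub Groth.Agent.R2.H83.SchImgBC

variable {S : Scheme.{u}} {X Z : AlgSp.Sp S} (i : Z ⟶ X) (hi : AlgSp.Representable i)
  {U : Over S} (p : (AlgSp.yon S).obj U ⟶ X)

/-- the ideal of the scheme theoretic image of the base change of `i` to the chart. -/
noncomputable def chartIdeal : U.left.IdealSheafData := (hi.snd p).left.ker

variable {i} {p}

/-- flat base change of the chart ideal. -/
theorem comap_chartIdeal (hqc : AlgSp.RepWith @QuasiCompact i) {T : Over S} (t : T ⟶ U)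
    [Flat t.left] :
    (chartIdeal i hi p).comap t.left = chartIdeal i hi ((AlgSp.yon S).map t ≫ p) := by
  have sqZ := hi.isPullback p
  have sqT := hi.isPullback ((AlgSp.yon S).map t ≫ p)
  have hw : hi.fst ((AlgSp.yon S).map t ≫ p) ≫ i =
      ((AlgSp.yon S).map (hi.snd ((AlgSp.yon S).map t ≫ p)) ≫ (AlgSp.yon S).map t) ≫ p := by
    rw [Category.assoc]; exact sqT.w
  obtain ⟨l, hl⟩ := (AlgSp.yon S).map_surjective (sqZ.lift _ _ hw)
  have hl1 : (AlgSp.yon S).map l ≫ hi.fst p = hi.fst ((AlgSp.yon S).map t ≫ p) := by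
    rw [hl]; exact sqZ.lift_fst _ _ _
  have hl2 : (AlgSp.yon S).map l ≫ (AlgSp.yon S).map (hi.snd p) =
      (AlgSp.yon S).map (hi.snd ((AlgSp.yon S).map t ≫ p)) ≫ (AlgSp.yon S).map t := by
    rw [hl]; exact sqZ.lift_snd _ _ _
  have sqL : IsPullback ((AlgSp.yon S).map l) ((AlgSp.yon S).map (hi.snd ((AlgSp.yon S).map t ≫ p)))
      ((AlgSp.yon S).map (hi.snd p)) ((AlgSp.yon S).map t) := by
    refine IsPullback.of_right (h₁₂ := hi.fst p) (h₂₂ := p) (v₁₃ := i) ?_ hl2 sqZ
    rw [hl1]
    exact sqT
  have sqS : IsPullback l.left (hi.snd ((AlgSp.yon S).map t ≫ p)).left (hi.snd p).left t.left :=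
    (IsPullback.of_map (AlgSp.yon S) (by
      apply (AlgSp.yon S).map_injective
      rw [Functor.map_comp, Functor.map_comp]
      exact hl2) sqL).map (Over.forget S)
  haveI : QuasiCompact (hi.snd p).left := hqc.property p _ _ sqZ
  exact (ker_eq_comap_of_isPullback sqS).symm

/-- the chart ideal only depends on the map to `X`. -/
theorem chartIdeal_congr {T : Over S} {ρ ρ' : (AlgSp.yon S).obj T ⟶ X} (h : ρ = ρ') :
    chartIdeal i hi ρ = chartIdeal i hi ρ' := by
  subst h; rfl

/-- the chart ideal is invariant under the relation `U ×_X U` (for an etale chart). -/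
theorem invariant_chartIdeal (hqc : AlgSp.RepWith @QuasiCompact i) (hpe : AlgSp.RepWith @Etale p) :
    Invariant p (chartIdeal i hi p) := by
  intro T b₁ b₂ hb hle
  -- the relation `R = U ×_X U`
  obtain ⟨pr₁, hpr₁⟩ := (AlgSp.yon S).map_surjective (hpe.rep.fst p)
  have sqR := hpe.rep.isPullback p
  rw [← hpr₁] at sqR
  set pr₂ := hpe.rep.snd p with hpr₂
  haveI : Etale pr₂.left := hpe.property_snd p
  haveI : Etale pr₁.left := hpe.property p _ pr₁ sqR.flip
  obtain ⟨r, hr⟩ := (AlgSp.yon S).map_surjective (sqR.lift _ _ hb)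
  have hr1 : r ≫ pr₁ = b₁ := by
    apply (AlgSp.yon S).map_injective
    rw [Functor.map_comp, hr]; exact sqR.lift_fst _ _ _
  have hr2 : r ≫ pr₂ = b₂ := by
    apply (AlgSp.yon S).map_injective
    rw [Functor.map_comp, hr]; exact sqR.lift_snd _ _ _
  have e1 : b₁.left = r.left ≫ pr₁.left := by rw [← hr1]; rfl
  have e2 : b₂.left = r.left ≫ pr₂.left := by rw [← hr2]; rfl
  rw [e1, Scheme.Hom.ker_comp, Scheme.IdealSheafData.le_map_iff_comap_le,
    comap_chartIdeal hi hqc pr₁] at hle
  rw [e2, Scheme.Hom.ker_comp, Scheme.IdealSheafData.le_map_iff_comap_le,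
    comap_chartIdeal hi hqc pr₂, ← chartIdeal_congr hi sqR.w]
  exact hle

/-- `i` factors through the closed subsheaf cut out by the chart ideal. -/
theorem exists_factor :
    ∃ j : Z ⟶ obj p (chartIdeal i hi p), j ≫ incl p (chartIdeal i hi p) = i := by
  refine Groth.Agent.R2.H48.SchImage.exists_lift p i (fun T x T' c b hcb => ?_)
  have sqZ := hi.isPullback p
  have hw : ((AlgSp.yon S).map c ≫ x) ≫ i = (AlgSp.yon S).map b ≫ p := by
    rw [Category.assoc]; exact hcb
  obtain ⟨m, hm⟩ := (AlgSp.yon S).map_surjective (sqZ.lift _ _ hw)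
  have hm2 : m ≫ hi.snd p = b := by
    apply (AlgSp.yon S).map_injective
    rw [Functor.map_comp, hm]; exact sqZ.lift_snd _ _ _
  have e : b.left = m.left ≫ (hi.snd p).left := by rw [← hm2]; rfl
  rw [e]
  exact Scheme.Hom.le_ker_comp _ _

/-- **open-closed factorisation of a quasi-compact immersion into a sheaf with an etale
chart**: the map to the closed subsheaf cut out by the chart ideal is an open immersion. -/
theorem repWith_isOpenImmersion_factor (himm : AlgSp.RepWith @IsImmersion i)
    (hqc : AlgSp.RepWith @QuasiCompact i) (hpe : AlgSp.RepWith @Etale p)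
    (hps : AlgSp.RepWith @Surjective p) (j : Z ⟶ obj p (chartIdeal i hi p))
    (hj : j ≫ incl p (chartIdeal i hi p) = i) : AlgSp.RepWith @IsOpenImmersion j := by
  have hinv : Invariant p (chartIdeal i hi p) := invariant_chartIdeal hi hqc hpe
  obtain ⟨zU, hzU⟩ := exists_chart hinv
  have sqC := isPullback_chart hzU
  have hzUe : AlgSp.RepWith @Etale zU :=
    MorphismProperty.of_isPullback (P := AlgSp.RepWith @Etale) sqC.flip hpe
  have hzUs : AlgSp.RepWith @Surjective zU :=
    MorphismProperty.of_isPullback (P := AlgSp.RepWith @Surjective) sqC.flip hps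
  haveI := isLocallySurjective_of_chart hzUe hzUs
  have sqZ := hi.isPullback p
  haveI : IsImmersion (hi.snd p).left := himm.property p _ _ sqZ
  haveI : QuasiCompact (hi.snd p).left := hqc.property p _ _ sqZ
  -- the map to the scheme theoretic image in the chart
  have hti : (hi.snd p).left.toImage ≫ (chartIdeal i hi p).subschemeι = (hi.snd p).left :=
    (hi.snd p).left.toImage_imageι
  have hm₀ : (hi.snd p).left.toImage ≫ (ZU (chartIdeal i hi p)).hom = (hi.pullback p).hom := by
    show (hi.snd p).left.toImage ≫ ((chartIdeal i hi p).subschemeι ≫ U.hom) = _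
    rw [← Category.assoc, hti, Over.w (hi.snd p)]
  let m₀ : hi.pullback p ⟶ ZU (chartIdeal i hi p) := Over.homMk (hi.snd p).left.toImage hm₀
  have hm₀ι : m₀ ≫ ιU (chartIdeal i hi p) = hi.snd p := by
    ext
    exact hti
  haveI : IsOpenImmersion m₀.left := inferInstanceAs (IsOpenImmersion (hi.snd p).left.toImage)
  have hcomm : (AlgSp.yon S).map m₀ ≫ zU = hi.fst p ≫ j := by
    rw [← cancel_mono (incl p (chartIdeal i hi p)), Category.assoc, hzU, ← Functor.map_comp_assoc,
      hm₀ι, Category.assoc, hj]
    exact sqZ.w.symm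
  have sqL : IsPullback ((AlgSp.yon S).map m₀) (hi.fst p) zU j := by
    refine IsPullback.of_right (h₁₂ := (AlgSp.yon S).map (ιU (chartIdeal i hi p)))
      (h₂₂ := incl p (chartIdeal i hi p)) (v₁₃ := p) ?_ hcomm sqC.flip
    rw [← Functor.map_comp, hm₀ι, hj]
    exact sqZ.flip
  exact Groth.Agent.R2.H59.OpenDesc.repWith_isOpenImmersion_of_locallySurjective j zU (hi.fst p)
    ((AlgSp.yon S).map m₀) sqL.flip
    ((AlgSp.repWith_yon_map_iff @IsOpenImmersion m₀).2 inferInstance)

end Groth.Agent.R2.H83.SchClosure
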