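import Mathlib
import Groth.Prelude.Def_AlgGrp
import Groth.Prelude.Def_AlgSp
import Groth.Prelude.Def_Mor2
import Groth.Prelude.Def_NonAbH2
import Groth.Agent.Lib.Helper12Act
import Groth.Agent.Lib.Helper12QuotSh
import Groth.Agent.R2.H14QFinQuot
import Groth.Agent.R2.H33GrpdInvOpen
import Groth.Agent.S5690

/-!
# Quotient of a scheme by a free action of a finite locally free group scheme (helper84)

Namespace `Groth.Agent.R2.H84.ActGrpd`.

* `equivalence_act`: the orbit relation of a group action on `T`-points is an equivalence relation;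
* `isEqvRel_of_free`: for a free action, `(snd, act) : G ⊗ X ⇉ X` is an equivalence relation (`AlgSp.IsEqvRel`),
  so `Groth.Agent.R2.H14.QFinQuot.ofEqvRel` gives the action groupoid as a `Grpd.GroupoidScheme`;
* `exists_quotient`: SGA3 V 4.1 for free actions of finite locally free group schemes (from helper53's S5690).
-/

set_option autoImplicit false
set_option linter.style.haveILetI false
universe u
open CategoryTheory CategoryTheory.Limits MonoidalCategory CartesianMonoidalCategory MonObj AlgebraicGeometry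

namespace Groth.Agent.R2.H84.ActGrpd

open Groth.Agent.Lib.Helper12 Groth.Agent.Lib.Helper12.QuotShLib

variable {S : Scheme.{u}} {G X : Over S} [GrpObj G] (a : AlgGrp.Action G X)

lemma exists_affine_nbhd (Z : Scheme.{u}) (z : Z) : ∃ V : Z.Opens, IsAffineOpen V ∧ z ∈ V := by
  obtain ⟨_, ⟨V, hV, rfl⟩, hzV, -⟩ := Z.isBasis_affineOpens.exists_subset_of_mem_open
    (Set.mem_univ z) isOpen_univ
  exact ⟨V, hV, hzV⟩

omit [GrpObj G] in
lemma eq_lift_fst_snd {T : Over S} (r : T ⟶ G ⊗ X) : r = lift (r ≫ fst G X) (r ≫ snd G X) := by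
  apply CartesianMonoidalCategory.hom_ext <;> simp

/-- the orbit relation on `T`-points is an equivalence relation. -/
lemma equivalence_act (T : Over S) : _root_.Equivalence
    (fun x y : T ⟶ X => ∃ r : T ⟶ G ⊗ X, r ≫ a.act = x ∧ r ≫ snd G X = y) := by
  refine ⟨fun x => ?_, fun {x y} hxy => ?_, fun {x y z} hxy hyz => ?_⟩
  · exact ⟨lift (1 : T ⟶ G) x, act_one a x, lift_snd _ _⟩
  · obtain ⟨r, h1, h2⟩ := hxy
    refine ⟨lift (r ≫ fst G X)⁻¹ (r ≫ a.act), ?_, by rw [lift_snd, h1]⟩
    have := act_mul a (r ≫ fst G X)⁻¹ (r ≫ fst G X) (r ≫ snd G X)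
    rw [inv_mul_cancel, act_one, ← eq_lift_fst_snd] at this
    rw [← this, h2]
  · obtain ⟨r, h1, h2⟩ := hxy
    obtain ⟨r', h1', h2'⟩ := hyz
    refine ⟨lift ((r ≫ fst G X) * (r' ≫ fst G X)) (r' ≫ snd G X), ?_, by rw [lift_snd, h2']⟩
    rw [act_mul, ← eq_lift_fst_snd, h1', ← h2, ← eq_lift_fst_snd, h1]

/-- for a free action, `(snd, act)` is an equivalence relation on `X`. -/
theorem isEqvRel_of_free
    (hfree : ∀ (T : Over S) (g : T ⟶ G) (x : T ⟶ X), lift g x ≫ a.act = x → g = toUnit T ≫ η[G]) :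
    AlgSp.IsEqvRel (snd G X) a.act where
  injective T r r' ht hs := by
    have e1 := eq_lift_fst_snd r
    have e2 := eq_lift_fst_snd r'
    rw [← hs] at e2
    set g := r ≫ fst G X
    set g' := r' ≫ fst G X
    set x := r ≫ snd G X
    have h1 : lift (g'⁻¹ * g) x ≫ a.act = x := by
      rw [act_mul, ← e1, ht]
      have := act_mul a g'⁻¹ g' x
      rw [inv_mul_cancel, act_one, ← e2] at this
      exact this.symm
    have h2 := hfree T (g'⁻¹ * g) x h1
    rw [← Hom.one_def] at h2
    have h3 : g = g' := by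
      have := congrArg (fun k => g' * k) h2
      simpa [← mul_assoc] using this
    rw [e1, e2, h3]
  equivalence T := equivalence_act a T

open Groth.Agent.R2.H14.QFinQuot Groth.Agent.R2.H33.GrpdInvOpen in
/-- SGA3 V 4.1 for a free action of a finite locally free group scheme. -/
theorem exists_quotient (hG : Mor2.IsFinLocFree G.hom)
    (hfree : ∀ (T : Over S) (g : T ⟶ G) (x : T ⟶ X), lift g x ≫ a.act = x → g = toUnit T ≫ η[G])
    (h3 : IsAffineHom X.hom ∨ (∃ (R : CommRingCat.{u}) (i : X.left ⟶ Spec R), IsOpenImmersion i) ∨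
      UniversallyInjective G.hom) :
    ∃ (M : Over S) (q : X ⟶ M), QuotSh.IsQuotient Scheme.fppfPrecoverage (snd G X) a.act q ∧
      IsPullback a.act.left (snd G X).left q.left q.left ∧
      NonAbH1.IsLocallyTrivialFor Scheme.fppfPrecoverage (Over.mk q.left) := by
  have hE := isEqvRel_of_free a hfree
  let Γ := ofEqvRel hE
  have hs_eq : Γ.s = pullback.snd G.hom X.hom := rfl
  haveI : IsFinite Γ.s := by rw [hs_eq]; exact MorphismProperty.pullback_snd _ _ hG.1
  haveI : Flat Γ.s := by rw [hs_eq]; exact MorphismProperty.pullback_snd _ _ hG.2.1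
  haveI : LocallyOfFinitePresentation Γ.s := by
    rw [hs_eq]; exact MorphismProperty.pullback_snd _ _ hG.2.2
  haveI : Mono Γ.j := mono_j hE
  have hS : Γ.s ≫ X.hom = Γ.t ≫ X.hom := (Over.w (snd G X)).trans (Over.w a.act).symm
  have haff : ∀ x : ↥Γ.U, ∃ V : Γ.U.Opens, IsAffineOpen V ∧
      Γ.t.base '' (Γ.s.base ⁻¹' {x}) ⊆ (V : Set ↥Γ.U) := by
    rcases h3 with haffX | ⟨R, i, hi⟩ | huinj
    · intro x
      haveI : IsAffineHom Γ.pU := haffX
      obtain ⟨U, hU, hxU⟩ := exists_affine_nbhd S (Γ.pU x)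
      refine ⟨Γ.pU ⁻¹ᵁ U, hU.preimage Γ.pU, ?_⟩
      rintro _ ⟨r, hr, rfl⟩
      change Γ.pU (Γ.t r) ∈ U
      have e : Γ.pU (Γ.t r) = Γ.pU (Γ.s r) := by
        rw [← Scheme.Hom.comp_apply, ← Scheme.Hom.comp_apply, Γ.t_over, Γ.s_over]
      rw [e]
      have hr' : Γ.s r = x := hr
      rw [hr']
      exact hxU
    · intro x
      have hEf : (Γ.t.base '' (Γ.s.base ⁻¹' {x})).Finite :=
        (Γ.s.finite_preimage_singleton x).image _
      obtain ⟨f, hf1, hf2⟩ := exists_basicOpen_of_finite (X := Spec R) (V := ⊤)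
        (isAffineOpen_top _) i.opensRange (i '' (Γ.t.base '' (Γ.s.base ⁻¹' {x}))) (hEf.image _)
        (by rintro _ ⟨e, -, rfl⟩; exact ⟨e, rfl⟩) (fun _ _ => trivial)
      refine ⟨i ⁻¹ᵁ ((Spec R).basicOpen f),
        ((isAffineOpen_top (Spec R)).basicOpen f).preimage_of_isOpenImmersion i hf2, ?_⟩
      intro e he
      exact hf1 ⟨e, he, rfl⟩
    · intro x
      obtain ⟨V, hV, hxV⟩ := exists_affine_nbhd Γ.U x
      refine ⟨V, hV, ?_⟩
      rintro _ ⟨r, hr, rfl⟩
      haveI : UniversallyInjective Γ.s := by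
        rw [hs_eq]; exact MorphismProperty.pullback_snd _ _ huinj
      have hr' : Γ.s r = x := hr
      have hre : r = Γ.e x := by
        apply Γ.s.injective
        rw [hr', ← Scheme.Hom.comp_apply, Γ.e_s]
        rfl
      rw [hre]
      change Γ.t (Γ.e x) ∈ V
      rw [← Scheme.Hom.comp_apply, Γ.e_t]
      exact hxV
  obtain ⟨Y, q, w, ⟨hc⟩, -, -, hsurj, -, hm⟩ := Groth.Agent.S5690.result Γ haff
  obtain ⟨hfin, hflat, hlfp, hiso⟩ := hm inferInstance
  let m : Y ⟶ S := Cofork.IsColimit.desc hc X.hom hS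
  have hqm : q ≫ m = X.hom := Cofork.IsColimit.π_desc hc
  let M : Over S := Over.mk m
  let q' : X ⟶ M := Over.homMk q hqm
  have hpb : IsPullback Γ.t Γ.s q q := by
    haveI := hiso
    refine IsPullback.of_iso_pullback ⟨w.symm⟩ (asIso (pullback.lift Γ.t Γ.s w.symm)) ?_ ?_
    · exact pullback.lift_fst _ _ _
    · exact pullback.lift_snd _ _ _
  have hcov : Presieve.singleton q ∈ Scheme.fppfPrecoverage Y := q.singleton_mem_fppfPrecoverage
  refine ⟨M, q', ?_, hpb, ?_⟩
  · refine isQuotient_of_isKernelPair Scheme.fppfPrecoverage (snd G X) a.act q' ?_ hcov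
    exact IsPullback.of_map (Over.forget S) (Over.OverMorphism.ext w) hpb.flip
  · refine ⟨Presieve.singleton q, hcov, fun S' f hf => ?_⟩
    cases hf
    exact ⟨𝟙 _, Category.id_comp _⟩

end Groth.Agent.R2.H84.ActGrpd
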