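import Mathlib

/-!
helper84: extending isomorphisms of subfields of big algebraically closed fields.

* `exists_ringEquiv_extending`: two algebraically closed fields `K`, `L` of the same cardinality,
  bigger than `max #R ℵ₀`, receiving a field `R`, are isomorphic compatibly with the maps from `R`.
* `exists_bigAlgClosed`: every field embeds in an algebraically closed field of bigger, uncountable
  cardinality (same universe).
* `exists_aut_extending`: for two maps `σ₁ σ₂ : k → K` of fields there are an algebraically closed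
  `k'`, `τ : K → k'` and an automorphism `α` of `k'` with `α ∘ τ ∘ σ₁ = τ ∘ σ₂`.
-/

set_option autoImplicit false

universe u

open Cardinal

namespace Groth.Agent.R2.H84.AutExt

theorem card_transcendenceBasis {R K : Type u} [Field R] [Field K] [Algebra R K] [IsAlgClosed K]
    {ι : Type u} (v : ι → K) (hv : IsTranscendenceBasis R v) (hR : #R < #K) (hK : ℵ₀ < #K) :
    #ι = #K := by
  apply le_antisymm
  · exact Cardinal.mk_le_of_injective hv.1.injective
  · have h := IsAlgClosed.cardinal_le_max_transcendence_basis' v hv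
    by_contra hlt
    rw [not_le] at hlt
    have : max (max #R #ι) ℵ₀ < #K := max_lt (max_lt hR hlt) hK
    exact absurd h (not_le.2 this)

theorem exists_ringEquiv_extending {R K L : Type u} [Field R] [Field K] [Field L] [IsAlgClosed K]
    [IsAlgClosed L] (f : R →+* K) (g : R →+* L) (hKL : #K = #L) (hR : #R < #K) (hK : ℵ₀ < #K) :
    ∃ α : K ≃+* L, ∀ x, α (f x) = g x := by
  let _ := f.toAlgebra
  let _ := g.toAlgebra
  obtain ⟨s, hs⟩ := exists_isTranscendenceBasis R K
  obtain ⟨t, ht⟩ := exists_isTranscendenceBasis R L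
  have cs : #s = #K := card_transcendenceBasis _ hs hR hK
  have ct : #t = #L := card_transcendenceBasis _ ht (hKL ▸ hR) (hKL ▸ hK)
  obtain ⟨e⟩ : Nonempty (s ≃ t) := Cardinal.eq.1 (by rw [cs, ct, hKL])
  let _ := IsAlgClosed.isAlgClosure_of_transcendence_basis _ hs
  let _ := IsAlgClosed.isAlgClosure_of_transcendence_basis _ ht
  let E : Algebra.adjoin R (Set.range ((↑) : s → K)) ≃ₐ[R]
      Algebra.adjoin R (Set.range ((↑) : t → L)) :=
    hs.1.aevalEquiv.symm.trans ((MvPolynomial.renameEquiv R e).trans ht.1.aevalEquiv)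
  refine ⟨IsAlgClosure.equivOfEquiv K L E.toRingEquiv, fun x => ?_⟩
  have h1 := IsAlgClosure.equivOfEquiv_algebraMap K L E.toRingEquiv
    (algebraMap R (Algebra.adjoin R (Set.range ((↑) : s → K))) x)
  have h2 : E.toRingEquiv (algebraMap R (Algebra.adjoin R (Set.range ((↑) : s → K))) x) =
      algebraMap R (Algebra.adjoin R (Set.range ((↑) : t → L))) x := E.commutes x
  rw [h2] at h1
  exact h1

theorem exists_bigAlgClosed (K : Type u) [Field K] :
    ∃ (k' : Type u) (_ : Field k') (_ : IsAlgClosed k') (_ : K →+* k'), #K < #k' ∧ ℵ₀ < #k' := by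
  let T : Type u := Set (K × ℕ)
  let L := FractionRing (MvPolynomial T K)
  refine ⟨AlgebraicClosure L, inferInstance, inferInstance,
    (algebraMap L (AlgebraicClosure L)).comp ((algebraMap (MvPolynomial T K) L).comp
      (algebraMap K (MvPolynomial T K))), ?_⟩
  have hinj : Function.Injective (fun i : T =>
      algebraMap L (AlgebraicClosure L) (algebraMap (MvPolynomial T K) L (MvPolynomial.X i))) := by
    intro i j h
    have h1 := (algebraMap L (AlgebraicClosure L)).injective h
    have h2 := IsFractionRing.injective (MvPolynomial T K) L h1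
    exact MvPolynomial.X_injective h2
  have hT : #T ≤ #(AlgebraicClosure L) := Cardinal.mk_le_of_injective hinj
  have hKN : #(K × ℕ) < #T := by
    change #(K × ℕ) < #(Set (K × ℕ))
    rw [Cardinal.mk_set]
    exact Cardinal.cantor _
  have h1 : #K ≤ #(K × ℕ) :=
    Cardinal.mk_le_of_injective (f := fun x : K => (x, 0)) (fun a b h => by simpa using h)
  have h2 : ℵ₀ ≤ #(K × ℕ) := Cardinal.aleph0_le_mk _
  exact ⟨lt_of_le_of_lt h1 (lt_of_lt_of_le hKN hT), lt_of_le_of_lt h2 (lt_of_lt_of_le hKN hT)⟩

theorem exists_aut_extending {k K : Type u} [Field k] [Field K] (σ₁ σ₂ : k →+* K) :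
    ∃ (k' : Type u) (_ : Field k') (_ : IsAlgClosed k') (τ : K →+* k') (α : k' ≃+* k'),
      ∀ x, α (τ (σ₁ x)) = τ (σ₂ x) := by
  obtain ⟨k', hF, hC, τ, h1, h2⟩ := exists_bigAlgClosed K
  have hk : #k < #k' := lt_of_le_of_lt (Cardinal.mk_le_of_injective σ₁.injective) h1
  obtain ⟨α, hα⟩ := exists_ringEquiv_extending (τ.comp σ₁) (τ.comp σ₂) rfl hk h2
  exact ⟨k', hF, hC, τ, α, hα⟩

end Groth.Agent.R2.H84.AutExt
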