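import Mathlib.RingTheory.Flat.EquationalCriterion
import Mathlib.RingTheory.Ideal.Operations
import Mathlib.RingTheory.Nilpotent.Lemmas

set_option autoImplicit false

namespace Groth.Agent.R2.H84.NakFlat

variable {A : Type*} [CommRing A] (I : Ideal A)
  {M N : Type*} [AddCommGroup M] [Module A M] [AddCommGroup N] [Module A N]

/-- Nakayama for a nilpotent ideal: `⊤ ≤ R ⊔ I • ⊤` implies `R = ⊤`. -/
theorem eq_top_of_top_le_sup_smul (hI : IsNilpotent I) (R : Submodule A N)
    (h : (⊤ : Submodule A N) ≤ R ⊔ I • ⊤) : R = ⊤ := by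
  have key : ∀ n : ℕ, (⊤ : Submodule A N) ≤ R ⊔ I ^ n • ⊤ := by
    intro n
    induction n with
    | zero => simp
    | succ n ih =>
      refine ih.trans (sup_le le_sup_left ?_)
      calc I ^ n • (⊤ : Submodule A N) ≤ I ^ n • (R ⊔ I • ⊤) := Submodule.smul_mono le_rfl h
        _ = I ^ n • R ⊔ I ^ n • (I • ⊤) := Submodule.smul_sup _ _ _
        _ ≤ R ⊔ I ^ (n + 1) • ⊤ := by
          refine sup_le_sup Submodule.smul_le_right ?_
          rw [← Submodule.mul_smul, ← pow_succ]
  obtain ⟨n, hn⟩ := hI
  have := key n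
  rw [hn, Submodule.zero_eq_bot, Submodule.bot_smul, sup_bot_eq] at this
  exact top_le_iff.mp this

/-- A submodule with `K ≤ I • K` for a nilpotent ideal `I` is zero. -/
theorem eq_bot_of_le_smul (hI : IsNilpotent I) (K : Submodule A M) (h : K ≤ I • K) : K = ⊥ := by
  have key : ∀ n : ℕ, K ≤ I ^ n • K := by
    intro n
    induction n with
    | zero => simp
    | succ n ih =>
      calc K ≤ I ^ n • K := ih
        _ ≤ I ^ n • (I • K) := Submodule.smul_mono le_rfl h
        _ = I ^ (n + 1) • K := by rw [← Submodule.mul_smul, ← pow_succ]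
  obtain ⟨n, hn⟩ := hI
  have := key n
  rw [hn, Submodule.zero_eq_bot, Submodule.bot_smul] at this
  exact le_bot_iff.mp this


/-- A linear map into a flat module that is an isomorphism modulo a nilpotent ideal
is an isomorphism. -/
theorem bijective_of_flat_of_nilpotent (hI : IsNilpotent I) [Module.Flat A N] (f : M →ₗ[A] N)
    (hsurj : ∀ n : N, ∃ m : M, n - f m ∈ I • (⊤ : Submodule A N))
    (hinj : ∀ m : M, f m ∈ I • (⊤ : Submodule A N) → m ∈ I • (⊤ : Submodule A M)) :
    Function.Bijective f := by
  -- surjectivity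
  have hrange : LinearMap.range f = ⊤ := by
    apply eq_top_of_top_le_sup_smul I hI
    intro n _
    obtain ⟨m, hm⟩ := hsurj n
    have : n = f m + (n - f m) := by abel
    rw [this]
    exact Submodule.add_mem_sup (LinearMap.mem_range_self f m) hm
  have hs : Function.Surjective f := LinearMap.range_eq_top.mp hrange
  refine ⟨?_, hs⟩
  -- injectivity
  rw [← LinearMap.ker_eq_bot]
  apply eq_bot_of_le_smul I hI
  intro x hx
  rw [LinearMap.mem_ker] at hx
  have hx' : x ∈ I • (⊤ : Submodule A M) := hinj x (by rw [hx]; exact Submodule.zero_mem _)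
  have hspan : (⊤ : Submodule A M) = Submodule.span A (Set.range (id : M → M)) := by
    rw [Set.range_id, Submodule.span_univ]
  rw [hspan, Submodule.mem_ideal_smul_span_iff_exists_sum] at hx'
  obtain ⟨a, ha, hax⟩ := hx'
  -- the relation `∑ a_i • f m_i = 0` in `N`
  have hrel : ∑ i : a.support, a i • f (i : M) = 0 := by
    rw [← hx, ← hax, Finsupp.sum, map_sum]
    rw [← Finset.sum_coe_sort a.support (fun i => f (a i • id i))]
    refine Finset.sum_congr rfl fun i _ => ?_
    rw [map_smul]; rfl
  obtain ⟨k, b, y, hy, hb⟩ := Module.Flat.isTrivialRelation_of_sum_smul_eq_zero hrel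
  replace hy : ∀ i : a.support, f (i : M) = ∑ j, b i j • y j := hy
  replace hb : ∀ j : Fin k, ∑ i : a.support, a i * b i j = 0 := hb
  choose yt hyt using fun j => hs (y j)
  -- elements of the kernel
  have hk : ∀ i : a.support, (i : M) - ∑ j, b i j • yt j ∈ LinearMap.ker f := by
    intro i
    rw [LinearMap.mem_ker, map_sub, map_sum, hy i, sub_eq_zero]
    refine Finset.sum_congr rfl fun j _ => ?_
    rw [map_smul, hyt]
  have hxsum : x = ∑ i : a.support, a i • ((i : M) - ∑ j, b i j • yt j) := by
    have h1 : ∑ i : a.support, a i • ∑ j, b i j • yt j = 0 := by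
      simp_rw [Finset.smul_sum, smul_smul]
      rw [Finset.sum_comm]
      refine Finset.sum_eq_zero fun j _ => ?_
      rw [← Finset.sum_smul, hb j, zero_smul]
    simp_rw [smul_sub]
    rw [Finset.sum_sub_distrib, h1, sub_zero, ← hax, Finsupp.sum]
    rw [← Finset.sum_coe_sort a.support (fun i => a i • id i)]
    rfl
  rw [hxsum]
  exact Submodule.sum_mem _ fun i _ => Submodule.smul_mem_smul (ha i) (hk i)

end Groth.Agent.R2.H84.NakFlat
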