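import Groth.Prelude.Def_DefoSh
import Groth.Agent.R2.H84NakFlat
import Mathlib.RingTheory.Artinian.Ring

set_option autoImplicit false
set_option linter.style.haveILetI false
universe u

open CategoryTheory CategoryTheory.Limits AlgebraicGeometry TopologicalSpace Opposite

namespace Groth.Agent.R2.H84.DefoIso

variable {X : Scheme.{u}}

/-- a morphism of modules which is bijective on all stalks is an isomorphism. -/
theorem isIso_of_stalk_bijective {F G : X.Modules} (φ : F ⟶ G)
    (h : ∀ x : X, Function.Bijective (RefHull.stalkMapₗ φ x)) : IsIso φ := by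
  rw [Scheme.Modules.Hom.isIso_iff_isIso_app]
  intro U
  rw [ConcreteCategory.isIso_iff_bijective]
  let F' : TopCat.Sheaf AddCommGrpCat.{u} X.carrier := ⟨F.presheaf, F.isSheaf⟩
  let G' : TopCat.Sheaf AddCommGrpCat.{u} X.carrier := ⟨G.presheaf, G.isSheaf⟩
  let f' : F' ⟶ G' := ⟨Scheme.Modules.Hom.mapPresheaf φ⟩
  exact TopCat.Presheaf.app_bijective_of_stalkFunctor_map_bijective f' U (fun x _ => h x)

theorem isNilpotent_maximalIdeal (A : Type u) [CommRing A] [IsLocalRing A] [IsArtinianRing A] :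
    IsNilpotent (IsLocalRing.maximalIdeal A) := by
  have h := IsArtinianRing.isNilpotent_jacobson_bot (R := A)
  rwa [IsLocalRing.jacobson_eq_maximalIdeal ⊥ bot_ne_top] at h

variable {k : Type u} [Field k] [X.Over (Spec (CommRingCat.of k))] {E : X.Modules}
  {A : ArtFun.Art k k}

open DefoSh

/-- the reduction kills `m_A • stalk`. -/
theorem π_stalk_eq_zero_of_mem (D : Defo E A) (p : X) (v : ↑(D.sheaf.presheaf.stalk p))
    (hv : letI := D.stalkMod p
      v ∈ IsLocalRing.maximalIdeal A • (⊤ : Submodule A ↑(D.sheaf.presheaf.stalk p))) :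
    RefHull.stalkMapₗ D.π p v = 0 := by
  letI := D.stalkMod p
  refine Submodule.smul_induction_on hv ?_ ?_
  · intro a ha w _
    have h1 : a • w = RefHull.stalkMapₗ (D.act a) p w := rfl
    rw [h1, ← stalkMapₗ_comp_apply, D.act_π a ((ArtFun.Art.mem_maximalIdeal_iff A a).mp ha)]
    exact stalkMapₗ_zero_apply p w
  · intro x y hx hy
    rw [map_add, hx, hy, add_zero]

theorem isIso_of_comm (D D' : Defo E A) (φ : D.sheaf ⟶ D'.sheaf)
    (hact : ∀ a : A, D.act a ≫ φ = φ ≫ D'.act a) (hπ : φ ≫ D'.π = D.π) : IsIso φ := by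
  apply isIso_of_stalk_bijective
  intro p
  letI := D.stalkMod p
  letI := D'.stalkMod p
  haveI : Module.Flat A ↑(D'.sheaf.presheaf.stalk p) := D'.flat p
  let f : ↑(D.sheaf.presheaf.stalk p) →ₗ[A] ↑(D'.sheaf.presheaf.stalk p) :=
    { toFun := RefHull.stalkMapₗ φ p
      map_add' := map_add _
      map_smul' := by
        intro a v
        show RefHull.stalkMapₗ φ p (RefHull.stalkMapₗ (D.act a) p v) =
          RefHull.stalkMapₗ (D'.act a) p (RefHull.stalkMapₗ φ p v)
        rw [← stalkMapₗ_comp_apply, ← stalkMapₗ_comp_apply, hact a] }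
  have hπp : ∀ v, RefHull.stalkMapₗ D'.π p (f v) = RefHull.stalkMapₗ D.π p v := by
    intro v
    show RefHull.stalkMapₗ D'.π p (RefHull.stalkMapₗ φ p v) = _
    rw [← stalkMapₗ_comp_apply, hπ]
  have := Groth.Agent.R2.H84.NakFlat.bijective_of_flat_of_nilpotent (IsLocalRing.maximalIdeal A)
    (isNilpotent_maximalIdeal A) f ?_ ?_
  · exact this
  · intro n
    obtain ⟨x, hx⟩ := D.surj p (RefHull.stalkMapₗ D'.π p n)
    refine ⟨x, D'.ker_le p _ ?_⟩
    rw [map_sub, hπp, hx, sub_self]
  · intro x hx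
    apply D.ker_le p
    rw [← hπp]
    exact π_stalk_eq_zero_of_mem D' p _ hx

end Groth.Agent.R2.H84.DefoIso
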