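import Mathlib
import Groth.Prelude.Def_AlgSpGpd
import Groth.Prelude.Def_AlgSp4

/-!
helper84: sections and diagonals.

* `isPullback_section_diagonal`: a section `e` of `π : X ⟶ B` is a base change of the diagonal of `π`.
* `representable_diagonal`: the diagonal of a morphism of sheaves whose source has representable
  diagonal is representable.
* `GrpObj`: the diagonal of a group object is a base change of its unit section.
-/

set_option autoImplicit false

open CategoryTheory CategoryTheory.Limits AlgebraicGeometry

universe u

namespace Groth.Agent.R2.H84.DiagSec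

section General

variable {C : Type*} [Category C] [HasPullbacks C]

/-- A section `e` of `π` is the base change of the diagonal of `π` along `x ↦ (x, e (π x))`. -/
lemma isPullback_section_diagonal {X B : C} (π : X ⟶ B) (e : B ⟶ X) (he : e ≫ π = 𝟙 B) :
    IsPullback e e (pullback.diagonal π)
      (pullback.lift (𝟙 X) (π ≫ e) (by rw [Category.id_comp, Category.assoc, he, Category.comp_id])) := by
  have : Mono e := SplitMono.mono ⟨π, he⟩
  refine ⟨⟨?_⟩, ⟨PullbackCone.IsLimit.mk _ (fun s => s.snd ≫ π) ?_ ?_ ?_⟩⟩
  · apply pullback.hom_ext
    · rw [Category.assoc, Category.assoc, pullback.diagonal_fst, pullback.lift_fst]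
    · rw [Category.assoc, Category.assoc, pullback.diagonal_snd, pullback.lift_snd,
        reassoc_of% he, Category.comp_id]
  · intro s
    have h1 := s.condition =≫ pullback.fst π π
    have h2 := s.condition =≫ pullback.snd π π
    simp only [Category.assoc, pullback.diagonal_fst, pullback.diagonal_snd, pullback.lift_fst,
      pullback.lift_snd, Category.comp_id] at h1 h2
    exact (Category.assoc _ _ _).trans h2.symm
  · intro s
    have h1 := s.condition =≫ pullback.fst π π
    have h2 := s.condition =≫ pullback.snd π π
    simp only [Category.assoc, pullback.diagonal_fst, pullback.diagonal_snd, pullback.lift_fst,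
      pullback.lift_snd, Category.comp_id] at h1 h2
    exact (Category.assoc _ _ _).trans (h2.symm.trans h1)
  · intro s m _ hm
    have h1 := s.condition =≫ pullback.fst π π
    have h2 := s.condition =≫ pullback.snd π π
    simp only [Category.assoc, pullback.diagonal_fst, pullback.diagonal_snd, pullback.lift_fst,
      pullback.lift_snd, Category.comp_id] at h1 h2
    apply (cancel_mono e).1
    exact hm.trans ((h1.symm.trans h2).trans (Category.assoc _ _ _).symm)

end General

section Rep

variable {S : Scheme.{u}}

/-- the comparison `X ×_Y X ⟶ X ⨯ X` is a monomorphism. -/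
instance mono_prod_lift_pullback {X Y : AlgSp.Sp S} (π : X ⟶ Y) :
    Mono (prod.lift (pullback.fst π π) (pullback.snd π π)) := by
  refine ⟨fun u v h => pullback.hom_ext ?_ ?_⟩
  · have h1 := h =≫ prod.fst
    rwa [Category.assoc, Category.assoc, prod.lift_fst] at h1
  · have h1 := h =≫ prod.snd
    rwa [Category.assoc, Category.assoc, prod.lift_snd] at h1

/-- the relative diagonal of a morphism whose source has representable (absolute) diagonal is
representable. -/
lemma representable_diagonal {X Y : AlgSp.Sp S} (hX : AlgSp.Representable (Limits.diag X))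
    (π : X ⟶ Y) : AlgSp.Representable (pullback.diagonal π) := by
  intro T g
  obtain ⟨T', b, a, sq⟩ := hX (g ≫ prod.lift (pullback.fst π π) (pullback.snd π π))
  refine ⟨T', b, a, ?_⟩
  have e : pullback.diagonal π ≫ prod.lift (pullback.fst π π) (pullback.snd π π) =
      Limits.diag X := by
    apply Limits.prod.hom_ext
    · rw [Category.assoc, prod.lift_fst, pullback.diagonal_fst, Limits.diag, prod.lift_fst]
    · rw [Category.assoc, prod.lift_snd, pullback.diagonal_snd, Limits.diag, prod.lift_snd]
  have t : IsPullback g (𝟙 _) (prod.lift (pullback.fst π π) (pullback.snd π π))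
      (g ≫ prod.lift (pullback.fst π π) (pullback.snd π π)) :=
    IsPullback.of_vert_isIso_mono ⟨by rw [Category.id_comp]⟩
  refine IsPullback.of_bot (v₂₁ := 𝟙 _) ?_ ?_ t
  · rw [Category.comp_id, e]
    exact sq
  · rw [← cancel_mono (prod.lift (pullback.fst π π) (pullback.snd π π)), Category.assoc, e,
      Category.assoc]
    exact sq.w

end Rep

section Grp

open MonoidalCategory CartesianMonoidalCategory MonObj

variable {C : Type*} [Category C] [CartesianMonoidalCategory C]

/-- In a group object, the diagonal is the base change of the unit along `(g, h) ↦ g / h`. -/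
lemma isPullback_diag_unit (G : C) [GrpObj G] :
    IsPullback (lift (𝟙 G) (𝟙 G)) (toUnit G) (fst G G / snd G G) η[G] := by
  refine ⟨⟨?_⟩, ⟨PullbackCone.IsLimit.mk _ (fun s => s.fst ≫ fst G G) ?_ ?_ ?_⟩⟩
  · rw [GrpObj.comp_div, lift_fst, lift_snd, div_self', Hom.one_def]
  · intro s
    have h := s.condition
    rw [GrpObj.comp_div, toUnit_unique s.snd (toUnit _), ← Hom.one_def, div_eq_one] at h
    apply CartesianMonoidalCategory.hom_ext
    · rw [Category.assoc, lift_fst, Category.comp_id]
    · rw [Category.assoc, lift_snd, Category.comp_id, h]
  · intro s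
    exact toUnit_unique _ _
  · intro s m hm _
    rw [← hm, Category.assoc, lift_fst, Category.comp_id]

end Grp

section GrpSp

open MonoidalCategory CartesianMonoidalCategory MonObj AlgSp

variable {S : Scheme.{u}} {B : AlgSp.Sp S}

/-- For a group object `G` over `B` in sheaves, the relative diagonal of `G ⟶ B` is a base change of
the unit section. -/
lemma isPullback_diagonal_unit (G : Over B) [GrpObj G] :
    IsPullback (pullback.diagonal G.hom) G.hom (fst G G / snd G G : G ⊗ G ⟶ G).left (η[G]).left :=
  (isPullback_diag_unit G).map (Over.forget B)

/-- The unit section is a section. -/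
lemma unit_left_comp_hom (G : Over B) [GrpObj G] : (η[G]).left ≫ G.hom = 𝟙 B := by
  have := Over.w η[G]
  simpa using this

end GrpSp

end Groth.Agent.R2.H84.DiagSec
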