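import Mathlib
import Groth.Prelude.Def_Grpd
import Groth.Prelude.Def_Hens2
import Groth.Agent.R2.H84EtLocGrpdA
import Groth.Agent.Lib.Helper20EtSplitClopen

/-!
# Étale localization of groupoid schemes (Stacks 03FM): the finite parts (helper84)
-/

set_option autoImplicit false
set_option linter.style.haveILetI false
universe u

open CategoryTheory CategoryTheory.Limits AlgebraicGeometry

namespace Groth.Agent.R2.H84.EtLocGrpd

open Groth.Agent.Lib.Helper20.EtSections Groth.Agent.Lib.Helper20.ResFld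
  Groth.Agent.Lib.Helper20.FinUnion

variable {S : Scheme.{u}} (G : Grpd.GroupoidScheme S)

/-- base change of `s` along `g` -/
noncomputable abbrev sS {S' : Scheme.{u}} (g : S' ⟶ S) : pullback G.pR g ⟶ pullback G.pU g :=
  pullback.map G.pR g G.pU g G.s (𝟙 S') (𝟙 S) ((Category.comp_id _).trans G.s_over.symm)
    ((Category.comp_id _).trans (Category.id_comp _).symm)

/-- base change of `t` along `g` -/
noncomputable abbrev tS {S' : Scheme.{u}} (g : S' ⟶ S) : pullback G.pR g ⟶ pullback G.pU g :=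
  pullback.map G.pR g G.pU g G.t (𝟙 S') (𝟙 S) ((Category.comp_id _).trans G.t_over.symm)
    ((Category.comp_id _).trans (Category.id_comp _).symm)

section maps

variable {S' : Scheme.{u}} (g : S' ⟶ S)

@[reassoc]
lemma sS_fst : sS G g ≫ pullback.fst G.pU g = pullback.fst G.pR g ≫ G.s :=
  pullback.lift_fst _ _ _

@[reassoc]
lemma sS_snd : sS G g ≫ pullback.snd G.pU g = pullback.snd G.pR g := by
  unfold sS pullback.map
  rw [pullback.lift_snd, Category.comp_id]

@[reassoc]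
lemma tS_fst : tS G g ≫ pullback.fst G.pU g = pullback.fst G.pR g ≫ G.t :=
  pullback.lift_fst _ _ _

@[reassoc]
lemma tS_snd : tS G g ≫ pullback.snd G.pU g = pullback.snd G.pR g := by
  unfold tS pullback.map
  rw [pullback.lift_snd, Category.comp_id]

lemma sS_fst_apply (w : ↥(pullback G.pR g)) :
    pullback.fst G.pU g (sS G g w) = G.s (pullback.fst G.pR g w) := by
  rw [← Scheme.Hom.comp_apply, sS_fst, Scheme.Hom.comp_apply]

lemma sS_snd_apply (w : ↥(pullback G.pR g)) :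
    pullback.snd G.pU g (sS G g w) = pullback.snd G.pR g w := by
  rw [← Scheme.Hom.comp_apply, sS_snd]

lemma tS_fst_apply (w : ↥(pullback G.pR g)) :
    pullback.fst G.pU g (tS G g w) = G.t (pullback.fst G.pR g w) := by
  rw [← Scheme.Hom.comp_apply, tS_fst, Scheme.Hom.comp_apply]

lemma tS_snd_apply (w : ↥(pullback G.pR g)) :
    pullback.snd G.pU g (tS G g w) = pullback.snd G.pR g w := by
  rw [← Scheme.Hom.comp_apply, tS_snd]

variable {S'' : Scheme.{u}} (h : S'' ⟶ S')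

lemma bcMap_sS : bcMap G.pR g h ≫ sS G g = sS G (h ≫ g) ≫ bcMap G.pU g h := by
  apply pullback.hom_ext
  · rw [Category.assoc, sS_fst, bcMap_fst_assoc, Category.assoc, bcMap_fst, sS_fst]
  · rw [Category.assoc, sS_snd, bcMap_snd, Category.assoc, bcMap_snd, sS_snd_assoc]

lemma bcMap_tS : bcMap G.pR g h ≫ tS G g = tS G (h ≫ g) ≫ bcMap G.pU g h := by
  apply pullback.hom_ext
  · rw [Category.assoc, tS_fst, bcMap_fst_assoc, Category.assoc, bcMap_fst, tS_fst]
  · rw [Category.assoc, tS_snd, bcMap_snd, Category.assoc, bcMap_snd, tS_snd_assoc]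

lemma bcMap_sS_apply (w : ↥(pullback G.pR (h ≫ g))) :
    sS G g (bcMap G.pR g h w) = bcMap G.pU g h (sS G (h ≫ g) w) := by
  rw [← Scheme.Hom.comp_apply, bcMap_sS, Scheme.Hom.comp_apply]

lemma bcMap_tS_apply (w : ↥(pullback G.pR (h ≫ g))) :
    tS G g (bcMap G.pR g h w) = bcMap G.pU g h (tS G (h ≫ g) w) := by
  rw [← Scheme.Hom.comp_apply, bcMap_tS, Scheme.Hom.comp_apply]

end maps

/-- the set of targets of arrows with source `u` -/
def orbit (u : G.U) : Set G.U := G.t '' (G.s ⁻¹' {u})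

lemma self_mem_orbit (u : G.U) : u ∈ orbit G u := by
  refine ⟨G.e u, ?_, ?_⟩
  · change G.s (G.e u) = u
    rw [← Scheme.Hom.comp_apply, G.e_s]; rfl
  · rw [← Scheme.Hom.comp_apply, G.e_t]; rfl

lemma t_mem_orbit {u : G.U} {r : G.R} (hr : G.s r ∈ orbit G u) : G.t r ∈ orbit G u := by
  obtain ⟨r₀, hr₀, h⟩ := hr
  obtain ⟨r', h1, h2⟩ := exists_arrow_comp G r r₀ h.symm
  exact ⟨r', h1.trans hr₀, h2⟩

lemma pU_of_mem_orbit {u x : G.U} (hx : x ∈ orbit G u) : G.pU x = G.pU u := by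
  obtain ⟨r, hr, rfl⟩ := hx
  have hr' : G.s r = u := hr
  have e : G.t ≫ G.pU = G.s ≫ G.pU := G.t_over.trans G.s_over.symm
  rw [← Scheme.Hom.comp_apply, e, Scheme.Hom.comp_apply, hr']

/-- the finite parts over an elementary étale neighbourhood -/
structure Data (p : S) (u : G.U) {S' : Scheme.{u}} (g : S' ⟶ S) (p' : S')
    (U' : (pullback G.pU g).Opens) (R' : (pullback G.pR g).Opens) : Prop where
  nbhd : Hens2.IsEtaleNbhd g p' p
  closedU : IsClosed (U' : Set ↥(pullback G.pU g))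
  closedR : IsClosed (R' : Set ↥(pullback G.pR g))
  finU : IsFinite (U'.ι ≫ pullback.snd G.pU g)
  finR : IsFinite (R'.ι ≫ pullback.snd G.pR g)
  fibU : ∀ w : ↥(pullback G.pU g), pullback.snd G.pU g w = p' →
    (w ∈ U' ↔ pullback.fst G.pU g w ∈ orbit G u)
  fibR : ∀ w : ↥(pullback G.pR g), pullback.snd G.pR g w = p' →
    (w ∈ R' ↔ G.s (pullback.fst G.pR g w) ∈ orbit G u)

theorem exists_data (p : S) (u : G.U) (hu : G.pU u = p) [LocallyOfFiniteType G.pU]
    [IsSeparated G.pU] [IsSeparated G.pR] [Flat G.s] [LocallyOfFinitePresentation G.s]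
    [Flat G.t] [LocallyOfFinitePresentation G.t]
    (hqf : G.pU.QuasiFiniteAt u) (hfin : (G.s ⁻¹' {u}).Finite) :
    ∃ (S' : Scheme.{u}) (g : S' ⟶ S) (p' : S') (U' : (pullback G.pU g).Opens)
      (R' : (pullback G.pR g).Opens), Data G p u g p' U' R' := by
  subst hu
  have hOfin : (orbit G u).Finite := hfin.image _
  have hO_qf : ∀ x ∈ orbit G u, G.pU.QuasiFiniteAt x := by
    rintro _ ⟨r, hr, rfl⟩
    have hr' : G.s r = u := hr
    exact quasiFiniteAt_pU_target G r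
      (quasiFiniteAt_of_finite_fibre G.s r (by rw [hr']; exact hfin)) (by rw [hr']; exact hqf)
  have hO_fin : ∀ x ∈ orbit G u, (G.s ⁻¹' {x}).Finite := by
    rintro _ ⟨r, hr, rfl⟩
    have hr' : G.s r = u := hr
    exact finite_fibre_of_arrow G r (by rw [hr']; exact hfin)
  have hTRfin : (G.s ⁻¹' orbit G u).Finite := by
    apply (hOfin.biUnion hO_fin).subset
    intro r hr
    exact Set.mem_biUnion hr rfl
  have hlft : LocallyOfFiniteType G.pR := by rw [← G.s_over]; infer_instance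
  have hTR_p : ∀ r ∈ G.s ⁻¹' orbit G u, G.pR r = G.pU u := by
    intro r hr
    rw [← G.s_over, Scheme.Hom.comp_apply]
    exact pU_of_mem_orbit G hr
  have hTR_qf : ∀ r ∈ G.s ⁻¹' orbit G u, G.pR.QuasiFiniteAt r := by
    intro r hr
    have h1 : (G.s ≫ G.pU).QuasiFiniteAt r := quasiFiniteAt_comp _ _ _
      (quasiFiniteAt_of_finite_fibre G.s r (hO_fin _ hr)) (hO_qf _ hr)
    have e := G.s_over
    rwa [e] at h1
  obtain ⟨S₁, g₁, p₁, hg₁, hp₁, hb₁, d₁⟩ := hasFinParts_of_finite (f := G.pU) (G.pU u)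
    (orbit G u) hOfin (fun x hx => ⟨pU_of_mem_orbit G hx, hO_qf x hx⟩)
  obtain ⟨S₂, g₂, p₂, hg₂, hp₂, hb₂, d₂⟩ := hasFinParts_of_finite (f := G.pR) (G.pU u)
    (G.s ⁻¹' orbit G u) hTRfin (fun r hr => ⟨hTR_p r hr, hTR_qf r hr⟩)
  obtain ⟨p₃, h31, h32⟩ := Scheme.Pullback.exists_preimage_pullback (f := g₁) (g := g₂) p₁ p₂
    (hp₁.trans hp₂.symm)
  have dU : ∀ x ∈ orbit G u, FinPartData G.pU (pullback.fst g₁ g₂ ≫ g₁) p₃ x :=
    fun x hx => (d₁ x hx).baseChange (pullback.fst g₁ g₂) p₃ h31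
  have dR : ∀ r ∈ G.s ⁻¹' orbit G u, FinPartData G.pR (pullback.fst g₁ g₂ ≫ g₁) p₃ r := by
    intro r hr
    have := (d₂ r hr).baseChange (pullback.snd g₁ g₂) p₃ h32
    rwa [← pullback.condition] at this
  have hbij : Function.Bijective ((pullback.fst g₁ g₂ ≫ g₁).residueFieldMap p₃) := by
    apply bijective_residueFieldMap_comp
    · apply bijective_fst_residueFieldMap
      rw [h32]; exact hb₂
    · rw [h31]; exact hb₁
  choose! V hV1 hV2 using dU
  choose! W hW1 hW2 using dR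
  have : Finite (orbit G u) := hOfin.to_subtype
  have : Finite (G.s ⁻¹' orbit G u) := hTRfin.to_subtype
  have hVc : ∀ x : orbit G u, IsClosed (V x.1 : Set ↥(pullback G.pU (pullback.fst g₁ g₂ ≫ g₁))) := by
    intro x
    have := hV1 x.1 x.2
    exact isClosed_of_isFinite (pullback.snd G.pU (pullback.fst g₁ g₂ ≫ g₁)) (V x.1)
  have hWc : ∀ r : (G.s ⁻¹' orbit G u),
      IsClosed (W r.1 : Set ↥(pullback G.pR (pullback.fst g₁ g₂ ≫ g₁))) := by
    intro r
    have := hW1 r.1 r.2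
    exact isClosed_of_isFinite (pullback.snd G.pR (pullback.fst g₁ g₂ ≫ g₁)) (W r.1)
  obtain ⟨hU1, hU2⟩ := isFinite_iSup_of_isClosed (pullback.snd G.pU (pullback.fst g₁ g₂ ≫ g₁))
    (fun x : orbit G u => V x.1) hVc (fun x => hV1 x.1 x.2)
  obtain ⟨hR1, hR2⟩ := isFinite_iSup_of_isClosed (pullback.snd G.pR (pullback.fst g₁ g₂ ≫ g₁))
    (fun r : (G.s ⁻¹' orbit G u) => W r.1) hWc (fun r => hW1 r.1 r.2)
  refine ⟨pullback g₁ g₂, pullback.fst g₁ g₂ ≫ g₁, p₃, ⨆ x : orbit G u, V x.1,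
    ⨆ r : (G.s ⁻¹' orbit G u), W r.1, ⟨⟨inferInstance, ?_, hbij⟩, hU2, hR2, hU1, hR1, ?_, ?_⟩⟩
  · rw [Scheme.Hom.comp_apply, h31, hp₁]
  · intro w hw
    rw [TopologicalSpace.Opens.mem_iSup]
    constructor
    · rintro ⟨x, hx⟩
      rw [(hV2 x.1 x.2 w hw).mp hx]
      exact x.2
    · intro hx
      exact ⟨⟨_, hx⟩, (hV2 _ hx w hw).mpr rfl⟩
  · intro w hw
    rw [TopologicalSpace.Opens.mem_iSup]
    constructor
    · rintro ⟨r, hr⟩
      rw [(hW2 r.1 r.2 w hw).mp hr]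
      exact r.2
    · intro hx
      exact ⟨⟨_, hx⟩, (hW2 _ hx w hw).mpr rfl⟩

section Data

variable {G} {p : S} {u : G.U} {S' : Scheme.{u}} {g : S' ⟶ S} {p' : S'}
  {U' : (pullback G.pU g).Opens} {R' : (pullback G.pR g).Opens}

theorem Data.restrict (D : Data G p u g p' U' R') {S'' : Scheme.{u}} (h : S'' ⟶ S')
    [IsOpenImmersion h] (p'' : S'') (hp : h p'' = p') :
    Data G p u (h ≫ g) p'' ((bcMap G.pU g h) ⁻¹ᵁ U') ((bcMap G.pR g h) ⁻¹ᵁ R') where
  nbhd := by
    have := D.nbhd.etale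
    refine ⟨inferInstance, ?_, ?_⟩
    · rw [Scheme.Hom.comp_apply, hp]
      exact D.nbhd.base_eq
    · apply bijective_residueFieldMap_comp
      · exact bijective_residueFieldMap_of_isOpenImmersion h p''
      · rw [hp]; exact D.nbhd.residue_bijective
  closedU := D.closedU.preimage (bcMap G.pU g h).continuous
  closedR := D.closedR.preimage (bcMap G.pR g h).continuous
  finU := by
    have := D.finU
    exact isFinite_preimage_bcMap G.pU g h U'
  finR := by
    have := D.finR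
    exact isFinite_preimage_bcMap G.pR g h R'
  fibU := by
    intro w hw
    have := D.fibU (bcMap G.pU g h w) (by rw [bcMap_snd_apply, hw, hp])
    rwa [bcMap_fst_apply] at this
  fibR := by
    intro w hw
    have := D.fibR (bcMap G.pR g h w) (by rw [bcMap_snd_apply, hw, hp])
    rwa [bcMap_fst_apply] at this

/-- remove a closed subset of the base not containing the base point -/
theorem Data.exists_avoiding (D : Data G p u g p' U' R') (Z : Set S') (hZ : IsClosed Z)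
    (hpZ : p' ∉ Z) :
    ∃ (S'' : Scheme.{u}) (h : S'' ⟶ S') (_ : IsOpenImmersion h) (p'' : S''), h p'' = p' ∧
      (∀ x, h x ∉ Z) ∧
      Data G p u (h ≫ g) p'' ((bcMap G.pU g h) ⁻¹ᵁ U') ((bcMap G.pR g h) ⁻¹ᵁ R') := by
  let O : S'.Opens := ⟨Zᶜ, hZ.isOpen_compl⟩
  refine ⟨O.toScheme, O.ι, inferInstance, ⟨p', hpZ⟩, rfl, fun x => x.2, D.restrict O.ι ⟨p', hpZ⟩ rfl⟩

theorem Data.sS_mem (D : Data G p u g p' U' R') (w : ↥(pullback G.pR g)) (hw : w ∈ R')
    (hw' : pullback.snd G.pR g w = p') : sS G g w ∈ U' := by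
  rw [D.fibU _ (by rw [sS_snd_apply, hw']), sS_fst_apply]
  exact (D.fibR w hw').mp hw

theorem Data.tS_mem (D : Data G p u g p' U' R') (w : ↥(pullback G.pR g)) (hw : w ∈ R')
    (hw' : pullback.snd G.pR g w = p') : tS G g w ∈ U' := by
  rw [D.fibU _ (by rw [tS_snd_apply, hw']), tS_fst_apply]
  exact t_mem_orbit G ((D.fibR w hw').mp hw)

theorem Data.exists_point (D : Data G p u g p' U' R') (hu : G.pU u = p) :
    ∃ u' : ↥(pullback G.pU g), u' ∈ U' ∧ pullback.fst G.pU g u' = u ∧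
      pullback.snd G.pU g u' = p' := by
  obtain ⟨u', h1, h2⟩ := Scheme.Pullback.exists_preimage_pullback (f := G.pU) (g := g) u p'
    (hu.trans D.nbhd.base_eq.symm)
  refine ⟨u', ?_, h1, h2⟩
  rw [D.fibU u' h2, h1]
  exact self_mem_orbit G u

theorem Data.fibre_U (D : Data G p u g p' U' R') (u' : ↥(pullback G.pU g))
    (h1 : pullback.fst G.pU g u' = u) (h2 : pullback.snd G.pU g u' = p') :
    {x : ↥(pullback G.pU g) | x ∈ U' ∧ pullback.snd G.pU g x = p'} =
      ⇑(tS G g) '' (⇑(sS G g) ⁻¹' {u'}) := by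
  have hbij := D.nbhd.residue_bijective
  ext x
  constructor
  · rintro ⟨hx, hx'⟩
    obtain ⟨r, hr, hrx⟩ := (D.fibU x hx').mp hx
    have hr' : G.s r = u := hr
    have hpr : G.pR r = g p' := by
      rw [← G.s_over, Scheme.Hom.comp_apply, hr', ← h1, ← Scheme.Hom.comp_apply,
        pullback.condition, Scheme.Hom.comp_apply, h2]
    obtain ⟨r', e1, e2⟩ := Scheme.Pullback.exists_preimage_pullback (f := G.pR) (g := g) r p' hpr
    refine ⟨r', ?_, ?_⟩
    · change sS G g r' = u'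
      apply eq_of_fst_eq_of_snd_eq
      · rw [sS_fst_apply, e1, hr', h1]
      · rw [sS_snd_apply, e2, h2]
      · rw [h2]; exact hbij
    · apply eq_of_fst_eq_of_snd_eq
      · rw [tS_fst_apply, e1, hrx]
      · rw [tS_snd_apply, e2, hx']
      · rw [hx']; exact hbij
  · rintro ⟨r', hr', rfl⟩
    have hr'' : sS G g r' = u' := hr'
    have e2 : pullback.snd G.pR g r' = p' := by rw [← sS_snd_apply, hr'', h2]
    have e1 : G.s (pullback.fst G.pR g r') = u := by rw [← sS_fst_apply, hr'', h1]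
    refine ⟨?_, by rw [tS_snd_apply, e2]⟩
    rw [D.fibU _ (by rw [tS_snd_apply, e2]), tS_fst_apply]
    exact ⟨_, e1, rfl⟩

theorem Data.fibre_R (D : Data G p u g p' U' R') :
    {r : ↥(pullback G.pR g) | r ∈ R' ∧ pullback.snd G.pR g r = p'} =
      ⇑(sS G g) ⁻¹' {x | x ∈ U' ∧ pullback.snd G.pU g x = p'} := by
  ext r
  constructor
  · rintro ⟨hr, hr'⟩
    exact ⟨D.sS_mem r hr hr', by rw [sS_snd_apply, hr']⟩
  · rintro ⟨hr, hr'⟩
    have e2 : pullback.snd G.pR g r = p' := by rw [← sS_snd_apply]; exact hr'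
    refine ⟨?_, e2⟩
    rw [D.fibR r e2, ← sS_fst_apply]
    exact (D.fibU _ hr').mp hr

end Data

/-- Stacks 03FM (a)–(e). -/
theorem exists_data_maps (p : S) (u : G.U) (hu : G.pU u = p) [LocallyOfFiniteType G.pU]
    [IsSeparated G.pU] [IsSeparated G.pR] [Flat G.s] [LocallyOfFinitePresentation G.s]
    [Flat G.t] [LocallyOfFinitePresentation G.t]
    (hqf : G.pU.QuasiFiniteAt u) (hfin : (G.s ⁻¹' {u}).Finite) :
    ∃ (S' : Scheme.{u}) (g : S' ⟶ S) (p' : S') (U' : (pullback G.pU g).Opens)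
      (R' : (pullback G.pR g).Opens), Data G p u g p' U' R' ∧
        ⇑(sS G g) '' (R' : Set ↥(pullback G.pR g)) ⊆ U' ∧
        ⇑(tS G g) '' (R' : Set ↥(pullback G.pR g)) ⊆ U' := by
  obtain ⟨S', g, p', U', R', D⟩ := exists_data G p u hu hqf hfin
  have := D.finR
  have hZ1 : IsClosed (pullback.snd G.pR g '' ((R' : Set ↥(pullback G.pR g)) ∩
      ⇑(sS G g) ⁻¹' (U' : Set ↥(pullback G.pU g))ᶜ)) :=
    isClosed_image_inter _ R' _ (U'.2.isClosed_compl.preimage (sS G g).continuous)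
  have hZ2 : IsClosed (pullback.snd G.pR g '' ((R' : Set ↥(pullback G.pR g)) ∩
      ⇑(tS G g) ⁻¹' (U' : Set ↥(pullback G.pU g))ᶜ)) :=
    isClosed_image_inter _ R' _ (U'.2.isClosed_compl.preimage (tS G g).continuous)
  obtain ⟨S'', h, hh, p'', hp, hav, D'⟩ := D.exists_avoiding _ (hZ1.union hZ2) (by
    rintro (⟨w, ⟨hw1, hw2⟩, hw3⟩ | ⟨w, ⟨hw1, hw2⟩, hw3⟩)
    · exact hw2 (D.sS_mem w hw1 hw3)
    · exact hw2 (D.tS_mem w hw1 hw3))
  refine ⟨S'', h ≫ g, p'', _, _, D', ?_, ?_⟩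
  · rintro _ ⟨w, hw, rfl⟩
    change bcMap G.pU g h (sS G (h ≫ g) w) ∈ U'
    rw [← bcMap_sS_apply]
    by_contra hcon
    exact hav (pullback.snd G.pR (h ≫ g) w)
      (Or.inl ⟨bcMap G.pR g h w, ⟨hw, hcon⟩, bcMap_snd_apply _ _ _ _⟩)
  · rintro _ ⟨w, hw, rfl⟩
    change bcMap G.pU g h (tS G (h ≫ g) w) ∈ U'
    rw [← bcMap_tS_apply]
    by_contra hcon
    exact hav (pullback.snd G.pR (h ≫ g) w)
      (Or.inr ⟨bcMap G.pR g h w, ⟨hw, hcon⟩, bcMap_snd_apply _ _ _ _⟩)

end Groth.Agent.R2.H84.EtLocGrpd
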