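import Mathlib
import Groth.Agent.R2.H84EtLocGrpdB

/-!
# Étale localization of groupoid schemes: the case `j` universally closed (helper84)

With `j = (t, s)` universally closed the finite part `R'` of Stacks 03FM can be taken to be the
full restriction `s'⁻¹(U') ∩ t'⁻¹(U')`.
-/

set_option autoImplicit false
set_option linter.style.haveILetI false
universe u

open CategoryTheory CategoryTheory.Limits AlgebraicGeometry

namespace Groth.Agent.R2.H84.EtLocGrpd

open Groth.Agent.Lib.Helper20.EtSections Groth.Agent.Lib.Helper20.ResFld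
  Groth.Agent.Lib.Helper20.FinUnion

variable {S : Scheme.{u}} (G : Grpd.GroupoidScheme S)

section jS

variable {S' : Scheme.{u}} (g : S' ⟶ S)

/-- base change of `j = (t, s)` along `g`, with values in `U_{S'} ×_{S'} U_{S'}` -/
noncomputable def jS :
    pullback G.pR g ⟶ pullback (pullback.snd G.pU g) (pullback.snd G.pU g) :=
  pullback.lift (tS G g) (sS G g) (by rw [tS_snd, sS_snd])

/-- `U_{S'} ×_{S'} U_{S'} ⟶ U ×_S U` -/
noncomputable def kS :
    pullback (pullback.snd G.pU g) (pullback.snd G.pU g) ⟶ pullback G.pU G.pU :=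
  pullback.map _ _ _ _ (pullback.fst G.pU g) (pullback.fst G.pU g) g
    pullback.condition.symm pullback.condition.symm

@[reassoc]
lemma jS_fst : jS G g ≫ pullback.fst _ _ = tS G g := pullback.lift_fst _ _ _

@[reassoc]
lemma jS_snd : jS G g ≫ pullback.snd _ _ = sS G g := pullback.lift_snd _ _ _

@[reassoc]
lemma kS_fst : kS G g ≫ pullback.fst _ _ = pullback.fst _ _ ≫ pullback.fst G.pU g :=
  pullback.lift_fst _ _ _

@[reassoc]
lemma kS_snd : kS G g ≫ pullback.snd _ _ = pullback.snd _ _ ≫ pullback.fst G.pU g :=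
  pullback.lift_snd _ _ _

@[reassoc]
lemma j_fst : G.j ≫ pullback.fst _ _ = G.t := pullback.lift_fst _ _ _

@[reassoc]
lemma j_snd : G.j ≫ pullback.snd _ _ = G.s := pullback.lift_snd _ _ _

lemma jS_lift_aux {T : Scheme.{u}} (a : T ⟶ G.R)
    (b : T ⟶ pullback (pullback.snd G.pU g) (pullback.snd G.pU g))
    (hab : a ≫ G.j = b ≫ kS G g) :
    a ≫ G.pR = (b ≫ pullback.fst _ _ ≫ pullback.snd G.pU g) ≫ g := by
  have h1 : a ≫ G.t = b ≫ pullback.fst _ _ ≫ pullback.fst G.pU g := by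
    rw [← j_fst, reassoc_of% hab, kS_fst]
  rw [← G.t_over, reassoc_of% h1, Category.assoc, Category.assoc, pullback.condition]

theorem isPullback_jS : IsPullback (pullback.fst G.pR g) (jS G g) G.j (kS G g) := by
  refine ⟨⟨?_⟩, ⟨PullbackCone.IsLimit.mk _
    (fun c => pullback.lift c.fst (c.snd ≫ pullback.fst _ _ ≫ pullback.snd G.pU g)
      (jS_lift_aux G g c.fst c.snd c.condition)) ?_ ?_ ?_⟩⟩
  · apply pullback.hom_ext
    · rw [Category.assoc, j_fst, Category.assoc, kS_fst, jS_fst_assoc, tS_fst]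
    · rw [Category.assoc, j_snd, Category.assoc, kS_snd, jS_snd_assoc, sS_fst]
  · intro c
    exact pullback.lift_fst _ _ _
  · intro c
    have hab := c.condition
    have h1 : c.fst ≫ G.t = c.snd ≫ pullback.fst _ _ ≫ pullback.fst G.pU g := by
      rw [← j_fst, reassoc_of% hab, kS_fst]
    have h2 : c.fst ≫ G.s = c.snd ≫ pullback.snd _ _ ≫ pullback.fst G.pU g := by
      rw [← j_snd, reassoc_of% hab, kS_snd]
    apply pullback.hom_ext
    · rw [Category.assoc, jS_fst]
      apply pullback.hom_ext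
      · rw [Category.assoc, tS_fst, pullback.lift_fst_assoc, h1, Category.assoc]
      · rw [Category.assoc, tS_snd, pullback.lift_snd, Category.assoc]
    · rw [Category.assoc, jS_snd]
      apply pullback.hom_ext
      · rw [Category.assoc, sS_fst, pullback.lift_fst_assoc, h2, Category.assoc]
      · rw [Category.assoc, sS_snd, pullback.lift_snd, Category.assoc, pullback.condition]
  · intro c m hm1 hm2
    apply pullback.hom_ext
    · rw [pullback.lift_fst, hm1]
    · rw [pullback.lift_snd, ← hm2, Category.assoc, jS_fst_assoc, tS_snd]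

instance [UniversallyClosed G.j] : UniversallyClosed (jS G g) :=
  MorphismProperty.of_isPullback (P := @UniversallyClosed) (isPullback_jS G g) ‹_›

lemma snd_eq_jS : pullback.snd G.pR g =
    jS G g ≫ pullback.fst _ _ ≫ pullback.snd G.pU g := by
  rw [jS_fst_assoc, tS_snd]

/-- images in `S'` of closed subsets of `s'⁻¹(U') ∩ t'⁻¹(U')` are closed. -/
theorem isClosed_image_of_subset [UniversallyClosed G.j] (U' : (pullback G.pU g).Opens)
    [IsFinite (U'.ι ≫ pullback.snd G.pU g)] (C : Set ↥(pullback G.pR g)) (hC : IsClosed C)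
    (hCs : C ⊆ ⇑(sS G g) ⁻¹' (U' : Set ↥(pullback G.pU g)))
    (hCt : C ⊆ ⇑(tS G g) ⁻¹' (U' : Set ↥(pullback G.pU g))) :
    IsClosed (pullback.snd G.pR g '' C) := by
  have hD : IsClosed (jS G g '' C) := (jS G g).isClosedMap _ hC
  have hfin : IsFinite (((pullback.snd (pullback.snd G.pU g) (pullback.snd G.pU g)) ⁻¹ᵁ U').ι ≫
      pullback.fst (pullback.snd G.pU g) (pullback.snd G.pU g)) :=
    MorphismProperty.of_isPullback (P := @IsFinite)
      ((isPullback_morphismRestrict (pullback.snd (pullback.snd G.pU g) (pullback.snd G.pU g))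
        U').paste_vert (IsPullback.of_hasPullback _ _).flip) ‹_›
  have h1 := isClosed_image_inter (pullback.fst (pullback.snd G.pU g) (pullback.snd G.pU g))
    ((pullback.snd (pullback.snd G.pU g) (pullback.snd G.pU g)) ⁻¹ᵁ U') _ hD
  have e1 : ((((pullback.snd (pullback.snd G.pU g) (pullback.snd G.pU g)) ⁻¹ᵁ U' :
      (pullback (pullback.snd G.pU g) (pullback.snd G.pU g)).Opens) : Set _) ∩ jS G g '' C) =
      jS G g '' C := by
    apply Set.inter_eq_right.mpr
    rintro _ ⟨w, hw, rfl⟩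
    change pullback.snd (pullback.snd G.pU g) (pullback.snd G.pU g) (jS G g w) ∈ U'
    rw [← Scheme.Hom.comp_apply, jS_snd]
    exact hCs hw
  rw [e1] at h1
  have h2 := isClosed_image_inter (pullback.snd G.pU g) U' _ h1
  have e2 : ((U' : Set ↥(pullback G.pU g)) ∩
      pullback.fst (pullback.snd G.pU g) (pullback.snd G.pU g) '' (jS G g '' C)) =
      pullback.fst (pullback.snd G.pU g) (pullback.snd G.pU g) '' (jS G g '' C) := by
    apply Set.inter_eq_right.mpr
    rintro _ ⟨_, ⟨w, hw, rfl⟩, rfl⟩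
    change pullback.fst (pullback.snd G.pU g) (pullback.snd G.pU g) (jS G g w) ∈ U'
    rw [← Scheme.Hom.comp_apply, jS_fst]
    exact hCt hw
  rw [e2] at h2
  convert h2 using 1
  rw [Set.image_image, Set.image_image]
  apply Set.image_congr
  intro w _
  rw [← Scheme.Hom.comp_apply, ← Scheme.Hom.comp_apply]
  rw [snd_eq_jS G g]

end jS

/-- Stacks 03FM + full restriction, for `j` universally closed. -/
theorem exists_data_maps_full (p : S) (u : G.U) (hu : G.pU u = p) [UniversallyClosed G.j]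
    [LocallyOfFiniteType G.pU]
    [IsSeparated G.pU] [IsSeparated G.pR] [Flat G.s] [LocallyOfFinitePresentation G.s]
    [Flat G.t] [LocallyOfFinitePresentation G.t]
    (hqf : G.pU.QuasiFiniteAt u) (hfin : (G.s ⁻¹' {u}).Finite) :
    ∃ (S' : Scheme.{u}) (g : S' ⟶ S) (p' : S') (U' : (pullback G.pU g).Opens)
      (R' : (pullback G.pR g).Opens), Data G p u g p' U' R' ∧
        ⇑(sS G g) '' (R' : Set ↥(pullback G.pR g)) ⊆ U' ∧
        ⇑(tS G g) '' (R' : Set ↥(pullback G.pR g)) ⊆ U' ∧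
        (R' : Set ↥(pullback G.pR g)) = ⇑(sS G g) ⁻¹' (U' : Set ↥(pullback G.pU g)) ∩
          ⇑(tS G g) ⁻¹' (U' : Set ↥(pullback G.pU g)) := by
  obtain ⟨S', g, p', U', R', D, hs, ht⟩ := exists_data_maps G p u hu hqf hfin
  have := D.finU
  have hZ : IsClosed (pullback.snd G.pR g ''
      ((⇑(sS G g) ⁻¹' (U' : Set ↥(pullback G.pU g)) ∩
        ⇑(tS G g) ⁻¹' (U' : Set ↥(pullback G.pU g))) ∩ (R' : Set ↥(pullback G.pR g))ᶜ)) := by
    apply isClosed_image_of_subset G g U'
    · exact ((D.closedU.preimage (sS G g).continuous).inter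
        (D.closedU.preimage (tS G g).continuous)).inter R'.2.isClosed_compl
    · exact fun w hw => hw.1.1
    · exact fun w hw => hw.1.2
  obtain ⟨S'', h, hh, p'', hp, hav, D'⟩ := D.exists_avoiding _ hZ (by
    rintro ⟨w, ⟨⟨hw1, -⟩, hw2⟩, hw3⟩
    apply hw2
    rw [SetLike.mem_coe, D.fibR w hw3, ← sS_fst_apply]
    exact (D.fibU _ (by rw [sS_snd_apply, hw3])).mp hw1)
  have hs' : ⇑(sS G (h ≫ g)) '' (((bcMap G.pR g h) ⁻¹ᵁ R' : (pullback G.pR (h ≫ g)).Opens) :
      Set ↥(pullback G.pR (h ≫ g))) ⊆ ((bcMap G.pU g h) ⁻¹ᵁ U' : (pullback G.pU (h ≫ g)).Opens) := by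
    rintro _ ⟨w, hw, rfl⟩
    change bcMap G.pU g h (sS G (h ≫ g) w) ∈ U'
    rw [← bcMap_sS_apply]
    exact hs ⟨_, hw, rfl⟩
  have ht' : ⇑(tS G (h ≫ g)) '' (((bcMap G.pR g h) ⁻¹ᵁ R' : (pullback G.pR (h ≫ g)).Opens) :
      Set ↥(pullback G.pR (h ≫ g))) ⊆ ((bcMap G.pU g h) ⁻¹ᵁ U' : (pullback G.pU (h ≫ g)).Opens) := by
    rintro _ ⟨w, hw, rfl⟩
    change bcMap G.pU g h (tS G (h ≫ g) w) ∈ U'
    rw [← bcMap_tS_apply]
    exact ht ⟨_, hw, rfl⟩
  refine ⟨S'', h ≫ g, p'', _, _, D', hs', ht', ?_⟩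
  apply Set.Subset.antisymm
  · intro w hw
    exact ⟨hs' ⟨w, hw, rfl⟩, ht' ⟨w, hw, rfl⟩⟩
  · rintro w ⟨hw1, hw2⟩
    change bcMap G.pR g h w ∈ R'
    by_contra hcon
    have h1 : bcMap G.pU g h (sS G (h ≫ g) w) ∈ U' := hw1
    have h2 : bcMap G.pU g h (tS G (h ≫ g) w) ∈ U' := hw2
    rw [← bcMap_sS_apply] at h1
    rw [← bcMap_tS_apply] at h2
    exact hav (pullback.snd G.pR (h ≫ g) w)
      ⟨bcMap G.pR g h w, ⟨⟨h1, h2⟩, hcon⟩, bcMap_snd_apply _ _ _ _⟩

end Groth.Agent.R2.H84.EtLocGrpd
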