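import Mathlib
import Groth.Agent.R2.H33GrpdInvOpen

/-!
# Finite sets of points of a scheme separated and locally quasi-finite over an affine scheme
lie in an affine open (helper84)

Via Zariski's main theorem (a quasi-compact open is an open subscheme of an affine scheme)
and prime avoidance.
-/

set_option autoImplicit false
set_option linter.style.haveILetI false
universe u

open CategoryTheory CategoryTheory.Limits AlgebraicGeometry

namespace Groth.Agent.R2.H84.FiniteAffine

lemma exists_affine_nbhd (Z : Scheme.{u}) (z : Z) : ∃ V : Z.Opens, IsAffineOpen V ∧ z ∈ V := by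
  obtain ⟨_, ⟨V, hV, rfl⟩, hzV, -⟩ := Z.isBasis_affineOpens.exists_subset_of_mem_open
    (Set.mem_univ z) isOpen_univ
  exact ⟨V, hV, hzV⟩

/-- A finite set of points of a scheme `X` which is separated, locally quasi-finite and locally
of finite type over an affine scheme lies in an affine open of `X`. -/
theorem exists_isAffineOpen_of_finite {X A : Scheme.{u}} [IsAffine A] (f : X ⟶ A)
    [IsSeparated f] [LocallyQuasiFinite f] [LocallyOfFiniteType f] (F : Set X) (hF : F.Finite) :
    ∃ V : X.Opens, IsAffineOpen V ∧ F ⊆ V := by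
  classical
  choose V hV hxV using fun x : X => exists_affine_nbhd X x
  let W : X.Opens := ⨆ x : F, V x
  have hWc : IsCompact (W : Set X) := by
    have : Finite F := hF
    have : (W : Set X) = ⋃ x : F, (V x : Set X) := by
      simp only [W, TopologicalSpace.Opens.coe_iSup]
    rw [this]
    exact isCompact_iUnion fun x => (hV x).isCompact
  have hFW : F ⊆ W := fun x hx => TopologicalSpace.Opens.mem_iSup.mpr ⟨⟨x, hx⟩, hxV x⟩
  haveI : CompactSpace W := isCompact_iff_compactSpace.mp hWc
  let g : (W : Scheme.{u}) ⟶ A := W.ι ≫ f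
  haveI : QuasiCompact g := inferInstance
  haveI : IsOpenImmersion g.toNormalization := inferInstance
  haveI : IsAffine g.normalization := isAffine_of_isAffineHom g.fromNormalization
  let O : Set g.normalization := g.toNormalization '' (W.ι ⁻¹' F)
  have hO : O.Finite := (hF.preimage W.ι.injective.injOn).image _
  obtain ⟨f₀, hOf, hfr⟩ := Groth.Agent.R2.H33.GrpdInvOpen.exists_basicOpen_of_finite
    (isAffineOpen_top g.normalization) g.toNormalization.opensRange O hO
    (by rintro _ ⟨x, -, rfl⟩; exact ⟨x, rfl⟩) (fun _ _ => trivial)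
  have hD : IsAffineOpen (g.normalization.basicOpen f₀) :=
    (isAffineOpen_top g.normalization).basicOpen f₀
  refine ⟨W.ι ''ᵁ (g.toNormalization ⁻¹ᵁ g.normalization.basicOpen f₀), ?_, ?_⟩
  · exact (hD.preimage_of_isOpenImmersion _ hfr).image_of_isOpenImmersion _
  · intro x hx
    have hxW : x ∈ W := hFW hx
    refine ⟨⟨x, hxW⟩, ?_, rfl⟩
    exact hOf ⟨⟨x, hxW⟩, hx, rfl⟩

end Groth.Agent.R2.H84.FiniteAffine
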