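import Mathlib
import Groth.Prelude.Def_Grpd
import Groth.Agent.R2.H84GrpdRestrGen

/-!
# PROJ:fppf-boot (helper84), part A: morphisms of groupoid schemes with cartesian `j`-square

For `φ : G' ⟶ G` with `G'.R = G.R ×_{U ×_S U} (U' ×_S U')` (`IsCart φ`) and `φ.fU` etale, the
properties (mono `j`, flat, lfp, lqf of `s`, `t`) pass from `G` to `G'`; lifting into `G'.R`.
-/

set_option autoImplicit false
set_option linter.unusedSectionVars false
set_option linter.style.haveILetI false
universe u

open CategoryTheory CategoryTheory.Limits AlgebraicGeometry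

namespace Groth.Agent.R2.H84.FppfBootA

variable {S : Scheme.{u}}

/-! ### Generalities -/

/-- if `f ≫ g` has `P` and `g` is etale, then `f` has `P` (for `P` multiplicative, stable under base
change and containing open immersions). -/
lemma of_postcomp_etale (P : MorphismProperty Scheme.{u}) [P.IsStableUnderBaseChange]
    [P.IsMultiplicative] (hP : ∀ {X Y : Scheme.{u}} (f : X ⟶ Y), IsOpenImmersion f → P f)
    {X Y Z : Scheme.{u}} (f : X ⟶ Y) (g : Y ⟶ Z) [Etale g] (h : P (f ≫ g)) : P f := by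
  haveI : P.HasOfPostcompProperty @Etale := by
    rw [MorphismProperty.hasOfPostcompProperty_iff_le_diagonal]
    intro X Y f hf
    haveI : Etale f := hf
    exact hP _ (inferInstanceAs (IsOpenImmersion (pullback.diagonal f)))
  exact MorphismProperty.of_postcomp P (W' := @Etale) f g inferInstance h

lemma flat_of_postcomp_etale {X Y Z : Scheme.{u}} (f : X ⟶ Y) (g : Y ⟶ Z) [Etale g]
    [Flat (f ≫ g)] : Flat f :=
  of_postcomp_etale @Flat (fun _ _ => inferInstance) f g inferInstance

lemma lfp_of_postcomp_etale {X Y Z : Scheme.{u}} (f : X ⟶ Y) (g : Y ⟶ Z) [Etale g]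
    [LocallyOfFinitePresentation (f ≫ g)] : LocallyOfFinitePresentation f := by
  haveI : MorphismProperty.IsMultiplicative @LocallyOfFinitePresentation.{u} :=
    { id_mem := fun _ => inferInstance
      comp_mem := fun _ _ hf hg => MorphismProperty.comp_mem _ _ _ hf hg }
  exact of_postcomp_etale @LocallyOfFinitePresentation (fun _ _ => inferInstance) f g inferInstance

lemma lqf_of_etale {X Y : Scheme.{u}} (f : X ⟶ Y) [Etale f] : LocallyQuasiFinite f := by
  constructor
  intro U hU V hV e
  have h1 : (f.appLE U V e).hom.FiniteType :=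
    HasRingHomProperty.appLE (P := @LocallyOfFiniteType) f inferInstance ⟨U, hU⟩ ⟨V, hV⟩ e
  have h2 : (f.appLE U V e).hom.FormallyUnramified :=
    HasRingHomProperty.appLE (P := @FormallyUnramified) f inferInstance ⟨U, hU⟩ ⟨V, hV⟩ e
  algebraize [(f.appLE U V e).hom]
  rw [← RingHom.algebraMap_toAlgebra (f.appLE U V e).hom, RingHom.quasiFinite_algebraMap]
  infer_instance

/-! ### Groupoids with affine base and mono `j` -/

section Single

variable (G : Grpd.GroupoidScheme S)

lemma j_fst : G.j ≫ pullback.fst G.pU G.pU = G.t := by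
  unfold Grpd.GroupoidScheme.j; exact pullback.lift_fst _ _ _

lemma j_snd : G.j ≫ pullback.snd G.pU G.pU = G.s := by
  unfold Grpd.GroupoidScheme.j; exact pullback.lift_snd _ _ _

lemma isSeparated_s [IsAffine G.U] [Mono G.j] : IsSeparated G.s := by
  rw [← j_snd G]; infer_instance

lemma isSeparated_t [IsAffine G.U] [Mono G.j] : IsSeparated G.t := by
  rw [← j_fst G]; infer_instance

lemma lft_j [LocallyOfFiniteType G.s] : LocallyOfFiniteType G.j := by
  haveI : LocallyOfFiniteType (G.j ≫ pullback.snd G.pU G.pU) := by rw [j_snd]; infer_instance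
  exact locallyOfFiniteType_of_comp G.j (pullback.snd G.pU G.pU)

lemma lqf_j [Mono G.j] [LocallyOfFiniteType G.s] : LocallyQuasiFinite G.j := by
  haveI := lft_j G
  infer_instance

end Single

/-! ### Cartesian morphisms -/

variable {G' G : Grpd.GroupoidScheme S} (φ : Grpd.GroupoidScheme.Hom G' G)

/-- `φ.fU × φ.fU`. -/
noncomputable abbrev pm : pullback G'.pU G'.pU ⟶ pullback G.pU G.pU :=
  pullback.map G'.pU G'.pU G.pU G.pU φ.fU φ.fU (𝟙 S)
    ((Category.comp_id _).trans φ.fU_over.symm) ((Category.comp_id _).trans φ.fU_over.symm)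

/-- the `j`-square of `φ` is cartesian. -/
def IsCart : Prop := IsPullback φ.fR G'.j G.j (pm φ)

variable {φ}

lemma etale_pm [Etale φ.fU] : Etale (pm φ) :=
  MorphismProperty.pullbackMap (P := @Etale) (inferInstanceAs (Etale φ.fU))
    (inferInstanceAs (Etale φ.fU)) φ.fU_over.symm φ.fU_over.symm

lemma IsCart.etale_fR (h : IsCart φ) [Etale φ.fU] : Etale φ.fR :=
  MorphismProperty.of_isPullback (P := @Etale) (IsPullback.flip h) etale_pm

lemma IsCart.mono_j (h : IsCart φ) [Mono G.j] : Mono G'.j :=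
  MorphismProperty.of_isPullback (P := MorphismProperty.monomorphisms Scheme.{u}) h
    (inferInstanceAs (Mono G.j))

lemma IsCart.flat_s (h : IsCart φ) [Etale φ.fU] [Flat G.s] : Flat G'.s := by
  haveI := h.etale_fR
  haveI : Flat (G'.s ≫ φ.fU) := by rw [← φ.comm_s]; infer_instance
  exact flat_of_postcomp_etale G'.s φ.fU

lemma IsCart.flat_t (h : IsCart φ) [Etale φ.fU] [Flat G.t] : Flat G'.t := by
  haveI := h.etale_fR
  haveI : Flat (G'.t ≫ φ.fU) := by rw [← φ.comm_t]; infer_instance
  exact flat_of_postcomp_etale G'.t φ.fU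

lemma IsCart.lfp_s (h : IsCart φ) [Etale φ.fU] [LocallyOfFinitePresentation G.s] :
    LocallyOfFinitePresentation G'.s := by
  haveI := h.etale_fR
  haveI : LocallyOfFinitePresentation (G'.s ≫ φ.fU) := by rw [← φ.comm_s]; infer_instance
  exact lfp_of_postcomp_etale G'.s φ.fU

lemma IsCart.lfp_t (h : IsCart φ) [Etale φ.fU] [LocallyOfFinitePresentation G.t] :
    LocallyOfFinitePresentation G'.t := by
  haveI := h.etale_fR
  haveI : LocallyOfFinitePresentation (G'.t ≫ φ.fU) := by rw [← φ.comm_t]; infer_instance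
  exact lfp_of_postcomp_etale G'.t φ.fU

lemma IsCart.lqf_s (h : IsCart φ) [Etale φ.fU] [LocallyQuasiFinite G.s] :
    LocallyQuasiFinite G'.s := by
  haveI := h.etale_fR
  haveI := lqf_of_etale φ.fR
  haveI : LocallyQuasiFinite (G'.s ≫ φ.fU) := by rw [← φ.comm_s]; infer_instance
  exact LocallyQuasiFinite.of_comp G'.s φ.fU

lemma IsCart.lqf_t (h : IsCart φ) [Etale φ.fU] [LocallyQuasiFinite G.t] :
    LocallyQuasiFinite G'.t := by
  haveI := h.etale_fR
  haveI := lqf_of_etale φ.fR
  haveI : LocallyQuasiFinite (G'.t ≫ φ.fU) := by rw [← φ.comm_t]; infer_instance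
  exact LocallyQuasiFinite.of_comp G'.t φ.fU

/-- lifting into `G'.R`. -/
lemma IsCart.exists_lift (h : IsCart φ) {T : Scheme.{u}} (b : T ⟶ G.R) (x y : T ⟶ G'.U)
    (hs : b ≫ G.s = x ≫ φ.fU) (ht : b ≫ G.t = y ≫ φ.fU) :
    ∃ l : T ⟶ G'.R, l ≫ φ.fR = b ∧ l ≫ G'.s = x ∧ l ≫ G'.t = y := by
  have hxy : y ≫ G'.pU = x ≫ G'.pU := by
    rw [← φ.fU_over, ← Category.assoc, ← Category.assoc, ← hs, ← ht, Category.assoc,
      Category.assoc, G.s_over, G.t_over]
  have hw : b ≫ G.j = pullback.lift y x hxy ≫ pm φ := by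
    apply pullback.hom_ext
    · rw [Category.assoc, j_fst, Category.assoc, pullback.lift_fst, pullback.lift_fst_assoc, ht]
    · rw [Category.assoc, j_snd, Category.assoc, pullback.lift_snd, pullback.lift_snd_assoc, hs]
  refine ⟨h.lift b (pullback.lift y x hxy) hw, h.lift_fst _ _ _, ?_, ?_⟩
  · rw [← j_snd G', ← Category.assoc, h.lift_snd, pullback.lift_snd]
  · rw [← j_fst G', ← Category.assoc, h.lift_snd, pullback.lift_fst]

lemma IsCart.hom_ext (h : IsCart φ) {T : Scheme.{u}} (l l' : T ⟶ G'.R)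
    (h1 : l ≫ φ.fR = l' ≫ φ.fR) (h2 : l ≫ G'.s = l' ≫ G'.s) (h3 : l ≫ G'.t = l' ≫ G'.t) :
    l = l' := by
  apply IsPullback.hom_ext h h1
  apply pullback.hom_ext
  · rw [Category.assoc, Category.assoc, j_fst, h3]
  · rw [Category.assoc, Category.assoc, j_snd, h2]

end Groth.Agent.R2.H84.FppfBootA
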