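import Mathlib
import Groth.Prelude.Def_Grpd
import Groth.Agent.Lib.Helper2Grpd

/-!
# The groupoid of `T`-valued points of a groupoid scheme (helper84)

For a groupoid scheme `G` over `S` and a scheme `T`, `Pt G T` is the (small) groupoid with objects
the `T`-points of `G.U` and arrows `x ⟶ y` the `T`-points of `G.R` with source `x` and target `y`.
Composition `f ≫ g` is `g ∘ f` in the groupoid scheme.  `Pt.pre k : Pt G T ⥤ Pt G T'` is
precomposition with `k : T' ⟶ T`.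
-/

set_option autoImplicit false
universe u

open CategoryTheory CategoryTheory.Limits AlgebraicGeometry

namespace Groth.Agent.R2.H84.GrpdPt

open Groth.Agent.Lib.Helper2

variable {S : Scheme.{u}} (G : Grpd.GroupoidScheme S) (T : Scheme.{u})

/-- objects of the groupoid of `T`-points. -/
structure Pt where
  /-- the underlying point of `U`. -/
  pt : T ⟶ G.U

variable {G T}

/-- arrows of the groupoid of `T`-points. -/
@[ext]
structure Pt.Hom (x y : Pt G T) where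
  /-- the underlying point of `R`. -/
  ar : T ⟶ G.R
  hs : ar ≫ G.s = x.pt
  ht : ar ≫ G.t = y.pt

attribute [reassoc (attr := simp)] Pt.Hom.hs Pt.Hom.ht

noncomputable instance : Groupoid (Pt G T) where
  Hom := Pt.Hom
  id x := ⟨x.pt ≫ G.e, by rw [Category.assoc, G.e_s, Category.comp_id],
    by rw [Category.assoc, G.e_t, Category.comp_id]⟩
  comp f g := ⟨Grpd.comp G g.ar f.ar (by rw [g.hs, f.ht]), by rw [Grpd.comp_s, f.hs],
    by rw [Grpd.comp_t, g.ht]⟩
  id_comp f := by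
    apply Pt.Hom.ext
    exact Grpd.comp_e G f.ar _ ((congrArg (· ≫ G.e) f.hs.symm).trans (Category.assoc _ _ _)) _
  comp_id f := by
    apply Pt.Hom.ext
    exact Grpd.e_comp G f.ar _ ((congrArg (· ≫ G.e) f.ht.symm).trans (Category.assoc _ _ _)) _
  assoc f g h := by
    apply Pt.Hom.ext
    exact (Grpd.comp_assoc G h.ar g.ar f.ar (by rw [h.hs, g.ht]) (by rw [g.hs, f.ht])).symm
  inv f := ⟨f.ar ≫ G.i, by rw [Category.assoc, G.i_s, f.ht], by rw [Category.assoc, G.i_t, f.hs]⟩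
  inv_comp f := by
    apply Pt.Hom.ext
    refine (Grpd.comp_i G f.ar (by rw [Category.assoc, G.i_t])).trans ?_
    rw [← Category.assoc, f.ht]
  comp_inv f := by
    apply Pt.Hom.ext
    refine (Grpd.i_comp G f.ar (by rw [Category.assoc, G.i_s])).trans ?_
    rw [← Category.assoc, f.hs]

lemma id_ar (x : Pt G T) : (𝟙 x : x ⟶ x).ar = x.pt ≫ G.e := rfl

lemma comp_ar {x y z : Pt G T} (f : x ⟶ y) (g : y ⟶ z) :
    (f ≫ g).ar = Grpd.comp G g.ar f.ar (by rw [g.hs, f.ht]) := rfl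

lemma inv_ar {x y : Pt G T} (f : x ⟶ y) : (Groupoid.inv f).ar = f.ar ≫ G.i := rfl

@[simp] lemma comp_hs {x y z : Pt G T} (f : x ⟶ y) (g : y ⟶ z) : (f ≫ g).ar ≫ G.s = x.pt :=
  (f ≫ g).hs

@[simp] lemma comp_ht {x y z : Pt G T} (f : x ⟶ y) (g : y ⟶ z) : (f ≫ g).ar ≫ G.t = z.pt :=
  (f ≫ g).ht

/-- arrows are determined by the underlying point of `R`. -/
lemma hom_ext {x y : Pt G T} {f g : x ⟶ y} (h : f.ar = g.ar) : f = g := Pt.Hom.ext h

/-- a `T`-point of `R` as an arrow between prescribed objects. -/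
def homMk {x y : Pt G T} (a : T ⟶ G.R) (hs : a ≫ G.s = x.pt) (ht : a ≫ G.t = y.pt) : x ⟶ y :=
  ⟨a, hs, ht⟩

@[simp] lemma homMk_ar {x y : Pt G T} (a : T ⟶ G.R) (hs : a ≫ G.s = x.pt)
    (ht : a ≫ G.t = y.pt) : (homMk a hs ht : x ⟶ y).ar = a := rfl

/-- a `T`-point of `R` as an arrow from its source to its target. -/
def homOf (G : Grpd.GroupoidScheme S) (a : T ⟶ G.R) :
    (Pt.mk (a ≫ G.s) : Pt G T) ⟶ (Pt.mk (a ≫ G.t) : Pt G T) :=
  ⟨a, rfl, rfl⟩

@[simp] lemma homOf_ar (a : T ⟶ G.R) : (homOf G a).ar = a := rfl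

variable {T' : Scheme.{u}}

/-- precomposition with `k : T' ⟶ T`. -/
noncomputable def pre (k : T' ⟶ T) : Pt G T ⥤ Pt G T' where
  obj x := ⟨k ≫ x.pt⟩
  map f := ⟨k ≫ f.ar, by rw [Category.assoc, f.hs], by rw [Category.assoc, f.ht]⟩
  map_id x := by
    apply Pt.Hom.ext
    change k ≫ x.pt ≫ G.e = (k ≫ x.pt) ≫ G.e
    rw [Category.assoc]
  map_comp f g := by
    apply Pt.Hom.ext
    exact Grpd.precomp_comp G k g.ar f.ar _

@[simp] lemma pre_obj_pt (k : T' ⟶ T) (x : Pt G T) : ((pre k).obj x).pt = k ≫ x.pt := rfl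

@[simp] lemma pre_map_ar (k : T' ⟶ T) {x y : Pt G T} (f : x ⟶ y) :
    ((pre k).map f).ar = k ≫ f.ar := rfl

end Groth.Agent.R2.H84.GrpdPt
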