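import Mathlib
import Groth.Prelude.Def_Grpd
import Groth.Agent.Lib.Helper2Grpd
import Groth.Agent.R2.H84GrpdPt

/-!
# Descending a groupoid scheme along the quotient by a wide subgroupoid with unique arrows (helper84)

Abstract part of Stacks "quotient by a finite locally free subgroupoid": given a groupoid scheme
`(U, R, s, t, c)`, a subgroupoid `P ⟶ R` which is the kernel pair of `π : U ⟶ Ū`, and an fppf
cover `q : R ⟶ R̄` whose kernel pair is `(r, p₂ ∘ r ∘ p₁)`, we construct a groupoid scheme on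
`(Ū, R̄)` with `R = R̄ ×_{Ū × Ū} (U × U)`.
-/

set_option autoImplicit false
set_option linter.unusedSectionVars false
set_option linter.style.haveILetI false
universe u

open CategoryTheory CategoryTheory.Limits AlgebraicGeometry

namespace Groth.Agent.R2.H84.SubQuot

open Groth.Agent.Lib.Helper2 Groth.Agent.R2.H84.GrpdPt

variable {S : Scheme.{u}} (G : Grpd.GroupoidScheme S)

/-- A subgroupoid `P ⟶ R` (closed under `e`, `i`, `c`) which is the kernel pair of `π`. -/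
structure Data where
  P : Scheme.{u}
  ιP : P ⟶ G.R
  Ubar : Scheme.{u}
  π : G.U ⟶ Ubar
  hP : IsPullback (ιP ≫ G.t) (ιP ≫ G.s) π π
  eP : G.U ⟶ P
  he : eP ≫ ιP = G.e
  iP : P ⟶ P
  hi : iP ≫ ιP = ιP ≫ G.i
  cP : pullback (ιP ≫ G.s) (ιP ≫ G.t) ⟶ P
  hc : cP ≫ ιP = pullback.map (ιP ≫ G.s) (ιP ≫ G.t) G.s G.t ιP ιP (𝟙 G.U)
    (Category.comp_id _) (Category.comp_id _) ≫ G.c

variable {G} (D : Data G) {T T' : Scheme.{u}}

/-- the unique arrow of `P` from `u` to `v`, for `π u = π v`, as a point of `P`. -/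
noncomputable def pP (u v : T ⟶ G.U) (h : u ≫ D.π = v ≫ D.π) : T ⟶ D.P :=
  D.hP.lift v u h.symm

/-- the unique arrow of `P` from `u` to `v`, for `π u = π v`. -/
noncomputable def pAr (u v : T ⟶ G.U) (h : u ≫ D.π = v ≫ D.π) : T ⟶ G.R :=
  pP D u v h ≫ D.ιP

@[reassoc (attr := simp)]
lemma pAr_s (u v : T ⟶ G.U) (h : u ≫ D.π = v ≫ D.π) : pAr D u v h ≫ G.s = u := by
  unfold pAr pP
  rw [Category.assoc, D.hP.lift_snd]

@[reassoc (attr := simp)]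
lemma pAr_t (u v : T ⟶ G.U) (h : u ≫ D.π = v ≫ D.π) : pAr D u v h ≫ G.t = v := by
  unfold pAr pP
  rw [Category.assoc, D.hP.lift_fst]

lemma pP_unique (u v : T ⟶ G.U) (h : u ≫ D.π = v ≫ D.π) (p : T ⟶ D.P)
    (hs : p ≫ D.ιP ≫ G.s = u) (ht : p ≫ D.ιP ≫ G.t = v) : p = pP D u v h := by
  apply D.hP.hom_ext
  · rw [ht]; unfold pP; rw [D.hP.lift_fst]
  · rw [hs]; unfold pP; rw [D.hP.lift_snd]

lemma pAr_congr {u v u' v' : T ⟶ G.U} (h : u ≫ D.π = v ≫ D.π) (hu : u = u') (hv : v = v') :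
    pAr D u v h = pAr D u' v' (by rw [← hu, ← hv]; exact h) := by
  subst hu hv; rfl

lemma pre_pAr (k : T' ⟶ T) (u v : T ⟶ G.U) (h : u ≫ D.π = v ≫ D.π) :
    k ≫ pAr D u v h = pAr D (k ≫ u) (k ≫ v) (by rw [Category.assoc, Category.assoc, h]) := by
  unfold pAr
  rw [← Category.assoc]
  congr 1
  apply pP_unique
  · rw [Category.assoc]
    change k ≫ pAr D u v h ≫ G.s = _
    rw [pAr_s]
  · rw [Category.assoc]
    change k ≫ pAr D u v h ≫ G.t = _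
    rw [pAr_t]

/-- the unique arrow of the subgroupoid between two points with the same image in `Ū`. -/
noncomputable def pa {x y : Pt G T} (h : x.pt ≫ D.π = y.pt ≫ D.π) : x ⟶ y :=
  homMk (pAr D x.pt y.pt h) (pAr_s D _ _ h) (pAr_t D _ _ h)

@[simp] lemma pa_ar {x y : Pt G T} (h : x.pt ≫ D.π = y.pt ≫ D.π) :
    (pa D h).ar = pAr D x.pt y.pt h := rfl

lemma pa_unique {x y : Pt G T} (h : x.pt ≫ D.π = y.pt ≫ D.π) (g : x ⟶ y) (p : T ⟶ D.P)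
    (hp : p ≫ D.ιP = g.ar) : g = pa D h := by
  apply hom_ext
  rw [pa_ar, ← hp]
  unfold pAr
  congr 1
  apply pP_unique
  · rw [← Category.assoc, hp, g.hs]
  · rw [← Category.assoc, hp, g.ht]

@[simp] lemma pa_id (x : Pt G T) (h : x.pt ≫ D.π = x.pt ≫ D.π) : pa D h = 𝟙 x := by
  symm
  apply pa_unique D h (𝟙 x) (x.pt ≫ D.eP)
  rw [Category.assoc, D.he]
  rfl

@[reassoc (attr := simp)]
lemma pa_comp {x y z : Pt G T} (h₁ : x.pt ≫ D.π = y.pt ≫ D.π) (h₂ : y.pt ≫ D.π = z.pt ≫ D.π) :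
    pa D h₁ ≫ pa D h₂ = pa D (h₁.trans h₂) := by
  have hcomp : pP D y.pt z.pt h₂ ≫ D.ιP ≫ G.s = pP D x.pt y.pt h₁ ≫ D.ιP ≫ G.t := by
    change pAr D y.pt z.pt h₂ ≫ G.s = pAr D x.pt y.pt h₁ ≫ G.t
    rw [pAr_s, pAr_t]
  apply pa_unique D _ _ (pullback.lift (pP D y.pt z.pt h₂) (pP D x.pt y.pt h₁) hcomp ≫ D.cP)
  rw [Category.assoc, D.hc, ← Category.assoc]
  rw [comp_ar]
  unfold Grpd.comp
  congr 1
  apply pullback.hom_ext
  · rw [Category.assoc, pullback.lift_fst, pullback.lift_fst_assoc, pullback.lift_fst]; rfl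
  · rw [Category.assoc, pullback.lift_snd, pullback.lift_snd_assoc, pullback.lift_snd]; rfl

@[simp] lemma pa_inv {x y : Pt G T} (h : x.pt ≫ D.π = y.pt ≫ D.π) :
    Groupoid.inv (pa D h) = pa D h.symm := by
  apply pa_unique D _ _ (pP D x.pt y.pt h ≫ D.iP)
  rw [Category.assoc, D.hi, ← Category.assoc]
  rfl

@[simp] lemma pa_inv' {x y : Pt G T} (h : x.pt ≫ D.π = y.pt ≫ D.π) :
    inv (pa D h) = pa D h.symm := by
  rw [← Groupoid.inv_eq_inv, pa_inv]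

lemma pa_ar_congr {x y x' y' : Pt G T} (h : x.pt ≫ D.π = y.pt ≫ D.π)
    (h' : x'.pt ≫ D.π = y'.pt ≫ D.π) (hx : x.pt = x'.pt) (hy : y.pt = y'.pt) :
    (pa D h).ar = (pa D h').ar := by
  rw [pa_ar, pa_ar]
  exact pAr_congr D h hx hy

/-- the `ar` of a composite only depends on the `ar`s. -/
lemma ar_comp_congr {x y z x' y' z' : Pt G T} (f : x ⟶ y) (g : y ⟶ z) (f' : x' ⟶ y')
    (g' : y' ⟶ z') (hf : f.ar = f'.ar) (hg : g.ar = g'.ar) : (f ≫ g).ar = (f' ≫ g').ar := by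
  rw [comp_ar, comp_ar]
  exact Grpd.comp_congr G _ hg hf

/-- `a' = p₂ ∘ a ∘ p₁` for arrows `p₁`, `p₂` of the subgroupoid. -/
def Rel (a a' : T ⟶ G.R) : Prop :=
  ∃ (x x' y y' : Pt G T) (f : x ⟶ y) (f' : x' ⟶ y') (h₁ : x'.pt ≫ D.π = x.pt ≫ D.π)
    (h₂ : y.pt ≫ D.π = y'.pt ≫ D.π), f.ar = a ∧ f'.ar = a' ∧ f' = pa D h₁ ≫ f ≫ pa D h₂

lemma Rel.mk {x x' y y' : Pt G T} (f : x ⟶ y) (h₁ : x'.pt ≫ D.π = x.pt ≫ D.π)
    (h₂ : y.pt ≫ D.π = y'.pt ≫ D.π) : Rel D f.ar (pa D h₁ ≫ f ≫ pa D h₂).ar :=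
  ⟨x, x', y, y', f, _, h₁, h₂, rfl, rfl, rfl⟩

lemma Rel.s_eq {a a' : T ⟶ G.R} (h : Rel D a a') : a ≫ G.s ≫ D.π = a' ≫ G.s ≫ D.π := by
  obtain ⟨x, x', y, y', f, f', h₁, h₂, rfl, rfl, -⟩ := h
  rw [← Category.assoc, ← Category.assoc, f.hs, f'.hs, h₁]

lemma Rel.t_eq {a a' : T ⟶ G.R} (h : Rel D a a') : a ≫ G.t ≫ D.π = a' ≫ G.t ≫ D.π := by
  obtain ⟨x, x', y, y', f, f', h₁, h₂, rfl, rfl, -⟩ := h
  rw [← Category.assoc, ← Category.assoc, f.ht, f'.ht, h₂]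

lemma Rel.refl (a : T ⟶ G.R) : Rel D a a := by
  refine ⟨_, _, _, _, homOf G a, homOf G a, rfl, rfl, rfl, rfl, ?_⟩
  simp

lemma Rel.symm {a a' : T ⟶ G.R} (h : Rel D a a') : Rel D a' a := by
  obtain ⟨x, x', y, y', f, f', h₁, h₂, rfl, rfl, e⟩ := h
  refine ⟨_, _, _, _, f', f, h₁.symm, h₂.symm, rfl, rfl, ?_⟩
  rw [e]
  simp

lemma Rel.trans {a a' a'' : T ⟶ G.R} (h : Rel D a a') (h' : Rel D a' a'') : Rel D a a'' := by
  obtain ⟨x, x', y, y', f, f', h₁, h₂, rfl, rfl, e⟩ := h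
  obtain ⟨x₁, x₁', y₁, y₁', g, g', k₁, k₂, hg, rfl, e'⟩ := h'
  have hx : x₁.pt = x'.pt := by rw [← g.hs, ← f'.hs, hg]
  have hy : y₁.pt = y'.pt := by rw [← g.ht, ← f'.ht, hg]
  obtain ⟨x₁⟩ := x₁
  obtain ⟨y₁⟩ := y₁
  dsimp only at hx hy
  subst hx hy
  have hgf : g = f' := hom_ext hg
  subst hgf
  refine ⟨_, _, _, _, f, g', k₁.trans h₁, h₂.trans k₂, rfl, rfl, ?_⟩
  rw [e', e]
  simp

lemma Rel.pre (k : T' ⟶ T) {a a' : T ⟶ G.R} (h : Rel D a a') : Rel D (k ≫ a) (k ≫ a') := by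
  obtain ⟨x, x', y, y', f, f', h₁, h₂, rfl, rfl, e⟩ := h
  refine ⟨_, _, _, _, (GrpdPt.pre k).map f, (GrpdPt.pre k).map f',
    (by simp only [pre_obj_pt, Category.assoc, h₁]), (by simp only [pre_obj_pt, Category.assoc, h₂]),
    rfl, rfl, ?_⟩
  rw [e, Functor.map_comp, Functor.map_comp]
  congr 1
  · apply hom_ext
    exact pre_pAr D k _ _ h₁
  · congr 1
    apply hom_ext
    exact pre_pAr D k _ _ h₂

/-! ### The twisted composition `a ∘ p ∘ b` -/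

/-- `a ∘ p ∘ b` where `p` is the arrow of the subgroupoid from `t b` to `s a`. -/
noncomputable def cmp (a b : T ⟶ G.R) (h : (a ≫ G.s) ≫ D.π = (b ≫ G.t) ≫ D.π) : T ⟶ G.R :=
  (homOf G b ≫ pa D (x := ⟨b ≫ G.t⟩) (y := ⟨a ≫ G.s⟩) h.symm ≫ homOf G a).ar

@[reassoc (attr := simp)]
lemma cmp_s (a b : T ⟶ G.R) (h : (a ≫ G.s) ≫ D.π = (b ≫ G.t) ≫ D.π) :
    cmp D a b h ≫ G.s = b ≫ G.s :=
  (homOf G b ≫ pa D (x := ⟨b ≫ G.t⟩) (y := ⟨a ≫ G.s⟩) h.symm ≫ homOf G a).hs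

@[reassoc (attr := simp)]
lemma cmp_t (a b : T ⟶ G.R) (h : (a ≫ G.s) ≫ D.π = (b ≫ G.t) ≫ D.π) :
    cmp D a b h ≫ G.t = a ≫ G.t :=
  (homOf G b ≫ pa D (x := ⟨b ≫ G.t⟩) (y := ⟨a ≫ G.s⟩) h.symm ≫ homOf G a).ht

lemma cmp_congr {a a' b b' : T ⟶ G.R} (h : (a ≫ G.s) ≫ D.π = (b ≫ G.t) ≫ D.π) (ha : a = a')
    (hb : b = b') : cmp D a b h = cmp D a' b' (by rw [← ha, ← hb]; exact h) := by
  subst ha hb; rfl

lemma ar_cmp {x y u v : Pt G T} (f : x ⟶ y) (g : u ⟶ v) (h' : v.pt ≫ D.π = x.pt ≫ D.π) :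
    (g ≫ pa D h' ≫ f).ar = cmp D f.ar g.ar (by rw [f.hs, g.ht]; exact h'.symm) := by
  unfold cmp
  refine ar_comp_congr g _ (homOf G g.ar) _ rfl ?_
  refine ar_comp_congr (pa D h') f _ (homOf G f.ar) ?_ rfl
  exact pa_ar_congr D _ _ g.ht.symm f.hs.symm

lemma pre_cmp (k : T' ⟶ T) (a b : T ⟶ G.R) (h : (a ≫ G.s) ≫ D.π = (b ≫ G.t) ≫ D.π) :
    k ≫ cmp D a b h = cmp D (k ≫ a) (k ≫ b)
      (by simp only [Category.assoc] at h ⊢; rw [h]) := by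
  unfold cmp
  change ((GrpdPt.pre k).map _).ar = _
  rw [Functor.map_comp, Functor.map_comp]
  refine ar_comp_congr _ _ (homOf G (k ≫ b)) _ rfl ?_
  refine ar_comp_congr _ _ _ (homOf G (k ≫ a)) ?_ rfl
  rw [pa_ar, pre_map_ar, pa_ar, pre_pAr]
  exact pAr_congr D _ (Category.assoc _ _ _).symm (Category.assoc _ _ _).symm

lemma rel_cmp {a a' b b' : T ⟶ G.R} (ha : Rel D a a') (hb : Rel D b b')
    (h : (a ≫ G.s) ≫ D.π = (b ≫ G.t) ≫ D.π) (h' : (a' ≫ G.s) ≫ D.π = (b' ≫ G.t) ≫ D.π) :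
    Rel D (cmp D a b h) (cmp D a' b' h') := by
  obtain ⟨x, x', y, y', f, f', h₁, h₂, rfl, rfl, e⟩ := ha
  obtain ⟨u, u', v, v', g, g', k₁, k₂, rfl, rfl, e'⟩ := hb
  have hvx : v.pt ≫ D.π = x.pt ≫ D.π := by rw [← f.hs, ← g.ht]; exact h.symm
  have hvx' : v'.pt ≫ D.π = x'.pt ≫ D.π := by rw [← f'.hs, ← g'.ht]; exact h'.symm
  rw [← ar_cmp D f g hvx, ← ar_cmp D f' g' hvx']
  have key : g' ≫ pa D hvx' ≫ f' = pa D k₁ ≫ (g ≫ pa D hvx ≫ f) ≫ pa D h₂ := by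
    rw [e, e']
    simp
  rw [key]
  exact Rel.mk D _ k₁ h₂

lemma cmp_assoc (a b d : T ⟶ G.R) (h₁ : (a ≫ G.s) ≫ D.π = (b ≫ G.t) ≫ D.π)
    (h₂ : (b ≫ G.s) ≫ D.π = (d ≫ G.t) ≫ D.π)
    (h₃ : (cmp D a b h₁ ≫ G.s) ≫ D.π = (d ≫ G.t) ≫ D.π)
    (h₄ : (a ≫ G.s) ≫ D.π = (cmp D b d h₂ ≫ G.t) ≫ D.π) :
    cmp D (cmp D a b h₁) d h₃ = cmp D a (cmp D b d h₂) h₄ := by
  have e1 := ar_cmp D (homOf G b ≫ pa D (x := ⟨b ≫ G.t⟩) (y := ⟨a ≫ G.s⟩) h₁.symm ≫ homOf G a)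
    (homOf G d) h₂.symm
  have e2 := ar_cmp D (homOf G a)
    (homOf G d ≫ pa D (x := ⟨d ≫ G.t⟩) (y := ⟨b ≫ G.s⟩) h₂.symm ≫ homOf G b) h₁.symm
  refine Eq.trans ?_ (e1.symm.trans (Eq.trans ?_ e2))
  · rfl
  · simp only [Category.assoc]

/-- for composable `a`, `b` the twisted composition is the composition. -/
lemma cmp_eq_comp (a b : T ⟶ G.R) (h : a ≫ G.s = b ≫ G.t) :
    cmp D a b (by rw [h]) = Grpd.comp G a b h := by
  have e1 := ar_cmp D (homOf G a) (homMk b rfl h.symm : (Pt.mk (b ≫ G.s) : Pt G T) ⟶ ⟨a ≫ G.s⟩) rfl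
  refine e1.symm.trans ?_
  rw [pa_id, Category.id_comp]
  rfl

lemma cmp_e (a : T ⟶ G.R) (h : (a ≫ G.s) ≫ D.π = ((a ≫ G.s ≫ G.e) ≫ G.t) ≫ D.π) :
    cmp D a (a ≫ G.s ≫ G.e) h = a := by
  have e1 := ar_cmp D (homOf G a) (𝟙 (Pt.mk (a ≫ G.s) : Pt G T)) rfl
  refine Eq.trans (cmp_congr D h rfl ?_) (e1.symm.trans ?_)
  · rw [id_ar, Category.assoc]
  · rw [pa_id, Category.id_comp, Category.id_comp]
    rfl

lemma e_cmp (a : T ⟶ G.R) (h : ((a ≫ G.t ≫ G.e) ≫ G.s) ≫ D.π = (a ≫ G.t) ≫ D.π) :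
    cmp D (a ≫ G.t ≫ G.e) a h = a := by
  have e1 := ar_cmp D (𝟙 (Pt.mk (a ≫ G.t) : Pt G T)) (homOf G a) rfl
  refine Eq.trans (cmp_congr D h ?_ rfl) (e1.symm.trans ?_)
  · rw [id_ar, Category.assoc]
  · rw [pa_id, Category.id_comp, Category.comp_id]
    rfl

lemma cmp_i (a : T ⟶ G.R) (h : (a ≫ G.s) ≫ D.π = ((a ≫ G.i) ≫ G.t) ≫ D.π) :
    cmp D a (a ≫ G.i) h = a ≫ G.t ≫ G.e := by
  have e1 := ar_cmp D (homOf G a) (Groupoid.inv (homOf G a)) rfl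
  refine Eq.trans (cmp_congr D h rfl ?_) (e1.symm.trans ?_)
  · rw [inv_ar]; rfl
  · rw [pa_id, Category.id_comp, Groupoid.inv_comp, id_ar, Category.assoc]

lemma i_cmp (a : T ⟶ G.R) (h : ((a ≫ G.i) ≫ G.s) ≫ D.π = (a ≫ G.t) ≫ D.π) :
    cmp D (a ≫ G.i) a h = a ≫ G.s ≫ G.e := by
  have e1 := ar_cmp D (Groupoid.inv (homOf G a)) (homOf G a) rfl
  refine Eq.trans (cmp_congr D h ?_ rfl) (e1.symm.trans ?_)
  · rw [inv_ar]; rfl
  · rw [pa_id, Category.id_comp, Groupoid.comp_inv, id_ar, Category.assoc]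

/-! ### Quotient data and the structure maps of the quotient groupoid -/

variable (G) in
/-- The subgroupoid data together with fppf covers `π : U ⟶ Ū` and `q : R ⟶ R̄` such that the
kernel pair of `q` is the relation `Rel`. -/
structure QData extends Data G where
  flatπ : Flat π
  surjπ : Surjective π
  lfpπ : LocallyOfFinitePresentation π
  Rbar : Scheme.{u}
  q : G.R ⟶ Rbar
  flatq : Flat q
  surjq : Surjective q
  lfpq : LocallyOfFinitePresentation q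
  hq : ∀ {T : Scheme.{u}} (a a' : T ⟶ G.R), a ≫ q = a' ≫ q ↔ Rel toData a a'

attribute [instance] QData.flatπ QData.surjπ QData.lfpπ QData.flatq QData.surjq QData.lfpq

variable (Q : QData G)

lemma sbar_aux {Z : Scheme.{u}} (g₁ g₂ : Z ⟶ G.R) (h : g₁ ≫ Q.q = g₂ ≫ Q.q) :
    g₁ ≫ G.s ≫ Q.π = g₂ ≫ G.s ≫ Q.π := ((Q.hq g₁ g₂).mp h).s_eq

/-- the source map of the quotient. -/
noncomputable def sbar : Q.Rbar ⟶ Q.Ubar :=
  EffectiveEpi.desc Q.q (G.s ≫ Q.π) (sbar_aux Q)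

@[reassoc (attr := simp)]
lemma q_sbar : Q.q ≫ sbar Q = G.s ≫ Q.π := EffectiveEpi.fac Q.q _ (sbar_aux Q)

lemma tbar_aux {Z : Scheme.{u}} (g₁ g₂ : Z ⟶ G.R) (h : g₁ ≫ Q.q = g₂ ≫ Q.q) :
    g₁ ≫ G.t ≫ Q.π = g₂ ≫ G.t ≫ Q.π := ((Q.hq g₁ g₂).mp h).t_eq

/-- the target map of the quotient. -/
noncomputable def tbar : Q.Rbar ⟶ Q.Ubar :=
  EffectiveEpi.desc Q.q (G.t ≫ Q.π) (tbar_aux Q)

@[reassoc (attr := simp)]
lemma q_tbar : Q.q ≫ tbar Q = G.t ≫ Q.π := EffectiveEpi.fac Q.q _ (tbar_aux Q)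

lemma ebar_aux {Z : Scheme.{u}} (g₁ g₂ : Z ⟶ G.U) (h : g₁ ≫ Q.π = g₂ ≫ Q.π) :
    g₁ ≫ G.e ≫ Q.q = g₂ ≫ G.e ≫ Q.q := by
  rw [← Category.assoc, ← Category.assoc, Q.hq]
  refine ⟨⟨g₁⟩, ⟨g₂⟩, ⟨g₁⟩, ⟨g₂⟩, 𝟙 _, 𝟙 _, h.symm, h, rfl, rfl, ?_⟩
  simp

/-- the identity of the quotient. -/
noncomputable def ebar : Q.Ubar ⟶ Q.Rbar :=
  EffectiveEpi.desc Q.π (G.e ≫ Q.q) (ebar_aux Q)

@[reassoc (attr := simp)]
lemma π_ebar : Q.π ≫ ebar Q = G.e ≫ Q.q := EffectiveEpi.fac Q.π _ (ebar_aux Q)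

lemma ibar_aux {Z : Scheme.{u}} (g₁ g₂ : Z ⟶ G.R) (h : g₁ ≫ Q.q = g₂ ≫ Q.q) :
    g₁ ≫ G.i ≫ Q.q = g₂ ≫ G.i ≫ Q.q := by
  rw [← Category.assoc, ← Category.assoc, Q.hq]
  obtain ⟨x, x', y, y', f, f', h₁, h₂, rfl, rfl, e⟩ := (Q.hq _ _).mp h
  refine ⟨_, _, _, _, Groupoid.inv f, Groupoid.inv f', h₂.symm, h₁.symm, rfl, rfl, ?_⟩
  rw [e]
  simp

/-- the inverse of the quotient. -/
noncomputable def ibar : Q.Rbar ⟶ Q.Rbar :=
  EffectiveEpi.desc Q.q (G.i ≫ Q.q) (ibar_aux Q)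

@[reassoc (attr := simp)]
lemma q_ibar : Q.q ≫ ibar Q = G.i ≫ Q.q := EffectiveEpi.fac Q.q _ (ibar_aux Q)

/-- `q × q : R ×_Ū R ⟶ R̄ ×_Ū R̄`. -/
noncomputable def q₂ : pullback (G.s ≫ Q.π) (G.t ≫ Q.π) ⟶ pullback (sbar Q) (tbar Q) :=
  pullback.map (G.s ≫ Q.π) (G.t ≫ Q.π) (sbar Q) (tbar Q) Q.q Q.q (𝟙 _)
    ((Category.comp_id _).trans (q_sbar Q).symm) ((Category.comp_id _).trans (q_tbar Q).symm)

instance : Flat (q₂ Q) :=
  MorphismProperty.pullbackMap (P := @Flat) Q.flatq Q.flatq (q_sbar Q).symm (q_tbar Q).symm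

instance : Surjective (q₂ Q) :=
  MorphismProperty.pullbackMap (P := @Surjective) Q.surjq Q.surjq (q_sbar Q).symm (q_tbar Q).symm

instance : LocallyOfFinitePresentation (q₂ Q) :=
  MorphismProperty.pullbackMap (P := @LocallyOfFinitePresentation) Q.lfpq Q.lfpq
    (q_sbar Q).symm (q_tbar Q).symm

@[reassoc (attr := simp)]
lemma q₂_fst : q₂ Q ≫ pullback.fst _ _ = pullback.fst _ _ ≫ Q.q := by
  unfold q₂; rw [pullback.lift_fst]

@[reassoc (attr := simp)]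
lemma q₂_snd : q₂ Q ≫ pullback.snd _ _ = pullback.snd _ _ ≫ Q.q := by
  unfold q₂; rw [pullback.lift_snd]

/-- the twisted composition on the universal pair. -/
noncomputable def c₀ : pullback (G.s ≫ Q.π) (G.t ≫ Q.π) ⟶ G.R :=
  cmp Q.toData (pullback.fst _ _) (pullback.snd _ _)
    (by simp only [Category.assoc]; exact pullback.condition)

lemma cbar_aux {Z : Scheme.{u}} (g₁ g₂ : Z ⟶ pullback (G.s ≫ Q.π) (G.t ≫ Q.π))
    (h : g₁ ≫ q₂ Q = g₂ ≫ q₂ Q) : g₁ ≫ c₀ Q ≫ Q.q = g₂ ≫ c₀ Q ≫ Q.q := by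
  rw [← Category.assoc, ← Category.assoc, Q.hq]
  unfold c₀
  rw [pre_cmp, pre_cmp]
  apply rel_cmp
  · rw [← Q.hq]
    have := h =≫ pullback.fst _ _
    simpa only [Category.assoc, q₂_fst] using this
  · rw [← Q.hq]
    have := h =≫ pullback.snd _ _
    simpa only [Category.assoc, q₂_snd] using this

/-- the composition of the quotient. -/
noncomputable def cbar : pullback (sbar Q) (tbar Q) ⟶ Q.Rbar :=
  EffectiveEpi.desc (q₂ Q) (c₀ Q ≫ Q.q) (cbar_aux Q)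

lemma q₂_cbar : q₂ Q ≫ cbar Q = c₀ Q ≫ Q.q := EffectiveEpi.fac (q₂ Q) _ (cbar_aux Q)

lemma cbar_formula (a b : T ⟶ G.R) (h : (a ≫ G.s) ≫ Q.π = (b ≫ G.t) ≫ Q.π)
    (h' : (a ≫ Q.q) ≫ sbar Q = (b ≫ Q.q) ≫ tbar Q) :
    pullback.lift (a ≫ Q.q) (b ≫ Q.q) h' ≫ cbar Q = cmp Q.toData a b h ≫ Q.q := by
  have h0 : a ≫ G.s ≫ Q.π = b ≫ G.t ≫ Q.π := by simpa only [Category.assoc] using h
  have e1 : pullback.lift (a ≫ Q.q) (b ≫ Q.q) h' = pullback.lift a b h0 ≫ q₂ Q := by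
    apply pullback.hom_ext
    · rw [pullback.lift_fst, Category.assoc, q₂_fst, pullback.lift_fst_assoc]
    · rw [pullback.lift_snd, Category.assoc, q₂_snd, pullback.lift_snd_assoc]
  rw [e1, Category.assoc, q₂_cbar, ← Category.assoc]
  congr 1
  unfold c₀
  rw [pre_cmp]
  exact cmp_congr _ _ (pullback.lift_fst _ _ _) (pullback.lift_snd _ _ _)

/-! ### Local lifting -/

lemma exists_lift (α : T ⟶ Q.Rbar) :
    ∃ (T' : Scheme.{u}) (f : T' ⟶ T) (_ : Epi f) (a : T' ⟶ G.R), a ≫ Q.q = f ≫ α :=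
  ⟨pullback α Q.q, pullback.fst _ _, inferInstance, pullback.snd _ _, pullback.condition.symm⟩

lemma exists_lift₂ (α β : T ⟶ Q.Rbar) :
    ∃ (T' : Scheme.{u}) (f : T' ⟶ T) (_ : Epi f) (a b : T' ⟶ G.R),
      a ≫ Q.q = f ≫ α ∧ b ≫ Q.q = f ≫ β := by
  obtain ⟨T₁, f₁, _, a, ha⟩ := exists_lift Q α
  obtain ⟨T₂, f₂, _, b, hb⟩ := exists_lift Q (f₁ ≫ β)
  refine ⟨T₂, f₂ ≫ f₁, inferInstance, f₂ ≫ a, b, ?_, ?_⟩
  · rw [Category.assoc, ha, Category.assoc]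
  · rw [hb, Category.assoc]

lemma exists_lift₃ (α β γ : T ⟶ Q.Rbar) :
    ∃ (T' : Scheme.{u}) (f : T' ⟶ T) (_ : Epi f) (a b d : T' ⟶ G.R),
      a ≫ Q.q = f ≫ α ∧ b ≫ Q.q = f ≫ β ∧ d ≫ Q.q = f ≫ γ := by
  obtain ⟨T₁, f₁, _, a, b, ha, hb⟩ := exists_lift₂ Q α β
  obtain ⟨T₂, f₂, _, d, hd⟩ := exists_lift Q (f₁ ≫ γ)
  refine ⟨T₂, f₂ ≫ f₁, inferInstance, f₂ ≫ a, f₂ ≫ b, d, ?_, ?_, ?_⟩
  · rw [Category.assoc, ha, Category.assoc]
  · rw [Category.assoc, hb, Category.assoc]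
  · rw [hd, Category.assoc]

lemma π_eq_of_lifts {α β : T ⟶ Q.Rbar} (h : α ≫ sbar Q = β ≫ tbar Q) (f : T' ⟶ T)
    {a b : T' ⟶ G.R} (ha : a ≫ Q.q = f ≫ α) (hb : b ≫ Q.q = f ≫ β) :
    (a ≫ G.s) ≫ Q.π = (b ≫ G.t) ≫ Q.π := by
  rw [Category.assoc, Category.assoc, ← q_sbar, ← q_tbar, reassoc_of% ha, reassoc_of% hb, h]

@[reassoc]
lemma lift_cbar_of_lifts {α β : T ⟶ Q.Rbar} (h : α ≫ sbar Q = β ≫ tbar Q) (f : T' ⟶ T)
    {a b : T' ⟶ G.R} (ha : a ≫ Q.q = f ≫ α) (hb : b ≫ Q.q = f ≫ β) :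
    f ≫ pullback.lift α β h ≫ cbar Q = cmp Q.toData a b (π_eq_of_lifts Q h f ha hb) ≫ Q.q := by
  have h' : (a ≫ Q.q) ≫ sbar Q = (b ≫ Q.q) ≫ tbar Q := by
    rw [ha, hb, Category.assoc, Category.assoc, h]
  rw [← cbar_formula Q a b _ h', ← Category.assoc]
  congr 1
  apply pullback.hom_ext
  · rw [Category.assoc, pullback.lift_fst, pullback.lift_fst, ha]
  · rw [Category.assoc, pullback.lift_snd, pullback.lift_snd, hb]

/-- points of `R` are determined by their images in `R̄`, and source and target. -/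
lemma R_ext (x y : T ⟶ G.R) (hq : x ≫ Q.q = y ≫ Q.q) (hs : x ≫ G.s = y ≫ G.s)
    (ht : x ≫ G.t = y ≫ G.t) : x = y := by
  obtain ⟨X, X', Y, Y', f, f', h₁, h₂, rfl, rfl, e⟩ := (Q.hq _ _).mp hq
  have hX : X'.pt = X.pt := by rw [← f'.hs, ← f.hs, hs]
  have hY : Y'.pt = Y.pt := by rw [← f'.ht, ← f.ht, ht]
  obtain ⟨X'⟩ := X'
  obtain ⟨Y'⟩ := Y'
  dsimp only at hX hY
  subst hX hY
  rw [e, pa_id, pa_id, Category.id_comp, Category.comp_id]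

/-! ### The quotient groupoid -/

variable (pUbar : Q.Ubar ⟶ S) (hpU : Q.π ≫ pUbar = G.pU)

/-- The quotient groupoid scheme on `(Ū, R̄)`. -/
noncomputable def quotGrpd : Grpd.GroupoidScheme S where
  U := Q.Ubar
  R := Q.Rbar
  pU := pUbar
  pR := sbar Q ≫ pUbar
  s := sbar Q
  t := tbar Q
  e := ebar Q
  i := ibar Q
  c := cbar Q
  s_over := rfl
  t_over := by
    rw [← cancel_epi Q.q, q_tbar_assoc, q_sbar_assoc, hpU, G.t_over, G.s_over]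
  comp_s := fun α β h => by
    obtain ⟨T', f, _, a, b, ha, hb⟩ := exists_lift₂ Q α β
    rw [← cancel_epi f, Category.assoc, lift_cbar_of_lifts_assoc Q h f ha hb, q_sbar, cmp_s_assoc,
      ← reassoc_of% hb, q_sbar]
  comp_t := fun α β h => by
    obtain ⟨T', f, _, a, b, ha, hb⟩ := exists_lift₂ Q α β
    rw [← cancel_epi f, Category.assoc, lift_cbar_of_lifts_assoc Q h f ha hb, q_tbar, cmp_t_assoc,
      ← reassoc_of% ha, q_tbar]
  assoc := fun α β γ h₁ h₂ => by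
    obtain ⟨T', f, _, a, b, d, ha, hb, hd⟩ := exists_lift₃ Q α β γ
    rw [← cancel_epi f]
    have e1 := lift_cbar_of_lifts Q h₁ f ha hb
    have e2 := lift_cbar_of_lifts Q h₂ f hb hd
    rw [lift_cbar_of_lifts Q _ f e1.symm hd, lift_cbar_of_lifts Q _ f ha e2.symm]
    congr 1
    apply cmp_assoc
  e_s := by
    rw [← cancel_epi Q.π, π_ebar_assoc, q_sbar, reassoc_of% G.e_s, Category.comp_id]
  e_t := by
    rw [← cancel_epi Q.π, π_ebar_assoc, q_tbar, reassoc_of% G.e_t, Category.comp_id]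
  comp_e := fun α => by
    obtain ⟨T', f, _, a, ha⟩ := exists_lift Q α
    have hb : (a ≫ G.s ≫ G.e) ≫ Q.q = f ≫ α ≫ sbar Q ≫ ebar Q := by
      rw [← reassoc_of% ha, q_sbar_assoc, π_ebar]
      simp only [Category.assoc]
    rw [← cancel_epi f, lift_cbar_of_lifts Q _ f ha hb, cmp_e, ha]
  e_comp := fun α => by
    obtain ⟨T', f, _, a, ha⟩ := exists_lift Q α
    have hb : (a ≫ G.t ≫ G.e) ≫ Q.q = f ≫ α ≫ tbar Q ≫ ebar Q := by
      rw [← reassoc_of% ha, q_tbar_assoc, π_ebar]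
      simp only [Category.assoc]
    rw [← cancel_epi f, lift_cbar_of_lifts Q _ f hb ha, e_cmp, ha]
  i_s := by
    rw [← cancel_epi Q.q, q_ibar_assoc, q_sbar, q_tbar, reassoc_of% G.i_s]
  i_t := by
    rw [← cancel_epi Q.q, q_ibar_assoc, q_sbar, q_tbar, reassoc_of% G.i_t]
  comp_i := fun α => by
    obtain ⟨T', f, _, a, ha⟩ := exists_lift Q α
    have hb : (a ≫ G.i) ≫ Q.q = f ≫ α ≫ ibar Q := by
      rw [← reassoc_of% ha, q_ibar, Category.assoc]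
    rw [← cancel_epi f, lift_cbar_of_lifts Q _ f ha hb, cmp_i, ← reassoc_of% ha, q_tbar_assoc,
      π_ebar]
    simp only [Category.assoc]
  i_comp := fun α => by
    obtain ⟨T', f, _, a, ha⟩ := exists_lift Q α
    have hb : (a ≫ G.i) ≫ Q.q = f ≫ α ≫ ibar Q := by
      rw [← reassoc_of% ha, q_ibar, Category.assoc]
    rw [← cancel_epi f, lift_cbar_of_lifts Q _ f hb ha, i_cmp, ← reassoc_of% ha, q_sbar_assoc,
      π_ebar]
    simp only [Category.assoc]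

/-- The quotient morphism of groupoid schemes. -/
noncomputable def quotHom : Grpd.GroupoidScheme.Hom G (quotGrpd Q pUbar hpU) where
  fU := Q.π
  fR := Q.q
  fU_over := hpU
  comm_s := q_sbar Q
  comm_t := q_tbar Q
  comm_c := fun α β h => by
    have h1 : (α ≫ G.s) ≫ Q.π = (β ≫ G.t) ≫ Q.π := by rw [h]
    have h2 : (α ≫ Q.q) ≫ sbar Q = (β ≫ Q.q) ≫ tbar Q := by
      rw [Category.assoc, Category.assoc, q_sbar, q_tbar, reassoc_of% h]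
    refine Eq.trans ?_ (cbar_formula Q α β h1 h2).symm
    rw [cmp_eq_comp Q.toData α β h]
    rfl

/-- fppf-local existence, hence existence, of the lift in the cartesian square. -/
lemma exists_lift_cart (ρ : T ⟶ Q.Rbar) (u v : T ⟶ G.U) (ht : ρ ≫ tbar Q = u ≫ Q.π)
    (hs : ρ ≫ sbar Q = v ≫ Q.π) : ∃ r : T ⟶ G.R, r ≫ Q.q = ρ ∧ r ≫ G.t = u ∧ r ≫ G.s = v := by
  let f : pullback ρ Q.q ⟶ T := pullback.fst _ _
  let a : pullback ρ Q.q ⟶ G.R := pullback.snd _ _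
  have ha : a ≫ Q.q = f ≫ ρ := pullback.condition.symm
  have h₁ : (f ≫ v) ≫ Q.π = (a ≫ G.s) ≫ Q.π := by
    rw [Category.assoc, Category.assoc, ← q_sbar, reassoc_of% ha, hs]
  have h₂ : (a ≫ G.t) ≫ Q.π = (f ≫ u) ≫ Q.π := by
    rw [Category.assoc, Category.assoc, ← q_tbar, reassoc_of% ha, ht]
  let F : (Pt.mk (f ≫ v) : Pt G (pullback ρ Q.q)) ⟶ ⟨f ≫ u⟩ :=
    pa Q.toData (y := ⟨a ≫ G.s⟩) h₁ ≫ homOf G a ≫ pa Q.toData (x := ⟨a ≫ G.t⟩) h₂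
  have hFq : F.ar ≫ Q.q = f ≫ ρ := by
    rw [← ha]
    exact ((Q.hq _ _).mpr (Rel.mk Q.toData (homOf G a) h₁ h₂)).symm
  have hdesc : ∀ {Z : Scheme.{u}} (g₁ g₂ : Z ⟶ pullback ρ Q.q), g₁ ≫ f = g₂ ≫ f →
      g₁ ≫ F.ar = g₂ ≫ F.ar := by
    intro Z g₁ g₂ hg
    apply R_ext Q
    · rw [Category.assoc, Category.assoc, hFq, reassoc_of% hg]
    · rw [Category.assoc, Category.assoc, F.hs]
      exact (reassoc_of% hg) v
    · rw [Category.assoc, Category.assoc, F.ht]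
      exact (reassoc_of% hg) u
  have hfac : f ≫ EffectiveEpi.desc f F.ar hdesc = F.ar := EffectiveEpi.fac f F.ar hdesc
  refine ⟨EffectiveEpi.desc f F.ar hdesc, ?_, ?_, ?_⟩
  · rw [← cancel_epi f, reassoc_of% hfac, hFq]
  · rw [← cancel_epi f, reassoc_of% hfac, F.ht]
  · rw [← cancel_epi f, reassoc_of% hfac, F.hs]

/-- `R = R̄ ×_{Ū ×_S Ū} (U ×_S U)`. -/
theorem isPullback_quotHom :
    IsPullback Q.q G.j (quotGrpd Q pUbar hpU).j
      (pullback.map G.pU G.pU pUbar pUbar Q.π Q.π (𝟙 S)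
        ((Category.comp_id _).trans hpU.symm) ((Category.comp_id _).trans hpU.symm)) := by
  have hw : Q.q ≫ (quotGrpd Q pUbar hpU).j =
      G.j ≫ pullback.map G.pU G.pU pUbar pUbar Q.π Q.π (𝟙 S)
        ((Category.comp_id _).trans hpU.symm) ((Category.comp_id _).trans hpU.symm) := by
    unfold Grpd.GroupoidScheme.j
    dsimp only [quotGrpd]
    apply pullback.hom_ext
    · rw [Category.assoc, pullback.lift_fst, Category.assoc, pullback.lift_fst,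
        pullback.lift_fst_assoc]
      exact q_tbar Q
    · rw [Category.assoc, pullback.lift_snd, Category.assoc, pullback.lift_snd,
        pullback.lift_snd_assoc]
      exact q_sbar Q
  -- unpack a cone
  have key : ∀ {T : Scheme.{u}} (ρ : T ⟶ Q.Rbar) (w : T ⟶ pullback G.pU G.pU),
      ρ ≫ (quotGrpd Q pUbar hpU).j = w ≫ pullback.map G.pU G.pU pUbar pUbar Q.π Q.π (𝟙 S)
        ((Category.comp_id _).trans hpU.symm) ((Category.comp_id _).trans hpU.symm) →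
      ρ ≫ tbar Q = (w ≫ pullback.fst _ _) ≫ Q.π ∧ ρ ≫ sbar Q = (w ≫ pullback.snd _ _) ≫ Q.π := by
    intro T ρ w h
    constructor
    · have := h =≫ pullback.fst _ _
      unfold Grpd.GroupoidScheme.j at this
      dsimp only [quotGrpd] at this
      rw [Category.assoc, pullback.lift_fst, Category.assoc, pullback.lift_fst] at this
      rw [Category.assoc]; exact this
    · have := h =≫ pullback.snd _ _
      unfold Grpd.GroupoidScheme.j at this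
      dsimp only [quotGrpd] at this
      rw [Category.assoc, pullback.lift_snd, Category.assoc, pullback.lift_snd] at this
      rw [Category.assoc]; exact this
  refine ⟨⟨hw⟩, ⟨PullbackCone.IsLimit.mk _
    (fun c => (exists_lift_cart Q c.fst _ _ (key c.fst c.snd c.condition).1
      (key c.fst c.snd c.condition).2).choose) (fun c => ?_) (fun c => ?_) (fun c m h1 h2 => ?_)⟩⟩
  · exact (exists_lift_cart Q c.fst _ _ (key c.fst c.snd c.condition).1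
      (key c.fst c.snd c.condition).2).choose_spec.1
  · obtain ⟨-, h2, h3⟩ := (exists_lift_cart Q c.fst _ _ (key c.fst c.snd c.condition).1
      (key c.fst c.snd c.condition).2).choose_spec
    unfold Grpd.GroupoidScheme.j
    apply pullback.hom_ext
    · rw [Category.assoc, pullback.lift_fst]; exact h2
    · rw [Category.assoc, pullback.lift_snd]; exact h3
  · obtain ⟨h1', h2', h3'⟩ := (exists_lift_cart Q c.fst _ _ (key c.fst c.snd c.condition).1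
      (key c.fst c.snd c.condition).2).choose_spec
    apply R_ext Q
    · rw [h1, h1']
    · rw [h3']
      have := h2 =≫ pullback.snd _ _
      unfold Grpd.GroupoidScheme.j at this
      rw [Category.assoc, pullback.lift_snd] at this
      exact this
    · rw [h2']
      have := h2 =≫ pullback.fst _ _
      unfold Grpd.GroupoidScheme.j at this
      rw [Category.assoc, pullback.lift_fst] at this
      exact this

end Groth.Agent.R2.H84.SubQuot
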