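import Mathlib
import Groth.Prelude.Def_Grpd
import Groth.Agent.R2.H84SubQuot
import Groth.Agent.Lib.Helper18Grpd1
import Groth.Agent.Lib.Helper12Flat
import Groth.Agent.S0114

/-!
# PROJ:fppf-boot (helper84), part B: the quotient groupoid by an OPEN finite flat subgroupoid is etale

Setting of `R2/H84SubQuot` (`Q : QData G`, quotient groupoid `(Ū, R̄)` with `q : R ⟶ R̄`,
`π : U ⟶ Ū` fppf).  If `ιP : P ⟶ R` is an open immersion then

* `isPullback_ebar`: `P = R ×_{R̄} Ū`, hence `ē : Ū ⟶ R̄` is an open immersion (`isOpenImmersion_ebar`);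
* `flat_sbar`, `lfp_sbar`, ... : `s̄`, `t̄` are flat and locally of finite presentation when `s`, `t` are;
* `mono_j_quotGrpd`: `j̄` is a monomorphism when `j` is;
* `etale_t_of_isOpenImmersion_e` (general groupoid schemes): `e` open immersion, `t` flat lfp ⇒ `t` etale;
* `etale_quotGrpd_t`, `etale_quotGrpd_s`.
-/

set_option autoImplicit false
set_option linter.unusedSectionVars false
set_option linter.style.haveILetI false
universe u

open CategoryTheory CategoryTheory.Limits AlgebraicGeometry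

namespace Groth.Agent.R2.H84.FppfBootB

open Groth.Agent.Lib.Helper2 Groth.Agent.R2.H84.GrpdPt Groth.Agent.R2.H84.SubQuot

variable {S : Scheme.{u}}

/-! ### General groupoid schemes -/

section General

variable (G : Grpd.GroupoidScheme S)

/-- if the identity of a groupoid scheme is an open immersion and `t` is flat and locally of finite
presentation, then `t` is etale. -/
theorem etale_t_of_isOpenImmersion_e [IsOpenImmersion G.e] [Flat G.t]
    [LocallyOfFinitePresentation G.t] : Etale G.t := by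
  haveI : IsOpenImmersion (pullback.diagonal G.t) :=
    MorphismProperty.of_isPullback (P := @IsOpenImmersion)
      (Groth.Agent.Helper18Grpd.isPullback_diagonal_divMap G).flip inferInstance
  haveI : FormallyUnramified G.t := inferInstance
  exact Etale.of_formallyUnramified_of_flat G.t

/-- for an equivalence relation the inverse is an involution. -/
lemma i_i_of_mono_j [Mono G.j] : G.i ≫ G.i = 𝟙 G.R := by
  rw [← cancel_mono G.j]
  unfold Grpd.GroupoidScheme.j
  apply pullback.hom_ext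
  · rw [Category.assoc, pullback.lift_fst, Category.id_comp, pullback.lift_fst, Category.assoc,
      G.i_t, G.i_s]
  · rw [Category.assoc, pullback.lift_snd, Category.id_comp, pullback.lift_snd, Category.assoc,
      G.i_s, G.i_t]

theorem etale_s_of_etale_t [Mono G.j] [Etale G.t] : Etale G.s := by
  haveI : IsIso G.i := ⟨G.i, i_i_of_mono_j G, i_i_of_mono_j G⟩
  rw [← G.i_t]
  infer_instance

end General

/-! ### The quotient groupoid -/

variable {G : Grpd.GroupoidScheme S} (Q : QData G) {T : Scheme.{u}}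

/-- an arrow of the subgroupoid is equivalent to the identity of its source. -/
lemma rel_e (p : T ⟶ Q.P) : Rel Q.toData ((p ≫ Q.ιP ≫ G.s) ≫ G.e) (p ≫ Q.ιP) := by
  let x : Pt G T := ⟨p ≫ Q.ιP ≫ G.s⟩
  let y : Pt G T := ⟨p ≫ Q.ιP ≫ G.t⟩
  have h₂ : x.pt ≫ Q.π = y.pt ≫ Q.π := by
    change (p ≫ Q.ιP ≫ G.s) ≫ Q.π = (p ≫ Q.ιP ≫ G.t) ≫ Q.π
    have hw := Q.hP.w
    simp only [Category.assoc] at hw ⊢
    rw [hw]
  have h := Rel.mk Q.toData (𝟙 x) (rfl : x.pt ≫ Q.π = x.pt ≫ Q.π) h₂
  rw [pa_id, Category.id_comp, Category.id_comp, pa_ar] at h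
  have hp : pAr Q.toData x.pt y.pt h₂ = p ≫ Q.ιP := by
    unfold pAr
    rw [← pP_unique Q.toData x.pt y.pt h₂ p rfl rfl]
  rw [hp] at h
  exact h

lemma ιP_q : Q.ιP ≫ Q.q = (Q.ιP ≫ G.s ≫ Q.π) ≫ ebar Q := by
  have h := (Q.hq _ _).mpr (rel_e Q (𝟙 Q.P))
  simp only [Category.id_comp] at h
  rw [← h, Category.assoc, Category.assoc, Category.assoc, Category.assoc, π_ebar]

lemma ebar_sbar : ebar Q ≫ sbar Q = 𝟙 Q.Ubar := by
  rw [← cancel_epi Q.π, π_ebar_assoc, q_sbar, reassoc_of% G.e_s, Category.comp_id]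

lemma ebar_tbar : ebar Q ≫ tbar Q = 𝟙 Q.Ubar := by
  rw [← cancel_epi Q.π, π_ebar_assoc, q_tbar, reassoc_of% G.e_t, Category.comp_id]

/-- `P = R ×_{R̄} Ū`. -/
theorem isPullback_ebar : IsPullback Q.ιP (Q.ιP ≫ G.s ≫ Q.π) Q.q (ebar Q) := by
  have hs : ∀ (c : PullbackCone Q.q (ebar Q)), (c.fst ≫ G.s) ≫ Q.π = c.snd := by
    intro c
    rw [Category.assoc, ← q_sbar, reassoc_of% c.condition, ebar_sbar, Category.comp_id]
  have ht : ∀ (c : PullbackCone Q.q (ebar Q)), (c.fst ≫ G.t) ≫ Q.π = c.snd := by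
    intro c
    rw [Category.assoc, ← q_tbar, reassoc_of% c.condition, ebar_tbar, Category.comp_id]
  have hst : ∀ (c : PullbackCone Q.q (ebar Q)), (c.fst ≫ G.s) ≫ Q.π = (c.fst ≫ G.t) ≫ Q.π :=
    fun c => (hs c).trans (ht c).symm
  have hfac : ∀ (c : PullbackCone Q.q (ebar Q)),
      pP Q.toData (c.fst ≫ G.s) (c.fst ≫ G.t) (hst c) ≫ Q.ιP = c.fst := by
    intro c
    apply R_ext Q
    · rw [Category.assoc, ιP_q]
      have e1 : pP Q.toData (c.fst ≫ G.s) (c.fst ≫ G.t) (hst c) ≫ Q.ιP ≫ G.s = c.fst ≫ G.s :=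
        pAr_s Q.toData _ _ (hst c)
      rw [Category.assoc, Category.assoc, reassoc_of% e1, ← Category.assoc c.fst, ← Category.assoc,
        hs c, c.condition]
    · exact (Category.assoc _ _ _).trans (pAr_s Q.toData _ _ (hst c))
    · exact (Category.assoc _ _ _).trans (pAr_t Q.toData _ _ (hst c))
  refine ⟨⟨ιP_q Q⟩, ⟨PullbackCone.IsLimit.mk _
    (fun c => pP Q.toData (c.fst ≫ G.s) (c.fst ≫ G.t) (hst c)) hfac (fun c => ?_)
    (fun c m h1 h2 => ?_)⟩⟩
  · have e1 : pP Q.toData (c.fst ≫ G.s) (c.fst ≫ G.t) (hst c) ≫ Q.ιP ≫ G.s = c.fst ≫ G.s :=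
      pAr_s Q.toData _ _ (hst c)
    rw [reassoc_of% e1, ← Category.assoc, hs c]
  · apply pP_unique
    · rw [← Category.assoc, h1]
    · rw [← Category.assoc, h1]

instance isOpenImmersion_ebar [IsOpenImmersion Q.ιP] : IsOpenImmersion (ebar Q) :=
  MorphismProperty.of_isPullback_of_descendsAlong (P := @IsOpenImmersion)
    (Q := @Surjective ⊓ @Flat ⊓ @LocallyOfFinitePresentation) (isPullback_ebar Q)
    ⟨⟨Q.surjq, Q.flatq⟩, Q.lfpq⟩ inferInstance

instance flat_sbar [Flat G.s] : Flat (sbar Q) := by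
  haveI : Flat (Q.q ≫ sbar Q) := by rw [q_sbar]; infer_instance
  exact Groth.Agent.Lib.Helper12.flat_of_comp_of_flat_of_surjective Q.q (sbar Q)

instance flat_tbar [Flat G.t] : Flat (tbar Q) := by
  haveI : Flat (Q.q ≫ tbar Q) := by rw [q_tbar]; infer_instance
  exact Groth.Agent.Lib.Helper12.flat_of_comp_of_flat_of_surjective Q.q (tbar Q)

instance lfp_sbar [LocallyOfFinitePresentation G.s] : LocallyOfFinitePresentation (sbar Q) := by
  haveI : LocallyOfFinitePresentation (Q.q ≫ sbar Q) := by rw [q_sbar]; infer_instance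
  exact Groth.Agent.S0114.result Q.q (sbar Q)

instance lfp_tbar [LocallyOfFinitePresentation G.t] : LocallyOfFinitePresentation (tbar Q) := by
  haveI : LocallyOfFinitePresentation (Q.q ≫ tbar Q) := by rw [q_tbar]; infer_instance
  exact Groth.Agent.S0114.result Q.q (tbar Q)

variable (pUbar : Q.Ubar ⟶ S) (hpU : Q.π ≫ pUbar = G.pU)

/-- the quotient of an equivalence relation is an equivalence relation. -/
theorem mono_j_quotGrpd [Mono G.j] : Mono (quotGrpd Q pUbar hpU).j := by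
  refine ⟨fun {T} (α β : T ⟶ Q.Rbar) hαβ => ?_⟩
  have e1 : α ≫ tbar Q = β ≫ tbar Q := by
    have := hαβ =≫ pullback.fst _ _
    unfold Grpd.GroupoidScheme.j at this
    dsimp only [quotGrpd] at this
    rw [Category.assoc, pullback.lift_fst, Category.assoc, pullback.lift_fst] at this
    exact this
  have e2 : α ≫ sbar Q = β ≫ sbar Q := by
    have := hαβ =≫ pullback.snd _ _
    unfold Grpd.GroupoidScheme.j at this
    dsimp only [quotGrpd] at this
    rw [Category.assoc, pullback.lift_snd, Category.assoc, pullback.lift_snd] at this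
    exact this
  obtain ⟨T', f, hf, a, b, ha, hb⟩ := exists_lift₂ Q α β
  have h₁ : (a ≫ G.s) ≫ Q.π = (b ≫ G.s) ≫ Q.π := by
    rw [Category.assoc, Category.assoc, ← q_sbar, reassoc_of% ha, reassoc_of% hb, e2]
  have h₂ : (b ≫ G.t) ≫ Q.π = (a ≫ G.t) ≫ Q.π := by
    rw [Category.assoc, Category.assoc, ← q_tbar, reassoc_of% ha, reassoc_of% hb, e1]
  let F : (Pt.mk (a ≫ G.s) : Pt G T') ⟶ ⟨a ≫ G.t⟩ :=
    pa Q.toData (y := ⟨b ≫ G.s⟩) h₁ ≫ homOf G b ≫ pa Q.toData (x := ⟨b ≫ G.t⟩) h₂
  have hFq : b ≫ Q.q = F.ar ≫ Q.q := (Q.hq _ _).mpr (Rel.mk Q.toData (homOf G b) h₁ h₂)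
  have hFa : F.ar = a := by
    rw [← cancel_mono G.j]
    unfold Grpd.GroupoidScheme.j
    apply pullback.hom_ext
    · rw [Category.assoc, pullback.lift_fst, Category.assoc, pullback.lift_fst]
      exact F.ht
    · rw [Category.assoc, pullback.lift_snd, Category.assoc, pullback.lift_snd]
      exact F.hs
  haveI := hf
  change (α : T ⟶ Q.Rbar) = β
  rw [← cancel_epi f, ← ha, ← hb, hFq, hFa]

theorem etale_quotGrpd_t [IsOpenImmersion Q.ιP] [Flat G.t] [LocallyOfFinitePresentation G.t] :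
    Etale (quotGrpd Q pUbar hpU).t := by
  haveI : IsOpenImmersion (quotGrpd Q pUbar hpU).e := isOpenImmersion_ebar Q
  haveI : Flat (quotGrpd Q pUbar hpU).t := flat_tbar Q
  haveI : LocallyOfFinitePresentation (quotGrpd Q pUbar hpU).t := lfp_tbar Q
  exact etale_t_of_isOpenImmersion_e _

theorem etale_quotGrpd_s [Mono G.j] [IsOpenImmersion Q.ιP] [Flat G.t]
    [LocallyOfFinitePresentation G.t] : Etale (quotGrpd Q pUbar hpU).s := by
  haveI := mono_j_quotGrpd Q pUbar hpU
  haveI := etale_quotGrpd_t Q pUbar hpU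
  exact etale_s_of_etale_t _

end Groth.Agent.R2.H84.FppfBootB
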