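import Mathlib
import Groth.Prelude.Def_AlgSp
import Groth.Prelude.Def_Grpd
import Groth.Agent.R2.H43Quot
import Groth.Agent.Lib.Helper9SpQuot

/-!
# Quotient sheaves of groupoid schemes: local relation and open restriction (helper84)

Namespace `Groth.Agent.R2.H84.GpdQuotOpen`.

* `isColimit_πy`: `πy s t : h_U ⟶ U/R` (helper43) is a coequalizer of `h_s, h_t`.
* `LR s t`: the "local relation" property of a pre-relation: two points of `h_U` with the same image in `U/R`
  are related after passing to a cover.  `lr_of_sig` (from `Helper9.LocalRel`): it holds as soon as the strict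
  relation is an equivalence relation on representable points; `lr_of_groupoidScheme`.
* `exists_fppf_rel`: the fppf-covering form of `LR` for representable sources.
* `mono_ψ`: for a restriction `R' = R|_{U'}`, the map of quotients is a monomorphism (only `LR` is used).
* `repWith_isOpenImmersion_ψ`: if the saturation of the image of `U'` is an open `Wo` of `U` onto which
  `U' ×_U R` is fppf-locally surjective, then `U'/R' ⟶ U/R` is representable by open immersions.
-/

set_option autoImplicit false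
set_option linter.style.haveILetI false
universe u
open CategoryTheory CategoryTheory.Limits AlgebraicGeometry Opposite
open AlgSp

namespace Groth.Agent.R2.H84.GpdQuotOpen

open Groth.Agent.Lib.Helper9 Groth.Agent.Lib.Helper9.LocalRel Groth.Agent.Lib.Helper9.SpQuot
  Groth.Agent.Lib.Helper12.QuotShLib Groth.Agent.S13210
  Groth.Agent.Lib.Helper12.ZarGlue Groth.Agent.R2.H43.Quot

variable {S : Scheme.{u}}

section Bridge

variable {R U : Over S} (s t : R ⟶ U)

lemma repIso_hom_naturality {V W : Over S} (g : V ⟶ W) :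
    QuotSh.repMap Scheme.fppfPrecoverage g ≫ (QuotSh.repIsoUliftYoneda Scheme.fppfPrecoverage W).hom =
      (QuotSh.repIsoUliftYoneda Scheme.fppfPrecoverage V).hom ≫ (AlgSp.yon S).map g := by
  rw [← cancel_mono (QuotSh.repIsoUliftYoneda Scheme.fppfPrecoverage W).inv, Category.assoc,
    Iso.hom_inv_id, Category.comp_id, Category.assoc, repIso_inv_naturality, Iso.hom_inv_id_assoc]

/-- `πy s t` is a coequalizer of `h_s` and `h_t` in fppf sheaves. -/
noncomputable def isColimit_πy :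
    IsColimit (Cofork.ofπ (πy s t) (πy_condition s t)) := by
  refine Cofork.IsColimit.mk' _ (fun k => ?_)
  have hk : QuotSh.repMap Scheme.fppfPrecoverage s ≫
      ((QuotSh.repIsoUliftYoneda Scheme.fppfPrecoverage U).hom ≫ k.π) =
      QuotSh.repMap Scheme.fppfPrecoverage t ≫
        ((QuotSh.repIsoUliftYoneda Scheme.fppfPrecoverage U).hom ≫ k.π) := by
    rw [← Category.assoc, ← Category.assoc, repIso_hom_naturality, repIso_hom_naturality,
      Category.assoc, Category.assoc, k.condition]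
  have h1 : QuotSh.quotπ Scheme.fppfPrecoverage s t ≫
      (coequalizer.desc _ hk : QuotSh.quot Scheme.fppfPrecoverage s t ⟶ k.pt) =
      (QuotSh.repIsoUliftYoneda Scheme.fppfPrecoverage U).hom ≫ k.π := coequalizer.π_desc _ _
  refine ⟨(coequalizer.desc _ hk : QuotSh.quot Scheme.fppfPrecoverage s t ⟶ k.pt), ?_, ?_⟩
  · change πy s t ≫ _ = _
    unfold πy
    rw [Category.assoc, h1, Iso.inv_hom_id_assoc]
  · intro m hm
    have hm' : πy s t ≫ m = k.π := hm
    have h2 : QuotSh.quotπ Scheme.fppfPrecoverage s t ≫ m =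
        QuotSh.quotπ Scheme.fppfPrecoverage s t ≫
          (coequalizer.desc _ hk : QuotSh.quot Scheme.fppfPrecoverage s t ⟶ k.pt) := by
      rw [h1, ← hm']
      unfold πy
      rw [Category.assoc, Iso.hom_inv_id_assoc]
    exact coequalizer.hom_ext h2

/-- `πy s t` is a coequalizer of `h_t` and `h_s` in fppf sheaves (flipped order). -/
noncomputable def isColimit_πy' :
    IsColimit (Cofork.ofπ (πy s t) (πy_condition s t).symm) := by
  refine Cofork.IsColimit.mk' _ (fun k => ?_)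
  have hk : QuotSh.repMap Scheme.fppfPrecoverage s ≫
      ((QuotSh.repIsoUliftYoneda Scheme.fppfPrecoverage U).hom ≫ k.π) =
      QuotSh.repMap Scheme.fppfPrecoverage t ≫
        ((QuotSh.repIsoUliftYoneda Scheme.fppfPrecoverage U).hom ≫ k.π) := by
    rw [← Category.assoc, ← Category.assoc, repIso_hom_naturality, repIso_hom_naturality,
      Category.assoc, Category.assoc, ← k.condition]
  have h1 : QuotSh.quotπ Scheme.fppfPrecoverage s t ≫
      (coequalizer.desc _ hk : QuotSh.quot Scheme.fppfPrecoverage s t ⟶ k.pt) =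
      (QuotSh.repIsoUliftYoneda Scheme.fppfPrecoverage U).hom ≫ k.π := coequalizer.π_desc _ _
  refine ⟨(coequalizer.desc _ hk : QuotSh.quot Scheme.fppfPrecoverage s t ⟶ k.pt), ?_, ?_⟩
  · change πy s t ≫ _ = _
    unfold πy
    rw [Category.assoc, h1, Iso.inv_hom_id_assoc]
  · intro m hm
    have hm' : πy s t ≫ m = k.π := hm
    have h2 : QuotSh.quotπ Scheme.fppfPrecoverage s t ≫ m =
        QuotSh.quotπ Scheme.fppfPrecoverage s t ≫
          (coequalizer.desc _ hk : QuotSh.quot Scheme.fppfPrecoverage s t ⟶ k.pt) := by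
      rw [h1, ← hm']
      unfold πy
      rw [Category.assoc, Iso.hom_inv_id_assoc]
    exact coequalizer.hom_ext h2

end Bridge

section LocalRel

variable {R U : Over S} (s t : R ⟶ U)

/-- the local relation property: points of `h_U` with the same class in `U/R` are locally related by points of `h_R`
(`r ≫ h_t = e ≫ a`, `r ≫ h_s = e ≫ b` for an epimorphism `e`). -/
def LR : Prop :=
  ∀ {W : AlgSp.Sp S} (a b : W ⟶ (AlgSp.yon S).obj U), a ≫ πy s t = b ≫ πy s t →
    Rho ((AlgSp.yon S).map t) ((AlgSp.yon S).map s) a b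

variable {s t}

/-- `LR` holds when the strict relation is an equivalence relation on representable points. -/
theorem lr_of_sig
    (hσ : ∀ T₀ : Over S, _root_.Equivalence
      (Sig ((AlgSp.yon S).map t) ((AlgSp.yon S).map s) (T := (AlgSp.yon S).obj T₀))) : LR s t := by
  intro W a b hab
  refine rho_of_comp_eq_of_generators IsRep hgen ?_ (πy s t) (πy_condition s t).symm ?_ a b hab
  · rintro T ⟨T₀, rfl⟩
    exact hσ T₀
  · exact isColimit_πy' s t

/-- the fppf-covering form of the local relation, for representable sources. -/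
theorem exists_fppf_rel (hLR : LR s t) {T : Over S} (a b : T ⟶ U)
    (hab : (AlgSp.yon S).map a ≫ πy s t = (AlgSp.yon S).map b ≫ πy s t) :
    ∃ R₁ ∈ Scheme.fppfPrecoverage T.left, ∀ ⦃Y : Scheme.{u}⦄ (f : Y ⟶ T.left), R₁ f →
      ∃ ρ : Over.mk (f ≫ T.hom) ⟶ R,
        ρ ≫ t = (Over.homMk f : Over.mk (f ≫ T.hom) ⟶ T) ≫ a ∧
        ρ ≫ s = (Over.homMk f : Over.mk (f ≫ T.hom) ⟶ T) ≫ b := by
  obtain ⟨W', e, he, r, h1, h2⟩ := hLR _ _ hab
  haveI : Sheaf.IsLocallySurjective e := (Sheaf.isLocallySurjective_iff_epi _).mpr he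
  obtain ⟨R₁, hR₁, hl⟩ := Groth.Agent.S9884.exists_fppf_lift e (𝟙 ((AlgSp.yon S).obj T))
  refine ⟨R₁, hR₁, fun Y f hf => ?_⟩
  obtain ⟨d, hd⟩ := hl f hf
  rw [Category.comp_id] at hd
  obtain ⟨ρ, hρ⟩ := (AlgSp.yon S).map_surjective (d ≫ r)
  refine ⟨ρ, ?_, ?_⟩
  · apply (AlgSp.yon S).map_injective
    rw [Functor.map_comp, hρ, Category.assoc, h1, ← Category.assoc, hd, Functor.map_comp]
  · apply (AlgSp.yon S).map_injective
    rw [Functor.map_comp, hρ, Category.assoc, h2, ← Category.assoc, hd, Functor.map_comp]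

end LocalRel

section Groupoid

variable (G : Grpd.GroupoidScheme S)

/-- source and target of a groupoid scheme, as morphisms over `S`. -/
abbrev sO : Over.mk G.pR ⟶ Over.mk G.pU := Over.homMk G.s G.s_over
/-- source and target of a groupoid scheme, as morphisms over `S`. -/
abbrev tO : Over.mk G.pR ⟶ Over.mk G.pU := Over.homMk G.t G.t_over

lemma e_over : G.e ≫ G.pR = G.pU := by
  have h : G.e ≫ (G.s ≫ G.pU) = G.pU := by rw [← Category.assoc, G.e_s, Category.id_comp]
  rw [G.s_over] at h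
  exact h

lemma i_over : G.i ≫ G.pR = G.pR := by
  have h : G.i ≫ (G.s ≫ G.pU) = G.t ≫ G.pU := by rw [← Category.assoc, G.i_s]
  rw [G.s_over, G.t_over] at h
  exact h

/-- the strict relation of a groupoid scheme is an equivalence relation on `T₀`-points. -/
lemma sig_equivalence (T₀ : Over S) : _root_.Equivalence
    (Sig ((AlgSp.yon S).map (tO G)) ((AlgSp.yon S).map (sO G)) (T := (AlgSp.yon S).obj T₀)) := by
  refine ⟨fun a => ?_, fun {a b} hab => ?_, fun {a b c} hab hbc => ?_⟩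
  · obtain ⟨α, rfl⟩ := (AlgSp.yon S).map_surjective a
    refine ⟨(AlgSp.yon S).map (α ≫ (Over.homMk G.e (e_over G) : Over.mk G.pU ⟶ Over.mk G.pR)), ?_, ?_⟩
    · rw [← Functor.map_comp]
      congr 1
      apply Over.OverMorphism.ext
      simp only [Over.comp_left, Over.homMk_left, Category.assoc, G.e_t]
      exact Category.comp_id _
    · rw [← Functor.map_comp]
      congr 1
      apply Over.OverMorphism.ext
      simp only [Over.comp_left, Over.homMk_left, Category.assoc, G.e_s]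
      exact Category.comp_id _
  · obtain ⟨r, h1, h2⟩ := hab
    refine ⟨r ≫ (AlgSp.yon S).map (Over.homMk G.i (i_over G) : Over.mk G.pR ⟶ Over.mk G.pR), ?_, ?_⟩
    · rw [Category.assoc, ← Functor.map_comp, ← h2]
      congr 2
      apply Over.OverMorphism.ext
      simp only [Over.comp_left, Over.homMk_left, G.i_t]
    · rw [Category.assoc, ← Functor.map_comp, ← h1]
      congr 2
      apply Over.OverMorphism.ext
      simp only [Over.comp_left, Over.homMk_left, G.i_s]
  · obtain ⟨r, h1, h2⟩ := hab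
    obtain ⟨r', h1', h2'⟩ := hbc
    obtain ⟨ρ, rfl⟩ := (AlgSp.yon S).map_surjective r
    obtain ⟨ρ', rfl⟩ := (AlgSp.yon S).map_surjective r'
    have h : ρ.left ≫ G.s = ρ'.left ≫ G.t := by
      have e1 : (AlgSp.yon S).map (ρ ≫ sO G) = (AlgSp.yon S).map (ρ' ≫ tO G) := by
        rw [Functor.map_comp, Functor.map_comp, h2, h1']
      have e2 := congrArg (fun m => m.left) ((AlgSp.yon S).map_injective e1)
      simpa only [Over.comp_left, Over.homMk_left] using e2
    have hw : (pullback.lift ρ.left ρ'.left h ≫ G.c) ≫ G.pR = T₀.hom := by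
      have e0 : (pullback.lift ρ.left ρ'.left h ≫ G.c) ≫ (G.s ≫ G.pU) = ρ'.left ≫ (G.s ≫ G.pU) := by
        rw [← Category.assoc, G.comp_s ρ.left ρ'.left h, Category.assoc]
      rw [G.s_over] at e0
      exact e0.trans (Over.w ρ')
    refine ⟨(AlgSp.yon S).map (Over.homMk (pullback.lift ρ.left ρ'.left h ≫ G.c) hw :
      T₀ ⟶ Over.mk G.pR), ?_, ?_⟩
    · rw [← Functor.map_comp, ← h1, ← Functor.map_comp]
      congr 1
      apply Over.OverMorphism.ext
      simp only [Over.comp_left, Over.homMk_left]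
      exact G.comp_t ρ.left ρ'.left h
    · rw [← Functor.map_comp, ← h2', ← Functor.map_comp]
      congr 1
      apply Over.OverMorphism.ext
      simp only [Over.comp_left, Over.homMk_left]
      exact G.comp_s ρ.left ρ'.left h

theorem lr_of_groupoidScheme : LR (sO G) (tO G) :=
  lr_of_sig (fun T₀ => sig_equivalence G T₀)

end Groupoid

section Restrict

variable {R U R' U' : Over S} {s t : R ⟶ U} {g : U' ⟶ U} {s' t' : R' ⟶ U'} {r : R' ⟶ R}
  {ψ : QuotSh.quot Scheme.fppfPrecoverage s' t' ⟶ QuotSh.quot Scheme.fppfPrecoverage s t}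

/-- the induced map on quotients of a restricted pre-relation with the local relation property is a monomorphism. -/
theorem mono_ψ (hsq : IsPullback (prod.lift t' s') r (prod.map g g) (prod.lift t s))
    (hLR : LR s t) (hψ' : πy s' t' ≫ ψ = (AlgSp.yon S).map g ≫ πy s t) : Mono ψ := by
  constructor
  intro W x y hxy
  obtain ⟨W₁, e, he, a, b, ha, hb⟩ :=
    ToposLike.exists_local_lift₂ (πy s' t') inferInstance x y
  have h1 : (a ≫ (AlgSp.yon S).map g) ≫ πy s t = (b ≫ (AlgSp.yon S).map g) ≫ πy s t := by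
    rw [Category.assoc, Category.assoc, ← hψ', ← Category.assoc, ← Category.assoc, ← ha, ← hb,
      Category.assoc, Category.assoc, hxy]
  obtain ⟨W₂, e₂, he₂, r₀, hr1, hr2⟩ := hLR _ _ h1
  have hsq' := hsq.map (AlgSp.yon S)
  have hcomp : yonProdLift (e₂ ≫ a) (e₂ ≫ b) ≫ (AlgSp.yon S).map (prod.map g g) =
      r₀ ≫ (AlgSp.yon S).map (prod.lift t s) := by
    apply yon_prod_hom_ext
    · rw [Category.assoc, Category.assoc, ← Functor.map_comp, ← Functor.map_comp, prod.map_fst,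
        prod.lift_fst, Functor.map_comp, ← Category.assoc, yonProdLift_fst, hr1, Category.assoc]
    · rw [Category.assoc, Category.assoc, ← Functor.map_comp, ← Functor.map_comp, prod.map_snd,
        prod.lift_snd, Functor.map_comp, ← Category.assoc, yonProdLift_snd, hr2, Category.assoc]
  have hl1 := hsq'.lift_fst _ _ hcomp
  set l := hsq'.lift _ _ hcomp with hl
  have hlt : l ≫ (AlgSp.yon S).map t' = e₂ ≫ a := by
    have := congrArg (fun m => m ≫ (AlgSp.yon S).map prod.fst) hl1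
    simp only [Category.assoc, ← Functor.map_comp, prod.lift_fst] at this
    rw [this, yonProdLift_fst]
  have hls : l ≫ (AlgSp.yon S).map s' = e₂ ≫ b := by
    have := congrArg (fun m => m ≫ (AlgSp.yon S).map prod.snd) hl1
    simp only [Category.assoc, ← Functor.map_comp, prod.lift_snd] at this
    rw [this, yonProdLift_snd]
  haveI := he
  haveI := he₂
  rw [← cancel_epi e, ← cancel_epi e₂, ha, hb, ← Category.assoc, ← Category.assoc, ← hlt, ← hls,
    Category.assoc, Category.assoc, πy_condition]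

end Restrict

section Main

/-- a sieve which contains, fppf-locally on the members of an fppf covering family, all arrows, is covering. -/
lemma mem_J_of_local {T' : Over S} (Sv : Sieve T') {κ : Type*} (Y : κ → Over S)
    (f : ∀ k, Y k ⟶ T')
    (hf : ∀ k, Flat (f k).left ∧ LocallyOfFinitePresentation (f k).left)
    (hs : ∀ w : T'.left, ∃ k, w ∈ Set.range (f k).left)
    (h : ∀ k, ∃ R₁ ∈ Scheme.fppfPrecoverage (Y k).left,
      ∀ ⦃Z : Scheme.{u}⦄ (m : Z ⟶ (Y k).left), R₁ m →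
        Sv ((Over.homMk m : Over.mk (m ≫ (Y k).hom) ⟶ Y k) ≫ f k)) : Sv ∈ AlgSp.J S T' := by
  refine (AlgSp.J S).transitive (ofArrows_mem_J' Y f hf hs) Sv ?_
  rintro Z f' ⟨W, h', g', ⟨k⟩, rfl⟩
  rw [Sieve.pullback_comp]
  apply (AlgSp.J S).pullback_stable
  obtain ⟨R₁, hR₁, hR⟩ := h k
  rw [GrothendieckTopology.mem_over_iff]
  refine GrothendieckTopology.superset_covering _ ?_ (Precoverage.generate_mem_toGrothendieck hR₁)
  rw [Sieve.generate_le_iff]
  intro Z m hm
  rw [Sieve.overEquiv_iff]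
  exact hR m hm

variable {R U R' U' : Over S} {s t : R ⟶ U} {g : U' ⟶ U} {s' t' : R' ⟶ U'} {r : R' ⟶ R}
  {ψ : QuotSh.quot Scheme.fppfPrecoverage s' t' ⟶ QuotSh.quot Scheme.fppfPrecoverage s t}

/-- a point of `U` whose class lies in the image of `ψ` lands in the saturation `Wo` of the image of `g`. -/
lemma mem_of_factor (hLR : LR s t) (hψ' : πy s' t' ≫ ψ = (AlgSp.yon S).map g ≫ πy s t)
    (Wo : U.left.Opens)
    (hW₁ : ∀ (Y : Over S) (u' : Y ⟶ U') (ρ : Y ⟶ R), u' ≫ g = ρ ≫ t →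
      ∀ y : Y.left, (ρ ≫ s).left y ∈ Wo)
    {P : Over S} (c : P ⟶ U)
    (η : (AlgSp.yon S).obj P ⟶ QuotSh.quot Scheme.fppfPrecoverage s' t')
    (hη : η ≫ ψ = (AlgSp.yon S).map c ≫ πy s t) (z : P.left) : c.left z ∈ Wo := by
  obtain ⟨R₁, hR₁, hlift⟩ := Groth.Agent.S9884.exists_fppf_lift (πy s' t') η
  obtain ⟨Y, g₁, hg₁, y, rfl⟩ := exists_mem_range_of_mem_fppf hR₁ z
  obtain ⟨d, hd⟩ := hlift g₁ hg₁
  obtain ⟨u', rfl⟩ := (AlgSp.yon S).map_surjective d
  set q : Over.mk (g₁ ≫ P.hom) ⟶ P := Over.homMk g₁ with hq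
  have h1 : (AlgSp.yon S).map (u' ≫ g) ≫ πy s t = (AlgSp.yon S).map (q ≫ c) ≫ πy s t := by
    rw [Functor.map_comp, Functor.map_comp, Category.assoc, Category.assoc, ← hη, ← hψ',
      ← Category.assoc, ← Category.assoc, hd]
  obtain ⟨R₂, hR₂, hrel⟩ := exists_fppf_rel hLR (u' ≫ g) (q ≫ c) h1
  obtain ⟨Y₂, f₂, hf₂, y₂, hy₂⟩ := exists_mem_range_of_mem_fppf hR₂ y
  obtain ⟨ρ, hρt, hρs⟩ := hrel f₂ hf₂
  have h2 := hW₁ _ ((Over.homMk f₂ : Over.mk (f₂ ≫ (Over.mk (g₁ ≫ P.hom)).hom) ⟶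
    Over.mk (g₁ ≫ P.hom)) ≫ u') ρ (by rw [Category.assoc, hρt]) y₂
  rw [hρs] at h2
  have h3 : ((Over.homMk f₂ : Over.mk (f₂ ≫ (Over.mk (g₁ ≫ P.hom)).hom) ⟶
      Over.mk (g₁ ≫ P.hom)) ≫ q ≫ c).left y₂ = c.left (g₁ y) := by
    simp only [Over.comp_left, Over.homMk_left, hq, Scheme.Hom.comp_apply]
    rw [hy₂]
  rw [h3] at h2
  exact h2

/-- if the saturation of the image of `U'` is the open `Wo` of `U` and `U' ×_U R ⟶ Wo` is fppf-locally surjective, the
map of quotient sheaves induced by the restriction is representable by open immersions. -/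
theorem repWith_isOpenImmersion_ψ
    (hsq : IsPullback (prod.lift t' s') r (prod.map g g) (prod.lift t s)) (hLR : LR s t)
    (hψ' : πy s' t' ≫ ψ = (AlgSp.yon S).map g ≫ πy s t)
    (Wo : U.left.Opens)
    (hW₁ : ∀ (Y : Over S) (u' : Y ⟶ U') (ρ : Y ⟶ R), u' ≫ g = ρ ≫ t →
      ∀ y : Y.left, (ρ ≫ s).left y ∈ Wo)
    (hW₂ : ∀ (Y : Over S) (b : Y ⟶ U), Set.range b.left ⊆ (Wo : Set U.left) →
      ∃ R₁ ∈ Scheme.fppfPrecoverage Y.left, ∀ ⦃Z : Scheme.{u}⦄ (m : Z ⟶ Y.left), R₁ m →
        ∃ (u' : Over.mk (m ≫ Y.hom) ⟶ U') (ρ : Over.mk (m ≫ Y.hom) ⟶ R), u' ≫ g = ρ ≫ t ∧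
          ρ ≫ s = (Over.homMk m : Over.mk (m ≫ Y.hom) ⟶ Y) ≫ b) :
    AlgSp.RepWith @IsOpenImmersion ψ := by
  haveI : Mono ψ := mono_ψ hsq hLR hψ'
  refine MorphismProperty.relative.of_exists (fun T ξ => ?_)
  obtain ⟨R₀, hR₀, hlift⟩ := Groth.Agent.S9884.exists_fppf_lift (πy s t) ξ
  have hlift' : ∀ (p : Σ Y : Scheme.{u}, {g₀ : Y ⟶ T.left // R₀ g₀}),
      ∃ a : Over.mk (p.2.1 ≫ T.hom) ⟶ U, (AlgSp.yon S).map a ≫ πy s t =
        (AlgSp.yon S).map (Over.homMk p.2.1 : Over.mk (p.2.1 ≫ T.hom) ⟶ T) ≫ ξ := by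
    intro p
    obtain ⟨d, hd⟩ := hlift p.2.1 p.2.2
    obtain ⟨a, rfl⟩ := (AlgSp.yon S).map_surjective d
    exact ⟨a, hd⟩
  choose a ha using hlift'
  let q₀ : ∀ p : (Σ Y : Scheme.{u}, {g₀ : Y ⟶ T.left // R₀ g₀}), Over.mk (p.2.1 ≫ T.hom) ⟶ T :=
    fun p => Over.homMk p.2.1
  let V : ∀ p : (Σ Y : Scheme.{u}, {g₀ : Y ⟶ T.left // R₀ g₀}), p.1.Opens :=
    fun p => (a p).left ⁻¹ᵁ Wo
  let Vo : (Σ Y : Scheme.{u}, {g₀ : Y ⟶ T.left // R₀ g₀}) → Over S :=
    fun p => Over.mk ((V p).ι ≫ p.2.1 ≫ T.hom)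
  let ιV : ∀ p, Vo p ⟶ Over.mk (p.2.1 ≫ T.hom) := fun p => Over.homMk (V p).ι rfl
  let n : ∀ p, Vo p ⟶ T := fun p => ιV p ≫ q₀ p
  have hn : ∀ p, Flat (n p).left ∧ LocallyOfFinitePresentation (n p).left := by
    intro p
    obtain ⟨h5, h6⟩ := flat_lfp_of_mem_fppf hR₀ p.2.1 p.2.2
    have e : (n p).left = (V p).ι ≫ p.2.1 := rfl
    rw [e]
    exact ⟨inferInstance, inferInstance⟩
  let T₀ : T.left.Opens := ⟨⋃ p, Set.range (n p).left, isOpen_iUnion (fun p => by
    obtain ⟨h1, h2⟩ := hn p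
    exact (n p).left.isOpenMap.isOpen_range)⟩
  let T₀o : Over S := Over.mk (T₀.ι ≫ T.hom)
  let ι₀ : T₀o ⟶ T := Over.homMk T₀.ι rfl
  -- points landing in `T₀` have their class in the image of `ψ`
  have E1 : ∀ (T' : Over S) (t₁ : T' ⟶ T), Set.range t₁.left ⊆ (T₀ : Set T.left) →
      ∃ η : (AlgSp.yon S).obj T' ⟶ QuotSh.quot Scheme.fppfPrecoverage s' t',
        η ≫ ψ = (AlgSp.yon S).map t₁ ≫ ξ := by
    intro T' t₁ hsub
    let Rcov : Sieve T' :=
      { arrows := fun Y f => ∃ η : (AlgSp.yon S).obj Y ⟶ QuotSh.quot Scheme.fppfPrecoverage s' t',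
          η ≫ ψ = (AlgSp.yon S).map f ≫ (AlgSp.yon S).map t₁ ≫ ξ
        downward_closed := by
          rintro Y Z f ⟨η, hη⟩ h
          exact ⟨(AlgSp.yon S).map h ≫ η, by rw [Category.assoc, hη, Functor.map_comp, Category.assoc]⟩ }
    have hcov : Rcov ∈ AlgSp.J S T' := by
      refine mem_J_of_local Rcov (fun p => pullback t₁ (n p)) (fun p => pullback.fst t₁ (n p))
        (fun p => ?_) (fun x' => ?_) (fun p => ?_)
      · obtain ⟨h1, h2⟩ := hn p
        exact flat_lfp_pullback_fst t₁ (n p)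
      · have hx : t₁.left x' ∈ (T₀ : Set T.left) := hsub ⟨x', rfl⟩
        obtain ⟨p, z, hz⟩ := Set.mem_iUnion.1 hx
        obtain ⟨w, hw1, -⟩ := exists_point_pullback t₁ (n p) x' z hz.symm
        exact ⟨p, w, hw1⟩
      · have hb : Set.range (pullback.snd t₁ (n p) ≫ ιV p ≫ a p).left ⊆ (Wo : Set U.left) := by
          rintro _ ⟨y, rfl⟩
          have e : (pullback.snd t₁ (n p) ≫ ιV p ≫ a p).left y =
              (a p).left ((V p).ι ((pullback.snd t₁ (n p)).left y)) := by
            simp only [Over.comp_left, Scheme.Hom.comp_apply, ιV, Over.homMk_left]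
          rw [e]
          exact ((pullback.snd t₁ (n p)).left y).2
        obtain ⟨R₁, hR₁, hR⟩ := hW₂ _ _ hb
        refine ⟨R₁, hR₁, fun Z m hm => ?_⟩
        obtain ⟨u', ρ, h1, h2⟩ := hR m hm
        refine ⟨(AlgSp.yon S).map u' ≫ πy s' t', ?_⟩
        set mo : Over.mk (m ≫ (pullback t₁ (n p)).hom) ⟶ pullback t₁ (n p) := Over.homMk m with hmo
        have c1 : ((AlgSp.yon S).map u' ≫ πy s' t') ≫ ψ =
            (AlgSp.yon S).map (mo ≫ pullback.snd t₁ (n p) ≫ ιV p ≫ a p) ≫ πy s t := by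
          rw [Category.assoc, hψ', ← Category.assoc, ← Functor.map_comp, h1, Functor.map_comp,
            Category.assoc, ← πy_condition, ← Category.assoc, ← Functor.map_comp, h2]
        have c2 : (AlgSp.yon S).map (mo ≫ pullback.snd t₁ (n p) ≫ ιV p ≫ a p) ≫ πy s t =
            (AlgSp.yon S).map (mo ≫ pullback.snd t₁ (n p) ≫ n p) ≫ ξ := by
          have e1 : mo ≫ pullback.snd t₁ (n p) ≫ ιV p ≫ a p =
              (mo ≫ pullback.snd t₁ (n p) ≫ ιV p) ≫ a p := by simp only [Category.assoc]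
          have e2 : mo ≫ pullback.snd t₁ (n p) ≫ n p =
              (mo ≫ pullback.snd t₁ (n p) ≫ ιV p) ≫ q₀ p := by simp only [Category.assoc, n]
          rw [e1, e2, Functor.map_comp, Category.assoc, ha p, ← Category.assoc, ← Functor.map_comp]
        rw [c1, c2, ← pullback.condition, ← Category.assoc, Functor.map_comp, Functor.map_comp,
          Category.assoc, Category.assoc]
    exact exists_factor_of_sieve ψ _ Rcov hcov (fun Y f hf => hf)
  -- conversely
  have E2 : ∀ (T' : Over S) (t₁ : T' ⟶ T)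
      (η : (AlgSp.yon S).obj T' ⟶ QuotSh.quot Scheme.fppfPrecoverage s' t'),
      η ≫ ψ = (AlgSp.yon S).map t₁ ≫ ξ → Set.range t₁.left ⊆ (T₀ : Set T.left) := by
    rintro T' t₁ η hη _ ⟨x', rfl⟩
    obtain ⟨Y, g₀, hg₀, y, hy⟩ := exists_mem_range_of_mem_fppf hR₀ (t₁.left x')
    let p : Σ Y : Scheme.{u}, {g₀ : Y ⟶ T.left // R₀ g₀} := ⟨Y, g₀, hg₀⟩
    obtain ⟨z, hz1, hz2⟩ := exists_point_pullback t₁ (q₀ p) x' y hy.symm
    have hc : ((AlgSp.yon S).map (pullback.fst t₁ (q₀ p)) ≫ η) ≫ ψ =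
        (AlgSp.yon S).map (pullback.snd t₁ (q₀ p) ≫ a p) ≫ πy s t := by
      rw [Category.assoc, hη, ← Category.assoc, ← Functor.map_comp, pullback.condition,
        Functor.map_comp, Category.assoc, ← ha p, ← Category.assoc, ← Functor.map_comp]
    have hmem := mem_of_factor hLR hψ' Wo hW₁ _ _ hc z
    have hy' : (a p).left y ∈ Wo := by
      have e : (pullback.snd t₁ (q₀ p) ≫ a p).left z = (a p).left y := by
        rw [Over.comp_left, Scheme.Hom.comp_apply, hz2]
      rw [← e]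
      exact hmem
    refine Set.mem_iUnion.2 ⟨p, ⟨⟨y, hy'⟩, ?_⟩⟩
    have e : (n p).left = (V p).ι ≫ g₀ := rfl
    rw [e, Scheme.Hom.comp_apply]
    exact hy
  obtain ⟨η₀, hη₀⟩ := E1 T₀o ι₀ (by
    rintro _ ⟨x, rfl⟩
    exact x.2)
  refine ⟨T₀o, η₀, ι₀, ?_, (inferInstance : IsOpenImmersion T₀.ι)⟩
  refine isPullback_of_yon hη₀ ?_
  intro T' b c hbc
  obtain ⟨t₁, rfl⟩ := (AlgSp.yon S).map_surjective c
  have hsub := E2 T' t₁ b hbc
  have hsub' : Set.range t₁.left ⊆ Set.range T₀.ι := by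
    rw [Scheme.Opens.range_ι]
    exact hsub
  let t₀ : T' ⟶ T₀o := Over.homMk (IsOpenImmersion.lift T₀.ι t₁.left hsub') (by
    simp only [T₀o, Over.mk_hom]
    rw [← Category.assoc, IsOpenImmersion.lift_fac, Over.w])
  have ht₀ : t₀ ≫ ι₀ = t₁ := by
    apply Over.OverMorphism.ext
    simp only [Over.comp_left, t₀, ι₀, Over.homMk_left]
    exact IsOpenImmersion.lift_fac _ _ _
  haveI : Mono ι₀ := by
    haveI : Mono ((Over.forget S).map ι₀) := by
      change Mono T₀.ι
      infer_instance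
    exact (Over.forget S).mono_of_mono_map inferInstance
  refine ⟨(AlgSp.yon S).map t₀, ⟨?_, ?_⟩, ?_⟩
  · rw [← cancel_mono ψ, Category.assoc, hη₀, ← Category.assoc, ← Functor.map_comp, ht₀, hbc]
  · rw [← Functor.map_comp, ht₀]
  · rintro a' ⟨-, ha2⟩
    obtain ⟨t₂, rfl⟩ := (AlgSp.yon S).map_surjective a'
    congr 1
    rw [← cancel_mono ι₀, ht₀]
    apply (AlgSp.yon S).map_injective
    rw [Functor.map_comp, ha2]

end Main

end Groth.Agent.R2.H84.GpdQuotOpen
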