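import Mathlib
import Groth.Prelude.Def_AlgSp
import Groth.Prelude.Def_Grpd
import Groth.Agent.R2.H43Quot
import Groth.Agent.R2.H84GpdQuotOpen
import Groth.Agent.S9885

/-!
# PROJ:fppf-boot (helper84), part C: maps of quotient sheaves induced by restrictions

For `s t : R ⟶ U`, `s' t' : R' ⟶ U'` over `S`, `g : U' ⟶ U`, `r : R' ⟶ R` compatible:

* `isPullback_prod_of_left`: the cartesian square `R' = R ×_{U × U} (U' × U')` in `Over S`, from
  existence and uniqueness of lifts on scheme-valued points;
* `quotMap hs ht : U'/R' ⟶ U/R` with `πy_quotMap`, `quotπ_quotMap`;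
* `isIso_quotMap`: for a restriction along an fppf cover `g`, `U'/R' ≅ U/R`;
* `repWith_isOpenImmersion_quotMap`: for `g` flat lfp (helper43's lemma).
-/

set_option autoImplicit false
set_option linter.unusedSectionVars false
set_option linter.style.haveILetI false
universe u

open CategoryTheory CategoryTheory.Limits AlgebraicGeometry Opposite
open AlgSp

namespace Groth.Agent.R2.H84.FppfBootC

open Groth.Agent.R2.H43.Quot Groth.Agent.R2.H84.GpdQuotOpen

variable {S : Scheme.{u}}

/-- fppf coverings of schemes give epimorphisms of sheaves. -/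
lemma epi_yon_map {U M : Over S} (q : U ⟶ M) [Flat q.left] [Surjective q.left]
    [LocallyOfFinitePresentation q.left] : Epi ((AlgSp.yon S).map q) := by
  haveI := Groth.Agent.S9885.isLocallySurjective_of_repWith ((AlgSp.yon S).map q)
    ((AlgSp.repWith_yon_map_iff _ _).2 (inferInstance : Flat q.left))
    ((AlgSp.repWith_yon_map_iff _ _).2 (inferInstance : LocallyOfFinitePresentation q.left))
    ((AlgSp.repWith_yon_map_iff _ _).2 (inferInstance : Surjective q.left))
  exact (Sheaf.isLocallySurjective_iff_epi ((AlgSp.yon S).map q)).1 inferInstance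

variable {R U R' U' : Over S} {s t : R ⟶ U} {g : U' ⟶ U} {s' t' : R' ⟶ U'} {r : R' ⟶ R}

/-- the cartesian square `R' = R ×_{U × U} (U' × U')` in `Over S` from lifting of scheme points. -/
theorem isPullback_prod_of_left (hs : r ≫ s = s' ≫ g) (ht : r ≫ t = t' ≫ g)
    (hlift : ∀ {T : Scheme.{u}} (b : T ⟶ R.left) (x y : T ⟶ U'.left),
      b ≫ s.left = x ≫ g.left → b ≫ t.left = y ≫ g.left →
      ∃ l : T ⟶ R'.left, l ≫ r.left = b ∧ l ≫ s'.left = x ∧ l ≫ t'.left = y)
    (hext : ∀ {T : Scheme.{u}} (l l' : T ⟶ R'.left), l ≫ r.left = l' ≫ r.left →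
      l ≫ s'.left = l' ≫ s'.left → l ≫ t'.left = l' ≫ t'.left → l = l') :
    IsPullback (prod.lift t' s') r (prod.map g g) (prod.lift t s) := by
  have hw : prod.lift t' s' ≫ prod.map g g = r ≫ prod.lift t s := by
    apply Limits.prod.hom_ext
    · rw [Category.assoc, prod.map_fst, prod.lift_fst_assoc, Category.assoc, prod.lift_fst, ht]
    · rw [Category.assoc, prod.map_snd, prod.lift_snd_assoc, Category.assoc, prod.lift_snd, hs]
  have hc : ∀ (c : PullbackCone (prod.map g g) (prod.lift t s)),
      c.snd ≫ s = (c.fst ≫ prod.snd) ≫ g ∧ c.snd ≫ t = (c.fst ≫ prod.fst) ≫ g := by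
    intro c
    constructor
    · have := c.condition =≫ prod.snd
      rw [Category.assoc, prod.map_snd, Category.assoc, prod.lift_snd] at this
      rw [Category.assoc]; exact this.symm
    · have := c.condition =≫ prod.fst
      rw [Category.assoc, prod.map_fst, Category.assoc, prod.lift_fst] at this
      rw [Category.assoc]; exact this.symm
  have hl : ∀ (c : PullbackCone (prod.map g g) (prod.lift t s)),
      ∃ l : c.pt ⟶ R', l ≫ r = c.snd ∧ l ≫ s' = c.fst ≫ prod.snd ∧ l ≫ t' = c.fst ≫ prod.fst := by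
    intro c
    obtain ⟨l, h1, h2, h3⟩ := hlift c.snd.left (c.fst ≫ prod.snd).left (c.fst ≫ prod.fst).left
      (by rw [← Over.comp_left, ← Over.comp_left, (hc c).1])
      (by rw [← Over.comp_left, ← Over.comp_left, (hc c).2])
    have hlw : l ≫ R'.hom = c.pt.hom := by
      rw [← Over.w r, ← Category.assoc, h1]; exact Over.w c.snd
    refine ⟨Over.homMk l hlw, ?_, ?_, ?_⟩
    · apply Over.OverMorphism.ext; exact h1
    · apply Over.OverMorphism.ext; exact h2
    · apply Over.OverMorphism.ext; exact h3
  refine ⟨⟨hw⟩, ⟨PullbackCone.IsLimit.mk _ (fun c => (hl c).choose) (fun c => ?_) (fun c => ?_)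
    (fun c m h1 h2 => ?_)⟩⟩
  · obtain ⟨-, h2, h3⟩ := (hl c).choose_spec
    apply Limits.prod.hom_ext
    · rw [Category.assoc, prod.lift_fst, h3]
    · rw [Category.assoc, prod.lift_snd, h2]
  · exact (hl c).choose_spec.1
  · obtain ⟨k1, k2, k3⟩ := (hl c).choose_spec
    apply Over.OverMorphism.ext
    apply hext
    · rw [← Over.comp_left, ← Over.comp_left, h2, k1]
    · rw [← Over.comp_left, ← Over.comp_left, k2, ← h1, Category.assoc, prod.lift_snd]
    · rw [← Over.comp_left, ← Over.comp_left, k3, ← h1, Category.assoc, prod.lift_fst]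

/-- the map of quotient sheaves induced by a morphism of pre-relations. -/
noncomputable def quotMap (hs : r ≫ s = s' ≫ g) (ht : r ≫ t = t' ≫ g) :
    QuotSh.quot Scheme.fppfPrecoverage s' t' ⟶ QuotSh.quot Scheme.fppfPrecoverage s t :=
  (isColimit_πy s' t').desc (Cofork.ofπ ((AlgSp.yon S).map g ≫ πy s t) (by
    rw [← Category.assoc, ← Category.assoc, ← Functor.map_comp, ← Functor.map_comp, ← hs, ← ht,
      Functor.map_comp, Functor.map_comp, Category.assoc, Category.assoc, πy_condition]))

lemma πy_quotMap (hs : r ≫ s = s' ≫ g) (ht : r ≫ t = t' ≫ g) :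
    πy s' t' ≫ quotMap hs ht = (AlgSp.yon S).map g ≫ πy s t :=
  (isColimit_πy s' t').fac _ WalkingParallelPair.one

lemma quotπ_quotMap (hs : r ≫ s = s' ≫ g) (ht : r ≫ t = t' ≫ g) :
    QuotSh.quotπ Scheme.fppfPrecoverage s' t' ≫ quotMap hs ht =
      QuotSh.repMap Scheme.fppfPrecoverage g ≫ QuotSh.quotπ Scheme.fppfPrecoverage s t := by
  have h := πy_quotMap hs ht
  unfold πy at h
  rw [Category.assoc] at h
  rw [← cancel_epi (QuotSh.repIsoUliftYoneda Scheme.fppfPrecoverage U').inv, h,
    ← Category.assoc, repIso_inv_naturality, Category.assoc]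

/-- restriction along an fppf cover induces an isomorphism of quotient sheaves. -/
theorem isIso_quotMap (hs : r ≫ s = s' ≫ g) (ht : r ≫ t = t' ≫ g)
    (hsq : IsPullback (prod.lift t' s') r (prod.map g g) (prod.lift t s))
    (hR : AlgSp.IsEqvRel s t) [Flat g.left] [Surjective g.left]
    [LocallyOfFinitePresentation g.left] : IsIso (quotMap hs ht) := by
  have hmono : Mono (quotMap hs ht) := mono_φ hsq hR (πy_quotMap hs ht)
  haveI : Epi ((AlgSp.yon S).map g) := epi_yon_map g
  haveI : Epi (πy s' t' ≫ quotMap hs ht) := by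
    rw [πy_quotMap]; infer_instance
  haveI : Epi (quotMap hs ht) := epi_of_epi (πy s' t') (quotMap hs ht)
  exact Groth.Agent.Lib.Helper9.ToposLike.isIso_of_mono_of_epi _ hmono inferInstance

/-- restriction along a flat lfp morphism induces an open immersion of quotient sheaves. -/
theorem repWith_isOpenImmersion_quotMap (hs : r ≫ s = s' ≫ g) (ht : r ≫ t = t' ≫ g)
    (hsq : IsPullback (prod.lift t' s') r (prod.map g g) (prod.lift t s))
    (hR : AlgSp.IsEqvRel s t) [Flat t.left] [LocallyOfFinitePresentation t.left] [Flat g.left]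
    [LocallyOfFinitePresentation g.left] : AlgSp.RepWith @IsOpenImmersion (quotMap hs ht) :=
  repWith_isOpenImmersion_φ hsq hR (πy_quotMap hs ht)

end Groth.Agent.R2.H84.FppfBootC
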