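import Mathlib
import Groth.Prelude.Def_Grpd
import Groth.Prelude.Def_AlgSp
import Groth.Agent.R2.H14QFinQuot
import Groth.Agent.R2.H84SubQuot
import Groth.Agent.R2.H84FiniteAffine
import Groth.Agent.S5690

/-!
# The quotient of `R` by the two-sided action of a subgroupoid `P` (helper84)

`K = {(r, v', u') : π t r = π v', π s r = π u'}` with `pr = r` and
`act = p(t r, v') ∘ r ∘ p(u', s r)` is an equivalence relation on `R`, finite locally free
when `π` is; its quotient (S5690) gives the `QData`.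
-/

set_option autoImplicit false
set_option linter.unusedSectionVars false
set_option linter.style.haveILetI false
universe u

open CategoryTheory CategoryTheory.Limits AlgebraicGeometry

namespace Groth.Agent.R2.H84.SubQuotK

open Groth.Agent.Lib.Helper2 Groth.Agent.R2.H84.GrpdPt Groth.Agent.R2.H84.SubQuot
  Groth.Agent.R2.H14.QFinQuot

variable {S : Scheme.{u}} {G : Grpd.GroupoidScheme S} (D : Data G) {T T' : Scheme.{u}}

/-- `K = R ×_{Ū × Ū} (U × U)` as an iterated fibre product. -/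
noncomputable abbrev K : Scheme.{u} :=
  pullback (pullback.fst (G.t ≫ D.π) D.π ≫ G.s ≫ D.π) D.π

/-- the projection to `R`. -/
noncomputable def kr : K D ⟶ G.R := pullback.fst _ _ ≫ pullback.fst _ _

/-- the new target. -/
noncomputable def kv : K D ⟶ G.U := pullback.fst _ _ ≫ pullback.snd _ _

/-- the new source. -/
noncomputable def ku : K D ⟶ G.U := pullback.snd _ _

lemma kr_t : (kr D ≫ G.t) ≫ D.π = kv D ≫ D.π := by
  unfold kr kv
  simp only [Category.assoc]
  rw [pullback.condition]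

lemma kr_s : ku D ≫ D.π = (kr D ≫ G.s) ≫ D.π := by
  unfold kr ku
  simp only [Category.assoc]
  exact pullback.condition.symm

/-- a point of `K`. -/
noncomputable def kLift (r : T ⟶ G.R) (v u : T ⟶ G.U) (hv : (r ≫ G.t) ≫ D.π = v ≫ D.π)
    (hu : u ≫ D.π = (r ≫ G.s) ≫ D.π) : T ⟶ K D :=
  pullback.lift (pullback.lift r v (by simpa only [Category.assoc] using hv)) u
    (by rw [pullback.lift_fst_assoc]; simpa only [Category.assoc] using hu.symm)

@[reassoc (attr := simp)]
lemma kLift_kr (r : T ⟶ G.R) (v u : T ⟶ G.U) (hv : (r ≫ G.t) ≫ D.π = v ≫ D.π)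
    (hu : u ≫ D.π = (r ≫ G.s) ≫ D.π) : kLift D r v u hv hu ≫ kr D = r := by
  unfold kLift kr
  rw [pullback.lift_fst_assoc, pullback.lift_fst]

@[reassoc (attr := simp)]
lemma kLift_kv (r : T ⟶ G.R) (v u : T ⟶ G.U) (hv : (r ≫ G.t) ≫ D.π = v ≫ D.π)
    (hu : u ≫ D.π = (r ≫ G.s) ≫ D.π) : kLift D r v u hv hu ≫ kv D = v := by
  unfold kLift kv
  rw [pullback.lift_fst_assoc, pullback.lift_snd]

@[reassoc (attr := simp)]
lemma kLift_ku (r : T ⟶ G.R) (v u : T ⟶ G.U) (hv : (r ≫ G.t) ≫ D.π = v ≫ D.π)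
    (hu : u ≫ D.π = (r ≫ G.s) ≫ D.π) : kLift D r v u hv hu ≫ ku D = u := by
  unfold kLift ku
  rw [pullback.lift_snd]

lemma k_ext (k k' : T ⟶ K D) (hr : k ≫ kr D = k' ≫ kr D) (hv : k ≫ kv D = k' ≫ kv D)
    (hu : k ≫ ku D = k' ≫ ku D) : k = k' := by
  unfold kr at hr
  unfold kv at hv
  unfold ku at hu
  apply pullback.hom_ext
  · apply pullback.hom_ext
    · simpa only [Category.assoc] using hr
    · simpa only [Category.assoc] using hv
  · exact hu

/-- the action arrow on the universal point. -/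
noncomputable def actF : (Pt.mk (ku D) : Pt G (K D)) ⟶ (Pt.mk (kv D) : Pt G (K D)) :=
  pa D (y := ⟨kr D ≫ G.s⟩) (kr_s D) ≫ homOf G (kr D) ≫ pa D (x := ⟨kr D ≫ G.t⟩) (kr_t D)

/-- the action map `K ⟶ R`. -/
noncomputable def act : K D ⟶ G.R := (actF D).ar

@[reassoc (attr := simp)]
lemma act_s : act D ≫ G.s = ku D := (actF D).hs

@[reassoc (attr := simp)]
lemma act_t : act D ≫ G.t = kv D := (actF D).ht

lemma pre_act (k : T ⟶ K D) {X Y : Pt G T} (hX : X.pt = k ≫ ku D) (hY : Y.pt = k ≫ kv D)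
    (h₁ : X.pt ≫ D.π = ((k ≫ kr D) ≫ G.s) ≫ D.π) (h₂ : ((k ≫ kr D) ≫ G.t) ≫ D.π = Y.pt ≫ D.π) :
    k ≫ act D = (pa D (x := X) (y := ⟨(k ≫ kr D) ≫ G.s⟩) h₁ ≫ homOf G (k ≫ kr D) ≫
      pa D (x := ⟨(k ≫ kr D) ≫ G.t⟩) (y := Y) h₂).ar := by
  unfold act actF
  change ((GrpdPt.pre k).map _).ar = _
  rw [Functor.map_comp, Functor.map_comp]
  refine ar_comp_congr _ _ _ _ ?_ (ar_comp_congr _ _ _ _ rfl ?_)
  · rw [pa_ar, pre_map_ar, pa_ar, pre_pAr]
    exact pAr_congr D _ hX.symm (Category.assoc _ _ _).symm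
  · rw [pa_ar, pre_map_ar, pa_ar, pre_pAr]
    exact pAr_congr D _ (Category.assoc _ _ _).symm hY.symm

/-- the relation defined by `K` is `Rel`. -/
lemma exists_k_iff (x y : T ⟶ G.R) :
    (∃ k : T ⟶ K D, k ≫ act D = x ∧ k ≫ kr D = y) ↔ Rel D y x := by
  constructor
  · rintro ⟨k, rfl, rfl⟩
    have h₁ : (k ≫ ku D) ≫ D.π = ((k ≫ kr D) ≫ G.s) ≫ D.π := by
      simp only [Category.assoc]; rw [kr_s D]; simp only [Category.assoc]
    have h₂ : ((k ≫ kr D) ≫ G.t) ≫ D.π = (k ≫ kv D) ≫ D.π := by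
      simp only [Category.assoc]; rw [← kr_t D]; simp only [Category.assoc]
    rw [pre_act D k (X := ⟨k ≫ ku D⟩) (Y := ⟨k ≫ kv D⟩) rfl rfl h₁ h₂]
    exact Rel.mk D (homOf G (k ≫ kr D)) h₁ h₂
  · rintro ⟨X, X', Y, Y', f, f', h₁, h₂, rfl, rfl, e⟩
    have hv : (f.ar ≫ G.t) ≫ D.π = Y'.pt ≫ D.π := by rw [f.ht]; exact h₂
    have hu : X'.pt ≫ D.π = (f.ar ≫ G.s) ≫ D.π := by rw [f.hs]; exact h₁
    refine ⟨kLift D f.ar Y'.pt X'.pt hv hu, ?_, kLift_kr D _ _ _ _ _⟩
    rw [pre_act D _ (X := X') (Y := Y') (kLift_ku D _ _ _ _ _).symm (kLift_kv D _ _ _ _ _).symm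
      (by rw [kLift_kr]; exact hu) (by rw [kLift_kr]; exact hv), e]
    refine ar_comp_congr _ _ _ _ ?_ (ar_comp_congr _ _ _ _ ?_ ?_)
    · exact pa_ar_congr D _ _ rfl (by rw [kLift_kr]; exact f.hs)
    · rw [homOf_ar, kLift_kr]
    · exact pa_ar_congr D _ _ (by rw [kLift_kr]; exact f.ht) rfl

/-! ### The equivalence relation over `S` -/

variable (m : D.Ubar ⟶ S) (hm : D.π ≫ m = G.pU)

include hm in
lemma act_pR : act D ≫ G.pR = kr D ≫ G.pR := by
  calc act D ≫ G.pR = (act D ≫ G.t) ≫ G.pU := by rw [Category.assoc, G.t_over]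
    _ = (kv D ≫ D.π) ≫ m := by rw [act_t, Category.assoc, hm]
    _ = ((kr D ≫ G.t) ≫ D.π) ≫ m := by rw [kr_t]
    _ = kr D ≫ G.pR := by simp only [Category.assoc, hm, G.t_over]

/-- the projection `K ⟶ R` over `S`. -/
noncomputable abbrev prK' : (Over.mk (kr D ≫ G.pR) : Over S) ⟶ Over.mk G.pR :=
  Over.homMk (kr D) rfl

/-- the action `K ⟶ R` over `S`. -/
noncomputable abbrev actK' : (Over.mk (kr D ≫ G.pR) : Over S) ⟶ Over.mk G.pR :=
  Over.homMk (act D) (act_pR D m hm)

theorem isEqvRel_K : AlgSp.IsEqvRel (prK' D) (actK' D m hm) where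
  injective T k k' ht hs := by
    apply Over.OverMorphism.ext
    have ht' : k.left ≫ act D = k'.left ≫ act D := congrArg CommaMorphism.left ht
    have hs' : k.left ≫ kr D = k'.left ≫ kr D := congrArg CommaMorphism.left hs
    apply k_ext D _ _ hs'
    · rw [← act_t D, reassoc_of% ht']
    · rw [← act_s D, reassoc_of% ht']
  equivalence T := by
    have key : ∀ a b : T ⟶ Over.mk G.pR,
        (∃ r : T ⟶ Over.mk (kr D ≫ G.pR), r ≫ actK' D m hm = a ∧ r ≫ prK' D = b) ↔
          Rel D b.left a.left := by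
      intro a b
      rw [← exists_k_iff]
      constructor
      · rintro ⟨r, rfl, rfl⟩
        exact ⟨r.left, rfl, rfl⟩
      · rintro ⟨k, h1, h2⟩
        refine ⟨Over.homMk k ?_, ?_, ?_⟩
        · change k ≫ kr D ≫ G.pR = T.hom
          rw [reassoc_of% h2]
          exact Over.w b
        · apply Over.OverMorphism.ext
          exact h1
        · apply Over.OverMorphism.ext
          exact h2
    exact ⟨fun a => (key a a).mpr (Rel.refl D _),
      fun {a b} h => (key b a).mpr (Rel.symm D ((key a b).mp h)),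
      fun {a b c} h h' => (key a c).mpr (Rel.trans D ((key b c).mp h') ((key a b).mp h))⟩

/-- if `K` is the kernel pair of `q`, then `q` identifies exactly the `Rel`-related points. -/
lemma hq_of_iso {Y : Scheme.{u}} (q : G.R ⟶ Y) (w : kr D ≫ q = act D ≫ q)
    (hiso : IsIso (pullback.lift (act D) (kr D) w.symm)) (a a' : T ⟶ G.R) :
    a ≫ q = a' ≫ q ↔ Rel D a a' := by
  rw [← exists_k_iff]
  have hφ1 : pullback.lift (act D) (kr D) w.symm ≫ pullback.fst q q = act D :=
    pullback.lift_fst _ _ _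
  have hφ2 : pullback.lift (act D) (kr D) w.symm ≫ pullback.snd q q = kr D :=
    pullback.lift_snd _ _ _
  constructor
  · intro h
    have e1 : inv (pullback.lift (act D) (kr D) w.symm) ≫ act D = pullback.fst q q := by
      rw [IsIso.inv_comp_eq]
      exact hφ1.symm
    have e2 : inv (pullback.lift (act D) (kr D) w.symm) ≫ kr D = pullback.snd q q := by
      rw [IsIso.inv_comp_eq]
      exact hφ2.symm
    refine ⟨pullback.lift a' a h.symm ≫ inv (pullback.lift (act D) (kr D) w.symm), ?_, ?_⟩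
    · rw [Category.assoc, e1, pullback.lift_fst]
    · rw [Category.assoc, e2, pullback.lift_snd]
  · rintro ⟨k, rfl, rfl⟩
    rw [Category.assoc, Category.assoc, w]

include hm in
/-- the quotient of `R` by the two-sided action of the subgroupoid. -/
theorem exists_quot_R [IsAffine G.U] [IsSeparated G.j] [LocallyQuasiFinite G.j]
    [LocallyOfFiniteType G.j] [IsFinite D.π] [Flat D.π] [LocallyOfFinitePresentation D.π] :
    ∃ (Rbar : Scheme.{u}) (q : G.R ⟶ Rbar), Flat q ∧ Surjective q ∧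
      LocallyOfFinitePresentation q ∧ IsFinite q ∧
      ∀ {T : Scheme.{u}} (a a' : T ⟶ G.R), a ≫ q = a' ≫ q ↔ Rel D a a' := by
  let KG := ofEqvRel (isEqvRel_K D m hm)
  haveI : IsFinite KG.s := by
    change IsFinite (kr D); unfold kr; infer_instance
  haveI : Flat KG.s := by
    change Flat (kr D); unfold kr; infer_instance
  haveI : LocallyOfFinitePresentation KG.s := by
    change LocallyOfFinitePresentation (kr D); unfold kr; infer_instance
  have haff : ∀ x : ↥KG.U, ∃ V : KG.U.Opens, IsAffineOpen V ∧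
      KG.t.base '' (KG.s.base ⁻¹' {x}) ⊆ (V : Set ↥KG.U) := by
    intro x
    have hF : (KG.t.base '' (KG.s.base ⁻¹' {x})).Finite :=
      (Scheme.Hom.finite_preimage_singleton KG.s x).image _
    exact FiniteAffine.exists_isAffineOpen_of_finite
      (G.j ≫ pullback.mapDesc G.pU G.pU (terminal.from S)) _ hF
  obtain ⟨Y, q, w, -, -, -, hsurj, -, hmono⟩ := Groth.Agent.S5690.result KG haff
  obtain ⟨hfin, hflat, hlfp, hiso⟩ := hmono (mono_j _)
  exact ⟨Y, q, hflat, hsurj, hlfp, hfin, fun {T} a a' => hq_of_iso D q w hiso a a'⟩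

end Groth.Agent.R2.H84.SubQuotK
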