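import Mathlib
import Groth.Prelude.Def_Grpd
import Groth.Prelude.Def_AlgSp
import Groth.Agent.R2.H14QFinQuot
import Groth.Agent.R2.H84SubQuot
import Groth.Agent.S1877
import Groth.Agent.S1878
import Groth.Agent.S7488

/-!
# The quotient `U/P` by a finite locally free subgroupoid with `j|_P` mono (helper84)

The subgroupoid `P ⟶ R` is an equivalence relation on `U`; with `U` affine and `s|_P`, `t|_P`
finite locally free, S1877/S7488/S1878 give the quotient `π : U ⟶ Ū = Spec C`.
-/

set_option autoImplicit false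
set_option linter.unusedSectionVars false
set_option linter.style.haveILetI false
universe u

open CategoryTheory CategoryTheory.Limits AlgebraicGeometry

namespace Groth.Agent.R2.H84.SubQuotP

open Groth.Agent.Lib.Helper2 Groth.Agent.R2.H84.SubQuot Groth.Agent.R2.H14.QFinQuot

variable {S : Scheme.{u}} (G : Grpd.GroupoidScheme S) {P : Scheme.{u}} (ιP : P ⟶ G.R)

/-- the source of the subgroupoid, over `S`. -/
abbrev sP' : (Over.mk (ιP ≫ G.pR) : Over S) ⟶ Over.mk G.pU :=
  Over.homMk (ιP ≫ G.s) ((Category.assoc _ _ _).trans (congrArg (ιP ≫ ·) G.s_over))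

/-- the target of the subgroupoid, over `S`. -/
abbrev tP' : (Over.mk (ιP ≫ G.pR) : Over S) ⟶ Over.mk G.pU :=
  Over.homMk (ιP ≫ G.t) ((Category.assoc _ _ _).trans (congrArg (ιP ≫ ·) G.t_over))

variable (eP : G.U ⟶ P) (he : eP ≫ ιP = G.e) (iP : P ⟶ P) (hi : iP ≫ ιP = ιP ≫ G.i)
  (cP : pullback (ιP ≫ G.s) (ιP ≫ G.t) ⟶ P)
  (hc : cP ≫ ιP = pullback.map (ιP ≫ G.s) (ιP ≫ G.t) G.s G.t ιP ιP (𝟙 G.U)
    (Category.comp_id _) (Category.comp_id _) ≫ G.c)

include he hi hc in
/-- the subgroupoid is an equivalence relation on `U`. -/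
theorem isEqvRel_P [Mono (ιP ≫ G.j)] : AlgSp.IsEqvRel (sP' G ιP) (tP' G ιP) where
  injective T r r' ht hs := by
    apply Over.OverMorphism.ext
    rw [← cancel_mono (ιP ≫ G.j)]
    have ht' := congrArg CommaMorphism.left ht
    have hs' := congrArg CommaMorphism.left hs
    simp only [Over.comp_left, Over.homMk_left] at ht' hs'
    unfold Grpd.GroupoidScheme.j
    apply pullback.hom_ext
    · simp only [Category.assoc, pullback.lift_fst]; exact ht'
    · simp only [Category.assoc, pullback.lift_snd]; exact hs'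
  equivalence T := by
    refine ⟨fun a => ?_, fun {a b} hab => ?_, fun {a b c} hab hbc => ?_⟩
    · refine ⟨Over.homMk (a.left ≫ eP) ?_, ?_, ?_⟩
      · change (a.left ≫ eP) ≫ ιP ≫ G.pR = T.hom
        rw [Category.assoc, reassoc_of% he, ← G.s_over, reassoc_of% G.e_s]
        exact Over.w a
      · apply Over.OverMorphism.ext
        change (a.left ≫ eP) ≫ ιP ≫ G.t = a.left
        rw [Category.assoc, reassoc_of% he, G.e_t]
        exact Category.comp_id _
      · apply Over.OverMorphism.ext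
        change (a.left ≫ eP) ≫ ιP ≫ G.s = a.left
        rw [Category.assoc, reassoc_of% he, G.e_s]
        exact Category.comp_id _
    · obtain ⟨r, h1, h2⟩ := hab
      have h1' : r.left ≫ ιP ≫ G.t = a.left := congrArg CommaMorphism.left h1
      have h2' : r.left ≫ ιP ≫ G.s = b.left := congrArg CommaMorphism.left h2
      refine ⟨Over.homMk (r.left ≫ iP) ?_, ?_, ?_⟩
      · change (r.left ≫ iP) ≫ ιP ≫ G.pR = T.hom
        have hipR : G.i ≫ G.pR = G.pR := by
          calc G.i ≫ G.pR = G.i ≫ G.s ≫ G.pU := by rw [G.s_over]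
            _ = G.t ≫ G.pU := by rw [reassoc_of% G.i_s]
            _ = G.pR := G.t_over
        rw [Category.assoc, reassoc_of% hi, hipR]
        exact Over.w r
      · apply Over.OverMorphism.ext
        change (r.left ≫ iP) ≫ ιP ≫ G.t = b.left
        rw [Category.assoc, reassoc_of% hi, G.i_t, h2']
      · apply Over.OverMorphism.ext
        change (r.left ≫ iP) ≫ ιP ≫ G.s = a.left
        rw [Category.assoc, reassoc_of% hi, G.i_s, h1']
    · obtain ⟨r, h1, h2⟩ := hab
      obtain ⟨r', h1', h2'⟩ := hbc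
      have e1 : r.left ≫ ιP ≫ G.t = a.left := congrArg CommaMorphism.left h1
      have e2 : r.left ≫ ιP ≫ G.s = b.left := congrArg CommaMorphism.left h2
      have e1' : r'.left ≫ ιP ≫ G.t = b.left := congrArg CommaMorphism.left h1'
      have e2' : r'.left ≫ ιP ≫ G.s = c.left := congrArg CommaMorphism.left h2'
      have hcomp : r.left ≫ ιP ≫ G.s = r'.left ≫ ιP ≫ G.t := by rw [e2, e1']
      have hcomp' : (r.left ≫ ιP) ≫ G.s = (r'.left ≫ ιP) ≫ G.t := by
        simpa only [Category.assoc] using hcomp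
      have key : (pullback.lift r.left r'.left hcomp ≫ cP) ≫ ιP =
          Grpd.comp G (r.left ≫ ιP) (r'.left ≫ ιP) hcomp' := by
        rw [Category.assoc, hc, ← Category.assoc]
        unfold Grpd.comp
        congr 1
        apply pullback.hom_ext
        · rw [Category.assoc, pullback.lift_fst, pullback.lift_fst_assoc, pullback.lift_fst]
        · rw [Category.assoc, pullback.lift_snd, pullback.lift_snd_assoc, pullback.lift_snd]
      have kt : (pullback.lift r.left r'.left hcomp ≫ cP) ≫ ιP ≫ G.t = a.left := by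
        rw [← Category.assoc, key, Grpd.comp_t, Category.assoc, e1]
      have ks : (pullback.lift r.left r'.left hcomp ≫ cP) ≫ ιP ≫ G.s = c.left := by
        rw [← Category.assoc, key, Grpd.comp_s, Category.assoc, e2']
      refine ⟨Over.homMk (pullback.lift r.left r'.left hcomp ≫ cP) ?_, ?_, ?_⟩
      · change (pullback.lift r.left r'.left hcomp ≫ cP) ≫ ιP ≫ G.pR = T.hom
        calc (pullback.lift r.left r'.left hcomp ≫ cP) ≫ ιP ≫ G.pR
            = ((pullback.lift r.left r'.left hcomp ≫ cP) ≫ ιP ≫ G.t) ≫ G.pU := by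
              simp only [Category.assoc, G.t_over]
          _ = a.left ≫ G.pU := by rw [kt]
          _ = T.hom := Over.w a
      · apply Over.OverMorphism.ext
        exact kt
      · apply Over.OverMorphism.ext
        exact ks

section Quot

variable (h : AlgSp.IsEqvRel (sP' G ιP) (tP' G ιP))

/-- the quotient map `U ⟶ Ū = Spec C`. -/
noncomputable abbrev πP : G.U ⟶ Spec (CommRingCat.of (ofEqvRel h).invariants) :=
  (ofEqvRel h).toQuot

lemma isAffine_P [IsAffine G.U] [IsFinite (ιP ≫ G.s)] : IsAffine P :=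
  isAffine_of_isAffineHom (ιP ≫ G.s)

/-- all the facts about `U ⟶ U/P` from S1877, S1878, S7488. -/
theorem facts_P [IsAffine G.U]
    [IsFinite (ιP ≫ G.s)] [Flat (ιP ≫ G.s)] [LocallyOfFinitePresentation (ιP ≫ G.s)]
    [IsFinite (ιP ≫ G.t)] [Flat (ιP ≫ G.t)] [LocallyOfFinitePresentation (ιP ≫ G.t)] :
    IsFinite (πP G ιP h) ∧ Flat (πP G ιP h) ∧ LocallyOfFinitePresentation (πP G ιP h) ∧
    Surjective (πP G ιP h) ∧
    IsPullback (ιP ≫ G.t) (ιP ≫ G.s) (πP G ιP h) (πP G ιP h) ∧
    ∃ (m : Spec (CommRingCat.of (ofEqvRel h).invariants) ⟶ S) (hm : πP G ιP h ≫ m = G.pU),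
      QuotSh.IsQuotient Scheme.fppfPrecoverage (sP' G ιP) (tP' G ιP)
        (Over.homMk (πP G ιP h) hm : Over.mk G.pU ⟶ Over.mk m) := by
  let PG := ofEqvRel h
  haveI : IsAffine PG.U := ‹IsAffine G.U›
  haveI : IsAffine PG.R := (isAffine_P G ιP : IsAffine P)
  haveI : IsFinite PG.s := ‹IsFinite (ιP ≫ G.s)›
  haveI : Flat PG.s := ‹Flat (ιP ≫ G.s)›
  haveI : LocallyOfFinitePresentation PG.s := ‹LocallyOfFinitePresentation (ιP ≫ G.s)›
  haveI : IsFinite PG.t := ‹IsFinite (ιP ≫ G.t)›
  haveI : Flat PG.t := ‹Flat (ιP ≫ G.t)›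
  haveI : LocallyOfFinitePresentation PG.t := ‹LocallyOfFinitePresentation (ιP ≫ G.t)›
  haveI : Mono PG.j := mono_j h
  obtain ⟨⟨h1, h2, h3⟩, φ, hφ1, hφ2⟩ := Groth.Agent.S1877.result S PG
  obtain ⟨⟨h4, -⟩, -⟩ := Groth.Agent.S1878.result S PG
  obtain ⟨m, ⟨hm, hq⟩, -⟩ := Groth.Agent.S7488.result S PG
  refine ⟨h1, h2, h3, ⟨h4⟩, ?_, m, hm, hq⟩
  have hw : PG.t ≫ PG.toQuot = PG.s ≫ PG.toQuot := by
    rw [← hφ1, ← hφ2, Category.assoc, Category.assoc, pullback.condition]
  exact IsPullback.of_iso_pullback ⟨hw⟩ φ hφ1 hφ2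

end Quot

end Groth.Agent.R2.H84.SubQuotP
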