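import Mathlib
import Groth.Prelude.Def_AlgSp
import Groth.Prelude.Def_Grpd
import Groth.Prelude.Def_Dual3
import Groth.Agent.R2.H84FppfBootA
import Groth.Agent.R2.H84FppfBootB
import Groth.Agent.R2.H84FppfBootC
import Groth.Agent.R2.H84SubQuotP
import Groth.Agent.R2.H84SubQuotK
import Groth.Agent.S12202
import Groth.Agent.S9868

/-!
# PROJ:fppf-boot (helper84), part D: the local step of [QF]

`exists_local`: for a groupoid scheme `G` over `S` with `U` affine, `j` a monomorphism and `s`, `t`
flat, locally of finite presentation and locally quasi-finite, and a point `u ∈ U`, there is an etale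
neighbourhood `(U', u') ⟶ (U, u)` such that the quotient sheaf `U'/R'` of the restriction `R'` of `R` to
`U'` is an algebraic space.
-/

set_option autoImplicit false
set_option linter.unusedSectionVars false
set_option linter.style.haveILetI false
universe u

open CategoryTheory CategoryTheory.Limits AlgebraicGeometry Opposite
open AlgSp

namespace Groth.Agent.R2.H84.FppfBootD

open Groth.Agent.R2.H43.Quot Groth.Agent.R2.H84.GpdQuotOpen Groth.Agent.R2.H84.FppfBootA
  Groth.Agent.R2.H84.FppfBootB Groth.Agent.R2.H84.FppfBootC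

variable {S : Scheme.{u}}

section EqvRel

variable (G : Grpd.GroupoidScheme S)

/-- a groupoid scheme with `j` a monomorphism is an equivalence relation. -/
theorem isEqvRel_of_mono_j [Mono G.j] : AlgSp.IsEqvRel (sO G) (tO G) where
  injective T r r' ht hs := by
    apply Over.OverMorphism.ext
    rw [← cancel_mono G.j]
    apply pullback.hom_ext
    · rw [Category.assoc, Category.assoc, j_fst]
      exact congrArg CommaMorphism.left ht
    · rw [Category.assoc, Category.assoc, j_snd]
      exact congrArg CommaMorphism.left hs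
  equivalence T := by
    refine ⟨fun a => ?_, fun {a b} hab => ?_, fun {a b c} hab hbc => ?_⟩
    · refine ⟨a ≫ (Over.homMk G.e (e_over G) : Over.mk G.pU ⟶ Over.mk G.pR), ?_, ?_⟩
      · apply Over.OverMorphism.ext
        simp only [Over.comp_left, Over.homMk_left, Category.assoc, G.e_t]
        exact Category.comp_id _
      · apply Over.OverMorphism.ext
        simp only [Over.comp_left, Over.homMk_left, Category.assoc, G.e_s]
        exact Category.comp_id _
    · obtain ⟨r, h1, h2⟩ := hab
      refine ⟨r ≫ (Over.homMk G.i (i_over G) : Over.mk G.pR ⟶ Over.mk G.pR), ?_, ?_⟩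
      · rw [← h2]
        apply Over.OverMorphism.ext
        simp only [Over.comp_left, Over.homMk_left, Category.assoc, G.i_t]
      · rw [← h1]
        apply Over.OverMorphism.ext
        simp only [Over.comp_left, Over.homMk_left, Category.assoc, G.i_s]
    · obtain ⟨ρ, h1, h2⟩ := hab
      obtain ⟨ρ', h1', h2'⟩ := hbc
      have h : ρ.left ≫ G.s = ρ'.left ≫ G.t := by
        have e2 := congrArg (fun m => m.left) (h2.trans h1'.symm)
        simpa only [Over.comp_left, Over.homMk_left] using e2
      have hw : (pullback.lift ρ.left ρ'.left h ≫ G.c) ≫ G.pR = T.hom := by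
        have e0 : (pullback.lift ρ.left ρ'.left h ≫ G.c) ≫ (G.s ≫ G.pU) =
            ρ'.left ≫ (G.s ≫ G.pU) := by
          rw [← Category.assoc, G.comp_s ρ.left ρ'.left h, Category.assoc]
        rw [G.s_over] at e0
        exact e0.trans (Over.w ρ')
      refine ⟨(Over.homMk (pullback.lift ρ.left ρ'.left h ≫ G.c) hw : T ⟶ Over.mk G.pR), ?_, ?_⟩
      · rw [← h1]
        apply Over.OverMorphism.ext
        simp only [Over.comp_left, Over.homMk_left]
        exact G.comp_t ρ.left ρ'.left h
      · rw [← h2']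
        apply Over.OverMorphism.ext
        simp only [Over.comp_left, Over.homMk_left]
        exact G.comp_s ρ.left ρ'.left h

end EqvRel

section HomOver

variable {G' G : Grpd.GroupoidScheme S} (φ : Grpd.GroupoidScheme.Hom G' G)

lemma fR_over : φ.fR ≫ G.pR = G'.pR := by
  rw [← G.s_over, ← Category.assoc, φ.comm_s, Category.assoc, φ.fU_over, G'.s_over]

/-- `φ.fU` over `S`. -/
abbrev fUO : Over.mk G'.pU ⟶ Over.mk G.pU := Over.homMk φ.fU φ.fU_over
/-- `φ.fR` over `S`. -/
abbrev fRO : Over.mk G'.pR ⟶ Over.mk G.pR := Over.homMk φ.fR (fR_over φ)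

lemma fRO_sO : fRO φ ≫ sO G = sO G' ≫ fUO φ := by
  apply Over.OverMorphism.ext
  simp only [Over.comp_left, Over.homMk_left]
  exact φ.comm_s

lemma fRO_tO : fRO φ ≫ tO G = tO G' ≫ fUO φ := by
  apply Over.OverMorphism.ext
  simp only [Over.comp_left, Over.homMk_left]
  exact φ.comm_t

variable {φ}

theorem isPullback_prod_of_isCart (h : IsCart φ) :
    IsPullback (prod.lift (tO G') (sO G')) (fRO φ) (prod.map (fUO φ) (fUO φ))
      (prod.lift (tO G) (sO G)) :=
  isPullback_prod_of_left (fRO_sO φ) (fRO_tO φ)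
    (fun b x y hs ht => h.exists_lift b x y hs ht)
    (fun l l' h1 h2 h3 => h.hom_ext l l' h1 h2 h3)

end HomOver

section Local

open Groth.Agent.R2.H84

variable (G : Grpd.GroupoidScheme S)

/-- the local step of [QF]: etale locally on `U` the quotient sheaf of the restriction is an algebraic
space (quasi-splitting S12202 + quotient by the open finite flat subgroupoid S10140 + S9868). -/
theorem exists_local [IsAffine G.U] [Mono G.j] [Flat G.s] [LocallyOfFinitePresentation G.s]
    [LocallyQuasiFinite G.s] [Flat G.t] [LocallyOfFinitePresentation G.t] (u : ↥G.U) :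
    ∃ (G' : Grpd.GroupoidScheme S) (φ : Grpd.GroupoidScheme.Hom G' G) (u' : ↥G'.U),
      Etale φ.fU ∧ φ.fU u' = u ∧ IsCart φ ∧
      AlgSp.IsAlgSpace (QuotSh.quot Scheme.fppfPrecoverage (sO G') (tO G')) := by
  haveI := isSeparated_s G
  haveI := isSeparated_t G
  have hqf : Dual3.QuasiFiniteAt G.s (G.e u) :=
    Scheme.Hom.quasiFiniteAt_iff_isOpen_singleton_asFiber.mp (G.s.quasiFiniteAt (G.e u))
  obtain ⟨G', φ, u', hAff, hEt, hu, -, hcart, P, ιP, hOpen, ⟨eP, he⟩, ⟨iP, hi⟩, ⟨cP, hc⟩,
    hfs, hft⟩ := Groth.Agent.S12202.result S G u hqf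
  have hC : IsCart φ := hcart
  haveI := hAff
  haveI := hEt
  haveI := hOpen
  haveI := hfs
  haveI := hft
  haveI : Mono G'.j := hC.mono_j
  haveI : Flat G'.s := hC.flat_s
  haveI : Flat G'.t := hC.flat_t
  haveI : LocallyOfFinitePresentation G'.s := hC.lfp_s
  haveI : LocallyOfFinitePresentation G'.t := hC.lfp_t
  haveI : LocallyOfFiniteType G'.j := lft_j G'
  haveI : LocallyQuasiFinite G'.j := lqf_j G'
  haveI : Mono (ιP ≫ G'.j) := mono_comp _ _
  have hEq := SubQuotP.isEqvRel_P G' ιP eP he iP hi cP hc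
  obtain ⟨h1, h2, h3, h4, hpb, m, hm, -⟩ := SubQuotP.facts_P G' ιP hEq
  let D : SubQuot.Data G' :=
    { P := P, ιP := ιP, Ubar := _, π := SubQuotP.πP G' ιP hEq, hP := hpb,
      eP := eP, he := he, iP := iP, hi := hi, cP := cP, hc := hc }
  haveI : IsFinite D.π := h1
  haveI : Flat D.π := h2
  haveI : LocallyOfFinitePresentation D.π := h3
  obtain ⟨Rbar, q, hflat, hsurj, hlfp, -, hq⟩ := SubQuotK.exists_quot_R D m hm
  let Q : SubQuot.QData G' :=
    { D with flatπ := h2, surjπ := h4, lfpπ := h3, Rbar := Rbar, q := q, flatq := hflat,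
             surjq := hsurj, lfpq := hlfp, hq := hq }
  haveI : IsOpenImmersion Q.ιP := hOpen
  have hψ : IsCart (SubQuot.quotHom Q m hm) := SubQuot.isPullback_quotHom Q m hm
  haveI : Mono (SubQuot.quotGrpd Q m hm).j := mono_j_quotGrpd Q m hm
  have hEtT : Etale (SubQuot.quotGrpd Q m hm).t := etale_quotGrpd_t Q m hm
  have hEtS : Etale (SubQuot.quotGrpd Q m hm).s := etale_quotGrpd_s Q m hm
  have hH : AlgSp.IsEtaleEqvRel (sO (SubQuot.quotGrpd Q m hm)) (tO (SubQuot.quotGrpd Q m hm)) :=
    { toIsEqvRel := isEqvRel_of_mono_j _, etale_left := hEtS, etale_right := hEtT }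
  have hHalg := Groth.Agent.S9868.result S _ _ hH
  haveI : Flat (fUO (SubQuot.quotHom Q m hm)).left := h2
  haveI : Surjective (fUO (SubQuot.quotHom Q m hm)).left := h4
  haveI : LocallyOfFinitePresentation (fUO (SubQuot.quotHom Q m hm)).left := h3
  haveI := isIso_quotMap (fRO_sO (SubQuot.quotHom Q m hm)) (fRO_tO (SubQuot.quotHom Q m hm))
    (isPullback_prod_of_isCart hψ) (isEqvRel_of_mono_j _)
  exact ⟨G', φ, u', hEt, hu, hC, hHalg.of_iso
    (asIso (quotMap (fRO_sO (SubQuot.quotHom Q m hm)) (fRO_tO (SubQuot.quotHom Q m hm)))).symm⟩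

end Local

end Groth.Agent.R2.H84.FppfBootD
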