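import Mathlib
import Groth.Prelude.Def_AlgSp
import Groth.Prelude.Def_Grpd
import Groth.Agent.R2.H84FppfBootD
import Groth.Agent.R2.H84GrpdSplitAsmC
import Groth.Agent.R2.H14QFinQuot
import Groth.Agent.R2.H83Coprod
import Groth.Agent.S9884

/-!
# PROJ:fppf-boot (helper84): [QF]

`qf`: the fppf quotient sheaf of an equivalence relation of schemes `s, t : R ⟶ U` over `S` with
`s`, `t` flat, locally of finite presentation and LOCALLY QUASI-FINITE is an algebraic space
(the quasi-finite case of Stacks, Bootstrap, Theorem 04S6).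
-/

set_option autoImplicit false
set_option linter.unusedSectionVars false
set_option linter.style.haveILetI false
universe u

open CategoryTheory CategoryTheory.Limits AlgebraicGeometry Opposite
open AlgSp

namespace Groth.Agent.R2.H84.FppfBootQF

open Groth.Agent.R2.H43.Quot Groth.Agent.R2.H84.GpdQuotOpen Groth.Agent.R2.H84.FppfBootA
  Groth.Agent.R2.H84.FppfBootC Groth.Agent.R2.H84.FppfBootD Groth.Agent.R2.H84.GrpdRestrGen
  Groth.Agent.R2.H84.GrpdSplitAsm Groth.Agent.R2.H14.QFinQuot Groth.Agent.R2.H83.Coprod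

/-- **[QF]** -/
theorem qf (S : Scheme.{u}) {R U : Over S} (s t : R ⟶ U) (h : AlgSp.IsEqvRel s t)
    [Flat s.left] [LocallyOfFinitePresentation s.left] [LocallyQuasiFinite s.left]
    [Flat t.left] [LocallyOfFinitePresentation t.left] :
    AlgSp.IsAlgSpace (QuotSh.quot Scheme.fppfPrecoverage s t) := by
  haveI : Flat (ofEqvRel h).s := ‹Flat s.left›
  haveI : LocallyOfFinitePresentation (ofEqvRel h).s := ‹LocallyOfFinitePresentation s.left›
  haveI : LocallyQuasiFinite (ofEqvRel h).s := ‹LocallyQuasiFinite s.left›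
  haveI : Flat (ofEqvRel h).t := ‹Flat t.left›
  haveI : LocallyOfFinitePresentation (ofEqvRel h).t := ‹LocallyOfFinitePresentation t.left›
  have hloc : ∀ u : ↥U.left, ∃ (G' : Grpd.GroupoidScheme S)
      (ψ : Grpd.GroupoidScheme.Hom G' (ofEqvRel h)) (u' : ↥G'.U), Etale ψ.fU ∧ ψ.fU u' = u ∧
      IsCart ψ ∧ AlgSp.IsAlgSpace (QuotSh.quot Scheme.fppfPrecoverage (sO G') (tO G')) := by
    intro u
    obtain ⟨V, hV, huV, -⟩ := exists_isAffineOpen_mem_and_subset (X := U.left) (x := u)
      (U := ⊤) trivial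
    have hC₀ : IsCart (restrHom (ofEqvRel h) V.ι) := isPullback_restr (ofEqvRel h) V.ι
    haveI : Etale (restrHom (ofEqvRel h) V.ι).fU := (inferInstance : Etale V.ι)
    haveI : IsAffine (restr (ofEqvRel h) V.ι).U := hV
    haveI : Mono (restr (ofEqvRel h) V.ι).j := hC₀.mono_j
    haveI : Flat (restr (ofEqvRel h) V.ι).s := hC₀.flat_s
    haveI : Flat (restr (ofEqvRel h) V.ι).t := hC₀.flat_t
    haveI : LocallyOfFinitePresentation (restr (ofEqvRel h) V.ι).s := hC₀.lfp_s
    haveI : LocallyOfFinitePresentation (restr (ofEqvRel h) V.ι).t := hC₀.lfp_t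
    haveI : LocallyQuasiFinite (restr (ofEqvRel h) V.ι).s := hC₀.lqf_s
    obtain ⟨G', φ, u', hEt, hu, hC, halg⟩ :=
      exists_local (restr (ofEqvRel h) V.ι) (⟨u, huV⟩ : ↥(V : Scheme.{u}))
    haveI := hEt
    refine ⟨G', homComp φ (restrHom (ofEqvRel h) V.ι), u', ?_, ?_,
      isPullback_homComp _ _ hC hC₀, halg⟩
    · change Etale (φ.fU ≫ (restrHom (ofEqvRel h) V.ι).fU)
      infer_instance
    · change (φ.fU ≫ V.ι) u' = u
      rw [Scheme.Hom.comp_apply, hu]
      rfl
  choose G' ψ u' hEt hu hC halg using hloc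
  let g : ∀ u, Over.mk (G' u).pU ⟶ U := fun u => Over.homMk (ψ u).fU (ψ u).fU_over
  let r : ∀ u, Over.mk (G' u).pR ⟶ R := fun u => Over.homMk (ψ u).fR (fR_over (ψ u))
  have hs : ∀ u, r u ≫ s = sO (G' u) ≫ g u := fun u => by
    apply Over.OverMorphism.ext
    exact (ψ u).comm_s
  have ht : ∀ u, r u ≫ t = tO (G' u) ≫ g u := fun u => by
    apply Over.OverMorphism.ext
    exact (ψ u).comm_t
  have hsq : ∀ u, IsPullback (prod.lift (tO (G' u)) (sO (G' u))) (r u) (prod.map (g u) (g u))
      (prod.lift t s) := fun u =>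
    isPullback_prod_of_left (hs u) (ht u)
      (fun b x y h1 h2 => (hC u).exists_lift b x y h1 h2)
      (fun l l' h1 h2 h3 => (hC u).hom_ext l l' h1 h2 h3)
  refine isAlgSpace_of_open_family (f := fun u => quotMap (hs u) (ht u)) (fun u => ?_) halg ?_
  · haveI : Etale (g u).left := hEt u
    exact repWith_isOpenImmersion_quotMap (hs u) (ht u) (hsq u) h
  · intro T gT x
    obtain ⟨R₀, hR₀, hl⟩ := Groth.Agent.S9884.exists_fppf_lift (πy s t) gT
    obtain ⟨Y, f, hf, y, hy⟩ := exists_mem_range_of_mem_fppf hR₀ x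
    obtain ⟨d, hd⟩ := hl f hf
    obtain ⟨a₀, rfl⟩ := (AlgSp.yon S).map_surjective d
    have hgu : ∀ u, (g u).left (u' u) = u := hu
    obtain ⟨z, hz1, hz2⟩ := Scheme.Pullback.exists_preimage_pullback (f := a₀.left)
      (g := (g (a₀.left y)).left) y (u' (a₀.left y)) (hgu (a₀.left y)).symm
    have hw : pullback.snd a₀.left (g (a₀.left y)).left ≫ (G' (a₀.left y)).pU =
        pullback.fst a₀.left (g (a₀.left y)).left ≫ f ≫ T.hom := by
      have h1 : (g (a₀.left y)).left ≫ U.hom = (G' (a₀.left y)).pU := Over.w (g (a₀.left y))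
      have h2 : pullback.fst a₀.left (g (a₀.left y)).left ≫ a₀.left =
          pullback.snd a₀.left (g (a₀.left y)).left ≫ (g (a₀.left y)).left := pullback.condition
      have h3 : a₀.left ≫ U.hom = f ≫ T.hom := Over.w a₀
      calc pullback.snd a₀.left (g (a₀.left y)).left ≫ (G' (a₀.left y)).pU
          = pullback.snd a₀.left (g (a₀.left y)).left ≫ (g (a₀.left y)).left ≫ U.hom := by
            rw [h1]
        _ = (pullback.fst a₀.left (g (a₀.left y)).left ≫ a₀.left) ≫ U.hom := by
            rw [h2, Category.assoc]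
        _ = pullback.fst a₀.left (g (a₀.left y)).left ≫ f ≫ T.hom := by
            rw [Category.assoc, h3]
    let V : Over S := Over.mk (pullback.fst a₀.left (g (a₀.left y)).left ≫ f ≫ T.hom)
    let v₀ : V ⟶ Over.mk (f ≫ T.hom) := Over.homMk (pullback.fst a₀.left (g (a₀.left y)).left) rfl
    let b : V ⟶ Over.mk (G' (a₀.left y)).pU :=
      Over.homMk (pullback.snd a₀.left (g (a₀.left y)).left) hw
    have hb : b ≫ g (a₀.left y) = v₀ ≫ a₀ := by
      apply Over.OverMorphism.ext
      exact pullback.condition.symm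
    refine ⟨a₀.left y, V, v₀ ≫ (Over.homMk f : Over.mk (f ≫ T.hom) ⟶ T),
      (AlgSp.yon S).map b ≫ πy _ _, ?_, ⟨z, ?_⟩⟩
    · rw [Category.assoc, πy_quotMap, ← Category.assoc, ← Functor.map_comp, hb, Functor.map_comp,
        Category.assoc, hd, ← Category.assoc, ← Functor.map_comp]
    · change (pullback.fst a₀.left (g (a₀.left y)).left ≫ f) z = x
      rw [Scheme.Hom.comp_apply, hz1, hy]

end Groth.Agent.R2.H84.FppfBootQF
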