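import Mathlib
import Groth.Agent.S18975
import Groth.Agent.Lib.Helper12Submersive2
import Groth.Agent.Lib.Helper12Act
import Groth.Agent.R2.H84GpdQuotOpen

/-!
# fppf sheaf quotients by (not necessarily free) group actions are geometric quotients (helper84)

Namespace `Groth.Agent.R2.H84.FppfGeomQuot`.

Scheme level (`a s : Q ⟶ X`, `φ : X ⟶ Y`):
* `HasLocSec φ`: `φ` has sections over the members of an fppf covering of `Y`;
* `HasLocRel a s φ`: two points of `X` with the same image in `Y` are, fppf locally, of the form `(a ρ, s ρ)`;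
* `surjective_of_hasLocSec`, `orbit_surjective`, `us_of_hasLocSec`, `sections_of_locRel`
  (the last generalises `Groth.Agent.S18975.sections_of_cover`, where `Q = X ×_Y X`).

Bridge: for an action `a` of `G` on `X` over `S` and `q : X ⟶ Y` with
`QuotSh.IsQuotient Scheme.fppfPrecoverage a.act (snd G X) q`: `hasLocSec_of_isQuotient`, `hasLocRel_of_isQuotient`.
-/

set_option autoImplicit false
set_option linter.style.haveILetI false
universe u
open CategoryTheory CategoryTheory.Limits AlgebraicGeometry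

namespace Groth.Agent.R2.H84.FppfGeomQuot

open Groth.Agent.S18975 (tildeO tildeO_injective tildeO_surjective resLE_tildeO generate_resLE_mem)
open Groth.Agent.S18859 (A1)

section SchemeLevel

variable {Q X Y : Scheme.{u}} (a s : Q ⟶ X) (φ : X ⟶ Y)

/-- `φ` has sections over the members of an fppf covering of `Y`. -/
def HasLocSec : Prop :=
  ∃ R ∈ Scheme.fppfPrecoverage Y, ∀ ⦃V : Scheme.{u}⦄ (g : V ⟶ Y), R g → ∃ t : V ⟶ X, t ≫ φ = g

/-- two points of `X` with the same image in `Y` are fppf locally related by a point of `Q`. -/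
def HasLocRel : Prop :=
  ∀ ⦃Z : Scheme.{u}⦄ (p₁ p₂ : Z ⟶ X), p₁ ≫ φ = p₂ ≫ φ →
    ∃ R₁ ∈ Scheme.fppfPrecoverage Z, ∀ ⦃Z' : Scheme.{u}⦄ (f : Z' ⟶ Z), R₁ f →
      ∃ ρ : Z' ⟶ Q, ρ ≫ a = f ≫ p₁ ∧ ρ ≫ s = f ≫ p₂

lemma fppf_exists_eq {Y : Scheme.{u}} {R : Presieve Y} (hR : R ∈ Scheme.fppfPrecoverage Y) (y : Y) :
    ∃ (V : Scheme.{u}) (g : V ⟶ Y), R g ∧ y ∈ Set.range g := by
  unfold Scheme.fppfPrecoverage at hR
  exact Scheme.JointlySurjective.exists_eq R hR y

lemma fppf_prop {Y : Scheme.{u}} {R : Presieve Y} (hR : R ∈ Scheme.fppfPrecoverage Y)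
    {V : Scheme.{u}} {g : V ⟶ Y} (hg : R g) : Flat g ∧ LocallyOfFinitePresentation g := by
  unfold Scheme.fppfPrecoverage at hR
  exact hR.2 hg

variable {φ} in
theorem surjective_of_hasLocSec (h : HasLocSec φ) : Function.Surjective φ.base := by
  obtain ⟨R, hR, hsec⟩ := h
  intro y
  obtain ⟨V, g, hg, v, rfl⟩ := fppf_exists_eq hR y
  obtain ⟨t, ht⟩ := hsec g hg
  refine ⟨t v, ?_⟩
  rw [← Scheme.Hom.comp_apply, ht]

variable {a s φ} in
theorem orbit_surjective (hw : a ≫ φ = s ≫ φ) (hrel : HasLocRel a s φ) :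
    Function.Surjective (pullback.lift a s hw).base := by
  intro z
  set ι := (pullback φ φ).fromSpecResidueField z with hι
  obtain ⟨R₁, hR₁, h⟩ := hrel (ι ≫ pullback.fst φ φ) (ι ≫ pullback.snd φ φ)
    (by rw [Category.assoc, Category.assoc, pullback.condition])
  obtain ⟨Z', f, hf, w, -⟩ := fppf_exists_eq hR₁
    (IsLocalRing.closedPoint ((pullback φ φ).residueField z))
  obtain ⟨ρ, h1, h2⟩ := h f hf
  refine ⟨ρ w, ?_⟩
  have e : ρ ≫ pullback.lift a s hw = f ≫ ι := by
    apply pullback.hom_ext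
    · rw [Category.assoc, pullback.lift_fst, h1, Category.assoc]
    · rw [Category.assoc, pullback.lift_snd, h2, Category.assoc]
  change (pullback.lift a s hw) (ρ w) = z
  rw [← Scheme.Hom.comp_apply, e, Scheme.Hom.comp_apply]
  exact Scheme.fromSpecResidueField_apply _ _

variable {φ} in
theorem us_of_hasLocSec (h : HasLocSec φ) : Groth.Agent.Lib.Helper12.Submersive.US φ := by
  obtain ⟨R, hR, hsec⟩ := h
  intro X' Y' i₁ i₂ φ' sq
  -- local sections of `φ'`
  have key : ∀ y' : Y', ∃ (P : Scheme.{u}) (ψ : P ⟶ Y') (l : P ⟶ X') (w : P),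
      l ≫ φ' = ψ ∧ ψ w = y' ∧ IsOpenMap ψ := by
    intro y'
    obtain ⟨V, g, hg, v, hv⟩ := fppf_exists_eq hR (i₂ y')
    obtain ⟨t, ht⟩ := hsec g hg
    obtain ⟨hfl, hlfp⟩ := fppf_prop hR hg
    obtain ⟨w, hw1, hw2⟩ := Scheme.Pullback.exists_preimage_pullback v y' hv
    have hl : (pullback.snd g i₂) ≫ i₂ = (pullback.fst g i₂ ≫ t) ≫ φ := by
      rw [Category.assoc, ht, pullback.condition]
    refine ⟨pullback g i₂, pullback.snd g i₂, sq.lift _ _ hl, w, sq.lift_fst _ _ hl, hw2, ?_⟩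
    haveI : Flat (pullback.snd g i₂) := inferInstance
    haveI : LocallyOfFinitePresentation (pullback.snd g i₂) := inferInstance
    exact (pullback.snd g i₂).isOpenMap
  change Topology.IsQuotientMap φ'.base
  have hsurj : Function.Surjective φ'.base := by
    intro y'
    obtain ⟨P, ψ, l, w, hl, hw, -⟩ := key y'
    refine ⟨l w, ?_⟩
    rw [← Scheme.Hom.comp_apply, hl, hw]
  rw [Topology.isQuotientMap_iff]
  refine ⟨.of_isOpen_preimage_iff_isOpen fun W =>
    ⟨fun hW => ?_, fun hW => hW.preimage φ'.continuous⟩, hsurj⟩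
  rw [isOpen_iff_forall_mem_open]
  intro y' hy'
  obtain ⟨P, ψ, l, w, hl, hw, hopen⟩ := key y'
  have h1 : IsOpen (ψ ⁻¹' W) := by
    have : ψ ⁻¹' W = l ⁻¹' (φ' ⁻¹' W) := by
      rw [← Set.preimage_comp]
      congr 1
      rw [← hl]
      rfl
    rw [this]
    exact hW.preimage l.continuous
  refine ⟨ψ '' (ψ ⁻¹' W), Set.image_preimage_subset _ _, hopen _ h1, w, ?_, hw⟩
  change ψ w ∈ W
  rw [hw]
  exact hy'

variable {a s φ} in
theorem sections_of_locRel (hw : a ≫ φ = s ≫ φ) (hsec : HasLocSec φ) (hrel : HasLocRel a s φ)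
    (U : Y.Opens) :
    Function.Injective (φ.app U).hom ∧
      ∀ f : Γ(X, φ ⁻¹ᵁ U), f ∈ Set.range (φ.app U).hom ↔
        (a.appLE (φ ⁻¹ᵁ U) (a ⁻¹ᵁ (φ ⁻¹ᵁ U) ⊓ s ⁻¹ᵁ (φ ⁻¹ᵁ U)) inf_le_left).hom f =
          (s.appLE (φ ⁻¹ᵁ U) (a ⁻¹ᵁ (φ ⁻¹ᵁ U) ⊓ s ⁻¹ᵁ (φ ⁻¹ᵁ U)) inf_le_right).hom f := by
  obtain ⟨R, hR, hsec'⟩ := hsec
  set V := φ ⁻¹ᵁ U with hV
  set W := a ⁻¹ᵁ V ⊓ s ⁻¹ᵁ V with hW
  set ψ := φ.resLE U V le_rfl with hψ
  have hcov := generate_resLE_mem φ R (Scheme.fppfPrecoverage_le_fpqcPrecoverage _ hR) hsec' U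
  have hsh : Presieve.IsSheaf Scheme.fpqcTopology (yoneda.obj A1.{u}) :=
    GrothendieckTopology.Subcanonical.isSheaf_of_isRepresentable _
  have hshf := hsh _ hcov
  rw [← Presieve.isSheafFor_iff_generate] at hshf
  have hsep := hshf.isSeparatedFor
  rw [Presieve.isSeparatedFor_singleton] at hsep
  rw [Presieve.isSheafFor_singleton] at hshf
  have happ : ∀ r : Γ(Y, U), ψ ≫ tildeO U r = tildeO V ((φ.app U).hom r) := by
    intro r
    rw [hψ, resLE_tildeO, Scheme.Hom.appLE_eq_app]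
  constructor
  · intro r₁ r₂ h
    apply tildeO_injective U
    apply hsep
    change ψ ≫ tildeO U r₁ = ψ ≫ tildeO U r₂
    rw [happ, happ, h]
  · intro f
    rw [← (tildeO_injective W).eq_iff, ← resLE_tildeO, ← resLE_tildeO]
    constructor
    · rintro ⟨r, rfl⟩
      rw [← happ, ← Category.assoc, ← Category.assoc]
      congr 1
      rw [← cancel_mono U.ι]
      simp only [Category.assoc, hψ, Scheme.Hom.resLE_comp_ι]
      have h1 : a.resLE V W inf_le_left ≫ V.ι ≫ φ = W.ι ≫ a ≫ φ :=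
        Scheme.Hom.resLE_comp_ι_assoc a _ φ
      have h2 : s.resLE V W inf_le_right ≫ V.ι ≫ φ = W.ι ≫ s ≫ φ :=
        Scheme.Hom.resLE_comp_ι_assoc s _ φ
      rw [hw] at h1
      exact h1.trans h2.symm
    · intro hs
      obtain ⟨r', hr', -⟩ := hshf (tildeO V f) (by
        intro Z p₁ p₂ hp
        change p₁ ≫ tildeO V f = p₂ ≫ tildeO V f
        have hq : (p₁ ≫ V.ι) ≫ φ = (p₂ ≫ V.ι) ≫ φ := by
          have := congrArg (fun k => k ≫ U.ι) hp
          simpa [hψ] using this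
        obtain ⟨R₁, hR₁, hρ⟩ := hrel _ _ hq
        have hsepZ : Presieve.IsSeparatedFor (yoneda.obj A1.{u}) R₁ := by
          rw [Presieve.isSeparatedFor_iff_generate]
          exact (hsh _ (Precoverage.generate_mem_toGrothendieck
            (Scheme.fppfPrecoverage_le_fpqcPrecoverage _ hR₁))).isSeparatedFor
        refine hsepZ.ext (fun Z' f' hf' => ?_)
        change f' ≫ p₁ ≫ tildeO V f = f' ≫ p₂ ≫ tildeO V f
        obtain ⟨ρ, hρ1, hρ2⟩ := hρ f' hf'
        have hrange : Set.range ρ.base ⊆ Set.range W.ι.base := by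
          rintro _ ⟨z, rfl⟩
          rw [Scheme.Opens.range_ι]
          constructor
          · change a (ρ z) ∈ V
            rw [← Scheme.Hom.comp_apply, hρ1, Scheme.Hom.comp_apply, Scheme.Hom.comp_apply]
            exact (p₁ (f' z)).2
          · change s (ρ z) ∈ V
            rw [← Scheme.Hom.comp_apply, hρ2, Scheme.Hom.comp_apply, Scheme.Hom.comp_apply]
            exact (p₂ (f' z)).2
        let g' := IsOpenImmersion.lift W.ι ρ hrange
        have e1 : f' ≫ p₁ = g' ≫ a.resLE V W inf_le_left := by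
          rw [← cancel_mono V.ι, Category.assoc, Category.assoc, Scheme.Hom.resLE_comp_ι,
            IsOpenImmersion.lift_fac_assoc, hρ1]
        have e2 : f' ≫ p₂ = g' ≫ s.resLE V W inf_le_right := by
          rw [← cancel_mono V.ι, Category.assoc, Category.assoc, Scheme.Hom.resLE_comp_ι,
            IsOpenImmersion.lift_fac_assoc, hρ2]
        rw [← Category.assoc, ← Category.assoc, e1, e2, Category.assoc, Category.assoc, hs])
      obtain ⟨r, rfl⟩ := tildeO_surjective U r'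
      refine ⟨r, ?_⟩
      apply tildeO_injective V
      rw [← happ]
      exact hr'

end SchemeLevel

section Bridge

open MonoidalCategory CartesianMonoidalCategory MonObj
open Groth.Agent.Lib.Helper9.LocalRel Groth.Agent.R2.H43.Quot Groth.Agent.R2.H84.GpdQuotOpen
open Groth.Agent.Lib.Helper12 Groth.Agent.Lib.Helper12.QuotShLib

variable {S : Scheme.{u}} {G X Y : Over S} [GrpObj G] (a : AlgGrp.Action G X) (q : X ⟶ Y)

theorem hasLocSec_of_isQuotient
    (hq : QuotSh.IsQuotient Scheme.fppfPrecoverage a.act (snd G X) q) : HasLocSec q.left := by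
  obtain ⟨w, hiso⟩ := hq
  have hepi : Epi (QuotSh.repMap Scheme.fppfPrecoverage q) := by
    have hπ : QuotSh.quotπ Scheme.fppfPrecoverage a.act (snd G X) ≫
        QuotSh.quotDesc Scheme.fppfPrecoverage q w = QuotSh.repMap Scheme.fppfPrecoverage q :=
      coequalizer.π_desc _ _
    rw [← hπ]
    have : Epi (QuotSh.quotπ Scheme.fppfPrecoverage a.act (snd G X)) := coequalizer.π_epi
    infer_instance
  obtain ⟨R', hR', hlift⟩ := exists_cover_of_epi Scheme.fppfPrecoverage q hepi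
  refine ⟨R', hR', fun V g hg => ?_⟩
  obtain ⟨l, hl⟩ := hlift g hg
  exact ⟨l.left, hl⟩

/-- the strict orbit relation of a group action is an equivalence relation on `T₀`-points. -/
lemma sig_equivalence_act (T₀ : Over S) : _root_.Equivalence
    (Sig ((AlgSp.yon S).map (snd G X)) ((AlgSp.yon S).map a.act) (T := (AlgSp.yon S).obj T₀)) := by
  refine ⟨fun x => ?_, fun {x y} hxy => ?_, fun {x y z} hxy hyz => ?_⟩
  · obtain ⟨α, rfl⟩ := (AlgSp.yon S).map_surjective x
    refine ⟨(AlgSp.yon S).map (lift (1 : T₀ ⟶ G) α), ?_, ?_⟩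
    · rw [← Functor.map_comp, lift_snd]
    · rw [← Functor.map_comp, act_one]
  · obtain ⟨r, h1, h2⟩ := hxy
    obtain ⟨ρ, rfl⟩ := (AlgSp.yon S).map_surjective r
    refine ⟨(AlgSp.yon S).map (lift (ρ ≫ fst G X)⁻¹ (ρ ≫ a.act)), ?_, ?_⟩
    · rw [← Functor.map_comp, lift_snd, ← h2, Functor.map_comp]
    · rw [← Functor.map_comp, ← h1, ← Functor.map_comp]
      congr 1
      have e : ρ = lift (ρ ≫ fst G X) (ρ ≫ snd G X) := by
        apply CartesianMonoidalCategory.hom_ext <;> simp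
      have := act_mul a (ρ ≫ fst G X)⁻¹ (ρ ≫ fst G X) (ρ ≫ snd G X)
      rw [inv_mul_cancel, act_one, ← e] at this
      exact this.symm
  · obtain ⟨r, h1, h2⟩ := hxy
    obtain ⟨r', h1', h2'⟩ := hyz
    obtain ⟨ρ, rfl⟩ := (AlgSp.yon S).map_surjective r
    obtain ⟨ρ', rfl⟩ := (AlgSp.yon S).map_surjective r'
    have hy : ρ ≫ a.act = ρ' ≫ snd G X := by
      apply (AlgSp.yon S).map_injective
      rw [Functor.map_comp, Functor.map_comp, h2, h1']
    refine ⟨(AlgSp.yon S).map (lift ((ρ' ≫ fst G X) * (ρ ≫ fst G X)) (ρ ≫ snd G X)), ?_, ?_⟩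
    · rw [← Functor.map_comp, lift_snd, ← h1, Functor.map_comp]
    · rw [← Functor.map_comp, ← h2', ← Functor.map_comp]
      congr 1
      have e : ρ = lift (ρ ≫ fst G X) (ρ ≫ snd G X) := by
        apply CartesianMonoidalCategory.hom_ext <;> simp
      have e' : ρ' = lift (ρ' ≫ fst G X) (ρ' ≫ snd G X) := by
        apply CartesianMonoidalCategory.hom_ext <;> simp
      rw [act_mul, ← e, hy, ← e']

theorem lr_act : LR a.act (snd G X) :=
  lr_of_sig (fun T₀ => sig_equivalence_act a T₀)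

theorem hasLocRel_of_isQuotient
    (hq : QuotSh.IsQuotient Scheme.fppfPrecoverage a.act (snd G X) q) :
    HasLocRel a.act.left (snd G X).left q.left := by
  obtain ⟨w, hiso⟩ := hq
  intro Z p₁ p₂ h
  have hp₂ : p₂ ≫ X.hom = p₁ ≫ X.hom := by
    rw [← Over.w q, ← Category.assoc, ← h, Category.assoc]
  let Z' : Over S := Over.mk (p₁ ≫ X.hom)
  let P₁ : Z' ⟶ X := Over.homMk p₁ rfl
  let P₂ : Z' ⟶ X := Over.homMk p₂ hp₂
  have hP : P₂ ≫ q = P₁ ≫ q := by
    apply Over.OverMorphism.ext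
    exact h.symm
  have hπ : πy a.act (snd G X) ≫ QuotSh.quotDesc Scheme.fppfPrecoverage q w =
      (AlgSp.yon S).map q ≫ (QuotSh.repIsoUliftYoneda Scheme.fppfPrecoverage Y).inv := by
    unfold πy
    rw [Category.assoc, repIso_inv_naturality]
    congr 1
    exact coequalizer.π_desc _ _
  have hab : (AlgSp.yon S).map P₂ ≫ πy a.act (snd G X) =
      (AlgSp.yon S).map P₁ ≫ πy a.act (snd G X) := by
    haveI := hiso
    rw [← cancel_mono (QuotSh.quotDesc Scheme.fppfPrecoverage q w), Category.assoc, Category.assoc,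
      hπ, ← Category.assoc, ← Category.assoc, ← Functor.map_comp, ← Functor.map_comp, hP]
  obtain ⟨R₁, hR₁, hρ⟩ := exists_fppf_rel (lr_act a) P₂ P₁ hab
  refine ⟨R₁, hR₁, fun Z'' f hf => ?_⟩
  obtain ⟨ρ, h1, h2⟩ := hρ f hf
  refine ⟨ρ.left, ?_, ?_⟩
  · exact congrArg (fun m => m.left) h2
  · exact congrArg (fun m => m.left) h1

end Bridge

end Groth.Agent.R2.H84.FppfGeomQuot
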