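import Groth.Prelude.Def_FrobAlg
import Mathlib.RingTheory.AdicCompletion.Algebra
import Mathlib.RingTheory.AdicCompletion.AsTensorProduct
import Mathlib.RingTheory.RegularLocalRing.Defs
import Mathlib.RingTheory.RingHom.Finite

set_option autoImplicit false
universe u

namespace Groth.Agent.R2.H84.FrobCompl

open TensorProduct FrobAlg

variable (p : ℕ) [Fact p.Prime] (A : Type u) [CommRing A] [CharP A p] (I : Ideal A)

theorem smul_twist (a : A) (t : Twist p A) : a • t = toTwist p A (a ^ p) * t := rfl

theorem finite_twist (hF : (frobenius A p).Finite) : Module.Finite A (Twist p A) := hF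

/-- `I^n • T ⊆ I^n` under the identification `T = A`. -/
theorem symm_mem_of_mem_smul_top (n : ℕ) (t : Twist p A)
    (ht : t ∈ (I ^ n • ⊤ : Submodule A (Twist p A))) : (toTwist p A).symm t ∈ I ^ n := by
  refine Submodule.smul_induction_on ht ?_ ?_
  · intro a ha t _
    rw [smul_twist, map_mul, RingEquiv.symm_apply_apply]
    have hp : 0 < p := (Fact.out : p.Prime).pos
    exact Ideal.mul_mem_right _ _ (Ideal.pow_mem_of_mem _ ha p hp)
  · intro x y hx hy
    rw [map_add]
    exact Ideal.add_mem _ hx hy

/-- The ideal of `A` corresponding to `I^n • T`. -/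
def twistIdeal (n : ℕ) : Ideal A where
  carrier := {a | toTwist p A a ∈ (I ^ n • ⊤ : Submodule A (Twist p A))}
  add_mem' := by
    intro a b ha hb
    simp only [Set.mem_ofPred_eq, map_add] at ha hb ⊢
    exact Submodule.add_mem _ ha hb
  zero_mem' := by
    simp only [Set.mem_ofPred_eq, map_zero]
    exact Submodule.zero_mem _
  smul_mem' := by
    intro c a ha
    simp only [Set.mem_ofPred_eq, smul_eq_mul, map_mul] at ha ⊢
    refine Submodule.smul_induction_on ha ?_ ?_
    · intro r hr t _
      have : toTwist p A c * r • t = r • (toTwist p A c * t) := by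
        rw [smul_twist, smul_twist]; ring
      rw [this]
      exact Submodule.smul_mem_smul hr Submodule.mem_top
    · intro x y hx hy
      rw [mul_add]
      exact Submodule.add_mem _ hx hy

theorem mem_twistIdeal (n : ℕ) (a : A) :
    a ∈ twistIdeal p A I n ↔ toTwist p A a ∈ (I ^ n • ⊤ : Submodule A (Twist p A)) := Iff.rfl

theorem pow_le_radical_twistIdeal (n : ℕ) : I ^ n ≤ (twistIdeal p A I n).radical := by
  intro a ha
  refine ⟨p, ?_⟩
  rw [mem_twistIdeal]
  have : toTwist p A (a ^ p) = a • (1 : Twist p A) := by rw [smul_twist, mul_one]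
  rw [this]
  exact Submodule.smul_mem_smul ha Submodule.mem_top

theorem exists_pow_le_twistIdeal [IsNoetherianRing A] (n : ℕ) :
    ∃ N : ℕ, n ≤ N ∧ I ^ N ≤ twistIdeal p A I n := by
  obtain ⟨k, hk⟩ := Ideal.exists_pow_le_of_le_radical_of_fg (pow_le_radical_twistIdeal p A I n)
    (IsNoetherian.noetherian _)
  refine ⟨max n (n * k), le_max_left _ _, ?_⟩
  refine le_trans (Ideal.pow_le_pow_right (le_max_right _ _)) ?_
  rw [pow_mul]
  exact hk


/-- The additive map `T ⧸ I^n • T → A ⧸ I^n • A` induced by the identity `T = A`. -/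
noncomputable def qmap (n : ℕ) :
    (Twist p A ⧸ (I ^ n • ⊤ : Submodule A (Twist p A))) →+ (A ⧸ (I ^ n • ⊤ : Submodule A A)) :=
  QuotientAddGroup.map (I ^ n • ⊤ : Submodule A (Twist p A)).toAddSubgroup
    (I ^ n • ⊤ : Submodule A A).toAddSubgroup
    ((toTwist p A).symm : Twist p A →+* A).toAddMonoidHom (by
      intro t ht
      have := symm_mem_of_mem_smul_top p A I n t ht
      simpa using this)

theorem qmap_mk (n : ℕ) (t : Twist p A) :
    qmap p A I n (Submodule.Quotient.mk t) = Submodule.Quotient.mk ((toTwist p A).symm t) := rfl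

theorem transition_qmap {m n : ℕ} (hmn : m ≤ n)
    (y : Twist p A ⧸ (I ^ n • ⊤ : Submodule A (Twist p A))) :
    AdicCompletion.transitionMap I A hmn (qmap p A I n y) =
      qmap p A I m (AdicCompletion.transitionMap I (Twist p A) hmn y) := by
  obtain ⟨t, rfl⟩ := Submodule.Quotient.mk_surjective _ y
  rfl

/-- The comparison map from the `I`-adic completion of `T` to that of `A`. -/
noncomputable def g : AdicCompletion I (Twist p A) →+ AdicCompletion I A where
  toFun x := ⟨fun n => qmap p A I n (x.val n), by
    intro m n hmn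
    rw [transition_qmap, AdicCompletion.transitionMap_comp_eval_apply]⟩
  map_zero' := by
    apply AdicCompletion.ext
    intro n
    show qmap p A I n ((0 : AdicCompletion I (Twist p A)).val n) = 0
    rw [AdicCompletion.val_zero_apply, map_zero]
  map_add' x y := by
    apply AdicCompletion.ext
    intro n
    show qmap p A I n ((x + y).val n) = qmap p A I n (x.val n) + qmap p A I n (y.val n)
    rw [AdicCompletion.val_add_apply, map_add]

theorem g_val (x : AdicCompletion I (Twist p A)) (n : ℕ) :
    (g p A I x).val n = qmap p A I n (x.val n) := rfl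


theorem g_injective [IsNoetherianRing A] : Function.Injective (g p A I) := by
  rw [injective_iff_map_eq_zero]
  intro x hx
  apply AdicCompletion.ext
  intro n
  obtain ⟨N, hnN, hN⟩ := exists_pow_le_twistIdeal p A I n
  obtain ⟨t, ht⟩ := Submodule.Quotient.mk_surjective _ (x.val N)
  have h1 : (g p A I x).val N = 0 := by rw [hx]; rfl
  rw [g_val, ← ht, qmap_mk, Submodule.Quotient.mk_eq_zero] at h1
  have h2 : (toTwist p A).symm t ∈ I ^ N := by simpa using h1
  have h3 := hN h2
  rw [mem_twistIdeal, RingEquiv.apply_symm_apply] at h3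
  rw [← AdicCompletion.transitionMap_comp_eval_apply I (Twist p A) hnN x, ← ht]
  show (Submodule.Quotient.mk t : Twist p A ⧸ (I ^ n • ⊤ : Submodule A (Twist p A))) = 0
  rw [Submodule.Quotient.mk_eq_zero]
  exact h3


theorem g_surjective [IsNoetherianRing A] : Function.Surjective (g p A I) := by
  intro y
  obtain ⟨a, rfl⟩ := AdicCompletion.mk_surjective I A y
  choose N hnN hN using exists_pow_le_twistIdeal p A I
  -- difference of two terms of the Cauchy sequence lies in a power of `I`
  have hdiff : ∀ {k l : ℕ}, k ≤ l → a.val l - a.val k ∈ I ^ k := by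
    intro k l hkl
    have h := a.property hkl
    rw [SModEq.comm, SModEq.sub_mem] at h
    simpa using h
  have hcauchy : AdicCompletion.IsAdicCauchy I (Twist p A) (fun n => toTwist p A (a.val (N n))) := by
    intro m n hmn
    rw [SModEq.comm, SModEq.sub_mem, ← map_sub]
    rcases le_total (N m) (N n) with h | h
    · exact hN m (hdiff h)
    · have h1 : a.val (N n) - a.val (N m) ∈ I ^ (N n) := by
        have := hdiff h
        rw [← neg_sub]
        exact neg_mem this
      have h2 := hN n h1
      rw [mem_twistIdeal] at h2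
      exact Submodule.smul_mono_left (Ideal.pow_le_pow_right hmn) h2
  refine ⟨AdicCompletion.mk I (Twist p A) ⟨_, hcauchy⟩, ?_⟩
  apply AdicCompletion.ext
  intro n
  rw [g_val]
  show qmap p A I n (Submodule.Quotient.mk (toTwist p A (a.val (N n)))) =
    Submodule.Quotient.mk (a.val n)
  rw [qmap_mk, RingEquiv.symm_apply_apply]
  exact AdicCompletion.AdicCauchySequence.mk_eq_mk (hnN n) a


variable [CharP (AdicCompletion I A) p]

theorem relFrob_tmul (b : AdicCompletion I A) (t : Twist p A) :
    FrobAlg.relFrob p A (AdicCompletion I A) (b ⊗ₜ[A] t) =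
      b ^ p * algebraMap A (AdicCompletion I A) ((toTwist p A).symm t) := by
  simp only [FrobAlg.relFrob, RingHom.coe_comp, Function.comp_apply, AlgHom.toRingHom_eq_coe,
    RingHom.coe_coe, Algebra.TensorProduct.lift_tmul]
  rfl

omit [CharP (AdicCompletion I A) p] in
theorem g_ofTensorProduct_tmul (b : AdicCompletion I A) (t : Twist p A) :
    g p A I (AdicCompletion.ofTensorProduct I (Twist p A) (b ⊗ₜ[A] t)) =
      b ^ p * algebraMap A (AdicCompletion I A) ((toTwist p A).symm t) := by
  apply AdicCompletion.ext
  intro n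
  rw [g_val, AdicCompletion.ofTensorProduct_tmul, AdicCompletion.smul_eval]
  obtain ⟨b', hb'⟩ := Submodule.Quotient.mk_surjective _ (b.val n)
  have hpow : (b ^ p * algebraMap A (AdicCompletion I A) ((toTwist p A).symm t)).val n =
      (b.val n) ^ p * Submodule.Quotient.mk ((toTwist p A).symm t) := rfl
  rw [hpow, ← hb']
  show qmap p A I n (Submodule.Quotient.mk (b' • t)) = _
  rw [qmap_mk, smul_twist, map_mul, RingEquiv.symm_apply_apply]
  rfl


theorem relFrob_eq (x : FrobAlg.BaseChange p A (AdicCompletion I A)) :
    FrobAlg.relFrob p A (AdicCompletion I A) x =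
      g p A I (AdicCompletion.ofTensorProduct I (Twist p A) x) := by
  induction x using TensorProduct.induction_on with
  | zero => simp
  | tmul b t => rw [relFrob_tmul, g_ofTensorProduct_tmul]
  | add x y hx hy => rw [map_add, map_add, map_add, hx, hy]

theorem relFrob_bijective [IsNoetherianRing A] (hF : (frobenius A p).Finite) :
    Function.Bijective (FrobAlg.relFrob p A (AdicCompletion I A)) := by
  have : Module.Finite A (Twist p A) := finite_twist p A hF
  have h1 := AdicCompletion.ofTensorProduct_bijective_of_finite_of_isNoetherian I (Twist p A)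
  have h2 : Function.Bijective (g p A I) := ⟨g_injective p A I, g_surjective p A I⟩
  have h3 : (FrobAlg.relFrob p A (AdicCompletion I A) : _ → _) =
      (g p A I) ∘ (AdicCompletion.ofTensorProduct I (Twist p A)) := by
    funext x
    exact relFrob_eq p A I x
  rw [h3]
  exact h2.comp h1

end Groth.Agent.R2.H84.FrobCompl
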