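import Mathlib
import Groth.Agent.R2.H84DiagSec

/-!
helper84: for a groupoid in sheaves `(U, R, s, t, c, e, i)` over `B` with stabilizer `G ⟶ U` and unit
section `eG : U ⟶ G`, the diagonal of `j = (t, s) : R ⟶ U ×_B U` is a base change of `eG`.
-/

set_option autoImplicit false

open CategoryTheory CategoryTheory.Limits AlgebraicGeometry

universe u

namespace Groth.Agent.R2.H84.GpdDiag

variable {S : Scheme.{u}} {B : AlgSp.Sp S} (G : AlgSp.GroupoidSp B)

lemma lift_c_congr {T : AlgSp.Sp S} {α α' β β' : T ⟶ G.R} (hα : α = α') (hβ : β = β')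
    (h : α ≫ G.s = β ≫ G.t) (h' : α' ≫ G.s = β' ≫ G.t) :
    pullback.lift α β h ≫ G.c = pullback.lift α' β' h' ≫ G.c := by
  subst hα hβ
  rfl

/-- two arrows with the same source and target whose "quotient" is an identity are equal. -/
lemma eq_of_inv_comp_eq_id {T : AlgSp.Sp S} (α β : T ⟶ G.R) (ht : α ≫ G.t = β ≫ G.t)
    (hs : α ≫ G.s = β ≫ G.s)
    (K : pullback.lift (α ≫ G.i) β (by rw [Category.assoc, G.i_s, ht]) ≫ G.c = β ≫ G.s ≫ G.e) :
    α = β := by
  have h1 : (α ≫ G.i) ≫ G.s = β ≫ G.t := by rw [Category.assoc, G.i_s, ht]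
  have h0 : α ≫ G.s = (α ≫ G.i) ≫ G.t := by rw [Category.assoc, G.i_t]
  have hA := G.assoc α (α ≫ G.i) β h0 h1
  -- left side of associativity
  have e1 : pullback.lift α (α ≫ G.i) h0 ≫ G.c = α ≫ G.t ≫ G.e := G.comp_i α
  have L : pullback.lift (pullback.lift α (α ≫ G.i) h0 ≫ G.c) β
      ((G.comp_s α (α ≫ G.i) h0).trans h1) ≫ G.c = β := by
    rw [lift_c_congr G (α' := β ≫ G.t ≫ G.e) (β' := β) (by rw [e1, ← Category.assoc, ht,
      Category.assoc]) rfl _
      (by rw [Category.assoc, Category.assoc, G.e_s, Category.comp_id])]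
    exact G.e_comp β
  -- right side of associativity
  have Rr : pullback.lift α (pullback.lift (α ≫ G.i) β h1 ≫ G.c)
      (h0.trans (G.comp_t (α ≫ G.i) β h1).symm) ≫ G.c = α := by
    rw [lift_c_congr G (α' := α) (β' := α ≫ G.s ≫ G.e) rfl (by rw [K, ← Category.assoc, ← hs,
      Category.assoc]) _
      (by rw [Category.assoc, Category.assoc, G.e_t, Category.comp_id])]
    exact G.comp_e α
  rw [← Rr, ← hA, L]

section Square

open AlgSp.GroupoidSp

lemma diag_fst : G.diag ≫ pullback.fst G.pU G.pU = 𝟙 G.U := pullback.lift_fst _ _ _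

lemma diag_snd : G.diag ≫ pullback.snd G.pU G.pU = 𝟙 G.U := pullback.lift_snd _ _ _

lemma stab_condition : G.stabilizerι ≫ G.j = G.stabilizerToU ≫ G.diag :=
  pullback.condition

lemma stabι_t : G.stabilizerι ≫ G.t = G.stabilizerToU := by
  have := stab_condition G =≫ pullback.fst G.pU G.pU
  simpa [Category.assoc, diag_fst] using this

lemma stabι_s : G.stabilizerι ≫ G.s = G.stabilizerToU := by
  have := stab_condition G =≫ pullback.snd G.pU G.pU
  simpa [Category.assoc, diag_snd] using this

variable (eG : G.U ⟶ G.stabilizer) (heG : eG ≫ G.stabilizerι = G.e)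

include heG in
lemma eG_toU : eG ≫ G.stabilizerToU = 𝟙 G.U := by
  rw [← stabι_t, ← Category.assoc, heG, G.e_t]

lemma fst_t_eq : pullback.fst G.j G.j ≫ G.t = pullback.snd G.j G.j ≫ G.t := by
  have := pullback.condition (f := G.j) (g := G.j) =≫ pullback.fst G.pU G.pU
  simpa [Category.assoc] using this

lemma fst_s_eq : pullback.fst G.j G.j ≫ G.s = pullback.snd G.j G.j ≫ G.s := by
  have := pullback.condition (f := G.j) (g := G.j) =≫ pullback.snd G.pU G.pU
  simpa [Category.assoc] using this

lemma quot_aux : (pullback.fst G.j G.j ≫ G.i) ≫ G.s = pullback.snd G.j G.j ≫ G.t := by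
  rw [Category.assoc, G.i_s, fst_t_eq]

/-- `(α, β) ↦ α⁻¹ ∘ β`. -/
noncomputable def quotArrow : pullback G.j G.j ⟶ G.R :=
  pullback.lift (pullback.fst G.j G.j ≫ G.i) (pullback.snd G.j G.j) (quot_aux G) ≫ G.c

lemma quotArrow_s : quotArrow G ≫ G.s = pullback.snd G.j G.j ≫ G.s :=
  G.comp_s _ _ (quot_aux G)

lemma quotArrow_t : quotArrow G ≫ G.t = pullback.snd G.j G.j ≫ G.s := by
  rw [quotArrow, G.comp_t _ _ (quot_aux G), Category.assoc, G.i_t, fst_s_eq]

lemma quotArrow_j : quotArrow G ≫ G.j = (pullback.snd G.j G.j ≫ G.s) ≫ G.diag := by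
  apply pullback.hom_ext
  · rw [Category.assoc, G.j_fst, quotArrow_t, Category.assoc, diag_fst, Category.comp_id]
  · rw [Category.assoc, G.j_snd, quotArrow_s, Category.assoc, diag_snd, Category.comp_id]

/-- `(α, β) ↦ α⁻¹ ∘ β`, as a map to the stabilizer. -/
noncomputable def quotStab : pullback G.j G.j ⟶ G.stabilizer :=
  pullback.lift (quotArrow G) (pullback.snd G.j G.j ≫ G.s) (quotArrow_j G)

lemma quotStab_ι : quotStab G ≫ G.stabilizerι = quotArrow G := pullback.lift_fst _ _ _

lemma quotStab_toU : quotStab G ≫ G.stabilizerToU = pullback.snd G.j G.j ≫ G.s :=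
  pullback.lift_snd _ _ _

lemma comp_quotArrow {T : AlgSp.Sp S} (x : T ⟶ pullback G.j G.j) :
    x ≫ quotArrow G = pullback.lift ((x ≫ pullback.fst G.j G.j) ≫ G.i) (x ≫ pullback.snd G.j G.j)
      (by rw [Category.assoc, Category.assoc, Category.assoc, ← quot_aux G, Category.assoc]) ≫ G.c := by
  rw [quotArrow, ← Category.assoc]
  congr 1
  apply pullback.hom_ext
  · rw [Category.assoc, pullback.lift_fst, pullback.lift_fst, Category.assoc]
  · rw [Category.assoc, pullback.lift_snd, pullback.lift_snd]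

include heG in
/-- **The diagonal of `j` is a base change of the unit section of the stabilizer.** -/
theorem isPullback_diagonal_j :
    IsPullback (pullback.diagonal G.j) G.s (quotStab G) eG := by
  have heU := eG_toU G eG heG
  refine ⟨⟨?_⟩, ⟨PullbackCone.IsLimit.mk _ (fun s => s.fst ≫ pullback.fst G.j G.j) ?_ ?_ ?_⟩⟩
  · -- commutativity
    apply pullback.hom_ext
    · change (pullback.diagonal G.j ≫ quotStab G) ≫ G.stabilizerι = (G.s ≫ eG) ≫ G.stabilizerι
      have R : (G.s ≫ eG) ≫ G.stabilizerι = G.s ≫ G.e := by rw [Category.assoc, heG]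
      have L : (pullback.diagonal G.j ≫ quotStab G) ≫ G.stabilizerι =
          pullback.diagonal G.j ≫ quotArrow G := by rw [Category.assoc, quotStab_ι]
      rw [R, L, comp_quotArrow]
      rw [lift_c_congr G (α' := 𝟙 G.R ≫ G.i) (β' := 𝟙 G.R)
        (by rw [pullback.diagonal_fst]) (by rw [pullback.diagonal_snd]) _
        (by rw [Category.assoc, G.i_s])]
      rw [G.i_comp (𝟙 G.R), Category.id_comp]
    · change (pullback.diagonal G.j ≫ quotStab G) ≫ G.stabilizerToU =
        (G.s ≫ eG) ≫ G.stabilizerToU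
      rw [Category.assoc, quotStab_toU, ← Category.assoc, pullback.diagonal_snd, Category.id_comp,
        Category.assoc, heU, Category.comp_id]
  · -- the lift composed with the diagonal
    intro s
    have hc := s.condition
    have hc1 := hc =≫ G.stabilizerι
    have hc2 := hc =≫ G.stabilizerToU
    rw [Category.assoc, quotStab_ι, Category.assoc, heG, comp_quotArrow] at hc1
    rw [Category.assoc, quotStab_toU, Category.assoc, heU, Category.comp_id] at hc2
    have hts : (s.fst ≫ pullback.fst G.j G.j) ≫ G.t = (s.fst ≫ pullback.snd G.j G.j) ≫ G.t := by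
      rw [Category.assoc, Category.assoc, fst_t_eq]
    have hss : (s.fst ≫ pullback.fst G.j G.j) ≫ G.s = (s.fst ≫ pullback.snd G.j G.j) ≫ G.s := by
      rw [Category.assoc, Category.assoc, fst_s_eq]
    have hαβ : s.fst ≫ pullback.fst G.j G.j = s.fst ≫ pullback.snd G.j G.j := by
      refine eq_of_inv_comp_eq_id G _ _ hts hss ?_
      rw [hc1, ← hc2]
      simp only [Category.assoc]
    apply pullback.hom_ext
    · rw [Category.assoc, pullback.diagonal_fst, Category.comp_id]
    · rw [Category.assoc, pullback.diagonal_snd, Category.comp_id, hαβ]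
  · intro s
    have hc := s.condition
    have hc1 := hc =≫ G.stabilizerι
    have hc2 := hc =≫ G.stabilizerToU
    rw [Category.assoc, quotStab_ι, Category.assoc, heG, comp_quotArrow] at hc1
    rw [Category.assoc, quotStab_toU, Category.assoc, heU, Category.comp_id] at hc2
    have hts : (s.fst ≫ pullback.fst G.j G.j) ≫ G.t = (s.fst ≫ pullback.snd G.j G.j) ≫ G.t := by
      rw [Category.assoc, Category.assoc, fst_t_eq]
    have hss : (s.fst ≫ pullback.fst G.j G.j) ≫ G.s = (s.fst ≫ pullback.snd G.j G.j) ≫ G.s := by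
      rw [Category.assoc, Category.assoc, fst_s_eq]
    rw [hss, ← hc2, Category.assoc]
  · intro s m hm _
    rw [← hm, Category.assoc, pullback.diagonal_fst, Category.comp_id]

end Square

end Groth.Agent.R2.H84.GpdDiag
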