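import Mathlib
import Groth.Agent.R2.H84GpdDiag

/-!
helper84: the composition `c : R ×_{s,U,t} R ⟶ R` of a groupoid in sheaves is a base change of the
source map `s` (along `s`): `(α, β) ↦ (α ∘ β, β)` identifies `R ×_{s,U,t} R` with `R ×_{s,U,s} R`.
-/

set_option autoImplicit false

open CategoryTheory CategoryTheory.Limits AlgebraicGeometry

universe u

namespace Groth.Agent.R2.H84.GpdComp

open Groth.Agent.R2.H84.GpdDiag

variable {S : Scheme.{u}} {B : AlgSp.Sp S} (G : AlgSp.GroupoidSp B)

lemma comp_c {T : AlgSp.Sp S} (x : T ⟶ pullback G.s G.t) :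
    x ≫ G.c = pullback.lift (x ≫ pullback.fst G.s G.t) (x ≫ pullback.snd G.s G.t)
      (by rw [Category.assoc, Category.assoc, pullback.condition]) ≫ G.c := by
  congr 1
  apply pullback.hom_ext
  · rw [pullback.lift_fst]
  · rw [pullback.lift_snd]

lemma c_s : G.c ≫ G.s = pullback.snd G.s G.t ≫ G.s := by
  have h := G.comp_s (pullback.fst G.s G.t) (pullback.snd G.s G.t) pullback.condition
  have e : pullback.lift (pullback.fst G.s G.t) (pullback.snd G.s G.t) pullback.condition =
      𝟙 (pullback G.s G.t) := by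
    apply pullback.hom_ext
    · rw [pullback.lift_fst, Category.id_comp]
    · rw [pullback.lift_snd, Category.id_comp]
  rwa [e, Category.id_comp] at h

/-- **The composition is a base change of the source map.** -/
theorem isPullback_c : IsPullback G.c (pullback.snd G.s G.t) G.s G.s := by
  have hγβ : ∀ k : PullbackCone G.s G.s, k.fst ≫ G.s = (k.snd ≫ G.i) ≫ G.t := fun k => by
    rw [Category.assoc, G.i_t]; exact k.condition
  have hα : ∀ k : PullbackCone G.s G.s,
      (pullback.lift k.fst (k.snd ≫ G.i) (hγβ k) ≫ G.c) ≫ G.s = k.snd ≫ G.t := fun k => by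
    rw [G.comp_s, Category.assoc, G.i_s]
  refine ⟨⟨c_s G⟩, ⟨PullbackCone.IsLimit.mk _
    (fun k => pullback.lift (pullback.lift k.fst (k.snd ≫ G.i) (hγβ k) ≫ G.c) k.snd (hα k))
    ?_ ?_ ?_⟩⟩
  · intro k
    rw [comp_c]
    rw [lift_c_congr G (α' := pullback.lift k.fst (k.snd ≫ G.i) (hγβ k) ≫ G.c) (β' := k.snd)
      (pullback.lift_fst _ _ _) (pullback.lift_snd _ _ _) _ (hα k)]
    have h1 : (k.snd ≫ G.i) ≫ G.s = k.snd ≫ G.t := by rw [Category.assoc, G.i_s]
    rw [G.assoc k.fst (k.snd ≫ G.i) k.snd (hγβ k) h1]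
    rw [lift_c_congr G (α' := k.fst) (β' := k.fst ≫ G.s ≫ G.e) rfl
      (by rw [G.i_comp k.snd, ← Category.assoc, ← k.condition, Category.assoc]) _
      (by rw [Category.assoc, Category.assoc, G.e_t, Category.comp_id])]
    exact G.comp_e k.fst
  · intro k
    exact pullback.lift_snd _ _ _
  · intro k m hm1 hm2
    have hcond : (m ≫ pullback.fst G.s G.t) ≫ G.s = (m ≫ pullback.snd G.s G.t) ≫ G.t := by
      rw [Category.assoc, Category.assoc, pullback.condition]
    apply pullback.hom_ext
    · rw [pullback.lift_fst]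
      -- α' = (α' β) β⁻¹
      have hγ : k.fst = pullback.lift (m ≫ pullback.fst G.s G.t) (m ≫ pullback.snd G.s G.t) hcond ≫
          G.c := by rw [← hm1, comp_c]
      have h0 : (m ≫ pullback.snd G.s G.t) ≫ G.s = ((m ≫ pullback.snd G.s G.t) ≫ G.i) ≫ G.t := by
        rw [Category.assoc _ G.i, G.i_t]
      have hA := G.assoc (m ≫ pullback.fst G.s G.t) (m ≫ pullback.snd G.s G.t)
        ((m ≫ pullback.snd G.s G.t) ≫ G.i) hcond h0
      rw [lift_c_congr G (α' := pullback.lift (m ≫ pullback.fst G.s G.t)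
          (m ≫ pullback.snd G.s G.t) hcond ≫ G.c) (β' := (m ≫ pullback.snd G.s G.t) ≫ G.i) hγ
          (by rw [hm2]) _ ((G.comp_s _ _ hcond).trans h0)]
      rw [hA]
      rw [lift_c_congr G (α' := m ≫ pullback.fst G.s G.t)
        (β' := (m ≫ pullback.fst G.s G.t) ≫ G.s ≫ G.e) rfl
        (by rw [G.comp_i, ← Category.assoc, ← hcond, Category.assoc]) _
        (by simp only [Category.assoc, G.e_t, Category.comp_id])]
      exact (G.comp_e _).symm
    · rw [pullback.lift_snd, hm2]

end Groth.Agent.R2.H84.GpdComp
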