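import Mathlib
import Groth.Prelude.Def_AlgSpGpd
import Groth.Prelude.Def_AlgSpDec
import Groth.Agent.R2.H84GpdRestr

/-!
helper84: lifting a point of `R` to the restriction of a groupoid along `U' ⟶ U`, when source and
target of the point factor through `U'` up to an automorphism of `U'`.
-/

set_option autoImplicit false

open CategoryTheory CategoryTheory.Limits AlgebraicGeometry

universe u

namespace Groth.Agent.R2.H84.GpdPointLift

variable {S : Scheme.{u}} {B : AlgSp.Sp S} {G' G : AlgSp.GroupoidSp B}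

open Groth.Agent.R2.H84.GpdRestr in
theorem exists_lift_restriction (φ : AlgSp.GroupoidSp.Hom G' G) (hφ : φ.IsRestriction)
    {U₀ U₀' P : Over S} (eU : G.U ≅ (AlgSp.yon S).obj U₀) (eU' : G'.U ≅ (AlgSp.yon S).obj U₀')
    (π : U₀' ⟶ U₀) (hfU : φ.fU = eU'.hom ≫ (AlgSp.yon S).map π ≫ eU.inv)
    (ρ₀ : (AlgSp.yon S).obj P ⟶ G.R) (ms mt : P ⟶ U₀)
    (hms : (AlgSp.yon S).map ms = ρ₀ ≫ G.s ≫ eU.hom)
    (hmt : (AlgSp.yon S).map mt = ρ₀ ≫ G.t ≫ eU.hom)
    (τ : U₀' ⟶ P) (α : U₀' ≅ U₀') (C1 : τ ≫ ms = π) (C2 : α.hom ≫ π = τ ≫ mt) :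
    ∃ r' : G'.U ⟶ G'.R, r' ≫ φ.fR = eU'.hom ≫ (AlgSp.yon S).map τ ≫ ρ₀ ∧
      IsIso (r' ≫ G'.s) ∧ IsIso (r' ≫ G'.t) := by
  have hs' : ρ₀ ≫ G.s = (AlgSp.yon S).map ms ≫ eU.inv := by
    rw [hms, Category.assoc, Category.assoc, eU.hom_inv_id, Category.comp_id]
  have ht' : ρ₀ ≫ G.t = (AlgSp.yon S).map mt ≫ eU.inv := by
    rw [hmt, Category.assoc, Category.assoc, eU.hom_inv_id, Category.comp_id]
  have h1 : (eU'.hom ≫ (AlgSp.yon S).map α.hom ≫ eU'.inv) ≫ φ.fU =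
      (eU'.hom ≫ (AlgSp.yon S).map τ ≫ ρ₀) ≫ G.t := by
    rw [hfU]
    simp only [Category.assoc, Iso.inv_hom_id_assoc]
    rw [ht', ← Functor.map_comp_assoc, ← Functor.map_comp_assoc, C2]
  have h2 : (𝟙 G'.U) ≫ φ.fU = (eU'.hom ≫ (AlgSp.yon S).map τ ≫ ρ₀) ≫ G.s := by
    rw [hfU, Category.id_comp]
    simp only [Category.assoc]
    rw [hs', ← Functor.map_comp_assoc, C1]
  obtain ⟨r', ⟨hr1, hr2, hr3⟩, -⟩ := restr_of_isRestriction φ hφ _ _ _ h1 h2
  refine ⟨r', hr1, ?_, ?_⟩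
  · rw [hr3]; infer_instance
  · rw [hr2]; infer_instance

/-- the image of any point under a morphism factoring through the morphism of a field-valued point
is the class of that field-valued point. -/
theorem points_map_comp_toHom {F A : AlgSp.Sp S} (q : AlgSp.FieldPt F)
    (a : A ⟶ (AlgSp.yon S).obj q.pt) (x : AlgSp.Points A) :
    AlgSp.Points.map (a ≫ q.toHom) x = AlgSp.Points.mk q := by
  rw [AlgSp.Points.map_comp]
  obtain ⟨s, hs⟩ := (AlgSp.Points.schemeEquiv q.pt).surjective (AlgSp.Points.map a x)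
  rw [← hs]
  change AlgSp.Points.map q.toHom (AlgSp.Points.ofPt (𝟙 _) s) = _
  rw [AlgSp.Points.map_ofPt, Category.id_comp]
  exact AlgSp.Points.ofPt_toHom q s

end Groth.Agent.R2.H84.GpdPointLift
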