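import Mathlib.AlgebraicGeometry.Morphisms.FiniteType
import Mathlib.AlgebraicGeometry.Restrict
import Mathlib.AlgebraicGeometry.Noetherian
import Mathlib.AlgebraicGeometry.IdealSheaf.Subscheme
import Mathlib.AlgebraicGeometry.Morphisms.ClosedImmersion
import Mathlib.AlgebraicGeometry.PullbackCarrier
import Groth.Prelude.Def_K0Var

set_option autoImplicit false
universe u

open CategoryTheory CategoryTheory.Limits AlgebraicGeometry

namespace Groth.Agent.R2.H84.K0Fib

variable {S : Scheme.{u}}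

theorem cl_eq_of_eq {X : Scheme.{u}} {f g : X ⟶ S} [LocallyOfFiniteType f] [QuasiCompact f]
    [LocallyOfFiniteType g] [QuasiCompact g] (h : f = g) : K0Var.cl f = K0Var.cl g := by
  subst h; rfl

theorem cl_eq_zero_of_isEmpty {X : Scheme.{u}} (f : X ⟶ S) [LocallyOfFiniteType f] [QuasiCompact f]
    [IsEmpty X] : K0Var.cl f = 0 :=
  K0Var.Gen.cl_eq_zero_of_isEmpty (K0Var.Gen.mk X f)

variable {X Y F : Scheme.{u}} (f : X ⟶ Y) (pY : Y ⟶ S) (pF : F ⟶ S)

/-- `f` is trivial with fibre `F` over the open `U`. -/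
def Triv (U : Y.Opens) : Prop :=
  ∃ e : (f ⁻¹ᵁ U).toScheme ≅ pullback (U.ι ≫ pY) pF, e.hom ≫ pullback.fst (U.ι ≫ pY) pF = f ∣_ U

variable [LocallyOfFiniteType f] [QuasiCompact f] [LocallyOfFiniteType pF] [QuasiCompact pF]

/-- The base change of `X` along `h : W ⟶ Y` has class `[W] * [F]`. -/
def Good {W : Scheme.{u}} (h : W ⟶ Y) (pW : W ⟶ S) [LocallyOfFiniteType pW] [QuasiCompact pW] :
    Prop :=
  K0Var.cl (pullback.snd f h ≫ pW) = K0Var.cl pW * K0Var.cl pF

theorem good_of_triv {U : Y.Opens} (hU : Triv f pY pF U) {W : Scheme.{u}} (h : W ⟶ Y) (pW : W ⟶ S)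
    [LocallyOfFiniteType pW] [QuasiCompact pW] (hW : h ≫ pY = pW)
    (hr : Set.range h ⊆ (U : Set Y)) : Good f pF h pW := by
  obtain ⟨e, he⟩ := hU
  have hr' : Set.range h ⊆ Set.range U.ι := by
    rw [Scheme.Opens.range_ι]; exact hr
  let t' : W ⟶ U.toScheme := IsOpenImmersion.lift U.ι h hr'
  have ht' : t' ≫ U.ι = h := IsOpenImmersion.lift_fac _ _ _
  have A := IsPullback.of_hasPullback (f ∣_ U) t'
  have B := isPullback_morphismRestrict f U
  have hQ1 : IsPullback (pullback.fst (f ∣_ U) t' ≫ (f ⁻¹ᵁ U).ι) (pullback.snd (f ∣_ U) t') f h := by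
    have := A.paste_horiz B.flip
    rwa [ht'] at this
  have C' : IsPullback (e.hom ≫ pullback.snd (U.ι ≫ pY) pF) (f ∣_ U) pF (U.ι ≫ pY) := by
    refine (IsPullback.of_hasPullback (U.ι ≫ pY) pF).flip.of_iso' e (Iso.refl _) (Iso.refl _)
      (Iso.refl _) ?_ ?_ ?_ ?_
    · simp
    · simp [he]
    · simp
    · simp
  have hQ2 : IsPullback (pullback.snd (f ∣_ U) t')
      (pullback.fst (f ∣_ U) t' ≫ e.hom ≫ pullback.snd (U.ι ≫ pY) pF) pW pF := by
    have := (A.paste_horiz C').flip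
    rwa [reassoc_of% ht', hW] at this
  let i1 := hQ1.isoIsPullback _ _ (IsPullback.of_hasPullback f h)
  let i2 := hQ2.isoIsPullback _ _ (IsPullback.of_hasPullback pW pF)
  have h1 : i1.hom ≫ pullback.snd f h = pullback.snd (f ∣_ U) t' :=
    IsPullback.isoIsPullback_hom_snd _ _ _ _
  have h2 : i2.hom ≫ pullback.fst pW pF = pullback.snd (f ∣_ U) t' :=
    IsPullback.isoIsPullback_hom_fst _ _ _ _
  unfold Good
  rw [← K0Var.cl_mul]
  refine K0Var.cl_congr _ _ (i1.symm ≪≫ i2) ?_
  rw [Iso.trans_hom, Iso.symm_hom, Category.assoc, reassoc_of% h2, ← reassoc_of% h1,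
    Iso.inv_hom_id_assoc]


theorem good_of_scissor {W W' T : Scheme.{u}} (h : W ⟶ Y) (pW : W ⟶ S)
    [LocallyOfFiniteType pW] [QuasiCompact pW]
    (i : T ⟶ W) [IsClosedImmersion i] (j : W' ⟶ W) [IsOpenImmersion j] [QuasiCompact j]
    (hr : Set.range i = (Set.range j)ᶜ)
    (hj : Good f pF (j ≫ h) (j ≫ pW)) (hi : Good f pF (i ≫ h) (i ≫ pW)) :
    Good f pF h pW := by
  unfold Good at hj hi ⊢
  have hr' : Set.range (pullback.fst (pullback.snd f h) i) =
      (Set.range (pullback.fst (pullback.snd f h) j))ᶜ := by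
    rw [Scheme.Pullback.range_fst, Scheme.Pullback.range_fst, hr, Set.preimage_compl]
  have h0 := K0Var.cl_scissor (pullback.snd f h ≫ pW) (pullback.fst (pullback.snd f h) i)
    (pullback.fst (pullback.snd f h) j) hr'
  have h1 := K0Var.cl_scissor pW i j hr
  have hi' : K0Var.cl (pullback.fst (pullback.snd f h) i ≫ pullback.snd f h ≫ pW) =
      K0Var.cl (pullback.snd f (i ≫ h) ≫ i ≫ pW) := by
    refine K0Var.cl_congr _ _ (pullbackLeftPullbackSndIso f h i) ?_
    rw [pullbackLeftPullbackSndIso_hom_snd_assoc, pullback.condition_assoc]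
  have hj' : K0Var.cl (pullback.fst (pullback.snd f h) j ≫ pullback.snd f h ≫ pW) =
      K0Var.cl (pullback.snd f (j ≫ h) ≫ j ≫ pW) := by
    refine K0Var.cl_congr _ _ (pullbackLeftPullbackSndIso f h j) ?_
    rw [pullbackLeftPullbackSndIso_hom_snd_assoc, pullback.condition_assoc]
  rw [h0, hi', hj', hi, hj, h1, add_mul]


theorem good_of_finset [IsLocallyNoetherian S] (s : Finset Y.Opens) :
    (∀ U ∈ s, Triv f pY pF U) →
    ∀ {W : Scheme.{u}} (h : W ⟶ Y) (pW : W ⟶ S) [LocallyOfFiniteType pW] [QuasiCompact pW],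
      h ≫ pY = pW → Set.range h ⊆ ⋃ U ∈ s, (U : Set Y) → Good f pF h pW := by
  classical
  induction s using Finset.induction_on with
  | empty =>
    intro _ W h pW _ _ hW hr
    have hWe : IsEmpty W := ⟨fun w => by simpa using hr ⟨w, rfl⟩⟩
    have hPe : IsEmpty ↥(pullback f h) := ⟨fun p => hWe.false ((pullback.snd f h) p)⟩
    unfold Good
    rw [cl_eq_zero_of_isEmpty, cl_eq_zero_of_isEmpty, zero_mul]
  | insert U s' hU ih =>
    intro hs W h pW _ _ hW hr
    have : IsLocallyNoetherian W := LocallyOfFiniteType.isLocallyNoetherian pW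
    let V : Y.Opens := ⟨⋃ U' ∈ s', (U' : Set Y), isOpen_biUnion (fun U' _ => U'.2)⟩
    let W' : W.Opens := h ⁻¹ᵁ V
    let Z : TopologicalSpace.Closeds W := ⟨(W' : Set W)ᶜ, W'.isOpen.isClosed_compl⟩
    let I := Scheme.IdealSheafData.vanishingIdeal Z
    have hri : Set.range I.subschemeι = (Set.range W'.ι)ᶜ := by
      rw [Scheme.IdealSheafData.range_subschemeι,
        Scheme.IdealSheafData.coe_support_vanishingIdeal, Scheme.Opens.range_ι]
      rfl
    refine good_of_scissor f pF h pW I.subschemeι W'.ι hri ?_ ?_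
    · refine ih (fun U' hU' => hs U' (Finset.mem_insert_of_mem hU')) (W'.ι ≫ h) (W'.ι ≫ pW)
        (by rw [Category.assoc, hW]) ?_
      rintro _ ⟨x, rfl⟩
      exact x.2
    · refine good_of_triv f pY pF (hs U (Finset.mem_insert_self _ _)) (I.subschemeι ≫ h)
        (I.subschemeι ≫ pW) (by rw [Category.assoc, hW]) ?_
      rintro _ ⟨x, rfl⟩
      have hx : I.subschemeι x ∉ (W' : Set W) := by
        have : I.subschemeι x ∈ Set.range I.subschemeι := ⟨x, rfl⟩
        rw [hri, Scheme.Opens.range_ι] at this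
        exact this
      have h2 := hr ⟨I.subschemeι x, rfl⟩
      simp only [Finset.mem_insert, Set.iUnion_iUnion_eq_or_left, Set.mem_union] at h2
      rcases h2 with h2 | h2
      · exact h2
      · exact absurd h2 hx


/-- Zariski-locally trivial fibrations are multiplicative in the Grothendieck ring of varieties. -/
theorem cl_eq_mul_of_locallyTrivial [IsLocallyNoetherian S] [LocallyOfFiniteType pY]
    [QuasiCompact pY] [CompactSpace Y]
    (hf : ∀ y : Y, ∃ U : Y.Opens, y ∈ U ∧ Triv f pY pF U) :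
    K0Var.cl (f ≫ pY) = K0Var.cl pY * K0Var.cl pF := by
  classical
  choose U hyU hU using hf
  obtain ⟨t, ht⟩ := isCompact_univ.elim_finite_subcover (fun y => (U y : Set Y))
    (fun y => (U y).2) (fun y _ => Set.mem_iUnion.2 ⟨y, hyU y⟩)
  have key := good_of_finset f pY pF (t.image U)
    (fun V hV => by
      obtain ⟨y, _, rfl⟩ := Finset.mem_image.1 hV
      exact hU y) (𝟙 Y) pY (Category.id_comp _)
    (by
      rintro _ ⟨y, rfl⟩
      obtain ⟨z, hz, hy⟩ := Set.mem_iUnion₂.1 (ht (Set.mem_univ y))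
      exact Set.mem_iUnion₂.2 ⟨U z, Finset.mem_image_of_mem _ hz, hy⟩)
  unfold Good at key
  rw [← key]
  refine (K0Var.cl_congr _ _ (asIso (pullback.fst f (𝟙 Y))) ?_).symm
  rw [asIso_hom, pullback.condition_assoc, Category.id_comp]


end Groth.Agent.R2.H84.K0Fib
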