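import Groth.Agent.R2.H84KempfRat
import Mathlib.Analysis.InnerProductSpace.Projection.Minimal
import Mathlib.Analysis.Convex.StrictConvexSpace
import Mathlib.Analysis.InnerProductSpace.Convex
import Mathlib.Topology.Algebra.Order.Archimedean
import Mathlib.Analysis.Normed.Module.FiniteDimension

/-!
# Kempf's lemma on the optimal lattice vector (helper84)

Parts: `exists_max` (the maximum of `g_min/‖·‖` on the cone is attained), `sameRay_of_max`
(maximisers lie on one ray, by strict convexity), `exists_lattice_point_on_ray` (rationality of the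
maximising ray, via the active-set description of the minimum-norm point of a rational polyhedron),
`exists_generator` (lattice points on a line are cyclic), `existsUnique_primitive_maximizer`.
-/

set_option autoImplicit false
universe u

namespace Groth.Agent.R2.H84.Kempf

open Finset

variable {E : Type u} [NormedAddCommGroup E] [InnerProductSpace ℝ E]

section Inf
variable (H : Finset (Module.Dual ℝ E)) (hH : H.Nonempty)

theorem inf_smul {t : ℝ} (ht : 0 ≤ t) (v : E) :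
    H.inf' hH (fun h => h (t • v)) = t * H.inf' hH (fun h => h v) := by
  apply le_antisymm
  · obtain ⟨h₀, hh₀, he⟩ := Finset.exists_mem_eq_inf' hH (fun h => h v)
    rw [he]
    refine (Finset.inf'_le _ hh₀).trans ?_
    simp
  · rw [Finset.le_inf'_iff]
    intro h hh
    rw [map_smul, smul_eq_mul]
    exact mul_le_mul_of_nonneg_left (Finset.inf'_le _ hh) ht

theorem inf_add_le (v w : E) :
    H.inf' hH (fun h => h v) + H.inf' hH (fun h => h w) ≤ H.inf' hH (fun h => h (v + w)) := by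
  rw [Finset.le_inf'_iff]
  intro h hh
  rw [map_add]
  exact add_le_add (Finset.inf'_le _ hh) (Finset.inf'_le _ hh)

theorem inf_add_neg_le (v : E) :
    H.inf' hH (fun h => h v) + H.inf' hH (fun h => h (-v)) ≤ 0 := by
  obtain ⟨h, hh⟩ := hH
  have h1 := Finset.inf'_le (fun h => h v) hh
  have h2 : H.inf' ⟨h, hh⟩ (fun h => h (-v)) ≤ -(h v) :=
    (Finset.inf'_le (fun h => h (-v)) hh).trans (by simp)
  linarith

theorem inf_zero : H.inf' hH (fun h => h (0 : E)) = 0 := by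
  apply le_antisymm
  · obtain ⟨h, hh⟩ := hH
    exact (Finset.inf'_le (fun h => h (0 : E)) hh).trans (le_of_eq (map_zero h))
  · rw [Finset.le_inf'_iff]
    intro h _
    simp

theorem continuous_inf [FiniteDimensional ℝ E] :
    Continuous (fun v => H.inf' hH (fun h => h v)) :=
  Continuous.finset_inf'_apply hH fun h _ => LinearMap.continuous_of_finiteDimensional h

end Inf

section Max
variable (F G : Finset (Module.Dual ℝ E)) (hF : F.Nonempty) (hG : G.Nonempty)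

/-- Part A: the maximum of `g_min / ‖·‖` on the cone is attained. -/
theorem exists_max [FiniteDimensional ℝ E]
    (hpos : ∃ v : E, 0 ≤ F.inf' hF (fun f => f v) ∧ 0 < G.inf' hG (fun g => g v)) :
    ∃ u : E, u ≠ 0 ∧ 0 ≤ F.inf' hF (fun f => f u) ∧ 0 < G.inf' hG (fun g => g u) ∧
      ∀ v : E, v ≠ 0 → 0 ≤ F.inf' hF (fun f => f v) →
        G.inf' hG (fun g => g v) / ‖v‖ ≤ G.inf' hG (fun g => g u) / ‖u‖ := by
  obtain ⟨v₁, hv₁F, hv₁G⟩ := hpos
  have hv₁0 : v₁ ≠ 0 := by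
    rintro rfl
    rw [inf_zero] at hv₁G
    exact lt_irrefl _ hv₁G
  let K : Set E := Metric.sphere (0 : E) 1 ∩ {v | 0 ≤ F.inf' hF (fun f => f v)}
  have hKc : IsCompact K :=
    (isCompact_sphere (0 : E) 1).inter_right
      (isClosed_le continuous_const (continuous_inf F hF))
  have hnorm : ∀ v : E, v ≠ 0 → 0 ≤ F.inf' hF (fun f => f v) → ‖v‖⁻¹ • v ∈ K ∧
      G.inf' hG (fun g => g (‖v‖⁻¹ • v)) = G.inf' hG (fun g => g v) / ‖v‖ := by
    intro v hv hv'
    have hn : 0 < ‖v‖ := norm_pos_iff.2 hv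
    refine ⟨⟨?_, ?_⟩, ?_⟩
    · rw [mem_sphere_zero_iff_norm, norm_smul, norm_inv, norm_norm, inv_mul_cancel₀ hn.ne']
    · change 0 ≤ F.inf' hF (fun f => f (‖v‖⁻¹ • v))
      rw [inf_smul F hF (inv_nonneg.2 hn.le)]
      exact mul_nonneg (inv_nonneg.2 hn.le) hv'
    · rw [inf_smul G hG (inv_nonneg.2 hn.le), div_eq_inv_mul]
  have hKne : K.Nonempty := ⟨_, (hnorm v₁ hv₁0 hv₁F).1⟩
  obtain ⟨u, huK, humax⟩ := hKc.exists_isMaxOn hKne (continuous_inf G hG).continuousOn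
  have hun : ‖u‖ = 1 := mem_sphere_zero_iff_norm.1 huK.1
  have hu0 : u ≠ 0 := by
    rintro rfl
    simp at hun
  have hmax : ∀ v : E, v ≠ 0 → 0 ≤ F.inf' hF (fun f => f v) →
      G.inf' hG (fun g => g v) / ‖v‖ ≤ G.inf' hG (fun g => g u) / ‖u‖ := by
    intro v hv hv'
    obtain ⟨h1, h2⟩ := hnorm v hv hv'
    rw [hun, div_one, ← h2]
    exact humax h1
  refine ⟨u, hu0, huK.2, ?_, hmax⟩
  have h3 := hmax v₁ hv₁0 hv₁F
  rw [hun, div_one] at h3
  exact lt_of_lt_of_le (div_pos hv₁G (norm_pos_iff.2 hv₁0)) h3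

/-- Part B: two maximisers lie on the same ray. -/
theorem sameRay_of_max (M : ℝ) (hM : 0 < M)
    (hmax : ∀ v : E, v ≠ 0 → 0 ≤ F.inf' hF (fun f => f v) → G.inf' hG (fun g => g v) / ‖v‖ ≤ M)
    {v w : E} (hv0 : v ≠ 0) (hw0 : w ≠ 0)
    (hv : 0 ≤ F.inf' hF (fun f => f v)) (hw : 0 ≤ F.inf' hF (fun f => f w))
    (hvM : G.inf' hG (fun g => g v) / ‖v‖ = M) (hwM : G.inf' hG (fun g => g w) / ‖w‖ = M) :
    SameRay ℝ v w := by
  by_contra hns
  have hlt := norm_add_lt_of_not_sameRay hns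
  have hnv : 0 < ‖v‖ := norm_pos_iff.2 hv0
  have hnw : 0 < ‖w‖ := norm_pos_iff.2 hw0
  have hgv : G.inf' hG (fun g => g v) = M * ‖v‖ := by
    rw [← hvM, div_mul_cancel₀ _ hnv.ne']
  have hgw : G.inf' hG (fun g => g w) = M * ‖w‖ := by
    rw [← hwM, div_mul_cancel₀ _ hnw.ne']
  have hadd := inf_add_le G hG v w
  by_cases hvw : v + w = 0
  · rw [hvw, inf_zero, hgv, hgw] at hadd
    nlinarith
  · have h1 := hmax (v + w) hvw ((add_nonneg hv hw).trans (inf_add_le F hF v w))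
    rw [div_le_iff₀ (norm_pos_iff.2 hvw)] at h1
    rw [hgv, hgw] at hadd
    nlinarith


open Filter Topology in
theorem eventually_bound (φ : Module.Dual ℝ E) (w y : E) (c : ℝ)
    (h : c < φ w ∨ (c = φ w ∧ φ y = 0)) :
    ∀ᶠ t in 𝓝[>] (0 : ℝ), c ≤ φ (w + t • y) ∧ c ≤ φ (w - t • y) := by
  rcases h with h | ⟨h1, h2⟩
  · have c1 : Tendsto (fun t : ℝ => φ w + t * φ y) (𝓝 0) (𝓝 (φ w)) := by
      have : Continuous (fun t : ℝ => φ w + t * φ y) := by fun_prop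
      simpa using this.tendsto 0
    have c2 : Tendsto (fun t : ℝ => φ w - t * φ y) (𝓝 0) (𝓝 (φ w)) := by
      have : Continuous (fun t : ℝ => φ w - t * φ y) := by fun_prop
      simpa using this.tendsto 0
    filter_upwards [nhdsWithin_le_nhds (c1.eventually_const_lt h),
      nhdsWithin_le_nhds (c2.eventually_const_lt h)] with t e1 e2
    simp only [map_add, map_sub, map_smul, smul_eq_mul]
    exact ⟨e1.le, e2.le⟩
  · refine Filter.Eventually.of_forall fun t => ?_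
    simp only [map_add, map_sub, map_smul, smul_eq_mul, h2, mul_zero, add_zero, sub_zero]
    exact ⟨h1.le, h1.le⟩

/-- Part C: the maximising ray contains a lattice point. -/
theorem exists_lattice_point_on_ray [FiniteDimensional ℝ E]
    (L : Submodule ℤ E) [DiscreteTopology L] [IsZLattice ℝ L]
    (hint : ∀ x ∈ L, ∀ y ∈ L, ∃ n : ℤ, inner ℝ x y = (n : ℝ))
    (hFi : ∀ f ∈ F, ∀ x ∈ L, ∃ n : ℤ, f x = (n : ℝ))
    (hGi : ∀ g ∈ G, ∀ x ∈ L, ∃ n : ℤ, g x = (n : ℝ))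
    (u : E) (hu0 : u ≠ 0) (huF : 0 ≤ F.inf' hF (fun f => f u))
    (huG : 0 < G.inf' hG (fun g => g u))
    (hmax : ∀ v : E, v ≠ 0 → 0 ≤ F.inf' hF (fun f => f v) →
        G.inf' hG (fun g => g v) / ‖v‖ ≤ G.inf' hG (fun g => g u) / ‖u‖) :
    ∃ t : ℝ, 0 < t ∧ t • u ∈ L := by
  classical
  set m := G.inf' hG (fun g => g u) with hm
  let w : E := m⁻¹ • u
  have hwF : 0 ≤ F.inf' hF (fun f => f w) := by
    rw [inf_smul F hF (inv_nonneg.2 huG.le)]
    exact mul_nonneg (inv_nonneg.2 huG.le) huF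
  have hwG : G.inf' hG (fun g => g w) = 1 := by
    rw [inf_smul G hG (inv_nonneg.2 huG.le)]
    exact inv_mul_cancel₀ huG.ne'
  have hwn : ‖w‖ = ‖u‖ / m := by
    rw [norm_smul, norm_inv, Real.norm_of_nonneg huG.le]; ring
  let P : Set E := {x | (∀ f ∈ F, 0 ≤ f x) ∧ (∀ g ∈ G, 1 ≤ g x)}
  have hwP : w ∈ P :=
    ⟨fun f hf => hwF.trans (Finset.inf'_le _ hf), fun g hg => hwG.symm.le.trans (Finset.inf'_le _ hg)⟩
  have hmin : ∀ x ∈ P, ‖w‖ ≤ ‖x‖ := by
    rintro x ⟨hxF, hxG⟩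
    have hx1 : 1 ≤ G.inf' hG (fun g => g x) := (Finset.le_inf'_iff _ _).2 hxG
    have hx0 : x ≠ 0 := by
      rintro rfl
      rw [inf_zero] at hx1
      linarith
    have hxF' : 0 ≤ F.inf' hF (fun f => f x) := (Finset.le_inf'_iff _ _).2 hxF
    have h1 := hmax x hx0 hxF'
    have hxn := norm_pos_iff.2 hx0
    have hun := norm_pos_iff.2 hu0
    rw [div_le_div_iff₀ hxn hun] at h1
    rw [hwn, div_le_iff₀ huG]
    nlinarith
  have hconv : Convex ℝ P := by
    intro x hx y hy a b ha hb hab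
    refine ⟨fun f hf => ?_, fun g hg => ?_⟩
    · simp only [map_add, map_smul, smul_eq_mul]
      exact add_nonneg (mul_nonneg ha (hx.1 f hf)) (mul_nonneg hb (hy.1 f hf))
    · simp only [map_add, map_smul, smul_eq_mul]
      have := hx.2 g hg
      have := hy.2 g hg
      nlinarith
  have hvar : ∀ x ∈ P, 0 ≤ inner ℝ w (x - w) := by
    have h1 : ‖(0 : E) - w‖ = ⨅ x : P, ‖(0 : E) - x‖ := by
      have : Nonempty P := ⟨⟨w, hwP⟩⟩
      apply le_antisymm
      · exact le_ciInf fun x => by simpa using hmin x x.2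
      · exact ciInf_le ⟨0, by rintro _ ⟨x, rfl⟩; exact norm_nonneg _⟩ (⟨w, hwP⟩ : P)
    have h2 := (norm_eq_iInf_iff_real_inner_le_zero hconv hwP).1 h1
    intro x hx
    have := h2 x hx
    rw [zero_sub, inner_neg_left] at this
    linarith
  let T : Finset (Module.Dual ℝ E × ℚ) :=
    ((F.image fun f => (f, (0 : ℚ))) ∪ (G.image fun g => (g, (1 : ℚ)))).filter
      fun p => p.1 w = (p.2 : ℝ)
  have hTF : ∀ f ∈ F, f w = 0 → (f, (0 : ℚ)) ∈ T := fun f hf hfw =>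
    Finset.mem_filter.2 ⟨Finset.mem_union_left _ (Finset.mem_image_of_mem _ hf), by simpa using hfw⟩
  have hTG : ∀ g ∈ G, g w = 1 → (g, (1 : ℚ)) ∈ T := fun g hg hgw =>
    Finset.mem_filter.2 ⟨Finset.mem_union_right _ (Finset.mem_image_of_mem _ hg), by simpa using hgw⟩
  have haT : ∀ k : T, ∀ x ∈ L, ∃ n : ℤ, k.1.1 x = (n : ℝ) := by
    rintro ⟨p, hp⟩ x hx
    rcases Finset.mem_union.1 (Finset.mem_filter.1 hp).1 with h | h
    · obtain ⟨f, hf, rfl⟩ := Finset.mem_image.1 h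
      exact hFi f hf x hx
    · obtain ⟨g, hg, rfl⟩ := Finset.mem_image.1 h
      exact hGi g hg x hx
  have h1T : ∀ k : T, k.1.1 w = ((k.1.2 : ℚ) : ℝ) := by
    rintro ⟨p, hp⟩
    exact (Finset.mem_filter.1 hp).2
  have h2T : ∀ y : E, (∀ k : T, k.1.1 y = 0) → inner ℝ w y = 0 := by
    intro y hy
    have hev : ∀ᶠ t in nhdsWithin (0 : ℝ) (Set.Ioi 0), w + t • y ∈ P ∧ w - t • y ∈ P := by
      have hFev : ∀ᶠ t in nhdsWithin (0 : ℝ) (Set.Ioi 0),
          ∀ f ∈ F, 0 ≤ f (w + t • y) ∧ 0 ≤ f (w - t • y) := by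
        rw [Filter.eventually_all_finset]
        intro f hf
        apply eventually_bound
        by_cases hfw : f w = 0
        · exact Or.inr ⟨hfw.symm, hy ⟨_, hTF f hf hfw⟩⟩
        · exact Or.inl (lt_of_le_of_ne (hwP.1 f hf) (Ne.symm hfw))
      have hGev : ∀ᶠ t in nhdsWithin (0 : ℝ) (Set.Ioi 0),
          ∀ g ∈ G, 1 ≤ g (w + t • y) ∧ 1 ≤ g (w - t • y) := by
        rw [Filter.eventually_all_finset]
        intro g hg
        apply eventually_bound
        by_cases hgw : g w = 1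
        · exact Or.inr ⟨hgw.symm, hy ⟨_, hTG g hg hgw⟩⟩
        · exact Or.inl (lt_of_le_of_ne (hwP.2 g hg) (Ne.symm hgw))
      filter_upwards [hFev, hGev] with t h1 h2
      exact ⟨⟨fun f hf => (h1 f hf).1, fun g hg => (h2 g hg).1⟩,
        ⟨fun f hf => (h1 f hf).2, fun g hg => (h2 g hg).2⟩⟩
    obtain ⟨t, ⟨hp, hm'⟩, ht⟩ := (hev.and self_mem_nhdsWithin).exists
    have ht' : (0 : ℝ) < t := ht
    have e1 := hvar _ hp
    have e2 := hvar _ hm'
    rw [add_sub_cancel_left, inner_smul_right] at e1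
    rw [sub_sub_cancel_left, inner_neg_right, inner_smul_right] at e2
    have e3 : t * inner ℝ w y = 0 := le_antisymm (by linarith) e1
    exact (mul_eq_zero.1 e3).resolve_left ht'.ne'
  obtain ⟨D, hD, hDL⟩ := exists_pos_nat_smul_mem L hint (κ := T) (fun k => k.1.1) haT
    (fun k => k.1.2) w h1T h2T
  refine ⟨(D : ℝ) * m⁻¹, by positivity, ?_⟩
  have : ((D : ℤ) • w : E) = ((D : ℝ) * m⁻¹) • u := by
    rw [← Int.cast_smul_eq_zsmul ℝ, smul_smul]
    simp
  rw [← this]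
  exact hDL

end Max

/-- Part D: the lattice points on the line `ℝ u` are the integer multiples of one of them. -/
theorem exists_generator (L : Submodule ℤ E) [DiscreteTopology L]
    (u : E) (hu0 : u ≠ 0) (ht : ∃ t : ℝ, 0 < t ∧ t • u ∈ L) :
    ∃ a : ℝ, 0 < a ∧ a • u ∈ L ∧ ∀ t : ℝ, t • u ∈ L → ∃ n : ℤ, t = n * a := by
  let S : AddSubgroup ℝ :=
    { carrier := {t | t • u ∈ L}
      zero_mem' := by simp
      add_mem' := fun {s t} hs ht => by
        simp only [Set.mem_ofPred_eq, add_smul] at hs ht ⊢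
        exact L.add_mem hs ht
      neg_mem' := fun {s} hs => by
        simp only [Set.mem_ofPred_eq, neg_smul] at hs ⊢
        exact L.neg_mem hs }
  have hS : ∀ t, t ∈ S ↔ t • u ∈ L := fun t => Iff.rfl
  -- discreteness
  obtain ⟨ε, hε, hball⟩ : ∃ ε > 0, ∀ x ∈ L, ‖x‖ < ε → x = 0 := by
    have hopen : IsOpen ({0} : Set L) := isOpen_discrete _
    obtain ⟨ε, hε, hb⟩ := Metric.isOpen_iff.1 hopen 0 rfl
    refine ⟨ε, hε, fun x hx hxε => ?_⟩
    have : (⟨x, hx⟩ : L) ∈ Metric.ball (0 : L) ε := by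
      rw [Metric.mem_ball, Subtype.dist_eq]
      simpa using hxε
    have h0 := hb this
    simpa using congrArg Subtype.val h0
  have hun : 0 < ‖u‖ := norm_pos_iff.2 hu0
  have hdisj : Disjoint (S : Set ℝ) (Set.Ioo 0 (ε / ‖u‖)) := by
    rw [Set.disjoint_left]
    rintro t htS ⟨ht0, htε⟩
    have h1 : ‖t • u‖ < ε := by
      rw [norm_smul, Real.norm_of_nonneg ht0.le]
      rwa [lt_div_iff₀ hun] at htε
    have h2 := hball _ ((hS t).1 htS) h1
    rcases smul_eq_zero.1 h2 with h | h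
    · exact ht0.ne' h
    · exact hu0 h
  obtain ⟨b, hb⟩ := AddSubgroup.cyclic_of_isolated_zero (div_pos hε hun) hdisj
  obtain ⟨t₁, ht₁, ht₁L⟩ := ht
  have hmem : ∀ t, t • u ∈ L ↔ ∃ n : ℤ, n • b = t := by
    intro t
    rw [← hS, hb, AddSubgroup.mem_closure_singleton]
  have hb0 : b ≠ 0 := by
    rintro rfl
    obtain ⟨n, hn⟩ := (hmem t₁).1 ht₁L
    simp at hn
    exact ht₁.ne' hn.symm
  have hbL : b • u ∈ L := (hmem b).2 ⟨1, one_smul _ _⟩
  refine ⟨|b|, abs_pos.2 hb0, ?_, ?_⟩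
  · rcases abs_choice b with h | h
    · rwa [h]
    · rw [h, neg_smul]; exact L.neg_mem hbL
  · intro t htL
    obtain ⟨n, hn⟩ := (hmem t).1 htL
    rcases abs_choice b with h | h
    · exact ⟨n, by rw [h, ← hn, zsmul_eq_mul]⟩
    · exact ⟨-n, by rw [h, ← hn, zsmul_eq_mul]; push_cast; ring⟩

/-- Kempf's lemma: existence and uniqueness of the primitive lattice vector maximising
`g_min / ‖·‖` on the cone `f_min ≥ 0`. -/
theorem existsUnique_primitive_maximizer [FiniteDimensional ℝ E]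
    (L : Submodule ℤ E) [DiscreteTopology L] [IsZLattice ℝ L]
    (hint : ∀ x ∈ L, ∀ y ∈ L, ∃ n : ℤ, inner ℝ x y = (n : ℝ))
    (F G : Finset (Module.Dual ℝ E)) (hF : F.Nonempty) (hG : G.Nonempty)
    (hFi : ∀ f ∈ F, ∀ x ∈ L, ∃ n : ℤ, f x = (n : ℝ)) (hGi : ∀ g ∈ G, ∀ x ∈ L, ∃ n : ℤ, g x = (n : ℝ))
    (hpos : ∃ v : E, 0 ≤ F.inf' hF (fun f => f v) ∧ 0 < G.inf' hG (fun g => g v)) :
    ∃ M : ℝ, IsGreatest ((fun v => G.inf' hG (fun g => g v) / ‖v‖) ''
        {v : E | v ≠ 0 ∧ 0 ≤ F.inf' hF (fun f => f v)}) M ∧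
      ∃! v₀ : E, v₀ ∈ L ∧ v₀ ≠ 0 ∧ 0 ≤ F.inf' hF (fun f => f v₀) ∧
        G.inf' hG (fun g => g v₀) / ‖v₀‖ = M ∧
        ∀ v ∈ L, v ≠ 0 → 0 ≤ F.inf' hF (fun f => f v) → G.inf' hG (fun g => g v) / ‖v‖ = M →
          ∃ n : ℤ, v = n • v₀ := by
  obtain ⟨u, hu0, huF, huG, hmax⟩ := exists_max F G hF hG hpos
  have hun : 0 < ‖u‖ := norm_pos_iff.2 hu0
  set M := G.inf' hG (fun g => g u) / ‖u‖ with hM
  have hMpos : 0 < M := div_pos huG hun
  refine ⟨M, ⟨⟨u, ⟨hu0, huF⟩, rfl⟩, ?_⟩, ?_⟩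
  · rintro _ ⟨v, ⟨hv0, hvF⟩, rfl⟩
    exact hmax v hv0 hvF
  obtain ⟨t₁, ht₁, ht₁L⟩ :=
    exists_lattice_point_on_ray F G hF hG L hint hFi hGi u hu0 huF huG hmax
  obtain ⟨a, ha, haL, hgen⟩ := exists_generator L u hu0 ⟨t₁, ht₁, ht₁L⟩
  have hv₀0 : a • u ≠ 0 := smul_ne_zero ha.ne' hu0
  have hv₀F : 0 ≤ F.inf' hF (fun f => f (a • u)) := by
    rw [inf_smul F hF ha.le]
    exact mul_nonneg ha.le huF
  have hv₀M : G.inf' hG (fun g => g (a • u)) / ‖a • u‖ = M := by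
    rw [inf_smul G hG ha.le, norm_smul, Real.norm_of_nonneg ha.le, hM,
      mul_div_mul_left _ _ ha.ne']
  have hmult : ∀ v ∈ L, v ≠ 0 → 0 ≤ F.inf' hF (fun f => f v) →
      G.inf' hG (fun g => g v) / ‖v‖ = M → ∃ n : ℤ, v = n • (a • u) := by
    intro v hvL hv0 hvF hvM
    have hray : SameRay ℝ u v := sameRay_of_max F G hF hG M hMpos hmax hu0 hv0 huF hvF rfl hvM
    obtain ⟨t, ht, rfl⟩ := hray.exists_pos_left hu0 hv0
    obtain ⟨n, hn⟩ := hgen t hvL
    refine ⟨n, ?_⟩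
    rw [hn, ← Int.cast_smul_eq_zsmul ℝ n, smul_smul]
  refine ⟨a • u, ⟨haL, hv₀0, hv₀F, hv₀M, hmult⟩, ?_⟩
  rintro v' ⟨hv'L, hv'0, hv'F, hv'M, hv'mult⟩
  obtain ⟨n, hn⟩ := hmult v' hv'L hv'0 hv'F hv'M
  obtain ⟨k, hk⟩ := hv'mult (a • u) haL hv₀0 hv₀F hv₀M
  have hkn : k * n = 1 := by
    have h1 : ((k * n - 1 : ℤ)) • (a • u) = 0 := by
      rw [sub_smul, one_smul, mul_smul, ← hn, ← hk, sub_self]
    rw [← Int.cast_smul_eq_zsmul ℝ] at h1
    rcases smul_eq_zero.1 h1 with h | h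
    · have h2 : k * n - 1 = 0 := by exact_mod_cast h
      linarith
    · exact absurd h hv₀0
  rcases Int.eq_one_or_neg_one_of_mul_eq_one' hkn with ⟨-, rfl⟩ | ⟨-, rfl⟩
  · rw [hn, one_smul]
  · exfalso
    rw [neg_smul, one_smul] at hn
    have hn₀ : 0 < ‖a • u‖ := norm_pos_iff.2 hv₀0
    have e1 : G.inf' hG (fun g => g (a • u)) = M * ‖a • u‖ := by
      rw [← hv₀M, div_mul_cancel₀ _ hn₀.ne']
    have e2 : G.inf' hG (fun g => g (-(a • u))) = M * ‖a • u‖ := by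
      rw [← hn, ← hv'M, hn, norm_neg, div_mul_cancel₀ _ hn₀.ne']
    have e3 := inf_add_neg_le G hG (a • u)
    rw [e1, e2] at e3
    nlinarith

end Groth.Agent.R2.H84.Kempf
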