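import Mathlib.Algebra.Module.ZLattice.Basic
import Mathlib.Analysis.InnerProductSpace.Basic
import Mathlib.LinearAlgebra.Dual.Lemmas
import Mathlib.LinearAlgebra.Basis.VectorSpace

/-!
# Rationality lemmas for Kempf's optimal one-parameter subgroup (helper84)

* `exists_rat_solution`: a rational linear system with a real solution has a rational solution.
* `exists_pos_nat_smul_mem`: a vector satisfying integral linear equations and orthogonal to their
  common kernel has a positive integer multiple in the lattice.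
-/

set_option autoImplicit false
universe u

namespace Groth.Agent.R2.H84.Kempf

open Finset

/-- A linear system with rational coefficients that has a real solution has a rational solution. -/
theorem exists_rat_solution {I J : Type*} [Fintype I] [Fintype J] (A : I → J → ℚ) (β : I → ℚ)
    (x : J → ℝ) (h : ∀ i, ∑ j, (A i j : ℝ) * x j = (β i : ℝ)) :
    ∃ x' : J → ℚ, ∀ i, ∑ j, A i j * x' j = β i := by
  classical
  let T : (J → ℚ) →ₗ[ℚ] (I → ℚ) :=
    LinearMap.pi fun i => ∑ j, A i j • (LinearMap.proj j : (J → ℚ) →ₗ[ℚ] ℚ)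
  have hT : ∀ y i, T y i = ∑ j, A i j * y j := by
    intro y i
    simp [T, LinearMap.sum_apply]
  by_cases hβ : β ∈ LinearMap.range T
  · obtain ⟨x', hx'⟩ := hβ
    exact ⟨x', fun i => by rw [← hT, hx']⟩
  · exfalso
    obtain ⟨f, hfβ, hf⟩ := Submodule.exists_le_ker_of_notMem hβ
    let lam : I → ℚ := fun i => f (Pi.single i 1)
    have hflam : ∀ v : I → ℚ, f v = ∑ i, v i * lam i := by
      intro v
      conv_lhs => rw [← Finset.univ_sum_single v]
      rw [map_sum]
      refine Finset.sum_congr rfl fun i _ => ?_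
      have : (Pi.single i (v i) : I → ℚ) = v i • Pi.single i 1 := by
        ext k; by_cases hk : k = i <;> simp [hk]
      rw [this, map_smul, smul_eq_mul]
    have h0 : ∀ j, ∑ i, A i j * lam i = 0 := by
      intro j
      have h1 : f (T (Pi.single j 1)) = 0 := hf ⟨_, rfl⟩
      rw [hflam] at h1
      rw [← h1]
      refine Finset.sum_congr rfl fun i _ => ?_
      rw [hT]
      simp [Pi.single_apply]
    apply hfβ
    rw [hflam]
    have h2 : ((∑ i, β i * lam i : ℚ) : ℝ) = 0 := by
      push_cast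
      calc ∑ i, (β i : ℝ) * (lam i : ℝ) = ∑ i, (∑ j, (A i j : ℝ) * x j) * (lam i : ℝ) := by
            refine Finset.sum_congr rfl fun i _ => ?_
            rw [h i]
        _ = ∑ j, (∑ i, (A i j : ℝ) * (lam i : ℝ)) * x j := by
            simp_rw [Finset.sum_mul]
            rw [Finset.sum_comm]
            refine Finset.sum_congr rfl fun j _ => Finset.sum_congr rfl fun i _ => by ring
        _ = 0 := by
            refine Finset.sum_eq_zero fun j _ => ?_
            have := h0 j
            have h3 : (∑ i, (A i j : ℝ) * (lam i : ℝ)) = ((∑ i, A i j * lam i : ℚ) : ℝ) := by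
              push_cast; rfl
            rw [h3, this]; simp
    exact_mod_cast h2

/-- Rationality of a point cut out by integral data: if `w` satisfies integral linear equations
`a k w = β k` and is orthogonal to the common kernel of the `a k`, some positive integer
multiple of `w` lies in the lattice. -/
theorem exists_pos_nat_smul_mem
    {E : Type u} [NormedAddCommGroup E] [InnerProductSpace ℝ E] [FiniteDimensional ℝ E]
    (L : Submodule ℤ E) [DiscreteTopology L] [IsZLattice ℝ L]
    (hint : ∀ x ∈ L, ∀ y ∈ L, ∃ n : ℤ, inner ℝ x y = (n : ℝ))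
    {κ : Type*} [Fintype κ] (a : κ → Module.Dual ℝ E)
    (ha : ∀ k, ∀ x ∈ L, ∃ n : ℤ, a k x = (n : ℝ)) (β : κ → ℚ) (w : E)
    (h1 : ∀ k, a k w = (β k : ℝ))
    (h2 : ∀ y : E, (∀ k, a k y = 0) → inner ℝ w y = 0) :
    ∃ D : ℕ, 0 < D ∧ (D : ℤ) • w ∈ L := by
  classical
  have : Module.Finite ℤ L := ZLattice.module_finite ℝ L
  have : Module.Free ℤ L := ZLattice.module_free ℝ L
  let ι := Module.Free.ChooseBasisIndex ℤ L
  let b : Module.Basis ι ℤ L := Module.Free.chooseBasis ℤ L
  let e : Module.Basis ι ℝ E := b.ofZLatticeBasis ℝ L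
  have he : ∀ i, e i = (b i : E) := b.ofZLatticeBasis_apply ℝ L
  have heL : ∀ i, e i ∈ L := fun i => by rw [he]; exact (b i).2
  choose Q hQ using fun i j => hint (e i) (heL i) (e j) (heL j)
  choose P hP using fun k i => ha k (e i) (heL i)
  have hspan : (innerₛₗ ℝ w : E →ₗ[ℝ] ℝ) ∈ Submodule.span ℝ (Set.range a) := by
    apply mem_span_of_iInf_ker_le_ker
    intro y hy
    rw [Submodule.mem_iInf] at hy
    exact h2 y (fun k => hy k)
  obtain ⟨c, hc⟩ := (Submodule.mem_span_range_iff_exists_fun ℝ).1 hspan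
  have hc' : ∀ y, inner ℝ w y = ∑ k, c k * a k y := by
    intro y
    have := congrArg (fun φ : E →ₗ[ℝ] ℝ => φ y) hc
    simp only [LinearMap.sum_apply, LinearMap.smul_apply, smul_eq_mul, innerₛₗ_apply_apply] at this
    exact this.symm
  -- inner products and functionals in coordinates
  have hinner : ∀ (x : ι → ℝ) i, inner ℝ (∑ j, x j • e j) (e i) = ∑ j, x j * (Q j i : ℝ) := by
    intro x i
    rw [sum_inner]
    refine Finset.sum_congr rfl fun j _ => ?_
    rw [real_inner_smul_left, hQ]
  have hfun : ∀ (x : ι → ℝ) k, a k (∑ j, x j • e j) = ∑ j, x j * (P k j : ℝ) := by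
    intro x k
    rw [map_sum]
    refine Finset.sum_congr rfl fun j _ => ?_
    rw [map_smul, smul_eq_mul, hP]
  -- the linear system
  let A : (ι ⊕ κ) → (ι ⊕ κ) → ℚ := fun r s =>
    Sum.elim (fun i => Sum.elim (fun j => (Q j i : ℚ)) (fun k => -(P k i : ℚ)) s)
      (fun k => Sum.elim (fun j => (P k j : ℚ)) (fun _ => 0) s) r
  let rhs : (ι ⊕ κ) → ℚ := Sum.elim (fun _ => 0) β
  let z : (ι ⊕ κ) → ℝ := Sum.elim (fun j => e.repr w j) c
  have hw : w = ∑ j, e.repr w j • e j := (e.sum_repr w).symm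
  have hz : ∀ r, ∑ s, (A r s : ℝ) * z s = (rhs r : ℝ) := by
    rintro (i | k)
    · simp only [A, rhs, z, Fintype.sum_sum_type, Sum.elim_inl, Sum.elim_inr, Rat.cast_intCast,
        Rat.cast_neg, Rat.cast_zero]
      have e1 := hinner (fun j => e.repr w j) i
      rw [← hw, hc' (e i)] at e1
      have e2 : ∑ k, c k * a k (e i) = ∑ k, c k * (P k i : ℝ) :=
        Finset.sum_congr rfl fun k _ => by rw [hP]
      rw [e2] at e1
      have e3 : ∑ k, -(P k i : ℝ) * c k = -∑ k, c k * (P k i : ℝ) := by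
        rw [← Finset.sum_neg_distrib]
        exact Finset.sum_congr rfl fun k _ => by ring
      have e4 : ∑ j, (Q j i : ℝ) * e.repr w j = ∑ j, e.repr w j * (Q j i : ℝ) :=
        Finset.sum_congr rfl fun j _ => by ring
      rw [e3, e4, ← e1]; ring
    · simp only [A, rhs, z, Fintype.sum_sum_type, Sum.elim_inl, Sum.elim_inr, Rat.cast_intCast,
        Rat.cast_zero, zero_mul, Finset.sum_const_zero, add_zero]
      have e1 := hfun (fun j => e.repr w j) k
      rw [← hw, h1 k] at e1
      rw [e1]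
      exact Finset.sum_congr rfl fun j _ => by ring
  obtain ⟨z', hz'⟩ := exists_rat_solution A rhs z hz
  let w' : E := ∑ j, ((z' (Sum.inl j) : ℚ) : ℝ) • e j
  have hk' : ∀ k, a k w' = (β k : ℝ) := by
    intro k
    have e1 := hz' (Sum.inr k)
    simp only [A, rhs, Fintype.sum_sum_type, Sum.elim_inl, Sum.elim_inr, zero_mul,
      Finset.sum_const_zero, add_zero] at e1
    rw [hfun, ← e1]
    push_cast
    exact Finset.sum_congr rfl fun j _ => by ring
  have hi' : ∀ y, inner ℝ w' y = ∑ k, ((z' (Sum.inr k) : ℚ) : ℝ) * a k y := by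
    have : (innerₛₗ ℝ w' : E →ₗ[ℝ] ℝ) = ∑ k, ((z' (Sum.inr k) : ℚ) : ℝ) • a k := by
      refine e.ext fun i => ?_
      simp only [innerₛₗ_apply_apply, LinearMap.sum_apply, LinearMap.smul_apply, smul_eq_mul]
      have e1 := hz' (Sum.inl i)
      simp only [A, rhs, Fintype.sum_sum_type, Sum.elim_inl, Sum.elim_inr] at e1
      have e2 : ((∑ j, (Q j i : ℚ) * z' (Sum.inl j) + ∑ k, -(P k i : ℚ) * z' (Sum.inr k) : ℚ) : ℝ)
          = 0 := by rw [e1]; simp
      push_cast at e2
      rw [hinner]
      have e3 : ∑ k, ((z' (Sum.inr k) : ℚ) : ℝ) * a k (e i) =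
          ∑ k, ((z' (Sum.inr k) : ℚ) : ℝ) * (P k i : ℝ) :=
        Finset.sum_congr rfl fun k _ => by rw [hP]
      rw [e3]
      have e4 : ∑ k, -(P k i : ℝ) * ((z' (Sum.inr k) : ℚ) : ℝ) =
          -∑ k, ((z' (Sum.inr k) : ℚ) : ℝ) * (P k i : ℝ) := by
        rw [← Finset.sum_neg_distrib]
        exact Finset.sum_congr rfl fun k _ => by ring
      have e5 : ∑ j, (Q j i : ℝ) * ((z' (Sum.inl j) : ℚ) : ℝ) =
          ∑ j, ((z' (Sum.inl j) : ℚ) : ℝ) * (Q j i : ℝ) :=
        Finset.sum_congr rfl fun j _ => by ring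
      rw [e4, e5] at e2
      linarith
    intro y
    have := congrArg (fun φ : E →ₗ[ℝ] ℝ => φ y) this
    simpa only [innerₛₗ_apply_apply, LinearMap.sum_apply, LinearMap.smul_apply, smul_eq_mul]
      using this
  have hww' : w = w' := by
    have hd : ∀ k, a k (w - w') = 0 := fun k => by rw [map_sub, h1, hk', sub_self]
    have e1 : inner ℝ w (w - w') = 0 := h2 _ hd
    have e2 : inner ℝ w' (w - w') = 0 := by
      rw [hi']
      exact Finset.sum_eq_zero fun k _ => by rw [hd, mul_zero]
    have e3 : inner ℝ (w - w') (w - w') = 0 := by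
      rw [inner_sub_left, e1, e2, sub_zero]
    exact sub_eq_zero.1 (inner_self_eq_zero.1 e3)
  -- clear denominators
  let D : ℕ := ∏ j, (z' (Sum.inl j)).den
  have hDpos : 0 < D := Finset.prod_pos fun j _ => (z' (Sum.inl j)).den_pos
  refine ⟨D, hDpos, ?_⟩
  have hn : ∀ j, ∃ n : ℤ, ((D : ℚ) * z' (Sum.inl j)) = (n : ℚ) := by
    intro j
    have hdvd : (z' (Sum.inl j)).den ∣ D := Finset.dvd_prod_of_mem _ (Finset.mem_univ j)
    obtain ⟨m, hm⟩ := hdvd
    refine ⟨(m : ℤ) * (z' (Sum.inl j)).num, ?_⟩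
    have hq : ((z' (Sum.inl j)).den : ℚ) * z' (Sum.inl j) = (z' (Sum.inl j)).num :=
      Rat.den_mul_eq_num _
    have hD : (D : ℚ) = ((z' (Sum.inl j)).den : ℚ) * (m : ℚ) := by exact_mod_cast hm
    rw [hD, mul_right_comm, hq]
    push_cast
    ring
  choose n hn using hn
  have : (D : ℤ) • w = ∑ j, n j • e j := by
    rw [hww', Finset.smul_sum]
    refine Finset.sum_congr rfl fun j _ => ?_
    rw [← Int.cast_smul_eq_zsmul ℝ (D : ℤ), smul_smul, ← Int.cast_smul_eq_zsmul ℝ (n j)]
    congr 1
    have := congrArg (fun q : ℚ => (q : ℝ)) (hn j)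
    simpa using this
  rw [this]
  exact Submodule.sum_mem _ fun j _ => Submodule.smul_mem _ _ (heL j)

end Groth.Agent.R2.H84.Kempf
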