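import Mathlib
import Groth.Agent.R2.H84GrpField
import Groth.Agent.Lib.Helper12QuasiFiniteDescent

/-!
helper84: a morphism of schemes `h : U ⟶ V` whose kernel pair projection `U ×_V U ⟶ U` is locally
quasi-finite is locally quasi-finite (fibrewise fpqc descent along `Spec κ(x) ⟶ Spec κ(v)`).
-/

set_option autoImplicit false

open CategoryTheory CategoryTheory.Limits AlgebraicGeometry

universe u

namespace Groth.Agent.R2.H84.LqfKer

/-- a morphism from the spectrum of a field to the spectrum of a field is an fpqc covering. -/
lemma cover_of_field {X : Scheme.{u}} [Nonempty X] [IsAffine X] (k : Type u) [Field k]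
    (c : X ⟶ Spec (CommRingCat.of k)) :
    (@Surjective ⊓ @Flat ⊓ @QuasiCompact : MorphismProperty Scheme.{u}) c := by
  refine ⟨⟨?_, ?_⟩, ?_⟩
  · refine ⟨fun y => ?_⟩
    obtain ⟨x⟩ := (inferInstance : Nonempty X)
    exact ⟨x, Subsingleton.elim _ _⟩
  · exact Groth.Agent.R2.H84.GrpField.flat_of_etale_over_field k c (𝟙 _)
  · infer_instance

theorem locallyQuasiFinite_of_kernelPair {U V W : Scheme.{u}} (h : U ⟶ V) {p₁ p₂ : W ⟶ U}
    (sq : IsPullback p₁ p₂ h h) (hp : LocallyQuasiFinite p₂) : LocallyQuasiFinite h := by
  apply LocallyQuasiFinite.of_fiberToSpecResidueField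
  intro v
  by_cases hF : IsEmpty (h.fiber v)
  · infer_instance
  · rw [not_isEmpty_iff] at hF
    obtain ⟨x⟩ := hF
    have hc := cover_of_field (V.residueField v)
      (c := (h.fiber v).fromSpecResidueField x ≫ h.fiberToSpecResidueField v)
    have sqA := IsPullback.of_hasPullback
      ((h.fiber v).fromSpecResidueField x ≫ h.fiberToSpecResidueField v)
      (h.fiberToSpecResidueField v)
    refine Groth.Agent.Lib.Helper12.descendsAlong_locallyQuasiFinite.of_isPullback
      sqA hc ?_
    -- the first projection is a base change of `p₂`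
    have sqF : IsPullback (h.fiberι v) (h.fiberToSpecResidueField v) h
        (V.fromSpecResidueField v) := IsPullback.of_hasPullback _ _
    have outer := sqA.flip.paste_horiz sqF
    have e : ((h.fiber v).fromSpecResidueField x ≫ h.fiberToSpecResidueField v) ≫
        V.fromSpecResidueField v = ((h.fiber v).fromSpecResidueField x ≫ h.fiberι v) ≫ h := by
      rw [Category.assoc, Category.assoc, sqF.w]
    rw [e] at outer
    have comm : (pullback.snd ((h.fiber v).fromSpecResidueField x ≫ h.fiberToSpecResidueField v)
        (h.fiberToSpecResidueField v) ≫ h.fiberι v) ≫ h =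
        (pullback.fst ((h.fiber v).fromSpecResidueField x ≫ h.fiberToSpecResidueField v)
        (h.fiberToSpecResidueField v) ≫ (h.fiber v).fromSpecResidueField x ≫ h.fiberι v) ≫ h := by
      rw [outer.w]
      simp only [Category.assoc]
    have left : IsPullback (sq.lift _ _ comm)
        (pullback.fst ((h.fiber v).fromSpecResidueField x ≫ h.fiberToSpecResidueField v)
          (h.fiberToSpecResidueField v)) p₂ ((h.fiber v).fromSpecResidueField x ≫ h.fiberι v) := by
      refine IsPullback.of_right ?_ (sq.lift_snd _ _ comm) sq
      rw [sq.lift_fst]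
      exact outer
    exact MorphismProperty.of_isPullback (P := @LocallyQuasiFinite) left hp

end Groth.Agent.R2.H84.LqfKer
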