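import Mathlib
import Groth.Prelude.Def_AlgSpGpd
import Groth.Prelude.Def_AlgSp4
import Groth.Agent.R2.H84DiagSec
import Groth.Agent.Lib.Helper12LocPCases
import Groth.Agent.Lib.Helper15Descent
import Groth.Agent.S10262
import Groth.Agent.S9947
import Groth.Agent.R2.H84LqfKer

/-!
helper84: pseudo-torsors.  For a pseudo-torsor `X` under `G` (in a cartesian monoidal category), the
diagonal of `X` is a base change of the unit of `G`, and the second projection `X × X ⟶ X` is, up to
the isomorphism `G × X ≅ X × X`, the projection `G × X ⟶ X`.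
-/

set_option autoImplicit false

open CategoryTheory CategoryTheory.Limits AlgebraicGeometry

universe u

namespace Groth.Agent.R2.H84.PseudoTorsor

section Cat

open MonoidalCategory CartesianMonoidalCategory MonObj

variable {C : Type*} [Category C] [CartesianMonoidalCategory C]

lemma lift_unit_act {G X : C} [GrpObj G] (act : G ⊗ X ⟶ X)
    (h1 : (η[G] ▷ X) ≫ act = (λ_ X).hom) :
    lift (toUnit X ≫ η[G]) (𝟙 X) ≫ act = 𝟙 X := by
  have e : lift (toUnit X ≫ η[G]) (𝟙 X) = (λ_ X).inv ≫ (η[G] ▷ X) := by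
    apply CartesianMonoidalCategory.hom_ext
    · simp
    · simp
  rw [e, Category.assoc, h1, Iso.inv_hom_id]

/-- For a pseudo-torsor, the diagonal of `X` is the base change of the unit of `G` along
`(x, y) ↦ "x / y"`. -/
lemma isPullback_diag_unit_act {G X : C} [GrpObj G] (act : G ⊗ X ⟶ X)
    (h1 : (η[G] ▷ X) ≫ act = (λ_ X).hom) [IsIso (lift act (snd G X))] :
    IsPullback (lift (𝟙 X) (𝟙 X)) (toUnit X) (inv (lift act (snd G X)) ≫ fst G X) η[G] := by
  have hΦ : lift (toUnit X ≫ η[G]) (𝟙 X) ≫ lift act (snd G X) = lift (𝟙 X) (𝟙 X) := by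
    apply CartesianMonoidalCategory.hom_ext
    · rw [Category.assoc, lift_fst, lift_unit_act act h1, lift_fst]
    · rw [Category.assoc, lift_snd, lift_snd, lift_snd]
  have hΦ' : lift (𝟙 X) (𝟙 X) ≫ inv (lift act (snd G X)) = lift (toUnit X ≫ η[G]) (𝟙 X) := by
    rw [← hΦ, Category.assoc, IsIso.hom_inv_id, Category.comp_id]
  have hsnd : inv (lift act (snd G X)) ≫ snd G X = snd X X := by
    rw [IsIso.inv_comp_eq, lift_snd]
  refine ⟨⟨?_⟩, ⟨PullbackCone.IsLimit.mk _ (fun s => s.fst ≫ snd X X) ?_ ?_ ?_⟩⟩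
  · rw [← Category.assoc, hΦ', lift_fst]
  · intro s
    have hw : s.fst ≫ inv (lift act (snd G X)) =
        (s.fst ≫ snd X X) ≫ lift (toUnit X ≫ η[G]) (𝟙 X) := by
      apply CartesianMonoidalCategory.hom_ext
      · have hc := s.condition
        rw [Category.assoc, Category.assoc, lift_fst, hc, ← Category.assoc]
        congr 1
        exact toUnit_unique _ _
      · rw [Category.assoc, Category.assoc, hsnd, lift_snd, Category.comp_id]
    calc (s.fst ≫ snd X X) ≫ lift (𝟙 X) (𝟙 X)
        = ((s.fst ≫ snd X X) ≫ lift (toUnit X ≫ η[G]) (𝟙 X)) ≫ lift act (snd G X) := by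
          rw [Category.assoc (s.fst ≫ snd X X), hΦ]
      _ = s.fst := by rw [← hw, Category.assoc, IsIso.inv_hom_id, Category.comp_id]
  · intro s
    exact toUnit_unique _ _
  · intro s m hm1 _
    rw [← hm1, Category.assoc, lift_snd, Category.comp_id]

end Cat

section Sp

open MonoidalCategory CartesianMonoidalCategory MonObj AlgSp

variable {S : Scheme.{u}} {B : AlgSp.Sp S}

/-- sheaf version of `isPullback_diag_unit_act`. -/
lemma isPullback_diagonal_unit_act {G X : Over B} [GrpObj G] (a : AlgSp.GAction G X)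
    (ha : a.IsPseudoTorsor) :
    haveI : IsIso (lift a.act (snd G X)) := ha
    IsPullback (pullback.diagonal X.hom) X.hom
      (inv (lift a.act (snd G X)) ≫ fst G X).left (η[G]).left :=
  have : IsIso (lift a.act (snd G X)) := ha
  (isPullback_diag_unit_act a.act a.one_act).map (Over.forget B)

/-- the unit section of an unramified group space is an open immersion. -/
lemma unit_openImmersion {G : Over B} [GrpObj G] (hB : AlgSp.IsAlgSpace B)
    (hG : AlgSp.IsAlgSpace G.left)
    (hGu : AlgSp.LocP (@LocallyOfFiniteType ⊓ @FormallyUnramified) G.hom) :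
    AlgSp.RepWith @IsOpenImmersion (η[G]).left := by
  have hΔ : AlgSp.RepWith @IsOpenImmersion (pullback.diagonal G.hom) :=
    (Groth.Agent.S10262.result (X := ⟨G.left, hG⟩) (Y := ⟨B, hB⟩) (ObjectProperty.homMk G.hom)).1 hGu
  exact MorphismProperty.of_isPullback (P := AlgSp.RepWith @IsOpenImmersion)
    (Groth.Agent.R2.H84.DiagSec.isPullback_section_diagonal G.hom (η[G]).left
      (Groth.Agent.R2.H84.DiagSec.unit_left_comp_hom G)) hΔ

/-- **Part 1**: a pseudo-torsor (locally of finite type) under an unramified group is unramified. -/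
theorem unramified_of_isPseudoTorsor {G X : Over B} [GrpObj G] (hB : AlgSp.IsAlgSpace B)
    (hG : AlgSp.IsAlgSpace G.left) (hX : AlgSp.IsAlgSpace X.left)
    (a : AlgSp.GAction G X) (ha : a.IsPseudoTorsor)
    (hXt : AlgSp.LocP @LocallyOfFiniteType X.hom)
    (hGu : AlgSp.LocP (@LocallyOfFiniteType ⊓ @FormallyUnramified) G.hom) :
    AlgSp.LocP (@LocallyOfFiniteType ⊓ @FormallyUnramified) X.hom := by
  have he := unit_openImmersion hB hG hGu
  have hΔ : AlgSp.RepWith @IsOpenImmersion (pullback.diagonal X.hom) :=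
    MorphismProperty.of_isPullback (P := AlgSp.RepWith @IsOpenImmersion)
      (isPullback_diagonal_unit_act a ha).flip he
  exact (Groth.Agent.S10262.result (X := ⟨X.left, hX⟩) (Y := ⟨B, hB⟩)
    (ObjectProperty.homMk X.hom)).2 hXt hΔ

end Sp


section Lqf

open MonoidalCategory CartesianMonoidalCategory MonObj AlgSp

variable {S : Scheme.{u}} {B : AlgSp.Sp S}

lemma repWith_mono {P P' : MorphismProperty Scheme.{u}} (h : P ≤ P') {F G : AlgSp.Sp S}
    {f : F ⟶ G} (hf : AlgSp.RepWith P f) : AlgSp.RepWith P' f :=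
  ⟨hf.1, fun _ _ g fst snd BC => h _ (hf.2 g fst snd BC)⟩

/-- the diagonal of an étale chart of an algebraic space is an open immersion. -/
lemma diagonal_openImmersion_of_etale (hB : AlgSp.IsAlgSpace B) {V : Over S}
    (b : (AlgSp.yon S).obj V ⟶ B) (hb : AlgSp.RepWith @Etale b) :
    AlgSp.RepWith @IsOpenImmersion (pullback.diagonal b) :=
  (Groth.Agent.S10262.result (X := ⟨_, AlgSp.IsAlgSpace.yon_obj V⟩) (Y := ⟨B, hB⟩)
    (ObjectProperty.homMk b)).1
    (Groth.Agent.S9947.locP_of_repWith_etale _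
      Groth.Agent.Lib.Helper12.LocPCases.good_unram.hEt b hb)

/-- **kernel-pair chart**: for a chart `(U, V, a, b, h)` of `f : X ⟶ B`, the scheme `U ×_V U` is an
étale chart of `X ×_B X`. -/
lemma repWith_etale_kernelPair_chart (hB : AlgSp.IsAlgSpace B) {X : AlgSp.Sp S} (f : X ⟶ B)
    {U V : Over S} (a : (AlgSp.yon S).obj U ⟶ X) (b : (AlgSp.yon S).obj V ⟶ B) (h : U ⟶ V)
    (ha : AlgSp.RepWith @Etale a) (hb : AlgSp.RepWith @Etale b)
    (hcomm : a ≫ f = (AlgSp.yon S).map h ≫ b)
    (t : (AlgSp.yon S).obj (pullback h h) ⟶ pullback f f)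
    (ht1 : t ≫ pullback.fst f f = (AlgSp.yon S).map (pullback.fst h h) ≫ a)
    (ht2 : t ≫ pullback.snd f f = (AlgSp.yon S).map (pullback.snd h h) ≫ a) :
    AlgSp.RepWith @Etale t := by
  have sqY : IsPullback ((AlgSp.yon S).map (pullback.fst h h)) ((AlgSp.yon S).map (pullback.snd h h))
      ((AlgSp.yon S).map h) ((AlgSp.yon S).map h) := (IsPullback.of_hasPullback h h).map (AlgSp.yon S)
  -- m₁
  have sq1 := pullback_map_diagonal_isPullback ((AlgSp.yon S).map h) ((AlgSp.yon S).map h) b
  have hm1 : AlgSp.RepWith @Etale (pullback.map ((AlgSp.yon S).map h) ((AlgSp.yon S).map h)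
      ((AlgSp.yon S).map h ≫ b) ((AlgSp.yon S).map h ≫ b) (𝟙 _) (𝟙 _) b
      (Category.id_comp _).symm (Category.id_comp _).symm) :=
    repWith_mono (fun _ _ g hg => by have : IsOpenImmersion g := hg; infer_instance)
      (MorphismProperty.of_isPullback (P := AlgSp.RepWith @IsOpenImmersion) sq1
        (diagonal_openImmersion_of_etale hB b hb))
  -- m₂
  have hm2 := MorphismProperty.pullbackMap (P := AlgSp.RepWith @Etale) ha ha hcomm.symm hcomm.symm
  -- ι
  have hι : AlgSp.RepWith @Etale sqY.isoPullback.hom :=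
    Groth.Agent.Lib.Helper15Descent.repWith_etale_of_isIso _
  have hfac : t = sqY.isoPullback.hom ≫ pullback.map ((AlgSp.yon S).map h) ((AlgSp.yon S).map h)
      ((AlgSp.yon S).map h ≫ b) ((AlgSp.yon S).map h ≫ b) (𝟙 _) (𝟙 _) b
      (Category.id_comp _).symm (Category.id_comp _).symm ≫
      pullback.map ((AlgSp.yon S).map h ≫ b) ((AlgSp.yon S).map h ≫ b) f f a a (𝟙 _)
        ((Category.comp_id _).trans hcomm.symm) ((Category.comp_id _).trans hcomm.symm) := by
    apply pullback.hom_ext
    · rw [ht1]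
      simp only [Category.assoc, pullback.lift_fst, pullback.map]
      rw [pullback.lift_fst_assoc, Category.comp_id, IsPullback.isoPullback_hom_fst_assoc]
    · rw [ht2]
      simp only [Category.assoc, pullback.lift_snd, pullback.map]
      rw [pullback.lift_snd_assoc, Category.comp_id, IsPullback.isoPullback_hom_snd_assoc]
  rw [hfac]
  exact (AlgSp.RepWith @Etale).comp_mem _ _ hι ((AlgSp.RepWith @Etale).comp_mem _ _ hm1 hm2)

end Lqf


section Lqf2

open MonoidalCategory CartesianMonoidalCategory MonObj AlgSp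

variable {S : Scheme.{u}} {B : AlgSp.Sp S}

/-- for a pseudo-torsor, the second projection `X ×_B X ⟶ X` inherits every good property of
`G ⟶ B`. -/
lemma locP_snd_of_isPseudoTorsor {P : MorphismProperty Scheme.{u}}
    (hP : Groth.Agent.Lib.Helper12.LocPCases.Good P) {G X : Over B} [GrpObj G]
    (hB : AlgSp.IsAlgSpace B) (hG : AlgSp.IsAlgSpace G.left) (hX : AlgSp.IsAlgSpace X.left)
    (a : AlgSp.GAction G X) (ha : a.IsPseudoTorsor) (hGP : AlgSp.LocP P G.hom) :
    AlgSp.LocP P (pullback.snd X.hom X.hom) := by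
  have : IsIso (lift a.act (snd G X)) := ha
  have h1 : AlgSp.LocP P (pullback.snd G.hom X.hom) :=
    hP.locP_baseChange hG hB hX (IsPullback.of_hasPullback G.hom X.hom) hGP
  have e0 : inv (lift a.act (snd G X)) ≫ snd G X = snd X X := by
    rw [IsIso.inv_comp_eq, lift_snd]
  have e : pullback.snd X.hom X.hom =
      (inv (lift a.act (snd G X))).left ≫ pullback.snd G.hom X.hom :=
    (congrArg (fun φ => Over.Hom.left φ) e0).symm
  have : IsIso (inv (lift a.act (snd G X))).left :=
    (inferInstance : IsIso ((Over.forget B).map (inv (lift a.act (snd G X)))))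
  rw [e]
  exact Groth.Agent.Lib.Helper15Descent.locP_precomp_etale _ _ _
    (Groth.Agent.Lib.Helper15Descent.repWith_etale_of_isIso _) h1

/-- **Part 2**: a pseudo-torsor (locally of finite type) under a locally quasi-finite group is locally
quasi-finite. -/
theorem lqf_of_isPseudoTorsor {G X : Over B} [GrpObj G] (hB : AlgSp.IsAlgSpace B)
    (hG : AlgSp.IsAlgSpace G.left) (hX : AlgSp.IsAlgSpace X.left)
    (a : AlgSp.GAction G X) (ha : a.IsPseudoTorsor)
    (hXt : AlgSp.LocP @LocallyOfFiniteType X.hom)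
    (hGq : AlgSp.LocP (@LocallyQuasiFinite ⊓ @LocallyOfFiniteType) G.hom) :
    AlgSp.LocP (@LocallyQuasiFinite ⊓ @LocallyOfFiniteType) X.hom := by
  have hpr := locP_snd_of_isPseudoTorsor Groth.Agent.Lib.Helper12.LocPCases.good_lqf hB hG hX a ha hGq
  intro U V a' b h ha' hb hcomm
  refine ⟨?_, hXt a' b h ha' hb hcomm⟩
  have cond : ((AlgSp.yon S).map (pullback.fst h h) ≫ a') ≫ X.hom =
      ((AlgSp.yon S).map (pullback.snd h h) ≫ a') ≫ X.hom := by
    rw [Category.assoc, Category.assoc, hcomm, ← Category.assoc, ← Category.assoc,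
      ← Functor.map_comp, ← Functor.map_comp, pullback.condition]
  have ht := repWith_etale_kernelPair_chart hB X.hom a' b h ha' hb hcomm (pullback.lift _ _ cond)
    (pullback.lift_fst _ _ _) (pullback.lift_snd _ _ _)
  have h2 := hpr (pullback.lift _ _ cond) a' (pullback.snd h h) ht ha' (pullback.lift_snd _ _ _)
  exact Groth.Agent.R2.H84.LqfKer.locallyQuasiFinite_of_kernelPair h.left
    ((IsPullback.of_hasPullback h h).map (Over.forget S)) h2.1

end Lqf2

end Groth.Agent.R2.H84.PseudoTorsor
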