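import Mathlib.FieldTheory.IsAlgClosed.Basic
import Mathlib.GroupTheory.Commutator.Basic
import Mathlib.GroupTheory.Index
import Mathlib.GroupTheory.Subgroup.Centralizer
import Mathlib.GroupTheory.FiniteAbelian.Duality
import Mathlib.RingTheory.RootsOfUnity.AlgebraicallyClosed
import Mathlib.GroupTheory.QuotientGroup.Basic
import Mathlib.Algebra.CharP.Defs
import Mathlib.SetTheory.Cardinal.Finite

set_option autoImplicit false
universe u v

namespace Groth.Agent.R2.H84.ThetaPair

open Subgroup
open scoped commutatorElement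

variable {G : Type u} [Group G]

theorem comm_mul_right (a b c : G) : ⁅a, b * c⁆ = ⁅a, b⁆ * (b * ⁅a, c⁆ * b⁻¹) := by
  simp only [commutatorElement_def]; group

theorem comm_mul_left (a b c : G) : ⁅a * b, c⁆ = a * ⁅b, c⁆ * a⁻¹ * ⁅a, c⁆ := by
  simp only [commutatorElement_def]; group

variable (hc : commutator G ≤ center G)

include hc in
theorem comm_mem_center (a b : G) : ⁅a, b⁆ ∈ center G :=
  hc (Subgroup.commutator_mem_commutator (Subgroup.mem_top a) (Subgroup.mem_top b))

include hc in
theorem comm_mul_right' (a b c : G) : ⁅a, b * c⁆ = ⁅a, b⁆ * ⁅a, c⁆ := by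
  rw [comm_mul_right]
  have h := Subgroup.mem_center_iff.mp (comm_mem_center hc a c) b
  rw [h, mul_inv_cancel_right]

include hc in
theorem comm_mul_left' (a b c : G) : ⁅a * b, c⁆ = ⁅a, c⁆ * ⁅b, c⁆ := by
  rw [comm_mul_left]
  have h := Subgroup.mem_center_iff.mp (comm_mem_center hc b c) a
  rw [h, mul_inv_cancel_right]
  have h2 := Subgroup.mem_center_iff.mp (comm_mem_center hc b c) ⁅a, c⁆
  exact h2.symm

theorem comm_eq_one_of_mem_center_right (a : G) {b : G} (hb : b ∈ center G) : ⁅a, b⁆ = 1 := by
  rw [commutatorElement_eq_one_iff_mul_comm]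
  exact (Subgroup.mem_center_iff.mp hb a)

theorem comm_eq_one_of_mem_center_left {a : G} (b : G) (ha : a ∈ center G) : ⁅a, b⁆ = 1 := by
  rw [commutatorElement_eq_one_iff_mul_comm]
  exact (Subgroup.mem_center_iff.mp ha b).symm


section Pairing

variable {k : Type v} [Field k] (j : center G →* kˣ)

/-- For fixed `γ`, the homomorphism `h ↦ j ⁅γ, h⁆`. -/
def e₁ (γ : G) : G →* kˣ where
  toFun h := j ⟨⁅γ, h⁆, comm_mem_center hc γ h⟩
  map_one' := by
    have : (⟨⁅γ, (1 : G)⁆, comm_mem_center hc γ 1⟩ : center G) = 1 := by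
      ext; simp
    rw [this, map_one]
  map_mul' a b := by
    rw [← map_mul]
    congr 1
    ext
    exact comm_mul_right' hc γ a b

theorem e₁_apply (γ h : G) : e₁ hc j γ h = j ⟨⁅γ, h⁆, comm_mem_center hc γ h⟩ := rfl

theorem e₁_eq_one_of_mem_center (γ : G) {h : G} (hh : h ∈ center G) : e₁ hc j γ h = 1 := by
  rw [e₁_apply]
  have : (⟨⁅γ, h⁆, comm_mem_center hc γ h⟩ : center G) = 1 := by
    ext; exact comm_eq_one_of_mem_center_right γ hh
  rw [this, map_one]

/-- `e₁ γ` descended to the quotient by the centre. -/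
def B₁ (γ : G) : (G ⧸ center G) →* kˣ :=
  QuotientGroup.lift (center G) (e₁ hc j γ) (fun _ hh => e₁_eq_one_of_mem_center hc j γ hh)

theorem B₁_mk (γ h : G) : B₁ hc j γ (QuotientGroup.mk h) = e₁ hc j γ h := rfl

/-- The pairing as a homomorphism `G →* (G ⧸ Z →* kˣ)`. -/
def B₀ : G →* ((G ⧸ center G) →* kˣ) where
  toFun γ := B₁ hc j γ
  map_one' := by
    ext h
    show ((e₁ hc j 1 h : kˣ) : k) = 1
    rw [e₁_apply]
    have : (⟨⁅(1 : G), h⁆, comm_mem_center hc 1 h⟩ : center G) = 1 := by
      ext; simp
    rw [this, map_one]; rfl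
  map_mul' a b := by
    ext h
    show ((e₁ hc j (a * b) h : kˣ) : k) = ((e₁ hc j a h * e₁ hc j b h : kˣ) : k)
    rw [e₁_apply, e₁_apply, e₁_apply, ← map_mul]
    congr 2
    ext
    exact comm_mul_left' hc a b h

theorem B₀_apply_mk (γ h : G) : B₀ hc j γ (QuotientGroup.mk h) =
    j ⟨⁅γ, h⁆, comm_mem_center hc γ h⟩ := rfl

theorem B₀_eq_one_of_mem_center {γ : G} (hγ : γ ∈ center G) : B₀ hc j γ = 1 := by
  ext h
  show ((B₀ hc j γ (QuotientGroup.mk h) : kˣ) : k) = 1
  rw [B₀_apply_mk]
  have : (⟨⁅γ, h⁆, comm_mem_center hc γ h⟩ : center G) = 1 := by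
    ext; exact comm_eq_one_of_mem_center_left h hγ
  rw [this, map_one]; rfl

/-- The pairing `B : G ⧸ Z →* (G ⧸ Z →* kˣ)`. -/
def B : (G ⧸ center G) →* ((G ⧸ center G) →* kˣ) :=
  QuotientGroup.lift (center G) (B₀ hc j) (fun _ hγ => B₀_eq_one_of_mem_center hc j hγ)

theorem B_mk_mk (γ h : G) : B hc j (QuotientGroup.mk γ) (QuotientGroup.mk h) =
    j ⟨⁅γ, h⁆, comm_mem_center hc γ h⟩ := rfl

variable (hj : Function.Injective j)

include hj in
theorem B_mk_mk_eq_one_iff (γ h : G) :
    B hc j (QuotientGroup.mk γ) (QuotientGroup.mk h) = 1 ↔ γ * h = h * γ := by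
  rw [B_mk_mk, ← map_one j, hj.eq_iff, ← commutatorElement_eq_one_iff_mul_comm]
  exact Subtype.ext_iff

include hj in
theorem B_injective : Function.Injective (B hc j) := by
  rw [injective_iff_map_eq_one]
  intro x hx
  induction x using QuotientGroup.induction_on with
  | H γ =>
    rw [QuotientGroup.eq_one_iff, Subgroup.mem_center_iff]
    intro h
    have := (B_mk_mk_eq_one_iff hc j hj γ h).mp (by rw [hx]; rfl)
    exact this.symm

end Pairing


section Duality

/-- Pure duality statement for a finite commutative group with a nondegenerate pairing. -/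
theorem card_eq_index_of_pairing {K : Type u} [CommGroup K] [Finite K] {k : Type v} [Field k]
    [HasEnoughRootsOfUnity k (Monoid.exponent K)]
    (Bp : K →* (K →* kˣ)) (hB : Function.Injective Bp) (Hb Cb : Subgroup K)
    (hmem : ∀ x : K, x ∈ Cb ↔ ∀ y ∈ Hb, Bp x y = 1) :
    Nat.card Cb = Hb.index := by
  have hcard : Nat.card (K →* kˣ) = Nat.card K :=
    CommGroup.card_monoidHom_of_hasEnoughRootsOfUnity K k
  have : Finite (K →* kˣ) := by
    apply Nat.finite_of_card_ne_zero
    rw [hcard]
    exact Nat.card_pos.ne'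
  have hBbij : Function.Bijective Bp := hB.bijective_of_nat_card_le hcard.le
  have h1 : Nat.card Cb = Nat.card (MonoidHom.domRestrictHom Hb kˣ).ker := by
    refine Nat.card_congr (Equiv.subtypeEquiv (Equiv.ofBijective _ hBbij) ?_)
    intro x
    rw [hmem x, Equiv.ofBijective_apply, MonoidHom.mem_ker]
    constructor
    · intro h
      ext ⟨y, hy⟩
      have := h y hy
      simpa using congrArg Units.val this
    · intro h y hy
      have := DFunLike.congr_fun h ⟨y, hy⟩
      simpa using this
  rw [h1, CommGroup.card_domRestrictHom_ker (M := k) Hb, Subgroup.index_eq_card]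

end Duality

section Counting

variable {k : Type v} [Field k] (j : center G →* kˣ) (hj : Function.Injective j)

include hc in
theorem quot_mul_comm (x y : G ⧸ center G) : x * y = y * x := by
  induction x using QuotientGroup.induction_on with
  | H a =>
  induction y using QuotientGroup.induction_on with
  | H b =>
    rw [← QuotientGroup.mk_mul, ← QuotientGroup.mk_mul, QuotientGroup.eq]
    have h := comm_mem_center hc b⁻¹ a⁻¹
    rw [commutatorElement_def] at h
    have h2 : (a * b)⁻¹ * (b * a) = b⁻¹ * a⁻¹ * b⁻¹⁻¹ * a⁻¹⁻¹ := by group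
    rw [h2]
    exact h

/-- The commutative group structure on `G ⧸ Z(G)` when commutators are central. -/
@[reducible] def quotCommGroup : CommGroup (G ⧸ center G) :=
  { (inferInstance : Group (G ⧸ center G)) with mul_comm := quot_mul_comm hc }

include hc hj in
theorem relIndex_centralizer_eq_index [Finite (G ⧸ center G)]
    [HasEnoughRootsOfUnity k (Nat.card (G ⧸ center G))]
    (H : Subgroup G) (hH : center G ≤ H) :
    (center G).relIndex (centralizer (H : Set G)) = H.index := by
  have hπs : Function.Surjective (QuotientGroup.mk' (center G)) := QuotientGroup.mk'_surjective _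
  have hπk : (QuotientGroup.mk' (center G)).ker = center G := QuotientGroup.ker_mk' _
  have hne : NeZero (Nat.card (G ⧸ center G)) := ⟨Nat.card_pos.ne'⟩
  have hroots : HasEnoughRootsOfUnity k (Monoid.exponent (G ⧸ center G)) :=
    HasEnoughRootsOfUnity.of_dvd k (Group.exponent_dvd_nat_card (G := G ⧸ center G))
  have hZC : center G ≤ centralizer (H : Set G) := Subgroup.center_le_centralizer _
  -- membership criterion
  have hmem : ∀ x : G ⧸ center G, x ∈ (centralizer (H : Set G)).map (QuotientGroup.mk' (center G)) ↔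
      ∀ y ∈ H.map (QuotientGroup.mk' (center G)), B hc j x y = 1 := by
    intro x
    induction x using QuotientGroup.induction_on with
    | H γ =>
      constructor
      · rintro ⟨γ', hγ', hγγ'⟩ y ⟨h, hh, rfl⟩
        have hγ'' : (QuotientGroup.mk γ : G ⧸ center G) = QuotientGroup.mk γ' := hγγ'.symm
        rw [hγ'']
        show B hc j (QuotientGroup.mk γ') (QuotientGroup.mk h) = 1
        rw [B_mk_mk_eq_one_iff hc j hj γ' h]
        exact (Subgroup.mem_centralizer_iff.mp hγ' h hh).symm
      · intro hx
        refine ⟨γ, ?_, rfl⟩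
        show γ ∈ centralizer (H : Set G)
        rw [Subgroup.mem_centralizer_iff]
        intro h hh
        have h1 : B hc j (QuotientGroup.mk γ) (QuotientGroup.mk h) = 1 :=
          hx _ (Subgroup.mem_map_of_mem _ hh)
        exact ((B_mk_mk_eq_one_iff hc j hj γ h).mp h1).symm
  have h1 : Nat.card ((centralizer (H : Set G)).map (QuotientGroup.mk' (center G))) =
      (H.map (QuotientGroup.mk' (center G))).index :=
    @card_eq_index_of_pairing (G ⧸ center G) (quotCommGroup hc) _ k _ hroots (B hc j)
      (B_injective hc j hj) _ _ hmem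
  have h3 : (H.map (QuotientGroup.mk' (center G))).index = H.index :=
    Subgroup.index_map_eq _ hπs (by rw [hπk]; exact hH)
  have h4 : Nat.card ((centralizer (H : Set G)).map (QuotientGroup.mk' (center G))) *
      (centralizer (H : Set G)).index = (center G).index := by
    rw [← Subgroup.index_map_eq _ hπs (by rw [hπk]; exact hZC), Subgroup.card_mul_index,
      Subgroup.index_eq_card]
  have h5 : (center G).relIndex (centralizer (H : Set G)) * (centralizer (H : Set G)).index =
      (center G).index := Subgroup.relIndex_mul_index hZC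
  have h6 : (centralizer (H : Set G)).index ≠ 0 := by
    intro h0
    rw [h0, mul_zero] at h5
    exact Subgroup.index_ne_zero_of_finite h5.symm
  have h7 : (center G).relIndex (centralizer (H : Set G)) =
      Nat.card ((centralizer (H : Set G)).map (QuotientGroup.mk' (center G))) :=
    Nat.eq_of_mul_eq_mul_right (Nat.pos_of_ne_zero h6) (h5.trans h4.symm)
  rw [h7, h1, h3]

end Counting

end Groth.Agent.R2.H84.ThetaPair
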