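import Groth.Statements.S17476
import Groth.Agent.Lib.Helper22Hartogs2
import Groth.Agent.Lib.Helper28Normal

/-!
# Restriction of homomorphisms `M~ ⟶ 𝒪` to an open subscheme of `Spec R` (helper84)

Via the adjunctions `tilde ⊣ Γ` and `j^* ⊣ j_*`, restriction to `U` of morphisms out of `M~` is
post-composition with `Γ(Z, N) → Γ(U, N)`; combined with algebraic Hartogs for normal domains.
-/

set_option autoImplicit false
universe u
open CategoryTheory AlgebraicGeometry Opposite

namespace Groth.Agent.R2.H84.TildeHom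

variable {R : Type u} [CommRing R]

/-- Abstract step: restricting morphisms out of `M~` to an open `U` is, under the two adjunctions,
post-composition with global sections of the unit. -/
theorem restrict_map_conj (M : ModuleCat.{u} (CommRingCat.of R))
    (N : (Spec (CommRingCat.of R)).Modules) (U : (Spec (CommRingCat.of R)).Opens) :
    ∃ (e : (AlgebraicGeometry.tilde M ⟶ N) ≃ (M ⟶ moduleSpecΓFunctor.obj N))
      (e' : ((Scheme.Modules.restrictFunctor U.ι).obj (AlgebraicGeometry.tilde M) ⟶
          (Scheme.Modules.restrictFunctor U.ι).obj N) ≃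
        (M ⟶ moduleSpecΓFunctor.obj ((Scheme.Modules.pushforward U.ι).obj
          ((Scheme.Modules.restrictFunctor U.ι).obj N)))),
      ∀ φ : AlgebraicGeometry.tilde M ⟶ N, e' ((Scheme.Modules.restrictFunctor U.ι).map φ) =
        e φ ≫ moduleSpecΓFunctor.map ((Scheme.Modules.restrictAdjunction U.ι).unit.app N) := by
  let adjR := Scheme.Modules.restrictAdjunction U.ι
  let adjT := tilde.adjunction (R := CommRingCat.of R)
  refine ⟨adjT.homEquiv M N,
    (adjR.homEquiv (AlgebraicGeometry.tilde M) ((Scheme.Modules.restrictFunctor U.ι).obj N)).trans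
      (adjT.homEquiv M _), ?_⟩
  intro φ
  rw [Equiv.trans_apply, Adjunction.homEquiv_unit]
  have h1 : adjR.unit.app (AlgebraicGeometry.tilde M) ≫
      (Scheme.Modules.pushforward U.ι).map ((Scheme.Modules.restrictFunctor U.ι).map φ) =
      φ ≫ adjR.unit.app N := (adjR.unit.naturality φ).symm
  rw [h1]
  exact Adjunction.homEquiv_naturality_right adjT φ (adjR.unit.app N)


theorem Γmap_apply {N N' : (Spec (CommRingCat.of R)).Modules} (η : N ⟶ N')
    (x : (moduleSpecΓFunctor (R := CommRingCat.of R)).obj N) :
    ((moduleSpecΓFunctor (R := CommRingCat.of R)).map η).hom x = (η.app ⊤).hom x := rfl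

theorem unit_app_top (N : (Spec (CommRingCat.of R)).Modules) (U : (Spec (CommRingCat.of R)).Opens) :
    ((Scheme.Modules.restrictAdjunction U.ι).unit.app N).app ⊤ =
      N.presheaf.map (homOfLE (U.ι.image_preimage_le ⊤)).op := rfl

theorem unitMod_map_apply (X : Scheme.{u}) {V W : X.Opens} (i : V ⟶ W) (x : Γ(X, W)) :
    ((Coh.structureModule X).presheaf.map i.op).hom (x : Γ(Coh.structureModule X, W)) =
      (X.presheaf.map i.op).hom x := rfl

/-- Global sections of the unit `𝒪 ⟶ j_* j^* 𝒪` is the restriction map `Γ(Z, 𝒪) → Γ(U, 𝒪)`. -/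
theorem Γ_unit_injective (U : (Spec (CommRingCat.of R)).Opens)
    (h : Function.Injective ((Spec (CommRingCat.of R)).presheaf.map (homOfLE (le_top : U ≤ ⊤)).op)) :
    Function.Injective ((moduleSpecΓFunctor (R := CommRingCat.of R)).map
      ((Scheme.Modules.restrictAdjunction U.ι).unit.app
        (Coh.structureModule (Spec (CommRingCat.of R))))).hom := by
  have key : ∀ (U' : (Spec (CommRingCat.of R)).Opens) (_ : U' = U) (hle : U' ≤ ⊤),
      Function.Injective ((Spec (CommRingCat.of R)).presheaf.map (homOfLE hle).op) := by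
    rintro _ rfl _
    exact h
  intro x y hxy
  exact key (U.ι ''ᵁ (U.ι ⁻¹ᵁ ⊤)) (by simp) (U.ι.image_preimage_le ⊤) hxy

theorem Γ_unit_surjective (U : (Spec (CommRingCat.of R)).Opens)
    (h : Function.Surjective ((Spec (CommRingCat.of R)).presheaf.map (homOfLE (le_top : U ≤ ⊤)).op)) :
    Function.Surjective ((moduleSpecΓFunctor (R := CommRingCat.of R)).map
      ((Scheme.Modules.restrictAdjunction U.ι).unit.app
        (Coh.structureModule (Spec (CommRingCat.of R))))).hom := by
  have key : ∀ (U' : (Spec (CommRingCat.of R)).Opens) (_ : U' = U) (hle : U' ≤ ⊤),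
      Function.Surjective ((Spec (CommRingCat.of R)).presheaf.map (homOfLE hle).op) := by
    rintro _ rfl _
    exact h
  intro y
  exact key (U.ι ''ᵁ (U.ι ⁻¹ᵁ ⊤)) (by simp) (U.ι.image_preimage_le ⊤) y

theorem restrict_injective (M : ModuleCat.{u} (CommRingCat.of R))
    (N : (Spec (CommRingCat.of R)).Modules) (U : (Spec (CommRingCat.of R)).Opens)
    (h : Function.Injective ((moduleSpecΓFunctor (R := CommRingCat.of R)).map
      ((Scheme.Modules.restrictAdjunction U.ι).unit.app N)).hom) :
    Function.Injective (fun φ : AlgebraicGeometry.tilde M ⟶ N =>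
      (Scheme.Modules.restrictFunctor U.ι).map φ) := by
  obtain ⟨e, e', he⟩ := restrict_map_conj M N U
  have hmono : Mono ((moduleSpecΓFunctor (R := CommRingCat.of R)).map
      ((Scheme.Modules.restrictAdjunction U.ι).unit.app N)) :=
    (ModuleCat.mono_iff_injective _).2 h
  intro φ₁ φ₂ hφ
  apply e.injective
  have h1 := congrArg e' hφ
  simp only [he] at h1
  exact (cancel_mono _).1 h1

theorem restrict_surjective (M : ModuleCat.{u} (CommRingCat.of R))
    (N : (Spec (CommRingCat.of R)).Modules) (U : (Spec (CommRingCat.of R)).Opens)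
    (h : Function.Bijective ((moduleSpecΓFunctor (R := CommRingCat.of R)).map
      ((Scheme.Modules.restrictAdjunction U.ι).unit.app N)).hom) :
    Function.Surjective (fun φ : AlgebraicGeometry.tilde M ⟶ N =>
      (Scheme.Modules.restrictFunctor U.ι).map φ) := by
  obtain ⟨e, e', he⟩ := restrict_map_conj M N U
  have hiso : IsIso ((moduleSpecΓFunctor (R := CommRingCat.of R)).map
      ((Scheme.Modules.restrictAdjunction U.ι).unit.app N)) :=
    (ConcreteCategory.isIso_iff_bijective _).2 h
  intro ψ'
  refine ⟨e.symm (e' ψ' ≫ inv ((moduleSpecΓFunctor (R := CommRingCat.of R)).map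
      ((Scheme.Modules.restrictAdjunction U.ι).unit.app N))), ?_⟩
  apply e'.injective
  simp only [he, Equiv.apply_symm_apply, Category.assoc, IsIso.inv_hom_id, Category.comp_id]

/-- Hartogs for a normal Noetherian domain: functions extend over closed sets of codimension ≥ 2. -/
theorem bijective_res_of_normal [IsNoetherianRing R] [IsDomain R] [IsIntegrallyClosed R]
    (U : (Spec (CommRingCat.of R)).Opens)
    (hU : ∀ p : PrimeSpectrum R, p ∉ U → (2 : ℕ∞) ≤ p.asIdeal.height) :
    Function.Bijective ((Spec (CommRingCat.of R)).presheaf.map (homOfLE (le_top : U ≤ ⊤)).op) := by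
  refine Groth.Agent.Lib.Helper22.Hartogs.bijective_res_of_depth U ?_ ⊤ U le_top inf_le_right le_rfl
  intro x hx
  have hht := hU x hx
  let e : Localization.AtPrime x.asIdeal ≃+* (Spec (CommRingCat.of R)).presheaf.stalk x :=
    (StructureSheaf.stalkIso R x).toRingEquiv
  have hic : IsIntegrallyClosed (Localization.AtPrime x.asIdeal) :=
    isIntegrallyClosed_of_isLocalization (Localization.AtPrime x.asIdeal) x.asIdeal.primeCompl
      x.asIdeal.primeCompl_le_nonZeroDivisors
  have hdim : (2 : WithBot ℕ∞) ≤ ringKrullDim (Localization.AtPrime x.asIdeal) := by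
    rw [IsLocalization.AtPrime.ringKrullDim_eq_height x.asIdeal]
    have h2' : (2 : WithBot ℕ∞) = ((2 : ℕ∞) : WithBot ℕ∞) := rfl
    rw [h2']
    exact WithBot.coe_le_coe.2 hht
  have h2 := Groth.Agent.Lib.Helper28.two_le_depth_of_isIntegrallyClosed_of_two_le_dim
    (A := Localization.AtPrime x.asIdeal) hdim
  rw [← Groth.Agent.Lib.Helper28.depth_self_eq_of_ringEquiv e]
  exact h2

end Groth.Agent.R2.H84.TildeHom
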