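import Mathlib
import Groth.Prelude.Def_Coh
import Groth.Prelude.Def_CohB1
import Groth.Prelude.Def_Curv2
import Groth.Prelude.Def_Pic
import Groth.Agent.S2329
import Groth.Agent.R2.H79TwistCalc
import Groth.Agent.R2.H62CurveInv
import Groth.Agent.R2.H85DefAmple
import Groth.Agent.Lib.Helper23SecTw10
import Groth.Agent.Lib.Helper23TensorUnit
import Groth.Agent.Lib.Helper27PnSections

/-!
# A big invertible module has exponent one (helper85)

On an integral scheme the set of `m` with `H^0(X, L^m) ≠ 0` is a sub-semigroup of `ℕ`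
(`hasSec_tensorPow_add`).  If `H` is ample and every ample `A` embeds into some positive power of `L`,
then both `m` and `m + 1` lie in this semigroup for a suitable `m > 0`, hence so does every large
integer (`exists_forall_hasSec_tensorPow`).
-/

set_option autoImplicit false
set_option linter.style.haveILetI false
universe u

open CategoryTheory CategoryTheory.Limits AlgebraicGeometry TopologicalSpace Opposite

namespace Groth.Agent.R2.H85.BigExp

open Groth.Agent.Lib.Helper23.SecTw Groth.Agent.Lib.Helper23.GenLocus Groth.Agent.Lib.Helper6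
open Groth.Agent.R2.H85.DefAmple Groth.Agent.R2.H79.TwistCalc

variable {X : Scheme.{u}}

/-- `M` has a nonzero global section -/
def HasSec (M : X.Modules) : Prop := ∃ s : Coh.structureModule X ⟶ M, s ≠ 0

theorem nontrivial_HH_zero_of_hasSec {M : X.Modules} (h : HasSec M) :
    Nontrivial (Coh.HH X M 0) := by
  obtain ⟨s, hs⟩ := h
  have h1 : sv s ⊤ ≠ 0 := by
    intro h0
    apply hs
    apply hom_unit_ext
    rw [h0]
    rfl
  refine ⟨⟨(Groth.Agent.Lib.Helper27PnSections.hh0Equiv X M).symm (sv s ⊤), 0, ?_⟩⟩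
  intro h2
  apply h1
  have := congrArg (Groth.Agent.Lib.Helper27PnSections.hh0Equiv X M) h2
  exact ((Groth.Agent.Lib.Helper27PnSections.hh0Equiv X M).apply_symm_apply _).symm.trans
    (this.trans (map_zero _))

theorem hasSec_of_mono {M N : X.Modules} (φ : M ⟶ N) [Mono φ] (h : HasSec M) : HasSec N := by
  obtain ⟨s, hs⟩ := h
  refine ⟨s ≫ φ, fun h0 => hs ?_⟩
  rw [← cancel_mono φ, h0, zero_comp]

theorem hasSec_of_iso {M N : X.Modules} (e : M ≅ N) (h : HasSec M) : HasSec N :=
  hasSec_of_mono e.hom h

/-- sections of a zero module vanish -/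
theorem eq_zero_of_isZero {M : X.Modules} (hM : IsZero M) (U : X.Opens) (m : Γ(M, U)) : m = 0 := by
  have h1 : (𝟙 M : M ⟶ M) = 0 := hM.eq_of_src _ _
  have h2 : (𝟙 M : M ⟶ M).app U m = m := rfl
  rw [← h2, h1]
  rfl

/-- an invertible module on a nonempty scheme is nonzero -/
theorem not_isZero_of_isInvertible [Nonempty X] {M : X.Modules} (hM : PicF.IsInvertible M) :
    ¬ IsZero M := by
  intro hz
  obtain ⟨x⟩ := (inferInstance : Nonempty X)
  obtain ⟨W, e, hxW, he⟩ := exists_gen M hM x
  have hinj := (he W le_rfl).1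
  haveI : Nonempty W := ⟨⟨x, hxW⟩⟩
  have h01 : (0 : Γ(X, W)) = 1 := by
    apply hinj
    change (0 : Γ(X, W)) • res M (le_refl W) e = (1 : Γ(X, W)) • res M (le_refl W) e
    rw [eq_zero_of_isZero hz W (res M (le_refl W) e), smul_zero, smul_zero]
  exact zero_ne_one h01

/-- abstract form: a quotient of a coproduct of copies of `O` admitting no nonzero map from `O`
is zero -/
theorem isZero_of_epi_sigma' {C : Type*} [Category C] [Abelian C] {O Q : C} {ι : Type*}
    [HasCoproduct (fun _ : ι => O)] (p : (∐ fun _ : ι => O) ⟶ Q) [Epi p]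
    (hz : ∀ s : O ⟶ Q, s = 0) : IsZero Q := by
  have hp0 : p = 0 := by
    refine Sigma.hom_ext _ _ (fun i => ?_)
    rw [comp_zero]
    exact hz _
  rw [IsZero.iff_id_eq_zero, ← cancel_epi p, hp0, zero_comp, zero_comp]

/-- a globally generated nonzero module has a nonzero section -/
theorem hasSec_of_isGloballyGenerated {M : X.Modules} (hgg : Curv2.IsGloballyGenerated M)
    (hnz : ¬ IsZero M) : HasSec M := by
  by_contra hcon
  apply hnz
  have hz : ∀ s : Coh.structureModule X ⟶ M, s = 0 := by
    intro s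
    by_contra hs
    exact hcon ⟨s, hs⟩
  obtain ⟨ι, p, hp⟩ := hgg
  exact @Groth.Agent.R2.H85.BigExp.isZero_of_epi_sigma' X.Modules _ _ (Coh.structureModule X) M ι _ p hp hz

open Groth.Agent.Lib.Helper23.TensorUnit Groth.Agent.R2.H62.CurveInv

/-- on an integral scheme, nonzero sections of invertible modules multiply to a nonzero section -/
theorem hasSec_tensorMod [IsIntegral X] {M N : X.Modules} (hM : PicF.IsInvertible M)
    (hN : PicF.IsInvertible N) (hs : HasSec M) (ht : HasSec N) :
    HasSec (CohB1.tensorMod M N) := by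
  obtain ⟨s, hs⟩ := hs
  have hO := isInvertible_structureModule X
  have hms : Mono s := mono_of_ne_zero hO hM s hs
  have hmono := @mono_map_tensorRightF X N hN _ _ s hms
  exact @hasSec_of_mono X _ _ ((tensorRightF N).map s) hmono
    (hasSec_of_iso (unitTensorIso N).symm ht)

theorem hasSec_structureModule [Nonempty X] : HasSec (Coh.structureModule X) := by
  refine ⟨𝟙 _, fun h => ?_⟩
  exact not_isZero_of_isInvertible (isInvertible_structureModule X)
    ((IsZero.iff_id_eq_zero _).2 h)

/-- the semigroup property -/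
theorem hasSec_tensorPow_add [IsIntegral X] (L : X.Modules) (hL : PicF.IsInvertible L) (a b : ℕ)
    (ha : HasSec (CohB1.tensorPow L a)) (hb : HasSec (CohB1.tensorPow L b)) :
    HasSec (CohB1.tensorPow L (a + b)) := by
  have hO := isInvertible_structureModule X
  have h1 : HasSec (CohB1.tensorMod (Coh.structureModule X) (CohB1.tensorPow L a)) :=
    hasSec_of_iso (unitTensorIso _).symm ha
  have h2 := hasSec_tensorMod (isInvertible_tensorMod hO (isInvertible_tensorPow hL a))
    (isInvertible_tensorPow hL b) h1 hb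
  obtain ⟨e⟩ := nonempty_tensorMod_tensorPow_add_iso (Coh.structureModule X) L hO hL a b (a + b) rfl
  exact hasSec_of_iso (unitTensorIso _) (hasSec_of_iso e h2)

theorem hasSec_tensorPow_combination [IsIntegral X] (L : X.Modules) (hL : PicF.IsInvertible L)
    (m : ℕ) (h1 : HasSec (CohB1.tensorPow L m)) (h2 : HasSec (CohB1.tensorPow L (m + 1))) :
    ∀ a b : ℕ, HasSec (CohB1.tensorPow L (a * m + b * (m + 1))) := by
  haveI : Nonempty X := inferInstance
  have hmul : ∀ (c : ℕ) (n : ℕ), HasSec (CohB1.tensorPow L n) → HasSec (CohB1.tensorPow L (c * n)) := by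
    intro c n hn
    induction c with
    | zero =>
      rw [Nat.zero_mul]
      exact hasSec_structureModule
    | succ c ih =>
      rw [Nat.succ_mul]
      exact hasSec_tensorPow_add L hL _ _ ih hn
  intro a b
  exact hasSec_tensorPow_add L hL _ _ (hmul a m h1) (hmul b (m + 1) h2)

theorem hasSec_tensorPow_of_le [IsIntegral X] (L : X.Modules) (hL : PicF.IsInvertible L)
    (m : ℕ) (hm : 0 < m) (h1 : HasSec (CohB1.tensorPow L m))
    (h2 : HasSec (CohB1.tensorPow L (m + 1))) (M : ℕ) (hM : m * m ≤ M) :
    HasSec (CohB1.tensorPow L M) := by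
  have hq : m ≤ M / m := by
    rw [Nat.le_div_iff_mul_le hm]
    exact hM
  have hr : M % m < m := Nat.mod_lt _ hm
  have hle : M % m ≤ M / m := (Nat.le_of_lt hr).trans hq
  have hdecomp : M = (M / m - M % m) * m + (M % m) * (m + 1) := by
    have h0 := Nat.div_add_mod M m
    have h3 : (M / m - M % m) * m = (M / m) * m - (M % m) * m := Nat.sub_mul _ _ _
    have h4 : (M % m) * m ≤ (M / m) * m := Nat.mul_le_mul_right _ hle
    have h5 : m * (M / m) = (M / m) * m := Nat.mul_comm _ _
    rw [Nat.mul_add, Nat.mul_one, h3]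
    omega
  rw [hdecomp]
  exact hasSec_tensorPow_combination L hL m h1 h2 _ _

theorem hasSec_assoc_unit (A L : X.Modules) (h : HasSec (CohB1.tensorMod A L)) :
    HasSec (CohB1.tensorMod (CohB1.tensorMod A (Coh.structureModule X)) L) := by
  have e := (tensorRightF L).mapIso (tensorUnitIso A)
  exact hasSec_of_iso e.symm h

/-- **exponent one**: if `H` is ample and every ample module embeds into a positive power of the
invertible module `L` (on an integral quasi-compact separated scheme), then `L^m` has a nonzero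
section for every sufficiently large `m` -/
theorem exists_forall_hasSec_tensorPow [IsIntegral X] [CompactSpace X] [X.IsSeparated]
    (H : X.Modules) (hH : CohB1.IsAmple H) (L : X.Modules) (hL : PicF.IsInvertible L)
    (hbig : ∀ A : X.Modules, CohB1.IsAmple A →
      ∃ (m : ℕ) (φ : A ⟶ CohB1.tensorPow L m), 0 < m ∧ Mono φ) :
    ∃ m₁ : ℕ, ∀ m : ℕ, m₁ ≤ m → HasSec (CohB1.tensorPow L m) := by
  haveI : Nonempty X := inferInstance
  have hO := isInvertible_structureModule X
  obtain ⟨n₁, -, h₁⟩ := Groth.Agent.S2329.result X H (Coh.structureModule X) hH hO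
  obtain ⟨n₂, -, h₂⟩ := Groth.Agent.S2329.result X H L hH hL
  obtain ⟨hA1, hG1⟩ := h₁ (max n₁ n₂) (le_max_left _ _)
  obtain ⟨hA2, hG2⟩ := h₂ (max n₁ n₂) (le_max_right _ _)
  obtain ⟨m, φ, hm, hφ⟩ := hbig _ hA1
  -- `m` lies in the semigroup
  have hs1 : HasSec (CohB1.tensorPow L m) :=
    @hasSec_of_mono X _ _ φ hφ (hasSec_of_isGloballyGenerated hG1 (not_isZero_of_isInvertible hA1.1))
  -- `m + 1` lies in the semigroup
  have hsA2 : HasSec (CohB1.tensorMod (CohB1.tensorPow H (max n₁ n₂)) L) :=
    hasSec_of_isGloballyGenerated hG2 (not_isZero_of_isInvertible hA2.1)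
  have hsA3 := hasSec_assoc_unit _ L hsA2
  have hmono := @mono_map_tensorRightF X L hL _ _ φ hφ
  have hs2' : HasSec (CohB1.tensorMod (CohB1.tensorPow L m) L) :=
    @hasSec_of_mono X _ _ ((tensorRightF L).map φ) hmono hsA3
  have hs2 : HasSec (CohB1.tensorPow L (m + 1)) := hs2'
  exact ⟨m * m, fun M hM => hasSec_tensorPow_of_le L hL m hm hs1 hs2 M hM⟩

end Groth.Agent.R2.H85.BigExp
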