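import Mathlib
import Groth.Prelude
import Groth.Agent.Lib.Helper27PnSections
import Groth.Agent.Lib.Helper20ZClos20
import Groth.Agent.Lib.Helper7Dim
import Groth.Agent.Lib.Helper7TopDim
import Groth.Agent.R2.H50CM
import Groth.Agent.Lib.Helper10CurveFlat

/-!
# helper85: a proper one-dimensional scheme with `H^0(O) = k` is connected, Cohen–Macaulay and
equidimensional (S1534)
-/

set_option autoImplicit false
set_option linter.style.haveILetI false
universe u
open CategoryTheory CategoryTheory.Limits AlgebraicGeometry TopologicalSpace Opposite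

namespace Groth.Agent.R2.H85.CurveCM

variable {X : Scheme.{u}}

/-- gluing of two sections of the structure sheaf agreeing on the overlap. -/
theorem exists_glue₂ (U V : X.Opens) (a : Γ(X, U)) (b : Γ(X, V))
    (h : X.presheaf.map (homOfLE (inf_le_left : U ⊓ V ≤ U)).op a =
      X.presheaf.map (homOfLE (inf_le_right : U ⊓ V ≤ V)).op b) :
    ∃ s : Γ(X, U ⊔ V), X.presheaf.map (homOfLE (le_sup_left : U ≤ U ⊔ V)).op s = a ∧
      X.presheaf.map (homOfLE (le_sup_right : V ≤ U ⊔ V)).op s = b := by
  let x : (CommRingCat.of <| RingHom.eqLocus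
      (RingHom.comp (X.sheaf.obj.map (homOfLE inf_le_left : U ⊓ V ⟶ U).op).hom
        (RingHom.fst (X.sheaf.obj.obj <| op U) (X.sheaf.obj.obj <| op V)))
      (RingHom.comp (X.sheaf.obj.map (homOfLE inf_le_right : U ⊓ V ⟶ V).op).hom
        (RingHom.snd (X.sheaf.obj.obj <| op U) (X.sheaf.obj.obj <| op V)))) := ⟨(a, b), h⟩
  refine ⟨(X.sheaf.objSupIsoProdEqLocus U V).inv x, ?_, ?_⟩
  · exact TopCat.Sheaf.objSupIsoProdEqLocus_inv_fst X.sheaf U V x
  · exact TopCat.Sheaf.objSupIsoProdEqLocus_inv_snd X.sheaf U V x

/-- an open on which `0` is a unit is empty. -/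
theorem eq_bot_of_isUnit_zero (U : X.Opens) (h : IsUnit (0 : Γ(X, U))) : U = ⊥ := by
  rw [← X.basicOpen_of_isUnit h, X.basicOpen_zero]


section Scalar

variable (k : Type u) [Field k] [X.Over (Spec (CommRingCat.of k))]

/-- when `h^0(O_X) = 1`, every global function is a scalar. -/
theorem exists_eq_toGlobal [Nonempty X]
    (h0 : Module.finrank k (Coh.HH X (Coh.structureModule X) 0) = 1) (t : Γ(X, ⊤)) :
    ∃ c : k, t = Coh.toGlobal (X ↘ Spec (CommRingCat.of k)) c := by
  let e := Groth.Agent.Lib.Helper27PnSections.hh0Equiv X (Coh.structureModule X)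
  let one' : (Coh.toAb (Coh.structureModule X)).obj.obj (op (⊤ : Opens X)) := (1 : Γ(X, ⊤))
  let t' : (Coh.toAb (Coh.structureModule X)).obj.obj (op (⊤ : Opens X)) := t
  have hone : (1 : Γ(X, ⊤)) ≠ 0 := by
    haveI : Nonempty (⊤ : X.Opens) := ⟨⟨Classical.arbitrary X, trivial⟩⟩
    haveI : Nontrivial Γ(X, ⊤) := X.component_nontrivial ⊤
    exact one_ne_zero
  have hv₀ne : e.symm one' ≠ 0 := by
    intro h
    apply hone
    have := congrArg e h
    rw [AddEquiv.apply_symm_apply, map_zero] at this
    exact this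
  obtain ⟨c, hc⟩ := (finrank_eq_one_iff_of_nonzero' (e.symm one') hv₀ne).1 h0 (e.symm t')
  refine ⟨c, ?_⟩
  have h1 := congrArg e hc
  rw [AddEquiv.apply_symm_apply] at h1
  have h2 : c • e.symm one' =
      (show Coh.Γtop X from Coh.toGlobal (X ↘ Spec (CommRingCat.of k)) c) • e.symm one' := rfl
  rw [h2, Groth.Agent.Lib.Helper27PnSections.hh0Equiv_smul, Coh.smulAb_app,
    Groth.Agent.Lib.Helper27PnSections.resTop_top, AddEquiv.apply_symm_apply] at h1
  have h3 : ((Coh.toGlobal (X ↘ Spec (CommRingCat.of k)) c : Coh.Γtop X) * (1 : Coh.Γtop X) :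
      Coh.Γtop X) = t := h1
  rw [mul_one] at h3
  exact h3.symm

end Scalar


theorem res_res {U V W : X.Opens} (h₁ : U ≤ V) (h₂ : V ≤ W) (s : Γ(X, W)) :
    X.presheaf.map (homOfLE h₁).op (X.presheaf.map (homOfLE h₂).op s) =
      X.presheaf.map (homOfLE (h₁.trans h₂)).op s := by
  rw [← CommRingCat.comp_apply, ← Functor.map_comp]
  rfl

section Scalar2

variable (k : Type u) [Field k] [X.Over (Spec (CommRingCat.of k))]

theorem eq_zero_or_isUnit [Nonempty X]
    (h0 : Module.finrank k (Coh.HH X (Coh.structureModule X) 0) = 1) (t : Γ(X, ⊤)) :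
    t = 0 ∨ IsUnit t := by
  obtain ⟨c, hc⟩ := exists_eq_toGlobal k h0 t
  by_cases h : c = 0
  · left
    rw [hc, h, map_zero]
    rfl
  · right
    have := (IsUnit.mk0 c h).map (Coh.toGlobal (X ↘ Spec (CommRingCat.of k)))
    rw [hc]
    exact this

/-- extension by zero: a section on `W` vanishing on `W ⊓ V`, with `W ⊔ V = ⊤`, is the restriction of a
global function vanishing on `V`. -/
theorem exists_global_of_res_eq_zero (W V : X.Opens) (hWV : W ⊔ V = ⊤) (s : Γ(X, W))
    (hs : X.presheaf.map (homOfLE (inf_le_left : W ⊓ V ≤ W)).op s = 0) :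
    ∃ t : Γ(X, ⊤), X.presheaf.map (homOfLE (le_top : W ≤ ⊤)).op t = s ∧
      X.presheaf.map (homOfLE (le_top : V ≤ ⊤)).op t = 0 := by
  obtain ⟨g, hg1, hg2⟩ := exists_glue₂ W V s 0 (by rw [hs, map_zero])
  refine ⟨X.presheaf.map (homOfLE (le_of_eq hWV.symm)).op g, ?_, ?_⟩
  · rw [res_res]; exact hg1
  · rw [res_res]; exact hg2

theorem connectedSpace_of_finrank_one [Nonempty X]
    (h0 : Module.finrank k (Coh.HH X (Coh.structureModule X) 0) = 1) : ConnectedSpace X := by
  refine connectedSpace_iff_clopen.2 ⟨inferInstance, fun S hS => ?_⟩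
  let U : X.Opens := ⟨S, hS.isOpen⟩
  let V : X.Opens := ⟨Sᶜ, hS.compl.isOpen⟩
  have hUV : U ⊓ V = ⊥ := by
    ext x
    simp [U, V]
  have hsup : U ⊔ V = ⊤ := by
    ext x
    simp [U, V]
  haveI : Subsingleton Γ(X, U ⊓ V) := by rw [hUV]; infer_instance
  obtain ⟨t, ht1, ht2⟩ := exists_global_of_res_eq_zero U V hsup 1 (Subsingleton.elim _ _)
  rcases eq_zero_or_isUnit k h0 t with h | h
  · left
    rw [h, map_zero] at ht1
    have hu : IsUnit (0 : Γ(X, U)) := by rw [ht1]; exact isUnit_one
    have := eq_bot_of_isUnit_zero U hu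
    have h2 := congrArg (fun W : X.Opens => (W : Set X)) this
    simpa [U] using h2
  · right
    have hu : IsUnit (0 : Γ(X, V)) := by rw [← ht2]; exact h.map _
    have := eq_bot_of_isUnit_zero V hu
    have h2 := congrArg (fun W : X.Opens => (W : Set X)) this
    simpa [V, Set.compl_empty_iff] using h2

end Scalar2


section CM

variable (k : Type u) [Field k] [X.Over (Spec (CommRingCat.of k))]

theorem res_self (W : X.Opens) (s : Γ(X, W)) :
    X.presheaf.map (homOfLE (le_refl W)).op s = s := by
  have : (homOfLE (le_refl W)).op = 𝟙 (op W) := rfl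
  rw [this, X.presheaf.map_id]
  rfl

/-- the complement of a closed point is schematically dense (unless the point is everything). -/
theorem isSchematicallyDense_compl_singleton [Nonempty X]
    (h0 : Module.finrank k (Coh.HH X (Coh.structureModule X) 0) = 1)
    (x : X) (hx : IsClosed ({x} : Set X)) (hX : ({x} : Set X) ≠ Set.univ) :
    CInt.IsSchematicallyDense (⟨({x} : Set X)ᶜ, hx.isOpen_compl⟩ : X.Opens) := by
  intro W
  set V : X.Opens := ⟨({x} : Set X)ᶜ, hx.isOpen_compl⟩ with hV
  rw [injective_iff_map_eq_zero]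
  intro s hs
  by_cases hxW : x ∈ W
  · have hsup : W ⊔ V = ⊤ := by
      ext y
      by_cases hy : y = x
      · subst hy
        simp [hxW]
      · simp [V, hy]
    obtain ⟨t, ht1, ht2⟩ := exists_global_of_res_eq_zero W V hsup s hs
    rcases eq_zero_or_isUnit k h0 t with h | h
    · rw [← ht1, h, map_zero]
    · exfalso
      have hu : IsUnit (0 : Γ(X, V)) := by rw [← ht2]; exact h.map _
      have := eq_bot_of_isUnit_zero V hu
      have h2 := congrArg (fun W : X.Opens => (W : Set X)) this
      apply hX
      simpa [V, Set.compl_empty_iff] using h2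
  · have hWV : W ≤ W ⊓ V := by
      intro y hy
      refine ⟨hy, ?_⟩
      change y ∈ ({x} : Set X)ᶜ
      intro hyx
      rw [Set.mem_singleton_iff] at hyx
      subst hyx
      exact hxW hy
    have := res_res hWV (inf_le_left : W ⊓ V ≤ W) s
    rw [hs, map_zero, res_self] at this
    exact this.symm

attribute [local instance] specializationOrder in
/-- in a scheme of dimension `≤ 1`, the local ring at a non-closed point has dimension `0`. -/
theorem ringKrullDim_stalk_le_zero_of_not_isClosed (hdim : topologicalKrullDim X ≤ 1) (x : X)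
    (hx : ¬ IsClosed ({x} : Set X)) : ringKrullDim (X.presheaf.stalk x) ≤ 0 := by
  have h1 : topologicalKrullDim X = Order.krullDim X :=
    Groth.Agent.Lib.Helper7.topologicalKrullDim_eq_krullDim_points
  rw [h1, Order.krullDim_le_one_iff] at hdim
  rw [ringKrullDim_stalk_eq_coheight]
  rcases hdim x with hmin | hmax
  · exfalso
    apply hx
    have : closure ({x} : Set X) = {x} := by
      apply Set.Subset.antisymm _ subset_closure
      intro y hy
      have hxy : x ⤳ y := specializes_iff_mem_closure.2 hy
      have hyx : y ⤳ x := hmin (show y ≤ x from hxy)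
      exact (hyx.antisymm hxy).eq
    rw [← this]
    exact isClosed_closure
  · have : Order.coheight x = 0 := Order.coheight_eq_zero.2 hmax
    rw [this]
    rfl

theorem isCohenMacaulay_stalk [IsLocallyNoetherian X]
    (hdim : topologicalKrullDim X = 1)
    (h0 : Module.finrank k (Coh.HH X (Coh.structureModule X) 0) = 1) (x : X) :
    LocCoh.IsCohenMacaulayLocalRing (X.presheaf.stalk x) := by
  haveI : Nonempty X := by
    by_contra hne
    rw [not_nonempty_iff] at hne
    have : topologicalKrullDim X = ⊥ := by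
      unfold topologicalKrullDim
      haveI : IsEmpty (IrreducibleCloseds X) :=
        ⟨fun Z => hne.elim Z.isIrreducible'.nonempty.some⟩
      exact Order.krullDim_eq_bot
    rw [this] at hdim
    exact absurd hdim (by simp)
  apply Groth.Agent.R2.H50.CM.cmLocal_of_le
  by_cases hx : IsClosed ({x} : Set X)
  · have hX : ({x} : Set X) ≠ Set.univ := by
      intro h
      haveI : Subsingleton X := by
        refine ⟨fun a b => ?_⟩
        have ha : a ∈ ({x} : Set X) := h ▸ Set.mem_univ a
        have hb : b ∈ ({x} : Set X) := h ▸ Set.mem_univ b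
        rw [Set.mem_singleton_iff] at ha hb
        rw [ha, hb]
      have := topologicalKrullDim_zero_of_discreteTopology X
      rw [hdim] at this
      exact absurd this (by decide)
    have hd := Groth.Agent.Lib.Helper20.ZClosLib.one_le_depth_of_isSchematicallyDense
      (⟨({x} : Set X)ᶜ, hx.isOpen_compl⟩ : X.Opens)
      (isSchematicallyDense_compl_singleton k h0 x hx hX) x (fun h => h rfl)
    have hle : ringKrullDim (X.presheaf.stalk x) ≤ 1 := by
      rw [ringKrullDim_stalk_eq_coheight]
      have := Groth.Agent.Lib.Helper10.CurveFlat.coheight_le_of_topologicalKrullDim_le X 1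
        (by rw [hdim]; rfl) x
      exact_mod_cast this
    refine hle.trans ?_
    exact_mod_cast hd
  · refine (ringKrullDim_stalk_le_zero_of_not_isClosed (le_of_eq hdim) x hx).trans ?_
    have h00 : (0 : ℕ∞) ≤ LocCoh.depth (X.presheaf.stalk x) (X.presheaf.stalk x) := zero_le
    exact_mod_cast h00

end CM


section Equidim

variable (k : Type u) [Field k] [X.Over (Spec (CommRingCat.of k))]

theorem nonempty_of_dim_eq_one (hdim : topologicalKrullDim X = 1) : Nonempty X := by
  by_contra hne
  rw [not_nonempty_iff] at hne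
  have : topologicalKrullDim X = ⊥ := by
    unfold topologicalKrullDim
    haveI : IsEmpty (IrreducibleCloseds X) :=
      ⟨fun Z => hne.elim Z.isIrreducible'.nonempty.some⟩
    exact Order.krullDim_eq_bot
  rw [this] at hdim
  exact absurd hdim (by simp)

theorem dim_irreducibleComponent_eq_one [IsLocallyNoetherian X] [CompactSpace X]
    (hdim : topologicalKrullDim X = 1)
    (h0 : Module.finrank k (Coh.HH X (Coh.structureModule X) 0) = 1)
    (Z : Set X) (hZ : Z ∈ irreducibleComponents X) : topologicalKrullDim Z = 1 := by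
  haveI : Nonempty X := nonempty_of_dim_eq_one hdim
  haveI := connectedSpace_of_finrank_one k h0
  haveI : IsNoetherian X := {}
  haveI hN : NoetherianSpace X := IsNoetherian.noetherianSpace (X := X)
  have hle : topologicalKrullDim Z ≤ 1 := hdim ▸ topologicalKrullDim_subspace_le X Z
  by_contra hne
  have hlt : topologicalKrullDim Z < 1 := lt_of_le_of_ne hle hne
  have h00 := Groth.Agent.Lib.Helper7.TopDim.le_zero_of_lt_one _ hlt
  have hZirr : IsIrreducible Z := hZ.1
  haveI : Nonempty Z := hZirr.nonempty.to_subtype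
  have h0' : topologicalKrullDim Z = 0 :=
    le_antisymm h00 Groth.Agent.Lib.Helper7.TopDim.topologicalKrullDim_nonneg
  obtain ⟨_, hdisc⟩ := Groth.Agent.Lib.Helper7.TopDim.dim_eq_zero_iff_finite_discrete.1 h0'
  haveI := hdisc
  haveI : PreirreducibleSpace Z := Subtype.preirreducibleSpace hZirr.isPreirreducible
  have hsub : Z.Subsingleton := by
    intro a ha b hb
    have := (PreirreducibleSpace.isPreirreducible_univ (X := Z)).subsingleton
      (Set.mem_univ ⟨a, ha⟩) (Set.mem_univ ⟨b, hb⟩)
    exact congrArg Subtype.val this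
  -- `Z` is open: its complement is the union of the other components
  have hfin : (irreducibleComponents X).Finite := NoetherianSpace.finite_irreducibleComponents
  let T : Set X := ⋃₀ (irreducibleComponents X \ {Z})
  have hTclosed : IsClosed T := by
    change IsClosed (⋃₀ (irreducibleComponents X \ {Z}))
    rw [Set.sUnion_eq_biUnion]
    refine Set.Finite.isClosed_biUnion (hfin.subset Set.sdiff_subset) ?_
    intro W hW
    exact isClosed_of_mem_irreducibleComponents W hW.1
  have hZT : Z = Tᶜ := by
    ext y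
    constructor
    · intro hy hyT
      obtain ⟨W, ⟨hW, hWZ⟩, hyW⟩ := hyT
      apply hWZ
      -- `Z = {y} ⊆ W`, so `W ⊆ Z` by maximality
      have hZW : Z ⊆ W := by
        intro a ha
        rw [hsub ha hy]
        exact hyW
      have hWZ' : W ⊆ Z := hZ.2 hW.1 hZW
      exact Set.mem_singleton_iff.2 (Set.Subset.antisymm hWZ' hZW)
    · intro hy
      have hyu : y ∈ ⋃₀ irreducibleComponents X := by
        rw [sUnion_irreducibleComponents]; trivial
      obtain ⟨W, hW, hyW⟩ := hyu
      by_cases hWZ : W = Z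
      · rw [← hWZ]; exact hyW
      · exact absurd (show y ∈ T from ⟨W, ⟨hW, hWZ⟩, hyW⟩) hy
  have hZopen : IsOpen Z := by rw [hZT]; exact hTclosed.isOpen_compl
  have hZclopen : IsClopen Z := ⟨isClosed_of_mem_irreducibleComponents Z hZ, hZopen⟩
  have hZuniv : Z = Set.univ := hZclopen.eq_univ hZirr.nonempty
  haveI : Subsingleton X := by
    refine ⟨fun a b => ?_⟩
    exact hsub (hZuniv ▸ Set.mem_univ a) (hZuniv ▸ Set.mem_univ b)
  have := topologicalKrullDim_zero_of_discreteTopology X
  rw [hdim] at this
  exact absurd this (by decide)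

end Equidim

end Groth.Agent.R2.H85.CurveCM
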