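import Mathlib
import Groth.Prelude.Def_Coh
import Groth.Prelude.Def_CohB1
import Groth.Prelude.Def_ClSub2
import Groth.Prelude.Def_CurvBase
import Groth.Agent.S0002
import Groth.Agent.S0019
import Groth.Agent.S0028
import Groth.Agent.R2.H70EdgeLin
import Groth.Agent.R2.H1SuppVanish
import Groth.Agent.R2.H2GrothVanSch
import Groth.Agent.R2.H5CohThick
import Groth.Agent.R2.H62CohFin
import Groth.Agent.R2.H62CurveCoker
import Groth.Agent.Lib.Helper23Support
import Groth.Agent.Lib.Helper23FinTypeLocal
import Groth.Agent.Lib.Helper23QCohLocal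

/-!
# Genus inequalities for finite maps that are closed immersions over a dense open (helper85)

`X` proper of dimension `≤ 1` over a field `k`, `f : Y ⟶ X` finite and a closed immersion over a dense
open `U`: `O_X ⟶ f_* O_Y` has coherent cokernel supported on `X ∖ U` (dimension `≤ 0`), so
`H^1(X, O_X) ⟶ H^1(X, f_* O_Y) ≃ H^1(Y, O_Y)` is surjective.
-/

set_option autoImplicit false
set_option linter.style.haveILetI false
universe u

open CategoryTheory CategoryTheory.Limits AlgebraicGeometry TopologicalSpace Opposite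

namespace Groth.Agent.R2.H85.GenusLe

open Groth.Agent.R2.H62.CohLES

variable {X Y : Scheme.{u}}

/-- a morphism which is a closed immersion over `U` is surjective on sections over affine opens
inside `U` -/
theorem app_surjective_of_isClosedImmersion_restrict (f : Y ⟶ X) (U : X.Opens)
    [IsClosedImmersion (f ∣_ U)] (V : X.Opens) (hV : IsAffineOpen V) (hVU : V ≤ U) :
    Function.Surjective (f.app V).hom := by
  have hW : IsAffineOpen (U.ι ⁻¹ᵁ V) := by
    have : IsAffineOpen (U.ι ''ᵁ (U.ι ⁻¹ᵁ V)) := by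
      have e : U.ι ''ᵁ (U.ι ⁻¹ᵁ V) = V := by
        ext x
        simp only [Scheme.Hom.coe_image, Scheme.Hom.coe_preimage, Set.image_preimage_eq_inter_range,
          Scheme.Opens.range_ι, Set.mem_inter_iff, SetLike.mem_coe]
        exact ⟨fun h => h.1, fun h => ⟨h, hVU h⟩⟩
      rw [e]; exact hV
    exact (U.ι.isAffineOpen_iff_of_isOpenImmersion).1 this
  have h1 : Function.Surjective ((f ∣_ U).app (U.ι ⁻¹ᵁ V)).hom :=
    (f ∣_ U).app_surjective _ hW
  rw [morphismRestrict_app] at h1
  have key : ∀ W : X.Opens, W = V → Function.Surjective (f.app W).hom → 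
      Function.Surjective (f.app V).hom := by
    rintro W rfl h
    exact h
  refine key (U.ι ''ᵁ (U.ι ⁻¹ᵁ V)) ?_ ?_
  · ext x
    simp only [Scheme.Hom.coe_image, Scheme.Hom.coe_preimage, Set.image_preimage_eq_inter_range,
      Scheme.Opens.range_ι, Set.mem_inter_iff, SetLike.mem_coe]
    exact ⟨fun h => h.1, fun h => ⟨h, hVU h⟩⟩
  · intro b
    have h2 : Function.Bijective
        (Y.presheaf.map (eqToHom (image_morphismRestrict_preimage f U (U.ι ⁻¹ᵁ V))).op).hom :=
      ConcreteCategory.bijective_of_isIso _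
    obtain ⟨a, ha⟩ := h1
      ((Y.presheaf.map (eqToHom (image_morphismRestrict_preimage f U (U.ι ⁻¹ᵁ V))).op).hom b)
    exact ⟨a, h2.1 ha⟩

open Groth.Agent.Lib.Helper23.QCohLocal in
/-- the cokernel of `O_X ⟶ f_* O_Y` is supported off `U` when `f` is affine and a closed immersion
over `U` -/
theorem support_cokernel_subset (f : Y ⟶ X) [IsAffineHom f] (U : X.Opens)
    [IsClosedImmersion (f ∣_ U)] :
    CohB1.support (cokernel (ClSub.unitToPush f)) ⊆ ((U : Set X)ᶜ : Set X) := by
  intro x hx hxU
  apply hx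
  haveI : (Coh.structureModule X).IsQuasicoherent :=
    Groth.Agent.R2.H5.CohThick.isQuasicoherent_structureModule X
  haveI : (Coh.structureModule Y).IsQuasicoherent :=
    Groth.Agent.R2.H5.CohThick.isQuasicoherent_structureModule Y
  haveI : ((Scheme.Modules.pushforward f).obj (Coh.structureModule Y)).IsQuasicoherent :=
    isQuasicoherent_pushforward f _
  haveI : (cokernel (ClSub.unitToPush f)).IsQuasicoherent :=
    isQuasicoherent_cokernel (ClSub.unitToPush f)
  refine Groth.Agent.Lib.Helper23.Support.subsingleton_stalk_of_forall_res_eq_zero _ x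
    (fun W hW s => ?_)
  obtain ⟨_, ⟨V, hV, rfl⟩, hxV, hle⟩ :=
    X.isBasis_affineOpens.exists_subset_of_mem_open (show x ∈ ((W ⊓ U : X.Opens) : Set X) from
      ⟨hW, hxU⟩) (W ⊓ U).isOpen
  have hVW : V ≤ W := fun y hy => (hle hy).1
  have hVU : V ≤ U := fun y hy => (hle hy).2
  refine ⟨V, hVW, hxV, ?_⟩
  obtain ⟨t, ht⟩ := Groth.Agent.Lib.Helper23.FinType.surjective_app_of_epi
    (cokernel.π (ClSub.unitToPush f)) hV
    ((cokernel (ClSub.unitToPush f)).presheaf.map (homOfLE hVW).op s)
  obtain ⟨a, ha⟩ := app_surjective_of_isClosedImmersion_restrict f U V hV hVU t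
  rw [← ht]
  have h1 : (ClSub.unitToPush f).app V a = t := ha
  rw [← h1]
  have h2 : ClSub.unitToPush f ≫ cokernel.π (ClSub.unitToPush f) = 0 := cokernel.condition _
  have h3 : (ClSub.unitToPush f ≫ cokernel.π (ClSub.unitToPush f)).app V a = 0 := by
    rw [h2]; rfl
  exact h3

/-- dimension of the complement of a dense open in a Noetherian space of dimension `≤ 1` -/
theorem topologicalKrullDim_compl_le_zero {T : Type u} [TopologicalSpace T] [NoetherianSpace T]
    (hdim : topologicalKrullDim T ≤ 1) (W : Opens T) (hW : Dense (W : Set T)) :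
    topologicalKrullDim ((W : Set T)ᶜ : Set T) ≤ 0 := by
  have h2 : topologicalKrullDim T < ((1 + 1 : ℕ) : WithBot ℕ∞) := by
    refine lt_of_le_of_lt hdim ?_
    exact_mod_cast Nat.lt_succ_self 1
  have h1 := Groth.Agent.R2.H2.GrothVan.topologicalKrullDim_compl_lt W hW 1 h2
  generalize topologicalKrullDim ((W : Set T)ᶜ : Set T) = d at h1 ⊢
  induction d using WithBot.recBotCoe with
  | bot => exact bot_le
  | coe d =>
    have h3 : d < 1 := by exact_mod_cast h1
    have h4 : d = 0 := Order.lt_one_iff.1 h3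
    rw [h4]
    rfl

/-- `H^1(X, O_X) ⟶ H^1(X, f_* O_Y)` is surjective when `f` is finite and a closed immersion over a
dense open of the Noetherian scheme `X` of dimension `≤ 1` -/
theorem HHmap_unitToPush_surjective [IsNoetherian X] (hdim : topologicalKrullDim X ≤ 1)
    (f : Y ⟶ X) [IsFinite f] (U : X.Opens) (hU : Dense (U : Set X))
    [IsClosedImmersion (f ∣_ U)] :
    Function.Surjective (HHmap (ClSub.unitToPush f) 1) := by
  set u := ClSub.unitToPush f with hu
  haveI hN : NoetherianSpace X := IsNoetherian.noetherianSpace (X := X)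
  -- vanishing of `H^1` of the cokernel
  have hT : IsClosed ((U : Set X)ᶜ : Set X) := isClosed_compl_iff.2 U.isOpen
  haveI : NoetherianSpace ((U : Set X)ᶜ : Set X) := inferInstance
  have hQ : Subsingleton (Coh.HH X (cokernel u) 1) :=
    Groth.Agent.R2.H1.SuppVanish.subsingleton_HH_of_support_subset _ hT 0
      (by exact_mod_cast topologicalKrullDim_compl_le_zero hdim U hU) (cokernel u)
      (support_cokernel_subset f U) 1 (by omega)
  let S₁ : ShortComplex X.Modules :=
    ShortComplex.mk (kernel.ι (cokernel.π u)) (cokernel.π u) (kernel.condition _)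
  have hS₁ : S₁.ShortExact :=
    { exact := ShortComplex.exact_kernel _
      mono_f := inferInstanceAs (Mono (kernel.ι (cokernel.π u)))
      epi_g := inferInstanceAs (Epi (cokernel.π u)) }
  haveI : Subsingleton (Coh.HH X S₁.X₃ 1) := hQ
  have s1 : Function.Surjective (HHmap S₁.f 1) := HHmap_f_surjective hS₁ 1
  let e : Coh.structureModule X ⟶ kernel (cokernel.π u) := Abelian.factorThruImage u
  haveI he : Epi e := inferInstanceAs (Epi (Abelian.factorThruImage u))
  let S₂ : ShortComplex X.Modules := ShortComplex.mk (kernel.ι e) e (kernel.condition _)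
  have hS₂ : S₂.ShortExact :=
    { exact := ShortComplex.exact_kernel _
      mono_f := inferInstanceAs (Mono (kernel.ι e))
      epi_g := he }
  haveI : Subsingleton (Coh.HH X S₂.X₁ (1 + 1)) :=
    Groth.Agent.R2.H2.GrothVan.HH_subsingleton_of_dim_le X 1 hdim _ 2 (by omega)
  have s2 : Function.Surjective (HHmap S₂.g 1) := HHmap_g_surjective hS₂ 1
  have hfac : e ≫ kernel.ι (cokernel.π u) = u := Abelian.image.fac u
  intro y
  obtain ⟨z, hz⟩ := s1 y
  obtain ⟨w, hw⟩ := s2 z
  refine ⟨w, ?_⟩
  rw [← hfac, HHmap_comp]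
  exact (congrArg (HHmap S₁.f 1) hw).trans hz

/-- **genus inequality**: `f : Y ⟶ X` finite, a closed immersion over a dense open of `X` proper of
dimension `≤ 1` over `k`: `dim H^1(Y, O_Y) ≤ dim H^1(X, O_X)` -/
theorem genus_le_of_finite (k : Type u) [Field k] [X.Over (Spec (CommRingCat.of k))]
    [Y.Over (Spec (CommRingCat.of k))] [IsProper (X ↘ (Spec (CommRingCat.of k)))]
    (hdim : topologicalKrullDim X ≤ 1) (f : Y ⟶ X) [IsFinite f]
    (hf : f ≫ (X ↘ (Spec (CommRingCat.of k))) = Y ↘ (Spec (CommRingCat.of k)))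
    (U : X.Opens) (hU : Dense (U : Set X)) (hfU : IsClosedImmersion (f ∣_ U)) :
    Curv2.genus k Y ≤ Curv2.genus k X := by
  haveI : IsLocallyNoetherian X :=
    LocallyOfFiniteType.isLocallyNoetherian (X ↘ Spec (CommRingCat.of k))
  haveI : CompactSpace X :=
    QuasiCompact.compactSpace_of_compactSpace (X ↘ Spec (CommRingCat.of k))
  haveI : IsNoetherian X := {}
  haveI : f.IsOver (Spec (CommRingCat.of k)) := ⟨hf⟩
  haveI : (Coh.structureModule Y).IsQuasicoherent :=
    Groth.Agent.R2.H5.CohThick.isQuasicoherent_structureModule Y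
  have hsurj := HHmap_unitToPush_surjective hdim f U hU
  obtain ⟨eL⟩ := Groth.Agent.R2.H70.Edge.lerayLinear k Y X f (Coh.structureModule Y)
    (fun q hq => Groth.Agent.S0028.result f (Coh.structureModule Y) q hq) 1
  haveI : Module.Finite k (Coh.HH X (Coh.structureModule X) 1) :=
    Groth.Agent.S0002.result k X _ (Groth.Agent.R2.H5.CohThick.isCoh_structureModule X) 1
  have h1 : Module.finrank k (Coh.HH X ((Coh.push f).obj (Coh.structureModule Y)) 1) ≤
      Module.finrank k (Coh.HH X (Coh.structureModule X) 1) :=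
    LinearMap.finrank_le_finrank_of_surjective (f := HHmapA k (ClSub.unitToPush f) 1) hsurj
  unfold Curv2.genus
  rw [← eL.finrank_eq]
  exact h1

end Groth.Agent.R2.H85.GenusLe
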