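import Mathlib
import Groth.Agent.R2.H85GenusLe
import Groth.Agent.Lib.Helper7TopDim
import Groth.Agent.Lib.Helper6DimAff

/-!
# Proper birational morphisms onto schemes of dimension `≤ 1` are finite (helper85)

`X` proper of dimension `≤ 1` over a field `k`, `f : X' ⟶ X` proper, an isomorphism over an open `U`
whose preimage is dense in `X'`: then `dim X' ≤ 1`, the fibres of `f` are finite, `f` is finite, and
the genus inequality of `R2/H85GenusLe` applies.
-/

set_option autoImplicit false
set_option linter.style.haveILetI false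
universe u

open CategoryTheory CategoryTheory.Limits AlgebraicGeometry TopologicalSpace Opposite

namespace Groth.Agent.R2.H85.GenusLe

variable {X X' : Scheme.{u}}

/-- a Noetherian `T0` space of dimension `≤ 0` is finite -/
theorem finite_of_topologicalKrullDim_le_zero {T : Type u} [TopologicalSpace T] [NoetherianSpace T]
    [T0Space T] (h : topologicalKrullDim T ≤ 0) : Finite T := by
  rcases isEmpty_or_nonempty T with hT | hT
  · infer_instance
  · have h0 : topologicalKrullDim T = 0 :=
      le_antisymm h Groth.Agent.Lib.Helper7.TopDim.topologicalKrullDim_nonneg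
    exact (Groth.Agent.Lib.Helper7.TopDim.dim_eq_zero_iff_finite_discrete.1 h0).1

/-- the source of a morphism which is an isomorphism over `U` with dense preimage has dimension at
most that of the target -/
theorem topologicalKrullDim_le_of_isIso_restrict (k : Type u) [Field k]
    (g : X' ⟶ Spec (CommRingCat.of k)) [LocallyOfFiniteType g] [CompactSpace X']
    (f : X' ⟶ X) (U : X.Opens) (hU' : Dense ((f ⁻¹ᵁ U : X'.Opens) : Set X'))
    (hfU : IsIso (f ∣_ U)) : topologicalKrullDim X' ≤ topologicalKrullDim X := by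
  rw [Groth.Agent.Lib.Helper6.DimAff.topologicalKrullDim_eq_of_dense k g (f ⁻¹ᵁ U) hU']
  have h1 : topologicalKrullDim ↥(f ⁻¹ᵁ U) = topologicalKrullDim ↥U :=
    IsHomeomorph.topologicalKrullDim_eq _
      (Scheme.homeoOfIso (asIso (f ∣_ U))).isHomeomorph
  exact h1.le.trans (topologicalKrullDim_subspace_le X (U : Set X))

/-- a proper morphism to a scheme of dimension `≤ 1` over a field which is an isomorphism over an open
with dense preimage is finite -/
theorem isFinite_of_isIso_restrict (k : Type u) [Field k] [X.Over (Spec (CommRingCat.of k))]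
    [X'.Over (Spec (CommRingCat.of k))] [IsProper (X ↘ (Spec (CommRingCat.of k)))]
    (hdim : topologicalKrullDim X ≤ 1) (f : X' ⟶ X) [IsProper f]
    (hf : f ≫ (X ↘ (Spec (CommRingCat.of k))) = X' ↘ (Spec (CommRingCat.of k)))
    (U : X.Opens) (hU' : Dense ((f ⁻¹ᵁ U : X'.Opens) : Set X')) (hfU : IsIso (f ∣_ U)) :
    IsFinite f := by
  haveI hp : IsProper (X' ↘ (Spec (CommRingCat.of k))) := by
    rw [← hf]; infer_instance
  haveI : IsLocallyNoetherian X' :=
    LocallyOfFiniteType.isLocallyNoetherian (X' ↘ Spec (CommRingCat.of k))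
  haveI : CompactSpace X' :=
    QuasiCompact.compactSpace_of_compactSpace (X' ↘ Spec (CommRingCat.of k))
  haveI : IsNoetherian X' := {}
  haveI hN : NoetherianSpace X' := IsNoetherian.noetherianSpace (X := X')
  have hdim' : topologicalKrullDim X' ≤ 1 :=
    (topologicalKrullDim_le_of_isIso_restrict k (X' ↘ Spec (CommRingCat.of k)) f U hU' hfU).trans
      hdim
  have hT : topologicalKrullDim (((f ⁻¹ᵁ U : X'.Opens) : Set X')ᶜ : Set X') ≤ 0 :=
    topologicalKrullDim_compl_le_zero hdim' (f ⁻¹ᵁ U) hU'
  haveI : NoetherianSpace (((f ⁻¹ᵁ U : X'.Opens) : Set X')ᶜ : Set X') := inferInstance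
  haveI hfinT : Finite (((f ⁻¹ᵁ U : X'.Opens) : Set X')ᶜ : Set X') :=
    finite_of_topologicalKrullDim_le_zero hT
  have hfib : ∀ x : X, (f ⁻¹' {x}).Finite := by
    intro x
    by_cases hx : x ∈ U
    · refine Set.Subsingleton.finite ?_
      intro y hy y' hy'
      have hyU : y ∈ f ⁻¹ᵁ U := by
        change f y ∈ U
        rw [hy]; exact hx
      have hyU' : y' ∈ f ⁻¹ᵁ U := by
        change f y' ∈ U
        rw [hy']; exact hx
      have hinj : Function.Injective (f ∣_ U) :=
        (Scheme.homeoOfIso (asIso (f ∣_ U))).injective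
      have h1 : (f ∣_ U) ⟨y, hyU⟩ = (f ∣_ U) ⟨y', hyU'⟩ := by
        apply Subtype.ext
        exact (morphismRestrict_base_coe f U ⟨y, hyU⟩).trans
          ((hy.trans hy'.symm).trans (morphismRestrict_base_coe f U ⟨y', hyU'⟩).symm)
      exact congrArg Subtype.val (hinj h1)
    · refine Set.Finite.subset (Set.toFinite (((f ⁻¹ᵁ U : X'.Opens) : Set X')ᶜ : Set X')) ?_
      intro y hy hyU
      apply hx
      have : f y ∈ U := hyU
      rwa [hy] at this
  haveI : LocallyQuasiFinite f := LocallyQuasiFinite.of_finite_preimage_singleton f hfib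
  exact IsFinite.of_isProper_of_locallyQuasiFinite f

/-- **genus inequality** for proper birational morphisms onto schemes of dimension `≤ 1` -/
theorem genus_le_of_proper (k : Type u) [Field k] [X.Over (Spec (CommRingCat.of k))]
    [X'.Over (Spec (CommRingCat.of k))] [IsProper (X ↘ (Spec (CommRingCat.of k)))]
    (hdim : topologicalKrullDim X ≤ 1) (f : X' ⟶ X) [IsProper f]
    (hf : f ≫ (X ↘ (Spec (CommRingCat.of k))) = X' ↘ (Spec (CommRingCat.of k)))
    (U : X.Opens) (hU : Dense (U : Set X)) (hU' : Dense ((f ⁻¹ᵁ U : X'.Opens) : Set X'))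
    (hfU : IsIso (f ∣_ U)) : Curv2.genus k X' ≤ Curv2.genus k X := by
  haveI := isFinite_of_isIso_restrict k hdim f hf U hU' hfU
  exact genus_le_of_finite k hdim f hf U hU inferInstance

end Groth.Agent.R2.H85.GenusLe
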