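import Mathlib
import Groth.Agent.R2.H85GenusLe2
import Groth.Agent.R2.H85DefAmple
import Groth.Agent.Lib.Helper27PnSections

/-!
# A proper birational morphism onto a reduced curve with equal genus is an isomorphism (helper85)

`X` reduced, proper of dimension `≤ 1` over `k`; `f : X' ⟶ X` proper, an isomorphism over a dense open
`U` with dense preimage.  If `Γ(X, O_X) → Γ(X', O_X')` is surjective and the genera agree then `f` is
an isomorphism: `f` is finite, `O_X ⟶ f_* O_X'` is injective with torsion cokernel `Q`, and the long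
exact sequence forces `H^0(Q) = 0`, hence `Q = 0`.
-/

set_option autoImplicit false
set_option linter.style.haveILetI false
universe u

open CategoryTheory CategoryTheory.Limits AlgebraicGeometry TopologicalSpace Opposite

namespace Groth.Agent.R2.H85.GenusLe

open Groth.Agent.R2.H62.CohLES Groth.Agent.Lib.Helper23.SecTw Groth.Agent.Lib.Helper23.GenLocus
open Groth.Agent.R2.H85.DefAmple

variable {X X' : Scheme.{u}}

/-- `O_X ⟶ f_* O_X'` is a monomorphism when `X` is reduced and the image of `f` contains a dense
open -/
theorem mono_unitToPush_of_isReduced [IsReduced X] (f : X' ⟶ X) (U : X.Opens)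
    (hU : Dense (U : Set X)) (hsurj : ∀ x ∈ U, ∃ y : X', f y = x) :
    Mono (ClSub.unitToPush f) := by
  have hinj : ∀ W : X.Opens, Function.Injective (f.app W).hom := by
    intro W
    rw [injective_iff_map_eq_zero]
    intro a ha
    apply AlgebraicGeometry.eq_zero_of_basicOpen_eq_bot
    by_contra hne
    have hne' : ((X.basicOpen a : X.Opens) : Set X).Nonempty := by
      rw [Set.nonempty_iff_ne_empty]
      intro h
      apply hne
      ext x
      simp only [Opens.coe_bot, Set.mem_empty_iff_false, iff_false]
      intro hx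
      have : x ∈ ((X.basicOpen a : X.Opens) : Set X) := hx
      rw [h] at this
      exact this
    obtain ⟨x, hxD, hxU⟩ := hU.inter_open_nonempty _ (X.basicOpen a).isOpen hne'
    obtain ⟨y, rfl⟩ := hsurj x hxU
    have h1 : y ∈ f ⁻¹ᵁ X.basicOpen a := hxD
    rw [Scheme.preimage_basicOpen] at h1
    have h2 : (f.app W) a = 0 := ha
    rw [h2, Scheme.basicOpen_zero] at h1
    exact h1
  have h2 : Mono (Scheme.Modules.Hom.mapPresheaf (ClSub.unitToPush f)) := by
    refine (NatTrans.mono_iff_mono_app _).2 (fun W => ?_)
    rw [Scheme.Modules.mapPresheaf_app, AddCommGrpCat.mono_iff_injective]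
    exact hinj W.unop
  have h1 : Mono ((Scheme.Modules.toPresheaf X).map (ClSub.unitToPush f)) := by
    rw [Scheme.Modules.toPresheaf_map]
    exact h2
  exact (Scheme.Modules.toPresheaf X).mono_of_mono_map h1

/-- surjectivity on global sections gives surjectivity on `H^0` -/
theorem HHmap_zero_surjective_of_app_top {M N : X.Modules} (φ : M ⟶ N)
    (h : Function.Surjective (φ.app ⊤)) : Function.Surjective (HHmap φ 0) := by
  intro y
  obtain ⟨t, ht⟩ : ∃ t : Γ(N, ⊤), t = Groth.Agent.Lib.Helper27PnSections.hh0Equiv X N y := ⟨_, rfl⟩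
  obtain ⟨a, ha⟩ := h t
  refine ⟨(Groth.Agent.Lib.Helper27PnSections.hh0Equiv X M).symm a, ?_⟩
  apply (Groth.Agent.Lib.Helper27PnSections.hh0Equiv X N).injective
  have hnat := Sheaf.H.equiv₀_naturality (toAbMap φ) (hT := Limits.isTerminalTop)
    ((Groth.Agent.Lib.Helper27PnSections.hh0Equiv X M).symm a)
  refine hnat.symm.trans ?_
  have h2 : Groth.Agent.Lib.Helper27PnSections.hh0Equiv X M
      ((Groth.Agent.Lib.Helper27PnSections.hh0Equiv X M).symm a) = a :=
    (Groth.Agent.Lib.Helper27PnSections.hh0Equiv X M).apply_symm_apply _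
  exact (congrArg (fun z => φ.app ⊤ z) h2).trans (ha.trans ht)

/-- abstract form: a quotient of a coproduct of copies of `O` admitting no nonzero map from `O`
is zero -/
theorem isZero_of_epi_sigma {C : Type*} [Category C] [Abelian C] {O Q : C} {ι : Type*}
    [HasCoproduct (fun _ : ι => O)] (p : (∐ fun _ : ι => O) ⟶ Q) [Epi p]
    (hz : ∀ s : O ⟶ Q, s = 0) : IsZero Q := by
  have hp0 : p = 0 := by
    refine Sigma.hom_ext _ _ (fun i => ?_)
    rw [comp_zero]
    exact hz _
  rw [IsZero.iff_id_eq_zero, ← cancel_epi p, hp0, zero_comp, zero_comp]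

/-- a globally generated module without global sections is zero -/
theorem isZero_of_isGloballyGenerated_of_subsingleton {Q : X.Modules}
    (hgg : Curv2.IsGloballyGenerated Q) (h : Subsingleton (Coh.HH X Q 0)) : IsZero Q := by
  obtain ⟨ι, p, hp⟩ := hgg
  haveI : Subsingleton Γ(Q, ⊤) :=
    (Groth.Agent.Lib.Helper27PnSections.hh0Equiv X Q).symm.toEquiv.subsingleton
  have hz : ∀ s : Coh.structureModule X ⟶ Q, s = 0 := fun s =>
    hom_unit_ext s 0 (Subsingleton.elim _ _)
  exact @isZero_of_epi_sigma X.Modules _ _ (Coh.structureModule X) Q ι _ p hp hz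

/-- an affine morphism with `O_X ⟶ f_* O_X'` an isomorphism is an isomorphism -/
theorem isIso_of_isIso_unitToPush (f : X' ⟶ X) [IsAffineHom f] (h : IsIso (ClSub.unitToPush f)) :
    IsIso f := by
  have hV : ∀ V : X.affineOpens, IsIso (f ∣_ V.1) := by
    intro V
    rw [isIso_morphismRestrict_iff_isIso_app f V.2, ConcreteCategory.isIso_iff_bijective]
    constructor
    · refine Function.LeftInverse.injective (g := (inv (ClSub.unitToPush f)).app V.1) (fun a => ?_)
      have h1 : (ClSub.unitToPush f ≫ inv (ClSub.unitToPush f)).app V.1 a = a := by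
        rw [IsIso.hom_inv_id]; rfl
      exact h1
    · refine Function.RightInverse.surjective (g := (inv (ClSub.unitToPush f)).app V.1) (fun b => ?_)
      have h1 : (inv (ClSub.unitToPush f) ≫ ClSub.unitToPush f).app V.1 b = b := by
        rw [IsIso.inv_hom_id]; rfl
      exact h1
  exact (IsZariskiLocalAtTarget.iff_of_iSup_eq_top (P := MorphismProperty.isomorphisms Scheme)
    (fun V : X.affineOpens => V.1) (iSup_affineOpens_eq_top X)).2 hV

/-- in a Noetherian `T0` space of dimension `≤ 1`, the points outside a dense open are closed -/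
theorem isClosed_singleton_of_notMem_dense {T : Type u} [TopologicalSpace T] [NoetherianSpace T]
    [T0Space T] (hdim : topologicalKrullDim T ≤ 1) (W : Opens T) (hW : Dense (W : Set T)) (x : T)
    (hx : x ∉ W) : IsClosed ({x} : Set T) := by
  have hT : IsClosed ((W : Set T)ᶜ : Set T) := isClosed_compl_iff.2 W.isOpen
  have h0 := topologicalKrullDim_compl_le_zero hdim W hW
  have h1 : IsClosed ({⟨x, hx⟩} : Set ((W : Set T)ᶜ : Set T)) :=
    Groth.Agent.Lib.Helper7.TopDim.isClosed_singleton_of_dim_le_zero h0 _
  have h2 := hT.isClosedEmbedding_subtypeVal.isClosedMap _ h1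
  simpa using h2

/-- **isomorphism criterion**: a proper birational morphism onto a reduced proper scheme of dimension
`≤ 1` over `k` which is surjective on global functions and preserves the genus is an isomorphism -/
theorem isIso_of_genus_eq (k : Type u) [Field k] [X.Over (Spec (CommRingCat.of k))]
    [X'.Over (Spec (CommRingCat.of k))] [IsProper (X ↘ (Spec (CommRingCat.of k)))] [IsReduced X]
    (hdim : topologicalKrullDim X ≤ 1) (f : X' ⟶ X) [IsProper f]
    (hf : f ≫ (X ↘ (Spec (CommRingCat.of k))) = X' ↘ (Spec (CommRingCat.of k)))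
    (U : X.Opens) (hU : Dense (U : Set X)) (hU' : Dense ((f ⁻¹ᵁ U : X'.Opens) : Set X'))
    (hfU : IsIso (f ∣_ U)) (h0 : Function.Surjective (f.app ⊤).hom)
    (h1 : Curv2.genus k X' = Curv2.genus k X) : IsIso f := by
  haveI : IsLocallyNoetherian X :=
    LocallyOfFiniteType.isLocallyNoetherian (X ↘ Spec (CommRingCat.of k))
  haveI : CompactSpace X :=
    QuasiCompact.compactSpace_of_compactSpace (X ↘ Spec (CommRingCat.of k))
  haveI : IsNoetherian X := {}
  haveI hN : NoetherianSpace X := IsNoetherian.noetherianSpace (X := X)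
  haveI hfin : IsFinite f := isFinite_of_isIso_restrict k hdim f hf U hU' hfU
  haveI : f.IsOver (Spec (CommRingCat.of k)) := ⟨hf⟩
  haveI : IsClosedImmersion (f ∣_ U) := inferInstance
  haveI : (Coh.structureModule X').IsQuasicoherent :=
    Groth.Agent.R2.H5.CohThick.isQuasicoherent_structureModule X'
  set u := ClSub.unitToPush f with hu
  -- `u` is a monomorphism
  haveI hmono : Mono u := by
    refine mono_unitToPush_of_isReduced f U hU (fun x hx => ?_)
    obtain ⟨y, hy⟩ := (Scheme.homeoOfIso (asIso (f ∣_ U))).surjective ⟨x, hx⟩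
    refine ⟨y.1, ?_⟩
    have := morphismRestrict_base_coe f U y
    rw [← this]
    exact congrArg Subtype.val hy
  let S : ShortComplex X.Modules := ShortComplex.mk u (cokernel.π u) (cokernel.condition u)
  have hS : S.ShortExact :=
    { exact := ShortComplex.exact_cokernel u
      mono_f := hmono
      epi_g := inferInstanceAs (Epi (cokernel.π u)) }
  -- the cokernel is coherent, supported at closed points
  have hcohpush : Coh.IsCoh ((Coh.push f).obj (Coh.structureModule X')) :=
    Groth.Agent.S0019.result f _ (Groth.Agent.R2.H5.CohThick.isCoh_structureModule X')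
  have hQ : Coh.IsCoh (cokernel u) :=
    Groth.Agent.R2.H62.CurveInv.isCoh_cokernel
      (Groth.Agent.R2.H5.CohThick.isCoh_structureModule X) hcohpush u
  have hsupp : ∀ x ∈ CohB1.support (cokernel u), IsClosed ({x} : Set X) := fun x hx =>
    isClosed_singleton_of_notMem_dense hdim U hU x (support_cokernel_subset f U hx)
  have hgg : Curv2.IsGloballyGenerated (cokernel u) :=
    isGloballyGenerated_of_support_closedPoints (cokernel u) hQ hsupp
  -- the map on `H^1` is bijective
  have hsurj1 : Function.Surjective (HHmap u 1) := HHmap_unitToPush_surjective hdim f U hU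
  obtain ⟨eL⟩ := Groth.Agent.R2.H70.Edge.lerayLinear k X' X f (Coh.structureModule X')
    (fun q hq => Groth.Agent.S0028.result f (Coh.structureModule X') q hq) 1
  haveI : Module.Finite k (Coh.HH X (Coh.structureModule X) 1) :=
    Groth.Agent.S0002.result k X _ (Groth.Agent.R2.H5.CohThick.isCoh_structureModule X) 1
  haveI : Module.Finite k (Coh.HH X ((Coh.push f).obj (Coh.structureModule X')) 1) :=
    Groth.Agent.S0002.result k X _ hcohpush 1
  have hfr : Module.finrank k (Coh.HH X (Coh.structureModule X) 1) =
      Module.finrank k (Coh.HH X ((Coh.push f).obj (Coh.structureModule X')) 1) := by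
    rw [eL.finrank_eq]
    exact h1.symm
  have hinj1 : Function.Injective (HHmap u 1) :=
    (LinearMap.injective_iff_surjective_of_finrank_eq_finrank (f := HHmapA k u 1) hfr).2 hsurj1
  -- the map on `H^0` is surjective
  have hsurj0 : Function.Surjective (HHmap u 0) :=
    HHmap_zero_surjective_of_app_top u h0
  -- hence `H^0` of the cokernel vanishes
  have hH0 : Subsingleton (Coh.HH X (cokernel u) 0) := by
    refine subsingleton_of_forall_eq 0 (fun q => ?_)
    have hδ : δ hS 0 q = 0 := by
      apply hinj1
      rw [map_zero]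
      exact (exact_δ_f hS 0 _).2 ⟨q, rfl⟩
    obtain ⟨z, hz⟩ := (exact_g_δ hS 0 q).1 hδ
    obtain ⟨w, hw⟩ := hsurj0 z
    rw [← hz, ← hw]
    exact (exact_f_g hS 0 _).2 ⟨w, rfl⟩
  have hzero : IsZero (cokernel u) := isZero_of_isGloballyGenerated_of_subsingleton hgg hH0
  haveI hepi : Epi u := by
    refine Preadditive.epi_of_cancel_zero _ (fun {P} g hg => ?_)
    have h2 : cokernel.π u ≫ cokernel.desc u g hg = g := cokernel.π_desc u g hg
    rw [← h2, hzero.eq_of_src (cokernel.desc u g hg) 0, comp_zero]
  haveI : IsIso u := isIso_of_mono_of_epi u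
  exact isIso_of_isIso_unitToPush f inferInstance

end Groth.Agent.R2.H85.GenusLe
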