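import Mathlib
import Groth.Agent.R2.H85GenusIso
import Groth.Agent.R2.H28ProjRq
import Groth.Agent.R2.H20CurveTens
import Groth.Agent.R2.H62CurveCore
import Groth.Agent.R2.H70EdgeLin
import Groth.Agent.Lib.Helper23TensorUnit
import Groth.Agent.Lib.Helper20StalkExact
import Groth.Agent.S0002
import Groth.Agent.S0028
import Groth.Agent.S1558

/-!
# The degree of a finite locally free module is a birational invariant on curves (helper85)

`X`, `X'` proper of dimension `≤ 1` over a field `k`, `f : X' ⟶ X` an isomorphism over a dense open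
`U ⊆ X` with dense preimage.  Then `f` is finite, `χ(X', f^*E) = χ(X, f_*O_{X'} ⊗ E)` by the projection
formula, and the kernel and cokernel of `O_X ⟶ f_*O_{X'}` are supported in dimension `0`, where
`χ(T ⊗ E) = n χ(T)`.
-/

set_option autoImplicit false
set_option linter.style.haveILetI false
universe u

open CategoryTheory CategoryTheory.Limits AlgebraicGeometry TopologicalSpace Opposite

namespace Groth.Agent.R2.H85.DegBir

open Groth.Agent.R2.H62.CurveCore Groth.Agent.R2.H62.CohLES Groth.Agent.R2.H62.CurveInv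
  Groth.Agent.R2.H79.TwistCalc Groth.Agent.R2.H20.LocFreeRank Groth.Agent.R2.H20.CurveTens
  Groth.Agent.R2.H85.GenusLe

variable {X Y : Scheme.{u}}

/-- a morphism which is an isomorphism over `U` is injective on sections over opens inside `U` -/
theorem app_injective_of_isIso_restrict (f : Y ⟶ X) (U : X.Opens)
    [IsIso (f ∣_ U)] (V : X.Opens) (hVU : V ≤ U) :
    Function.Injective (f.app V).hom := by
  have h1 : Function.Injective ((f ∣_ U).app (U.ι ⁻¹ᵁ V)).hom :=
    (ConcreteCategory.bijective_of_isIso ((f ∣_ U).app (U.ι ⁻¹ᵁ V))).1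
  rw [morphismRestrict_app] at h1
  have key : ∀ W : X.Opens, W = V → Function.Injective (f.app W).hom →
      Function.Injective (f.app V).hom := by
    rintro W rfl h
    exact h
  refine key (U.ι ''ᵁ (U.ι ⁻¹ᵁ V)) ?_ ?_
  · ext x
    simp only [Scheme.Hom.coe_image, Scheme.Hom.coe_preimage, Set.image_preimage_eq_inter_range,
      Scheme.Opens.range_ι, Set.mem_inter_iff, SetLike.mem_coe]
    exact ⟨fun h => h.1, fun h => ⟨h, hVU h⟩⟩
  · intro a b hab
    apply h1
    change (Y.presheaf.map _).hom ((f.app _).hom a) = (Y.presheaf.map _).hom ((f.app _).hom b)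
    rw [hab]

/-- the kernel of `O_X ⟶ f_* O_Y` is supported off `U` when `f` is an isomorphism over `U` -/
theorem support_kernel_subset (f : Y ⟶ X) (U : X.Opens) [IsIso (f ∣_ U)] :
    CohB1.support (kernel (ClSub.unitToPush f)) ⊆ ((U : Set X)ᶜ : Set X) := by
  intro x hx hxU
  apply hx
  refine Groth.Agent.Lib.Helper23.Support.subsingleton_stalk_of_forall_res_eq_zero _ x
    (fun W hW s => ?_)
  refine ⟨W ⊓ U, inf_le_left, ⟨hW, hxU⟩, ?_⟩
  set t := (kernel (ClSub.unitToPush f)).presheaf.map (homOfLE (inf_le_left : W ⊓ U ≤ W)).op s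
    with ht
  have h2 : kernel.ι (ClSub.unitToPush f) ≫ ClSub.unitToPush f = 0 := kernel.condition _
  have h3 : (kernel.ι (ClSub.unitToPush f) ≫ ClSub.unitToPush f).app (W ⊓ U) t = 0 := by
    rw [h2]; rfl
  have h4 : (f.app (W ⊓ U)).hom ((kernel.ι (ClSub.unitToPush f)).app (W ⊓ U) t) = 0 := h3
  have h5 : (kernel.ι (ClSub.unitToPush f)).app (W ⊓ U) t = 0 :=
    app_injective_of_isIso_restrict f U (W ⊓ U) inf_le_right (h4.trans (map_zero _).symm)
  exact Groth.Agent.Lib.Helper20.StalkExact.injective_app_of_mono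
    (kernel.ι (ClSub.unitToPush f)) (W ⊓ U) (h5.trans (map_zero _).symm)

section Euler

variable {k : Type u} [Field k] [X.Over (Spec (CommRingCat.of k))]

/-- `χ(X, f_* G) = χ(Y, G)` for an affine `k`-morphism `f` and `G` quasi-coherent -/
theorem euler_push' [Y.Over (Spec (CommRingCat.of k))] (f : Y ⟶ X) [IsAffineHom f]
    [f.IsOver (Spec (CommRingCat.of k))] (G : Y.Modules) (hG : Coh.IsQCoh G) :
    Curv2.euler k X ((Coh.push f).obj G) = Curv2.euler k Y G := by
  haveI : Coh.IsQCoh G := hG
  unfold Curv2.euler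
  refine finsum_congr fun p => ?_
  obtain ⟨e⟩ := Groth.Agent.R2.H70.Edge.lerayLinear k Y X f G
    (fun q hq => Groth.Agent.S0028.result f G q hq) p
  rw [LinearEquiv.finrank_eq e]

variable [IsProper (X ↘ Spec (CommRingCat.of k))]

/-- the defect `χ(E ⊗ M) - n χ(M)` -/
noncomputable def delta (k : Type u) [Field k] {X : Scheme.{u}} [X.Over (Spec (CommRingCat.of k))]
    (n : ℕ) (E M : X.Modules) : ℤ :=
  Curv2.euler k X (CohB1.tensorMod E M) - n * Curv2.euler k X M

theorem delta_additive (n : ℕ) (E : X.Modules) (hE : FlatMod.IsFinLocFreeOfRank n E)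
    (S : ShortComplex X.Modules) (hS : S.ShortExact)
    (h₁ : Coh.IsCoh S.X₁) (h₂ : Coh.IsCoh S.X₂) (h₃ : Coh.IsCoh S.X₃) :
    delta k n E S.X₂ = delta k n E S.X₁ + delta k n E S.X₃ := by
  haveI := compactSpace_of_isProper k X
  haveI := quasiSeparatedSpace_of_isProper k X
  have hfin : HFin k X := fun M hM i => Groth.Agent.S0002.result k X M hM i
  have hEc := isCoh_of_isFinLocFreeOfRank hE
  have e1 := euler_additive_of_hfin hfin S hS h₁ h₂ h₃
  have e2 := euler_additive_of_hfin hfin (S.map (tensorLeftF E))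
    (shortExact_map_tensorLeftF E hE S hS) (isCoh_tensorMod' hEc h₁) (isCoh_tensorMod' hEc h₂)
    (isCoh_tensorMod' hEc h₃)
  unfold delta
  have e2' : Curv2.euler k X (CohB1.tensorMod E S.X₂) =
      Curv2.euler k X (CohB1.tensorMod E S.X₁) + Curv2.euler k X (CohB1.tensorMod E S.X₃) := e2
  rw [e1, e2']
  ring

theorem delta_eq_zero_of_support (n : ℕ) (E : X.Modules) (hE : FlatMod.IsFinLocFreeOfRank n E)
    (M : X.Modules) (hM : Coh.IsCoh M) (Z : Set X) (hZ : topologicalKrullDim Z ≤ 0)
    (hsupp : CohB1.support M ⊆ Z) : delta k n E M = 0 := by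
  have hdim : topologicalKrullDim (CohB1.support M) ≤ 0 :=
    (Topology.IsInducing.topologicalKrullDim_le (f := Set.inclusion hsupp)
      (Topology.IsEmbedding.inclusion hsupp).isInducing).trans hZ
  have h1 := Groth.Agent.S1558.result k X M hM hdim n E hE
  unfold delta
  rw [euler_congr (k := k) (tensorComm E M), h1]
  ring

/-- a morphism of coherent modules whose kernel and cokernel are supported in dimension `≤ 0` preserves
`χ(E ⊗ -) - n χ(-)` -/
theorem delta_eq_of_ker_coker [IsLocallyNoetherian X] (n : ℕ) (E : X.Modules)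
    (hE : FlatMod.IsFinLocFreeOfRank n E)
    {M N : X.Modules} (hM : Coh.IsCoh M) (hN : Coh.IsCoh N) (φ : M ⟶ N)
    (Z : Set X) (hZ : topologicalKrullDim Z ≤ 0)
    (hK : CohB1.support (kernel φ) ⊆ Z) (hQ : CohB1.support (cokernel φ) ⊆ Z) :
    delta k n E M = delta k n E N := by
  have hKc : Coh.IsCoh (kernel φ) := Groth.Agent.R2.H12.Dev.isCoh_kernel hM hN φ
  have hQc : Coh.IsCoh (cokernel φ) := Groth.Agent.R2.H12.Dev.isCoh_cokernel hM hN φ
  have hIc : Coh.IsCoh (kernel (cokernel.π φ)) :=
    Groth.Agent.R2.H12.Dev.isCoh_kernel hN hQc (cokernel.π φ)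
  let e : M ⟶ kernel (cokernel.π φ) := Abelian.factorThruImage φ
  haveI he : Epi e := inferInstanceAs (Epi (Abelian.factorThruImage φ))
  have hfac : e ≫ kernel.ι (cokernel.π φ) = φ := Abelian.image.fac φ
  -- `0 → I → N → Q → 0`
  let S₁ : ShortComplex X.Modules :=
    ShortComplex.mk (kernel.ι (cokernel.π φ)) (cokernel.π φ) (kernel.condition _)
  have hS₁ : S₁.ShortExact :=
    { exact := ShortComplex.exact_kernel _
      mono_f := inferInstanceAs (Mono (kernel.ι (cokernel.π φ)))
      epi_g := inferInstanceAs (Epi (cokernel.π φ)) }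
  -- `0 → K → M → I → 0`
  have hz : kernel.ι φ ≫ e = 0 := by
    rw [← cancel_mono (kernel.ι (cokernel.π φ)), Category.assoc, hfac, kernel.condition, zero_comp]
  let S₂ : ShortComplex X.Modules := ShortComplex.mk (kernel.ι φ) e hz
  have hS₂ : S₂.ShortExact :=
    { exact := by
        let S₀ : ShortComplex X.Modules := ShortComplex.mk (kernel.ι φ) φ (kernel.condition φ)
        let ψ : S₂ ⟶ S₀ :=
          { τ₁ := 𝟙 _
            τ₂ := 𝟙 _
            τ₃ := kernel.ι (cokernel.π φ)
            comm₁₂ := by simp [S₂, S₀]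
            comm₂₃ := by
              change 𝟙 _ ≫ φ = e ≫ kernel.ι (cokernel.π φ)
              rw [hfac, Category.id_comp] }
        haveI : Epi ψ.τ₁ := inferInstanceAs (Epi (𝟙 _))
        haveI : IsIso ψ.τ₂ := inferInstanceAs (IsIso (𝟙 _))
        haveI : Mono ψ.τ₃ := inferInstanceAs (Mono (kernel.ι (cokernel.π φ)))
        exact (ShortComplex.exact_iff_of_epi_of_isIso_of_mono ψ).2 (ShortComplex.exact_kernel φ)
      mono_f := inferInstanceAs (Mono (kernel.ι φ))
      epi_g := he }
  have a1 := delta_additive (k := k) n E hE S₁ hS₁ hIc hN hQc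
  have a2 := delta_additive (k := k) n E hE S₂ hS₂ hKc hM hIc
  have z1 := delta_eq_zero_of_support (k := k) n E hE _ hKc Z hZ hK
  have z2 := delta_eq_zero_of_support (k := k) n E hE _ hQc Z hZ hQ
  change delta k n E N = delta k n E (kernel (cokernel.π φ)) + delta k n E (cokernel φ) at a1
  change delta k n E M = delta k n E (kernel φ) + delta k n E (kernel (cokernel.π φ)) at a2
  rw [a1, a2, z1, z2]
  ring

end Euler

section Main

variable {X' : Scheme.{u}}

open Groth.Agent.Lib.Helper1.PT Groth.Agent.R2.H28.ProjRq in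
/-- the projection formula for `F = O_{X'}`: `f_* O_{X'} ⊗ E ≅ f_* f^* E` -/
theorem nonempty_push_tensor_iso (f : X' ⟶ X) (E : X.Modules) (hE : FlatMod.IsFinLocFree E) :
    Nonempty (CohB1.tensorMod ((Coh.push f).obj (Coh.structureModule X')) E ≅
      (Coh.push f).obj ((Scheme.Modules.pullback f).obj E)) := by
  let e1 := (projIso f E hE).app (Coh.structureModule X')
  let e2 := (Coh.push f).mapIso
    (Groth.Agent.Lib.Helper23.TensorUnit.unitTensorIso ((Scheme.Modules.pullback f).obj E))
  exact ⟨e1 ≪≫ e2⟩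

/-- **the degree is a birational invariant** -/
theorem deg_pullback_birational (k : Type u) [Field k] [X.Over (Spec (CommRingCat.of k))]
    [X'.Over (Spec (CommRingCat.of k))] [IsProper (X ↘ (Spec (CommRingCat.of k)))]
    [IsProper (X' ↘ (Spec (CommRingCat.of k)))] (hdim : topologicalKrullDim X ≤ 1)
    (f : X' ⟶ X) (hf : f ≫ (X ↘ (Spec (CommRingCat.of k))) = X' ↘ (Spec (CommRingCat.of k)))
    (U : X.Opens) (hU : Dense (U : Set X)) (hU' : Dense ((f ⁻¹ᵁ U : X'.Opens) : Set X'))
    (hfU : IsIso (f ∣_ U)) (n : ℕ) (E : X.Modules) (hE : FlatMod.IsFinLocFreeOfRank n E) :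
    Curv2.deg k X' ((Scheme.Modules.pullback f).obj E) n = Curv2.deg k X E n := by
  haveI : IsLocallyNoetherian X :=
    LocallyOfFiniteType.isLocallyNoetherian (X ↘ Spec (CommRingCat.of k))
  haveI : CompactSpace X :=
    QuasiCompact.compactSpace_of_compactSpace (X ↘ Spec (CommRingCat.of k))
  haveI : IsNoetherian X := {}
  haveI hN : NoetherianSpace X := IsNoetherian.noetherianSpace (X := X)
  haveI : IsProper f := by
    haveI : IsProper (f ≫ (X ↘ Spec (CommRingCat.of k))) := by rw [hf]; infer_instance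
    exact IsProper.of_comp f (X ↘ Spec (CommRingCat.of k))
  haveI hfin : IsFinite f := isFinite_of_isIso_restrict k hdim f hf U hU' hfU
  haveI : f.IsOver (Spec (CommRingCat.of k)) := ⟨hf⟩
  haveI : IsClosedImmersion (f ∣_ U) := inferInstance
  have hEf : FlatMod.IsFinLocFree E := isFinLocFree_of_rank hE
  have hEf' : FlatMod.IsFinLocFree ((Scheme.Modules.pullback f).obj E) :=
    Groth.Agent.Lib.Helper1.Sky.isFinLocFree_pullback f E hEf
  have hqc' : Coh.IsQCoh ((Scheme.Modules.pullback f).obj E) :=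
    Groth.Agent.Helper18Strict.isQCoh_of_isFP _
      (Groth.Agent.Lib.Helper2.LocFree.isFP_of_isFinLocFree _ hEf')
  have hqcO : Coh.IsQCoh (Coh.structureModule X') :=
    Groth.Agent.R2.H5.CohThick.isQuasicoherent_structureModule X'
  set A := (Coh.push f).obj (Coh.structureModule X') with hA
  have hcohA : Coh.IsCoh A :=
    Groth.Agent.S0019.result f _ (Groth.Agent.R2.H5.CohThick.isCoh_structureModule X')
  obtain ⟨ep⟩ := nonempty_push_tensor_iso f E hEf
  -- Euler characteristics on `X'` as Euler characteristics on `X`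
  have e1 : Curv2.euler k X' ((Scheme.Modules.pullback f).obj E) =
      Curv2.euler k X (CohB1.tensorMod E A) := by
    rw [← euler_push' (k := k) f _ hqc', ← euler_congr (k := k) ep]
    exact euler_congr (k := k) (tensorComm A E)
  have e2 : Curv2.euler k X' (Coh.structureModule X') = Curv2.euler k X A :=
    (euler_push' (k := k) f _ hqcO).symm
  have e3 : Curv2.euler k X E = Curv2.euler k X (CohB1.tensorMod E (Coh.structureModule X)) :=
    euler_congr (k := k) (Groth.Agent.Lib.Helper23.TensorUnit.tensorUnitIso E).symm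
  have hT : topologicalKrullDim ((U : Set X)ᶜ : Set X) ≤ 0 :=
    topologicalKrullDim_compl_le_zero hdim U hU
  have key := delta_eq_of_ker_coker (k := k) n E hE
    (Groth.Agent.R2.H5.CohThick.isCoh_structureModule X) hcohA (ClSub.unitToPush f)
    ((U : Set X)ᶜ) hT (support_kernel_subset f U) (support_cokernel_subset f U)
  unfold delta at key
  unfold Curv2.deg
  rw [e1, e2, e3]
  exact key.symm

end Main

end Groth.Agent.R2.H85.DegBir
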