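import Mathlib
import Groth.Agent.R2.H62CohLES
import Groth.Agent.R2.H62CohDelta
import Groth.Agent.Lib.Helper23QCohAbelian
import Groth.Agent.Lib.Helper23FinType

/-!
# Bounding `|h^i(C_0) - h^i(C_1)|` along an exact sequence of coherent modules (helper85)

For a scheme `X` over a field `k` such that all coherent modules have finite-dimensional cohomology
(`hfin`, e.g. `X` proper: `S0002`), and an exact sequence `0 → C_0 → C_1 → C_2 → ⋯` of coherent modules:
`abs_finrank_sub_le`.
-/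

set_option autoImplicit false
set_option linter.style.haveILetI false
universe u
open CategoryTheory CategoryTheory.Limits AlgebraicGeometry

namespace Groth.Agent.R2.H85.ExactBound

open Groth.Agent.R2.H62.CohLES

section LinAlg

variable {k : Type*} [Field k] {U V W : Type*} [AddCommGroup U] [AddCommGroup V] [AddCommGroup W]
  [Module k U] [Module k V] [Module k W]

/-- middle term of an exact sequence: `dim V ≤ dim U + dim W` -/
theorem finrank_le_add_of_exact [Module.Finite k U] [Module.Finite k V] [Module.Finite k W]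
    (f : U →ₗ[k] V) (g : V →ₗ[k] W) (h : Function.Exact f g) :
    (Module.finrank k V : ℤ) ≤ Module.finrank k U + Module.finrank k W := by
  have h1 := LinearMap.finrank_range_add_finrank_ker g
  have h2 : LinearMap.ker g = LinearMap.range f := (LinearMap.exact_iff.1 h)
  have h3 : Module.finrank k (LinearMap.range f) ≤ Module.finrank k U := LinearMap.finrank_range_le f
  have h4 : Module.finrank k (LinearMap.range g) ≤ Module.finrank k W := Submodule.finrank_le _
  rw [h2] at h1
  omega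

theorem finrank_le_of_injective [Module.Finite k V]
    (f : U →ₗ[k] V) (h : Function.Injective f) :
    (Module.finrank k U : ℤ) ≤ Module.finrank k V := by
  exact_mod_cast LinearMap.finrank_le_finrank_of_injective h

end LinAlg

variable (k : Type u) [Field k] {X : Scheme.{u}} [X.Over (Spec (CommRingCat.of k))]

/-- `dim_k H^i(X, F)` as an integer -/
noncomputable abbrev hh (F : X.Modules) (i : ℕ) : ℤ := (Module.finrank k (Coh.HH X F i) : ℤ)

section SES

variable {S : ShortComplex X.Modules} (hS : S.ShortExact)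
  (h₁ : ∀ i, Module.Finite k (Coh.HH X S.X₁ i)) (h₂ : ∀ i, Module.Finite k (Coh.HH X S.X₂ i))
  (h₃ : ∀ i, Module.Finite k (Coh.HH X S.X₃ i))

include hS h₁ h₂ h₃

theorem hh_X₂_le (n : ℕ) : hh k S.X₂ n ≤ hh k S.X₁ n + hh k S.X₃ n := by
  haveI := h₁ n; haveI := h₂ n; haveI := h₃ n
  exact finrank_le_add_of_exact (HHmapA k S.f n) (HHmapA k S.g n) (exact_f_g hS n)

theorem hh_X₁_succ_le (n : ℕ) : hh k S.X₁ (n + 1) ≤ hh k S.X₃ n + hh k S.X₂ (n + 1) := by
  haveI := h₁ (n + 1); haveI := h₂ (n + 1); haveI := h₃ n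
  exact finrank_le_add_of_exact (δA hS k n) (HHmapA k S.f (n + 1)) (exact_δ_f hS n)

omit h₁ h₃ in
theorem hh_X₁_zero_le : hh k S.X₁ 0 ≤ hh k S.X₂ 0 := by
  haveI := h₂ 0
  exact finrank_le_of_injective (HHmapA k S.f 0) (HHmap_f_zero_injective hS)

end SES

section Complex

variable (C : ℕ → X.Modules) (d : ∀ j, C j ⟶ C (j + 1)) (hd : ∀ j, d j ≫ d (j + 1) = 0)

/-- the short complex `ker d_j → C_j → ker d_{j+1}` -/
noncomputable def kerSC (j : ℕ) : ShortComplex X.Modules :=
  ShortComplex.mk (kernel.ι (d j)) (kernel.lift (d (j + 1)) (d j) (hd j)) (by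
    rw [← cancel_mono (kernel.ι (d (j + 1))), Category.assoc, kernel.lift_ι, kernel.condition,
      zero_comp])

/-- the short complex `C_j → C_{j+1} → ker d_{j+2}` -/
noncomputable def firstSC (j : ℕ) : ShortComplex X.Modules :=
  ShortComplex.mk (d j) (kernel.lift (d (j + 2)) (d (j + 1)) (hd (j + 1))) (by
    rw [← cancel_mono (kernel.ι (d (j + 2))), Category.assoc, kernel.lift_ι, hd j, zero_comp])

variable {C d hd}

theorem kerSC_shortExact (j : ℕ) (hex : (ShortComplex.mk (d j) (d (j + 1)) (hd j)).Exact) :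
    (kerSC C d hd j).ShortExact := by
  haveI : Mono (kerSC C d hd j).f := inferInstanceAs (Mono (kernel.ι (d j)))
  haveI : Epi (kerSC C d hd j).g := by
    have := (ShortComplex.exact_iff_epi_kernel_lift _).1 hex
    exact this
  refine ShortComplex.ShortExact.mk ?_
  -- compare with `ker d_j → C_j → C_{j+1}`
  let T : ShortComplex X.Modules := ShortComplex.mk (kernel.ι (d j)) (d j) (kernel.condition _)
  have hT : T.Exact := ShortComplex.exact_of_f_is_kernel _ (kernelIsKernel (d j))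
  let φ : kerSC C d hd j ⟶ T :=
    { τ₁ := 𝟙 _
      τ₂ := 𝟙 _
      τ₃ := kernel.ι (d (j + 1))
      comm₁₂ := by simp [kerSC, T]
      comm₂₃ := by simp [kerSC, T] }
  haveI : Epi φ.τ₁ := inferInstanceAs (Epi (𝟙 _))
  haveI : IsIso φ.τ₂ := inferInstanceAs (IsIso (𝟙 _))
  haveI : Mono φ.τ₃ := inferInstanceAs (Mono (kernel.ι (d (j + 1))))
  exact (ShortComplex.exact_iff_of_epi_of_isIso_of_mono φ).2 hT

theorem firstSC_shortExact (j : ℕ) [Mono (d j)]
    (hex : (ShortComplex.mk (d j) (d (j + 1)) (hd j)).Exact)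
    (hex' : (ShortComplex.mk (d (j + 1)) (d (j + 2)) (hd (j + 1))).Exact) :
    (firstSC C d hd j).ShortExact := by
  haveI : Mono (firstSC C d hd j).f := inferInstanceAs (Mono (d j))
  haveI : Epi (firstSC C d hd j).g := by
    have := (ShortComplex.exact_iff_epi_kernel_lift _).1 hex'
    exact this
  refine ShortComplex.ShortExact.mk ?_
  let φ : firstSC C d hd j ⟶ ShortComplex.mk (d j) (d (j + 1)) (hd j) :=
    { τ₁ := 𝟙 _
      τ₂ := 𝟙 _
      τ₃ := kernel.ι (d (j + 2))
      comm₁₂ := by simp [firstSC]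
      comm₂₃ := by simp [firstSC] }
  haveI : Epi φ.τ₁ := inferInstanceAs (Epi (𝟙 _))
  haveI : IsIso φ.τ₂ := inferInstanceAs (IsIso (𝟙 _))
  haveI : Mono φ.τ₃ := inferInstanceAs (Mono (kernel.ι (d (j + 2))))
  exact (ShortComplex.exact_iff_of_epi_of_isIso_of_mono φ).2 hex

end Complex

section Main

variable [IsLocallyNoetherian X]

omit [X.Over (Spec (CommRingCat.of k))] in
theorem isCoh_kernel {M N : X.Modules} (hM : Coh.IsCoh M) (hN : Coh.IsCoh N) (φ : M ⟶ N) :
    Coh.IsCoh (kernel φ) := by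
  haveI := hM.1
  haveI := hN.1
  haveI := hM.2
  haveI : (kernel φ).IsQuasicoherent :=
    Groth.Agent.Lib.Helper23.QCohLocal.isQuasicoherent_kernel φ
  exact ⟨inferInstance, Groth.Agent.Lib.Helper23.FinType.isFiniteType_of_mono (kernel.ι φ)⟩

variable (hfin : ∀ F : X.Modules, Coh.IsCoh F → ∀ i, Module.Finite k (Coh.HH X F i))
  (C : ℕ → X.Modules) (hC : ∀ j, Coh.IsCoh (C j)) (d : ∀ j, C j ⟶ C (j + 1))
  (hd : ∀ j, d j ≫ d (j + 1) = 0)
  (hex : ∀ j, (ShortComplex.mk (d j) (d (j + 1)) (hd j)).Exact)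

include hfin hC hex

/-- `h^m(ker d_j) ≤ Σ_{l ≤ m} h^{m-l}(C_{j+l})` -/
theorem hh_kernel_le (m : ℕ) : ∀ j, hh k (kernel (d j)) m ≤
    ∑ l ∈ Finset.range (m + 1), hh k (C (j + l)) (m - l) := by
  have hK : ∀ j i, Module.Finite k (Coh.HH X (kernel (d j)) i) := fun j i =>
    hfin _ (isCoh_kernel (hC j) (hC (j + 1)) (d j)) i
  have hSj : ∀ j, (kerSC C d hd j).ShortExact := fun j => kerSC_shortExact (hd := hd) j (hex j)
  have f₁ : ∀ j i, Module.Finite k (Coh.HH X (kerSC C d hd j).X₁ i) := fun j i => hK j i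
  have f₂ : ∀ j i, Module.Finite k (Coh.HH X (kerSC C d hd j).X₂ i) := fun j i => hfin (C j) (hC j) i
  have f₃ : ∀ j i, Module.Finite k (Coh.HH X (kerSC C d hd j).X₃ i) := fun j i => hK (j + 1) i
  induction m with
  | zero =>
    intro j
    have h := hh_X₁_zero_le k (hSj j) (f₂ j)
    change hh k (kernel (d j)) 0 ≤ hh k (C j) 0 at h
    simpa using h
  | succ m ih =>
    intro j
    have h4 := hh_X₁_succ_le k (hSj j) (f₁ j) (f₂ j) (f₃ j) m
    change hh k (kernel (d j)) (m + 1) ≤ hh k (kernel (d (j + 1))) m + hh k (C j) (m + 1) at h4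
    have h2 := ih (j + 1)
    rw [Finset.sum_range_succ']
    have h3 : ∑ l ∈ Finset.range (m + 1), hh k (C (j + 1 + l)) (m - l) =
        ∑ l ∈ Finset.range (m + 1), hh k (C (j + (l + 1))) (m + 1 - (l + 1)) := by
      refine Finset.sum_congr rfl (fun l _ => ?_)
      rw [show j + 1 + l = j + (l + 1) by omega, show m + 1 - (l + 1) = m - l by omega]
    rw [h3] at h2
    simp only [Nat.add_zero, Nat.sub_zero]
    exact h4.trans (by linarith)

omit [X.Over (Spec (CommRingCat.of k))] [IsLocallyNoetherian X] hfin hC hex in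
theorem abs_sub_le_aux (a b z z' s s' : ℤ) (hb : b ≤ a + z) (ha : a ≤ z' + b) (hz : z ≤ s)
    (hz' : z' ≤ s') (h0 : 0 ≤ z) (h0' : 0 ≤ z') : |a - b| ≤ s + s' := by
  rw [abs_le]
  constructor <;> linarith

/-- **the bound** -/
theorem abs_finrank_sub_le [Mono (d 0)] (i : ℕ) :
    |hh k (C 0) i - hh k (C 1) i| ≤
      (Finset.Icc 1 (i + 1)).sum (fun j => hh k (C (j + 1)) (i + 1 - j)) +
        (Finset.Icc 1 i).sum (fun j => hh k (C (j + 1)) (i - j)) := by
  have hK : ∀ j i, Module.Finite k (Coh.HH X (kernel (d j)) i) := fun j i =>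
    hfin _ (isCoh_kernel (hC j) (hC (j + 1)) (d j)) i
  have hS := firstSC_shortExact (hd := hd) 0 (hex 0) (hex 1)
  have f₁ : ∀ i, Module.Finite k (Coh.HH X (firstSC C d hd 0).X₁ i) := fun i => hfin (C 0) (hC 0) i
  have f₂ : ∀ i, Module.Finite k (Coh.HH X (firstSC C d hd 0).X₂ i) := fun i => hfin (C 1) (hC 1) i
  have f₃ : ∀ i, Module.Finite k (Coh.HH X (firstSC C d hd 0).X₃ i) := fun i => hK 2 i
  -- the bound for the cohomology of `ker d_2`
  have hz : ∀ m, hh k (kernel (d 2)) m ≤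
      (Finset.Icc 1 (m + 1)).sum (fun j => hh k (C (j + 1)) (m + 1 - j)) := by
    intro m
    refine (hh_kernel_le k hfin C hC d hd hex m 2).trans (le_of_eq ?_)
    rw [← Finset.Ico_add_one_right_eq_Icc, Finset.sum_Ico_eq_sum_range]
    refine Finset.sum_congr (by congr 1) (fun l _ => ?_)
    rw [show 1 + l + 1 = 2 + l by omega, show m + 1 - (1 + l) = m - l by omega]
  have hb : hh k (C 1) i ≤ hh k (C 0) i + hh k (kernel (d 2)) i := hh_X₂_le k hS f₁ f₂ f₃ i
  have hnn : ∀ (F : X.Modules) (m : ℕ), 0 ≤ hh k F m := fun F m => Int.natCast_nonneg _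
  cases i with
  | zero =>
    have ha : hh k (C 0) 0 ≤ 0 + hh k (C 1) 0 := by
      have := hh_X₁_zero_le k hS f₂
      change hh k (C 0) 0 ≤ hh k (C 1) 0 at this
      linarith
    have h0 : (Finset.Icc 1 0).sum (fun j => hh k (C (j + 1)) (0 - j)) = 0 := by
      rw [Finset.Icc_eq_empty (by omega)]; rfl
    rw [h0]
    exact abs_sub_le_aux _ _ _ 0 _ 0 hb ha (hz 0) le_rfl (hnn _ _) le_rfl
  | succ i =>
    have ha : hh k (C 0) (i + 1) ≤ hh k (kernel (d 2)) i + hh k (C 1) (i + 1) :=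
      hh_X₁_succ_le k hS f₁ f₂ f₃ i
    exact abs_sub_le_aux _ _ _ _ _ _ hb ha (hz (i + 1)) (hz i) (hnn _ _) (hnn _ _)

end Main

end Groth.Agent.R2.H85.ExactBound
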