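import Groth.Prelude.Def_AlgGrp
import Groth.Agent.Lib.Helper12GeomConn
import Mathlib

/-!
# Etale equivariant morphisms reflect fixed points (helper85)

* `eq_of_forall_fromSpecResidueField_comp_eq`: two morphisms into the source of a morphism with open
  diagonal which agree after composing with it and on all residue field points are equal.
* `geometricallyConnected_of_grpObj`: a group scheme with connected fibres is geometrically connected.
* `locallyQuasiFinite_of_etale'`.
* `act_eq_of_etale`: the main statement.
-/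

set_option autoImplicit false
set_option backward.isDefEq.respectTransparency false
universe u
open CategoryTheory MonoidalCategory CartesianMonoidalCategory MonObj GrpObj AlgebraicGeometry Limits

namespace Groth.Agent.R2.H85.FixedPt

theorem locallyQuasiFinite_of_etale' {X S : Scheme.{u}} (f : X ⟶ S) [Etale f] :
    LocallyQuasiFinite f := by
  constructor
  intro U hU V hV e
  have h1 := f.etale_appLE hU hV e
  algebraize [(f.appLE U V e).hom]
  have : Algebra.Etale Γ(S, U) Γ(X, V) := h1
  exact RingHom.quasiFinite_algebraMap.mpr inferInstance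

/-- Two morphisms `x₁ x₂ : T ⟶ X` with `x₁ ≫ f = x₂ ≫ f` which agree on all residue field points
are equal, when the diagonal of `f` is an open immersion. -/
theorem eq_of_forall_fromSpecResidueField_comp_eq {X Y T : Scheme.{u}} (f : X ⟶ Y)
    [IsOpenImmersion (pullback.diagonal f)] (x₁ x₂ : T ⟶ X) (h : x₁ ≫ f = x₂ ≫ f)
    (hpt : ∀ τ : T, T.fromSpecResidueField τ ≫ x₁ = T.fromSpecResidueField τ ≫ x₂) :
    x₁ = x₂ := by
  let u : T ⟶ pullback f f := pullback.lift x₁ x₂ h
  have hrange : Set.range u ⊆ Set.range (pullback.diagonal f) := by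
    rintro _ ⟨τ, rfl⟩
    let v := T.fromSpecResidueField τ ≫ x₁
    have hv : T.fromSpecResidueField τ ≫ u = v ≫ pullback.diagonal f := by
      apply pullback.hom_ext
      · simp [u, v]
      · simp [u, v, hpt τ]
    have hτ : T.fromSpecResidueField τ default = τ := by
      have := T.range_fromSpecResidueField τ
      have h' : T.fromSpecResidueField τ default ∈ Set.range (T.fromSpecResidueField τ) :=
        ⟨default, rfl⟩
      rw [this] at h'
      exact h'
    refine ⟨v default, ?_⟩
    rw [← Scheme.Hom.comp_apply, ← hv, Scheme.Hom.comp_apply, hτ]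
  have hu : IsOpenImmersion.lift (pullback.diagonal f) u hrange ≫ pullback.diagonal f = u :=
    IsOpenImmersion.lift_fac _ _ _
  have h1 : x₁ = u ≫ pullback.fst f f := by simp [u]
  have h2 : x₂ = u ≫ pullback.snd f f := by simp [u]
  have h3 : u ≫ pullback.fst f f = IsOpenImmersion.lift (pullback.diagonal f) u hrange := by
    conv_lhs => rw [← hu]
    rw [Category.assoc, pullback.diagonal_fst, Category.comp_id]
  have h4 : u ≫ pullback.snd f f = IsOpenImmersion.lift (pullback.diagonal f) u hrange := by
    conv_lhs => rw [← hu]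
    rw [Category.assoc, pullback.diagonal_snd, Category.comp_id]
  rw [h1, h2, h3, h4]

/-- A group scheme with connected fibres is geometrically connected. -/
theorem geometricallyConnected_of_grpObj {S : Scheme.{u}} (G : Over S) [GrpObj G]
    (hconn : ∀ s : S, ConnectedSpace (G.hom.fiber s)) : GeometricallyConnected G.hom := by
  rw [GeometricallyConnected.iff_geometricallyConnected_fiber]
  intro s
  have := hconn s
  have hη : η[G].left ≫ G.hom = 𝟙 S := Over.w η[G]
  let σ : Spec (S.residueField s) ⟶ G.hom.fiber s :=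
    pullback.lift (S.fromSpecResidueField s ≫ η[G].left) (𝟙 _) (by
      rw [Category.assoc, hη, Category.comp_id, Category.id_comp])
  exact Groth.Agent.Lib.Helper12.GeomConn.geometricallyConnected_of_section
    (k := S.residueField s) (G.hom.fiberToSpecResidueField s) σ
    (pullback.lift_snd _ _ _)

section Main

variable {S : Scheme.{u}} {G X Y : Over S} [GrpObj G]

/-- The field case: a `K`-point of `X` whose image in `Y` is universally fixed is fixed by every
`K`-point of `G`. -/
theorem act_eq_of_field [GeometricallyConnected G.hom]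
    (a : AlgGrp.Action G X) (b : AlgGrp.Action G Y) (f : X ⟶ Y) [Etale f.left]
    (hf : a.act ≫ f = (G ◁ f) ≫ b.act)
    (K : Type u) [Field K] (τ : Spec (.of K) ⟶ S) (x : Over.mk τ ⟶ X) (g : Over.mk τ ⟶ G)
    (hx : ∀ (T' : Over S) (t : T' ⟶ Over.mk τ) (g' : T' ⟶ G),
      lift g' (t ≫ x ≫ f) ≫ b.act = t ≫ x ≫ f) :
    lift g x ≫ a.act = x := by
  -- the base change of `G` to `K`, as an object over `S`
  let GK : Over S := Over.mk (pullback.snd G.hom τ ≫ τ)
  let p₁ : GK ⟶ G := Over.homMk (pullback.fst G.hom τ) (by simp [GK, pullback.condition])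
  let p₂ : GK ⟶ Over.mk τ := Over.homMk (pullback.snd G.hom τ) (by simp [GK])
  have hconn : ConnectedSpace ↥(pullback G.hom τ) :=
    pullback_of_geometrically
      (GeometricallyConnected.geometrically_connectedSpace (f := G.hom)) K τ
  let φ : GK ⟶ X := lift p₁ (p₂ ≫ x) ≫ a.act
  let ψ : GK ⟶ X := p₂ ≫ x
  have hφψ : φ ≫ f = ψ ≫ f := by
    simp only [φ, ψ, Category.assoc, hf]
    rw [lift_whiskerLeft_assoc]
    exact hx GK p₂ p₁
  have hw : φ.left ≫ f.left = ψ.left ≫ f.left := by
    rw [← Over.comp_left, ← Over.comp_left, hφψ]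
  let w : pullback G.hom τ ⟶ pullback f.left f.left := pullback.lift φ.left ψ.left hw
  -- the two `K`-points of `GK`
  have hg : g.left ≫ G.hom = τ := Over.w g
  have hη : η[G].left ≫ G.hom = 𝟙 S := Over.w η[G]
  let gp : Over.mk τ ⟶ GK := Over.homMk (pullback.lift g.left (𝟙 _) (by simp [hg]))
    (by simp only [GK, Over.mk_hom, pullback.lift_snd_assoc]; exact Category.id_comp τ)
  let ep : Over.mk τ ⟶ GK :=
    Over.homMk (pullback.lift (τ ≫ η[G].left) (𝟙 _) (by simp [hη]))
    (by simp only [GK, Over.mk_hom, pullback.lift_snd_assoc]; exact Category.id_comp τ)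
  have hgp₁ : gp ≫ p₁ = g := by ext; simp [gp, p₁]
  have hgp₂ : gp ≫ p₂ = 𝟙 _ := by ext; simp [gp, p₂]
  have hep₁ : ep ≫ p₁ = toUnit _ ≫ η[G] := by ext; simp [ep, p₁]
  have hep₂ : ep ≫ p₂ = 𝟙 _ := by ext; simp [ep, p₂]
  have hgpφ : gp ≫ φ = lift g x ≫ a.act := by
    simp only [φ, ← Category.assoc, comp_lift, hgp₁, hgp₂, Category.id_comp]
  have hgpψ : gp ≫ ψ = x := by
    simp only [ψ, ← Category.assoc, hgp₂, Category.id_comp]
  have hepφ : ep ≫ φ = x := by
    simp only [φ, ← Category.assoc, comp_lift, hep₁, hep₂, Category.id_comp]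
    have : lift (toUnit (Over.mk τ) ≫ η[G]) x = lift (toUnit _) x ≫ (η[G] ▷ X) := by
      rw [lift_whiskerRight]
    rw [this, Category.assoc, a.one_act]
    simp
  have hepψ : ep ≫ ψ = x := by
    simp only [ψ, ← Category.assoc, hep₂, Category.id_comp]
  -- `w` is constant
  let π : pullback f.left f.left ⟶ Y.left := pullback.fst f.left f.left ≫ f.left
  have hπ : LocallyQuasiFinite π := locallyQuasiFinite_of_etale' π
  let y₀ : Y.left := (x ≫ f).left (default : Spec (.of K))
  have hmaps : Set.MapsTo w Set.univ (π ⁻¹' {y₀}) := by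
    intro z _
    change π (w z) = y₀
    rw [← Scheme.Hom.comp_apply]
    have : w ≫ π = p₂.left ≫ (x ≫ f).left := by
      simp only [w, π, pullback.lift_fst_assoc]
      rw [← Over.comp_left, hφψ]
      simp [ψ]
    rw [this, Scheme.Hom.comp_apply]
    exact congrArg _ (Subsingleton.elim (α := Spec (.of K)) _ _)
  have hconst : ∀ z z' : ↥(pullback G.hom τ), w z = w z' := fun z z' =>
    isPreconnected_univ.constant_of_mapsTo (π.isDiscrete_preimage_singleton y₀)
      w.continuous.continuousOn hmaps (Set.mem_univ z) (Set.mem_univ z')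
  -- conclude using the open diagonal
  have hdiag : IsOpenImmersion (pullback.diagonal f.left) := inferInstance
  have hepw : ep.left ≫ w = x.left ≫ pullback.diagonal f.left := by
    apply pullback.hom_ext
    · simp only [w, Category.assoc, pullback.lift_fst, pullback.diagonal_fst, Category.comp_id]
      rw [← Over.comp_left, hepφ]
    · simp only [w, Category.assoc, pullback.lift_snd, pullback.diagonal_snd, Category.comp_id]
      rw [← Over.comp_left, hepψ]
  have hrange : Set.range (gp.left ≫ w) ⊆ Set.range (pullback.diagonal f.left) := by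
    rintro _ ⟨pt, rfl⟩
    refine ⟨x.left pt, ?_⟩
    rw [← Scheme.Hom.comp_apply, ← hepw, Scheme.Hom.comp_apply, Scheme.Hom.comp_apply]
    exact hconst _ _
  have hfac := IsOpenImmersion.lift_fac (pullback.diagonal f.left) (gp.left ≫ w) hrange
  have h1 : (gp ≫ φ).left = IsOpenImmersion.lift (pullback.diagonal f.left) (gp.left ≫ w) hrange := by
    have : (gp ≫ φ).left = (gp.left ≫ w) ≫ pullback.fst f.left f.left := by
      simp only [w, Category.assoc, pullback.lift_fst, Over.comp_left]
    rw [this]
    conv_lhs => rw [← hfac]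
    rw [Category.assoc, pullback.diagonal_fst, Category.comp_id]
  have h2 : (gp ≫ ψ).left = IsOpenImmersion.lift (pullback.diagonal f.left) (gp.left ≫ w) hrange := by
    have : (gp ≫ ψ).left = (gp.left ≫ w) ≫ pullback.snd f.left f.left := by
      simp only [w, Category.assoc, pullback.lift_snd, Over.comp_left]
    rw [this]
    conv_lhs => rw [← hfac]
    rw [Category.assoc, pullback.diagonal_snd, Category.comp_id]
  rw [← hgpφ, ← hgpψ]
  ext
  rw [h1, h2]

/-- An etale equivariant morphism reflects fixed points, for group schemes with connected fibres. -/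
theorem act_eq_of_etale (hconn : ∀ s : S, ConnectedSpace (G.hom.fiber s))
    (a : AlgGrp.Action G X) (b : AlgGrp.Action G Y) (f : X ⟶ Y) [Etale f.left]
    (hf : a.act ≫ f = (G ◁ f) ≫ b.act) (T : Over S) (x : T ⟶ X)
    (hx : ∀ (T' : Over S) (t : T' ⟶ T) (g : T' ⟶ G), lift g (t ≫ x ≫ f) ≫ b.act = t ≫ x ≫ f)
    (g : T ⟶ G) : lift g x ≫ a.act = x := by
  have := geometricallyConnected_of_grpObj G hconn
  have hcomp : (lift g x ≫ a.act) ≫ f = x ≫ f := by
    rw [Category.assoc, hf, lift_whiskerLeft_assoc]
    simpa using hx T (𝟙 T) g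
  have hdiag : IsOpenImmersion (pullback.diagonal f.left) := inferInstance
  ext
  refine eq_of_forall_fromSpecResidueField_comp_eq f.left _ _ ?_ (fun τ => ?_)
  · rw [← Over.comp_left, ← Over.comp_left, hcomp]
  · -- the residue field point at `τ`, as a morphism over `S`
    let iK := T.left.fromSpecResidueField τ
    let iτ : Over.mk (iK ≫ T.hom) ⟶ T := Over.homMk iK rfl
    have key := act_eq_of_field a b f hf (T.left.residueField τ) (iK ≫ T.hom) (iτ ≫ x) (iτ ≫ g)
      (fun T' t g' => by simpa using hx T' (t ≫ iτ) g')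
    have h2 : iτ ≫ (lift g x ≫ a.act) = iτ ≫ x := by
      rw [← Category.assoc, comp_lift]
      exact key
    have h3 := congrArg (fun m => m.left) h2
    simpa [iτ] using h3

end Main

end Groth.Agent.R2.H85.FixedPt
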