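import Groth.Prelude.Def_W4c5qcohlocdualityLoc
import Mathlib.CategoryTheory.Abelian.GrothendieckCategory.EnoughInjectives
import Mathlib.CategoryTheory.Abelian.GrothendieckAxioms.Connected
import Mathlib.CategoryTheory.Limits.Constructions.Filtered
import Mathlib.CategoryTheory.Abelian.Injective.Basic
import Mathlib.CategoryTheory.ObjectProperty.FiniteProducts

/-!
# Closed objects for localizing classes in Grothendieck abelian categories

For an object `M` of a Grothendieck abelian category, choose a short exact sequence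
`0 ⟶ M ⟶ I ⟶ Q ⟶ 0` with `I` injective.  An object `Y` satisfies `Hom(Y, M) = 0` and
`Ext¹(Y, M) = 0` (in the form: every extension of `Y` by `M` splits) if and only if
`Hom(Y, I) ⟶ Hom(Y, Q)` is bijective (`Orth`).  The class of objects all of whose
subobjects are `Orth` (`HOrth`) is a localizing class.
-/

universe w v u

open CategoryTheory CategoryTheory.Limits ZeroObject

namespace Groth.Agent.R2.H85.GabLoc

variable {C : Type u} [Category.{v} C] [Abelian C]

/-- Left orthogonality with respect to a morphism `π : I ⟶ Q`. -/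
def Orth {I Q : C} (π : I ⟶ Q) : ObjectProperty C :=
  fun Y => Function.Bijective (fun g : Y ⟶ I => g ≫ π)

section Orth

variable {I Q : C} (π : I ⟶ Q)

lemma Orth.eq_zero {Y : C} (hY : Orth π Y) (g : Y ⟶ I) (hg : g ≫ π = 0) : g = 0 :=
  hY.1 (by simpa using hg)

lemma Orth.exists_lift {Y : C} (hY : Orth π Y) (h : Y ⟶ Q) : ∃ g : Y ⟶ I, g ≫ π = h :=
  hY.2 h

lemma orth_mk {Y : C} (h₁ : ∀ g : Y ⟶ I, g ≫ π = 0 → g = 0)
    (h₂ : ∀ h : Y ⟶ Q, ∃ g : Y ⟶ I, g ≫ π = h) : Orth π Y := by
  refine ⟨fun g₁ g₂ h => ?_, h₂⟩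
  have : (g₁ - g₂) ≫ π = 0 := by
    simp only [Preadditive.sub_comp]
    exact sub_eq_zero.mpr h
  exact sub_eq_zero.mp (h₁ _ this)

/-- `Orth` is closed under arbitrary colimits. -/
lemma orth_of_isColimit {J : Type*} [Category J] {F : J ⥤ C} {c : Cocone F}
    (hc : IsColimit c) (h : ∀ j, Orth π (F.obj j)) : Orth π c.pt := by
  refine orth_mk π (fun g hg => ?_) (fun t => ?_)
  · refine hc.hom_ext (fun j => ?_)
    rw [comp_zero]
    exact (h j).eq_zero π _ (by rw [Category.assoc, hg, comp_zero])
  · choose s hs using fun j => (h j).exists_lift π (c.ι.app j ≫ t)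
    let c' : Cocone F :=
      { pt := I
        ι :=
          { app := s
            naturality := fun j j' φ => by
              dsimp
              rw [Category.comp_id]
              refine (h j).1 ?_
              dsimp
              rw [Category.assoc, hs, hs, ← Category.assoc, c.w] } }
    refine ⟨hc.desc c', hc.hom_ext (fun j => ?_)⟩
    rw [← Category.assoc, hc.fac]
    exact hs j

/-- `Orth` is closed under extensions when `I` is injective. -/
lemma orth_of_shortExact [Injective I] {T : ShortComplex C} (hT : T.ShortExact)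
    (h₁ : Orth π T.X₁) (h₃ : Orth π T.X₃) : Orth π T.X₂ := by
  have := hT.mono_f
  have := hT.epi_g
  refine orth_mk π (fun g hg => ?_) (fun t => ?_)
  · have h1 : T.f ≫ g = 0 := h₁.eq_zero π _ (by rw [Category.assoc, hg, comp_zero])
    obtain ⟨g₃, hg₃⟩ : ∃ g₃ : T.X₃ ⟶ I, T.g ≫ g₃ = g := ⟨hT.exact.desc g h1, hT.exact.g_desc g h1⟩
    have : g₃ = 0 := h₃.eq_zero π _ (by
      rw [← cancel_epi T.g, ← Category.assoc, hg₃, hg, comp_zero])
    rw [← hg₃, this, comp_zero]
  · obtain ⟨g₁, hg₁⟩ := h₁.exists_lift π (T.f ≫ t)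
    obtain ⟨g', hg'⟩ : ∃ g' : T.X₂ ⟶ I, T.f ≫ g' = g₁ :=
      ⟨Injective.factorThru g₁ T.f, Injective.comp_factorThru g₁ T.f⟩
    have h2 : T.f ≫ (t - g' ≫ π) = 0 := by
      rw [Preadditive.comp_sub, ← Category.assoc, hg', hg₁, sub_self]
    obtain ⟨t₃, ht₃⟩ : ∃ t₃ : T.X₃ ⟶ Q, T.g ≫ t₃ = t - g' ≫ π :=
      ⟨hT.exact.desc _ h2, hT.exact.g_desc _ h2⟩
    obtain ⟨g₃, hg₃⟩ := h₃.exists_lift π t₃
    refine ⟨g' + T.g ≫ g₃, ?_⟩
    rw [Preadditive.add_comp, Category.assoc, hg₃, ht₃]
    abel

/-- If `0 ⟶ X₁ ⟶ X₂ ⟶ X₃ ⟶ 0` is short exact with `X₁` and `X₂` in `Orth`, so is `X₃`. -/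
lemma orth_X₃ {T : ShortComplex C} (hT : T.ShortExact)
    (h₁ : Orth π T.X₁) (h₂ : Orth π T.X₂) : Orth π T.X₃ := by
  have := hT.mono_f
  have := hT.epi_g
  refine orth_mk π (fun g hg => ?_) (fun t => ?_)
  · have : T.g ≫ g = 0 := h₂.eq_zero π _ (by rw [Category.assoc, hg, comp_zero])
    rwa [← cancel_epi T.g, comp_zero]
  · obtain ⟨g', hg'⟩ := h₂.exists_lift π (T.g ≫ t)
    have h1 : T.f ≫ g' = 0 := h₁.eq_zero π _ (by
      rw [Category.assoc, hg', ← Category.assoc, T.zero, zero_comp])
    refine ⟨hT.exact.desc g' h1, ?_⟩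
    rw [← cancel_epi T.g, ← Category.assoc, hT.exact.g_desc, hg']

lemma orth_of_isZero {Y : C} (hY : IsZero Y) : Orth π Y :=
  orth_mk π (fun g _ => hY.eq_of_src _ _) (fun t => ⟨0, hY.eq_of_src _ _⟩)

end Orth

section Closed

variable {S : ShortComplex C} (hS : S.ShortExact)

include hS in
/-- Objects in `Orth S.g` have no nonzero morphisms to `S.X₁`. -/
lemma Orth.hom_eq_zero {Y : C} (hY : Orth S.g Y) (f : Y ⟶ S.X₁) : f = 0 := by
  have := hS.mono_f
  have : f ≫ S.f = 0 := hY.eq_zero S.g _ (by rw [Category.assoc, S.zero, comp_zero])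
  rwa [← cancel_mono S.f, zero_comp]

include hS in
/-- Extensions of objects in `Orth S.g` by `S.X₁` split, when `S.X₂` is injective. -/
lemma Orth.isSplitMono [Injective S.X₂] {Y : C} (hY : Orth S.g Y) {N : C} (a : S.X₁ ⟶ N)
    (p : N ⟶ Y) (hp : a ≫ p = 0) (h : (ShortComplex.mk a p hp).ShortExact) : IsSplitMono a := by
  have := hS.mono_f
  have := hS.epi_g
  have : Mono a := h.mono_f
  have : Epi p := h.epi_g
  -- extend `S.f` along `a`
  obtain ⟨e, he⟩ : ∃ e : N ⟶ S.X₂, a ≫ e = S.f :=
    ⟨Injective.factorThru S.f a, Injective.comp_factorThru S.f a⟩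
  have h1 : a ≫ (e ≫ S.g) = 0 := by rw [← Category.assoc, he, S.zero]
  obtain ⟨t, ht⟩ : ∃ t : Y ⟶ S.X₃, p ≫ t = e ≫ S.g :=
    ⟨h.exact.desc _ h1, h.exact.g_desc _ h1⟩
  obtain ⟨g, hg⟩ := hY.exists_lift S.g t
  have h2 : (e - p ≫ g) ≫ S.g = 0 := by
    rw [Preadditive.sub_comp, Category.assoc, hg, ht, sub_self]
  obtain ⟨r, hr⟩ : ∃ r : N ⟶ S.X₁, r ≫ S.f = e - p ≫ g :=
    ⟨hS.exact.lift _ h2, hS.exact.lift_f _ h2⟩
  refine IsSplitMono.mk' ⟨r, ?_⟩
  rw [← cancel_mono S.f, Category.assoc, hr, Preadditive.comp_sub, he, ← Category.assoc, hp,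
    zero_comp, sub_zero, Category.id_comp]

/-- The pullback of a short exact sequence along a morphism to its third term is short exact. -/
lemma shortExact_pullback {T : ShortComplex C} (hT : T.ShortExact) {Y : C} (t : Y ⟶ T.X₃) :
    (ShortComplex.mk (pullback.lift T.f 0 (by rw [T.zero, zero_comp]) : T.X₁ ⟶ pullback T.g t)
      (pullback.snd T.g t) (by rw [pullback.lift_snd])).ShortExact := by
  have := hT.mono_f
  have := hT.epi_g
  have hm : Mono (pullback.lift T.f 0 (by rw [T.zero, zero_comp]) : T.X₁ ⟶ pullback T.g t) :=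
    mono_of_mono_fac (pullback.lift_fst _ _ _)
  refine ShortComplex.ShortExact.mk' (ShortComplex.exact_of_f_is_kernel _ ?_) hm inferInstance
  refine KernelFork.IsLimit.ofι _ _
    (fun {W} k hk => hT.exact.lift (k ≫ pullback.fst T.g t) (by
      dsimp at hk
      rw [Category.assoc, pullback.condition, ← Category.assoc, hk, zero_comp]))
    (fun {W} k hk => ?_) (fun {W} k hk m hm' => ?_)
  · dsimp
    ext
    · simp only [Category.assoc, pullback.lift_fst, ShortComplex.Exact.lift_f]
    · dsimp at hk
      simp only [Category.assoc, pullback.lift_snd, comp_zero, hk]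
  · dsimp at hm'
    rw [← cancel_mono T.f, hT.exact.lift_f, ← hm', Category.assoc, pullback.lift_fst]

include hS in
/-- Conversely, an object with no morphisms to `S.X₁` all of whose extensions by `S.X₁`
split lies in `Orth S.g`. -/
lemma orth_of_closed {Y : C} (h0 : ∀ f : Y ⟶ S.X₁, f = 0)
    (hsplit : ∀ ⦃N : C⦄ (a : S.X₁ ⟶ N) (p : N ⟶ Y) (hp : a ≫ p = 0),
      (ShortComplex.mk a p hp).ShortExact → IsSplitMono a) : Orth S.g Y := by
  have := hS.mono_f
  have := hS.epi_g
  refine orth_mk S.g (fun g hg => ?_) (fun t => ?_)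
  · have := hS.exact.lift_f g hg
    rw [← this, h0 (hS.exact.lift g hg), zero_comp]
  · have hT := shortExact_pullback hS t
    have hsm := hsplit _ _ _ hT
    obtain ⟨⟨r, hr⟩⟩ := hsm
    have := hT.epi_g
    let σ := ShortComplex.Splitting.ofExactOfRetraction _ hT.exact r hr hT.epi_g
    refine ⟨σ.s ≫ pullback.fst S.g t, ?_⟩
    rw [Category.assoc, pullback.condition, ← Category.assoc]
    have := σ.s_g
    dsimp at this
    rw [this, Category.id_comp]

end Closed

section HOrth

variable {I Q : C} (π : I ⟶ Q)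

/-- The hereditary version of `Orth`: all subobjects are in `Orth π`. -/
def HOrth : ObjectProperty C :=
  fun X => ∀ ⦃X' : C⦄ (j : X' ⟶ X), Mono j → Orth π X'

lemma HOrth.orth {X : C} (h : HOrth π X) : Orth π X := h (𝟙 X) inferInstance

instance : (HOrth π).IsClosedUnderSubobjects where
  prop_of_mono f _ hY _ j _ := hY (j ≫ f) (mono_comp j f)

instance : (HOrth π).ContainsZero where
  exists_zero := ⟨0, isZero_zero C, fun X' j _ =>
    orth_of_isZero π (IsZero.of_mono j (isZero_zero C))⟩

instance : (HOrth π).IsClosedUnderQuotients where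
  prop_of_epi {X Y} q _ hX Y' j hj := by
    -- `X' = X ×_Y Y'` is a subobject of `X` mapping epimorphically onto `Y'`
    have hmono : Mono (pullback.fst q j) := inferInstance
    have hepi : Epi (pullback.snd q j) := inferInstance
    have h2 : Orth π (pullback q j) := hX _ hmono
    have h1 : Orth π (kernel (pullback.snd q j)) :=
      hX (kernel.ι (pullback.snd q j) ≫ pullback.fst q j) (mono_comp _ _)
    have hT : (ShortComplex.mk (kernel.ι (pullback.snd q j)) (pullback.snd q j)
        (kernel.condition _)).ShortExact :=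
      ShortComplex.ShortExact.mk' (ShortComplex.exact_of_f_is_kernel _ (kernelIsKernel _))
        inferInstance hepi
    exact orth_X₃ π hT h1 h2

instance [Injective I] : (HOrth π).IsClosedUnderExtensions where
  prop_X₂_of_shortExact {T} hT h₁ h₃ B j hj := by
    have := hT.mono_f
    have := hT.epi_g
    -- `B₁ = B ∩ X₁`, `B₃ = image (B ⟶ X₃)`
    have hB₁ : Orth π (pullback T.f j) := h₁ (pullback.fst T.f j) inferInstance
    have hB₃ : Orth π (image (j ≫ T.g)) := h₃ (image.ι (j ≫ T.g)) inferInstance
    have hzero : pullback.snd T.f j ≫ factorThruImage (j ≫ T.g) = 0 := by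
      rw [← cancel_mono (image.ι (j ≫ T.g)), Category.assoc, image.fac, zero_comp,
        ← Category.assoc, ← pullback.condition, Category.assoc, T.zero, comp_zero]
    have hT' : (ShortComplex.mk (pullback.snd T.f j) (factorThruImage (j ≫ T.g))
        hzero).ShortExact := by
      refine ShortComplex.ShortExact.mk' (ShortComplex.exact_of_f_is_kernel _ ?_)
        inferInstance inferInstance
      refine KernelFork.IsLimit.ofι _ _
        (fun {W} k hk => pullback.lift (hT.exact.lift (k ≫ j) (by
          dsimp at hk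
          have := congrArg (fun x => x ≫ image.ι (j ≫ T.g)) hk
          simpa using this)) k (by rw [hT.exact.lift_f]))
        (fun {W} k hk => ?_) (fun {W} k hk m hm' => ?_)
      · dsimp
        rw [pullback.lift_snd]
      · dsimp at hm'
        rw [← cancel_mono (pullback.snd T.f j), pullback.lift_snd, hm']
    exact orth_of_shortExact π hT' hB₁ hB₃

instance [Injective I] : (HOrth π).IsSerreClass where

end HOrth

section Coproducts

/-- A Serre class is closed under binary coproducts. -/
lemma isClosedUnderBinaryCoproducts_of_isSerreClass (P : ObjectProperty C) [P.IsSerreClass] :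
    P.IsClosedUnderBinaryCoproducts where
  colimitsOfShape_le := by
    rintro X ⟨p⟩
    have h₁ : P (p.diag.obj ⟨WalkingPair.left⟩) := p.prop_diag_obj _
    have h₂ : P (p.diag.obj ⟨WalkingPair.right⟩) := p.prop_diag_obj _
    have hb : P (p.diag.obj ⟨WalkingPair.left⟩ ⊞ p.diag.obj ⟨WalkingPair.right⟩) :=
      P.prop_biprod h₁ h₂
    let hc := (IsColimit.precomposeHomEquiv (diagramIsoPair p.diag) _).symm
        (BinaryBiproduct.isColimit (p.diag.obj ⟨WalkingPair.left⟩)
          (p.diag.obj ⟨WalkingPair.right⟩))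
    exact P.prop_of_iso (hc.coconePointUniqueUpToIso p.isColimit) hb

/-- A Serre class is closed under finite coproducts. -/
lemma isClosedUnderFiniteCoproducts_of_isSerreClass (P : ObjectProperty C) [P.IsSerreClass] :
    P.IsClosedUnderFiniteCoproducts := by
  have := isClosedUnderBinaryCoproducts_of_isSerreClass P
  exact ObjectProperty.IsClosedUnderFiniteCoproducts.mk'

attribute [local instance] IsFiltered.isConnected

variable [IsGrothendieckAbelian.{w} C] {I Q : C} (π : I ⟶ Q) [Injective I]

open CoproductsFromFiniteFiltered in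
/-- The hereditary orthogonal class is closed under coproducts. -/
theorem hOrth_isClosedUnderCoproducts (J : Type w) :
    (HOrth π).IsClosedUnderColimitsOfShape (Discrete J) where
  colimitsOfShape_le := by
    rintro X ⟨p⟩ B j hj
    have hfin := isClosedUnderFiniteCoproducts_of_isSerreClass (HOrth π)
    let F := p.diag
    let e : X ≅ colimit (liftToFinsetObj F) :=
      p.isColimit.coconePointUniqueUpToIso (liftToFinsetColimitCocone F).isColimit
    let f : B ⟶ (colimit.cocone (liftToFinsetObj F)).pt := j ≫ e.hom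
    have hf : Mono f := mono_comp _ _
    have hcol := (colimit.isColimit (liftToFinsetObj F)).pullbackOfHasExactColimitsOfShape f
    refine orth_of_isColimit π hcol (fun S => ?_)
    -- each value of the pullback functor is a subobject of a finite coproduct
    have hS : HOrth π ((liftToFinsetObj F).obj S) :=
      (HOrth π).prop_coproduct (fun x => p.prop_diag_obj _)
    have hm : Mono ((pullback.fst (colimit.cocone (liftToFinsetObj F)).ι
        ((Functor.const _).map f)).app S) := by
      have : Mono ((Functor.const (Finset (Discrete J))).map f) := by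
        apply NatTrans.mono_of_mono_app
      have : Mono (pullback.fst (colimit.cocone (liftToFinsetObj F)).ι
          ((Functor.const _).map f)) := inferInstance
      infer_instance
    exact hS _ hm

end Coproducts

section Main

variable [IsGrothendieckAbelian.{w} C]

/-- The hereditary orthogonal class of `π : I ⟶ Q` with `I` injective is localizing. -/
theorem hOrth_isLocalizing {I Q : C} (π : I ⟶ Q) [Injective I] :
    _root_.GabLoc.IsLocalizing.{w} (HOrth π) :=
  ⟨inferInstance, hOrth_isClosedUnderCoproducts π⟩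

/-- If `P` is closed under subobjects and `M` is `P`-closed, then `M` is closed for the
localizing closure of `P`. -/
theorem isClosedFor_locClosure (P : ObjectProperty C) [P.IsClosedUnderSubobjects] (M : C)
    (h : _root_.GabLoc.IsClosedFor P M) :
    _root_.GabLoc.IsClosedFor (_root_.GabLoc.locClosure.{w} P) M := by
  have : EnoughInjectives C := IsGrothendieckAbelian.enoughInjectives.{w}
  let i : M ⟶ Injective.under M := Injective.ι M
  let π : Injective.under M ⟶ cokernel i := cokernel.π i
  have hS : (ShortComplex.mk i π (cokernel.condition i)).ShortExact :=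
    ShortComplex.ShortExact.mk' (ShortComplex.exact_of_g_is_cokernel _ (cokernelIsCokernel i))
      inferInstance inferInstance
  have hP : P ≤ HOrth π := fun X hX X' j hj =>
    have hX' : P X' := P.prop_of_mono j hX
    orth_of_closed hS (fun f => h.1 hX' f) (fun N a p hp hse => h.2 a p hp hX' hse)
  have hloc : _root_.GabLoc.locClosure.{w} P ≤ HOrth π :=
    fun X hX => hX _ (hOrth_isLocalizing π) hP
  refine ⟨fun Y hY f => (hloc Y hY).orth.hom_eq_zero hS f,
    fun N Y a p hp hY hse => (hloc Y hY).orth.isSplitMono hS a p hp hse⟩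

end Main

end Groth.Agent.R2.H85.GabLoc
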