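import Mathlib
import Groth.Agent.Lib.Helper26PairHzUnique
import Groth.Agent.Lib.Helper12Flat

/-!
# Flatness of the base of a flat henselization at primes of the zero locus (helper85)
-/

set_option autoImplicit false
universe u

namespace Groth.Agent.R2.H85.HensFlat

open Groth.Agent.Lib.Helper26.PairHz

/-- If `R/J → B/JB` is bijective then every prime of `R` containing `J` is the contraction of a
prime of `B`. -/
theorem exists_prime_comap_eq {R B : Type u} [CommRing R] [CommRing B] (f : R →+* B) (J : Ideal R)
    (hbij : Function.Bijective (Ideal.quotientMap (J.map f) f Ideal.le_comap_map))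
    (p : Ideal R) [p.IsPrime] (hp : J ≤ p) :
    ∃ q : Ideal B, q.IsPrime ∧ q.comap f = p := by
  let e := RingEquiv.ofBijective _ hbij
  have hpbar : (p.map (Ideal.Quotient.mk J)).IsPrime :=
    Ideal.map_isPrime_of_surjective Ideal.Quotient.mk_surjective (by rwa [Ideal.mk_ker])
  let qbar : Ideal (B ⧸ J.map f) := (p.map (Ideal.Quotient.mk J)).comap (e.symm : _ →+* _)
  have hqbar : qbar.IsPrime := Ideal.comap_isPrime _ _
  refine ⟨qbar.comap (Ideal.Quotient.mk (J.map f)), Ideal.comap_isPrime _ _, ?_⟩
  ext x
  simp only [Ideal.mem_comap, qbar]
  have h1 : Ideal.Quotient.mk (J.map f) (f x) = e (Ideal.Quotient.mk J x) := by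
    simp [e]
  rw [h1]
  simp only [RingEquiv.coe_toRingHom, RingEquiv.symm_apply_apply]
  exact Ideal.mem_quotient_iff_mem hp

/-- descent of flatness to the localization at a contracted prime. -/
theorem flat_atPrime_of_comap {A R B : Type u} [CommRing A] [CommRing R] [CommRing B]
    [Algebra A R] [Algebra R B] [Algebra A B] [IsScalarTower A R B] [Module.Flat R B]
    [Module.Flat A B] (p : Ideal R) [p.IsPrime] (q : Ideal B) [q.IsPrime]
    (hq : p = q.comap (algebraMap R B)) : Module.Flat A (Localization.AtPrime p) := by
  have hfl : (algebraMap R B).Flat := by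
    rw [RingHom.flat_algebraMap_iff]; infer_instance
  have h1 := hfl.localRingHom q p hq
  haveI hloc : IsLocalHom (Localization.localRingHom p q (algebraMap R B) hq) :=
    Localization.isLocalHom_localRingHom _ _ _ hq
  algebraize_only [Localization.localRingHom p q (algebraMap R B) hq]
  haveI : Module.Flat (Localization.AtPrime p) (Localization.AtPrime q) := h1
  haveI : IsLocalHom (algebraMap (Localization.AtPrime p) (Localization.AtPrime q)) := hloc
  haveI : Module.FaithfullyFlat (Localization.AtPrime p) (Localization.AtPrime q) :=
    Module.FaithfullyFlat.of_flat_of_isLocalHom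
  haveI : IsScalarTower R (Localization.AtPrime p) (Localization.AtPrime q) :=
    .of_algebraMap_eq fun x ↦ (Localization.localRingHom_to_map _ _ _ hq x).symm
  haveI : IsScalarTower A (Localization.AtPrime p) (Localization.AtPrime q) := by
    refine .of_algebraMap_eq fun x ↦ ?_
    rw [IsScalarTower.algebraMap_apply A B (Localization.AtPrime q),
      IsScalarTower.algebraMap_apply A R B,
      IsScalarTower.algebraMap_apply A R (Localization.AtPrime p),
      ← IsScalarTower.algebraMap_apply R (Localization.AtPrime p) (Localization.AtPrime q),
      ← IsScalarTower.algebraMap_apply R B (Localization.AtPrime q)]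
  haveI : Module.Flat A (Localization.AtPrime q) :=
    Module.Flat.trans A B (Localization.AtPrime q)
  exact Groth.Agent.Lib.Helper12.flat_of_faithfullyFlat_of_flat_comp A (Localization.AtPrime p)
    (Localization.AtPrime q)

/-- If a henselization `B` of `(R, J)` is flat over `A` then `R` is flat over `A` at every prime
containing `J`. -/
theorem flat_atPrime_of_isPairHenselization {A R B : Type u} [CommRing A] [CommRing R]
    [CommRing B] [Algebra A R] [Algebra R B] [Algebra A B] [IsScalarTower A R B]
    (J : Ideal R) (hB : Hens2.IsPairHenselization R J B) [Module.Flat A B]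
    (p : Ideal R) [p.IsPrime] (hp : J ≤ p) : Module.Flat A (Localization.AtPrime p) := by
  haveI : Module.Flat R B := flat_of_isPairHenselization hB
  have hbij := quotientMap_pow_bijective hB 1
  have hbij' : Function.Bijective
      (Ideal.quotientMap (J.map (algebraMap R B)) (algebraMap R B) Ideal.le_comap_map) := by
    have hJ : J ^ 1 = J := pow_one J
    revert hbij
    rw [hJ]
    exact id
  obtain ⟨q, hq, hqp⟩ := exists_prime_comap_eq (algebraMap R B) J hbij' p hp
  exact flat_atPrime_of_comap p q hqp.symm

end Groth.Agent.R2.H85.HensFlat
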