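import Mathlib
import Groth.Prelude.Def_Coh
import Groth.Prelude.Def_CohB1
import Groth.Prelude.Def_ClSub2
import Groth.Prelude.Def_Curv2
import Groth.Agent.R2.H85DefAmple
import Groth.Agent.Lib.Helper10WeilPt
import Groth.Agent.Lib.Helper10RedInd
import Groth.Agent.Lib.Helper23TensorUnit
import Groth.Agent.Lib.Helper20IdealModSec

/-!
# `H^1` of the ideal sheaf of a closed point, and of `E ⊗ G` for `E` globally generated (helper85)

* `epi_toSubscheme` : `O_X ⟶ i_* O_Z` is an epimorphism for the closed subscheme of an ideal sheaf;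
* `exists_appTop_eq_point` : for `B` locally of finite type over an algebraically closed field `k` and
  `p` a closed point, every global function on the reduced point `Z = {p}` is the restriction of a
  global function on `B` (indeed of a constant);
* `subsingleton_HH_one_idealMod_point` : hence `H^1(B, I_p) = 0` when `H^1(B, O_B) = 0`;
* `subsingleton_HH_free_tensor` : `H^p((free ι) ⊗ G) = 0` when `H^p(G) = 0` (Noetherian);
* `subsingleton_HH_one_tensor_of_gg` : on a Noetherian scheme of dimension `≤ 1`, `E` globally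
  generated and `H^1(G) = 0` imply `H^1(E ⊗ G) = 0` (`G` arbitrary).
-/

set_option autoImplicit false
set_option linter.style.haveILetI false
universe u

open CategoryTheory CategoryTheory.Limits AlgebraicGeometry TopologicalSpace Opposite

namespace Groth.Agent.R2.H85.PointIdeal

open Groth.Agent.Lib.Helper23.SecTw Groth.Agent.Lib.Helper23.GenLocus
open Groth.Agent.R2.H62.CohLES Groth.Agent.R2.H85.FreeVanish Groth.Agent.R2.H85.DefAmple

variable {X : Scheme.{u}}

/-- `O_X ⟶ i_* O_Z` is an epimorphism -/
instance epi_toSubscheme (I : X.IdealSheafData) : Epi (ClSub.toSubscheme I) := by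
  apply Groth.Agent.Lib.Helper23.Serre.epi_of_locally_surjective
  intro V t x hx
  obtain ⟨_, ⟨V', hV', rfl⟩, hxV', hle⟩ :=
    X.isBasis_affineOpens.exists_subset_of_mem_open hx V.isOpen
  refine ⟨V', hle, hxV', ?_⟩
  obtain ⟨a, ha⟩ := I.subschemeι.app_surjective V' hV'
    (ofS (I.subschemeι ⁻¹ᵁ V')
      (((Scheme.Modules.pushforward I.subschemeι).obj
        (Coh.structureModule I.subscheme)).presheaf.map (homOfLE hle).op t))
  exact ⟨toS V' a, congrArg (toS (I.subschemeι ⁻¹ᵁ V')) ha⟩


section Point

variable {k : Type u} [Field k] [IsAlgClosed k]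

open Groth.Agent.Lib.Helper10.GaloisOrbit in
/-- every function on a reduced closed subscheme supported at a closed point `p` of a scheme locally
of finite type over an algebraically closed field is the restriction of a global function (a
constant) -/
theorem exists_appTop_eq_of_support (f : X ⟶ Spec (CommRingCat.of k)) [LocallyOfFiniteType f]
    (p : X) (hp : IsClosed ({p} : Set X)) (I : X.IdealSheafData) [IsReduced I.subscheme]
    (hI : (I.support : Set X) = {p}) (s : Γ(I.subscheme, ⊤)) :
    ∃ a : Γ(X, ⊤), I.subschemeι.appTop a = s := by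
  haveI : IsClosedImmersion (X.fromSpecResidueField p) :=
    (isClosed_singleton_iff_isClosedImmersion).1 hp
  have hr : Set.range (X.fromSpecResidueField p) = Set.range I.subschemeι := by
    rw [Scheme.range_fromSpecResidueField, I.range_subschemeι, hI]
  obtain ⟨e, he⟩ := Groth.Agent.Lib.Helper10.RedInd.exists_iso_of_isClosedImmersion
    (X.fromSpecResidueField p) I.subschemeι hr
  obtain ⟨c, hc⟩ := (Groth.Agent.Lib.Helper10.WeilPt.bijective_resHom f p hp).2
    ((Scheme.ΓSpecIso _).hom (e.hom.appTop s))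
  refine ⟨f.appTop ((Scheme.ΓSpecIso _).inv c), ?_⟩
  have hinj : Function.Injective e.hom.appTop := by
    refine Function.LeftInverse.injective (g := e.inv.appTop) (fun x => ?_)
    have h0 : (e.inv ≫ e.hom).appTop x = x := by
      rw [e.inv_hom_id]
      rfl
    simpa only [Scheme.Hom.comp_appTop, CommRingCat.comp_apply] using h0
  have hinj2 : Function.Injective (Scheme.ΓSpecIso (X.residueField p)).hom :=
    ((ConcreteCategory.isIso_iff_bijective (Scheme.ΓSpecIso (X.residueField p)).hom).1
      inferInstance).1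
  apply hinj
  apply hinj2
  rw [← hc]
  have h1 : e.hom.appTop (I.subschemeι.appTop (f.appTop ((Scheme.ΓSpecIso _).inv c))) =
      (Spec.map (resHom k f p)).appTop ((Scheme.ΓSpecIso _).inv c) := by
    rw [map_resHom, ← he]
    simp only [Scheme.Hom.comp_appTop, CommRingCat.comp_apply]
  rw [h1]
  have h2 := congrArg (fun φ => φ.hom ((Scheme.ΓSpecIso (CommRingCat.of k)).inv c))
    (Scheme.ΓSpecIso_naturality (resHom k f p))
  simp only [CommRingCat.comp_apply] at h2
  rw [h2]
  congr 1
  exact congrArg (fun φ => φ.hom c) (Scheme.ΓSpecIso (CommRingCat.of k)).inv_hom_id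

theorem exists_appTop_eq_point (f : X ⟶ Spec (CommRingCat.of k)) [LocallyOfFiniteType f]
    (p : X) (hp : IsClosed ({p} : Set X))
    (s : Γ((Scheme.IdealSheafData.vanishingIdeal (⟨{p}, hp⟩ : Closeds X)).subscheme, ⊤)) :
    ∃ a : Γ(X, ⊤),
      (Scheme.IdealSheafData.vanishingIdeal (⟨{p}, hp⟩ : Closeds X)).subschemeι.appTop a = s := by
  haveI : IsReduced (Scheme.IdealSheafData.vanishingIdeal (⟨{p}, hp⟩ : Closeds X)).subscheme :=
    Groth.Agent.Lib.Helper10.RedInd.isReduced_subscheme_vanishingIdeal _
  exact exists_appTop_eq_of_support f p hp _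
    (Scheme.IdealSheafData.coe_support_vanishingIdeal _) s

end Point

/-- if every global function on the closed subscheme `Z = V(I)` extends to `X` and `H^1(X, O_X) = 0`
then `H^1(X, I) = 0` -/
theorem subsingleton_HH_one_idealMod (I : X.IdealSheafData)
    (hO : Subsingleton (Coh.HH X (Coh.structureModule X) 1))
    (hsurj : ∀ s : Γ(I.subscheme, ⊤), ∃ a : Γ(X, ⊤), I.subschemeι.appTop a = s) :
    Subsingleton (Coh.HH X (ClSub.idealMod I) 1) := by
  let S : ShortComplex X.Modules :=
    ShortComplex.mk (kernel.ι (ClSub.toSubscheme I)) (ClSub.toSubscheme I) (kernel.condition _)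
  have hS : S.ShortExact :=
    { exact := ShortComplex.exact_kernel _
      mono_f := inferInstanceAs (Mono (kernel.ι (ClSub.toSubscheme I)))
      epi_g := inferInstanceAs (Epi (ClSub.toSubscheme I)) }
  haveI : Subsingleton (Coh.HH X S.X₂ (0 + 1)) := hO
  have hδ := δ_surjective hS 0
  have hex := exact_g_δ hS 0
  have hg : Function.Surjective (HHmap S.g 0) := by
    intro y
    obtain ⟨t, ht⟩ : ∃ t : Γ(S.X₃, ⊤), t = Groth.Agent.Lib.Helper27PnSections.hh0Equiv X S.X₃ y :=
      ⟨_, rfl⟩
    obtain ⟨a, ha⟩ := hsurj (ofS (⊤ : I.subscheme.Opens) t)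
    refine ⟨(Groth.Agent.Lib.Helper27PnSections.hh0Equiv X S.X₂).symm (toS ⊤ a), ?_⟩
    apply (Groth.Agent.Lib.Helper27PnSections.hh0Equiv X S.X₃).injective
    have hnat := Sheaf.H.equiv₀_naturality (toAbMap S.g) (hT := Limits.isTerminalTop)
      ((Groth.Agent.Lib.Helper27PnSections.hh0Equiv X S.X₂).symm (toS ⊤ a))
    refine hnat.symm.trans ?_
    have h2 : Groth.Agent.Lib.Helper27PnSections.hh0Equiv X S.X₂
        ((Groth.Agent.Lib.Helper27PnSections.hh0Equiv X S.X₂).symm (toS ⊤ a)) = toS ⊤ a :=
      (Groth.Agent.Lib.Helper27PnSections.hh0Equiv X S.X₂).apply_symm_apply _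
    have h3 : S.g.app ⊤ (toS ⊤ a) = t := congrArg (toS (⊤ : I.subscheme.Opens)) ha
    exact (congrArg (fun z => S.g.app ⊤ z) h2).trans (h3.trans ht)
  refine ⟨fun x y => ?_⟩
  have hz : ∀ z : Coh.HH X S.X₁ (0 + 1), z = 0 := by
    intro z
    obtain ⟨w, rfl⟩ := hδ z
    obtain ⟨v, rfl⟩ := hg w
    exact (hex _).2 ⟨v, rfl⟩
  exact (hz x).trans (hz y).symm

section Point2

variable {k : Type u} [Field k] [IsAlgClosed k]

/-- `H^1(X, I_p) = 0` for a closed point `p` of a scheme locally of finite type over an
algebraically closed field with `H^1(X, O_X) = 0` -/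
theorem subsingleton_HH_one_idealMod_point (f : X ⟶ Spec (CommRingCat.of k)) [LocallyOfFiniteType f]
    (hO : Subsingleton (Coh.HH X (Coh.structureModule X) 1))
    (p : X) (hp : IsClosed ({p} : Set X)) :
    Subsingleton (Coh.HH X
      (ClSub.idealMod (Scheme.IdealSheafData.vanishingIdeal (⟨{p}, hp⟩ : Closeds X))) 1) :=
  subsingleton_HH_one_idealMod _ hO (exists_appTop_eq_point f p hp)

end Point2

/-- `H^p((free ι) ⊗ G) = 0` when `H^p(G) = 0` -/
theorem subsingleton_HH_free_tensor [IsNoetherian X] (ι : Type u) (G : X.Modules) (p : ℕ)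
    (h : Subsingleton (Coh.HH X G p)) :
    Subsingleton (Coh.HH X (CohB1.tensorMod (SheafOfModules.free ι : X.Modules) G) p) := by
  haveI : PreservesColimitsOfSize.{u, u} (DCoh.tensorRightMod G) :=
    Groth.Agent.Lib.Helper21.ModTensor3.tR_preservesColimits X.sheaf G
  have e : (DCoh.tensorRightMod G).obj (∐ fun _ : ι => SheafOfModules.unit X.ringCatSheaf) ≅
      ∐ fun _ : ι => (DCoh.tensorRightMod G).obj (SheafOfModules.unit X.ringCatSheaf) :=
    PreservesCoproduct.iso (DCoh.tensorRightMod G) (fun _ : ι => SheafOfModules.unit X.ringCatSheaf)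
  have h1 : Subsingleton (Coh.HH X
      ((DCoh.tensorRightMod G).obj (SheafOfModules.unit X.ringCatSheaf)) p) :=
    subsingleton_HH_of_iso (Groth.Agent.Lib.Helper23.TensorUnit.unitTensorIso G) p h
  have h2 := subsingleton_HH_sigma ι
    (fun _ : ι => (DCoh.tensorRightMod G).obj (SheafOfModules.unit X.ringCatSheaf)) p (fun _ => h1)
  exact subsingleton_HH_of_iso e p h2

/-- on a Noetherian scheme of dimension `≤ d`: `E` globally generated and `H^d(G) = 0` imply
`H^d(E ⊗ G) = 0` -/
theorem subsingleton_HH_tensor_of_gg [IsNoetherian X] (d : ℕ) (hdim : topologicalKrullDim X ≤ d)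
    (E G : X.Modules) (hgg : Curv2.IsGloballyGenerated E) (h : Subsingleton (Coh.HH X G d)) :
    Subsingleton (Coh.HH X (CohB1.tensorMod E G) d) := by
  haveI : PreservesColimitsOfSize.{u, u} (DCoh.tensorRightMod G) :=
    Groth.Agent.Lib.Helper21.ModTensor3.tR_preservesColimits X.sheaf G
  obtain ⟨ι, q, hq⟩ := hgg
  have hq' : Epi ((DCoh.tensorRightMod G).map q) := by
    haveI := hq
    haveI : PreservesColimitsOfSize.{0, 0} (DCoh.tensorRightMod G) :=
      preservesColimitsOfSize_shrink.{0, u, 0, u} _
    haveI : PreservesColimitsOfShape WalkingSpan (DCoh.tensorRightMod G) :=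
      PreservesColimitsOfSize.preservesColimitsOfShape
    haveI : (DCoh.tensorRightMod G).PreservesEpimorphisms :=
      preservesEpimorphisms_of_preservesColimitsOfShape _
    exact @Functor.map_epi _ _ _ _ (DCoh.tensorRightMod G) _ _ _ q hq
  exact @subsingleton_HH_of_epi X _ d hdim _ _ ((DCoh.tensorRightMod G).map q) hq'
    (subsingleton_HH_free_tensor ι G d h)

end Groth.Agent.R2.H85.PointIdeal
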