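import Mathlib
import Groth.Agent.Lib.Helper16Restr
import Groth.Agent.Lib.Helper16Flasque
import Groth.Agent.Lib.Helper23AffVanish1

/-!
# Cohomology over an open of an open subspace (helper85)

For an open `U` of a space `X`, an open `W` of `U` and an abelian sheaf `F` on `X`:
`H^n(W, F|_U)` computed on `U` agrees with `H^n(img W, F)` computed on `X`
(`nonempty_HE_restr_equiv`).  This generalises `Helper16.Restr.nonempty_HU_equiv` (the case `W = ⊤`).
-/

set_option autoImplicit false
set_option linter.style.haveILetI false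
universe u
open CategoryTheory TopologicalSpace Opposite CategoryTheory.Limits Abelian

namespace Groth.Agent.R2.H85.RestrHE

open Groth.Agent.Lib.Helper16.ClosedEmb

/-- the topology on the opens -/
local notation "JJ" => Opens.grothendieckTopology

variable {X : TopCat.{u}} (U : Opens X) (W : Opens (TopCat.of U))

/-- the generator of `(ℤ_{img W})|_U` over `W` -/
noncomputable def gW : ((CohTop.restrFunctor U).obj (CohCx.freeSheaf (JJ X) (img U W))).obj.obj (op W) :=
  CohFree.gen (JJ X) (img U W)

/-- the comparison map `ℤ_W ⟶ (ℤ_{img W})|_U` -/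
noncomputable def wW : CohCx.freeSheaf (JJ (TopCat.of U)) W ⟶
    (CohTop.restrFunctor U).obj (CohCx.freeSheaf (JJ X) (img U W)) :=
  CohFree.ofSect (JJ (TopCat.of U)) W ((CohTop.restrFunctor U).obj (CohCx.freeSheaf (JJ X) (img U W)))
    (gW U W)

lemma evalGen_wW : CohFree.evalGen (JJ (TopCat.of U)) W
    ((CohTop.restrFunctor U).obj (CohCx.freeSheaf (JJ X) (img U W))) (wW U W) = gW U W :=
  CohFree.evalGen_ofSect _ _ _ _

lemma evalGen_wW_comp (F : CohTop.Ab X) (φ : CohCx.freeSheaf (JJ X) (img U W) ⟶ F) :
    CohFree.evalGen (JJ (TopCat.of U)) W ((CohTop.restrFunctor U).obj F)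
      (wW U W ≫ (CohTop.restrFunctor U).map φ) =
    (show ((CohTop.restrFunctor U).obj F).obj.obj (op W) from
      CohFree.evalGen (JJ X) (img U W) F φ) := by
  have h1 := evalGen_wW U W
  calc CohFree.evalGen (JJ (TopCat.of U)) W ((CohTop.restrFunctor U).obj F)
        (wW U W ≫ (CohTop.restrFunctor U).map φ)
      = ((CohTop.restrFunctor U).map φ).hom.app (op W) (CohFree.evalGen (JJ (TopCat.of U)) W
          ((CohTop.restrFunctor U).obj (CohCx.freeSheaf (JJ X) (img U W))) (wW U W)) := rfl
    _ = ((CohTop.restrFunctor U).map φ).hom.app (op W) (gW U W) := congrArg _ h1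
    _ = _ := rfl

lemma wW_bijective (F : CohTop.Ab X) :
    Function.Bijective (fun φ : CohCx.freeSheaf (JJ X) (img U W) ⟶ F =>
      wW U W ≫ (CohTop.restrFunctor U).map φ) := by
  constructor
  · intro φ φ' h
    have h' : wW U W ≫ (CohTop.restrFunctor U).map φ = wW U W ≫ (CohTop.restrFunctor U).map φ' := h
    have h2 := congrArg (CohFree.evalGen (JJ (TopCat.of U)) W ((CohTop.restrFunctor U).obj F)) h'
    have h3 := (evalGen_wW_comp U W F φ).symm.trans (h2.trans (evalGen_wW_comp U W F φ'))
    exact (CohFree.homEquivSect (JJ X) (img U W) F).injective h3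
  · intro χ
    let s : F.obj.obj (op (img U W)) :=
      CohFree.evalGen (JJ (TopCat.of U)) W ((CohTop.restrFunctor U).obj F) χ
    refine ⟨CohFree.ofSect (JJ X) (img U W) F s, ?_⟩
    apply (CohFree.homEquivSect (JJ (TopCat.of U)) W ((CohTop.restrFunctor U).obj F)).injective
    change CohFree.evalGen (JJ (TopCat.of U)) W ((CohTop.restrFunctor U).obj F)
      (wW U W ≫ (CohTop.restrFunctor U).map (CohFree.ofSect (JJ X) (img U W) F s)) =
      CohFree.evalGen (JJ (TopCat.of U)) W ((CohTop.restrFunctor U).obj F) χ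
    refine (evalGen_wW_comp U W F _).trans ?_
    exact CohFree.evalGen_ofSect (JJ X) (img U W) F s

/-- `H^n(img W, F)` computed on `X` agrees with `H^n(W, F|_U)` computed on `U`. -/
theorem nonempty_HE_restr_equiv (F : CohTop.Ab X) (n : ℕ) :
    Nonempty (Groth.Agent.Lib.Helper23.AffVanish.HE F n (img U W) ≃+
      Groth.Agent.Lib.Helper23.AffVanish.HE (CohTop.restr F U) n W) := by
  haveI := Groth.Agent.Lib.Helper16.Restr.restr_preservesFiniteLimits U
  haveI := Groth.Agent.Lib.Helper16.Restr.restr_preservesFiniteColimits U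
  have hb := Groth.Agent.Lib.Helper16.ExtCompare.cmp_bijective.{u, u} (CohTop.restrFunctor U) (wW U W)
    (wW_bijective U W) (fun I _ m => by
      haveI := Groth.Agent.Lib.Helper16.Flasque.injective_isFlasque I
      exact Groth.Agent.Lib.Helper16.Flasque.HU_subsingleton ((CohTop.restrFunctor U).obj I) W m) n F
  exact ⟨AddEquiv.ofBijective _ hb⟩

end Groth.Agent.R2.H85.RestrHE
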