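import Mathlib
import Groth.Agent.R2.H85RestrHE
import Groth.Agent.Lib.Helper23FLoc4
import Groth.Agent.Lib.Helper23PushAcyclic
import Groth.Agent.Lib.Helper23AffOpen2

/-!
# Vanishing of higher direct images from vanishing over an affine cover of the base (helper85)

`isZero_RpushAb_of_affine_cover`: for `π : Y ⟶ Z`, a quasi-coherent `L` on `Y` and a family of affine opens
`V i` covering `Z` such that every `π⁻¹(V i)` is quasi-compact, quasi-separated with affine intersections of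
affines, and `H^q(π⁻¹(V i), L) = 0` for all `q > 0`: then `R^q π_* L = 0` for all `q > 0`.
(Uses localisation of cohomology `H^q(X_f, L) = H^q(X, L)_f` to pass to the basis of the `D(h) ⊆ V i`.)
-/

set_option autoImplicit false
set_option linter.style.haveILetI false
universe u
open CategoryTheory CategoryTheory.Limits AlgebraicGeometry TopologicalSpace Opposite

namespace Groth.Agent.R2.H85.RpushVanish

open Groth.Agent.Lib.Helper23.AffVanish Groth.Agent.Lib.Helper23.FLocSch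
open Groth.Agent.Lib.Helper16.ClosedEmb

variable {Y : Scheme.{u}} (L : Y.Modules)

/-- vanishing of `H^q` over a basic open of an open subscheme, computed on the ambient scheme -/
theorem subsingleton_HE_of_basicOpen (U : Y.Opens) [CompactSpace (U : Scheme.{u})] [QuasiSeparatedSpace (U : Scheme.{u})]
    (hd : ∀ A B : (U : Scheme.{u}).Opens, IsAffineOpen A → IsAffineOpen B → IsAffineOpen (A ⊓ B))
    [L.IsQuasicoherent] (q : ℕ)
    (hvan : Subsingleton (Coh.HH (U : Scheme.{u}) (L.restrict U.ι) q))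
    (f : Γ((U : Scheme.{u}), ⊤)) (O : Y.Opens) (hO : O = U.ι ''ᵁ ((U : Scheme.{u}).basicOpen f)) :
    Subsingleton (HE (ab' L) q O) := by
  subst hO
  haveI : (L.restrict U.ι).IsQuasicoherent := Scheme.Modules.isQuasicoherent_restrictFunctor U.ι L
  have h1 : Subsingleton (Coh.HHon (U : Scheme.{u}) (L.restrict U.ι) ((U : Scheme.{u}).basicOpen f) q) :=
    subsingleton_HHon_of_torsion (L.restrict U.ι) f hd q
      (fun ζ => ⟨0, Subsingleton.elim _ _⟩)
  obtain ⟨e2⟩ := Groth.Agent.Lib.Helper16.Restr.nonempty_HU_equiv (X := (U : Scheme.{u}).carrier)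
    ((U : Scheme.{u}).basicOpen f) (Coh.toAb (L.restrict U.ι)) q
  have e2' : HE (ab' (L.restrict U.ι)) q ((U : Scheme.{u}).basicOpen f) ≃+
      Coh.HHon (U : Scheme.{u}) (L.restrict U.ι) ((U : Scheme.{u}).basicOpen f) q := e2
  haveI : Subsingleton (HE (ab' (L.restrict U.ι)) q ((U : Scheme.{u}).basicOpen f)) :=
    e2'.toEquiv.subsingleton
  obtain ⟨e3⟩ := Groth.Agent.R2.H85.RestrHE.nonempty_HE_restr_equiv (X := Y.carrier) U
    ((U : Scheme.{u}).basicOpen f) (ab' L) q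
  have e3' : HE (ab' L) q (U.ι ''ᵁ ((U : Scheme.{u}).basicOpen f)) ≃+
      HE (ab' (L.restrict U.ι)) q ((U : Scheme.{u}).basicOpen f) := e3
  exact e3'.toEquiv.subsingleton

/-- the opens of the target of the form `D(h)`, `h` a function on a member of the given family -/
def basicFamily {Z : Scheme.{u}} {ι : Type*} (V : ι → Z.Opens) : Set Z.Opens :=
  {D | ∃ (i : ι) (h : Γ(Z, V i)), D = Z.basicOpen h}

theorem isBasis_basicFamily {Z : Scheme.{u}} {ι : Type*} (V : ι → Z.Opens)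
    (hV : ∀ i, IsAffineOpen (V i)) (hcov : ∀ z : Z, ∃ i, z ∈ V i) :
    Opens.IsBasis (basicFamily V) := by
  rw [Opens.isBasis_iff_nbhd]
  intro O z hz
  obtain ⟨i, hi⟩ := hcov z
  obtain ⟨h, h1, h2⟩ := (hV i).exists_basicOpen_le (V := O) ⟨z, hz⟩ hi
  exact ⟨Z.basicOpen h, ⟨i, h, rfl⟩, h2, h1⟩

theorem isZero_RpushAb_of_affine_cover {Z : Scheme.{u}} (π : Y ⟶ Z) [L.IsQuasicoherent]
    {ι : Type*} (V : ι → Z.Opens) (hV : ∀ i, IsAffineOpen (V i)) (hcov : ∀ z : Z, ∃ i, z ∈ V i)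
    (hc : ∀ i, CompactSpace ((π ⁻¹ᵁ V i : Y.Opens) : Scheme.{u}))
    (hqs : ∀ i, QuasiSeparatedSpace ((π ⁻¹ᵁ V i : Y.Opens) : Scheme.{u}))
    (hd : ∀ i, ∀ A B : ((π ⁻¹ᵁ V i : Y.Opens) : Scheme.{u}).Opens,
      IsAffineOpen A → IsAffineOpen B → IsAffineOpen (A ⊓ B))
    (hvan : ∀ i q, 0 < q →
      Subsingleton (Coh.HH ((π ⁻¹ᵁ V i : Y.Opens) : Scheme.{u}) (L.restrict (π ⁻¹ᵁ V i).ι) q))
    (q : ℕ) (hq : 0 < q) : IsZero ((Coh.RpushAb π q).obj (Coh.toAb L)) := by
  obtain ⟨n, rfl⟩ := Nat.exists_eq_succ_of_ne_zero hq.ne'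
  refine isZero_Rpush_of_basis π.base (basicFamily V) (isBasis_basicFamily V hV hcov) (ab' L) ?_ n
  rintro D ⟨i, h, rfl⟩ k
  haveI := hc i
  haveI := hqs i
  set U : Y.Opens := π ⁻¹ᵁ V i with hU
  let f : Γ((U : Scheme.{u}), ⊤) := (U.ι.appLE U ⊤ (by simp)) (π.app (V i) h)
  refine subsingleton_HE_of_basicOpen L U (hd i) (k + 1) (hvan i (k + 1) (Nat.succ_pos k)) f _ ?_
  change π ⁻¹ᵁ Z.basicOpen h = _
  rw [Scheme.basicOpen_appLE, top_inf_eq, Scheme.Hom.image_preimage_eq_opensRange_inf,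
    Scheme.Opens.opensRange_ι, Scheme.preimage_basicOpen]
  exact (inf_eq_right.2 (Y.basicOpen_le _)).symm

end Groth.Agent.R2.H85.RpushVanish
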