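import Mathlib
import Groth.Prelude.Def_Twist2
import Groth.Agent.R2.H62ECoreSpec
import Groth.Agent.R2.H87ProjSpaceOver
import Groth.Agent.R2.H85PushFin
import Groth.Agent.R2.H85RpushVanish
import Groth.Agent.R2.H35PullTriv
import Groth.Agent.R2.H79TwistCalc
import Groth.Agent.S9705
import Groth.Agent.Lib.Helper23PB
import Groth.Agent.Lib.Helper23QCohLocal
import Groth.Agent.Lib.Helper23FinTypeLocal
import Groth.Agent.Lib.Helper23SecTw3

/-!
# Relative Serre vanishing and coherence of direct images for projective morphisms (helper85; coh-core E4+E5)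

`relSerre_of`: helper62's `RelSerre` (for `π : Y ⟶ Z` factoring through a closed immersion into `P^n_Z`, `Z`
Noetherian, there is an invertible `L` on `Y` with `π_* L` coherent and `R^q π_* L = 0` for `q > 0`), from the
two absolute inputs over Noetherian rings `A`:

* `ProjFinite A` (helper62's E3): finiteness of coherent cohomology of closed subschemes of `P^n_A`;
* `ProjVanish A` (below): Serre vanishing `H^q(Y, O_Y(m)) = 0`, `q > 0`, `m ≫ 0`, for closed subschemes
  `Y` of `P^n_A`.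

Here `L = j^* O(m)` for `m ≫ 0`.  The globalisation uses: localisation of cohomology (`H85RpushVanish`),
sections of direct images (`H85PushFin`), and the compatibility of `O(m)` with restriction to `π⁻¹V`.
-/

set_option autoImplicit false
set_option backward.isDefEq.respectTransparency false
set_option linter.style.haveILetI false
universe u
open CategoryTheory CategoryTheory.Limits AlgebraicGeometry

namespace Groth.Agent.R2.H85.RelSerre

open Groth.Agent.R2.H87 Groth.Agent.R2.H62.ECore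

/-- **Serre vanishing for closed subschemes of `P^n_A`** (`A` Noetherian): `H^q(Y, j^* O(m)) = 0` for all
`q > 0` and all `m ≫ 0`. -/
def ProjVanish (A : Type u) [CommRing A] : Prop :=
  ∀ (n : ℕ) (Y : Scheme.{u}) (j : Y ⟶ CohB1.ProjSpaceOver n (Spec (CommRingCat.of A)))
    [IsClosedImmersion j],
    ∃ m₀ : ℤ, ∀ m : ℤ, m₀ ≤ m → ∀ q : ℕ, 0 < q →
      Subsingleton (Coh.HH Y
        ((Scheme.Modules.pullback j).obj (Twist.twistOver n (Spec (CommRingCat.of A)) m)) q)

variable {Z Y : Scheme.{u}} (π : Y ⟶ Z) (n : ℕ) (j : Y ⟶ CohB1.ProjSpaceOver n Z)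

/-- the localized embedding `π⁻¹V ⟶ P^n_{Spec Γ(Z,V)}` -/
noncomputable def jLoc {V : Z.Opens} (hV : IsAffineOpen V) :
    ((π ⁻¹ᵁ V : Y.Opens) : Scheme.{u}) ⟶ CohB1.ProjSpaceOver n (Spec Γ(Z, V)) :=
  ProjSpaceOver.lift n ((π ⁻¹ᵁ V).ι ≫ j ≫ ProjSpaceOver.toZ n Z) ((π ∣_ V) ≫ hV.isoSpec.hom)

@[reassoc (attr := simp)]
theorem jLoc_toBase {V : Z.Opens} (hV : IsAffineOpen V) :
    jLoc π n j hV ≫ CohB1.ProjSpaceOver.toBase n (Spec Γ(Z, V)) = (π ∣_ V) ≫ hV.isoSpec.hom :=
  ProjSpaceOver.lift_toBase _ _ _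

@[reassoc (attr := simp)]
theorem jLoc_toZ {V : Z.Opens} (hV : IsAffineOpen V) :
    jLoc π n j hV ≫ ProjSpaceOver.toZ n (Spec Γ(Z, V)) = (π ⁻¹ᵁ V).ι ≫ j ≫ ProjSpaceOver.toZ n Z :=
  ProjSpaceOver.lift_toZ _ _ _

variable {π n j}

theorem jLoc_map (hj : j ≫ CohB1.ProjSpaceOver.toBase n Z = π) {V : Z.Opens} (hV : IsAffineOpen V) :
    jLoc π n j hV ≫ ProjSpaceOver.map n hV.fromSpec = (π ⁻¹ᵁ V).ι ≫ j := by
  apply ProjSpaceOver.hom_ext
  · simp
  · simp only [Category.assoc, ProjSpaceOver.map_toBase, jLoc_toBase_assoc, hj,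
      IsAffineOpen.isoSpec_hom_fromSpec, morphismRestrict_ι]

theorem isPullback_jLoc (hj : j ≫ CohB1.ProjSpaceOver.toBase n Z = π) {V : Z.Opens}
    (hV : IsAffineOpen V) :
    IsPullback (jLoc π n j hV) (π ⁻¹ᵁ V).ι (ProjSpaceOver.map n hV.fromSpec) j := by
  refine IsPullback.of_right ?_ (jLoc_map hj hV) (ProjSpaceOver.isPullback_map n hV.fromSpec).flip
  rw [jLoc_toBase, hj]
  have h1 := isPullback_morphismRestrict π V
  have h2 : IsPullback hV.isoSpec.hom V.ι hV.fromSpec (𝟙 Z) :=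
    IsPullback.of_horiz_isIso ⟨by simp⟩
  have := h1.paste_horiz h2
  rwa [Category.comp_id] at this

theorem isClosedImmersion_jLoc [IsClosedImmersion j]
    (hj : j ≫ CohB1.ProjSpaceOver.toBase n Z = π) {V : Z.Opens} (hV : IsAffineOpen V) :
    IsClosedImmersion (jLoc π n j hV) :=
  MorphismProperty.of_isPullback (P := @IsClosedImmersion) (isPullback_jLoc hj hV).flip inferInstance

variable (π n j)

/-- the restriction of `j^* O(m)` to `π⁻¹V` is the pullback of `O(m)` along the localized embedding -/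
noncomputable def restrictTwistIso (m : ℤ) {V : Z.Opens} (hV : IsAffineOpen V) :
    ((Scheme.Modules.pullback j).obj (Twist.twistOver n Z m)).restrict (π ⁻¹ᵁ V).ι ≅
      (Scheme.Modules.pullback (jLoc π n j hV)).obj (Twist.twistOver n (Spec Γ(Z, V)) m) :=
  (Scheme.Modules.restrictFunctorIsoPullback (π ⁻¹ᵁ V).ι).app _ ≪≫
    (Scheme.Modules.pullback (π ⁻¹ᵁ V).ι).mapIso
      ((Scheme.Modules.pullbackComp j (ProjSpaceOver.toZ n Z)).app _) ≪≫
    (Scheme.Modules.pullbackComp (π ⁻¹ᵁ V).ι (j ≫ ProjSpaceOver.toZ n Z)).app _ ≪≫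
    (Scheme.Modules.pullbackCongr (jLoc_toZ π n j hV).symm).app _ ≪≫
    ((Scheme.Modules.pullbackComp (jLoc π n j hV) (ProjSpaceOver.toZ n (Spec Γ(Z, V)))).app _).symm

/-- `O(m)` on `P^n_S` is invertible -/
theorem isInvertible_twistOver (S : Scheme.{u}) (m : ℤ) : PicF.IsInvertible (Twist.twistOver n S m) :=
  Groth.Agent.Lib.Helper23.PB.isInvertible_pullback _ _
    (Groth.Agent.R2.H79.TwistCalc.isInvertible_twistProjSpace (n := n) (R := ULift.{u} ℤ) m)

/-- invertible modules are coherent (quasi-coherent of finite type) -/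
theorem isCoh_of_isInvertible {X : Scheme.{u}} (L : X.Modules) (hL : PicF.IsInvertible L) :
    Coh.IsCoh L := by
  have hfp := Groth.Agent.Lib.Helper2.LocFree.isFP_of_isFinLocFree _
    (Groth.Agent.Helper18PBUnit.isFinLocFree_of_isInvertible hL)
  exact ⟨Groth.Agent.Helper18Strict.isQCoh_of_isFP _ hfp,
    Groth.Agent.Helper18Strict.isFT_of_isFP _ hfp⟩

variable {π n j}

/-- the pieces `π⁻¹V ⟶ Spec Γ(Z, V)` are proper -/
theorem isProper_toSpecΓV [IsClosedImmersion j]
    (hj : j ≫ CohB1.ProjSpaceOver.toBase n Z = π) {V : Z.Opens} (hV : IsAffineOpen V) :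
    IsProper (PushFin.toSpecΓV π hV) := by
  haveI := isClosedImmersion_jLoc hj hV
  haveI := Groth.Agent.S9705.isProper_toBase n (Spec Γ(Z, V))
  have e : PushFin.toSpecΓV π hV =
      jLoc π n j hV ≫ CohB1.ProjSpaceOver.toBase n (Spec Γ(Z, V)) := (jLoc_toBase π n j hV).symm
  rw [e]
  infer_instance

/-- **E4 + E5** (`RelSerre`) from finiteness and Serre vanishing for closed subschemes of `P^n_A`. -/
theorem relSerre_of
    (hPF : ∀ (A : Type u) [CommRing A] [IsNoetherianRing A], ProjFinite A)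
    (hPV : ∀ (A : Type u) [CommRing A] [IsNoetherianRing A], ProjVanish A) : RelSerre.{u} := by
  intro Z _ Y π n j _ hj
  have hN : ∀ V : Z.Opens, IsAffineOpen V → IsNoetherianRing Γ(Z, V) := fun V hV =>
    IsLocallyNoetherian.component_noetherian ⟨V, hV⟩
  -- `π` is proper
  haveI hπ : IsProper π := by
    haveI := Groth.Agent.S9705.isProper_toBase n Z
    rw [← hj]
    infer_instance
  -- a finite affine cover of `Z`
  obtain ⟨t, ht⟩ : ∃ t : Finset Z.affineOpens, ∀ z : Z, ∃ V ∈ t, z ∈ (V : Z.Opens) := by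
    have hcov : ∀ z : Z, ∃ V : Z.affineOpens, z ∈ (V : Z.Opens) := fun z => by
      obtain ⟨V, hV, hz, -⟩ := exists_isAffineOpen_mem_and_subset (X := Z) (x := z) (U := ⊤) trivial
      exact ⟨⟨V, hV⟩, hz⟩
    choose W hW using hcov
    obtain ⟨s, hs⟩ := CompactSpace.elim_nhds_subcover (fun z => ((W z : Z.Opens) : Set Z))
      (fun z => (W z).1.isOpen.mem_nhds (hW z))
    classical
    refine ⟨s.image W, fun z => ?_⟩
    have hz : z ∈ ⋃ x ∈ s, ((W x : Z.Opens) : Set Z) := by rw [hs]; trivial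
    obtain ⟨x, hx, hzx⟩ := Set.mem_iUnion₂.1 hz
    exact ⟨W x, Finset.mem_image_of_mem W hx, hzx⟩
  -- Serre vanishing on each member of the cover, with a uniform twist
  have hm₀ : ∀ V : Z.affineOpens, ∃ m₀ : ℤ, ∀ m : ℤ, m₀ ≤ m → ∀ q : ℕ, 0 < q →
      Subsingleton (Coh.HH ((π ⁻¹ᵁ (V : Z.Opens) : Y.Opens) : Scheme.{u})
        ((Scheme.Modules.pullback (jLoc π n j V.2)).obj
          (Twist.twistOver n (Spec Γ(Z, (V : Z.Opens))) m)) q) := fun V => by
    haveI := hN V V.2
    haveI := isClosedImmersion_jLoc hj V.2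
    exact hPV Γ(Z, (V : Z.Opens)) n _ (jLoc π n j V.2)
  choose m₀ hm₀ using hm₀
  classical
  obtain ⟨m, hm⟩ := (t.image m₀).exists_le
  let L : Y.Modules := (Scheme.Modules.pullback j).obj (Twist.twistOver n Z m)
  have hLinv : PicF.IsInvertible L :=
    Groth.Agent.Lib.Helper23.PB.isInvertible_pullback _ _ (isInvertible_twistOver n Z m)
  have hLcoh : Coh.IsCoh L := isCoh_of_isInvertible L hLinv
  haveI hLq : L.IsQuasicoherent := hLcoh.1
  haveI hLft : SheafOfModules.IsFiniteType (R := Y.ringCatSheaf) L := hLcoh.2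
  haveI hqc : ((Scheme.Modules.pushforward π).obj L).IsQuasicoherent :=
    Groth.Agent.Lib.Helper23.QCohLocal.isQuasicoherent_pushforward π L
  refine ⟨L, ⟨hLq, hLft⟩, hLinv, ⟨hqc, ?_⟩, ?_⟩
  · -- finite type of the direct image
    rw [Groth.Agent.Lib.Helper23.FinType.isFiniteType_iff_forall_affine]
    intro V hV
    haveI := hN V hV
    haveI := isClosedImmersion_jLoc hj hV
    letI : ((π ⁻¹ᵁ V : Y.Opens) : Scheme.{u}).Over (Spec (CommRingCat.of Γ(Z, V))) :=
      ⟨PushFin.toSpecΓV π hV⟩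
    have hcoh : Coh.IsCoh (L.restrict (π ⁻¹ᵁ V).ι) :=
      ⟨Scheme.Modules.isQuasicoherent_restrictFunctor (π ⁻¹ᵁ V).ι L,
        Groth.Agent.Lib.Helper23.FinType.isFiniteType_restrict (π ⁻¹ᵁ V).ι L⟩
    have hfin := hPF Γ(Z, V) n ((π ⁻¹ᵁ V : Y.Opens) : Scheme.{u}) (jLoc π n j hV)
      (jLoc_toBase π n j hV) (L.restrict (π ⁻¹ᵁ V).ι) hcoh 0
    exact PushFin.finite_Γ_pushforward π L hV hfin
  · -- vanishing of the higher direct images
    intro q hq
    refine RpushVanish.isZero_RpushAb_of_affine_cover L π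
      (fun V : t => ((V : Z.affineOpens) : Z.Opens)) (fun V => V.1.2)
      (fun z => by obtain ⟨V, hV, hz⟩ := ht z; exact ⟨⟨V, hV⟩, hz⟩) ?_ ?_ ?_ ?_ q hq
    · intro V
      haveI := isProper_toSpecΓV hj V.1.2
      exact QuasiCompact.compactSpace_of_compactSpace (PushFin.toSpecΓV π V.1.2)
    · intro V
      haveI := isProper_toSpecΓV hj V.1.2
      exact quasiSeparatedSpace_of_quasiSeparated (PushFin.toSpecΓV π V.1.2)
    · intro V A B hA hB
      haveI := isProper_toSpecΓV hj V.1.2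
      have h : IsAffineHom (pullback.diagonal (PushFin.toSpecΓV π V.1.2)) := inferInstance
      exact isAffineHom_diagonal_iff.mp h ⊤ (isAffineOpen_top _) A (by simp) B (by simp) hA hB
    · intro V q hq
      have h1 := hm₀ V.1 m (hm _ (Finset.mem_image_of_mem m₀ V.2)) q hq
      exact ((Groth.Agent.R2.H35.PullTriv.hhEquiv (restrictTwistIso π n j m V.1.2) q).toEquiv).subsingleton

end Groth.Agent.R2.H85.RelSerre
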