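import Mathlib
import Groth.Agent.R2.H62RelSerreSpec
import Groth.Agent.R2.H85PushFin
import Groth.Agent.Lib.Helper23QCohLocal
import Groth.Agent.Lib.Helper23FinType2

/-!
# STEP D of helper62's `RelSerre` assembly (helper85)

`stepD : Groth.Agent.R2.H62.RelSerreSpec.StepD`: finiteness of `H^0(π⁻¹V_k, L)` over `Γ(Z, V_k)` on an
affine open cover implies coherence of `π_* L` (from `H85PushFin.finite_Γ_pushforward`).
-/

set_option autoImplicit false
set_option backward.isDefEq.respectTransparency false
set_option linter.style.haveILetI false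
universe u
open CategoryTheory CategoryTheory.Limits AlgebraicGeometry

namespace Groth.Agent.R2.H85.StepD

theorem stepD : Groth.Agent.R2.H62.RelSerreSpec.StepD.{u} := by
  intro Y Z π _ _ L _ ι V hV hcov hfin
  haveI hqc : ((Scheme.Modules.pushforward π).obj L).IsQuasicoherent :=
    Groth.Agent.Lib.Helper23.QCohLocal.isQuasicoherent_pushforward π L
  refine ⟨hqc, ?_⟩
  refine Groth.Agent.Lib.Helper23.FinType.isFiniteType_of_finite _ V hcov hV (fun k => ?_)
  exact Groth.Agent.R2.H85.PushFin.finite_Γ_pushforward π L (hV k) (hfin k)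

end Groth.Agent.R2.H85.StepD
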