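import Mathlib
import Groth.Prelude.Def_TorSh
import Groth.Agent.S9806
import Groth.Agent.Lib.Helper23FinPres
import Groth.Agent.Lib.Helper28Catenary
import Groth.Agent.Lib.Helper10CurveFlat
import Groth.Agent.Lib.Helper2RankLoc
import Groth.Agent.Lib.Helper23StalkLin
import Groth.Agent.Lib.Helper18Epi1
import Groth.Agent.R2.H20LocFreeRank

/-!
# Torsion-free coherent modules on regular integral curves are locally free (helper85)

`X` an integral locally Noetherian scheme of dimension `≤ 1` all of whose local rings are regular
(so every local ring is a field or a discrete valuation ring, in particular a principal ideal domain).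

* `isPrincipalIdealRing_stalk` : the local rings are principal ideal rings;
* `isFinLocFree_of_torsionFree` : a coherent module with torsion-free stalks is finite locally free;
* `exists_rank` : a finite locally free module on an integral scheme has constant rank;
* `isTorsionFree_of_isFinLocFreeOfRank`, `isTorsionFree_of_mono`;
* `isZero_of_rank_zero`.
-/

set_option autoImplicit false
set_option linter.style.haveILetI false
universe u

open CategoryTheory CategoryTheory.Limits AlgebraicGeometry TopologicalSpace Opposite

namespace Groth.Agent.R2.H85.TFCurve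

open Groth.Agent.Lib.Helper4.NormDelta Groth.Agent.R2.H20.LocFreeRank

variable {X : Scheme.{u}}

/-- the local rings of a regular integral scheme of dimension `≤ 1` are principal ideal rings -/
theorem isPrincipalIdealRing_stalk [IsIntegral X] [IsLocallyNoetherian X]
    (hdim : topologicalKrullDim X ≤ 1) (x : X) (hreg : IsRegularLocalRing (X.presheaf.stalk x)) :
    IsPrincipalIdealRing (X.presheaf.stalk x) := by
  haveI := hreg
  have hN : IsIntegrallyClosed (X.presheaf.stalk x) :=
    Groth.Agent.Lib.Helper28.isIntegrallyClosed_of_isRegularLocalRing _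
  haveI := Groth.Agent.Lib.Helper10.CurveFlat.isDedekindDomain_stalk X hdim x hN
  refine IsPrincipalIdealRing.of_finite_maximals ?_
  have : {I : Ideal (X.presheaf.stalk x) | I.IsMaximal} = {IsLocalRing.maximalIdeal _} := by
    ext I
    change I.IsMaximal ↔ I = _
    exact ⟨fun h => IsLocalRing.eq_maximalIdeal h, fun h => h ▸ IsLocalRing.maximalIdeal.isMaximal _⟩
  rw [this]
  exact Set.finite_singleton _

/-- **Torsion-free coherent modules on a regular integral curve are finite locally free.** -/
theorem isFinLocFree_of_torsionFree [IsIntegral X] [IsLocallyNoetherian X]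
    (hdim : topologicalKrullDim X ≤ 1) (hreg : ∀ x : X, IsRegularLocalRing (X.presheaf.stalk x))
    (F : X.Modules) (hF : Coh.IsCoh F) (hT : TorSh.IsTorsionFree F) : FlatMod.IsFinLocFree F := by
  haveI := hF.1
  haveI := hF.2
  refine (Groth.Agent.S9806.result X F hF.1).1
    ⟨Groth.Agent.Lib.Helper23.FinType.isFinitePresentation_of_isFiniteType F, fun x => ?_⟩
  haveI := isPrincipalIdealRing_stalk hdim x (hreg x)
  haveI := finite_stalk F hF x
  haveI : Module.IsTorsionFree (X.presheaf.stalk x) (F.presheaf.stalk x) := hT x
  exact Module.free_of_finite_type_torsion_free'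

/-- a finite locally free module on an integral scheme has constant rank -/
theorem exists_rank [IsIntegral X] (F : X.Modules) [F.IsQuasicoherent]
    (hF : FlatMod.IsFinLocFree F) : ∃ n : ℕ, FlatMod.IsFinLocFreeOfRank n F := by
  refine ⟨Groth.Agent.Lib.Helper2.RankLoc.fibreRank F (genericPoint X), fun x => ?_⟩
  obtain ⟨U, n, hxU, ⟨e⟩⟩ := hF x
  have hη : genericPoint X ∈ U :=
    ((genericPoint_spec X).mem_open_set_iff U.2).2 ⟨x, trivial, hxU⟩
  have h := (Groth.Agent.Lib.Helper2.RankLoc.fibreRank_eq_of_restrict_iso_freeMod U.ι F e
    ⟨genericPoint X, hη⟩).2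
  have h' : Groth.Agent.Lib.Helper2.RankLoc.fibreRank F (genericPoint X) = n := h
  rw [h']
  exact ⟨U, hxU, ⟨e⟩⟩

/-- coherent torsion-free ⇒ finite locally free of constant rank -/
theorem exists_rank_of_torsionFree [IsIntegral X] [IsLocallyNoetherian X]
    (hdim : topologicalKrullDim X ≤ 1) (hreg : ∀ x : X, IsRegularLocalRing (X.presheaf.stalk x))
    (F : X.Modules) (hF : Coh.IsCoh F) (hT : TorSh.IsTorsionFree F) :
    ∃ n : ℕ, FlatMod.IsFinLocFreeOfRank n F := by
  haveI := hF.1
  exact exists_rank F (isFinLocFree_of_torsionFree hdim hreg F hF hT)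

/-- finite locally free modules on an integral scheme are torsion-free -/
theorem isTorsionFree_of_isFinLocFreeOfRank [IsIntegral X] {n : ℕ} {E : X.Modules}
    (hE : FlatMod.IsFinLocFreeOfRank n E) : TorSh.IsTorsionFree E := by
  intro x
  haveI := free_stalk hE x
  infer_instance

/-- subobjects of torsion-free modules are torsion-free -/
theorem isTorsionFree_of_mono {G E : X.Modules} (ι : G ⟶ E) [Mono ι]
    (hE : TorSh.IsTorsionFree E) : TorSh.IsTorsionFree G := by
  intro x
  haveI : Module.IsTorsionFree (X.presheaf.stalk x) (E.presheaf.stalk x) := hE x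
  exact Function.Injective.moduleIsTorsionFree (stalkLin ι x)
    (Groth.Agent.Lib.Helper23.StalkLin.stalkLin_injective ι x) (fun r m => map_smul _ r m)

/-- a finite locally free module of rank `0` is zero -/
theorem isZero_of_rank_zero {E : X.Modules} (hE : FlatMod.IsFinLocFreeOfRank 0 E) : IsZero E := by
  rw [Groth.Agent.Helper18Epi.isZero_iff_subsingleton_stalk]
  intro x
  haveI := free_stalk hE x
  haveI := finite_stalk E (isCoh_of_isFinLocFreeOfRank hE) x
  have h := finrank_stalk hE x
  exact (Module.finrank_eq_zero_iff_of_free _ _).1 h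

end Groth.Agent.R2.H85.TFCurve
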