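import Mathlib

/-!
# Indecomposable injectives in Grothendieck abelian categories are uniform (helper85)
-/

set_option autoImplicit false
set_option backward.isDefEq.respectTransparency false
universe w v u

open CategoryTheory CategoryTheory.Limits

namespace Groth.Agent.R2.H85.Uniform

section Abelian

variable {C : Type u} [Category.{v} C] [Abelian C] {E : C}

theorem eq_bot_of_arrow_eq_zero (Y : Subobject E) (h : Y.arrow = 0) : Y = ⊥ := by
  rw [← Subobject.mk_arrow Y]
  exact Subobject.mk_eq_bot_iff_zero.mpr h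

theorem arrow_ne_zero_of_ne_bot (Y : Subobject E) (h : Y ≠ ⊥) : Y.arrow ≠ 0 :=
  fun h0 => h (eq_bot_of_arrow_eq_zero Y h0)

/-- if `A ⊓ B = ⊥`, a morphism factoring through both `A` and `B` vanishes. -/
theorem eq_zero_of_factors {A B : Subobject E} (hAB : A ⊓ B = ⊥) {W : C} (m : W ⟶ E)
    (hA : A.Factors m) (hB : B.Factors m) : m = 0 := by
  have : (A ⊓ B).Factors m := (Subobject.inf_factors m).mpr ⟨hA, hB⟩
  rw [hAB] at this
  exact (Subobject.bot_factors_iff_zero m).mp this

/-- the sum map of two subobjects with trivial intersection is a monomorphism. -/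
theorem mono_biprod_desc {A B : Subobject E} (hAB : A ⊓ B = ⊥) :
    Mono (biprod.desc A.arrow B.arrow) := by
  rw [Preadditive.mono_iff_cancel_zero]
  intro W k hk
  have h1 : k ≫ biprod.fst ≫ A.arrow + k ≫ biprod.snd ≫ B.arrow = 0 := by
    have : k ≫ biprod.desc A.arrow B.arrow = k ≫ biprod.fst ≫ A.arrow + k ≫ biprod.snd ≫ B.arrow := by
      rw [biprod.desc_eq, Preadditive.comp_add]
    rw [← this, hk]
  have h2 : k ≫ biprod.fst ≫ A.arrow = 0 := by
    apply eq_zero_of_factors hAB
    · rw [← Category.assoc]; exact Subobject.factors_comp_arrow _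
    · have : k ≫ biprod.fst ≫ A.arrow = (-(k ≫ biprod.snd)) ≫ B.arrow := by
        rw [Preadditive.neg_comp, Category.assoc, eq_neg_iff_add_eq_zero, h1]
      rw [this]; exact Subobject.factors_comp_arrow _
  have h3 : k ≫ biprod.snd ≫ B.arrow = 0 := by
    rw [h2, zero_add] at h1; exact h1
  have h2' : k ≫ biprod.fst = 0 := by
    rw [← cancel_mono A.arrow, Category.assoc, h2, zero_comp]
  have h3' : k ≫ biprod.snd = 0 := by
    rw [← cancel_mono B.arrow, Category.assoc, h3, zero_comp]
  apply biprod.hom_ext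
  · rw [h2', zero_comp]
  · rw [h3', zero_comp]

/-- Mutually maximal complements in an injective object: the first one is a retract. -/
theorem exists_retraction_of_maximal [Injective E] (A' B' : Subobject E) (hAB : A' ⊓ B' = ⊥)
    (hBmax : ∀ X : Subobject E, B' ≤ X → A' ⊓ X = ⊥ → X = B')
    (hAmax : ∀ X : Subobject E, A' ≤ X → X ⊓ B' = ⊥ → X = A') :
    ∃ r : E ⟶ (A' : C), A'.arrow ≫ r = 𝟙 _ := by
  haveI := mono_biprod_desc hAB
  let s := biprod.desc A'.arrow B'.arrow
  let φ : E ⟶ E := Injective.factorThru (biprod.fst ≫ A'.arrow) s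
  have hsφ : s ≫ φ = biprod.fst ≫ A'.arrow := Injective.comp_factorThru _ _
  have hA : A'.arrow ≫ φ = A'.arrow := by
    have : A'.arrow = biprod.inl ≫ s := by simp [s]
    conv_lhs => rw [this, Category.assoc, hsφ]
    simp
  have hB : B'.arrow ≫ φ = 0 := by
    have : B'.arrow = biprod.inr ≫ s := by simp [s]
    rw [this, Category.assoc, hsφ]
    simp
  -- the image of `φ` contains `A'`
  have hle : A' ≤ imageSubobject φ := by
    apply Subobject.le_of_factors
    have hfac : (imageSubobject φ).Factors (A'.arrow ≫ φ) := by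
      have := Subobject.factors_comp_arrow (P := imageSubobject φ)
        (A'.arrow ≫ factorThruImageSubobject φ)
      rwa [Category.assoc, imageSubobject_arrow_comp] at this
    rwa [hA] at hfac
  -- the image of `φ` meets `B'` trivially
  have hinf : imageSubobject φ ⊓ B' = ⊥ := by
    set Y := imageSubobject φ ⊓ B' with hY
    apply eq_bot_of_arrow_eq_zero
    let y := Y.arrow
    let X : Subobject E := kernelSubobject (φ ≫ cokernel.π y)
    have hXfac : ∀ {W : C} (g : W ⟶ E), X.Factors g ↔ g ≫ φ ≫ cokernel.π y = 0 :=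
      fun g => kernelSubobject_factors_iff _ _
    have hB'X : B' ≤ X := by
      apply Subobject.le_of_factors
      rw [hXfac, ← Category.assoc, hB, zero_comp]
    have hA'X : A' ⊓ X = ⊥ := by
      apply eq_bot_of_arrow_eq_zero
      set W := A' ⊓ X with hW
      have hWA : A'.Factors W.arrow := Subobject.factors_of_le _ inf_le_left (Subobject.factors_self W)
      have hWX : X.Factors W.arrow := Subobject.factors_of_le _ inf_le_right (Subobject.factors_self W)
      have h1 : W.arrow ≫ φ = W.arrow := by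
        rw [← Subobject.factorThru_arrow A' W.arrow hWA, Category.assoc, hA]
      have h2 : (W.arrow ≫ φ) ≫ cokernel.π y = 0 := by
        rw [Category.assoc]; exact (hXfac _).mp hWX
      have h3 : B'.Factors (W.arrow ≫ φ) := by
        have := Subobject.factors_comp_arrow (P := B')
          (Abelian.monoLift y (W.arrow ≫ φ) h2 ≫ Y.ofLE B' inf_le_right)
        rwa [Category.assoc, Subobject.ofLE_arrow, Abelian.monoLift_comp] at this
      rw [h1] at h3
      exact eq_zero_of_factors hAB _ hWA h3
    have hXB : X = B' := hBmax X hB'X hA'X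
    -- pull back `y` along the epimorphism onto the image
    let y' : (Y : C) ⟶ (imageSubobject φ : C) := Y.ofLE _ inf_le_left
    have hy' : y' ≫ (imageSubobject φ).arrow = y := Subobject.ofLE_arrow _
    let e := factorThruImageSubobject φ
    have he : e ≫ (imageSubobject φ).arrow = φ := imageSubobject_arrow_comp φ
    let p₁ : pullback e y' ⟶ E := pullback.fst e y'
    let p₂ : pullback e y' ⟶ (Y : C) := pullback.snd e y'
    haveI : Epi p₂ := Abelian.epi_pullback_of_epi_f e y'
    have hp : p₁ ≫ φ = p₂ ≫ y := by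
      calc p₁ ≫ φ = p₁ ≫ e ≫ (imageSubobject φ).arrow := by rw [he]
        _ = (p₂ ≫ y') ≫ (imageSubobject φ).arrow := by
          rw [← Category.assoc, pullback.condition]
        _ = p₂ ≫ y := by rw [Category.assoc, hy']
    have hp₁X : X.Factors p₁ := by
      rw [hXfac, ← Category.assoc, hp, Category.assoc, cokernel.condition, comp_zero]
    rw [hXB] at hp₁X
    have hp0 : p₁ ≫ φ = 0 := by
      rw [← Subobject.factorThru_arrow B' p₁ hp₁X, Category.assoc, hB, comp_zero]
    rw [hp] at hp0
    exact (cancel_epi p₂).mp (by rw [hp0, comp_zero])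
  have himg : imageSubobject φ = A' := hAmax _ hle hinf
  have hfac : A'.Factors φ := by
    have := Subobject.factors_comp_arrow (P := imageSubobject φ) (factorThruImageSubobject φ)
    rw [imageSubobject_arrow_comp] at this
    rwa [himg] at this
  refine ⟨A'.factorThru φ hfac, ?_⟩
  rw [← cancel_mono A'.arrow, Category.assoc, Subobject.factorThru_arrow, hA, Category.id_comp]

end Abelian

section Grothendieck

attribute [local instance] IsFiltered.isConnected

variable {C : Type u} [Category.{v} C] [Abelian C] [IsGrothendieckAbelian.{w} C] {E : C}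

/-- AB5: a chain of subobjects each meeting `A` trivially has an upper bound meeting `A`
trivially. -/
theorem exists_ub_of_chain (A : Subobject E) (c : Set (Subobject E)) (hc : IsChain (· ≤ ·) c)
    (y : Subobject E) (hy : y ∈ c) (h : ∀ X ∈ c, A ⊓ X = ⊥) :
    ∃ ub : Subobject E, A ⊓ ub = ⊥ ∧ ∀ z ∈ c, z ≤ ub := by
  haveI : Small.{w} (Subobject E) := inferInstance
  haveI : Small.{w} c := small_subtype _ _
  let J := Shrink.{w} c
  let e : c ≃ J := equivShrink c
  letI : Preorder J := Preorder.lift (fun j => ((e.symm j).1 : Subobject E))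
  haveI : Nonempty J := ⟨e ⟨y, hy⟩⟩
  haveI : IsDirected J (· ≤ ·) := ⟨fun a b => by
    rcases hc.total (e.symm a).2 (e.symm b).2 with h | h
    · exact ⟨b, h, le_rfl⟩
    · exact ⟨a, le_rfl, h⟩⟩
  letI : SmallCategory J := Preorder.smallCategory J
  haveI : IsFiltered J := isFiltered_of_directed_le_nonempty J
  haveI : HasColimitsOfShape J C := HasFilteredColimitsOfSize.HasColimitsOfShape J
  let F : J ⥤ MonoOver E :=
    { obj := fun j => MonoOver.mk ((e.symm j).1.arrow)
      map := fun {j j'} h => MonoOver.homMk (Subobject.ofLE _ _ (leOfHom h : j ≤ j'))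
        (Subobject.ofLE_arrow _) }
  let G := F ⋙ MonoOver.forget E ⋙ Over.forget E
  let f : colimit G ⟶ E :=
    colimit.desc _ (Cocone.mk E
      { app j := (F.obj j).obj.hom
        naturality {j j'} g := by simp [G, MonoOver.forget] })
  have hf : ∀ j, colimit.ι G j ≫ f = (F.obj j).obj.hom := fun j => by simp [f]
  haveI : Mono f := IsGrothendieckAbelian.mono_of_isColimit_monoOver F (colimit.isColimit _) f hf
  have hle : ∀ j : J, (e.symm j).1 ≤ Subobject.mk f := fun j =>
    Subobject.le_mk_of_comm (colimit.ι G j) (hf j)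
  refine ⟨Subobject.mk f, ?_, fun z hz => ?_⟩
  · apply eq_bot_of_arrow_eq_zero
    set P := A ⊓ Subobject.mk f with hP
    let φ : (P : C) ⟶ colimit G := P.ofLE _ inf_le_right ≫ (Subobject.underlyingIso f).hom
    have hφ : φ ≫ f = P.arrow := by
      simp only [φ, Category.assoc, Subobject.underlyingIso_hom_comp_eq_mk, Subobject.ofLE_arrow]
    rw [← hφ]
    apply (colimit.isColimit G).pullback_zero_ext
    intro j
    have h1 : pullback.snd ((colimit.cocone G).ι.app j) φ ≫ φ ≫ f =
        pullback.fst ((colimit.cocone G).ι.app j) φ ≫ (e.symm j).1.arrow := by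
      rw [← Category.assoc, ← pullback.condition, Category.assoc]
      congr 1
      exact hf j
    apply eq_zero_of_factors (h _ (e.symm j).2)
    · rw [hφ]
      have := Subobject.factors_comp_arrow (P := A)
        (pullback.snd ((colimit.cocone G).ι.app j) φ ≫ P.ofLE A inf_le_left)
      rwa [Category.assoc, Subobject.ofLE_arrow] at this
    · rw [h1]
      exact Subobject.factors_comp_arrow _
  · have := hle (e ⟨z, hz⟩)
    simpa using this

/-- An indecomposable injective object of a Grothendieck abelian category is uniform: any two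
nonzero subobjects have nonzero intersection. -/
theorem inf_ne_bot_of_indecomposable_injective [Injective E]
    (hind : ∀ (A B : C), Nonempty (E ≅ A ⊞ B) → IsZero A ∨ IsZero B)
    (A B : Subobject E) (hA : A ≠ ⊥) (hB : B ≠ ⊥) : A ⊓ B ≠ ⊥ := by
  intro hAB
  -- `B'` maximal with `A ⊓ B' = ⊥`, containing `B`
  obtain ⟨B', hBB', hB'⟩ := zorn_le_nonempty₀ {X : Subobject E | A ⊓ X = ⊥}
    (fun c hcs hc y hy => exists_ub_of_chain A c hc y hy (fun X hX => hcs hX)) B hAB
  have hAB' : A ⊓ B' = ⊥ := hB'.prop
  -- `A'` maximal with `A' ⊓ B' = ⊥`, containing `A`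
  obtain ⟨A', hAA', hA'⟩ := zorn_le_nonempty₀ {X : Subobject E | B' ⊓ X = ⊥}
    (fun c hcs hc y hy => exists_ub_of_chain B' c hc y hy (fun X hX => hcs hX)) A
    (by change B' ⊓ A = ⊥; rw [inf_comm]; exact hAB')
  have hA'B' : A' ⊓ B' = ⊥ := by rw [inf_comm]; exact hA'.prop
  have hBmax : ∀ X : Subobject E, B' ≤ X → A' ⊓ X = ⊥ → X = B' := by
    intro X hX hX'
    have h1 : A ⊓ X = ⊥ := le_bot_iff.mp (hX' ▸ inf_le_inf_right X hAA')
    exact le_antisymm (hB'.le_of_ge h1 hX) hX
  have hAmax : ∀ X : Subobject E, A' ≤ X → X ⊓ B' = ⊥ → X = A' := by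
    intro X hX hX'
    have h1 : B' ⊓ X = ⊥ := by rw [inf_comm]; exact hX'
    exact le_antisymm (hA'.le_of_ge h1 hX) hX
  obtain ⟨r, hr⟩ := exists_retraction_of_maximal A' B' hA'B' hBmax hAmax
  haveI : IsSplitMono A'.arrow := ⟨⟨⟨r, hr⟩⟩⟩
  have hbil := isBilimitBinaryBiconeOfIsSplitMonoOfCokernel (colimit.isColimit (parallelPair A'.arrow 0))
  let iso : E ≅ (A' : C) ⊞ cokernel A'.arrow :=
    biprod.uniqueUpToIso _ _ hbil
  rcases hind _ _ ⟨iso⟩ with h0 | h0
  · -- `A' = ⊥`, but `A ≤ A'`
    have : A' = ⊥ := eq_bot_of_arrow_eq_zero A' (h0.eq_of_src _ _)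
    exact hA (le_bot_iff.mp (this ▸ hAA'))
  · -- `A' = ⊤`, so `B' = ⊥`
    haveI : Epi A'.arrow := Preadditive.epi_of_isZero_cokernel _ h0
    haveI : IsIso A'.arrow := isIso_of_mono_of_epi _
    have htop : A' = ⊤ := Subobject.eq_top_of_isIso_arrow A'
    have : B' = ⊥ := by rw [← hA'B', htop, top_inf_eq]
    exact hB (le_bot_iff.mp (this ▸ hBB'))

end Grothendieck

end Groth.Agent.R2.H85.Uniform
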