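import Groth.Prelude.Def_BlowUp2
import Groth.Prelude.Def_CurvBase
import Groth.Agent.R2.H48OpenCompl
import Groth.Agent.Lib.Helper28RegLoc
import Groth.Agent.S1682

/-!
# helper86: a blow-up of an irreducible scheme is irreducible

* `dense_compl_support_of_isEffCartier`: the complement of (the support of) an effective Cartier divisor is
  topologically dense.
* `irreducibleSpace_of_isBlowUp`: if `X` is irreducible and the centre `𝓘` does not have full support, a blow-up
  of `X` in `𝓘` is irreducible.
* `ker_Spec_map_mk`: the kernel of `Spec (A/I) ⟶ Spec A` is `Curv2.idealSheaf A I`.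
* `isRegularLocalRing_stalk_spec`: the local rings of `Spec R`, `R` regular local, are regular.
-/

set_option autoImplicit false
universe u
open CategoryTheory CategoryTheory.Limits AlgebraicGeometry

namespace Groth.Agent.R2.H86.BlowIrr

/-- the complement of the support of an effective Cartier divisor is dense. -/
theorem dense_compl_support_of_isEffCartier {X : Scheme.{u}} (E : X.IdealSheafData)
    (hE : BlowUp.IsEffCartierIdeal E) : Dense ((E.support : Set X)ᶜ) := by
  have hsd := Groth.Agent.R2.H48.OpenCompl.isSchematicallyDense_cmpl E hE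
  rw [dense_iff_inter_open]
  intro V hV hVne
  by_contra hemp
  rw [Set.not_nonempty_iff_eq_empty] at hemp
  let V' : X.Opens := ⟨V, hV⟩
  have hbot : V' ⊓ Groth.Agent.R2.H48.OpenCompl.cmpl E = ⊥ := by
    apply SetLike.ext'
    exact hemp
  have hinj := hsd V'
  haveI : Subsingleton Γ(X, V' ⊓ Groth.Agent.R2.H48.OpenCompl.cmpl E) := by
    rw [hbot]; infer_instance
  haveI : Subsingleton Γ(X, V') := hinj.subsingleton
  haveI : Nonempty V' := hVne.to_subtype
  exact not_subsingleton Γ(X, V') inferInstance

/-- a blow-up of an irreducible scheme in a centre without full support is irreducible. -/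
theorem irreducibleSpace_of_isBlowUp {X X' : Scheme.{u}} [IrreducibleSpace X]
    (𝓘 : X.IdealSheafData) (h𝓘 : ∃ x : X, x ∉ 𝓘.support) (b : X' ⟶ X)
    (hb : BlowUp.IsBlowUp b 𝓘) : IrreducibleSpace X' := by
  set W : X.Opens := 𝓘.support.compl with hWdef
  haveI : IsIso (b ∣_ W) := Groth.Agent.S1682.result 𝓘 b hb
  have hW : IsIrreducible (W : Set X) :=
    ⟨h𝓘, (IrreducibleSpace.isIrreducible_univ X).isPreirreducible.open_subset W.isOpen
      (Set.subset_univ _)⟩
  haveI : IrreducibleSpace W := Subtype.irreducibleSpace hW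
  let g : W.toScheme ⟶ X' := inv (b ∣_ W) ≫ (b ⁻¹ᵁ W).ι
  have hrange : Set.range g = ((b ⁻¹ᵁ W : X'.Opens) : Set X') := by
    have h1 : Function.Surjective (inv (b ∣_ W)) :=
      (inv (b ∣_ W)).homeomorph.surjective
    rw [show (g : W.toScheme → X') = (b ⁻¹ᵁ W).ι ∘ inv (b ∣_ W) from by
      ext x; simp [g], Set.range_comp, h1.range_eq, Set.image_univ, Scheme.Opens.range_ι]
  have hirr : IsIrreducible ((b ⁻¹ᵁ W : X'.Opens) : Set X') := by
    rw [← hrange, ← Set.image_univ]
    exact (IrreducibleSpace.isIrreducible_univ _).image _ g.continuous.continuousOn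
  have hd : Dense ((b ⁻¹ᵁ W : X'.Opens) : Set X') := by
    have := dense_compl_support_of_isEffCartier (𝓘.comap b) hb.1
    rw [Scheme.IdealSheafData.support_comap] at this
    exact this
  rw [irreducibleSpace_def, Set.top_eq_univ, ← hd.closure_eq]
  exact hirr.closure

/-- the kernel of `Spec (A/I) ⟶ Spec A` is the ideal sheaf attached to `I`. -/
theorem ker_Spec_map_mk (A : Type u) [CommRing A] (I : Ideal A) :
    (Spec.map (CommRingCat.ofHom (Ideal.Quotient.mk I))).ker = Curv2.idealSheaf A I := by
  rw [AlgebraicGeometry.Scheme.ker_of_isAffine]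
  unfold Curv2.idealSheaf
  congr 1
  have h := Scheme.ΓSpecIso_naturality (CommRingCat.ofHom (Ideal.Quotient.mk I))
  have h' := Scheme.ΓSpecIso_inv_naturality (CommRingCat.ofHom (Ideal.Quotient.mk I))
  apply le_antisymm
  · intro x hx
    rw [RingHom.mem_ker] at hx
    have h2 : (Ideal.Quotient.mk I) ((Scheme.ΓSpecIso (CommRingCat.of A)).hom.hom x) = 0 := by
      have := congrArg (fun f => f.hom x) h
      simp only [CommRingCat.hom_comp, RingHom.comp_apply, CommRingCat.hom_ofHom] at this
      rw [← this, hx, map_zero]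
    rw [Ideal.Quotient.eq_zero_iff_mem] at h2
    have h3 := Ideal.mem_map_of_mem (Scheme.ΓSpecIso (CommRingCat.of A)).inv.hom h2
    rwa [← CommRingCat.comp_apply, Iso.hom_inv_id, CommRingCat.id_apply] at h3
  · rw [Ideal.map_le_iff_le_comap]
    intro a ha
    rw [Ideal.mem_comap, RingHom.mem_ker]
    have := congrArg (fun f => f.hom a) h'
    simp only [CommRingCat.hom_comp, RingHom.comp_apply, CommRingCat.hom_ofHom] at this
    rw [← this, Ideal.Quotient.eq_zero_iff_mem.mpr ha, map_zero]

/-- the support of `Curv2.idealSheaf A I` is the zero locus of `I`. -/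
theorem support_idealSheaf (A : Type u) [CommRing A] (I : Ideal A) :
    ((Curv2.idealSheaf A I).support : Set (Spec (CommRingCat.of A))) =
      PrimeSpectrum.zeroLocus (I : Set A) := by
  rw [← ker_Spec_map_mk]
  have hsurj : Function.Surjective (CommRingCat.ofHom (Ideal.Quotient.mk I)).hom :=
    Ideal.Quotient.mk_surjective
  haveI : IsClosedImmersion (Spec.map (CommRingCat.ofHom (Ideal.Quotient.mk I))) :=
    IsClosedImmersion.spec_of_surjective _ hsurj
  rw [Scheme.Hom.support_ker,
    (Spec.map (CommRingCat.ofHom (Ideal.Quotient.mk I))).isClosedEmbedding.isClosed_range.closure_eq]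
  have := range_comap_of_surjective _ (Ideal.Quotient.mk I) Ideal.Quotient.mk_surjective
  rw [Ideal.mk_ker] at this
  exact this

/-- the local rings of `Spec R`, `R` regular local, are regular. -/
theorem isRegularLocalRing_stalk_spec (R : Type u) [CommRing R] [IsRegularLocalRing R]
    (p : ↥(Spec (CommRingCat.of R))) :
    IsRegularLocalRing ((Spec (CommRingCat.of R)).presheaf.stalk p) := by
  letI : Algebra R ((Spec (CommRingCat.of R)).presheaf.stalk p) := StructureSheaf.stalkAlgebra R p
  haveI : IsLocalization.AtPrime ((Spec (CommRingCat.of R)).presheaf.stalk p) p.asIdeal :=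
    StructureSheaf.IsLocalization.to_stalk R p
  haveI := Groth.Agent.Lib.Helper28.isRegularLocalRing_localization_of_isRegularLocalRing R p.asIdeal
  exact IsRegularLocalRing.of_ringEquiv
    (IsLocalization.algEquiv p.asIdeal.primeCompl (Localization.AtPrime p.asIdeal)
      ((Spec (CommRingCat.of R)).presheaf.stalk p)).toRingEquiv

end Groth.Agent.R2.H86.BlowIrr
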