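import Mathlib

open AlgebraicGeometry CategoryTheory

universe u

namespace Groth.Agent.R2.H86.CDivPow

theorem isUnit_of_span_pow_eq {R : Type*} [CommRing R] {f : R} (hf : f ∈ nonZeroDivisors R)
    {a b : ℕ} (hab : a < b) (h : Ideal.span {f} ^ a = Ideal.span {f} ^ b) : IsUnit f := by
  rw [Ideal.span_singleton_pow, Ideal.span_singleton_pow] at h
  have h1 : f ^ a ∈ Ideal.span {f ^ b} := h ▸ Ideal.mem_span_singleton_self _
  obtain ⟨c, hc⟩ := Ideal.mem_span_singleton'.mp h1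
  obtain ⟨k, rfl⟩ := Nat.exists_eq_add_of_lt hab
  have hfa : f ^ a ∈ nonZeroDivisors R := pow_mem hf a
  have h2 : (c * f ^ (k+1) - 1) * f ^ a = 0 := by
    have : c * f ^ (k+1) * f ^ a = c * f ^ (a + k + 1) := by ring
    rw [sub_mul, this, hc]; ring
  have h3 : c * f ^ (k+1) - 1 = 0 := (mul_right_mem_nonZeroDivisors_eq_zero_iff hfa).mp h2
  have h4 : IsUnit (f ^ (k+1)) := IsUnit.of_mul_eq_one_right c (sub_eq_zero.mp h3)
  exact (isUnit_pow_iff (Nat.succ_ne_zero k)).mp h4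

theorem eq_top_of_pow_eq_pow {R : Type*} [CommRing R] {f g : R} (hf : f ∈ nonZeroDivisors R)
    (hg : g ∈ nonZeroDivisors R) {m n m' n' : ℕ}
    (h : Ideal.span {f} ^ m = Ideal.span {g} ^ n) (h' : Ideal.span {f} ^ m' = Ideal.span {g} ^ n')
    (hne : m * n' ≠ m' * n) : Ideal.span {f} = ⊤ ∧ Ideal.span {g} = ⊤ := by
  have e1 : Ideal.span {f} ^ (m * n') = Ideal.span {f} ^ (m' * n) := by
    rw [pow_mul, h, ← pow_mul, mul_comm n n', pow_mul, ← h', ← pow_mul]
  have e2 : Ideal.span {g} ^ (n * m') = Ideal.span {g} ^ (n' * m) := by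
    rw [pow_mul, ← h, ← pow_mul, mul_comm m m', pow_mul, h', ← pow_mul]
  have hne2 : n * m' ≠ n' * m := by
    intro e; apply hne; rw [mul_comm m n', ← e, mul_comm]
  constructor
  · rw [Ideal.span_singleton_eq_top]
    rcases lt_or_gt_of_ne hne with hlt | hlt
    · exact isUnit_of_span_pow_eq hf hlt e1
    · exact isUnit_of_span_pow_eq hf hlt e1.symm
  · rw [Ideal.span_singleton_eq_top]
    rcases lt_or_gt_of_ne hne2 with hlt | hlt
    · exact isUnit_of_span_pow_eq hg hlt e2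
    · exact isUnit_of_span_pow_eq hg hlt e2.symm

/-- transitivity of proportionality through a nonzero vector. -/
theorem prop_trans {m n m₀ n₀ m' n' : ℕ} (hne : (m, n) ≠ (0, 0))
    (h1 : m * n₀ = m₀ * n) (h2 : m * n' = m' * n) : m' * n₀ = m₀ * n' := by
  rcases Nat.eq_zero_or_pos m with hm | hm
  · subst hm
    have hn : n ≠ 0 := fun h => hne (by rw [h])
    have hm₀ : m₀ = 0 := by
      rcases Nat.eq_zero_or_pos m₀ with h | h
      · exact h
      · exfalso; have := Nat.mul_pos h (Nat.pos_of_ne_zero hn); omega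
    have hm' : m' = 0 := by
      rcases Nat.eq_zero_or_pos m' with h | h
      · exact h
      · exfalso; have := Nat.mul_pos h (Nat.pos_of_ne_zero hn); omega
    rw [hm₀, hm']; simp
  · apply Nat.eq_of_mul_eq_mul_left hm
    calc m * (m' * n₀) = m' * (m * n₀) := by ring
      _ = m' * (m₀ * n) := by rw [h1]
      _ = m₀ * (m' * n) := by ring
      _ = m₀ * (m * n') := by rw [h2]
      _ = m * (m₀ * n') := by ring

theorem flat_res {X : Scheme.{u}} {U V : X.affineOpens} (h : V ≤ U) :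
    (X.presheaf.map (homOfLE (X := X.Opens) h).op).hom.Flat := by
  have := HasRingHomProperty.appLE (P := @Flat) (f := 𝟙 X) inferInstance U V h
  have e : (Scheme.Hom.appLE (𝟙 X) U.1 V.1 h) = X.presheaf.map (homOfLE (X := X.Opens) h).op := by
    simp only [Scheme.Hom.appLE, Scheme.Hom.id_app]
    exact Category.id_comp _
  rwa [e] at this

theorem res_mem_nonZeroDivisors {X : Scheme.{u}} {U V : X.affineOpens} (h : V ≤ U) {g : Γ(X, U)}
    (hg : g ∈ nonZeroDivisors Γ(X, U)) :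
    (X.presheaf.map (homOfLE (X := X.Opens) h).op).hom g ∈ nonZeroDivisors Γ(X, V) := by
  have hflat := flat_res h
  let _ := (X.presheaf.map (homOfLE (X := X.Opens) h).op).hom.toAlgebra
  have hflat' : Module.Flat Γ(X, U) Γ(X, V) := hflat
  have hreg : IsSMulRegular Γ(X, V) g := Module.Flat.isSMulRegular_of_nonZeroDivisors hg
  apply IsRegular.mem_nonZeroDivisors
  rw [Commute.isRegular_iff (fun b => Commute.all _ b)]
  intro a b hab
  apply hreg
  simpa [Algebra.smul_def, RingHom.algebraMap_toAlgebra] using hab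

variable {X : Scheme.{u}} (D E : X.IdealSheafData)

theorem rel_res {U V : X.affineOpens} (h : V ≤ U) {m n : ℕ}
    (hU : D.ideal U ^ m = E.ideal U ^ n) : D.ideal V ^ m = E.ideal V ^ n := by
  rw [← D.map_ideal h, ← E.map_ideal h, ← Ideal.map_pow, ← Ideal.map_pow, hU]

theorem principal_res {U V : X.affineOpens} (h : V ≤ U) {g : Γ(X, U)}
    (hU : D.ideal U = Ideal.span {g}) :
    D.ideal V = Ideal.span {(X.presheaf.map (homOfLE (X := X.Opens) h).op).hom g} := by
  rw [← D.map_ideal h, hU, Ideal.map_span, Set.image_singleton]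
  rfl

theorem notMem_support_of_ideal_eq_top {V : X.affineOpens} {x : X} (hx : x ∈ V.1)
    (h : D.ideal V = ⊤) : x ∉ D.support := by
  rw [Scheme.IdealSheafData.mem_support_iff_of_mem hx, h, Scheme.mem_zeroLocus_iff]
  intro H
  apply H 1 (by simp)
  rw [Scheme.basicOpen_of_isUnit _ isUnit_one]
  exact hx

theorem ideal_eq_top_of_disjoint {V : X.affineOpens}
    (h : Disjoint (D.support : Set X) V.1) : D.ideal V = ⊤ := by
  have h1 := V.2.fromSpec_image_zeroLocus (D.ideal V)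
  rw [← D.coe_support_inter V, Set.disjoint_iff_inter_eq_empty.mp h] at h1
  simp only [Set.image_eq_empty] at h1
  exact PrimeSpectrum.zeroLocus_empty_iff_eq_top.mp h1

theorem exists_affine_subset {x : X} {W : Set X} (hW : IsOpen W) (hx : x ∈ W) :
    ∃ V : X.affineOpens, x ∈ V.1 ∧ (V.1 : Set X) ⊆ W := by
  obtain ⟨_, ⟨U, hU, rfl⟩, hxU, hUW⟩ := X.isBasis_affineOpens.exists_subset_of_mem_open hx hW
  exact ⟨⟨U, hU⟩, hxU, hUW⟩


/-- The hypothesis "locally principal, generated by a non-zero-divisor". -/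
def LocPrincipal (D : X.IdealSheafData) : Prop :=
  ∀ x : X, ∃ U : X.affineOpens, x ∈ (U : X.Opens) ∧
    ∃ g : Γ(X, U), g ∈ nonZeroDivisors Γ(X, U) ∧ D.ideal U = Ideal.span {g}

variable {D E}

/-- At a point of the union of the supports, any two local relations are proportional. -/
theorem prop_of_mem_support (hD : LocPrincipal D) (hE : LocPrincipal E) {y : X}
    (hy : y ∈ (D.support : Set X) ∪ (E.support : Set X)) {U U' : X.affineOpens}
    (hyU : y ∈ U.1) (hyU' : y ∈ U'.1) {m n m' n' : ℕ}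
    (h : D.ideal U ^ m = E.ideal U ^ n) (h' : D.ideal U' ^ m' = E.ideal U' ^ n') :
    m * n' = m' * n := by
  by_contra hne
  obtain ⟨UD, hyUD, f, hf, hDf⟩ := hD y
  obtain ⟨UE, hyUE, g, hg, hEg⟩ := hE y
  obtain ⟨V, hyV, hVW⟩ := exists_affine_subset
    (W := (U.1 : Set X) ∩ U'.1 ∩ UD.1 ∩ UE.1)
    (((U.1.2.inter U'.1.2).inter UD.1.2).inter UE.1.2) ⟨⟨⟨hyU, hyU'⟩, hyUD⟩, hyUE⟩
  have hVU : V ≤ U := fun z hz => (hVW hz).1.1.1
  have hVU' : V ≤ U' := fun z hz => (hVW hz).1.1.2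
  have hVUD : V ≤ UD := fun z hz => (hVW hz).1.2
  have hVUE : V ≤ UE := fun z hz => (hVW hz).2
  have r1 := rel_res D E hVU h
  have r2 := rel_res D E hVU' h'
  have p1 := principal_res D hVUD hDf
  have p2 := principal_res E hVUE hEg
  rw [p1, p2] at r1 r2
  obtain ⟨t1, t2⟩ := eq_top_of_pow_eq_pow (res_mem_nonZeroDivisors hVUD hf)
    (res_mem_nonZeroDivisors hVUE hg) r1 r2 hne
  rw [← p1] at t1
  rw [← p2] at t2
  rcases hy with hy | hy
  · exact notMem_support_of_ideal_eq_top D hyV t1 hy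
  · exact notMem_support_of_ideal_eq_top E hyV t2 hy

theorem main [IsNoetherian X]
    (hD : LocPrincipal D) (hE : LocPrincipal E)
    (hconn : IsPreconnected ((D.support : Set X) ∪ (E.support : Set X)))
    (hloc : ∀ x : X, ∃ U : X.affineOpens, x ∈ (U : X.Opens) ∧
      ∃ m n : ℕ, (m, n) ≠ (0, 0) ∧ D.ideal U ^ m = E.ideal U ^ n) :
    ∃ m n : ℕ, (m, n) ≠ (0, 0) ∧ ∀ U : X.affineOpens, D.ideal U ^ m = E.ideal U ^ n := by
  classical
  by_cases hZ : ((D.support : Set X) ∪ (E.support : Set X)).Nonempty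
  swap
  · rw [Set.not_nonempty_iff_eq_empty, Set.union_empty_iff] at hZ
    refine ⟨1, 1, by simp, fun U => ?_⟩
    have h1 : D.ideal U = ⊤ := ideal_eq_top_of_disjoint D (by rw [hZ.1]; exact Set.empty_disjoint _)
    have h2 : E.ideal U = ⊤ := ideal_eq_top_of_disjoint E (by rw [hZ.2]; exact Set.empty_disjoint _)
    rw [h1, h2]
  obtain ⟨x₀, hx₀⟩ := hZ
  obtain ⟨U₀, hxU₀, m₀, n₀, hne₀, h₀⟩ := hloc x₀
  -- key: a local relation proportional to `(m₀, n₀)` near every point
  have key : ∀ x : X, ∃ U : X.affineOpens, x ∈ U.1 ∧ ∃ m n : ℕ, (m, n) ≠ (0, 0) ∧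
      D.ideal U ^ m = E.ideal U ^ n ∧ m * n₀ = m₀ * n := by
    intro x
    by_cases hx : x ∈ (D.support : Set X) ∪ (E.support : Set X)
    · let A : Set X := ⋃ (U : X.affineOpens) (_ : ∃ m n : ℕ, (m, n) ≠ (0, 0) ∧
        D.ideal U ^ m = E.ideal U ^ n ∧ m * n₀ = m₀ * n), (U.1 : Set X)
      let B : Set X := ⋃ (U : X.affineOpens) (_ : ∃ m n : ℕ, (m, n) ≠ (0, 0) ∧
        D.ideal U ^ m = E.ideal U ^ n ∧ m * n₀ ≠ m₀ * n), (U.1 : Set X)
      have hA : IsOpen A := isOpen_iUnion fun U => isOpen_iUnion fun _ => U.1.2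
      have hB : IsOpen B := isOpen_iUnion fun U => isOpen_iUnion fun _ => U.1.2
      have hAB : (D.support : Set X) ∪ (E.support : Set X) ⊆ A ∪ B := by
        intro y _
        obtain ⟨U, hyU, m, n, hne, hrel⟩ := hloc y
        by_cases hp : m * n₀ = m₀ * n
        · exact Or.inl (Set.mem_iUnion₂.mpr ⟨U, ⟨m, n, hne, hrel, hp⟩, hyU⟩)
        · exact Or.inr (Set.mem_iUnion₂.mpr ⟨U, ⟨m, n, hne, hrel, hp⟩, hyU⟩)
      have hx₀A : (((D.support : Set X) ∪ (E.support : Set X)) ∩ A).Nonempty :=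
        ⟨x₀, hx₀, Set.mem_iUnion₂.mpr ⟨U₀, ⟨m₀, n₀, hne₀, h₀, rfl⟩, hxU₀⟩⟩
      have hxA : x ∈ A := by
        by_contra hxA
        have hxB : x ∈ B := (hAB hx).resolve_left hxA
        obtain ⟨y, hyZ, hyA, hyB⟩ := hconn A B hA hB hAB hx₀A ⟨x, hx, hxB⟩
        obtain ⟨U, ⟨m, n, hne, hrel, hp⟩, hyU⟩ := Set.mem_iUnion₂.mp hyA
        obtain ⟨U', ⟨m', n', hne', hrel', hp'⟩, hyU'⟩ := Set.mem_iUnion₂.mp hyB
        exact hp' (prop_trans hne hp (prop_of_mem_support hD hE hyZ hyU hyU' hrel hrel'))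
      obtain ⟨U, ⟨m, n, hne, hrel, hp⟩, hxU⟩ := Set.mem_iUnion₂.mp hxA
      exact ⟨U, hxU, m, n, hne, hrel, hp⟩
    · have hclosed : IsClosed ((D.support : Set X) ∪ (E.support : Set X)) :=
        D.support.isClosed.union E.support.isClosed
      obtain ⟨V, hxV, hV⟩ := exists_affine_subset hclosed.isOpen_compl hx
      have h1 : D.ideal V = ⊤ := ideal_eq_top_of_disjoint D
        (Set.disjoint_left.mpr fun z hz hzV => hV hzV (Or.inl hz))
      have h2 : E.ideal V = ⊤ := ideal_eq_top_of_disjoint E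
        (Set.disjoint_left.mpr fun z hz hzV => hV hzV (Or.inr hz))
      refine ⟨V, hxV, m₀, n₀, hne₀, ?_, rfl⟩
      rw [h1, h2, ← Ideal.one_eq_top, one_pow, one_pow]
  choose U hxU m n hne hrel hprop using key
  obtain ⟨t, ht⟩ := isCompact_univ.elim_finite_subcover (fun x : X => ((U x).1 : Set X))
    (fun x => (U x).1.2) (fun x _ => Set.mem_iUnion.mpr ⟨x, hxU x⟩)
  have hcover : ⨆ i : t, (U i.1).1 = ⊤ := by
    rw [eq_top_iff]
    intro y _
    obtain ⟨x, hx, hyx⟩ := Set.mem_iUnion₂.mp (ht (Set.mem_univ y))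
    exact TopologicalSpace.Opens.mem_iSup.mpr ⟨⟨x, hx⟩, hyx⟩
  have hs : ∀ x, 0 < m x + n x := by
    intro x
    rcases Nat.eq_zero_or_pos (m x + n x) with h | h
    · exfalso; apply hne x
      have h1 : m x = 0 := by omega
      have h2 : n x = 0 := by omega
      rw [h1, h2]
    · exact h
  let P : ℕ := ∏ x ∈ t, (m x + n x)
  have hP : 0 < P := Finset.prod_pos fun x _ => hs x
  refine ⟨m₀ * P, n₀ * P, ?_, ?_⟩
  · intro h
    apply hne₀
    have h1 : m₀ * P = 0 := congrArg Prod.fst h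
    have h2 : n₀ * P = 0 := congrArg Prod.snd h
    have h1' : m₀ = 0 := (Nat.mul_eq_zero.mp h1).resolve_right hP.ne'
    have h2' : n₀ = 0 := (Nat.mul_eq_zero.mp h2).resolve_right hP.ne'
    rw [h1', h2']
  · have hglob : D ^ (m₀ * P) = E ^ (n₀ * P) := by
      refine Scheme.IdealSheafData.ext_of_iSup_eq_top (fun i : t => U i.1) hcover fun i => ?_
      obtain ⟨x, hx⟩ := i
      change D.ideal (U x) ^ (m₀ * P) = E.ideal (U x) ^ (n₀ * P)
      let Q : ℕ := ∏ y ∈ t.erase x, (m y + n y)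
      have hPQ : P = (m x + n x) * Q := (Finset.mul_prod_erase t (fun y => m y + n y) hx).symm
      have e1 : m₀ * P = m x * ((m₀ + n₀) * Q) := by
        rw [hPQ]
        have := hprop x
        calc m₀ * ((m x + n x) * Q) = (m₀ * m x + m₀ * n x) * Q := by ring
          _ = (m₀ * m x + m x * n₀) * Q := by rw [this]
          _ = m x * ((m₀ + n₀) * Q) := by ring
      have e2 : n₀ * P = n x * ((m₀ + n₀) * Q) := by
        rw [hPQ]
        have := hprop x
        calc n₀ * ((m x + n x) * Q) = (m x * n₀ + n₀ * n x) * Q := by ring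
          _ = (m₀ * n x + n₀ * n x) * Q := by rw [this]
          _ = n x * ((m₀ + n₀) * Q) := by ring
      rw [e1, e2, pow_mul, hrel x, ← pow_mul]
    intro W
    exact congrArg (fun I => I.ideal W) hglob

end Groth.Agent.R2.H86.CDivPow
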