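import Mathlib
import Groth.Prelude.Def_BlowUp2

/-!
# helper86: the complement of an effective Cartier divisor is affine over the scheme and schematically dense
-/

set_option autoImplicit false
universe u

open CategoryTheory AlgebraicGeometry TopologicalSpace

namespace Groth.Agent.R2.H86.CartierCompl

variable {Y : Scheme.{u}} (𝓔 : Y.IdealSheafData)

/-- on an affine open where `𝓔` is generated by `f`, the complement of the support is `D(f)` -/
theorem compl_support_inf_eq_basicOpen (V : Y.affineOpens) (f : Γ(Y, V.1))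
    (hf : 𝓔.ideal V = Ideal.span {f}) : 𝓔.support.compl ⊓ V.1 = Y.basicOpen f := by
  ext y
  constructor
  · rintro ⟨hy1, hy2⟩
    have hy1' : y ∉ 𝓔.support := hy1
    rw [Scheme.IdealSheafData.mem_support_iff_of_mem hy2, hf, Scheme.mem_zeroLocus_iff] at hy1'
    by_contra hy3
    apply hy1'
    intro g hg
    obtain ⟨c, rfl⟩ := Ideal.mem_span_singleton'.mp hg
    intro hy4
    apply hy3
    rw [Scheme.basicOpen_mul] at hy4
    exact hy4.2
  · intro hy
    have hy2 : y ∈ V.1 := Y.basicOpen_le f hy
    refine ⟨?_, hy2⟩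
    change y ∉ 𝓔.support
    rw [Scheme.IdealSheafData.mem_support_iff_of_mem hy2, hf, Scheme.mem_zeroLocus_iff]
    intro H
    exact H f (Ideal.mem_span_singleton_self f) hy

/-- the open immersion of the complement of an effective Cartier divisor is an affine morphism -/
theorem isAffineHom_ι_compl_support (h𝓔 : BlowUp.IsEffCartierIdeal 𝓔) :
    IsAffineHom (Scheme.Opens.ι (𝓔.support.compl : Y.Opens)) := by
  apply isAffineHom_of_forall_exists_isAffineOpen
  intro x
  obtain ⟨V, hxV, f, -, hf⟩ := h𝓔 x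
  refine ⟨V.1, hxV, V.2, ?_⟩
  rw [← Scheme.Hom.isAffineOpen_iff_of_isOpenImmersion (Scheme.Opens.ι (𝓔.support.compl : Y.Opens)),
    Scheme.Hom.image_preimage_eq_opensRange_inf, Scheme.Opens.opensRange_ι,
    compl_support_inf_eq_basicOpen 𝓔 V f hf]
  exact V.2.basicOpen f

theorem injective_res_of_eq_basicOpen {V : Y.affineOpens} (f : Γ(Y, V.1))
    (hf : f ∈ nonZeroDivisors Γ(Y, V.1)) (O : Y.Opens) (hO : O = Y.basicOpen f) (hle : O ≤ V.1) :
    Function.Injective (Y.presheaf.map (homOfLE hle).op).hom := by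
  subst hO
  have hloc := V.2.isLocalization_basicOpen f
  exact IsLocalization.injective (M := Submonoid.powers f) Γ(Y, Y.basicOpen f)
    (Submonoid.powers_le.mpr hf)

/-- the complement of an effective Cartier divisor is schematically dense -/
theorem ker_ι_compl_support (h𝓔 : BlowUp.IsEffCartierIdeal 𝓔) :
    (Scheme.Opens.ι (𝓔.support.compl : Y.Opens)).ker = ⊥ := by
  have haff := isAffineHom_ι_compl_support 𝓔 h𝓔
  choose V hxV f hf hVf using h𝓔
  refine Scheme.IdealSheafData.ext_of_iSup_eq_top V
    (top_le_iff.mp fun x _ => Opens.mem_iSup.mpr ⟨x, hxV x⟩) fun x => ?_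
  rw [Scheme.Hom.ker_apply, Scheme.IdealSheafData.ideal_bot]
  refine (RingHom.injective_iff_ker_eq_bot _).mp ?_
  rw [Scheme.Opens.ι_app]
  refine injective_res_of_eq_basicOpen (f x) (hf x) _ ?_ _
  rw [Scheme.Hom.image_preimage_eq_opensRange_inf, Scheme.Opens.opensRange_ι,
    compl_support_inf_eq_basicOpen 𝓔 (V x) (f x) (hVf x)]

end Groth.Agent.R2.H86.CartierCompl
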