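import Mathlib
import Groth.Prelude.Def_W4c4chowquasisplitNorm
import Groth.Agent.R2.H33ResDeg

open AlgebraicGeometry CategoryTheory

universe u

namespace Groth.Agent.R2.H86.ChowPt

variable (k : Type u) [Field k]

/-- The scheme `Spec k`. -/
noncomputable abbrev Pt : Scheme.{u} := Spec (CommRingCat.of k)

instance : Unique (Pt k) := inferInstanceAs (Unique (PrimeSpectrum k))

/-- evaluation of a 0-cycle of `Spec k` at its point -/
noncomputable def evalHom : ↥(ChowOps.zk (Pt k) (fun _ => (0 : ℤ)) 0) →+ ℤ where
  toFun a := (a : AlgebraicCycle (Pt k) ℤ) default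
  map_zero' := rfl
  map_add' _ _ := rfl

theorem ratTriv_le_ker :
    ChowOps.ratTriv (Pt k) (fun _ => (0 : ℤ)) 0 ≤ (evalHom k).ker := by
  unfold ChowOps.ratTriv
  rw [AddSubgroup.closure_le]
  rintro a ⟨ι, ξ, f, hδ, -, -, hval⟩
  rw [SetLike.mem_coe, AddMonoidHom.mem_ker]
  show (a : AlgebraicCycle (Pt k) ℤ) default = 0
  rw [hval]
  have : IsEmpty ι := ⟨fun i => by have := hδ i; simp at this⟩
  exact finsum_of_isEmpty _

/-- the degree isomorphism `CH_0(Spec k) → ℤ` -/
noncomputable def degHom : ChowOps.CH (Pt k) (fun _ => (0 : ℤ)) 0 →+ ℤ :=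
  QuotientAddGroup.lift _ (evalHom k) (ratTriv_le_ker k)

theorem degHom_cl (α : AlgebraicCycle (Pt k) ℤ) (h : α ∈ Cyc.Zk (Pt k) (fun _ => (0 : ℤ)) 0) :
    degHom k (ChowOps.cl α h) = α default := rfl

theorem degHom_injective : Function.Injective (degHom k) := by
  rw [injective_iff_map_eq_zero]
  intro c hc
  obtain ⟨a, rfl⟩ := QuotientAddGroup.mk_surjective c
  have h0 : (a : AlgebraicCycle (Pt k) ℤ) default = 0 := hc
  have : a = 0 := by
    apply Subtype.ext
    ext x
    rw [Unique.eq_default x]
    exact h0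
  rw [this]
  rfl


section push

variable {k} (F : Type u) [Field F] [Algebra k F]

/-- the structure morphism `Spec F ⟶ Spec k` -/
noncomputable abbrev str : Pt F ⟶ Pt k := Spec.map (CommRingCat.ofHom (algebraMap k F))

open Groth.Agent.R2.H33.ResDeg in
theorem residueDegree_str (x : Pt F) : (str (k := k) F).residueDegree x = Module.finrank k F := by
  let θk : k ≃+* (Pt k).residueField ((str (k := k) F) x) :=
    RingEquiv.ofBijective _ (bijective_toResidueField k ((str (k := k) F) x))
  let θF : F ≃+* (Pt F).residueField x :=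
    RingEquiv.ofBijective _ (bijective_toResidueField F x)
  let _ := ((str (k := k) F).residueFieldMap x).hom.toAlgebra
  symm
  refine Algebra.finrank_eq_of_equiv_equiv θk θF ?_
  ext a
  change ((str (k := k) F).residueFieldMap x).hom
      (((Scheme.ΓSpecIso (CommRingCat.of k)).inv ≫ (Pt k).Γevaluation ((str (k := k) F) x)).hom a) =
    ((Scheme.ΓSpecIso (CommRingCat.of F)).inv ≫ (Pt F).Γevaluation x).hom (algebraMap k F a)
  simp only [CommRingCat.hom_comp, RingHom.comp_apply]
  rw [Scheme.Γevaluation_naturality_apply]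
  congr 1
  have := Scheme.ΓSpecIso_inv_naturality (CommRingCat.ofHom (algebraMap k F))
  exact (congrArg (fun φ => φ.hom a) this).symm

theorem map_str_apply (α : AlgebraicCycle (Pt F) ℤ) :
    AlgebraicCycle.map (str (k := k) F) (fun _ => (0 : ℤ)) (fun _ => (0 : ℤ)) α default =
      α default * (Module.finrank k F : ℤ) := by
  classical
  unfold AlgebraicCycle.map
  rw [Function.locallyFinsupp.map_apply]
  have hpre : (str (k := k) F).base ⁻¹' {default} = {default} := by
    ext x
    simp only [Set.mem_preimage, Set.mem_singleton_iff]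
    exact ⟨fun _ => Unique.eq_default x, fun _ => Unique.eq_default _⟩
  rw [hpre, finsum_mem_singleton]
  congr 1
  simp [AlgebraicCycle.mapCoeff, residueDegree_str]

end push


/-- the constant cycle with value `n` on a one-point scheme -/
noncomputable def constCycle (n : ℤ) : AlgebraicCycle (Pt k) ℤ where
  toFun _ := n
  supportWithinDomain' := Set.subset_univ _
  supportLocallyFiniteWithinDomain' _ _ := ⟨Set.univ, Filter.univ_mem, Set.toFinite _⟩

@[simp] theorem constCycle_apply (n : ℤ) (x : Pt k) : constCycle k n x = n := rfl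

theorem mem_Zk (α : AlgebraicCycle (Pt k) ℤ) : α ∈ Cyc.Zk (Pt k) (fun _ => (0 : ℤ)) 0 :=
  fun _ h => absurd rfl h

theorem degHom_surjective : Function.Surjective (degHom k) := fun n =>
  ⟨ChowOps.cl (constCycle k n) (mem_Zk k _), rfl⟩

theorem degHom_bijective : Function.Bijective (degHom k) :=
  ⟨degHom_injective k, degHom_surjective k⟩

variable (K : Type u) [Field K] [Algebra k K]

/-- the subgroup of `ℤ` generated by the degrees of the finite nontrivial subextensions -/
def degSubgroup : AddSubgroup ℤ :=
  AddSubgroup.closure {m : ℤ | ∃ F : IntermediateField k K, FiniteDimensional k F ∧ F ≠ ⊥ ∧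
    m = (Module.finrank k F : ℤ)}

theorem map_ptNormSubgroup :
    (QsChow.ptNormSubgroup k K).map (degHom k) = degSubgroup k K := by
  unfold QsChow.ptNormSubgroup degSubgroup
  rw [AddMonoidHom.map_closure]
  apply le_antisymm
  · rw [AddSubgroup.closure_le]
    rintro _ ⟨c, ⟨F, hfin, hne, α, h, rfl⟩, rfl⟩
    rw [SetLike.mem_coe, degHom_cl]
    have := map_str_apply (k := k) (↥F) α
    rw [this, ← smul_eq_mul]
    refine AddSubgroup.zsmul_mem _ ?_ _
    exact AddSubgroup.subset_closure ⟨F, hfin, hne, rfl⟩
  · rw [AddSubgroup.closure_le]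
    rintro _ ⟨F, hfin, hne, rfl⟩
    apply AddSubgroup.subset_closure
    refine ⟨ChowOps.cl (AlgebraicCycle.map (str (k := k) ↥F) (fun _ => (0 : ℤ)) (fun _ => (0 : ℤ))
      (constCycle (↥F) 1)) (mem_Zk k _), ⟨F, hfin, hne, constCycle (↥F) 1, mem_Zk k _, rfl⟩, ?_⟩
    rw [degHom_cl, map_str_apply]
    simp

theorem ptNormSubgroup_eq_top_iff :
    QsChow.ptNormSubgroup k K = ⊤ ↔ degSubgroup k K = ⊤ := by
  rw [← map_ptNormSubgroup]
  constructor
  · intro h
    rw [h, ← AddMonoidHom.range_eq_map]
    exact AddMonoidHom.range_eq_top.mpr (degHom_surjective k)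
  · intro h
    have := AddSubgroup.comap_map_eq_self_of_injective (degHom_injective k)
      (QsChow.ptNormSubgroup k K)
    rw [← this, h, AddSubgroup.comap_top]

theorem index_ptNormSubgroup :
    (QsChow.ptNormSubgroup k K).index = (degSubgroup k K).index := by
  rw [← map_ptNormSubgroup, AddSubgroup.index_map_of_bijective (degHom_bijective k)]


section Galois

variable {k K}
variable (L : IntermediateField k K) [FiniteDimensional k L] [IsGalois k L]

theorem finrank_fixedField_eq_index (H : Subgroup Gal(L/k)) :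
    Module.finrank k (IntermediateField.fixedField H) = H.index := by
  have h1 := Module.finrank_mul_finrank k (IntermediateField.fixedField H) L
  have h3 : Nat.card Gal(L/k) = Module.finrank k L := IsGalois.card_aut_eq_finrank k L
  rw [IntermediateField.finrank_fixedField_eq_card, ← h3, ← H.index_mul_card] at h1
  exact Nat.eq_of_mul_eq_mul_right Nat.card_pos h1

theorem index_mem_degSubgroup (H : Subgroup Gal(L/k)) (hH : H.index ≠ 1) :
    (H.index : ℤ) ∈ degSubgroup k K := by
  let E := IntermediateField.fixedField H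
  let e := IntermediateField.liftAlgEquiv E
  have hfin : FiniteDimensional k (IntermediateField.lift E) :=
    Module.Finite.equiv e.toLinearEquiv
  have hrank : Module.finrank k (IntermediateField.lift E) = H.index := by
    rw [← e.toLinearEquiv.finrank_eq]
    exact finrank_fixedField_eq_index L H
  apply AddSubgroup.subset_closure
  refine ⟨IntermediateField.lift E, hfin, ?_, by rw [hrank]⟩
  intro hbot
  apply hH
  rw [← hrank, hbot]
  exact IntermediateField.finrank_bot

/-- S17743 at the level of degrees -/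
theorem degSubgroup_eq_top_of_not_primePow
    (hL : ∀ p n : ℕ, p.Prime → Module.finrank k L ≠ p ^ n) : degSubgroup k K = ⊤ := by
  classical
  obtain ⟨g, hg⟩ := Int.subgroup_cyclic (degSubgroup k K)
  rw [← AddSubgroup.zmultiples_eq_closure] at hg
  have hcard : Nat.card Gal(L/k) = Module.finrank k L := IsGalois.card_aut_eq_finrank k L
  have hdvd : ∀ H : Subgroup Gal(L/k), H.index ≠ 1 → g ∣ (H.index : ℤ) := by
    intro H hH
    have := index_mem_degSubgroup L H hH
    rwa [hg, Int.mem_zmultiples_iff] at this
  -- `g` is a unit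
  have hone : g.natAbs = 1 := by
    by_contra hne
    -- the whole group has index ≠ 1 for the trivial subgroup
    have hbot : (⊥ : Subgroup Gal(L/k)).index ≠ 1 := by
      rw [Subgroup.index_bot, hcard]
      intro h1
      exact hL 2 0 Nat.prime_two (by rw [h1, pow_zero])
    have hg0 : g.natAbs ≠ 0 := by
      intro h0
      have := hdvd ⊥ hbot
      rw [Int.natAbs_eq_zero.mp h0, zero_dvd_iff] at this
      have hpos : 0 < (⊥ : Subgroup Gal(L/k)).index := by
        rw [Subgroup.index_bot]; exact Nat.card_pos
      omega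
    obtain ⟨p, hp, hpg⟩ := Nat.exists_prime_and_dvd hne
    have : Fact p.Prime := ⟨hp⟩
    obtain ⟨P⟩ : Nonempty (Sylow p Gal(L/k)) := inferInstance
    have hPidx : (P : Subgroup Gal(L/k)).index ≠ 1 := by
      intro h1
      have hc := (P : Subgroup Gal(L/k)).index_mul_card
      rw [h1, one_mul, P.card_eq_multiplicity, hcard] at hc
      exact hL p _ hp hc.symm
    have h2 : (p : ℤ) ∣ ((P : Subgroup Gal(L/k)).index : ℤ) :=
      (Int.natCast_dvd.mpr hpg).trans (hdvd _ hPidx)
    exact P.not_dvd_index (Int.natCast_dvd_natCast.mp h2)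
  rw [hg, eq_top_iff]
  intro x _
  rw [Int.mem_zmultiples_iff]
  exact (Int.isUnit_iff_natAbs_eq.mpr hone).dvd

/-- S17744 at the level of degrees -/
theorem degSubgroup_eq_zmultiples_prime (p n : ℕ) (hp : p.Prime) (hn : 1 ≤ n)
    (hL : Module.finrank k L = p ^ n)
    (hF : ∀ F : IntermediateField k K, FiniteDimensional k F → ∃ e : ℕ, Module.finrank k F = p ^ e) :
    degSubgroup k K = AddSubgroup.zmultiples (p : ℤ) := by
  classical
  have : Fact p.Prime := ⟨hp⟩
  have hcard : Nat.card Gal(L/k) = p ^ n := by rw [IsGalois.card_aut_eq_finrank, hL]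
  apply le_antisymm
  · unfold degSubgroup
    rw [AddSubgroup.closure_le]
    rintro _ ⟨F, hfin, hne, rfl⟩
    obtain ⟨e, he⟩ := hF F hfin
    rw [SetLike.mem_coe, Int.mem_zmultiples_iff, Int.natCast_dvd_natCast, he]
    have he0 : e ≠ 0 := by
      intro h0
      apply hne
      rw [h0, pow_zero] at he
      exact IntermediateField.finrank_eq_one_iff.mp he
    exact dvd_pow_self p he0
  · rw [AddSubgroup.zmultiples_le]
    obtain ⟨H, hH⟩ := Sylow.exists_subgroup_card_pow_prime (G := Gal(L/k)) p (n := n - 1)
      (by rw [hcard]; exact pow_dvd_pow p (Nat.sub_le n 1))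
    have hidx : H.index = p := by
      have hc := H.index_mul_card
      rw [hH, hcard] at hc
      have hpn : p ^ n = p * p ^ (n - 1) := by
        rw [← pow_succ', Nat.sub_add_cancel hn]
      rw [hpn] at hc
      exact Nat.eq_of_mul_eq_mul_right (pow_pos hp.pos _) hc
    have := index_mem_degSubgroup L H (by rw [hidx]; exact hp.one_lt.ne')
    rwa [hidx] at this

end Galois

end Groth.Agent.R2.H86.ChowPt
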