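import Mathlib

/-!
# Etale coordinates at a point with finite residue field (helper library for S17854)

All declarations live in `Groth.Agent.R2.H86.EtaleChart`.
-/

set_option autoImplicit false
open TensorProduct
universe u v w

namespace Groth.Agent.R2.H86.EtaleChart

/-- The residue field `R ⧸ m` is finite. -/
theorem finite_quotient
    (k : Type u) [CommRing k] [IsLocalRing k] [Finite (IsLocalRing.ResidueField k)]
    (R : Type u) [CommRing R] [Algebra k R] [Algebra.FiniteType k R]
    (m : Ideal R) [m.IsMaximal] (hm : m.comap (algebraMap k R) = IsLocalRing.maximalIdeal k) :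
    Finite (R ⧸ m) := by
  have : m.LiesOver (IsLocalRing.maximalIdeal k) := ⟨hm.symm⟩
  let _ : Field (R ⧸ m) := Ideal.Quotient.field m
  have : Algebra.FiniteType k (R ⧸ m) :=
    Algebra.FiniteType.of_surjective (Ideal.Quotient.mkₐ k m) (Ideal.Quotient.mkₐ_surjective k m)
  have : Algebra.FiniteType (k ⧸ IsLocalRing.maximalIdeal k) (R ⧸ m) :=
    Algebra.FiniteType.of_restrictScalars_finiteType k _ _
  have : Finite (k ⧸ IsLocalRing.maximalIdeal k) := ‹Finite (IsLocalRing.ResidueField k)›
  let _ : Field (k ⧸ IsLocalRing.maximalIdeal k) := Ideal.Quotient.field _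
  have : Module.Finite (k ⧸ IsLocalRing.maximalIdeal k) (R ⧸ m) :=
    finite_of_finite_type_of_isJacobsonRing _ _
  exact Module.finite_of_finite (k ⧸ IsLocalRing.maximalIdeal k)

/-- From a spanning family of a finite-dimensional vector space of dimension `d`, extract
a basis indexed by `Fin d`. -/
theorem exists_fin_basis_of_span_eq_top {K : Type u} {V : Type v} {ι : Type w}
    [Field K] [AddCommGroup V] [Module K V] [Module.Finite K V]
    (f : ι → V) (hf : Submodule.span K (Set.range f) = ⊤) (d : ℕ) (hd : Module.finrank K V = d) :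
    ∃ x : Fin d → ι, Function.Bijective (Finsupp.linearCombination K (f ∘ x)) := by
  classical
  obtain ⟨b, hbt, hbspan, hbli⟩ := exists_linearIndependent K (Set.range f)
  rw [hf] at hbspan
  let B : Module.Basis b K V := Module.Basis.mk hbli (by simpa using hbspan.ge)
  have hfin : Finite b := Module.Finite.finite_basis B
  have : Fintype b := Fintype.ofFinite b
  have hcard : Fintype.card b = d := by
    rw [← hd, Module.finrank_eq_card_basis B]
  let e : Fin d ≃ b := (Fintype.equivFinOfCardEq hcard).symm
  have hch : ∀ i : Fin d, ∃ j : ι, f j = (e i : V) := fun i => hbt (e i).2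
  choose x hx using hch
  refine ⟨x, ?_⟩
  have hB' : f ∘ x = B.reindex e.symm := by
    funext i
    simp [hx, B]
  rw [hB']
  constructor
  · exact (B.reindex e.symm).linearIndependent
  · rw [← LinearMap.range_eq_top, Finsupp.range_linearCombination]
    exact (B.reindex e.symm).span_eq

/-- In characteristic `p` (on the coefficient field `κ`), `1 ⊗ d(s^p) = 0`. -/
theorem one_tmul_D_pow_eq_zero (k : Type u) [CommRing k] (R : Type u) [CommRing R] [Algebra k R]
    (κ : Type u) [Field κ] [Algebra R κ] (p : ℕ) [CharP κ p] (s : R) :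
    (1 : κ) ⊗ₜ[R] KaehlerDifferential.D k R (s ^ p) = 0 := by
  rw [Derivation.leibniz_pow, ← Nat.cast_smul_eq_nsmul R, smul_smul,
    TensorProduct.tmul_smul, TensorProduct.smul_tmul', Algebra.smul_def, map_mul, map_natCast,
    CharP.cast_eq_zero, zero_mul, zero_mul, zero_tmul]

/-- The elements `1 ⊗ dx` span `κ ⊗ Ω`. -/
theorem span_one_tmul_D (k : Type u) [CommRing k] (R : Type u) [CommRing R] [Algebra k R]
    (κ : Type u) [CommRing κ] [Algebra R κ] :
    Submodule.span κ (Set.range fun x : R => (1 : κ) ⊗ₜ[R] KaehlerDifferential.D k R x) = ⊤ := by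
  have h1 := Submodule.baseChange_span (A := κ) (R := R) (Set.range (KaehlerDifferential.D k R))
  rw [KaehlerDifferential.span_range_derivation, Submodule.baseChange_top] at h1
  rw [h1]
  congr 1
  ext z
  simp

/-- Coordinates at a maximal ideal with finite residue field: the differentials form a basis of
the fibre of `Ω`, and the first coordinate has a prescribed residue class. -/
theorem exists_coords (k : Type u) [CommRing k] (R : Type u) [CommRing R] [Algebra k R]
    [Algebra.FiniteType k R]
    (m : Ideal R) [m.IsMaximal] [Finite (R ⧸ m)] (d : ℕ) (hd : 0 < d)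
    (hdim : Module.finrank m.ResidueField (m.ResidueField ⊗[R] Ω[R⁄k]) = d) (θ : R ⧸ m) :
    ∃ y : Fin d → R,
      Function.Bijective (Finsupp.linearCombination m.ResidueField
        (fun i => (1 : m.ResidueField) ⊗ₜ[R] KaehlerDifferential.D k R (y i))) ∧
      Ideal.Quotient.mk m (y ⟨0, hd⟩) = θ := by
  classical
  let κ := m.ResidueField
  let L := R ⧸ m
  let _ : Field L := Ideal.Quotient.field m
  have : Module.Finite R Ω[R⁄k] := inferInstance
  have : Module.Finite κ (κ ⊗[R] Ω[R⁄k]) := inferInstance
  obtain ⟨x, hx⟩ := exists_fin_basis_of_span_eq_top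
    (fun x : R => (1 : κ) ⊗ₜ[R] KaehlerDifferential.D k R x) (span_one_tmul_D k R κ) d hdim
  obtain ⟨p, hpc⟩ := CharP.exists L
  have hpp : p.Prime := (CharP.char_is_prime_or_zero L p).resolve_right
    (fun h0 => by
      subst h0
      have : CharZero L := CharP.charP_to_charZero L
      exact not_finite L)
  have : Fact p.Prime := ⟨hpp⟩
  have : CharP κ p := charP_of_injective_algebraMap
    (m.bijective_algebraMap_quotient_residueField).injective p
  obtain ⟨c', hc'⟩ := surjective_frobenius L p (θ - Ideal.Quotient.mk m (x ⟨0, hd⟩))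
  obtain ⟨s', rfl⟩ := Ideal.Quotient.mk_surjective c'
  refine ⟨Function.update x ⟨0, hd⟩ (x ⟨0, hd⟩ + s' ^ p), ?_, ?_⟩
  · have hfun : (fun i => (1 : m.ResidueField) ⊗ₜ[R] KaehlerDifferential.D k R
        (Function.update x ⟨0, hd⟩ (x ⟨0, hd⟩ + s' ^ p) i)) =
        ((fun x : R => (1 : κ) ⊗ₜ[R] KaehlerDifferential.D k R x) ∘ x) := by
      funext i
      by_cases hi : i = ⟨0, hd⟩
      · subst hi
        simp only [Function.update_self, Function.comp_apply, map_add, tmul_add]
        rw [one_tmul_D_pow_eq_zero k R κ p s', add_zero]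
      · simp [Function.update_of_ne hi]
    rw [hfun]
    exact hx
  · rw [Function.update_self, map_add, map_pow]
    rw [frobenius_def] at hc'
    rw [hc']
    ring

/-- The comparison isomorphism `κ(m) ⊗_R Ω_{R/k} ≃ κ(m) ⊗_{R_m} Ω_{R_m/k}`. -/
noncomputable def fiberEquiv (k : Type u) [CommRing k] (R : Type u) [CommRing R] [Algebra k R]
    (m : Ideal R) [m.IsPrime] :
    m.ResidueField ⊗[R] Ω[R⁄k] ≃ₗ[m.ResidueField]
      m.ResidueField ⊗[Localization.AtPrime m] Ω[Localization.AtPrime m⁄k] :=
  (AlgebraTensorModule.cancelBaseChange R (Localization.AtPrime m) m.ResidueField m.ResidueField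
      Ω[R⁄k]).symm ≪≫ₗ
    AlgebraTensorModule.congr (LinearEquiv.refl m.ResidueField m.ResidueField)
      ((IsLocalizedModule.isBaseChange m.primeCompl (Localization.AtPrime m)
        (KaehlerDifferential.map k k R (Localization.AtPrime m))).equiv)

theorem fiberEquiv_one_tmul_D (k : Type u) [CommRing k] (R : Type u) [CommRing R] [Algebra k R]
    (m : Ideal R) [m.IsPrime] (y : R) :
    fiberEquiv k R m ((1 : m.ResidueField) ⊗ₜ[R] KaehlerDifferential.D k R y) =
      (1 : m.ResidueField) ⊗ₜ[Localization.AtPrime m]
        KaehlerDifferential.D k (Localization.AtPrime m)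
          (algebraMap R (Localization.AtPrime m) y) := by
  simp [fiberEquiv, IsBaseChange.equiv_tmul]

/-- A family of elements of `R` whose differentials form a basis of the fibre of `Ω_{R/k}` at `m`
gives a basis of `Ω_{R_m/k}` when `R` is smooth over `k` at `m`. -/
theorem local_basis (k : Type u) [CommRing k] (R : Type u) [CommRing R] [Algebra k R]
    [Algebra.FiniteType k R]
    (m : Ideal R) [m.IsPrime] [Algebra.IsSmoothAt k m] {ι : Type} (y : ι → R)
    (hy : Function.Bijective (Finsupp.linearCombination m.ResidueField
        (fun i => (1 : m.ResidueField) ⊗ₜ[R] KaehlerDifferential.D k R (y i)))) :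
    Function.Bijective (Finsupp.linearCombination (Localization.AtPrime m)
        (fun i => KaehlerDifferential.D k (Localization.AtPrime m)
          (algebraMap R (Localization.AtPrime m) (y i)))) := by
  have : Algebra.EssFiniteType R (Localization.AtPrime m) :=
    .of_isLocalization _ m.primeCompl
  have : Algebra.EssFiniteType k (Localization.AtPrime m) := .comp _ R _
  have : Module.Finite (Localization.AtPrime m) Ω[Localization.AtPrime m⁄k] := inferInstance
  have hproj : Module.Projective (Localization.AtPrime m) Ω[Localization.AtPrime m⁄k] :=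
    ((Algebra.formallySmooth_iff k (Localization.AtPrime m)).mp inferInstance).1
  have : Module.Flat (Localization.AtPrime m) Ω[Localization.AtPrime m⁄k] := inferInstance
  apply Module.IsLocalRing.linearCombination_bijective_of_flat
  have hcomp : (TensorProduct.mk (Localization.AtPrime m)
      (IsLocalRing.ResidueField (Localization.AtPrime m)) Ω[Localization.AtPrime m⁄k] 1 ∘
        fun i => KaehlerDifferential.D k (Localization.AtPrime m)
          (algebraMap R (Localization.AtPrime m) (y i))) =
      (fiberEquiv k R m ∘ fun i => (1 : m.ResidueField) ⊗ₜ[R] KaehlerDifferential.D k R (y i)) := by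
    funext i
    simp only [Function.comp_apply, fiberEquiv_one_tmul_D]
    rfl
  rw [hcomp]
  have := Finsupp.apply_linearCombination m.ResidueField (fiberEquiv k R m).toLinearMap
    (fun i => (1 : m.ResidueField) ⊗ₜ[R] KaehlerDifferential.D k R (y i))
  have h2 : ⇑(Finsupp.linearCombination m.ResidueField
      (fiberEquiv k R m ∘ fun i => (1 : m.ResidueField) ⊗ₜ[R] KaehlerDifferential.D k R (y i))) =
      (fiberEquiv k R m) ∘ (Finsupp.linearCombination m.ResidueField
        (fun i => (1 : m.ResidueField) ⊗ₜ[R] KaehlerDifferential.D k R (y i))) := by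
    funext l
    exact (this l).symm
  erw [h2]
  exact (fiberEquiv k R m).bijective.comp hy

/-- Jacobi–Zariski criterion: if `T` is formally smooth over `k` and `T ⊗_P Ω_{P/k} → Ω_{T/k}` is
bijective, then `T` is formally étale over `P`. -/
theorem formallyEtale_of_bijective_mapBaseChange (k : Type u) (P : Type v) (T : Type w)
    [CommRing k] [CommRing P] [CommRing T] [Algebra k P] [Algebra k T] [Algebra P T]
    [IsScalarTower k P T] [Algebra.FormallySmooth k T]
    (h : Function.Bijective (KaehlerDifferential.mapBaseChange k P T)) :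
    Algebra.FormallyEtale P T := by
  rw [Algebra.formallyEtale_iff]
  constructor
  · refine ⟨fun a b => ?_⟩
    have key : ∀ z : Ω[T⁄P], z = 0 := by
      intro z
      obtain ⟨w, rfl⟩ := KaehlerDifferential.map_surjective k P T z
      obtain ⟨t, rfl⟩ := h.2 w
      exact (KaehlerDifferential.exact_mapBaseChange_map k P T _).mpr ⟨t, rfl⟩
    rw [key a, key b]
  · have hsub : Subsingleton (Algebra.H1Cotangent k T) :=
      ((Algebra.formallySmooth_iff k T).mp inferInstance).2
    refine ⟨fun a b => ?_⟩
    have key : ∀ z : Algebra.H1Cotangent P T, z = 0 := by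
      intro z
      have h1 : Algebra.H1Cotangent.δ k P T z = 0 := by
        apply h.1
        rw [map_zero]
        exact (Algebra.H1Cotangent.exact_δ_mapBaseChange k P T _).mpr ⟨z, rfl⟩
      obtain ⟨w, rfl⟩ := (Algebra.H1Cotangent.exact_map_δ k P T z).mp h1
      rw [Subsingleton.elim w 0, map_zero]
    rw [key a, key b]

/-- If the differentials of the images of the variables form a basis of `Ω_{T/k}`, then
`T ⊗_P Ω_{P/k} → Ω_{T/k}` is bijective for the polynomial ring `P`. -/
theorem bijective_mapBaseChange_mvPolynomial (k : Type u) [CommRing k] (ι : Type v) (T : Type w)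
    [CommRing T] [Algebra k T] [Algebra (MvPolynomial ι k) T] [IsScalarTower k (MvPolynomial ι k) T]
    (h : Function.Bijective (Finsupp.linearCombination T
      (fun i : ι => KaehlerDifferential.D k T (algebraMap (MvPolynomial ι k) T (MvPolynomial.X i))))) :
    Function.Bijective (KaehlerDifferential.mapBaseChange k (MvPolynomial ι k) T) := by
  classical
  let b := (KaehlerDifferential.mvPolynomialBasis k ι).baseChange T
  have hcomp : KaehlerDifferential.mapBaseChange k (MvPolynomial ι k) T =
      (Finsupp.linearCombination T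
      (fun i : ι => KaehlerDifferential.D k T (algebraMap (MvPolynomial ι k) T (MvPolynomial.X i)))) ∘ₗ
        b.repr.toLinearMap := by
    apply b.ext
    intro i
    have hb : b i = (1 : T) ⊗ₜ[MvPolynomial ι k]
        KaehlerDifferential.D k (MvPolynomial ι k) (MvPolynomial.X i) := by
      simp [b, KaehlerDifferential.mvPolynomialBasis_apply]
    rw [LinearMap.comp_apply, LinearEquiv.coe_coe, b.repr_self, Finsupp.linearCombination_single,
      one_smul, hb]
    simp
  rw [hcomp]
  exact h.comp b.repr.bijective


theorem finrank_fiber_eq (k : Type u) [CommRing k] (R : Type u) [CommRing R] [Algebra k R]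
    (m : Ideal R) [m.IsMaximal] (d : ℕ)
    (hdim : Module.finrank (R ⧸ m) ((R ⧸ m) ⊗[R] Ω[R⁄k]) = d) :
    Module.finrank m.ResidueField (m.ResidueField ⊗[R] Ω[R⁄k]) = d := by
  let _ : Field (R ⧸ m) := Ideal.Quotient.field m
  let e : m.ResidueField ⊗[R ⧸ m] ((R ⧸ m) ⊗[R] Ω[R⁄k]) ≃ₗ[m.ResidueField]
      m.ResidueField ⊗[R] Ω[R⁄k] :=
    AlgebraTensorModule.cancelBaseChange R (R ⧸ m) m.ResidueField m.ResidueField Ω[R⁄k]
  rw [← e.finrank_eq, Module.finrank_baseChange, hdim]

/-- In a finite field, a subalgebra-like image containing a generator of the unit group is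
everything: every element is `0` or a natural power of the generator. -/
theorem eq_zero_or_pow_of_generator {L : Type u} [Field L] [Finite L] (θ : Lˣ)
    (hθ : ∀ x : Lˣ, x ∈ Subgroup.zpowers θ) (l : L) : l = 0 ∨ ∃ n : ℕ, l = (θ : L) ^ n := by
  by_cases hl : l = 0
  · exact Or.inl hl
  · right
    have h1 := hθ (Units.mk0 l hl)
    rw [← mem_powers_iff_mem_zpowers] at h1
    obtain ⟨n, hn⟩ := h1
    refine ⟨n, ?_⟩
    have := congrArg (fun u : Lˣ => (u : L)) hn
    simpa using this.symm

/-- The étale chart theorem with finite residue field. -/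
theorem etale_chart
    (k : Type u) [CommRing k] [IsLocalRing k] [Finite (IsLocalRing.ResidueField k)]
    (R : Type u) [CommRing R] [Algebra k R] [Algebra.FinitePresentation k R]
    (m : Ideal R) [m.IsMaximal] (hm : m.comap (algebraMap k R) = IsLocalRing.maximalIdeal k)
    [Algebra.IsSmoothAt k m] (d : ℕ) (hd : 0 < d)
    (hdim : Module.finrank (R ⧸ m) ((R ⧸ m) ⊗[R] KaehlerDifferential k R) = d) :
    ∃ g : R, g ∉ m ∧ ∃ φ : MvPolynomial (Fin d) k →ₐ[k] Localization.Away g,
      φ.toRingHom.Etale ∧
      Function.Surjective
        ((Ideal.Quotient.mk (m.map (algebraMap R (Localization.Away g)))).comp φ.toRingHom) := by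
  classical
  have hfin : Finite (R ⧸ m) := finite_quotient k R m hm
  let _ : Field (R ⧸ m) := Ideal.Quotient.field m
  obtain ⟨θ, hθ⟩ := IsCyclic.exists_generator (α := (R ⧸ m)ˣ)
  obtain ⟨y, hy, hy0⟩ := exists_coords k R m d hd (finrank_fiber_eq k R m d hdim) (θ : R ⧸ m)
  have hloc := local_basis k R m y hy
  let φ₀ : MvPolynomial (Fin d) k →ₐ[k] R := MvPolynomial.aeval y
  let _ : Algebra (MvPolynomial (Fin d) k) R := φ₀.toRingHom.toAlgebra
  have hst : IsScalarTower k (MvPolynomial (Fin d) k) R :=
    IsScalarTower.of_algebraMap_eq' φ₀.comp_algebraMap.symm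
  have hfp : Algebra.FinitePresentation (MvPolynomial (Fin d) k) R :=
    Algebra.FinitePresentation.of_restrict_scalars_finitePresentation k _ R
  have hst2 : IsScalarTower k (MvPolynomial (Fin d) k) (Localization.AtPrime m) := by
    refine IsScalarTower.of_algebraMap_eq' ?_
    rw [IsScalarTower.algebraMap_eq k R (Localization.AtPrime m),
      IsScalarTower.algebraMap_eq (MvPolynomial (Fin d) k) R (Localization.AtPrime m),
      RingHom.comp_assoc, ← IsScalarTower.algebraMap_eq k (MvPolynomial (Fin d) k) R]
  have hX : ∀ i, algebraMap (MvPolynomial (Fin d) k) (Localization.AtPrime m) (MvPolynomial.X i) =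
      algebraMap R (Localization.AtPrime m) (y i) := by
    intro i
    rw [IsScalarTower.algebraMap_apply (MvPolynomial (Fin d) k) R (Localization.AtPrime m)]
    congr 1
    exact MvPolynomial.aeval_X y i
  have hbij : Function.Bijective (KaehlerDifferential.mapBaseChange k (MvPolynomial (Fin d) k)
      (Localization.AtPrime m)) := by
    apply bijective_mapBaseChange_mvPolynomial
    simp only [hX]
    exact hloc
  have het : Algebra.IsEtaleAt (MvPolynomial (Fin d) k) m :=
    formallyEtale_of_bijective_mapBaseChange k _ _ hbij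
  obtain ⟨g, hg, hget⟩ := Algebra.exists_etale_of_isEtaleAt (R := MvPolynomial (Fin d) k) m
  refine ⟨g, hg, (IsScalarTower.toAlgHom k R (Localization.Away g)).comp φ₀, ?_, ?_⟩
  · have hf : ((IsScalarTower.toAlgHom k R (Localization.Away g)).comp φ₀).toRingHom =
        algebraMap (MvPolynomial (Fin d) k) (Localization.Away g) := by
      rw [IsScalarTower.algebraMap_eq (MvPolynomial (Fin d) k) R (Localization.Away g)]
      rfl
    rw [hf]
    exact RingHom.etale_algebraMap.mpr hget
  · -- surjectivity onto the residue ring
    intro q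
    obtain ⟨z, rfl⟩ := Ideal.Quotient.mk_surjective q
    obtain ⟨r, s, rfl⟩ := IsLocalization.exists_mk'_eq (Submonoid.powers g) z
    obtain ⟨n, hn⟩ := s.2
    obtain ⟨h, i, hi, hgh⟩ := Ideal.IsMaximal.exists_inv (I := m) inferInstance hg
    -- the class of `r / g^n` equals the class of `r * h^n`
    have hq : Ideal.Quotient.mk (m.map (algebraMap R (Localization.Away g)))
        (IsLocalization.mk' (Localization.Away g) r s) =
        Ideal.Quotient.mk (m.map (algebraMap R (Localization.Away g)))
          (algebraMap R (Localization.Away g) (r * h ^ n)) := by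
      have hmem : 1 - (g * h) ^ n ∈ m := by
        rw [← Ideal.Quotient.eq_zero_iff_mem, map_sub, map_one, map_pow, map_mul]
        have h1 : Ideal.Quotient.mk m h * Ideal.Quotient.mk m g = 1 := by
          have := congrArg (Ideal.Quotient.mk m) hgh
          rw [map_add, map_mul, Ideal.Quotient.eq_zero_iff_mem.mpr hi, add_zero, map_one] at this
          exact this
        rw [mul_comm, h1, one_pow, sub_self]
      have hrs : algebraMap R (Localization.Away g) r =
          IsLocalization.mk' (Localization.Away g) r s * algebraMap R (Localization.Away g) (g ^ n) := by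
        have hn' : (s : R) = g ^ n := hn.symm
        rw [← hn', IsLocalization.mk'_spec]
      rw [Ideal.Quotient.eq]
      have : IsLocalization.mk' (Localization.Away g) r s -
          algebraMap R (Localization.Away g) (r * h ^ n) =
          IsLocalization.mk' (Localization.Away g) r s *
            algebraMap R (Localization.Away g) (1 - (g * h) ^ n) := by
        rw [map_mul, hrs, map_sub, map_one, mul_pow, map_mul]
        ring
      rw [this]
      exact Ideal.mul_mem_left _ _ (Ideal.mem_map_of_mem _ hmem)
    -- find a polynomial with the right residue class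
    have hsurj : ∀ l : R ⧸ m, ∃ P : MvPolynomial (Fin d) k, Ideal.Quotient.mk m (φ₀ P) = l := by
      intro l
      rcases eq_zero_or_pow_of_generator θ hθ l with h0 | ⟨j, hj⟩
      · exact ⟨0, by simp [h0]⟩
      · refine ⟨MvPolynomial.X ⟨0, hd⟩ ^ j, ?_⟩
        rw [map_pow, map_pow, hj]
        congr 1
        rw [← hy0]
        congr 1
        exact MvPolynomial.aeval_X y _
    obtain ⟨P, hP⟩ := hsurj (Ideal.Quotient.mk m (r * h ^ n))
    refine ⟨P, ?_⟩
    rw [hq]
    change Ideal.Quotient.mk _ (algebraMap R (Localization.Away g) (φ₀ P)) = _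
    rw [Ideal.Quotient.eq, ← map_sub]
    apply Ideal.mem_map_of_mem
    exact Ideal.Quotient.eq.mp hP

end Groth.Agent.R2.H86.EtaleChart
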