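import Mathlib
import Groth.Prelude.Def_BlowUp2
import Groth.Agent.R2.H86BlowLocal
import Groth.Agent.R2.H86CartierCompl

/-!
# helper86: finite birational morphisms which are isomorphisms off an effective Cartier divisor are
blow-ups (S7894)
-/

set_option autoImplicit false
universe u

open CategoryTheory CategoryTheory.Limits AlgebraicGeometry TopologicalSpace

namespace Groth.Agent.R2.H86.FinBir

section Ring

variable {A B A' B' : Type*} [CommRing A] [CommRing B] [CommRing A'] [CommRing B']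
  [Algebra A A'] [Algebra B B'] (φ : A →+* B) (ψ : A' →+* B') (ℓ : A)
  [IsLocalization.Away ℓ A'] [IsLocalization.Away (φ ℓ) B']
  (hψ : ψ.comp (algebraMap A A') = (algebraMap B B').comp φ)

include hψ in
theorem injective_of_loc (hℓ : ℓ ∈ nonZeroDivisors A) (hinj : Function.Injective ψ) :
    Function.Injective φ := by
  rw [injective_iff_map_eq_zero]
  intro a ha
  have h1 : ψ (algebraMap A A' a) = 0 := by
    have := congrArg (fun χ : A →+* B' => χ a) hψ
    simp only [RingHom.comp_apply] at this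
    rw [this, ha, map_zero]
  have h2 : algebraMap A A' a = 0 := (injective_iff_map_eq_zero ψ).mp hinj _ h1
  rw [IsLocalization.map_eq_zero_iff (Submonoid.powers ℓ)] at h2
  obtain ⟨⟨_, n, rfl⟩, hn⟩ := h2
  exact (mem_nonZeroDivisors_iff.mp (pow_mem hℓ n)).1 _ hn

include hψ in
theorem exists_pow_mul_eq (hsurj : Function.Surjective ψ) (b : B) :
    ∃ (n : ℕ) (a : A), φ ℓ ^ n * b = φ a := by
  obtain ⟨a', ha'⟩ := hsurj (algebraMap B B' b)
  obtain ⟨k, a, hka⟩ := IsLocalization.Away.surj ℓ a'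
  -- hka : a' * algebraMap ℓ ^ k = algebraMap a
  have h1 : algebraMap B B' (φ ℓ ^ k * b - φ a) = 0 := by
    have e1 := congrArg (fun χ : A →+* B' => χ a) hψ
    have e2 := congrArg (fun χ : A →+* B' => χ ℓ) hψ
    simp only [RingHom.comp_apply] at e1 e2
    rw [map_sub, map_mul, map_pow, ← e1, ← e2, ← ha', ← hka, map_mul, map_pow]
    ring
  rw [IsLocalization.map_eq_zero_iff (Submonoid.powers (φ ℓ))] at h1
  obtain ⟨⟨_, m, rfl⟩, hm⟩ := h1
  refine ⟨m + k, ℓ ^ m * a, ?_⟩
  have : φ ℓ ^ m * (φ ℓ ^ k * b - φ a) = 0 := hm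
  rw [map_mul, map_pow, pow_add, mul_assoc]
  linear_combination this

include hψ in
theorem exists_pow_forall (hsurj : Function.Surjective ψ) (hfin : φ.Finite) :
    ∃ n : ℕ, ∀ b : B, ∃ a : A, φ ℓ ^ n * b = φ a := by
  letI := φ.toAlgebra
  have hfin' : Module.Finite A B := hfin
  obtain ⟨S, hS⟩ := hfin'.fg_top
  choose n a hna using exists_pow_mul_eq φ ψ ℓ hψ hsurj
  refine ⟨S.sup n, fun b => ?_⟩
  have hb : b ∈ Submodule.span A (S : Set B) := by rw [hS]; trivial
  induction hb using Submodule.span_induction with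
  | mem x hx =>
    have hle : n x ≤ S.sup n := Finset.le_sup hx
    obtain ⟨d, hd⟩ := Nat.exists_eq_add_of_le hle
    refine ⟨ℓ ^ d * a x, ?_⟩
    rw [hd, pow_add, map_mul, map_pow, ← hna x]
    ring
  | zero => exact ⟨0, by simp⟩
  | add x y _ _ hx hy =>
    obtain ⟨ax, hax⟩ := hx
    obtain ⟨ay, hay⟩ := hy
    exact ⟨ax + ay, by rw [mul_add, hax, hay, map_add]⟩
  | smul c x _ hx =>
    obtain ⟨ax, hax⟩ := hx
    refine ⟨c * ax, ?_⟩
    rw [Algebra.smul_def, map_mul, ← hax]
    show φ ℓ ^ S.sup n * (φ c * x) = _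
    ring

end Ring

section Geom

variable {X Y : Scheme.{u}} (f : X ⟶ Y)

/-- if `f` is an isomorphism over `W`, it induces isomorphisms on sections over opens `D ≤ W`. -/
theorem isIso_app_of_le (W : Y.Opens) [IsIso (f ∣_ W)] (D : Y.Opens) (hD : D ≤ W) :
    IsIso (f.app D) := by
  have h1 : IsIso ((f ∣_ W).app (W.ι ⁻¹ᵁ D)) := inferInstance
  rw [morphismRestrict_app] at h1
  have h2 : IsIso (f.app (W.ι ''ᵁ (W.ι ⁻¹ᵁ D))) :=
    @IsIso.of_isIso_comp_right _ _ _ _ _ _
      (X.presheaf.map (eqToHom (image_morphismRestrict_preimage f W (W.ι ⁻¹ᵁ D))).op) inferInstance h1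
  have h3 : W.ι ''ᵁ (W.ι ⁻¹ᵁ D) = D := by
    rw [Scheme.Hom.image_preimage_eq_opensRange_inf, Scheme.Opens.opensRange_ι]
    exact inf_eq_right.mpr hD
  rwa [h3] at h2

variable [IsFinite f] [IsReduced X] (L : Y.IdealSheafData)

open Groth.Agent.R2.H86.CartierCompl in
/-- the affine-local algebra behind S7894. -/
theorem affine_data (hiso : IsIso (f ∣_ L.support.compl))
    (hdense : Dense (f.base ⁻¹' ((L.support : Set Y)ᶜ)))
    (V : Y.affineOpens) (ℓ : Γ(Y, V.1)) (hℓ : ℓ ∈ nonZeroDivisors Γ(Y, V.1))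
    (hLV : L.ideal V = Ideal.span {ℓ}) :
    Function.Injective (f.app V.1).hom ∧
      (f.app V.1).hom ℓ ∈ nonZeroDivisors Γ(X, f ⁻¹ᵁ V.1) ∧
      ∃ n : ℕ, ∀ b : Γ(X, f ⁻¹ᵁ V.1), ∃ a : Γ(Y, V.1),
        (f.app V.1).hom ℓ ^ n * b = (f.app V.1).hom a := by
  have hD : L.support.compl ⊓ V.1 = Y.basicOpen ℓ := compl_support_inf_eq_basicOpen L V ℓ hLV
  have hDW : Y.basicOpen ℓ ≤ L.support.compl := hD ▸ inf_le_left
  have hDV : Y.basicOpen ℓ ≤ V.1 := Y.basicOpen_le ℓ
  have hpre : f ⁻¹ᵁ Y.basicOpen ℓ = X.basicOpen ((f.app V.1).hom ℓ) := Scheme.preimage_basicOpen f ℓ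
  letI algA : Algebra Γ(Y, V.1) Γ(Y, Y.basicOpen ℓ) :=
    (Y.presheaf.map (homOfLE hDV).op).hom.toAlgebra
  letI algB : Algebra Γ(X, f ⁻¹ᵁ V.1) Γ(X, f ⁻¹ᵁ Y.basicOpen ℓ) :=
    (X.presheaf.map (homOfLE (f.preimage_mono hDV)).op).hom.toAlgebra
  haveI locA : IsLocalization.Away ℓ Γ(Y, Y.basicOpen ℓ) := V.2.isLocalization_basicOpen ℓ
  haveI locB : IsLocalization.Away ((f.app V.1).hom ℓ) Γ(X, f ⁻¹ᵁ Y.basicOpen ℓ) :=
    (V.2.preimage f).isLocalization_of_eq_basicOpen ((f.app V.1).hom ℓ)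
      (homOfLE (f.preimage_mono hDV)) hpre
  haveI := isIso_app_of_le f L.support.compl (Y.basicOpen ℓ) hDW
  have hbij : Function.Bijective (f.app (Y.basicOpen ℓ)).hom :=
    ConcreteCategory.bijective_of_isIso (f.app (Y.basicOpen ℓ))
  have hψ : (f.app (Y.basicOpen ℓ)).hom.comp (algebraMap Γ(Y, V.1) Γ(Y, Y.basicOpen ℓ)) =
      (algebraMap Γ(X, f ⁻¹ᵁ V.1) Γ(X, f ⁻¹ᵁ Y.basicOpen ℓ)).comp (f.app V.1).hom := by
    have := f.naturality (homOfLE hDV).op
    exact congrArg CommRingCat.Hom.hom this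
  refine ⟨injective_of_loc (f.app V.1).hom (f.app (Y.basicOpen ℓ)).hom ℓ hψ hℓ hbij.1, ?_,
    exists_pow_forall (f.app V.1).hom (f.app (Y.basicOpen ℓ)).hom ℓ hψ hbij.2
      (f.finite_app V.1 V.2)⟩
  -- `φ ℓ` is a nonzerodivisor
  rw [mem_nonZeroDivisors_iff_right]
  intro b hb
  rw [← AlgebraicGeometry.basicOpen_eq_bot_iff]
  by_contra hne
  have hne' : ((X.basicOpen b : X.Opens) : Set X).Nonempty := by
    rw [Set.nonempty_iff_ne_empty]
    intro h0
    exact hne (Opens.ext h0)
  obtain ⟨x, hxb, hxW⟩ := hdense.inter_open_nonempty _ (X.basicOpen b).2 hne'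
  have hxV : x ∈ f ⁻¹ᵁ V.1 := X.basicOpen_le b hxb
  have hx1 : f.base x ∈ Y.basicOpen ℓ := by
    rw [← hD]
    exact ⟨hxW, hxV⟩
  have hx2 : x ∈ X.basicOpen ((f.app V.1).hom ℓ) := by
    rw [← hpre]
    exact hx1
  have hx3 : x ∈ X.basicOpen (b * (f.app V.1).hom ℓ) := by
    rw [Scheme.basicOpen_mul]
    exact ⟨hxb, hx2⟩
  rw [hb, Scheme.basicOpen_zero] at hx3
  exact hx3

/-- the ideal of `((L ^ N).comap f).map f` on an affine open where `L` is principal. -/
theorem ideal_map_comap_pow (N : ℕ) (V : Y.affineOpens) (ℓ : Γ(Y, V.1))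
    (hLV : L.ideal V = Ideal.span {ℓ}) :
    (((L ^ N).comap f).map f).ideal V =
      (Ideal.span {(f.app V.1).hom ℓ ^ N}).comap (f.app V.1).hom := by
  rw [Scheme.IdealSheafData.ideal_map_of_isAffineHom,
    Groth.Agent.Lib.Helper20.EffCartier.ideal_comap_eq_map f (L ^ N) (V.2.preimage f) V.2 le_rfl,
    ← Scheme.Hom.app_eq_appLE, Scheme.IdealSheafData.ideal_pow, Pi.pow_apply, hLV,
    Ideal.span_singleton_pow, Ideal.map_span, Set.image_singleton, map_pow]

open Groth.Agent.R2.H86.CartierCompl Groth.Agent.R2.H86.BlowLocal in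
/-- **S7894**: a finite morphism to a quasi-compact scheme, from a reduced scheme, which is an
isomorphism off an effective Cartier divisor `V(L)` with dense preimage of the complement, is the
blow-up of an ideal with support `V(L)`. -/
theorem exists_isBlowUp_of_finite [CompactSpace Y] (hL : BlowUp.IsEffCartierIdeal L)
    (hiso : IsIso (f ∣_ L.support.compl))
    (hdense : Dense (f.base ⁻¹' ((L.support : Set Y)ᶜ))) :
    ∃ I : Y.IdealSheafData, I.support = L.support ∧ BlowUp.IsBlowUp f I := by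
  choose V hyV ℓ hℓ hLV using hL
  have data := fun y => affine_data f L hiso hdense (V y) (ℓ y) (hℓ y) (hLV y)
  choose n hn using fun y => (data y).2.2
  obtain ⟨t, ht⟩ := isCompact_univ.elim_finite_subcover (fun y => ((V y).1 : Set Y))
    (fun y => (V y).1.2) (fun y _ => Set.mem_iUnion.2 ⟨y, hyV y⟩)
  set N := t.sup n + 1 with hN
  refine ⟨((L ^ N).comap f).map f, ?_, ?_⟩
  · -- support
    have hsurj : Function.Surjective f := by
      have hcl : IsClosed (Set.range f) := f.isClosedMap.isClosed_range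
      have hW : ((L.support.compl : Y.Opens) : Set Y) ⊆ Set.range f := by
        intro y hy
        have : Function.Surjective (f ∣_ L.support.compl) :=
          (ConcreteCategory.bijective_of_isIso (f ∣_ L.support.compl).base).2
        obtain ⟨x, hx⟩ := this ⟨y, hy⟩
        have h1 : ((f ∣_ L.support.compl) x).1 = y := congrArg Subtype.val hx
        exact ⟨x.1, (morphismRestrict_base_coe f L.support.compl x).symm.trans h1⟩
      have hd : Dense ((L.support.compl : Y.Opens) : Set Y) := by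
        have haff := isAffineHom_ι_compl_support L (fun y => ⟨V y, hyV y, ℓ y, hℓ y, hLV y⟩)
        have hk := ker_ι_compl_support L (fun y => ⟨V y, hyV y, ℓ y, hℓ y, hLV y⟩)
        have h2 := Scheme.Hom.support_ker (Scheme.Opens.ι (L.support.compl : Y.Opens))
        rw [hk, Scheme.Opens.range_ι] at h2
        rw [dense_iff_closure_eq, ← h2]
        rfl
      have : Set.range f = Set.univ :=
        Set.eq_univ_of_univ_subset (hd.closure_eq ▸ closure_minimal hW hcl)
      exact Set.range_eq_univ.mp this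
    ext1
    rw [Scheme.IdealSheafData.support_map, TopologicalSpace.Closeds.coe_closure,
      Scheme.IdealSheafData.support_comap, TopologicalSpace.Closeds.coe_preimage,
      Scheme.IdealSheafData.support_pow L N (by omega),
      Set.image_preimage_eq _ hsurj, L.support.isClosed.closure_eq]
  · -- blow-up
    refine isBlowUp_of_iSup_eq_top f _ (fun y : t => (V y.1).1) ?_ fun y => ?_
    · rw [eq_top_iff]
      intro y _
      obtain ⟨y', hy't, hy'⟩ : ∃ y' ∈ t, y ∈ (V y').1 := by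
        have := ht (Set.mem_univ y)
        simpa using this
      exact Opens.mem_iSup.mpr ⟨⟨y', hy't⟩, hy'⟩
    · obtain ⟨y, hyt⟩ := y
      have hnN : n y ≤ N := (Finset.le_sup hyt).trans (Nat.le_succ _)
      have hI : (((L ^ N).comap f).map f).ideal ⟨(V y).1, (V y).2⟩ =
          (Ideal.span {(f.app (V y).1).hom (ℓ y) ^ N}).comap (f.app (V y).1).hom :=
        ideal_map_comap_pow f L N (V y) (ℓ y) (hLV y)
      refine isBlowUp_morphismRestrict_of_affine f _ (V y).1 (V y).2 ((V y).2.preimage f)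
        (data y).1 ?_ ((f.app (V y).1).hom (ℓ y) ^ N) (pow_mem (data y).2.1 N) ?_
      · -- hIB
        intro x hx
        rw [hI] at hx ⊢
        have hx' : x ∈ Ideal.span {(f.app (V y).1).hom (ℓ y) ^ N} := Ideal.map_comap_le hx
        obtain ⟨c, rfl⟩ := Ideal.mem_span_singleton'.mp hx'
        obtain ⟨a, ha⟩ := hn y c
        obtain ⟨d, hd⟩ := Nat.exists_eq_add_of_le hnN
        refine ⟨ℓ y ^ d * a, ?_, ?_⟩
        · rw [Ideal.mem_comap, map_mul, map_pow, ← ha, Ideal.mem_span_singleton']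
          refine ⟨c, ?_⟩
          rw [hd, pow_add]
          ring
        · rw [map_mul, map_pow, ← ha, hd, pow_add]
          ring
      · -- hgen
        rw [hI]
        apply le_antisymm Ideal.map_comap_le
        rw [Ideal.span_singleton_le_iff_mem, ← map_pow]
        apply Ideal.mem_map_of_mem
        rw [Ideal.mem_comap, map_pow]
        exact Ideal.mem_span_singleton_self _

end Geom

end Groth.Agent.R2.H86.FinBir
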