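import Mathlib

/-!
# Scheme-theoretic closure of a graph (helper86)

`U ⊆ X` open, `γ : U ⟶ P` quasi-compact, `q : P ⟶ X` separated with `γ ≫ q = U.ι`.  Then the
scheme-theoretic image `X'` of `γ` maps isomorphically to `U` over `U`.
-/

set_option autoImplicit false
universe u
open CategoryTheory CategoryTheory.Limits AlgebraicGeometry TopologicalSpace

namespace Groth.Agent.R2.H86.GraphClosure

theorem isIso_ι_of_eq_top {X : Scheme.{u}} (O : X.Opens) (h : O = ⊤) : IsIso O.ι := by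
  subst h
  exact X.topIso.isIso_hom

section

variable {X P : Scheme.{u}} (U : X.Opens) (γ : (U : Scheme.{u}) ⟶ P) [QuasiCompact γ]
  (q : P ⟶ X) [IsSeparated q] (hγ : γ ≫ q = U.ι)

omit [QuasiCompact γ] [IsSeparated q] in
include hγ in
theorem preimage_eq_top : γ ⁻¹ᵁ (q ⁻¹ᵁ U) = ⊤ := by
  ext x
  simp only [Opens.coe_top, Set.mem_univ, iff_true]
  have : q (γ x) = U.ι x := by
    rw [← hγ]; rfl
  change q (γ x) ∈ U
  rw [this]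
  exact x.2

/-- `γ` with codomain restricted to `q⁻¹ U`. -/
noncomputable def i₁ : (U : Scheme.{u}) ⟶ (q ⁻¹ᵁ U : P.Opens) :=
  have := isIso_ι_of_eq_top _ (preimage_eq_top U γ q hγ)
  inv (γ ⁻¹ᵁ (q ⁻¹ᵁ U)).ι ≫ γ ∣_ (q ⁻¹ᵁ U)

omit [QuasiCompact γ] [IsSeparated q] in
@[reassoc]
theorem i₁_ι : i₁ U γ q hγ ≫ (q ⁻¹ᵁ U).ι = γ := by
  have := isIso_ι_of_eq_top _ (preimage_eq_top U γ q hγ)
  rw [i₁, Category.assoc, morphismRestrict_ι, IsIso.inv_hom_id_assoc]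

omit [QuasiCompact γ] [IsSeparated q] in
theorem i₁_restrict : i₁ U γ q hγ ≫ q ∣_ U = 𝟙 _ := by
  rw [← cancel_mono U.ι, Category.assoc, morphismRestrict_ι, i₁_ι_assoc, hγ, Category.id_comp]

omit [QuasiCompact γ] in
theorem isClosedImmersion_i₁ : IsClosedImmersion (i₁ U γ q hγ) := by
  have h1 : IsClosedImmersion (i₁ U γ q hγ ≫ q ∣_ U) := by
    rw [i₁_restrict]
    infer_instance
  have h2 : IsSeparated (q ∣_ U) := inferInstance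
  exact IsClosedImmersion.of_comp (i₁ U γ q hγ) (q ∣_ U)

omit [IsSeparated q] in
theorem ker_i₁ : (i₁ U γ q hγ).ker = (γ.imageι ∣_ (q ⁻¹ᵁ U)).ker := by
  have := isIso_ι_of_eq_top _ (preimage_eq_top U γ q hγ)
  rw [i₁, Scheme.Hom.ker_comp_of_isIso]
  refine Scheme.IdealSheafData.ext (funext fun A => ?_)
  rw [Scheme.ker_morphismRestrict_ideal, Scheme.ker_morphismRestrict_ideal]
  congr 1
  exact (Scheme.IdealSheafData.ker_subschemeι γ.ker).symm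

/-- the isomorphism `U ≅ p⁻¹ U`. -/
noncomputable def ℓ : (U : Scheme.{u}) ⟶ (γ.imageι ⁻¹ᵁ (q ⁻¹ᵁ U) : γ.image.Opens) :=
  have := isClosedImmersion_i₁ U γ q hγ
  IsClosedImmersion.lift (γ.imageι ∣_ (q ⁻¹ᵁ U)) (i₁ U γ q hγ) (ker_i₁ U γ q hγ).ge

@[reassoc]
theorem ℓ_fac : ℓ U γ q hγ ≫ γ.imageι ∣_ (q ⁻¹ᵁ U) = i₁ U γ q hγ := by
  have := isClosedImmersion_i₁ U γ q hγ
  exact IsClosedImmersion.lift_fac _ _ _

instance isIso_ℓ : IsIso (ℓ U γ q hγ) := by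
  have := isClosedImmersion_i₁ U γ q hγ
  exact IsClosedImmersion.isIso_lift _ _ (ker_i₁ U γ q hγ).symm

theorem ℓ_restrict : ℓ U γ q hγ ≫ γ.imageι ∣_ (q ⁻¹ᵁ U) ≫ q ∣_ U = 𝟙 _ := by
  rw [ℓ_fac_assoc, i₁_restrict]

include hγ in
theorem isIso_restrict_aux : IsIso (γ.imageι ∣_ (q ⁻¹ᵁ U) ≫ q ∣_ U) := by
  have h : γ.imageι ∣_ (q ⁻¹ᵁ U) ≫ q ∣_ U = inv (ℓ U γ q hγ) := by
    rw [← cancel_epi (ℓ U γ q hγ), ℓ_restrict, IsIso.hom_inv_id]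
  rw [h]
  infer_instance

include hγ in
theorem isIso_restrict : IsIso ((γ.imageι ≫ q) ∣_ U) := by
  rw [morphismRestrict_comp]
  exact isIso_restrict_aux U γ q hγ

include hγ in
theorem ι_imageι_aux :
    (γ.imageι ⁻¹ᵁ (q ⁻¹ᵁ U)).ι ≫ γ.imageι = (γ.imageι ∣_ (q ⁻¹ᵁ U) ≫ q ∣_ U) ≫ γ := by
  rw [← cancel_epi (ℓ U γ q hγ)]
  have h1 : ℓ U γ q hγ ≫ (γ.imageι ⁻¹ᵁ (q ⁻¹ᵁ U)).ι ≫ γ.imageι = γ := by
    rw [← morphismRestrict_ι γ.imageι (q ⁻¹ᵁ U), ℓ_fac_assoc, i₁_ι]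
  rw [h1, ← Category.assoc, ← Category.assoc, Category.assoc (ℓ U γ q hγ), ℓ_restrict,
    Category.id_comp]

include hγ in
theorem ι_imageι : ((γ.imageι ≫ q) ⁻¹ᵁ U).ι ≫ γ.imageι = (γ.imageι ≫ q) ∣_ U ≫ γ := by
  rw [morphismRestrict_comp]
  exact ι_imageι_aux U γ q hγ

end

end Groth.Agent.R2.H86.GraphClosure
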