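import Mathlib
import Groth.Agent.R2.H96GrpdFittSpec

/-!
# PROJ:grpd-fitt — package [GLUE] (helper86)

Gluing ideal sheaves along a cover by pairwise disjoint opens.
-/

set_option autoImplicit false
universe u

open CategoryTheory CategoryTheory.Limits AlgebraicGeometry TopologicalSpace

namespace Groth.Agent.R2.H86.GrpdFittGlue

/-- `comap` along an open immersion commutes with `⊓`. -/
lemma comap_inf_of_isOpenImmersion {X Y : Scheme.{u}} (f : X ⟶ Y) [IsOpenImmersion f]
    (I J : Y.IdealSheafData) : (I ⊓ J).comap f = I.comap f ⊓ J.comap f := by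
  refine Scheme.IdealSheafData.ext (funext fun U => ?_)
  rw [Scheme.IdealSheafData.ideal_comap_of_isOpenImmersion]
  change _ = (I.comap f).ideal U ⊓ (J.comap f).ideal U
  rw [Scheme.IdealSheafData.ideal_comap_of_isOpenImmersion,
    Scheme.IdealSheafData.ideal_comap_of_isOpenImmersion]
  exact Ideal.comap_inf _ _ _

/-- the kernel of a morphism pulls back to `⊥` along the morphism. -/
lemma comap_ker_self {X Y : Scheme.{u}} (c : X ⟶ Y) : c.ker.comap c = ⊥ := by
  rw [← Scheme.IdealSheafData.map_bot]
  exact le_bot_iff.mp (Scheme.IdealSheafData.comap_map_le _ c)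

/-- the inclusion of a clopen subset is quasi-compact. -/
lemma quasiCompact_ι_of_isClosed {X : Scheme.{u}} (U : X.Opens) (hU : IsClosed (U : Set X)) :
    QuasiCompact U.ι := by
  have hce : Topology.IsClosedEmbedding U.ι := by
    refine ⟨U.ι.isOpenEmbedding.isEmbedding, ?_⟩
    rw [Scheme.Opens.range_ι]
    exact hU
  exact ⟨fun V _ hV => hce.isProperMap.isCompact_preimage hV⟩

theorem glue : Groth.Agent.R2.H96.GrpdFittSpec.GlueStmt.{u} := by
  intro X O hdisj hcov I
  classical
  -- complement opens
  let C : ℕ → X.Opens := fun n => ⨆ k : {k : ℕ // k ≠ n}, O k.1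
  have hCn : ∀ n, Disjoint (C n) (O n) := by
    intro n
    rw [disjoint_comm, disjoint_iSup_iff]
    rintro ⟨k, hk⟩
    exact hdisj (Ne.symm hk)
  have hCclosed : ∀ n, IsClosed (C n : Set X) := by
    intro n
    have : (C n : Set X) = (O n : Set X)ᶜ := by
      ext x
      constructor
      · intro hx hx'
        exact (disjoint_iff.mp (hCn n)).le ⟨hx, hx'⟩
      · intro hx
        have hx1 : x ∈ (⨆ n, O n) := by rw [hcov]; trivial
        obtain ⟨k, hk⟩ := Opens.mem_iSup.mp hx1
        have hkn : k ≠ n := by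
          rintro rfl
          exact hx hk
        exact Opens.mem_iSup.mpr ⟨⟨k, hkn⟩, hk⟩
    rw [this]
    exact (O n).isOpen.isClosed_compl
  have hqc : ∀ n, QuasiCompact (C n).ι := fun n => quasiCompact_ι_of_isClosed _ (hCclosed n)
  let F : ℕ → X.IdealSheafData := fun n => (C n).ι.ker
  -- `F n` restricts to `⊤` on `O n`
  have hF_top : ∀ n, (F n).comap (O n).ι = ⊤ := by
    intro n
    have := hqc n
    rw [← Scheme.IdealSheafData.support_eq_bot_iff]
    ext x
    simp only [Scheme.IdealSheafData.support_comap, Closeds.coe_preimage, Set.mem_preimage,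
      SetLike.mem_coe, Closeds.coe_bot, Set.mem_empty_iff_false, iff_false]
    intro hx
    have hx' : (O n).ι x ∈ closure (Set.range (C n).ι) := by
      have := Scheme.Hom.support_ker (C n).ι
      have h2 : (O n).ι x ∈ ((C n).ι.ker.support : Set X) := hx
      rw [this] at h2
      exact h2
    rw [Scheme.Opens.range_ι, (hCclosed n).closure_eq] at hx'
    exact (disjoint_iff.mp (hCn n)).le ⟨hx', x.2⟩
  -- `F n` restricts to `⊥` on `O m` for `m ≠ n`
  have hF_bot : ∀ n m, m ≠ n → (F n).comap (O m).ι = ⊥ := by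
    intro n m hmn
    have hle : O m ≤ C n := le_iSup (fun k : {k : ℕ // k ≠ n} => O k.1) ⟨m, hmn⟩
    have hfac : (O m).ι = X.homOfLE hle ≫ (C n).ι := (X.homOfLE_ι hle).symm
    rw [hfac, Scheme.IdealSheafData.comap_comp, comap_ker_self, Scheme.IdealSheafData.comap_bot]
  refine ⟨⨆ n, I n ⊓ F n, fun m => ?_⟩
  rw [(Scheme.IdealSheafData.map_gc (O m).ι).l_iSup]
  apply le_antisymm
  · refine iSup_le fun n => ?_
    rw [comap_inf_of_isOpenImmersion]
    by_cases hnm : n = m
    · subst hnm
      exact inf_le_left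
    · rw [hF_bot n m (Ne.symm hnm)]
      simp
  · refine le_trans ?_ (le_iSup _ m)
    rw [comap_inf_of_isOpenImmersion, hF_top m]
    simp

end Groth.Agent.R2.H86.GrpdFittGlue
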