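import Mathlib
import Groth.Prelude.Def_BlowUp2
import Groth.Prelude.Def_Mor2
import Groth.Agent.R2.H86RegBlow
import Groth.Agent.R2.H86ExcSmoothSch
import Groth.Agent.Lib.Helper5RegImm
import Groth.Agent.Lib.Helper5RegImmAlg

/-!
# helper86: the blow-up of a regular scheme along a regular centre is regular (S11308)

* `isRegularClosedImmersion_of_regular`: a closed immersion of a regular scheme into a regular locally
  Noetherian scheme is a regular closed immersion.
* `exists_exceptional_to_centre`: the exceptional divisor maps to the centre.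
* `regular_blowUp`: the blow-up of a regular locally Noetherian scheme along a regular closed subscheme is
  regular.
-/

set_option autoImplicit false
set_option linter.unusedSectionVars false
set_option linter.style.haveILetI false
universe u

open CategoryTheory CategoryTheory.Limits AlgebraicGeometry TopologicalSpace

namespace Groth.Agent.R2.H86.RegBlow

/-- a closed immersion of a regular scheme into a regular locally Noetherian scheme is regular. -/
theorem isRegularClosedImmersion_of_regular {X Y : Scheme.{u}} [IsLocallyNoetherian X] (i : Y ⟶ X)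
    [IsClosedImmersion i] (hX : ∀ y : Y, IsRegularLocalRing (X.presheaf.stalk (i y)))
    (hY : ∀ y : Y, IsRegularLocalRing (Y.presheaf.stalk y)) : Mor2.IsRegularClosedImmersion i := by
  refine ⟨inferInstance, fun z => ?_⟩
  haveI := hX z
  haveI := hY z
  exact Groth.Agent.Lib.Helper5.RegImm.regAt_of_stalkReg i z
    (Groth.Agent.Lib.Helper5.RegImmAlg.exists_regular_ker_of_surjective (i.stalkMap z).hom
      (i.stalkMap_surjective z))

/-- the exceptional divisor of a blow-up of the kernel of a closed immersion maps to the centre. -/
theorem exists_exceptional_to_centre {X X' Y : Scheme.{u}} (i : Y ⟶ X) [IsClosedImmersion i]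
    (b : X' ⟶ X) :
    ∃ g : (i.ker.comap b).subscheme ⟶ Y, g ≫ i = (i.ker.comap b).subschemeι ≫ b := by
  have H : i.ker ≤ ((i.ker.comap b).subschemeι ≫ b).ker := by
    rw [Scheme.Hom.ker_comp, Scheme.IdealSheafData.ker_subschemeι,
      Scheme.IdealSheafData.le_map_iff_comap_le]
  exact ⟨IsClosedImmersion.lift i _ H, IsClosedImmersion.lift_fac i _ H⟩

/-- **The blow-up of a regular locally Noetherian scheme along a regular centre is regular.** -/
theorem regular_blowUp {X X' Y : Scheme.{u}} [IsLocallyNoetherian X] (i : Y ⟶ X)
    [IsClosedImmersion i] (hX : ∀ x : X, IsRegularLocalRing (X.presheaf.stalk x))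
    (hY : ∀ y : Y, IsRegularLocalRing (Y.presheaf.stalk y)) (b : X' ⟶ X)
    (hb : BlowUp.IsBlowUp b i.ker) (z : X') : IsRegularLocalRing (X'.presheaf.stalk z) := by
  have hi : Mor2.IsRegularClosedImmersion i :=
    isRegularClosedImmersion_of_regular i (fun y => hX (i y)) hY
  obtain ⟨g, hg⟩ := exists_exceptional_to_centre i b
  haveI : Smooth g := Groth.Agent.R2.H86.ExcSmoothSch.smooth_exceptional i hi b hb g hg
  have hft : BlowUp.IsFiniteTypeIdeal i.ker := fun U => by
    haveI : IsNoetherianRing Γ(X, U.1) := IsLocallyNoetherian.component_noetherian U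
    exact IsNoetherian.noetherian _
  haveI : IsProper b := Groth.Agent.R2.H86.BlowProper.isProper_of_isBlowUp' i.ker hft b hb
  haveI : IsLocallyNoetherian X' := LocallyOfFiniteType.isLocallyNoetherian b
  haveI : IsLocallyNoetherian Y := LocallyOfFiniteType.isLocallyNoetherian i
  by_cases hz : z ∈ (i.ker.comap b).support
  · rw [← SetLike.mem_coe, ← Scheme.IdealSheafData.range_subschemeι] at hz
    obtain ⟨e, rfl⟩ := hz
    haveI := hY (g e)
    haveI : IsRegularLocalRing ((i.ker.comap b).subscheme.presheaf.stalk e) :=
      (Groth.Agent.S4991.result g e ⟨⊤, trivial, inferInstance⟩).mpr inferInstance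
    exact isRegularLocalRing_stalk_of_isEffCartier (i.ker.comap b) hb.1 e
  · haveI := Groth.Agent.R2.H86.BlowBC.isIso_stalkMap_of_notMem i.ker b hb z hz
    haveI := hX (b z)
    exact IsRegularLocalRing.of_ringEquiv (asIso (b.stalkMap z)).commRingCatIsoToRingEquiv

end Groth.Agent.R2.H86.RegBlow
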