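import Mathlib
import Groth.Prelude.Def_CInt

open AlgebraicGeometry CategoryTheory

universe u

namespace Groth.Agent.R2.H86.SectionNhd

theorem injective_map_of_eq {X : Scheme.{u}} {U V U' V' : X.Opens} (hU : U' = U) (hV : V' = V)
    (h : U ≤ V) (h' : U' ≤ V')
    (hinj : Function.Injective (X.presheaf.map (homOfLE h).op)) :
    Function.Injective (X.presheaf.map (homOfLE h').op) := by
  subst hU hV; exact hinj

/-- Schematic density gives injectivity of global sections restriction for the open subschemes. -/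
theorem injective_appTop_homOfLE {E : Scheme.{u}} {D : E.Opens} (hD : CInt.IsSchematicallyDense D)
    (W : E.Opens) :
    Function.Injective (E.homOfLE (inf_le_left : W ⊓ D ≤ W)).appTop := by
  rw [Scheme.homOfLE_appTop]
  refine injective_map_of_eq (U := W ⊓ D) (V := W) ?_ ?_ inf_le_left _ (hD W)
  · simp
  · simp

theorem isOpenImmersion_of_section
    {E S : Scheme.{u}} (f : E ⟶ S) (U : S.Opens)
    (hiso : IsIso (morphismRestrict f U)) (hdense : CInt.IsSchematicallyDense (f ⁻¹ᵁ U))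
    (σ : S ⟶ E) (hσ : σ ≫ f = 𝟙 S) (s : S) :
    ∃ W : E.Opens, σ.base s ∈ W ∧ IsOpenImmersion (W.ι ≫ f) := by
  -- the restricted section is inverse to the restricted morphism
  have hσU_range : Set.range (U.ι ≫ σ).base ⊆ Set.range (f ⁻¹ᵁ U).ι.base := by
    rintro _ ⟨u, rfl⟩
    rw [Scheme.Opens.range_ι]
    show (U.ι ≫ σ).base u ∈ f ⁻¹ᵁ U
    have : f.base ((U.ι ≫ σ).base u) = U.ι.base u := by
      have := congrArg (fun g => g.base u) (show (U.ι ≫ σ) ≫ f = U.ι by rw [Category.assoc, hσ, Category.comp_id])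
      simpa using this
    show f.base ((U.ι ≫ σ).base u) ∈ U
    rw [this]
    exact u.2
  let σU : (U : Scheme.{u}) ⟶ (f ⁻¹ᵁ U : Scheme.{u}) :=
    IsOpenImmersion.lift (f ⁻¹ᵁ U).ι (U.ι ≫ σ) hσU_range
  have hσU : σU ≫ (f ⁻¹ᵁ U).ι = U.ι ≫ σ := IsOpenImmersion.lift_fac _ _ _
  have hσU1 : σU ≫ morphismRestrict f U = 𝟙 _ := by
    rw [← cancel_mono U.ι, Category.assoc, morphismRestrict_ι, ← Category.assoc, hσU,
      Category.assoc, hσ, Category.comp_id, Category.id_comp]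
  have hσU2 : morphismRestrict f U ≫ σU = 𝟙 _ := by
    have : σU = inv (morphismRestrict f U) := by
      rw [← cancel_mono (morphismRestrict f U), hσU1, IsIso.inv_hom_id]
    rw [this, IsIso.hom_inv_id]
  have hkey : (f ⁻¹ᵁ U).ι ≫ f ≫ σ = (f ⁻¹ᵁ U).ι := by
    rw [← Category.assoc, ← morphismRestrict_ι, Category.assoc, ← hσU, ← Category.assoc, hσU2,
      Category.id_comp]
  -- an affine neighbourhood of σ(s)
  obtain ⟨W', hW', heW'⟩ : ∃ W' : E.Opens, IsAffineOpen W' ∧ σ.base s ∈ W' := by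
    obtain ⟨_, ⟨W', hW', rfl⟩, heW', -⟩ :=
      E.isBasis_affineOpens.exists_subset_of_mem_open (Set.mem_univ (σ.base s)) isOpen_univ
    exact ⟨W', hW', heW'⟩
  have : IsAffine (W' : Scheme.{u}) := hW'
  let W : E.Opens := W' ⊓ f ⁻¹ᵁ (σ ⁻¹ᵁ W')
  have hfs : f.base (σ.base s) = s := by
    have := congrArg (fun g => g.base s) hσ
    simpa using this
  have heW : σ.base s ∈ W := by
    refine ⟨heW', ?_⟩
    show σ.base (f.base (σ.base s)) ∈ W'
    rw [hfs]; exact heW'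
  -- the two morphisms W ⟶ E
  have hr1 : Set.range W.ι.base ⊆ Set.range W'.ι.base := by
    rw [Scheme.Opens.range_ι, Scheme.Opens.range_ι]
    exact fun x hx => hx.1
  have hr2 : Set.range (W.ι ≫ f ≫ σ).base ⊆ Set.range W'.ι.base := by
    rw [Scheme.Opens.range_ι]
    rintro _ ⟨w, rfl⟩
    exact w.2.2
  let l₁ : (W : Scheme.{u}) ⟶ (W' : Scheme.{u}) := IsOpenImmersion.lift W'.ι W.ι hr1
  let l₂ : (W : Scheme.{u}) ⟶ (W' : Scheme.{u}) := IsOpenImmersion.lift W'.ι (W.ι ≫ f ≫ σ) hr2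
  have hl₁ : l₁ ≫ W'.ι = W.ι := IsOpenImmersion.lift_fac _ _ _
  have hl₂ : l₂ ≫ W'.ι = W.ι ≫ f ≫ σ := IsOpenImmersion.lift_fac _ _ _
  let j := E.homOfLE (inf_le_left : W ⊓ f ⁻¹ᵁ U ≤ W)
  have hj : Function.Injective j.appTop := injective_appTop_homOfLE hdense W
  have hjl : j ≫ l₁ = j ≫ l₂ := by
    rw [← cancel_mono W'.ι, Category.assoc, Category.assoc, hl₁, hl₂]
    have hjι : j ≫ W.ι = E.homOfLE (inf_le_right : W ⊓ f ⁻¹ᵁ U ≤ f ⁻¹ᵁ U) ≫ (f ⁻¹ᵁ U).ι := by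
      simp [j]
    rw [← Category.assoc, hjι, Category.assoc, hkey]
  have hl : l₁ = l₂ := by
    apply ext_of_isAffine
    have h1 : l₁.appTop ≫ j.appTop = l₂.appTop ≫ j.appTop := by
      rw [← Scheme.Hom.comp_appTop, ← Scheme.Hom.comp_appTop, hjl]
    ext a
    apply hj
    exact congrArg (fun φ => φ.hom a) h1
  have hW : W.ι ≫ f ≫ σ = W.ι := by rw [← hl₂, ← hl, hl₁]
  -- now f restricted to W is an isomorphism onto V = σ⁻¹ W
  let V : S.Opens := σ ⁻¹ᵁ W
  have hrφ : Set.range (W.ι ≫ f).base ⊆ Set.range V.ι.base := by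
    rw [Scheme.Opens.range_ι]
    rintro _ ⟨w, rfl⟩
    show σ.base ((W.ι ≫ f).base w) ∈ W
    have : σ.base ((W.ι ≫ f).base w) = (W.ι ≫ f ≫ σ).base w := by simp
    rw [this, hW]
    exact w.2
  have hrψ : Set.range (V.ι ≫ σ).base ⊆ Set.range W.ι.base := by
    rw [Scheme.Opens.range_ι]
    rintro _ ⟨v, rfl⟩
    exact v.2
  let φ : (W : Scheme.{u}) ⟶ (V : Scheme.{u}) := IsOpenImmersion.lift V.ι (W.ι ≫ f) hrφ
  let ψ : (V : Scheme.{u}) ⟶ (W : Scheme.{u}) := IsOpenImmersion.lift W.ι (V.ι ≫ σ) hrψ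
  have hφ : φ ≫ V.ι = W.ι ≫ f := IsOpenImmersion.lift_fac _ _ _
  have hψ : ψ ≫ W.ι = V.ι ≫ σ := IsOpenImmersion.lift_fac _ _ _
  have h1 : φ ≫ ψ = 𝟙 _ := by
    rw [← cancel_mono W.ι, Category.assoc, hψ, ← Category.assoc, hφ, Category.assoc, hW,
      Category.id_comp]
  have h2 : ψ ≫ φ = 𝟙 _ := by
    rw [← cancel_mono V.ι, Category.assoc, hφ, ← Category.assoc, hψ, Category.assoc, hσ,
      Category.comp_id, Category.id_comp]
  have : IsIso φ := ⟨ψ, h1, h2⟩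
  refine ⟨W, heW, ?_⟩
  rw [← hφ]
  infer_instance

end Groth.Agent.R2.H86.SectionNhd
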