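import Groth.Agent.S17720
import Groth.Agent.Lib.Helper19ComplDim2
import Groth.Statements.S17737

/-!
# Uniqueness of the thickness ideal of a formal node (helper library for S17737)

A variant of the key lemma of `Groth.Agent.S17720` for ring isomorphisms which fix only the
constants coming from a subset `S` of the coefficient ring, large enough modulo the maximal ideal.
-/

set_option autoImplicit false
universe u

namespace Groth.Agent.R2.H86.ThickNode

open MvPowerSeries IsLocalRing Groth.Agent.S17720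

theorem key'
    (A : Type u) [CommRing A] [IsLocalRing A] [IsNoetherianRing A]
    (α β : A) (hβ : β ∈ maximalIdeal A)
    (Jα Jβ : Ideal (MvPowerSeries (Fin 2) A))
    (hJα : Jα = Ideal.span {(X 0 * X 1 - C α : MvPowerSeries (Fin 2) A)})
    (hJβ : Jβ = Ideal.span {(X 0 * X 1 - C β : MvPowerSeries (Fin 2) A)})
    (φ : (MvPowerSeries (Fin 2) A ⧸ Jα) ≃+* (MvPowerSeries (Fin 2) A ⧸ Jβ))
    (S : Set A)
    (hφS : ∀ a ∈ S, φ (Ideal.Quotient.mk _ (C a)) = Ideal.Quotient.mk _ (C a))
    (hαS : α ∈ S)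
    (hS : ∀ c : A, ∃ s ∈ S, c - s ∈ Ideal.span ((maximalIdeal A : Set A) ∩ S)) :
    α ∈ Ideal.span {β} := by
  classical
  set I : Ideal A := Ideal.span {β} with hI
  have hItop : I ≠ ⊤ := by
    intro h
    rw [hI, Ideal.span_singleton_eq_top] at h
    exact (IsLocalRing.mem_maximalIdeal _).mp hβ h
  haveI : Nontrivial (A ⧸ I) := Ideal.Quotient.nontrivial_iff.mpr hItop
  haveI : IsLocalRing (A ⧸ I) :=
    IsLocalRing.of_surjective' (Ideal.Quotient.mk I) Ideal.Quotient.mk_surjective
  have hker : ∀ a ∈ Jβ, proj I a = 0 := by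
    have hle : Jβ ≤ RingHom.ker (proj I) := by
      rw [hJβ, Ideal.span_le, Set.singleton_subset_iff]
      change proj I (X 0 * X 1 - C β) = 0
      rw [map_sub, map_mul, proj_X1, proj_C, mul_zero, zero_sub, neg_eq_zero,
        Ideal.Quotient.eq_zero_iff_mem.mpr (Ideal.mem_span_singleton_self β), map_zero]
    intro a ha
    exact hle ha
  let π' : (MvPowerSeries (Fin 2) A ⧸ Jβ) →+* PowerSeries (A ⧸ I) :=
    Ideal.Quotient.lift Jβ (proj I) hker
  let ψ : MvPowerSeries (Fin 2) A →+* PowerSeries (A ⧸ I) :=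
    π'.comp ((φ : (MvPowerSeries (Fin 2) A ⧸ Jα) →+* (MvPowerSeries (Fin 2) A ⧸ Jβ)).comp
      (Ideal.Quotient.mk Jα))
  have hψ : ∀ h, ψ h = π' (φ (Ideal.Quotient.mk Jα h)) := fun h => rfl
  have hψsurj : Function.Surjective ψ := by
    have h1 : Function.Surjective π' :=
      Ideal.Quotient.lift_surjective_of_surjective Jβ hker (proj_surjective I)
    exact h1.comp (φ.surjective.comp Ideal.Quotient.mk_surjective)
  have hψC : ∀ a ∈ S, ψ (C a) = PowerSeries.C (Ideal.Quotient.mk I a) := by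
    intro a ha
    rw [hψ, hφS a ha]
    change proj I (C a) = _
    rw [proj_C]
  set F := ψ (X 0) with hF
  set G := ψ (X 1) with hG
  have hFG : F * G = PowerSeries.C (Ideal.Quotient.mk I α) := by
    rw [hF, hG, ← map_mul, ← hψC α hαS, hψ, hψ]
    congr 2
    rw [Ideal.Quotient.eq, hJα]
    exact Ideal.mem_span_singleton_self _
  haveI : IsLocalHom ψ := IsLocalHom.of_surjective ψ hψsurj
  have hnonunit : ∀ i : Fin 2, PowerSeries.coeff 0 (ψ (X i)) ∈ maximalIdeal (A ⧸ I) := by
    intro i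
    rw [IsLocalRing.mem_maximalIdeal, mem_nonunits_iff, PowerSeries.coeff_zero_eq_constantCoeff_apply,
      ← PowerSeries.isUnit_iff_constantCoeff]
    intro hu
    have h1 : IsUnit (X i : MvPowerSeries (Fin 2) A) := isUnit_of_map_unit ψ _ hu
    rw [MvPowerSeries.isUnit_iff_constantCoeff, MvPowerSeries.constantCoeff_X] at h1
    exact not_isUnit_zero h1
  have hF0 := hnonunit 0
  have hG0 := hnonunit 1
  -- constants from the span of `𝔪 ∩ S` have their first two coefficients in the maximal ideal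
  have hmk : ∀ a ∈ maximalIdeal A, Ideal.Quotient.mk I a ∈ maximalIdeal (A ⧸ I) := by
    intro a ha
    rw [IsLocalRing.mem_maximalIdeal, mem_nonunits_iff] at ha ⊢
    intro hu
    haveI : IsLocalHom (Ideal.Quotient.mk I) :=
      IsLocalHom.of_surjective _ Ideal.Quotient.mk_surjective
    exact ha (isUnit_of_map_unit (Ideal.Quotient.mk I) a hu)
  have hspan : ∀ z ∈ Ideal.span ((maximalIdeal A : Set A) ∩ S),
      PowerSeries.coeff 0 (ψ (C z)) ∈ maximalIdeal (A ⧸ I) ∧
      PowerSeries.coeff 1 (ψ (C z)) ∈ maximalIdeal (A ⧸ I) := by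
    intro z hz
    induction hz using Submodule.span_induction with
    | mem x hx =>
      rw [hψC x hx.2]
      refine ⟨?_, ?_⟩
      · rw [PowerSeries.coeff_C, if_pos rfl]
        exact hmk x hx.1
      · rw [PowerSeries.coeff_C, if_neg one_ne_zero]
        exact Ideal.zero_mem _
    | zero =>
      simp
    | add x y _ _ hx hy =>
      rw [map_add, map_add, map_add, map_add]
      exact ⟨Ideal.add_mem _ hx.1 hy.1, Ideal.add_mem _ hx.2 hy.2⟩
    | smul a x _ hx =>
      rw [smul_eq_mul, map_mul, map_mul]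
      refine ⟨?_, ?_⟩
      · rw [PowerSeries.coeff_zero_eq_constantCoeff_apply, map_mul,
          ← PowerSeries.coeff_zero_eq_constantCoeff_apply,
          ← PowerSeries.coeff_zero_eq_constantCoeff_apply]
        exact Ideal.mul_mem_left _ _ hx.1
      · rw [coeff_one_mul]
        exact Ideal.add_mem _ (Ideal.mul_mem_left _ _ hx.2) (Ideal.mul_mem_left _ _ hx.1)
  have hconst : ∀ c : A, PowerSeries.coeff 1 (ψ (C c)) ∈ maximalIdeal (A ⧸ I) := by
    intro c
    obtain ⟨s, hs, hcs⟩ := hS c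
    have : (C c : MvPowerSeries (Fin 2) A) = C s + C (c - s) := by
      rw [← map_add]; congr 1; ring
    rw [this, map_add, map_add, hψC s hs, PowerSeries.coeff_C, if_neg one_ne_zero, zero_add]
    exact (hspan _ hcs).2
  have hunit : IsUnit (PowerSeries.coeff 1 F) ∨ IsUnit (PowerSeries.coeff 1 G) := by
    by_contra hcon
    rw [not_or] at hcon
    obtain ⟨hF1, hG1⟩ := hcon
    have hF1' : PowerSeries.coeff 1 F ∈ maximalIdeal (A ⧸ I) :=
      (IsLocalRing.mem_maximalIdeal _).mpr hF1
    have hG1' : PowerSeries.coeff 1 G ∈ maximalIdeal (A ⧸ I) :=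
      (IsLocalRing.mem_maximalIdeal _).mpr hG1
    obtain ⟨h, hh⟩ := hψsurj PowerSeries.X
    obtain ⟨a, b, hab⟩ := exists_decomp h
    have h3 : (1 : A ⧸ I) = PowerSeries.coeff 1 (ψ h) := by
      rw [hh, PowerSeries.coeff_one_X]
    have h5 : ψ h = ψ (C (constantCoeff h)) + F * ψ a + G * ψ b := by
      conv_lhs => rw [hab]
      rw [map_add, map_add, map_mul, map_mul]
    rw [h5, map_add, map_add, coeff_one_mul, coeff_one_mul] at h3
    have h4 : (1 : A ⧸ I) ∈ maximalIdeal (A ⧸ I) := by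
      rw [h3]
      refine Ideal.add_mem _ (Ideal.add_mem _ (hconst _) (Ideal.add_mem _ ?_ ?_))
        (Ideal.add_mem _ ?_ ?_)
      · exact Ideal.mul_mem_right _ _ hF0
      · exact Ideal.mul_mem_right _ _ hF1'
      · exact Ideal.mul_mem_right _ _ hG0
      · exact Ideal.mul_mem_right _ _ hG1'
    exact (Ideal.ne_top_iff_one _).mp (IsLocalRing.maximalIdeal.isMaximal _).ne_top h4
  have hzero : Ideal.Quotient.mk I α = 0 := by
    rcases hunit with h1 | h1
    · exact core F G _ hFG hF0 h1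
    · exact core G F _ (by rw [mul_comm]; exact hFG) hG0 h1
  exact Ideal.Quotient.eq_zero_iff_mem.mp hzero

end Groth.Agent.R2.H86.ThickNode

namespace Groth.Agent.R2.H86.ThickNode

open MvPowerSeries IsLocalRing

/-- One inclusion between the thickness ideals, in the completion. -/
theorem algebraMap_mem_span_of_isThickNode
    (R A : Type u) [CommRing R] [IsLocalRing R] [IsNoetherianRing R] [CommRing A] [IsLocalRing A]
    (φ : R →+* A) (a b : R) (hb : b ∈ maximalIdeal R)
    (h₁ : DualGr.IsThickNode φ a) (h₂ : DualGr.IsThickNode φ b) :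
    algebraMap R (Curv2.cpl R) a ∈ Ideal.span {algebraMap R (Curv2.cpl R) b} := by
  obtain ⟨e₁, he₁⟩ := h₁
  obtain ⟨e₂, he₂⟩ := h₂
  refine key' (Curv2.cpl R) (algebraMap R (Curv2.cpl R) a) (algebraMap R (Curv2.cpl R) b) ?_
    _ _ rfl rfl (e₁.symm.trans e₂) (Set.range (algebraMap R (Curv2.cpl R))) ?_ ⟨a, rfl⟩ ?_
  · rw [AdicCompletion.maximalIdeal_eq_map]
    exact Ideal.mem_map_of_mem _ hb
  · rintro _ ⟨r, rfl⟩
    rw [RingEquiv.trans_apply, ← he₁ r, RingEquiv.symm_apply_apply, he₂ r]
  · intro c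
    obtain ⟨r, hr⟩ := Groth.Agent.Lib.Helper19.exists_sub_algebraMap_mem_map R (maximalIdeal R) c
    refine ⟨algebraMap R (Curv2.cpl R) r, ⟨r, rfl⟩, ?_⟩
    rw [Ideal.map, ] at hr
    refine Ideal.span_mono ?_ hr
    rintro _ ⟨x, hx, rfl⟩
    refine ⟨?_, ⟨x, rfl⟩⟩
    rw [SetLike.mem_coe, AdicCompletion.maximalIdeal_eq_map]
    exact Ideal.mem_map_of_mem _ hx

/-- Uniqueness of the thickness ideal of a formal node. -/
theorem span_eq_of_isThickNode
    (R A : Type u) [CommRing R] [IsLocalRing R] [IsNoetherianRing R] [CommRing A] [IsLocalRing A]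
    (φ : R →+* A) (a b : R) (ha : a ∈ maximalIdeal R) (hb : b ∈ maximalIdeal R)
    (h₁ : DualGr.IsThickNode φ a) (h₂ : DualGr.IsThickNode φ b) :
    Ideal.span {a} = Ideal.span {b} := by
  haveI : Module.FaithfullyFlat R (Curv2.cpl R) := Module.FaithfullyFlat.of_flat_of_isLocalHom
  have h12 := algebraMap_mem_span_of_isThickNode R A φ a b hb h₁ h₂
  have h21 := algebraMap_mem_span_of_isThickNode R A φ b a ha h₂ h₁
  have hmap : (Ideal.span {a}).map (algebraMap R (Curv2.cpl R)) =
      (Ideal.span {b}).map (algebraMap R (Curv2.cpl R)) := by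
    rw [Ideal.map_span, Ideal.map_span, Set.image_singleton, Set.image_singleton]
    apply le_antisymm
    · rw [Ideal.span_singleton_le_iff_mem]; exact h12
    · rw [Ideal.span_singleton_le_iff_mem]; exact h21
  rw [← Ideal.comap_map_eq_self_of_faithfullyFlat (B := Curv2.cpl R) (Ideal.span {a}), hmap,
    Ideal.comap_map_eq_self_of_faithfullyFlat]

end Groth.Agent.R2.H86.ThickNode
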