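import Mathlib

namespace Groth.Agent.R2.H86.TwistedDiag

/-- `I(d, N)`: gcd of `d / δ` over divisors `δ` of `d` with `1 ≤ δ ≤ N`. -/
def Iidx (d N : ℕ) : ℕ := ((Finset.Icc 1 N).filter (fun δ => δ ∣ d)).gcd (fun δ => d / δ)

theorem Iidx_dvd_of_dvd_mul {d N m δ' : ℕ} (hd : 1 ≤ d) (h1 : 1 ≤ δ') (h2 : δ' ≤ N)
    (h : d ∣ m * δ') : Iidx d N ∣ m := by
  set g := Nat.gcd d δ' with hg
  have hgpos : 0 < g := Nat.gcd_pos_of_pos_left _ hd
  have hgd : g ∣ d := Nat.gcd_dvd_left _ _
  have hgδ : g ∣ δ' := Nat.gcd_dvd_right _ _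
  have hgle : g ≤ N := (Nat.le_of_dvd h1 hgδ).trans h2
  have hmem : g ∈ (Finset.Icc 1 N).filter (fun δ => δ ∣ d) := by
    simp only [Finset.mem_filter, Finset.mem_Icc]
    exact ⟨⟨hgpos, hgle⟩, hgd⟩
  have hI : Iidx d N ∣ d / g := Finset.gcd_dvd hmem
  refine hI.trans ?_
  have hcop : Nat.Coprime (d / g) (δ' / g) := Nat.coprime_div_gcd_div_gcd hgpos
  apply hcop.dvd_of_dvd_mul_right
  -- d / g ∣ m * (δ' / g)
  obtain ⟨a, ha⟩ := hgd
  obtain ⟨b, hb⟩ := hgδ
  have hda : d / g = a := by rw [ha]; exact Nat.mul_div_cancel_left _ hgpos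
  have hdb : δ' / g = b := by rw [hb]; exact Nat.mul_div_cancel_left _ hgpos
  rw [hda, hdb]
  rw [ha, hb] at h
  have : g * a ∣ g * (m * b) := by
    have e : m * (g * b) = g * (m * b) := by ring
    rwa [e] at h
  exact (Nat.mul_dvd_mul_iff_left hgpos).mp this

/-- In a finite sum equal to zero with a nonzero term, the maximal valuation is attained twice. -/
theorem exists_ne_valuation_eq {E Γ : Type*} [Field E] [LinearOrderedCommGroupWithZero Γ]
    (V : Valuation E Γ) {ι : Type*} [Fintype ι] [DecidableEq ι] (t : ι → E)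
    (hsum : ∑ i, t i = 0) (hne : ∃ i, t i ≠ 0) :
    ∃ i j, i ≠ j ∧ V (t i) = V (t j) ∧ V (t i) ≠ 0 := by
  obtain ⟨k, hk⟩ := hne
  obtain ⟨i, -, hi⟩ := Finset.exists_max_image Finset.univ (fun i => V (t i)) ⟨k, Finset.mem_univ k⟩
  have hVi : V (t i) ≠ 0 := by
    have h1 : V (t k) ≠ 0 := (Valuation.ne_zero_iff V).mpr hk
    have h2 := hi k (Finset.mem_univ k)
    intro h0
    rw [h0] at h2
    exact h1 (le_antisymm h2 zero_le)
  by_contra hcon
  push Not at hcon
  have hlt : ∀ j ∈ Finset.univ.erase i, V (t j) < V (t i) := by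
    intro j hj
    have hji : j ≠ i := (Finset.mem_erase.mp hj).1
    refine lt_of_le_of_ne (hi j (Finset.mem_univ j)) ?_
    intro heq
    exact hVi (hcon i j hji.symm heq.symm)
  have hs : V (∑ j ∈ Finset.univ.erase i, t j) < V (t i) := Valuation.map_sum_lt V hVi hlt
  have : t i = -∑ j ∈ Finset.univ.erase i, t j := by
    rw [eq_neg_iff_add_eq_zero, Finset.add_sum_erase _ _ (Finset.mem_univ i), hsum]
  have h2 : V (t i) = V (∑ j ∈ Finset.univ.erase i, t j) := by
    conv_lhs => rw [this]
    exact Valuation.map_neg V _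
  rw [← h2] at hs
  exact lt_irrefl _ hs


open IsDedekindDomain WithZero in
theorem valuation_algebraMap_uniformizer
    {R B E : Type*} [CommRing R] [IsDomain R] [IsDiscreteValuationRing R]
    [CommRing B] [IsDedekindDomain B] [Algebra R B]
    [Field E] [Algebra B E] [IsFractionRing B E] [Algebra R E] [IsScalarTower R B E]
    (hinj : Function.Injective (algebraMap R B))
    (ϖ : R) (hϖ : Irreducible ϖ) (v : HeightOneSpectrum B) :
    v.valuation E (algebraMap R E ϖ) =
      exp (-(Ideal.ramificationIdx' (IsLocalRing.maximalIdeal R) v.asIdeal : ℤ)) := by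
  have hp : IsLocalRing.maximalIdeal R = Ideal.span {ϖ} := hϖ.maximalIdeal_eq
  have hϖ0 : ϖ ≠ 0 := hϖ.ne_zero
  have hb0 : algebraMap R B ϖ ≠ 0 := fun h => hϖ0 (hinj (by rw [h, map_zero]))
  have hmap : Ideal.map (algebraMap R B) (IsLocalRing.maximalIdeal R) =
      Ideal.span {algebraMap R B ϖ} := by
    rw [hp, Ideal.map_span, Set.image_singleton]
  have hmap0 : Ideal.map (algebraMap R B) (IsLocalRing.maximalIdeal R) ≠ ⊥ := by
    rw [hmap]
    intro h
    exact hb0 (Ideal.span_singleton_eq_bot.mp h)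
  rw [IsScalarTower.algebraMap_apply R B E, HeightOneSpectrum.valuation_of_algebraMap,
    HeightOneSpectrum.intValuation_if_neg _ hb0, exp_inj, neg_inj, Nat.cast_inj,
    Ideal.count_associates_factors_eq (by rw [← hmap]; exact hmap0) v.isPrime v.ne_bot,
    Ideal.IsDedekindDomain.ramificationIdx'_eq_normalizedFactors_count hmap0 v.isPrime v.ne_bot, hmap]


open IsDedekindDomain WithZero in
/-- The valuation-theoretic heart: for one prime `v` of the Dedekind domain `B`. -/
theorem Iidx_dvd_mul_ramificationIdx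
    {R B E : Type*} [CommRing R] [IsDomain R] [IsDiscreteValuationRing R]
    [CommRing B] [IsDedekindDomain B] [Algebra R B]
    [Field E] [Algebra B E] [IsFractionRing B E] [Algebra R E] [IsScalarTower R B E]
    (hinj : Function.Injective (algebraMap R B))
    (ϖ : R) (hϖ : Irreducible ϖ) (v : HeightOneSpectrum B)
    (d N c : ℕ) (hd : 1 ≤ d)
    (y : Fin (N + 1) → E) (hy : y ≠ 0)
    (heq : y 0 ^ d = ∑ i : Fin N, (algebraMap R E ϖ) ^ (c * ((i : ℕ) + 1)) * y i.succ ^ d) :
    Iidx d N ∣ c * Ideal.ramificationIdx' (IsLocalRing.maximalIdeal R) v.asIdeal := by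
  classical
  set e := Ideal.ramificationIdx' (IsLocalRing.maximalIdeal R) v.asIdeal with he
  set V := v.valuation E with hV
  have hVϖ : V (algebraMap R E ϖ) = exp (-(e : ℤ)) :=
    valuation_algebraMap_uniformizer hinj ϖ hϖ v
  have hϖE : algebraMap R E ϖ ≠ 0 := by
    intro h
    have : V (algebraMap R E ϖ) = 0 := by rw [h, map_zero]
    rw [hVϖ] at this
    exact exp_ne_zero this
  -- the terms
  let T : Fin (N + 1) → E := fun j => (algebraMap R E ϖ) ^ (c * (j : ℕ)) * y j ^ d
  let t : Fin (N + 1) → E := fun j => if j = 0 then T j else - T j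
  have hsum : ∑ j, t j = 0 := by
    rw [Fin.sum_univ_succ]
    have h0 : t 0 = y 0 ^ d := by simp [t, T]
    have hs : ∀ i : Fin N, t i.succ = - ((algebraMap R E ϖ) ^ (c * ((i : ℕ) + 1)) * y i.succ ^ d) := by
      intro i
      simp [t, T, Fin.succ_ne_zero]
    rw [h0, heq, Finset.sum_congr rfl (fun i _ => hs i), Finset.sum_neg_distrib, add_neg_cancel]
  have hVt : ∀ j, V (t j) = V (algebraMap R E ϖ) ^ (c * (j : ℕ)) * V (y j) ^ d := by
    intro j
    by_cases hj : j = 0
    · simp [t, T, hj]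
    · simp [t, T, hj, Valuation.map_neg]
  have hne : ∃ j, t j ≠ 0 := by
    obtain ⟨j, hj⟩ : ∃ j, y j ≠ 0 := by
      by_contra h
      push Not at h
      exact hy (funext h)
    refine ⟨j, ?_⟩
    have : T j ≠ 0 := mul_ne_zero (pow_ne_zero _ hϖE) (pow_ne_zero _ hj)
    by_cases hj0 : j = 0
    · simpa [t, hj0] using (hj0 ▸ this)
    · simpa [t, hj0] using this
  obtain ⟨i, j, hij, hVij, hVi0⟩ := exists_ne_valuation_eq V t hsum hne
  have hVj0 : V (t j) ≠ 0 := hVij ▸ hVi0
  rw [hVt i] at hVi0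
  rw [hVt j] at hVj0
  rw [hVt i, hVt j] at hVij
  have hyi : V (y i) ≠ 0 := by
    intro h; apply hVi0; rw [h, zero_pow (by omega), mul_zero]
  have hyj : V (y j) ≠ 0 := by
    intro h; apply hVj0; rw [h, zero_pow (by omega), mul_zero]
  have hϖV : V (algebraMap R E ϖ) ≠ 0 := by rw [hVϖ]; exact exp_ne_zero
  have hlog := congrArg log hVij
  rw [log_mul (pow_ne_zero _ hϖV) (pow_ne_zero _ hyi),
    log_mul (pow_ne_zero _ hϖV) (pow_ne_zero _ hyj), log_pow, log_pow, log_pow, log_pow,
    hVϖ, log_exp] at hlog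
  simp only [nsmul_eq_mul, Nat.cast_mul] at hlog
  -- hlog : c * i * (-e) + d * log (V (y i)) = c * j * (-e) + d * log (V (y j))
  have key : (d : ℤ) ∣ ((c * e : ℕ) : ℤ) * (((j : ℕ) : ℤ) - ((i : ℕ) : ℤ)) := by
    refine ⟨log (V (y j)) - log (V (y i)), ?_⟩
    push_cast
    linear_combination hlog
  have hijne : (i : ℕ) ≠ (j : ℕ) := fun h => hij (Fin.ext h)
  have hi := i.2
  have hj := j.2
  rcases lt_or_gt_of_ne hijne with hlt | hlt
  · apply Iidx_dvd_of_dvd_mul (δ' := (j : ℕ) - (i : ℕ)) hd (by omega) (by omega)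
    have : (((j : ℕ) - (i : ℕ) : ℕ) : ℤ) = ((j : ℕ) : ℤ) - ((i : ℕ) : ℤ) := by
      rw [Nat.cast_sub hlt.le]
    rw [← Int.natCast_dvd_natCast, Nat.cast_mul, this]
    exact key
  · apply Iidx_dvd_of_dvd_mul (δ' := (i : ℕ) - (j : ℕ)) hd (by omega) (by omega)
    have : (((i : ℕ) - (j : ℕ) : ℕ) : ℤ) = ((i : ℕ) : ℤ) - ((j : ℕ) : ℤ) := by
      rw [Nat.cast_sub hlt.le]
    rw [← Int.natCast_dvd_natCast, Nat.cast_mul, this]
    have : ((c * e : ℕ) : ℤ) * (((i : ℕ) : ℤ) - ((j : ℕ) : ℤ)) =
        - (((c * e : ℕ) : ℤ) * (((j : ℕ) : ℤ) - ((i : ℕ) : ℤ))) := by ring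
    rw [this]
    exact (dvd_neg).mpr key


open IsDedekindDomain in
theorem Iidx_dvd_of_solution_separable
    {R K E : Type*} [CommRing R] [IsDomain R] [IsDiscreteValuationRing R]
    [Field K] [Algebra R K] [IsFractionRing R K]
    [Field E] [Algebra K E] [Algebra R E] [IsScalarTower R K E]
    [FiniteDimensional K E] [Algebra.IsSeparable K E]
    (ϖ : R) (hϖ : Irreducible ϖ) (d N c : ℕ) (hd : 1 ≤ d)
    (y : Fin (N + 1) → E) (hy : y ≠ 0)
    (heq : y 0 ^ d = ∑ i : Fin N, (algebraMap R E ϖ) ^ (c * ((i : ℕ) + 1)) * y i.succ ^ d) :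
    Iidx d N ∣ c * Module.finrank K E := by
  classical
  let B := integralClosure R E
  have : IsDedekindDomain B := integralClosure.isDedekindDomain R K E
  have : Module.Finite R B := IsIntegralClosure.finite R K E B
  have : IsFractionRing B E := integralClosure.isFractionRing_of_finite_extension K E
  have hinj : Function.Injective (algebraMap R B) := by
    have h1 : Function.Injective (algebraMap R E) := by
      rw [IsScalarTower.algebraMap_eq R K E]
      exact (algebraMap K E).injective.comp (IsFractionRing.injective R K)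
    intro a b hab
    apply h1
    rw [IsScalarTower.algebraMap_apply R B E, IsScalarTower.algebraMap_apply R B E, hab]
  have : FaithfulSMul R B := (faithfulSMul_iff_algebraMap_injective R B).mpr hinj
  have hp0 : IsLocalRing.maximalIdeal R ≠ ⊥ := IsDiscreteValuationRing.not_a_field R
  have hsum := Ideal.sum_ramification_inertia B K E (p := IsLocalRing.maximalIdeal R) hp0
  rw [← hsum, Finset.mul_sum]
  apply Finset.dvd_sum
  intro P hP
  rw [← mul_assoc]
  apply Dvd.dvd.mul_right
  have hP' : P ∈ (IsLocalRing.maximalIdeal R).primesOver B :=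
    (IsDedekindDomain.mem_primesOverFinset_iff hp0 B).mp hP
  have hPprime : P.IsPrime := hP'.1
  have hPne : P ≠ ⊥ := by
    have := hP'.2
    exact Ideal.ne_bot_of_liesOver_of_ne_bot hp0 P
  exact Iidx_dvd_mul_ramificationIdx hinj ϖ hϖ ⟨P, hPprime, hPne⟩ d N c hd y hy heq


/-- In a finite purely inseparable extension, the `[L:E]`-th power of any element lies in `E`. -/
theorem pow_finrank_mem_range {E L : Type*} [Field E] [Field L] [Algebra E L]
    [FiniteDimensional E L] [IsPurelyInseparable E L] (p : ℕ) [ExpChar E p] (z : L) :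
    z ^ Module.finrank E L ∈ (algebraMap E L).range := by
  obtain ⟨n, a, hmin⟩ := IsPurelyInseparable.minpoly_eq_X_pow_sub_C E p z
  have hint : IsIntegral E z := Algebra.IsIntegral.isIntegral z
  have hdvd : (minpoly E z).natDegree ∣ Module.finrank E L := minpoly.degree_dvd hint
  rw [hmin, Polynomial.natDegree_sub_C, Polynomial.natDegree_X_pow] at hdvd
  obtain ⟨m, hm⟩ := hdvd
  have hz : z ^ p ^ n = algebraMap E L a := by
    have := minpoly.aeval E z
    rw [hmin] at this
    simpa [sub_eq_zero] using this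
  rw [hm, pow_mul, hz, ← map_pow]
  exact ⟨a ^ m, rfl⟩

theorem Iidx_dvd_finrank_of_solution
    {R K L : Type*} [CommRing R] [IsDomain R] [IsDiscreteValuationRing R]
    [Field K] [Algebra R K] [IsFractionRing R K]
    [Field L] [Algebra K L] [FiniteDimensional K L]
    (ϖ : R) (hϖ : Irreducible ϖ) (d N : ℕ) (hd : 1 ≤ d)
    (x : Fin (N + 1) → L) (hx : x ≠ 0)
    (heq : x 0 ^ d = ∑ i : Fin N,
      algebraMap K L (algebraMap R K (ϖ ^ ((i : ℕ) + 1))) * x i.succ ^ d) :
    Iidx d N ∣ Module.finrank K L := by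
  classical
  let E := separableClosure K L
  let p := ringExpChar K
  have : ExpChar K p := ringExpChar.expChar K
  have : ExpChar E p := expChar_of_injective_algebraMap (algebraMap K E).injective p
  have : ExpChar L p := expChar_of_injective_algebraMap (algebraMap K L).injective p
  obtain ⟨k, hk⟩ := IsPurelyInseparable.finrank_eq_pow E L p
  have hmem : ∀ z : L, ∃ w : E, algebraMap E L w = z ^ Module.finrank E L := fun z =>
    pow_finrank_mem_range p z
  choose F hF using hmem
  let y : Fin (N + 1) → E := fun i => F (x i)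
  let _ : Algebra R E := ((algebraMap K E).comp (algebraMap R K)).toAlgebra
  have : IsScalarTower R K E := IsScalarTower.of_algebraMap_eq (fun _ => rfl)
  have hinjEL : Function.Injective (algebraMap E L) := (algebraMap E L).injective
  have hy : y ≠ 0 := by
    intro h
    apply hx
    funext i
    have h1 : y i = 0 := congrFun h i
    have h2 : algebraMap E L (y i) = 0 := by rw [h1, map_zero]
    rw [hF] at h2
    exact pow_eq_zero_iff (Module.finrank_pos.ne') |>.mp h2
  have hyeq : y 0 ^ d = ∑ i : Fin N,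
      (algebraMap R E ϖ) ^ (Module.finrank E L * ((i : ℕ) + 1)) * y i.succ ^ d := by
    apply hinjEL
    rw [map_pow, hF, ← pow_mul, mul_comm, pow_mul, heq, hk, sum_pow_char_pow, map_sum]
    refine Finset.sum_congr rfl fun i _ => ?_
    have h3 : algebraMap E L (algebraMap R E ϖ) = algebraMap K L (algebraMap R K ϖ) := rfl
    have e1 : algebraMap E L (y i.succ ^ d) = (x i.succ ^ d) ^ p ^ k := by
      rw [map_pow, hF, hk, ← pow_mul, ← pow_mul, mul_comm]
    have e2 : algebraMap E L ((algebraMap R E ϖ) ^ (p ^ k * ((i : ℕ) + 1))) =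
        (algebraMap K L (algebraMap R K (ϖ ^ ((i : ℕ) + 1)))) ^ p ^ k := by
      rw [map_pow, h3, map_pow (algebraMap R K), map_pow (algebraMap K L), ← pow_mul, mul_comm]
    rw [map_mul, e1, e2, mul_pow]
  have := Iidx_dvd_of_solution_separable (K := K) ϖ hϖ d N (Module.finrank E L) hd y hy hyeq
  rwa [mul_comm, Module.finrank_mul_finrank] at this


open Polynomial in
theorem irreducible_X_pow_sub_C_uniformizer
    {R K : Type*} [CommRing R] [IsDomain R] [IsDiscreteValuationRing R]
    [Field K] [Algebra R K] [IsFractionRing R K]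
    (ϖ : R) (hϖ : Irreducible ϖ) (e : ℕ) (he : 1 ≤ e) :
    Irreducible (X ^ e - C (algebraMap R K ϖ) : K[X]) := by
  have hmonic : (X ^ e - C ϖ : R[X]).Monic := monic_X_pow_sub_C ϖ (by omega)
  have hdeg : (X ^ e - C ϖ : R[X]).natDegree = e := natDegree_X_pow_sub_C
  have hprime : (Ideal.span {ϖ} : Ideal R).IsPrime := by
    rw [Ideal.span_singleton_prime hϖ.ne_zero]
    exact hϖ.prime
  have hE : (X ^ e - C ϖ : R[X]).IsEisensteinAt (Ideal.span {ϖ}) := by
    refine ⟨?_, ?_, ?_⟩
    · rw [hmonic.leadingCoeff]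
      intro h
      exact hprime.ne_top ((Ideal.eq_top_iff_one _).mpr h)
    · intro n hn
      rw [hdeg] at hn
      rw [coeff_sub, coeff_X_pow, coeff_C, if_neg (by omega)]
      split_ifs
      · simp
      · simp
    · rw [coeff_sub, coeff_X_pow, coeff_C, if_neg (by omega), if_pos rfl, zero_sub,
        neg_mem_iff, Ideal.span_singleton_pow, Ideal.mem_span_singleton]
      intro h
      obtain ⟨c, hc⟩ := h
      have : ϖ * (1 - ϖ * c) = 0 := by linear_combination hc
      rcases mul_eq_zero.mp this with h0 | h0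
      · exact hϖ.ne_zero h0
      · exact hϖ.not_isUnit (IsUnit.of_mul_eq_one c (by linear_combination -h0))
  have hirr : Irreducible (X ^ e - C ϖ : R[X]) :=
    hE.irreducible hprime hmonic.isPrimitive (by rw [hdeg]; omega)
  have := (Polynomial.Monic.irreducible_iff_irreducible_map_fraction_map (K := K) hmonic).mp hirr
  simpa using this

open Polynomial in
theorem exists_extension_of_degree
    {R K : Type*} [CommRing R] [IsDomain R] [IsDiscreteValuationRing R]
    [Field K] [Algebra R K] [IsFractionRing R K]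
    (ϖ : R) (hϖ : Irreducible ϖ) (d N δ : ℕ) (hd : 1 ≤ d) (hδ1 : 1 ≤ δ) (hδN : δ ≤ N)
    (hδd : δ ∣ d) :
    ∃ (f : K[X]) (_ : Fact (Irreducible f)),
      Module.finrank K (AdjoinRoot f) = d / δ ∧ FiniteDimensional K (AdjoinRoot f) ∧
      ∃ x : Fin (N + 1) → AdjoinRoot f, x ≠ 0 ∧
        x 0 ^ d = ∑ i : Fin N,
          algebraMap K (AdjoinRoot f) (algebraMap R K (ϖ ^ ((i : ℕ) + 1))) * x i.succ ^ d := by
  classical
  obtain ⟨e, rfl⟩ := hδd
  have he : 1 ≤ e := by
    rcases Nat.eq_zero_or_pos e with h | h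
    · subst h; omega
    · exact h
  have hde : δ * e / δ = e := Nat.mul_div_cancel_left e (by omega)
  let f : K[X] := X ^ e - C (algebraMap R K ϖ)
  have hirr : Irreducible f := irreducible_X_pow_sub_C_uniformizer ϖ hϖ e he
  have hf0 : f ≠ 0 := hirr.ne_zero
  have hfact : Fact (Irreducible f) := ⟨hirr⟩
  have hfdeg : f.natDegree = e := natDegree_X_pow_sub_C
  refine ⟨f, ⟨hirr⟩, ?_, ?_, ?_⟩
  · rw [hde, (AdjoinRoot.powerBasis hf0).finrank, AdjoinRoot.powerBasis_dim, hfdeg]
  · exact (AdjoinRoot.powerBasis hf0).finite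
  · have hroot : (AdjoinRoot.root f) ^ e = algebraMap K (AdjoinRoot f) (algebraMap R K ϖ) := by
      have h := AdjoinRoot.eval₂_root f
      simp only [f, eval₂_sub, eval₂_pow, eval₂_X, eval₂_C] at h
      rw [sub_eq_zero] at h
      exact h
    let x : Fin (N + 1) → AdjoinRoot f := fun j =>
      if j = 0 then AdjoinRoot.root f else if (j : ℕ) = δ then 1 else 0
    have hδlt : δ < N + 1 := by omega
    refine ⟨x, ?_, ?_⟩
    · intro h
      have h1 : x ⟨δ, hδlt⟩ = 0 := congrFun h _
      have hne : (⟨δ, hδlt⟩ : Fin (N + 1)) ≠ 0 := by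
        intro h0
        have := congrArg Fin.val h0
        simp at this
        omega
      simp [x, hne] at h1
    · have hx0 : x 0 = AdjoinRoot.root f := by simp [x]
      have hxs : ∀ i : Fin N, x i.succ = if (i : ℕ) + 1 = δ then 1 else 0 := by
        intro i
        simp [x, Fin.succ_ne_zero]
      have hi0 : δ - 1 < N := by omega
      rw [hx0, Finset.sum_eq_single (⟨δ - 1, hi0⟩ : Fin N)]
      · rw [hxs, if_pos (by simp; omega), one_pow, mul_one, pow_mul', ← pow_mul', mul_comm,
          pow_mul, hroot, ← map_pow, ← map_pow]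
        congr 3
        simp; omega
      · intro i _ hi
        have : (i : ℕ) + 1 ≠ δ := by
          intro h
          apply hi
          apply Fin.ext
          simp; omega
        rw [hxs, if_neg this, zero_pow (by omega), mul_zero]
      · intro h
        exact absurd (Finset.mem_univ _) h

end Groth.Agent.R2.H86.TwistedDiag
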