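import Mathlib
import Groth.Agent.Lib.Helper12AffineDescent

/-!
# helper87: affine quotients commute with flat base change (package AD-Q of PROJ:algsp-affdesc)

`exists_affine_quotient`: for affine `Z U R`, `ν : U ⟶ Z`, `s t : R ⟶ U` with `s ≫ ν = t ≫ ν`,
the affine scheme `Q := Spec (eq (Γ(s), Γ(t)))` receives `ρ : U ⟶ Q` coequalizing `s, t`, maps to `Z`,
and for every flat base change `c : W ⟶ Z` along which the relation becomes effective with affine
quotient `V`, we get `V ≅ Q ×_Z W`.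
-/

set_option autoImplicit false
universe u

open CategoryTheory Limits AlgebraicGeometry TensorProduct

namespace Groth.Agent.R2.H87.AffQuot

section RingCore

/-- From a pushout square in `CommRingCat`, the comparison ring isomorphism with the tensor
product. -/
lemma exists_tensor_ringEquiv {A B A' B' : CommRingCat.{u}} {a : A ⟶ B} {c : A ⟶ A'}
    {b' : B ⟶ B'} {a' : A' ⟶ B'} (H : IsPushout a c b' a') :
    letI := a.hom.toAlgebra
    letI := c.hom.toAlgebra
    ∃ Ψ : A' ⊗[A] B ≃+* B', (∀ x : A', Ψ (x ⊗ₜ 1) = a' x) ∧ (∀ y : B, Ψ (1 ⊗ₜ y) = b' y) := by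
  let _ := a.hom.toAlgebra
  let _ := c.hom.toAlgebra
  have H' : IsPushout (CommRingCat.ofHom (algebraMap A A')) (CommRingCat.ofHom (algebraMap A B))
      a' b' := H.flip
  let Φ := (CommRingCat.isPushout_tensorProduct A A' B).isoIsPushout _ _ H'
  refine ⟨Φ.commRingCatIsoToRingEquiv, fun x => ?_, fun y => ?_⟩
  · have h1 := IsPushout.inl_isoIsPushout_hom _ _ (CommRingCat.isPushout_tensorProduct A A' B) H'
    exact ConcreteCategory.congr_hom h1 x
  · have h1 := IsPushout.inr_isoIsPushout_hom _ _ (CommRingCat.isPushout_tensorProduct A A' B) H'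
    exact ConcreteCategory.congr_hom h1 y

/-- The ring-theoretic core: flat base change of an equalizer, plus an effective quotient upstairs. -/
theorem ring_core {A B C A' B' C' E D : CommRingCat.{u}}
    (a : A ⟶ B) (f g : B ⟶ C) (hfg : a ≫ f = a ≫ g)
    (c : A ⟶ A') (hc : c.hom.Flat)
    (b' : B ⟶ B') (a' : A' ⟶ B') (HB : IsPushout a c b' a')
    (c' : C ⟶ C') (a'' : A' ⟶ C') (HC : IsPushout (a ≫ f) c c' a'')
    (f' g' : B' ⟶ C') (hf1 : b' ≫ f' = f ≫ c') (hg1 : b' ≫ g' = g ≫ c')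
    (hf2 : a' ≫ f' = a'') (hg2 : a' ≫ g' = a'')
    (e : E ⟶ B') (he : e ≫ f' = e ≫ g') (hE : IsLimit (Fork.ofι e he))
    (β : A' ⟶ E) (hβ : β ≫ e = a')
    (ι : D ⟶ B) (hι : ι ≫ f = ι ≫ g) (hinj : Function.Injective ι)
    (hex : ∀ y : B, f y = g y → ∃ d : D, ι d = y)
    (α : A ⟶ D) (hα : α ≫ ι = a) :
    ∃ θ : D ⟶ E, θ ≫ e = ι ≫ b' ∧ IsPushout α c θ β := by
  -- the map `θ`
  have hw : (ι ≫ b') ≫ f' = (ι ≫ b') ≫ g' := by
    rw [Category.assoc, hf1, Category.assoc, hg1, reassoc_of% hι]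
  let θ : D ⟶ E := Fork.IsLimit.lift hE (ι ≫ b') hw
  have hθ : θ ≫ e = ι ≫ b' := Fork.IsLimit.lift_ι hE
  have hmono : Mono e := mono_of_isLimit_fork hE
  have he_inj : Function.Injective e := ConcreteCategory.injective_of_mono_of_preservesPullback e
  refine ⟨θ, hθ, ?_⟩
  -- algebra structures
  let _ : Algebra A B := a.hom.toAlgebra
  let _ : Algebra A A' := c.hom.toAlgebra
  let _ : Algebra A C := (a ≫ f).hom.toAlgebra
  let _ : Algebra A D := α.hom.toAlgebra
  obtain ⟨ΨB, hΨB1, hΨB2⟩ := exists_tensor_ringEquiv HB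
  obtain ⟨ΨC, hΨC1, hΨC2⟩ := exists_tensor_ringEquiv HC
  have hflat : Module.Flat A A' := hc
  -- elementwise forms
  have hfgx : ∀ r : A, g (a r) = f (a r) := fun r => (ConcreteCategory.congr_hom hfg r).symm
  have hαx : ∀ r : A, ι (α r) = a r := fun r => ConcreteCategory.congr_hom hα r
  have hιx : ∀ d : D, f (ι d) = g (ι d) := fun d => ConcreteCategory.congr_hom hι d
  have hθx : ∀ d : D, e (θ d) = b' (ι d) := fun d => ConcreteCategory.congr_hom hθ d
  have hβx : ∀ x : A', e (β x) = a' x := fun x => ConcreteCategory.congr_hom hβ x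
  have hf1x : ∀ y : B, f' (b' y) = c' (f y) := fun y => ConcreteCategory.congr_hom hf1 y
  have hg1x : ∀ y : B, g' (b' y) = c' (g y) := fun y => ConcreteCategory.congr_hom hg1 y
  have hf2x : ∀ x : A', f' (a' x) = a'' x := fun x => ConcreteCategory.congr_hom hf2 x
  have hg2x : ∀ x : A', g' (a' x) = a'' x := fun x => ConcreteCategory.congr_hom hg2 x
  have hex' : ∀ x : E, f' (e x) = g' (e x) := fun x => ConcreteCategory.congr_hom he x
  -- linear maps
  let fL : B →ₗ[A] C :=
    { toFun := f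
      map_add' := map_add _
      map_smul' := fun r x => by
        change f (a r * x) = f (a r) * f x
        rw [map_mul] }
  let gL : B →ₗ[A] C :=
    { toFun := g
      map_add' := map_add _
      map_smul' := fun r x => by
        change g (a r * x) = f (a r) * g x
        rw [map_mul, hfgx] }
  let ιL : D →ₗ[A] B :=
    { toFun := ι
      map_add' := map_add _
      map_smul' := fun r x => by
        change ι (α r * x) = a r * ι x
        rw [map_mul, hαx] }
  have hexact : Function.Exact ιL (fL - gL) := by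
    intro y
    constructor
    · intro hy
      have : f y = g y := sub_eq_zero.mp hy
      obtain ⟨d, hd⟩ := hex y this
      exact ⟨d, hd⟩
    · rintro ⟨d, rfl⟩
      exact sub_eq_zero.mpr (hιx d)
  have hexactT : Function.Exact (ιL.lTensor A') ((fL - gL).lTensor A') :=
    Module.Flat.lTensor_exact A' hexact
  have hinjT : Function.Injective (ιL.lTensor A') :=
    Module.Flat.lTensor_preserves_injective_linearMap ιL hinj
  -- the comparison map
  have hPD := CommRingCat.isPushout_tensorProduct A A' D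
  have hwφ : CommRingCat.ofHom (algebraMap A A') ≫ β = CommRingCat.ofHom (algebraMap A D) ≫ θ := by
    rw [← cancel_mono e]
    change c ≫ β ≫ e = α ≫ θ ≫ e
    rw [hβ, hθ, reassoc_of% hα, HB.w]
  let φ : CommRingCat.of (A' ⊗[A] D) ⟶ E := hPD.desc β θ hwφ
  have hφ1 : ∀ x : A', φ (x ⊗ₜ 1) = β x := fun x =>
    ConcreteCategory.congr_hom (hPD.inl_desc β θ hwφ) x
  have hφ2 : ∀ d : D, φ (1 ⊗ₜ d) = θ d := fun d =>
    ConcreteCategory.congr_hom (hPD.inr_desc β θ hwφ) d
  have K1 : ∀ z : A' ⊗[A] D, e (φ z) = ΨB (ιL.lTensor A' z) := by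
    intro z
    induction z using TensorProduct.induction_on with
    | zero => simp
    | tmul x d =>
      have h1 : (x ⊗ₜ[A] d : A' ⊗[A] D) = (x ⊗ₜ 1) * (1 ⊗ₜ d) := by
        rw [Algebra.TensorProduct.tmul_mul_tmul, mul_one, one_mul]
      have h2 : (ιL.lTensor A') (x ⊗ₜ[A] d) = (x ⊗ₜ[A] (1 : B)) * ((1 : A') ⊗ₜ[A] (ι d)) := by
        rw [LinearMap.lTensor_tmul, Algebra.TensorProduct.tmul_mul_tmul, mul_one, one_mul]
        rfl
      rw [h2, h1, map_mul, map_mul, hφ1, hφ2, hβx, hθx, map_mul, hΨB1, hΨB2]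
    | add z w hz hw => rw [map_add, map_add, hz, hw, map_add, map_add]
  have K2 : ∀ y : A' ⊗[A] B, f' (ΨB y) = ΨC (fL.lTensor A' y) := by
    intro y
    induction y using TensorProduct.induction_on with
    | zero => simp
    | tmul x b =>
      have h1 : (x ⊗ₜ[A] b : A' ⊗[A] B) = (x ⊗ₜ 1) * (1 ⊗ₜ b) := by
        rw [Algebra.TensorProduct.tmul_mul_tmul, mul_one, one_mul]
      have h2 : (fL.lTensor A') (x ⊗ₜ[A] b) = (x ⊗ₜ[A] (1 : C)) * ((1 : A') ⊗ₜ[A] (f b)) := by
        rw [LinearMap.lTensor_tmul, Algebra.TensorProduct.tmul_mul_tmul, mul_one, one_mul]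
        rfl
      rw [h2, h1, map_mul, map_mul, hΨB1, hΨB2, hf2x, hf1x, map_mul, hΨC1, hΨC2]
    | add z w hz hw => rw [map_add, map_add, hz, hw, map_add, map_add]
  have K3 : ∀ y : A' ⊗[A] B, g' (ΨB y) = ΨC (gL.lTensor A' y) := by
    intro y
    induction y using TensorProduct.induction_on with
    | zero => simp
    | tmul x b =>
      have h1 : (x ⊗ₜ[A] b : A' ⊗[A] B) = (x ⊗ₜ 1) * (1 ⊗ₜ b) := by
        rw [Algebra.TensorProduct.tmul_mul_tmul, mul_one, one_mul]
      have h2 : (gL.lTensor A') (x ⊗ₜ[A] b) = (x ⊗ₜ[A] (1 : C)) * ((1 : A') ⊗ₜ[A] (g b)) := by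
        rw [LinearMap.lTensor_tmul, Algebra.TensorProduct.tmul_mul_tmul, mul_one, one_mul]
        rfl
      rw [h2, h1, map_mul, map_mul, hΨB1, hΨB2, hg2x, hg1x, map_mul, hΨC1, hΨC2]
    | add z w hz hw => rw [map_add, map_add, hz, hw, map_add, map_add]
  have hφinj : Function.Injective φ := by
    intro z w hzw
    apply hinjT
    apply ΨB.injective
    rw [← K1, ← K1, hzw]
  have hφsurj : Function.Surjective φ := by
    intro x
    have hy : ((fL - gL).lTensor A') (ΨB.symm (e x)) = 0 := by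
      apply ΨC.injective
      rw [LinearMap.lTensor_sub, LinearMap.sub_apply, map_sub, ← K2, ← K3, ΨB.apply_symm_apply,
        hex', sub_self, map_zero]
    obtain ⟨z, hz⟩ := (hexactT _).mp hy
    refine ⟨z, he_inj ?_⟩
    rw [K1, hz, ΨB.apply_symm_apply]
  have hφiso : IsIso φ := (ConcreteCategory.isIso_iff_bijective φ).mpr ⟨hφinj, hφsurj⟩
  have := hPD.of_iso (Iso.refl _) (Iso.refl _) (Iso.refl _) (asIso φ)
    (f' := c) (g' := α) (inl' := β) (inr' := θ) (by simp; rfl) (by simp; rfl)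
    (by simp only [asIso_hom, Iso.refl_hom, Category.id_comp]; exact hPD.inl_desc β θ hwφ)
    (by simp only [asIso_hom, Iso.refl_hom, Category.id_comp]; exact hPD.inr_desc β θ hwφ)
  exact this.flip

end RingCore

section Geom

/-- **Package AD-Q.**  The affine quotient `Spec (eq (Γ(s), Γ(t)))` commutes with flat base change
whenever the base-changed relation is effective with affine quotient. -/
theorem exists_affine_quotient {Z U R : Scheme.{u}} [IsAffine Z] [IsAffine U] [IsAffine R]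
    (ν : U ⟶ Z) (s t : R ⟶ U) (hst : s ≫ ν = t ≫ ν) :
    ∃ (Q : Scheme.{u}) (_ : IsAffine Q) (ρ : U ⟶ Q) (σ : Q ⟶ Z), ρ ≫ σ = ν ∧ s ≫ ρ = t ≫ ρ ∧
      ∀ (W V U' R' : Scheme.{u}) (_ : IsAffine W) (_ : IsAffine V) (c : W ⟶ Z) (_ : Flat c)
        (β : V ⟶ W)
        (uU : U' ⟶ U) (uW : U' ⟶ W) (_ : IsPullback uU uW ν c)
        (rR : R' ⟶ R) (rW : R' ⟶ W) (_ : IsPullback rR rW (s ≫ ν) c)
        (s' t' : R' ⟶ U') (_ : s' ≫ uU = rR ≫ s) (_ : t' ≫ uU = rR ≫ t) (_ : s' ≫ uW = rW)
        (_ : t' ≫ uW = rW)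
        (q : U' ⟶ V) (_ : Flat q) (_ : Surjective q) (_ : q ≫ β = uW) (_ : IsPullback s' t' q q),
        ∃ θ : V ⟶ Q, q ≫ θ = uU ≫ ρ ∧ IsPullback θ β σ c := by
  let D : CommRingCat.{u} := CommRingCat.of (RingHom.eqLocus s.appTop.hom t.appTop.hom)
  let ι : D ⟶ Γ(U, ⊤) := CommRingCat.ofHom (RingHom.eqLocus s.appTop.hom t.appTop.hom).subtype
  have hι : ι ≫ s.appTop = ι ≫ t.appTop := by
    ext x
    exact x.2
  have hνst : ν.appTop ≫ s.appTop = ν.appTop ≫ t.appTop := by
    rw [← Scheme.Hom.comp_appTop, ← Scheme.Hom.comp_appTop, hst]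
  let α : Γ(Z, ⊤) ⟶ D := CommRingCat.ofHom
    (RingHom.codRestrict ν.appTop.hom (RingHom.eqLocus s.appTop.hom t.appTop.hom)
      (fun x => ConcreteCategory.congr_hom hνst x))
  have hα : α ≫ ι = ν.appTop := by
    ext x
    rfl
  have hιinj : Function.Injective ι := Subtype.val_injective
  have hιex : ∀ y : Γ(U, ⊤), s.appTop y = t.appTop y → ∃ d : D, ι d = y :=
    fun y hy => ⟨⟨y, hy⟩, rfl⟩
  refine ⟨Spec D, inferInstance, U.toSpecΓ ≫ Spec.map ι, Spec.map α ≫ Z.isoSpec.inv, ?_, ?_, ?_⟩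
  · rw [Category.assoc, ← Spec.map_comp_assoc, hα, ← Scheme.toSpecΓ_naturality_assoc]
    change ν ≫ Z.isoSpec.hom ≫ Z.isoSpec.inv = ν
    rw [Iso.hom_inv_id, Category.comp_id]
  · rw [Scheme.toSpecΓ_naturality_assoc, Scheme.toSpecΓ_naturality_assoc, ← Spec.map_comp,
      ← Spec.map_comp, hι]
  · intro W V U' R' _ _ c _ β uU uW hU' rR rW hR' s' t' hs1 ht1 hs2 ht2 q _ _ hqβ hq
    have : IsAffine U' := .of_isIso hU'.isoPullback.hom
    have : IsAffine R' := .of_isIso hR'.isoPullback.hom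
    have HB : IsPushout ν.appTop c.appTop uU.appTop uW.appTop :=
      Groth.Agent.Lib.Helper12.isPushout_appTop hU'
    have HC : IsPushout (ν.appTop ≫ s.appTop) c.appTop rR.appTop rW.appTop :=
      Groth.Agent.Lib.Helper12.isPushout_appTop hR'
    have HE : IsPushout q.appTop q.appTop s'.appTop t'.appTop :=
      Groth.Agent.Lib.Helper12.isPushout_appTop hq
    have hff : q.appTop.hom.FaithfullyFlat :=
      (Flat.flat_and_surjective_iff_faithfullyFlat_of_isAffine q).mp ⟨inferInstance, inferInstance⟩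
    have hcflat : c.appTop.hom.Flat := Scheme.Hom.flat_appTop c
    have he : q.appTop ≫ s'.appTop = q.appTop ≫ t'.appTop := HE.w
    have hE : IsLimit (Fork.ofι q.appTop he) :=
      Fork.isLimitOfIsos _ (CommRingCat.isLimitForkPushoutSelfOfFaithfullyFlat q.appTop hff)
        (Fork.ofι q.appTop he) (Iso.refl _) HE.isoPushout.symm (Iso.refl _)
        (by simp) (by simp) (by simp)
    obtain ⟨θ, hθ, Hθ⟩ := ring_core ν.appTop s.appTop t.appTop hνst c.appTop hcflat
      uU.appTop uW.appTop HB rR.appTop rW.appTop HC s'.appTop t'.appTop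
      (by rw [← Scheme.Hom.comp_appTop, ← Scheme.Hom.comp_appTop, hs1])
      (by rw [← Scheme.Hom.comp_appTop, ← Scheme.Hom.comp_appTop, ht1])
      (by rw [← Scheme.Hom.comp_appTop, hs2])
      (by rw [← Scheme.Hom.comp_appTop, ht2])
      q.appTop he hE β.appTop (by rw [← Scheme.Hom.comp_appTop, hqβ])
      ι hι hιinj hιex α hα
    refine ⟨V.toSpecΓ ≫ Spec.map θ, ?_, ?_⟩
    · rw [Scheme.toSpecΓ_naturality_assoc, Scheme.toSpecΓ_naturality_assoc, ← Spec.map_comp,
        ← Spec.map_comp, hθ]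
    · have H1 : IsPullback (Spec.map θ) (Spec.map β.appTop) (Spec.map α) (Spec.map c.appTop) :=
        (Hθ.op.map Scheme.Spec).flip
      refine H1.of_iso V.isoSpec.symm (Iso.refl _) W.isoSpec.symm Z.isoSpec.symm ?_ ?_ ?_ ?_
      · change Spec.map θ ≫ 𝟙 _ = V.isoSpec.inv ≫ V.isoSpec.hom ≫ Spec.map θ
        rw [Iso.inv_hom_id_assoc, Category.comp_id]
      · exact Scheme.isoSpec_inv_naturality β
      · simp
      · exact Scheme.isoSpec_inv_naturality c

end Geom

end Groth.Agent.R2.H87.AffQuot
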