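import Mathlib

/-!
# Lifting of clopen subsets along a map (helper87)

`ClopenLift p` : every clopen subset of the source is the preimage of exactly one clopen
subset of the target.  Invariance under homeomorphisms, dependence only on the range for
embeddings, and the ring-level incarnation through idempotents.
-/

set_option autoImplicit false

namespace Groth.Agent.R2.H87.Clopen

open Topology

universe u

/-- Every clopen subset of `P` is the preimage under `p` of exactly one clopen subset of `Y`. -/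
def ClopenLift {P Y : Type*} [TopologicalSpace P] [TopologicalSpace Y] (p : P → Y) : Prop :=
  ∀ V : Set P, IsClopen V → ∃! U : Set Y, IsClopen U ∧ p ⁻¹' U = V

section Top

variable {P P' Y Y' : Type*} [TopologicalSpace P] [TopologicalSpace P'] [TopologicalSpace Y]
  [TopologicalSpace Y']

theorem clopenLift_comp_homeomorph (e : P' ≃ₜ P) (p : P → Y) (h : ClopenLift p) :
    ClopenLift (p ∘ e) := by
  intro V hV
  have hV' : IsClopen (e.symm ⁻¹' V) := hV.preimage e.symm.continuous
  obtain ⟨U, ⟨hU1, hU2⟩, hU3⟩ := h _ hV'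
  refine ⟨U, ⟨hU1, ?_⟩, ?_⟩
  · rw [Set.preimage_comp, hU2, ← Set.preimage_comp]
    simp
  · rintro U' ⟨hU'1, hU'2⟩
    apply hU3
    refine ⟨hU'1, ?_⟩
    rw [← hU'2, Set.preimage_comp, ← Set.preimage_comp (g := e)]
    simp

theorem clopenLift_comp_homeomorph_iff (e : P' ≃ₜ P) (p : P → Y) :
    ClopenLift (p ∘ e) ↔ ClopenLift p := by
  refine ⟨fun h => ?_, clopenLift_comp_homeomorph e p⟩
  have := clopenLift_comp_homeomorph e.symm (p ∘ e) h
  have h2 : (p ∘ e) ∘ e.symm = p := by
    ext x; simp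
  rwa [h2] at this

theorem clopenLift_homeomorph_comp (e : Y ≃ₜ Y') (p : P → Y) (h : ClopenLift p) :
    ClopenLift (e ∘ p) := by
  intro V hV
  obtain ⟨U, ⟨hU1, hU2⟩, hU3⟩ := h _ hV
  refine ⟨e.symm ⁻¹' U, ⟨hU1.preimage e.symm.continuous, ?_⟩, ?_⟩
  · rw [Set.preimage_comp, ← Set.preimage_comp (g := e.symm)]
    simpa using hU2
  · rintro U' ⟨hU'1, hU'2⟩
    have : e ⁻¹' U' = U := by
      apply hU3
      exact ⟨hU'1.preimage e.continuous, by rw [← hU'2, Set.preimage_comp]⟩
    rw [← this, ← Set.preimage_comp]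
    simp

theorem clopenLift_homeomorph_comp_iff (e : Y ≃ₜ Y') (p : P → Y) :
    ClopenLift (e ∘ p) ↔ ClopenLift p := by
  refine ⟨fun h => ?_, clopenLift_homeomorph_comp e p⟩
  have := clopenLift_homeomorph_comp e.symm (e ∘ p) h
  have h2 : e.symm ∘ (e ∘ p) = p := by
    ext x; simp
  rwa [h2] at this

theorem clopenLift_iff_subtype {p : P → Y} (hp : IsEmbedding p) :
    ClopenLift p ↔ ClopenLift (Subtype.val : Set.range p → Y) := by
  have : p = (Subtype.val : Set.range p → Y) ∘ hp.toHomeomorph := by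
    ext x; rfl
  conv_lhs => rw [this]
  exact clopenLift_comp_homeomorph_iff _ _

/-- For embeddings, `ClopenLift` only depends on the range. -/
theorem clopenLift_iff_of_range_eq {p : P → Y} {p' : P' → Y} (hp : IsEmbedding p)
    (hp' : IsEmbedding p') (h : Set.range p = Set.range p') :
    ClopenLift p ↔ ClopenLift p' := by
  rw [clopenLift_iff_subtype hp, clopenLift_iff_subtype hp']
  have key : ∀ (Z Z' : Set Y), Z = Z' →
      (ClopenLift (Subtype.val : Z → Y) ↔ ClopenLift (Subtype.val : Z' → Y)) := by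
    rintro Z _ rfl; exact Iff.rfl
  exact key _ _ h

end Top

section Ring

variable {B C : Type u} [CommRing B] [CommRing C]

/-- For a ring homomorphism, clopens of the spectra lift uniquely iff idempotents lift uniquely. -/
theorem clopenLift_comap_iff (φ : B →+* C) :
    ClopenLift (PrimeSpectrum.comap φ) ↔
      Set.BijOn φ {e : B | IsIdempotentElem e} {e : C | IsIdempotentElem e} := by
  have hpre : ∀ e : B, (PrimeSpectrum.comap φ) ⁻¹' (PrimeSpectrum.basicOpen e : Set (PrimeSpectrum B)) =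
      (PrimeSpectrum.basicOpen (φ e) : Set (PrimeSpectrum C)) := by
    intro e
    ext x
    simp
  constructor
  · intro h
    refine ⟨fun e he => he.map φ, ?_, ?_⟩
    · intro e he e' he' hee'
      have hV : IsClopen (PrimeSpectrum.basicOpen (φ e) : Set (PrimeSpectrum C)) :=
        PrimeSpectrum.isClopen_iff.mpr ⟨_, he.map φ, rfl⟩
      obtain ⟨U, -, hU⟩ := h _ hV
      have h1 : (PrimeSpectrum.basicOpen e : Set (PrimeSpectrum B)) = U :=
        hU _ ⟨PrimeSpectrum.isClopen_iff.mpr ⟨_, he, rfl⟩, hpre e⟩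
      have h2 : (PrimeSpectrum.basicOpen e' : Set (PrimeSpectrum B)) = U :=
        hU _ ⟨PrimeSpectrum.isClopen_iff.mpr ⟨_, he', rfl⟩, by rw [hpre e', hee']⟩
      exact PrimeSpectrum.basicOpen_injOn_isIdempotentElem he he' (SetLike.ext' (h1.trans h2.symm))
    · intro ē hē
      have hV : IsClopen (PrimeSpectrum.basicOpen ē : Set (PrimeSpectrum C)) :=
        PrimeSpectrum.isClopen_iff.mpr ⟨_, hē, rfl⟩
      obtain ⟨U, ⟨hU1, hU2⟩, -⟩ := h _ hV
      obtain ⟨e, he, rfl⟩ := PrimeSpectrum.isClopen_iff.mp hU1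
      refine ⟨e, he, ?_⟩
      rw [hpre] at hU2
      exact PrimeSpectrum.basicOpen_injOn_isIdempotentElem (he.map φ) hē (SetLike.ext' hU2)
  · intro h V hV
    obtain ⟨ē, hē, rfl⟩ := PrimeSpectrum.isClopen_iff.mp hV
    obtain ⟨e, he, rfl⟩ := h.surjOn hē
    refine ⟨PrimeSpectrum.basicOpen e, ⟨PrimeSpectrum.isClopen_iff.mpr ⟨_, he, rfl⟩, hpre e⟩, ?_⟩
    rintro U' ⟨hU'1, hU'2⟩
    obtain ⟨e', he', rfl⟩ := PrimeSpectrum.isClopen_iff.mp hU'1
    rw [hpre] at hU'2
    have h1 : φ e' = φ e :=
      PrimeSpectrum.basicOpen_injOn_isIdempotentElem (he'.map φ) (he.map φ) (SetLike.ext' hU'2)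
    rw [h.injOn he' he h1]

/-- For an embedding into `Spec B` with range `V(J)`, clopens lift uniquely iff idempotents lift
uniquely along `B → B/J`. -/
theorem clopenLift_iff_bijOn_of_range_eq_zeroLocus {P : Type*} [TopologicalSpace P] (J : Ideal B)
    (p : P → PrimeSpectrum B) (hp : IsEmbedding p)
    (hr : Set.range p = PrimeSpectrum.zeroLocus (J : Set B)) :
    ClopenLift p ↔ Set.BijOn (Ideal.Quotient.mk J) {e : B | IsIdempotentElem e}
      {e : B ⧸ J | IsIdempotentElem e} := by
  rw [← clopenLift_comap_iff]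
  refine clopenLift_iff_of_range_eq hp ?_ ?_
  · exact (PrimeSpectrum.isClosedEmbedding_comap_of_surjective _ _
      Ideal.Quotient.mk_surjective).isEmbedding
  · rw [hr, range_comap_of_surjective _ _ Ideal.Quotient.mk_surjective,
      Ideal.mk_ker]

end Ring

end Groth.Agent.R2.H87.Clopen
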