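import Mathlib
import Groth.Agent.R2.H87ClopenLift

/-!
# Clopen subsets and closed maps with connected fibres (helper87)

A closed continuous map with connected (nonempty) fibres induces a bijection on clopen subsets;
`ClopenLift` for a subspace `Z' ⊆ Y'` pulls back to `q ⁻¹' Z' ⊆ Y`.
-/

set_option autoImplicit false

namespace Groth.Agent.R2.H87.Clopen

open Topology

section

variable {P Q : Type*} [TopologicalSpace P] [TopologicalSpace Q] (q : P → Q)

/-- For a closed continuous map with connected fibres, every clopen subset of the source is the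
preimage of a clopen subset of the target. -/
theorem exists_isClopen_preimage_eq (hcl : IsClosedMap q)
    (hconn : ∀ y : Q, IsConnected (q ⁻¹' {y})) (V : Set P) (hV : IsClopen V) :
    ∃ W : Set Q, IsClopen W ∧ q ⁻¹' W = V := by
  have hsat : ∀ x x' : P, q x = q x' → x ∈ V → x' ∈ V := by
    intro x x' hxx' hx
    have h1 : q ⁻¹' {q x} ⊆ V :=
      (hconn (q x)).isPreconnected.subset_isClopen hV ⟨x, rfl, hx⟩
    exact h1 hxx'.symm
  have hsurj : Function.Surjective q := fun y => by
    obtain ⟨x, hx⟩ := (hconn y).nonempty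
    exact ⟨x, hx⟩
  have hcompl : (q '' V)ᶜ = q '' Vᶜ := by
    ext y
    constructor
    · intro hy
      obtain ⟨x, rfl⟩ := hsurj y
      exact ⟨x, fun hx => hy ⟨x, hx, rfl⟩, rfl⟩
    · rintro ⟨x, hx, rfl⟩ ⟨x', hx', hxx'⟩
      exact hx (hsat x' x hxx' hx')
  refine ⟨q '' V, ⟨hcl V hV.isClosed, ?_⟩, ?_⟩
  · rw [← isClosed_compl_iff, hcompl]
    exact hcl _ hV.compl.isClosed
  · ext x
    constructor
    · rintro ⟨x', hx', hxx'⟩
      exact hsat x' x hxx' hx'
    · intro hx
      exact ⟨x, hx, rfl⟩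

variable {q}

omit [TopologicalSpace Q] in
/-- the fibres of the restriction of `q` over a subset are connected. -/
theorem isConnected_restrictPreimage_fibre (hconn : ∀ y : Q, IsConnected (q ⁻¹' {y})) (Z' : Set Q)
    (y : Z') : IsConnected ((Z'.restrictPreimage q) ⁻¹' {y}) := by
  have himg : (Subtype.val : q ⁻¹' Z' → P) '' ((Z'.restrictPreimage q) ⁻¹' {y}) = q ⁻¹' {y.1} := by
    ext x
    constructor
    · rintro ⟨z, hz, rfl⟩
      have : Z'.restrictPreimage q z = y := hz
      change q z.1 = y.1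
      rw [← this]
      rfl
    · intro hx
      have hx' : q x = y.1 := hx
      refine ⟨⟨x, ?_⟩, ?_, rfl⟩
      · change q x ∈ Z'
        rw [hx']
        exact y.2
      · change Z'.restrictPreimage q ⟨x, _⟩ = y
        exact Subtype.ext hx'
  have h1 := hconn y.1
  rw [← himg] at h1
  refine ⟨?_, ?_⟩
  · exact Set.image_nonempty.mp h1.nonempty
  · exact (IsInducing.subtypeVal.isPreconnected_image).mp h1.isPreconnected

/-- **`ClopenLift` pulls back along a closed map with connected fibres.** -/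
theorem clopenLift_preimage_of_isClosedMap (hq : Continuous q) (hcl : IsClosedMap q)
    (hconn : ∀ y : Q, IsConnected (q ⁻¹' {y})) (Z' : Set Q)
    (h : ClopenLift (Subtype.val : Z' → Q)) :
    ClopenLift (Subtype.val : q ⁻¹' Z' → P) := by
  intro V hV
  have hclZ : IsClosedMap (Z'.restrictPreimage q) := hcl.restrictPreimage Z'
  have hconnZ := isConnected_restrictPreimage_fibre hconn Z'
  have hsurjZ : Function.Surjective (Z'.restrictPreimage q) := fun y => by
    obtain ⟨x, hx⟩ := (hconnZ y).nonempty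
    exact ⟨x, hx⟩
  obtain ⟨W, hW, hWV⟩ := exists_isClopen_preimage_eq _ hclZ hconnZ V hV
  obtain ⟨U', ⟨hU', hU'W⟩, huniq⟩ := h W hW
  refine ⟨q ⁻¹' U', ⟨hU'.preimage hq, ?_⟩, ?_⟩
  · rw [← hWV, ← hU'W]
    rfl
  · rintro U₁ ⟨hU₁, hU₁V⟩
    obtain ⟨U'₁, hU'₁, rfl⟩ := exists_isClopen_preimage_eq q hcl hconn U₁ hU₁
    have hW₁ : (Subtype.val : Z' → Q) ⁻¹' U'₁ = W := by
      have h2 : (Z'.restrictPreimage q) ⁻¹' ((Subtype.val : Z' → Q) ⁻¹' U'₁) =
          (Z'.restrictPreimage q) ⁻¹' W := by
        rw [hWV, ← hU₁V]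
        rfl
      exact (hsurjZ.preimage_injective) h2
    rw [huniq U'₁ ⟨hU'₁, hW₁⟩]

end

end Groth.Agent.R2.H87.Clopen
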