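import Mathlib
import Groth.Agent.R2.H87ClopenLift

/-!
# Lifting of clopen subsets and clopen partitions of the target (helper87)
-/

set_option autoImplicit false

namespace Groth.Agent.R2.H87.ClopenSigma

open Topology Groth.Agent.R2.H87.Clopen

section Partition

variable {P Y : Type*} [TopologicalSpace P] [TopologicalSpace Y] {ι : Type*}
  {Yj : ι → Type*} [∀ j, TopologicalSpace (Yj j)] {Pj : ι → Type*} [∀ j, TopologicalSpace (Pj j)]
  (q : P → Y) (p : ∀ j, Yj j → Y) (r : ∀ j, Pj j → P) (qj : ∀ j, Pj j → Yj j)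

/-- The data of a clopen partition of `Y` by open embeddings `p j`, pulled back along `q`. -/
structure IsPartitionSquare : Prop where
  cont : Continuous q
  comm : ∀ j x, q (r j x) = p j (qj j x)
  hp : ∀ j, IsOpenEmbedding (p j)
  hr : ∀ j, IsOpenEmbedding (r j)
  cover : ∀ y : Y, ∃ j, y ∈ Set.range (p j)
  disj : ∀ j k, j ≠ k → Disjoint (Set.range (p j)) (Set.range (p k))
  range_r : ∀ j, Set.range (r j) = q ⁻¹' Set.range (p j)

variable {q p r qj}

namespace IsPartitionSquare

variable (h : IsPartitionSquare q p r qj)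
include h

theorem eq_of_mem {j k : ι} {y : Y} (hj : y ∈ Set.range (p j)) (hk : y ∈ Set.range (p k)) :
    j = k := by
  by_contra hne
  exact Set.disjoint_iff.mp (h.disj j k hne) ⟨hj, hk⟩

theorem isClosed_range_p (j : ι) : IsClosed (Set.range (p j)) := by
  have : (Set.range (p j))ᶜ = ⋃ k ∈ {k | k ≠ j}, Set.range (p k) := by
    ext y
    simp only [Set.mem_compl_iff, Set.mem_iUnion, Set.mem_ofPred_eq, exists_prop]
    constructor
    · intro hy
      obtain ⟨k, hk⟩ := h.cover y
      refine ⟨k, ?_, hk⟩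
      rintro rfl
      exact hy hk
    · rintro ⟨k, hkj, hk⟩ hj
      exact hkj (h.eq_of_mem hk hj)
  rw [← isOpen_compl_iff, this]
  exact isOpen_biUnion (fun k _ => (h.hp k).isOpen_range)

theorem isClosedEmbedding_p (j : ι) : IsClosedEmbedding (p j) :=
  ⟨(h.hp j).isEmbedding, h.isClosed_range_p j⟩

theorem isClosedEmbedding_r (j : ι) : IsClosedEmbedding (r j) := by
  refine ⟨(h.hr j).isEmbedding, ?_⟩
  rw [h.range_r j]
  exact (h.isClosed_range_p j).preimage h.cont

/-- the image of a clopen set of a piece is clopen -/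
theorem isClopen_image_p (j : ι) {U : Set (Yj j)} (hU : IsClopen U) : IsClopen (p j '' U) :=
  ⟨(h.isClosedEmbedding_p j).isClosedMap _ hU.1, (h.hp j).isOpenMap _ hU.2⟩

theorem isClopen_image_r (j : ι) {V : Set (Pj j)} (hV : IsClopen V) : IsClopen (r j '' V) :=
  ⟨(h.isClosedEmbedding_r j).isClosedMap _ hV.1, (h.hr j).isOpenMap _ hV.2⟩

theorem preimage_image_p (j : ι) (U : Set (Yj j)) : q ⁻¹' (p j '' U) = r j '' (qj j ⁻¹' U) := by
  ext x
  constructor
  · rintro ⟨y, hyU, hy⟩
    have hx : x ∈ Set.range (r j) := by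
      rw [h.range_r j]
      exact ⟨y, hy⟩
    obtain ⟨x', rfl⟩ := hx
    refine ⟨x', ?_, rfl⟩
    have : p j (qj j x') = p j y := by rw [← h.comm j x', ← hy]
    have := (h.hp j).injective this
    change qj j x' ∈ U
    rw [this]
    exact hyU
  · rintro ⟨x', hx', rfl⟩
    exact ⟨qj j x', hx', (h.comm j x').symm⟩

theorem clopenLift_piece (hq : ClopenLift q) (j : ι) : ClopenLift (qj j) := by
  intro V hV
  have hVc : IsClopen (r j '' V) := h.isClopen_image_r j hV
  obtain ⟨U, ⟨hU1, hU2⟩, hU3⟩ := hq _ hVc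
  have hpre : ∀ W : Set (Yj j), qj j ⁻¹' W = r j ⁻¹' (q ⁻¹' (p j '' W)) := by
    intro W
    rw [h.preimage_image_p j W, Set.preimage_image_eq _ (h.hr j).injective]
  refine ⟨p j ⁻¹' U, ⟨hU1.preimage (h.hp j).continuous, ?_⟩, ?_⟩
  · ext x
    change p j (qj j x) ∈ U ↔ x ∈ V
    rw [← h.comm j x]
    change r j x ∈ q ⁻¹' U ↔ _
    rw [hU2]
    exact (h.hr j).injective.mem_set_image
  · rintro U' ⟨hU'1, hU'2⟩
    have e1 : p j '' U' = U := by
      apply hU3
      refine ⟨h.isClopen_image_p j hU'1, ?_⟩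
      rw [h.preimage_image_p j U', hU'2]
    rw [← e1, Set.preimage_image_eq _ (h.hp j).injective]

theorem clopenLift_of_pieces (hq : ∀ j, ClopenLift (qj j)) : ClopenLift q := by
  intro V hV
  have hVj : ∀ j, IsClopen (r j ⁻¹' V) := fun j => hV.preimage (h.hr j).continuous
  choose U hU hUuniq using fun j => hq j _ (hVj j)
  have hcompl : (⋃ j, p j '' U j)ᶜ = ⋃ j, p j '' (U j)ᶜ := by
    ext y
    simp only [Set.mem_compl_iff, Set.mem_iUnion, Set.mem_image, not_exists, not_and]
    constructor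
    · intro hy
      obtain ⟨j, y', rfl⟩ := h.cover y
      exact ⟨j, y', fun hy' => hy j y' hy' rfl, rfl⟩
    · rintro ⟨j, y', hy', rfl⟩ k y'' hy'' heq
      have hjk : k = j := h.eq_of_mem ⟨y'', heq⟩ ⟨y', rfl⟩
      subst hjk
      have := (h.hp k).injective heq
      subst this
      exact hy' hy''
  have hUclopen : IsClopen (⋃ j, p j '' U j) := by
    constructor
    · rw [← isOpen_compl_iff, hcompl]
      exact isOpen_iUnion (fun j => (h.hp j).isOpenMap _ (hU j).1.compl.2)
    · exact isOpen_iUnion (fun j => (h.hp j).isOpenMap _ (hU j).1.2)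
  refine ⟨⋃ j, p j '' U j, ⟨hUclopen, ?_⟩, ?_⟩
  · rw [Set.preimage_iUnion]
    ext x
    simp only [Set.mem_iUnion]
    constructor
    · rintro ⟨j, hx⟩
      rw [h.preimage_image_p j (U j), (hU j).2] at hx
      obtain ⟨x', hx', rfl⟩ := hx
      exact hx'
    · intro hx
      obtain ⟨j, hj⟩ := h.cover (q x)
      have hxr : x ∈ Set.range (r j) := by rw [h.range_r j]; exact hj
      obtain ⟨x', rfl⟩ := hxr
      refine ⟨j, ?_⟩
      rw [h.preimage_image_p j (U j), (hU j).2]
      exact ⟨x', hx, rfl⟩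
  · rintro U' ⟨hU'1, hU'2⟩
    have hj : ∀ j, p j ⁻¹' U' = U j := by
      intro j
      apply hUuniq j
      refine ⟨hU'1.preimage (h.hp j).continuous, ?_⟩
      rw [← hU'2]
      ext x
      change p j (qj j x) ∈ U' ↔ q (r j x) ∈ U'
      rw [h.comm j x]
    ext y
    simp only [Set.mem_iUnion, Set.mem_image]
    constructor
    · intro hy
      obtain ⟨j, y', rfl⟩ := h.cover y
      refine ⟨j, y', ?_, rfl⟩
      rw [← hj j]
      exact hy
    · rintro ⟨j, y', hy', rfl⟩
      rw [← hj j] at hy'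
      exact hy'

theorem clopenLift_iff : ClopenLift q ↔ ∀ j, ClopenLift (qj j) :=
  ⟨fun hq j => h.clopenLift_piece hq j, h.clopenLift_of_pieces⟩

end IsPartitionSquare

end Partition

end Groth.Agent.R2.H87.ClopenSigma
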