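import Mathlib
import Groth.Prelude.Def_Red

/-!
# Commutativity of a flat separated group scheme can be checked on a schematically dense base change
(helper87)

(The density argument follows helper84's `R2/H84GenFib`, generalised to an arbitrary
scheme-theoretically dominant quasi-compact base change.)
-/

set_option autoImplicit false
set_option linter.style.haveILetI false

namespace Groth.Agent.R2.H87.CommGeneric

open CategoryTheory MonoidalCategory CartesianMonoidalCategory MonObj GrpObj AlgebraicGeometry
  CategoryTheory.Limits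

universe u

/-- Two morphisms into a separated `Z`-scheme that agree on a scheme-theoretically dominant
morphism are equal. -/
theorem ext_of_isSchemeTheoreticallyDominant {W X Y Z : Scheme.{u}} {f g : X ⟶ Y}
    (s : Y ⟶ Z) [IsSeparated s] (h : f ≫ s = g ≫ s)
    (j : W ⟶ X) [IsSchemeTheoreticallyDominant j] (hU : j ≫ f = j ≫ g) : f = g := by
  let X' : Over Z := Over.mk (f ≫ s)
  let Y' : Over Z := Over.mk s
  let U' : Over Z := Over.mk (j ≫ f ≫ s)
  let f' : X' ⟶ Y' := Over.homMk f
  let g' : X' ⟶ Y' := Over.homMk g
  let j' : U' ⟶ X' := Over.homMk j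
  have : IsSeparated Y'.hom := ‹_›
  have hj : j' ≫ f' = j' ≫ g' := by ext1; exact hU
  have hfac : (equalizer.lift j' hj).left ≫ (equalizer.ι f' g').left = j := by
    rw [← Over.comp_left, equalizer.lift_ι]; rfl
  have hker : (equalizer.ι f' g').left.ker = ⊥ := by
    have h1 := Scheme.Hom.le_ker_comp (equalizer.lift j' hj).left (equalizer.ι f' g').left
    rw [hfac, IsSchemeTheoreticallyDominant.ker_eq_bot j] at h1
    exact le_bot_iff.mp h1
  have : IsIso (equalizer.ι f' g').left := IsClosedImmersion.isIso_iff_ker_eq_bot.mpr hker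
  rw [← cancel_epi (equalizer.ι f' g').left]
  exact congr($(equalizer.condition f' g').left)

theorem isSchemeTheoreticallyDominant_Spec_map {A B : CommRingCat.{u}} (φ : A ⟶ B)
    (hφ : Function.Injective φ.hom) : IsSchemeTheoreticallyDominant (Spec.map φ) := by
  rw [isSchemeTheoreticallyDominant_iff, Scheme.ker_of_isAffine]
  have h1 : RingHom.ker (Spec.map φ).appTop.hom = ⊥ := by
    rw [← RingHom.injective_iff_ker_eq_bot]
    have h2 : (Spec.map φ).appTop = (Scheme.ΓSpecIso A).hom ≫ φ ≫ (Scheme.ΓSpecIso B).inv := by
      rw [← Scheme.ΓSpecIso_naturality_assoc, Iso.hom_inv_id, Category.comp_id]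
    rw [h2]
    simp only [CommRingCat.hom_comp, RingHom.coe_comp]
    exact ((ConcreteCategory.bijective_of_isIso (Scheme.ΓSpecIso B).inv).1.comp hφ).comp
      (ConcreteCategory.bijective_of_isIso (Scheme.ΓSpecIso A).hom).1
  rw [h1]
  exact map_bot (Scheme.IdealSheafData.equivOfIsAffine (X := Spec A)).symm.toOrderIso

/-- Base change along a scheme-theoretically dominant quasi-compact morphism is faithful on
morphisms from a flat scheme to a separated scheme. -/
theorem pullback_map_injective {S S' : Scheme.{u}} (g : S' ⟶ S)
    [IsSchemeTheoreticallyDominant g] [QuasiCompact g]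
    {U V : Over S} [Flat U.hom] [IsSeparated V.hom] {a b : U ⟶ V}
    (h : (Over.pullback g).map a = (Over.pullback g).map b) : a = b := by
  have h1 : IsSchemeTheoreticallyDominant (pullback.fst U.hom g) := inferInstance
  ext1
  apply ext_of_isSchemeTheoreticallyDominant V.hom (by rw [Over.w, Over.w])
    (pullback.fst U.hom g)
  have h' := congr(($h).left ≫ pullback.fst V.hom g)
  simp only [Over.pullback, Over.homMk_left] at h'
  rw [pullback.lift_fst, pullback.lift_fst] at h'
  exact h'

/-- Commutativity descends along a faithful-enough base change. -/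
theorem isCommMonObj_of_bc {S S' : Scheme.{u}} (g : S' ⟶ S)
    [IsSchemeTheoreticallyDominant g] [QuasiCompact g]
    (G : Over S) [GrpObj G] [Flat G.hom] [IsSeparated G.hom]
    [IsCommMonObj (Red.bc g G)] : IsCommMonObj G := by
  constructor
  haveI : Flat (G ⊗ G).hom := by
    rw [Over.tensorObj_hom]
    infer_instance
  apply pullback_map_injective g
  have hc : (β_ (Red.bc g G) (Red.bc g G)).hom ≫ μ[Red.bc g G] = μ[Red.bc g G] :=
    IsCommMonObj.mul_comm (Red.bc g G)
  have hμ : μ[Red.bc g G] = Functor.LaxMonoidal.μ (Over.pullback g) G G ≫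
      (Over.pullback g).map μ[G] := rfl
  rw [← cancel_epi (Functor.LaxMonoidal.μ (Over.pullback g) G G), Functor.map_comp,
    Functor.LaxBraided.braided_assoc, ← hμ]
  exact hc

end Groth.Agent.R2.H87.CommGeneric
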