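import Mathlib
import Groth.Agent.Lib.Helper12Descent
import Groth.Agent.Lib.Helper26StalkLim

/-!
# Properness after completion spreads out (helper87)

Helper lemmas for S18874: base change bookkeeping, faithful flatness of `Spec Â → Spec A`.
-/

set_option autoImplicit false
universe u
open CategoryTheory AlgebraicGeometry Limits

namespace Groth.Agent.R2.H87.CplProper

/-- If the base change of `f` along `u'` is proper and `u` factors through `u'`, then any base
change of `f` along `u` is proper. -/
lemma isProper_of_isPullback_of_factor {X Y T T' P : Scheme.{u}} {f : X ⟶ Y} {u' : T' ⟶ Y}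
    (h' : IsProper (pullback.snd f u')) {u : T ⟶ Y} (v : T ⟶ T') (hv : v ≫ u' = u)
    {a : P ⟶ X} {b : P ⟶ T} (h : IsPullback a b f u) : IsProper b := by
  have hw : a ≫ f = (b ≫ v) ≫ u' := by rw [Category.assoc, hv, h.w]
  have hl1 : pullback.lift a (b ≫ v) hw ≫ pullback.fst f u' = a := pullback.lift_fst _ _ _
  have hl2 : pullback.lift a (b ≫ v) hw ≫ pullback.snd f u' = b ≫ v := pullback.lift_snd _ _ _
  have big : IsPullback (pullback.lift a (b ≫ v) hw ≫ pullback.fst f u') b f (v ≫ u') := by
    rw [hl1, hv]; exact h
  have sq : IsPullback (pullback.lift a (b ≫ v) hw) b (pullback.snd f u') v :=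
    IsPullback.of_right big hl2 (IsPullback.of_hasPullback f u')
  exact MorphismProperty.of_isPullback (P := @IsProper) sq h'

/-- `Spec Â → Spec A` is an fpqc covering for a Noetherian local ring `A`. -/
lemma fpqc_spec_completion (A : Type u) [CommRing A] [IsLocalRing A] [IsNoetherianRing A] :
    (@Surjective ⊓ @Flat ⊓ @QuasiCompact : MorphismProperty Scheme.{u})
      (Spec.map (CommRingCat.ofHom
        (algebraMap A (AdicCompletion (IsLocalRing.maximalIdeal A) A)))) := by
  have hff : Module.FaithfullyFlat A (AdicCompletion (IsLocalRing.maximalIdeal A) A) :=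
    Module.FaithfullyFlat.of_flat_of_isLocalHom
  refine ⟨⟨?_, ?_⟩, inferInstance⟩
  · refine ⟨fun x => ?_⟩
    obtain ⟨y, hy⟩ := PrimeSpectrum.comap_surjective_of_faithfullyFlat
      (A := A) (B := AdicCompletion (IsLocalRing.maximalIdeal A) A) x
    exact ⟨y, hy⟩
  · rw [HasRingHomProperty.Spec_iff (P := @Flat)]
    simp only [CommRingCat.hom_ofHom]
    exact (RingHom.flat_algebraMap_iff).mpr inferInstance

end Groth.Agent.R2.H87.CplProper
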