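import Mathlib
import Groth.Prelude.Def_RelProj
import Groth.Agent.S2337
import Groth.Agent.R2.H16GoodCover

/-!
# Finite covers by dense affine opens, quasi-projective over the base (helper87)
-/

set_option autoImplicit false
set_option linter.style.haveILetI false

namespace Groth.Agent.R2.H87.DenseAffCover

open CategoryTheory CategoryTheory.Limits AlgebraicGeometry TopologicalSpace

universe u

variable {X : Scheme.{u}}

/-- The union of two disjoint affine opens is affine. -/
theorem isAffineOpen_sup_of_disjoint {U₁ U₂ : X.Opens} (h₁ : IsAffineOpen U₁) (h₂ : IsAffineOpen U₂)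
    (hdisj : Disjoint U₁ U₂) : IsAffineOpen (U₁ ⊔ U₂) := by
  set W : X.Opens := U₁ ⊔ U₂ with hW
  let ι₁ : (U₁ : Scheme.{u}) ⟶ W := X.homOfLE le_sup_left
  let ι₂ : (U₂ : Scheme.{u}) ⟶ W := X.homOfLE le_sup_right
  have hcompl : IsCompl ι₁.opensRange ι₂.opensRange := by
    rw [Scheme.opensRange_homOfLE, Scheme.opensRange_homOfLE]
    constructor
    · rw [disjoint_iff, ← Scheme.Hom.preimage_inf, disjoint_iff.mp hdisj]
      rfl
    · rw [codisjoint_iff, ← Scheme.Hom.preimage_sup, ← hW]
      exact Scheme.Opens.ι_preimage_self W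
  have hcolim : IsColimit (BinaryCofan.mk ι₁ ι₂) :=
    (nonempty_isColimit_binaryCofanMk_of_isCompl ι₁ ι₂ hcompl).some
  let e : (W : Scheme.{u}) ≅ (U₁ : Scheme.{u}) ⨿ (U₂ : Scheme.{u}) :=
    hcolim.coconePointUniqueUpToIso (colimit.isColimit _)
  haveI : IsAffine (U₁ : Scheme.{u}) := h₁
  haveI : IsAffine (U₂ : Scheme.{u}) := h₂
  change IsAffine (W : Scheme.{u})
  exact IsAffine.of_isIso e.hom

/-- A finite union of pairwise disjoint affine opens is affine. -/
theorem isAffineOpen_iSup_of_pairwise_disjoint :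
    ∀ (s : ℕ) (C : Fin s → X.Opens), Pairwise (Function.onFun Disjoint C) →
      (∀ a, IsAffineOpen (C a)) → IsAffineOpen (⨆ a, C a)
  | 0, C, _, _ => by
    have : (⨆ a, C a) = ⊥ := by
      rw [eq_bot_iff]
      exact iSup_le fun a => a.elim0
    rw [this]
    exact isAffineOpen_bot X
  | s + 1, C, hd, hC => by
    have hsplit : (⨆ a, C a) = C 0 ⊔ ⨆ a : Fin s, C a.succ := by
      apply le_antisymm
      · refine iSup_le fun a => ?_
        refine Fin.cases ?_ (fun b => ?_) a
        · exact le_sup_left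
        · exact le_sup_of_le_right (le_iSup (fun b : Fin s => C b.succ) b)
      · exact sup_le (le_iSup C 0) (iSup_le fun b => le_iSup C b.succ)
    rw [hsplit]
    refine isAffineOpen_sup_of_disjoint (hC 0)
      (isAffineOpen_iSup_of_pairwise_disjoint s (fun a => C a.succ)
        (fun a b hab => hd (fun h => hab (Fin.succ_injective _ h))) (fun a => hC a.succ)) ?_
    rw [disjoint_iSup_iff]
    intro b
    exact hd (Fin.succ_ne_zero b).symm

/-- A scheme separated (not needed) and of finite type over a Noetherian scheme is covered by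
finitely many dense affine opens, each quasi-projective over the base. -/
theorem exists_dense_affine_cover {S X : Scheme.{u}} (f : X ⟶ S)
    [IsNoetherian S] [QuasiCompact f] [LocallyOfFiniteType f] :
    ∃ (n : ℕ) (U : Fin n → X.Opens), (⨆ i, U i) = ⊤ ∧
      ∀ i, IsAffineOpen (U i) ∧ Dense ((U i : Set X)) ∧
        RelProj.IsQuasiProjective ((U i).ι ≫ f) := by
  haveI : IsLocallyNoetherian X := LocallyOfFiniteType.isLocallyNoetherian f
  haveI : CompactSpace X := QuasiCompact.compactSpace_of_compactSpace f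
  haveI : IsNoetherian X := {}
  have hirr : (irreducibleComponents X).Finite :=
    TopologicalSpace.NoetherianSpace.finite_irreducibleComponents
  obtain ⟨r, Ui, hcov, hdense, hUi⟩ := Groth.Agent.R2.H16.GoodCover.exists_good_cover f hirr
  refine ⟨r, Ui, hcov, fun i => ?_⟩
  obtain ⟨s, C, hC, hdisj, hCa⟩ := hUi i
  have haff : IsAffineOpen (Ui i) := by
    rw [hC]
    exact isAffineOpen_iSup_of_pairwise_disjoint s C hdisj (fun a => (hCa a).1)
  refine ⟨haff, hdense.mono ?_, ?_⟩
  · intro x hx
    exact (iInf_le Ui i : (⨅ i, Ui i) ≤ Ui i) hx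
  · haveI : IsAffine (Ui i : Scheme.{u}) := haff
    refine ⟨inferInstance, inferInstance, Coh.structureModule _, ?_⟩
    rw [← Groth.Agent.S2337.result]
    refine ⟨inferInstance, fun V hV => ?_⟩
    haveI : CompactSpace ((((Ui i).ι ≫ f) ⁻¹ᵁ V : (Ui i : Scheme.{u}).Opens) : Scheme.{u}) := by
      exact isCompact_iff_compactSpace.mp
        (QuasiCompact.isCompact_preimage (f := (Ui i).ι ≫ f) _ V.isOpen hV.isCompact)
    exact Scheme.IsQuasiAffine.of_isImmersion (((Ui i).ι ≫ f) ⁻¹ᵁ V).ι

end Groth.Agent.R2.H87.DenseAffCover
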