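import Mathlib

/-!
# Kernel of a flat base change (helper87)

For a pushout square of commutative rings with one flat leg, the kernel of the base-changed map
is the extension of the kernel.
-/

set_option autoImplicit false

namespace Groth.Agent.R2.H87.FlatKer

open TensorProduct CategoryTheory

universe u

section Alg

variable (R R' S : Type u) [CommRing R] [CommRing R'] [CommRing S] [Algebra R R'] [Algebra R S]

theorem one_tmul_eq_zero_of_mem (s : S)
    (hs : s ∈ (RingHom.ker (algebraMap R R')).map (algebraMap R S)) :
    (1 : R') ⊗ₜ[R] s = 0 := by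
  have hle : (RingHom.ker (algebraMap R R')).map (algebraMap R S) ≤
      RingHom.ker (Algebra.TensorProduct.includeRight : S →ₐ[R] R' ⊗[R] S).toRingHom := by
    rw [Ideal.map_le_iff_le_comap]
    intro k hk
    rw [Ideal.mem_comap, RingHom.mem_ker]
    change (Algebra.TensorProduct.includeRight : S →ₐ[R] R' ⊗[R] S) (algebraMap R S k) = 0
    rw [AlgHom.commutes, Algebra.TensorProduct.algebraMap_apply, RingHom.mem_ker.mp hk, zero_tmul]
  exact hle hs

theorem mem_of_one_tmul_eq_zero [Module.Flat R S] (s : S) (hs : (1 : R') ⊗ₜ[R] s = 0) :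
    s ∈ (RingHom.ker (algebraMap R R')).map (algebraMap R S) := by
  set K : Ideal R := RingHom.ker (algebraMap R R') with hK
  let f : K →ₗ[R] R := Submodule.subtype K
  let g : R →ₗ[R] R' := Algebra.linearMap R R'
  have hex : Function.Exact f g := by
    intro y
    constructor
    · intro hy
      exact ⟨⟨y, hy⟩, rfl⟩
    · rintro ⟨z, rfl⟩
      exact z.2
  have hex' := Module.Flat.rTensor_exact S hex
  have h1 : (g.rTensor S) ((1 : R) ⊗ₜ[R] s) = 0 := by
    rw [LinearMap.rTensor_tmul]
    change (algebraMap R R' 1) ⊗ₜ[R] s = 0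
    rw [map_one, hs]
  have key : ∀ z : (K : Type u) ⊗[R] S, TensorProduct.lid R S ((f.rTensor S) z) ∈
      K.map (algebraMap R S) := by
    intro z
    induction z using TensorProduct.induction_on with
    | zero => simp
    | tmul k t =>
      rw [LinearMap.rTensor_tmul, TensorProduct.lid_tmul, Algebra.smul_def]
      exact Ideal.mul_mem_right _ _ (Ideal.mem_map_of_mem _ k.2)
    | add x y hx hy =>
      rw [map_add, map_add]
      exact Ideal.add_mem _ hx hy
  obtain ⟨z, hz⟩ := (hex' _).mp h1
  have h2 : s = TensorProduct.lid R S ((f.rTensor S) z) := by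
    rw [hz, TensorProduct.lid_tmul, one_smul]
  rw [h2]
  exact key z

end Alg

section Cat

open CommRingCat

/-- In a pushout square of commutative rings with `b` flat, the kernel of the map opposite to `a`
is the extension along `b` of the kernel of `a`. -/
theorem ker_eq_map_of_isPushout {R R' S S' : CommRingCat.{u}} {a : R ⟶ R'} {b : R ⟶ S}
    {a' : R' ⟶ S'} {b' : S ⟶ S'} (h : IsPushout a b a' b') (hb : b.hom.Flat) :
    RingHom.ker b'.hom = (RingHom.ker a.hom).map b.hom := by
  letI : Algebra R R' := a.hom.toAlgebra
  letI : Algebra R S := b.hom.toAlgebra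
  letI : Algebra R' S' := a'.hom.toAlgebra
  letI : Algebra S S' := b'.hom.toAlgebra
  letI : Algebra R S' := (a ≫ a').hom.toAlgebra
  haveI : IsScalarTower R R' S' := IsScalarTower.of_algebraMap_eq (fun x => rfl)
  haveI : IsScalarTower R S S' := IsScalarTower.of_algebraMap_eq (fun x => by
    change (a ≫ a').hom x = b'.hom (b.hom x)
    rw [h.w]; rfl)
  haveI : Module.Flat R S := hb
  have hP : Algebra.IsPushout R R' S S' := CommRingCat.isPushout_iff_isPushout.mp h
  have hbc : IsBaseChange R' (IsScalarTower.toAlgHom R S S').toLinearMap := hP.out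
  have hequiv : ∀ s : S, hbc.equiv ((1 : R') ⊗ₜ[R] s) = b'.hom s := by
    intro s
    rw [IsBaseChange.equiv_tmul, one_smul]
    rfl
  ext s
  rw [RingHom.mem_ker]
  constructor
  · intro hs
    apply mem_of_one_tmul_eq_zero R R' S s
    apply hbc.equiv.injective
    rw [hequiv, hs, map_zero]
  · intro hs
    have := one_tmul_eq_zero_of_mem R R' S s hs
    rw [← hequiv, this, map_zero]

end Cat

end Groth.Agent.R2.H87.FlatKer
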