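import Mathlib

/-!
# Topological lemmas for connectedness over henselian pairs (helper87)
-/

set_option autoImplicit false

namespace Groth.Agent.R2.H87.HensConnTop

open Topology

universe u

/-- If `I` is contained in the Jacobson radical and `φ : X → Spec A` is a closed map, every nonempty
closed subset of `X` meets `φ ⁻¹' V(I)`. -/
theorem inter_preimage_zeroLocus_nonempty {A : Type*} [CommRing A] (I : Ideal A)
    (hI : I ≤ Ideal.jacobson ⊥) {X : Type*} [TopologicalSpace X] (φ : X → PrimeSpectrum A)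
    (hφ : IsClosedMap φ) (C : Set X) (hC : IsClosed C) (hne : C.Nonempty) :
    (C ∩ φ ⁻¹' PrimeSpectrum.zeroLocus (I : Set A)).Nonempty := by
  have hcl : IsClosed (φ '' C) := hφ C hC
  obtain ⟨x, hx⟩ := hne
  set K := PrimeSpectrum.vanishingIdeal (φ '' C) with hKdef
  have hK : PrimeSpectrum.zeroLocus (K : Set A) = φ '' C := by
    rw [hKdef, PrimeSpectrum.zeroLocus_vanishingIdeal_eq_closure, hcl.closure_eq]
  have hKne : K ≠ ⊤ := by
    intro h
    have h1 : φ x ∈ PrimeSpectrum.zeroLocus (K : Set A) := by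
      rw [hK]; exact ⟨x, hx, rfl⟩
    rw [h] at h1
    simp at h1
  obtain ⟨M, hM, hKM⟩ := Ideal.exists_le_maximal K hKne
  have hm : (⟨M, hM.isPrime⟩ : PrimeSpectrum A) ∈ φ '' C := by
    rw [← hK, PrimeSpectrum.mem_zeroLocus]
    exact hKM
  obtain ⟨y, hy, hym⟩ := hm
  refine ⟨y, hy, ?_⟩
  change φ y ∈ PrimeSpectrum.zeroLocus (I : Set A)
  rw [hym, PrimeSpectrum.mem_zeroLocus]
  have hjac : Ideal.jacobson (⊥ : Ideal A) ≤ M := sInf_le ⟨bot_le, hM⟩
  exact fun a ha => hjac (hI ha)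

section Conn

variable {P X : Type*} [TopologicalSpace P] [TopologicalSpace X] (p : P → X)

/-- If every nonempty closed subset of `X` meets the range of `p` and `P` is connected, then `X`
is connected. -/
theorem connectedSpace_of_forall_closed_inter_range (hp : Continuous p)
    (hmeet : ∀ C : Set X, IsClosed C → C.Nonempty → (C ∩ Set.range p).Nonempty)
    [ConnectedSpace P] : ConnectedSpace X := by
  rw [connectedSpace_iff_clopen]
  obtain ⟨x₀⟩ := (inferInstance : Nonempty P)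
  refine ⟨⟨p x₀⟩, fun U hU => ?_⟩
  have hpre : IsClopen (p ⁻¹' U) := hU.preimage hp
  rcases isClopen_iff.mp hpre with h | h
  · left
    by_contra hne
    obtain ⟨y, hyU, ⟨z, rfl⟩⟩ := hmeet U hU.isClosed (Set.nonempty_iff_ne_empty.mpr hne)
    have : z ∈ p ⁻¹' U := hyU
    rw [h] at this
    exact this
  · right
    by_contra hne
    have hne' : (Uᶜ).Nonempty := by
      rw [Set.nonempty_compl]
      exact hne
    obtain ⟨y, hyU, ⟨z, rfl⟩⟩ := hmeet Uᶜ hU.compl.isClosed hne'
    have : z ∈ p ⁻¹' U := by rw [h]; trivial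
    exact hyU this

/-- If every nonempty closed subset of `X` meets the range of `p`, every clopen subset of `P` is
the preimage of a clopen subset of `X`, and `X` is connected, then `P` is connected. -/
theorem connectedSpace_of_forall_exists_clopen
    (hmeet : ∀ C : Set X, IsClosed C → C.Nonempty → (C ∩ Set.range p).Nonempty)
    (hlift : ∀ V : Set P, IsClopen V → ∃ U : Set X, IsClopen U ∧ p ⁻¹' U = V)
    [ConnectedSpace X] : ConnectedSpace P := by
  rw [connectedSpace_iff_clopen]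
  constructor
  · obtain ⟨y, -, ⟨z, -⟩⟩ := hmeet Set.univ isClosed_univ Set.univ_nonempty
    exact ⟨z⟩
  · intro V hV
    obtain ⟨U, hU, rfl⟩ := hlift V hV
    rcases isClopen_iff.mp hU with h | h
    · left; rw [h]; rfl
    · right; rw [h]; rfl

end Conn

section Compact

/-- A clopen decomposition of a directed intersection of closed subsets of a compact space,
given by two compact open subsets, spreads out to a member of the family. -/
theorem exists_finset_disjoint_cover {X : Type*} [TopologicalSpace X] [CompactSpace X]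
    {ι : Type*} (Z : ι → Set X) (hZ : ∀ a, IsClosed (Z a)) (O O' : Set X) (hO : IsOpen O)
    (hO' : IsOpen O') (hOO' : IsCompact (O ∩ O'))
    (hcov : (⋂ a, Z a) ⊆ O ∪ O') (hdisj : (⋂ a, Z a) ∩ (O ∩ O') = ∅) :
    ∃ s : Finset ι, (⋂ a ∈ s, Z a) ⊆ O ∪ O' ∧ (⋂ a ∈ s, Z a) ∩ (O ∩ O') = ∅ := by
  classical
  -- first: cover
  have h1 : ∃ s₁ : Finset ι, (⋂ a ∈ s₁, Z a) ∩ (O ∪ O')ᶜ = ∅ := by
    have hc : IsCompact ((O ∪ O')ᶜ) := (hO.union hO').isClosed_compl.isCompact
    have := hc.elim_finite_subfamily_closed Z hZ (by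
      rw [Set.inter_comm]
      rw [Set.eq_empty_iff_forall_notMem]
      rintro x ⟨hx1, hx2⟩
      exact hx2 (hcov hx1))
    obtain ⟨s₁, hs₁⟩ := this
    exact ⟨s₁, by rw [Set.inter_comm]; exact hs₁⟩
  have h2 : ∃ s₂ : Finset ι, (⋂ a ∈ s₂, Z a) ∩ (O ∩ O') = ∅ := by
    have := hOO'.elim_finite_subfamily_closed Z hZ (by rw [Set.inter_comm]; exact hdisj)
    obtain ⟨s₂, hs₂⟩ := this
    exact ⟨s₂, by rw [Set.inter_comm]; exact hs₂⟩
  obtain ⟨s₁, hs₁⟩ := h1
  obtain ⟨s₂, hs₂⟩ := h2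
  refine ⟨s₁ ∪ s₂, ?_, ?_⟩
  · intro x hx
    by_contra hxO
    have hx1 : x ∈ ⋂ a ∈ s₁, Z a := by
      simp only [Set.mem_iInter] at hx ⊢
      exact fun a ha => hx a (Finset.mem_union_left _ ha)
    have : x ∈ (⋂ a ∈ s₁, Z a) ∩ (O ∪ O')ᶜ := ⟨hx1, hxO⟩
    rw [hs₁] at this
    exact this
  · rw [Set.eq_empty_iff_forall_notMem]
    rintro x ⟨hx, hxO⟩
    have hx2 : x ∈ ⋂ a ∈ s₂, Z a := by
      simp only [Set.mem_iInter] at hx ⊢
      exact fun a ha => hx a (Finset.mem_union_right _ ha)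
    have : x ∈ (⋂ a ∈ s₂, Z a) ∩ (O ∩ O') := ⟨hx2, hxO⟩
    rw [hs₂] at this
    exact this

end Compact

end Groth.Agent.R2.H87.HensConnTop
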