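import Mathlib
import Groth.Agent.R2.H87HensConnTop

/-!
# Reduction to finitely generated ideals for clopen decompositions of closed fibres (helper87)
-/

set_option autoImplicit false

namespace Groth.Agent.R2.H87.HensConnFG

open AlgebraicGeometry CategoryTheory Limits Topology
open Groth.Agent.R2.H87.HensConnTop

universe u

/-- In a scheme, a compact subset can be separated from a disjoint closed subset by a compact
open subset. -/
theorem exists_isCompact_isOpen_of_disjoint {X : Scheme.{u}} (V V' : Set X) (hV : IsCompact V)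
    (hV' : IsClosed V') (hd : Disjoint V V') :
    ∃ O : Set X, IsOpen O ∧ IsCompact O ∧ V ⊆ O ∧ O ∩ V' = ∅ := by
  classical
  let 𝒰 := {U : X.Opens // IsAffineOpen U ∧ (U : Set X) ⊆ V'ᶜ}
  have hcov : V ⊆ ⋃ i : 𝒰, (i.1 : Set X) := by
    intro x hx
    have hx' : x ∈ V'ᶜ := fun h => (Set.disjoint_left.mp hd) hx h
    obtain ⟨_, ⟨U, hU : IsAffineOpen U, rfl⟩, hxU, hUsub⟩ :=
      X.isBasis_affineOpens.exists_subset_of_mem_open hx' hV'.isOpen_compl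
    exact Set.mem_iUnion.mpr ⟨⟨U, hU, hUsub⟩, hxU⟩
  obtain ⟨t, ht⟩ := hV.elim_finite_subcover (fun i : 𝒰 => (i.1 : Set X)) (fun i => i.1.isOpen) hcov
  refine ⟨⋃ i ∈ t, (i.1 : Set X), ?_, ?_, ht, ?_⟩
  · exact isOpen_biUnion fun i _ => i.1.isOpen
  · exact t.isCompact_biUnion fun i _ => i.2.1.isCompact
  · rw [Set.eq_empty_iff_forall_notMem]
    rintro x ⟨hx, hxV'⟩
    obtain ⟨i, hi⟩ := Set.mem_iUnion.mp hx
    obtain ⟨-, hxi⟩ := Set.mem_iUnion.mp hi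
    exact i.2.2 hxi hxV'

/-- **Reduction to a finitely generated subideal.** -/
theorem exists_finset_compactOpens {X : Scheme.{u}} [CompactSpace X] [QuasiSeparatedSpace X]
    {A : Type u} [CommRing A] (f : X ⟶ Spec (CommRingCat.of A)) (I : Ideal A) (V₁ V₂ : Set X)
    (h₁ : IsClosed V₁) (h₂ : IsClosed V₂) (hd : Disjoint V₁ V₂)
    (hu : V₁ ∪ V₂ = f ⁻¹' PrimeSpectrum.zeroLocus (I : Set A)) :
    ∃ (s : Finset A) (O₁ O₂ : Set X), (s : Set A) ⊆ I ∧ IsOpen O₁ ∧ IsOpen O₂ ∧ IsCompact O₁ ∧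
      IsCompact O₂ ∧ f ⁻¹' PrimeSpectrum.zeroLocus (s : Set A) ⊆ O₁ ∪ O₂ ∧
      f ⁻¹' PrimeSpectrum.zeroLocus (s : Set A) ∩ (O₁ ∩ O₂) = ∅ ∧ V₁ ⊆ O₁ ∧ V₂ ⊆ O₂ := by
  classical
  obtain ⟨O₁, hO₁o, hO₁c, hVO₁, hO₁V⟩ :=
    exists_isCompact_isOpen_of_disjoint V₁ V₂ h₁.isCompact h₂ hd
  obtain ⟨O₂, hO₂o, hO₂c, hVO₂, hO₂V⟩ :=
    exists_isCompact_isOpen_of_disjoint V₂ V₁ h₂.isCompact h₁ hd.symm
  let Z : I → Set X := fun a => f ⁻¹' PrimeSpectrum.zeroLocus ({a.1} : Set A)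
  have hZ : ∀ a, IsClosed (Z a) := fun a =>
    (PrimeSpectrum.isClosed_zeroLocus _).preimage f.continuous
  have hmemZ : ∀ (a : I) (x : X), x ∈ Z a ↔ a.1 ∈ (f x).asIdeal := by
    intro a x
    exact (PrimeSpectrum.mem_zeroLocus (f x) ({a.1} : Set A)).trans Set.singleton_subset_iff
  have hmemI : ∀ (T : Set A) (x : X), x ∈ f ⁻¹' PrimeSpectrum.zeroLocus T ↔
      ∀ a ∈ T, a ∈ (f x).asIdeal := by
    intro T x
    exact PrimeSpectrum.mem_zeroLocus (f x) T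
  have hZI : (⋂ a, Z a) = f ⁻¹' PrimeSpectrum.zeroLocus (I : Set A) := by
    ext x
    rw [Set.mem_iInter, hmemI]
    simp only [hmemZ]
    constructor
    · intro h a ha
      exact h ⟨a, ha⟩
    · intro h a
      exact h a.1 a.2
  have hcov : (⋂ a, Z a) ⊆ O₁ ∪ O₂ := by
    rw [hZI, ← hu]
    exact Set.union_subset_union hVO₁ hVO₂
  have hdisj : (⋂ a, Z a) ∩ (O₁ ∩ O₂) = ∅ := by
    rw [hZI, ← hu, Set.eq_empty_iff_forall_notMem]
    rintro x ⟨hx | hx, hx1, hx2⟩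
    · have : x ∈ O₂ ∩ V₁ := ⟨hx2, hx⟩
      rw [hO₂V] at this
      exact this
    · have : x ∈ O₁ ∩ V₂ := ⟨hx1, hx⟩
      rw [hO₁V] at this
      exact this
  obtain ⟨s', hs'1, hs'2⟩ := exists_finset_disjoint_cover Z hZ O₁ O₂ hO₁o hO₂o
    (QuasiSeparatedSpace.inter_isCompact O₁ O₂ hO₁o hO₁c hO₂o hO₂c) hcov hdisj
  have hZs : (⋂ a ∈ s', Z a) =
      f ⁻¹' PrimeSpectrum.zeroLocus ((s'.image Subtype.val : Finset A) : Set A) := by
    ext x
    rw [hmemI]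
    simp only [Set.mem_iInter, hmemZ, Finset.coe_image]
    constructor
    · rintro h _ ⟨a, ha, rfl⟩
      exact h a ha
    · intro h a ha
      exact h _ ⟨a, ha, rfl⟩
  refine ⟨s'.image Subtype.val, O₁, O₂, ?_, hO₁o, hO₂o, hO₁c, hO₂c, ?_, ?_, hVO₁, hVO₂⟩
  · intro a ha
    simp only [Finset.coe_image, Set.mem_image] at ha
    obtain ⟨b, -, rfl⟩ := ha
    exact b.2
  · rw [← hZs]; exact hs'1
  · rw [← hZs]; exact hs'2

end Groth.Agent.R2.H87.HensConnFG
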