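import Mathlib

/-!
# Clopen subsets of a scheme and idempotent global sections (helper87)
-/

set_option autoImplicit false

namespace Groth.Agent.R2.H87.SchemeIdem

open AlgebraicGeometry CategoryTheory Limits TopologicalSpace Opposite

universe u

variable (X : Scheme.{u})

/-- a global section is a unit iff its basic open is everything -/
theorem isUnit_iff_basicOpen_eq_top (s : Γ(X, ⊤)) : IsUnit s ↔ X.basicOpen s = ⊤ := by
  constructor
  · intro h; exact X.basicOpen_of_isUnit h
  · intro h
    apply RingedSpace.isUnit_of_isUnit_germ X.toRingedSpace ⊤ s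
    intro x hx
    have : x ∈ X.basicOpen s := by rw [h]; trivial
    exact (X.mem_basicOpen s x hx).mp this

theorem basicOpen_inf_basicOpen_one_sub {e : Γ(X, ⊤)} (he : IsIdempotentElem e) :
    X.basicOpen e ⊓ X.basicOpen (1 - e) = ⊥ := by
  rw [← Scheme.basicOpen_mul]
  have : e * (1 - e) = 0 := by rw [mul_sub, mul_one, he.eq, sub_self]
  rw [this, Scheme.basicOpen_zero]

theorem basicOpen_sup_basicOpen_one_sub (e : Γ(X, ⊤)) :
    X.basicOpen e ⊔ X.basicOpen (1 - e) = ⊤ := by
  rw [eq_top_iff]
  intro x _
  have h1 : X.presheaf.germ ⊤ x trivial e + X.presheaf.germ ⊤ x trivial (1 - e) = 1 := by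
    rw [← map_add]; simp
  rcases IsLocalRing.isUnit_or_isUnit_of_add_one h1 with h | h
  · exact Or.inl ((X.mem_basicOpen e x trivial).mpr h)
  · exact Or.inr ((X.mem_basicOpen (U := ⊤) (1 - e) x trivial).mpr h)

theorem compl_basicOpen_of_isIdempotentElem {e : Γ(X, ⊤)} (he : IsIdempotentElem e) :
    ((X.basicOpen e : Set X))ᶜ = (X.basicOpen (1 - e) : Set X) := by
  have h1 := basicOpen_inf_basicOpen_one_sub X he
  have h2 := basicOpen_sup_basicOpen_one_sub X e
  ext x
  constructor
  · intro hx
    have : x ∈ X.basicOpen e ⊔ X.basicOpen (1 - e) := by rw [h2]; trivial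
    rcases this with h | h
    · exact absurd h hx
    · exact h
  · intro hx hx'
    have : x ∈ X.basicOpen e ⊓ X.basicOpen (1 - e) := ⟨hx', hx⟩
    rw [h1] at this
    exact this

theorem isClopen_basicOpen_of_isIdempotentElem {e : Γ(X, ⊤)} (he : IsIdempotentElem e) :
    IsClopen (X.basicOpen e : Set X) := by
  refine ⟨?_, (X.basicOpen e).2⟩
  rw [← isOpen_compl_iff, compl_basicOpen_of_isIdempotentElem X he]
  exact (X.basicOpen (1 - e)).2

/-- idempotent global sections with the same basic open are equal -/
theorem eq_of_basicOpen_eq {e e' : Γ(X, ⊤)} (he : IsIdempotentElem e) (he' : IsIdempotentElem e')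
    (h : X.basicOpen e = X.basicOpen e') : e = e' := by
  -- `e (1 - e')` has empty basic open, hence is nilpotent locally; use instead units
  -- `e + (1 - e')`... we show `e * (1 - e') = 0` and `e' * (1 - e) = 0` by a unit trick:
  -- the element `u = e * e' + (1 - e) * (1 - e')` is a unit, and `u * (e - e') = ...`.
  have h' : X.basicOpen (1 - e) = X.basicOpen (1 - e') := by
    apply Opens.ext
    rw [← compl_basicOpen_of_isIdempotentElem X he, ← compl_basicOpen_of_isIdempotentElem X he', h]
  set u : Γ(X, ⊤) := e * e' + (1 - e) * (1 - e') with hu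
  have hunit : IsUnit u := by
    rw [isUnit_iff_basicOpen_eq_top, eq_top_iff]
    intro x _
    have hx : x ∈ X.basicOpen e ⊔ X.basicOpen (1 - e) := by
      rw [basicOpen_sup_basicOpen_one_sub]; trivial
    -- germ of `u` at `x`
    have key : ∀ (a b : Γ(X, ⊤)), a * b = 0 → x ∈ X.basicOpen a → x ∈ X.basicOpen a →
        X.presheaf.germ ⊤ x trivial b = 0 := by
      intro a b hab ha _
      have hua : IsUnit (X.presheaf.germ ⊤ x trivial a) := (X.mem_basicOpen a x trivial).mp ha
      have : X.presheaf.germ ⊤ x trivial a * X.presheaf.germ ⊤ x trivial b = 0 := by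
        rw [← map_mul, hab, map_zero]
      exact (hua.mul_right_eq_zero).mp this
    rcases hx with hx | hx
    · -- `e` and `e'` units at `x`, so `1 - e`, `1 - e'` vanish at `x`
      have hx' : x ∈ X.basicOpen e' := h ▸ hx
      have h1 : X.presheaf.germ ⊤ x trivial (1 - e) = 0 :=
        key e (1 - e) (by rw [mul_sub, mul_one, he.eq, sub_self]) hx hx
      rw [X.mem_basicOpen u x trivial, hu, map_add, map_mul, map_mul, h1, zero_mul, add_zero]
      exact ((X.mem_basicOpen e x trivial).mp hx).mul ((X.mem_basicOpen e' x trivial).mp hx')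
    · have hx' : x ∈ X.basicOpen (1 - e') := h' ▸ hx
      have h1 : X.presheaf.germ ⊤ x trivial e = 0 := by
        have := key (1 - e) e (by rw [sub_mul, one_mul, he.eq, sub_self]) hx hx
        exact this
      rw [X.mem_basicOpen u x trivial, hu, map_add, map_mul, map_mul, h1, zero_mul, zero_add]
      exact ((X.mem_basicOpen (U := ⊤) (1 - e) x trivial).mp hx).mul
        ((X.mem_basicOpen (U := ⊤) (1 - e') x trivial).mp hx')
  have h0 : u * (e - e') = 0 := by
    have e1 := he.eq
    have e2 := he'.eq
    rw [hu]
    linear_combination (2 * e' - 1) * e1 + (1 - 2 * e) * e2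
  exact sub_eq_zero.mp ((hunit.mul_right_eq_zero).mp h0)

end Groth.Agent.R2.H87.SchemeIdem

namespace Groth.Agent.R2.H87.SchemeIdem

open AlgebraicGeometry CategoryTheory Limits TopologicalSpace Opposite

universe u

variable (X : Scheme.{u})

/-- the two-element cover by a clopen and its complement -/
def twoCover {U : Set X} (hU : IsClopen U) : Bool → X.Opens
  | true => ⟨U, hU.2⟩
  | false => ⟨Uᶜ, hU.1.isOpen_compl⟩

theorem twoCover_inf {U : Set X} (hU : IsClopen U) : twoCover X hU true ⊓ twoCover X hU false = ⊥ := by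
  ext x
  simp [twoCover]

/-- every clopen subset is the basic open of an idempotent global section -/
theorem exists_idem_of_isClopen {U : Set X} (hU : IsClopen U) :
    ∃ e : Γ(X, ⊤), IsIdempotentElem e ∧ (X.basicOpen e : Set X) = U := by
  have hcov : (⊤ : X.Opens) ≤ iSup (twoCover X hU) := by
    intro x _
    rw [Opens.mem_iSup]
    by_cases hx : x ∈ U
    · exact ⟨true, hx⟩
    · exact ⟨false, hx⟩
  let sf : (b : Bool) → ToType (X.sheaf.obj.obj (op (twoCover X hU b))) := fun b =>
    match b with
    | true => (1 : Γ(X, twoCover X hU true))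
    | false => (0 : Γ(X, twoCover X hU false))
  have hsub : ∀ b b' : Bool, b ≠ b' →
      Subsingleton (ToType (X.sheaf.obj.obj (op (twoCover X hU b ⊓ twoCover X hU b')))) := by
    intro b b' hbb'
    have : twoCover X hU b ⊓ twoCover X hU b' = ⊥ := by
      cases b <;> cases b'
      · exact absurd rfl hbb'
      · rw [inf_comm]; exact twoCover_inf X hU
      · exact twoCover_inf X hU
      · exact absurd rfl hbb'
    rw [this]
    exact (inferInstance : Subsingleton Γ(X, ⊥))
  have hcompat : TopCat.Presheaf.IsCompatible X.sheaf.obj (twoCover X hU) sf := by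
    intro b b'
    by_cases hbb' : b = b'
    · subst hbb'; rfl
    · have := hsub b b' hbb'
      exact Subsingleton.elim _ _
  obtain ⟨e, het, hef⟩ : ∃ e : Γ(X, ⊤),
      (X.presheaf.map (homOfLE (le_top : twoCover X hU true ≤ ⊤)).op).hom e = 1 ∧
      (X.presheaf.map (homOfLE (le_top : twoCover X hU false ≤ ⊤)).op).hom e = 0 := by
    obtain ⟨e, he, -⟩ := X.sheaf.existsUnique_gluing' (twoCover X hU) ⊤ (fun b => homOfLE le_top)
      hcov sf hcompat
    exact ⟨e, he true, he false⟩
  have hloc : ∀ s t : Γ(X, ⊤),
      (X.presheaf.map (homOfLE (le_top : twoCover X hU true ≤ ⊤)).op).hom s =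
        (X.presheaf.map (homOfLE (le_top : twoCover X hU true ≤ ⊤)).op).hom t →
      (X.presheaf.map (homOfLE (le_top : twoCover X hU false ≤ ⊤)).op).hom s =
        (X.presheaf.map (homOfLE (le_top : twoCover X hU false ≤ ⊤)).op).hom t → s = t := by
    intro s t h1 h2
    apply X.sheaf.eq_of_locally_eq' (twoCover X hU) ⊤ (fun b => homOfLE le_top) hcov
    intro b
    cases b
    · exact h2
    · exact h1
  refine ⟨e, ?_, ?_⟩
  · apply hloc
    · rw [map_mul, het, mul_one]
    · rw [map_mul, hef, mul_zero]
  · have h1 : twoCover X hU true ⊓ X.basicOpen e = twoCover X hU true := by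
      rw [← Scheme.basicOpen_res X e (homOfLE (le_top : twoCover X hU true ≤ ⊤)).op]
      change X.basicOpen ((X.presheaf.map (homOfLE (le_top : twoCover X hU true ≤ ⊤)).op).hom e) = _
      rw [het]
      exact X.basicOpen_of_isUnit isUnit_one
    have h2 : twoCover X hU false ⊓ X.basicOpen e = ⊥ := by
      rw [← Scheme.basicOpen_res X e (homOfLE (le_top : twoCover X hU false ≤ ⊤)).op]
      change X.basicOpen ((X.presheaf.map (homOfLE (le_top : twoCover X hU false ≤ ⊤)).op).hom e) = _
      rw [hef]
      exact X.basicOpen_zero _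
    ext x
    constructor
    · intro hx
      by_contra hxU
      have : x ∈ twoCover X hU false ⊓ X.basicOpen e := ⟨hxU, hx⟩
      rw [h2] at this
      exact this
    · intro hx
      have : x ∈ twoCover X hU true ⊓ X.basicOpen e := by rw [h1]; exact hx
      exact this.2

/-- For a morphism of schemes the preimage of the basic open of a global section is the basic
open of its pullback. -/
theorem preimage_basicOpen_top {X Y : Scheme.{u}} (f : X ⟶ Y) (e : Γ(Y, ⊤)) :
    f ⁻¹' (Y.basicOpen e : Set Y) = (X.basicOpen (f.appTop.hom e) : Set X) := by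
  have := Scheme.preimage_basicOpen f e
  exact congrArg (fun (W : X.Opens) => (W : Set X)) this

end Groth.Agent.R2.H87.SchemeIdem
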