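import Mathlib
import Groth.Agent.R2.H87ClopenLift
import Groth.Agent.R2.H87SchemeIdem
import Groth.Agent.R2.H87FlatKer
import Groth.Agent.S17968

/-!
# A henselian couple `(X, X₀)` with `X` qcqs gives a henselian pair on global sections (helper87)
-/

set_option autoImplicit false
set_option linter.style.haveILetI false

namespace Groth.Agent.R2.H87.HensGamma

open AlgebraicGeometry CategoryTheory Limits TopologicalSpace
open Groth.Agent.R2.H87.Clopen Groth.Agent.R2.H87.SchemeIdem Groth.Agent.R2.H87.FlatKer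

universe u

/-- `(X, X₀)` is a henselian couple. -/
def HC {X X₀ : Scheme.{u}} (i : X₀ ⟶ X) : Prop :=
  ∀ (Y : Scheme.{u}) (g : Y ⟶ X), IsFinite g → ClopenLift (pullback.fst g i)

section Jac

variable {X X₀ : Scheme.{u}} (i : X₀ ⟶ X)

theorem ker_le_jacobson (hX : HC i) : RingHom.ker i.appTop.hom ≤ Ideal.jacobson ⊥ := by
  intro j hj
  rw [Ideal.mem_jacobson_bot]
  intro y
  set s : Γ(X, ⊤) := j * y + 1 with hs
  have hs1 : i.appTop.hom s = 1 := by
    rw [hs, map_add, map_mul, RingHom.mem_ker.mp hj, zero_mul, zero_add, map_one]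
  rw [isUnit_iff_basicOpen_eq_top]
  by_contra hne
  -- the closed complement of the basic open
  let Z : Closeds X := ⟨((X.basicOpen s : Set X))ᶜ, (X.basicOpen s).2.isClosed_compl⟩
  let 𝓘 := Scheme.IdealSheafData.vanishingIdeal Z
  let g := 𝓘.subschemeι
  have hrange : Set.range g = ((X.basicOpen s : Set X))ᶜ := by
    rw [Scheme.IdealSheafData.range_subschemeι, Scheme.IdealSheafData.coe_support_vanishingIdeal]
    rfl
  have hi : ∀ x₀ : X₀, i x₀ ∈ X.basicOpen s := by
    intro x₀
    have h1 : i ⁻¹' (X.basicOpen s : Set X) = (X₀.basicOpen (i.appTop.hom s) : Set X₀) :=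
      preimage_basicOpen_top i s
    have h2 : x₀ ∈ (X₀.basicOpen (i.appTop.hom s) : Set X₀) := by
      rw [hs1]
      have : X₀.basicOpen (1 : Γ(X₀, ⊤)) = ⊤ := X₀.basicOpen_of_isUnit isUnit_one
      rw [this]; trivial
    rw [← h1] at h2
    exact h2
  have hempty : IsEmpty ↥(pullback g i) := by
    constructor
    intro p
    have h1 : g ((pullback.fst g i) p) = i ((pullback.snd g i) p) := by
      rw [← Scheme.Hom.comp_apply, ← Scheme.Hom.comp_apply, pullback.condition]
    have h2 : g ((pullback.fst g i) p) ∈ ((X.basicOpen s : Set X))ᶜ := by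
      rw [← hrange]; exact ⟨_, rfl⟩
    exact h2 (h1 ▸ hi _)
  obtain ⟨U, -, hU⟩ := hX _ g inferInstance ∅ isClopen_empty
  have h1 : (∅ : Set 𝓘.subscheme) = U :=
    hU ∅ ⟨isClopen_empty, Set.eq_empty_of_isEmpty _⟩
  have h2 : (Set.univ : Set 𝓘.subscheme) = U :=
    hU Set.univ ⟨isClopen_univ, Set.eq_empty_of_isEmpty _⟩
  have h3 : IsEmpty 𝓘.subscheme := by
    constructor
    intro y
    have : y ∈ (Set.univ : Set 𝓘.subscheme) := trivial
    rw [h2, ← h1] at this
    exact this
  apply hne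
  rw [eq_top_iff]
  intro x _
  by_contra hx
  have : x ∈ Set.range g := by rw [hrange]; exact hx
  obtain ⟨y, -⟩ := this
  exact h3.false y

end Jac

section BaseChange

/-- flat base change on global sections -/
theorem isPushout_appTop_of_flat {X Y S T : Scheme.{u}} {f : T ⟶ S} {g : Y ⟶ X} {iX : X ⟶ S}
    {iY : Y ⟶ T} (H : IsPullback g iY iX f) [IsAffine S] [IsAffine T] [Flat f] [CompactSpace X]
    [QuasiSeparatedSpace X] : IsPushout iX.appTop f.appTop g.appTop iY.appTop := by
  have h := isIso_pushoutSection_of_isQuasiSeparated_of_flat_right H (US := ⊤) (UT := ⊤) (UX := ⊤)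
    (UY := ⊤) le_top le_top (by simp) (isAffineOpen_top S) (isAffineOpen_top T)
    CompactSpace.isCompact_univ isQuasiSeparated_univ
  have h2 := (isIso_pushoutSection_iff H (US := ⊤) (UT := ⊤) (UX := ⊤)
    (UY := ⊤) le_top le_top (by simp)).mp h
  convert h2 using 1 <;> simp [Scheme.Hom.appTop, Scheme.Hom.app_eq_appLE]

end BaseChange

section Main

variable {X X₀ : Scheme.{u}} (i : X₀ ⟶ X) [IsClosedImmersion i] [CompactSpace X]
  [QuasiSeparatedSpace X]

theorem surjOn_idem (hX : HC i) (C : Type u) [CommRing C] [Algebra Γ(X, ⊤) C]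
    [Module.Finite Γ(X, ⊤) C] [Module.Flat Γ(X, ⊤) C] :
    Set.SurjOn (Ideal.Quotient.mk ((RingHom.ker i.appTop.hom).map (algebraMap Γ(X, ⊤) C)))
      {e : C | IsIdempotentElem e} {e | IsIdempotentElem e} := by
  have : CompactSpace X₀ := QuasiCompact.compactSpace_of_compactSpace i
  have : QuasiSeparatedSpace X₀ := quasiSeparatedSpace_of_quasiSeparated i
  set J : Ideal Γ(X, ⊤) := RingHom.ker i.appTop.hom with hJ
  let Cc : CommRingCat.{u} := CommRingCat.of C
  let φ : Γ(X, ⊤) ⟶ Cc := CommRingCat.ofHom (algebraMap Γ(X, ⊤) C)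
  let f : Spec Cc ⟶ Spec Γ(X, ⊤) := Spec.map φ
  let iX : X ⟶ Spec Γ(X, ⊤) := X.toSpecΓ
  have hφflat : φ.hom.Flat := by
    change (algebraMap Γ(X, ⊤) C).Flat
    rw [RingHom.flat_algebraMap_iff]
    infer_instance
  have : Flat f := Flat.SpecMap_iff.mpr hφflat
  have : IsFinite f := by
    rw [IsFinite.SpecMap_iff]
    exact RingHom.finite_algebraMap.mpr inferInstance
  let g := pullback.fst iX f
  let iY := pullback.snd iX f
  have H : IsPullback g iY iX f := IsPullback.of_hasPullback iX f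
  have P1 : IsPushout iX.appTop f.appTop g.appTop iY.appTop := isPushout_appTop_of_flat H
  have hiXiso : IsIso iX.appTop := by
    rw [Scheme.toSpecΓ_appTop]; infer_instance
  have hiYiso : IsIso iY.appTop := P1.isIso_inr_of_isIso
  let fst₀ := pullback.fst g i
  let snd₀ := pullback.snd g i
  have H₀ : IsPullback snd₀ (fst₀ ≫ iY) (i ≫ iX) f :=
    ((IsPullback.of_hasPullback g i).paste_horiz H.flip).flip
  have P2 : IsPushout (i ≫ iX).appTop f.appTop snd₀.appTop (fst₀ ≫ iY).appTop :=
    isPushout_appTop_of_flat H₀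
  have hfflat : f.appTop.hom.Flat := by
    have h1 := Scheme.ΓSpecIso_naturality φ
    have h2 : f.appTop = (Scheme.ΓSpecIso Γ(X, ⊤)).hom ≫ φ ≫ (Scheme.ΓSpecIso Cc).inv := by
      rw [← Category.assoc, ← h1, Category.assoc, Iso.hom_inv_id, Category.comp_id]
    rw [h2]
    simp only [CommRingCat.hom_comp]
    refine RingHom.Flat.comp ?_ (RingHom.Flat.comp hφflat ?_)
    · exact RingHom.Flat.of_bijective
        (ConcreteCategory.bijective_of_isIso (Scheme.ΓSpecIso Γ(X, ⊤)).hom)
    · exact RingHom.Flat.of_bijective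
        (ConcreteCategory.bijective_of_isIso (Scheme.ΓSpecIso Cc).inv)
  have K2 := ker_eq_map_of_isPushout P2 hfflat
  -- the maps from `C`
  let ψ : C →+* Γ(pullback iX f, ⊤) := iY.appTop.hom.comp (Scheme.ΓSpecIso Cc).inv.hom
  have hψbij : Function.Bijective ψ := by
    have h1 : Function.Bijective (Scheme.ΓSpecIso Cc).inv.hom :=
      ConcreteCategory.bijective_of_isIso (Scheme.ΓSpecIso Cc).inv
    have h2 : Function.Bijective iY.appTop.hom := ConcreteCategory.bijective_of_isIso iY.appTop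
    exact h2.comp h1
  let θ : C →+* Γ(pullback g i, ⊤) := fst₀.appTop.hom.comp ψ
  have hθ : ∀ x : C, θ x = (fst₀ ≫ iY).appTop.hom ((Scheme.ΓSpecIso Cc).inv.hom x) := by
    intro x
    rw [Scheme.Hom.comp_appTop]
    rfl
  have hK : ∀ x : C, θ x = 0 ↔ x ∈ J.map (algebraMap Γ(X, ⊤) C) := by
    intro x
    rw [hθ, ← RingHom.mem_ker, K2]
    have e1 : RingHom.ker (i ≫ iX).appTop.hom = J.comap iX.appTop.hom := by
      rw [Scheme.Hom.comp_appTop]
      ext z
      simp [hJ, RingHom.mem_ker, Ideal.mem_comap]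
    rw [e1]
    have hsurj : Function.Surjective iX.appTop.hom :=
      (ConcreteCategory.bijective_of_isIso iX.appTop).surjective
    -- transport along `ΓSpecIso`
    have e2 : (Scheme.ΓSpecIso Cc).hom.hom.comp f.appTop.hom = φ.hom.comp iX.appTop.hom := by
      have h1 := Scheme.ΓSpecIso_naturality φ
      have h3 : iX.appTop = (Scheme.ΓSpecIso Γ(X, ⊤)).hom := Scheme.toSpecΓ_appTop X
      rw [h3]
      have := congrArg CommRingCat.Hom.hom h1
      simpa only [CommRingCat.hom_comp] using this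
    have e3 : ((J.comap iX.appTop.hom).map f.appTop.hom).map (Scheme.ΓSpecIso Cc).hom.hom =
        J.map (algebraMap Γ(X, ⊤) C) := by
      rw [Ideal.map_map, e2, ← Ideal.map_map, Ideal.map_comap_of_surjective _ hsurj]
      rfl
    rw [← e3]
    have hinj : Function.Injective (Scheme.ΓSpecIso Cc).hom.hom :=
      (ConcreteCategory.bijective_of_isIso (Scheme.ΓSpecIso Cc).hom).injective
    have hsurj' : Function.Surjective (Scheme.ΓSpecIso Cc).hom.hom :=
      (ConcreteCategory.bijective_of_isIso (Scheme.ΓSpecIso Cc).hom).surjective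
    have hx : (Scheme.ΓSpecIso Cc).hom.hom ((Scheme.ΓSpecIso Cc).inv.hom x) = x := by
      change ((Scheme.ΓSpecIso Cc).inv ≫ (Scheme.ΓSpecIso Cc).hom).hom x = x
      rw [Iso.inv_hom_id]; rfl
    constructor
    · intro h
      rw [← hx]
      exact Ideal.mem_map_of_mem _ h
    · intro h
      rw [Ideal.mem_map_iff_of_surjective _ hsurj'] at h
      obtain ⟨y, hy, hyx⟩ := h
      have : y = (Scheme.ΓSpecIso Cc).inv.hom x := hinj (hyx.trans hx.symm)
      rw [← this]; exact hy
  -- the lifting argument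
  intro ē hē
  obtain ⟨x, rfl⟩ := Ideal.Quotient.mk_surjective ē
  have hxx : x * x - x ∈ J.map (algebraMap Γ(X, ⊤) C) := by
    rw [← Ideal.Quotient.eq_zero_iff_mem, map_sub, map_mul, hē.eq, sub_self]
  have hθx : IsIdempotentElem (θ x) := by
    change θ x * θ x = θ x
    rw [← sub_eq_zero, ← map_mul, ← map_sub]
    exact (hK _).mpr hxx
  have hV : IsClopen ((pullback g i).basicOpen (θ x) : Set ↥(pullback g i)) :=
    isClopen_basicOpen_of_isIdempotentElem _ hθx
  obtain ⟨U, ⟨hU1, hU2⟩, -⟩ := hX _ g inferInstance _ hV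
  obtain ⟨eU, heU, heU'⟩ := exists_idem_of_isClopen _ hU1
  obtain ⟨e, he⟩ := hψbij.surjective eU
  have heidem : IsIdempotentElem e := by
    apply hψbij.injective
    rw [map_mul, he, heU.eq]
  have hθe : θ e = fst₀.appTop.hom eU := by
    change fst₀.appTop.hom (ψ e) = _
    rw [he]
  have hθeidem : IsIdempotentElem (θ e) := heidem.map θ
  have hbo : (pullback g i).basicOpen (θ e) = (pullback g i).basicOpen (θ x) := by
    apply Opens.ext
    rw [hθe, ← preimage_basicOpen_top, heU']
    exact hU2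
  have heq : θ e = θ x := eq_of_basicOpen_eq _ hθeidem hθx hbo
  refine ⟨e, heidem, ?_⟩
  rw [Ideal.Quotient.eq, ← hK, map_sub, heq, sub_self]

theorem henselianRing_of_HC (hX : HC i) :
    HenselianRing (Γ(X, ⊤) : Type u) (RingHom.ker i.appTop.hom) := by
  refine Groth.Agent.S17968.aux _ _ (ker_le_jacobson i hX) ?_
  intro m p hp _
  haveI : Module.Finite Γ(X, ⊤) (AdjoinRoot p) := hp.finite_adjoinRoot
  haveI : Module.Free Γ(X, ⊤) (AdjoinRoot p) := Module.Free.of_basis (AdjoinRoot.powerBasis' hp).basis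
  exact surjOn_idem i hX (AdjoinRoot p)

end Main

end Groth.Agent.R2.H87.HensGamma
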