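import Mathlib
import Groth.Agent.R2.H87HensGamma
import Groth.Agent.Lib.Helper26HzNoeth

/-!
# A proper scheme over a Noetherian ring that is a henselian couple along `V(I)` is proper over a
henselian pair (helper87)
-/

set_option autoImplicit false
set_option linter.style.haveILetI false

namespace Groth.Agent.R2.H87.HensProper

open AlgebraicGeometry CategoryTheory Limits TopologicalSpace
open Groth.Agent.R2.H87.Clopen Groth.Agent.R2.H87.HensGamma

universe u

section Ring

variable {A A' : Type u} [CommRing A] [CommRing A'] (φ : A →+* A') (I : Ideal A)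

/-- The map `A ⧸ I → A' ⧸ I A'`. -/
noncomputable def quotMap : A ⧸ I →+* A' ⧸ I.map φ :=
  Ideal.quotientMap (I.map φ) φ Ideal.le_comap_map

theorem quotMap_mk (a : A) : quotMap φ I (Ideal.Quotient.mk I a) = Ideal.Quotient.mk (I.map φ) (φ a) :=
  rfl

/-- `A' ⧸ I A'` is the pushout of `A ⧸ I` and `A'` over `A`. -/
theorem isPushout_quotMap :
    IsPushout (CommRingCat.ofHom (Ideal.Quotient.mk I)) (CommRingCat.ofHom φ)
      (CommRingCat.ofHom (quotMap φ I)) (CommRingCat.ofHom (Ideal.Quotient.mk (I.map φ))) := by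
  refine ⟨⟨?_⟩, ⟨PushoutCocone.IsColimit.mk _ (fun s => ?_) (fun s => ?_) (fun s => ?_)
    (fun s m h1 h2 => ?_)⟩⟩
  · ext a
    rfl
  · refine CommRingCat.ofHom (Ideal.Quotient.lift (I.map φ) s.inr.hom ?_)
    intro x hx
    have hle : I.map φ ≤ RingHom.ker s.inr.hom := by
      rw [Ideal.map_le_iff_le_comap]
      intro a ha
      rw [Ideal.mem_comap, RingHom.mem_ker]
      have h := congrArg (fun k => k.hom a) s.condition
      simp only [CommRingCat.hom_comp, CommRingCat.hom_ofHom, RingHom.comp_apply] at h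
      rw [← h, Ideal.Quotient.eq_zero_iff_mem.mpr ha, map_zero]
    exact RingHom.mem_ker.mp (hle hx)
  · ext a
    have h := congrArg (fun k => k.hom a) s.condition
    simp only [CommRingCat.hom_comp, CommRingCat.hom_ofHom, RingHom.comp_apply] at h
    simp only [CommRingCat.hom_comp, CommRingCat.hom_ofHom, RingHom.comp_apply, quotMap_mk,
      Ideal.Quotient.lift_mk]
    exact h.symm
  · ext x
    simp
  · ext a
    have h := congrArg (fun k => k.hom a) h2
    simp only [CommRingCat.hom_comp, CommRingCat.hom_ofHom, RingHom.comp_apply] at h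
    simp only [CommRingCat.hom_ofHom]
    exact h

theorem isPullback_Spec_quotMap :
    IsPullback (Spec.map (CommRingCat.ofHom (Ideal.Quotient.mk (I.map φ))))
      (Spec.map (CommRingCat.ofHom (quotMap φ I)))
      (Spec.map (CommRingCat.ofHom φ)) (Spec.map (CommRingCat.ofHom (Ideal.Quotient.mk I))) :=
  (isPullback_SpecMap_of_isPushout _ _ _ _ (isPushout_quotMap φ I)).flip

end Ring

section Main

open Groth.Agent.Lib.Helper26.PairHz

variable (A : Type u) [CommRing A] [IsNoetherianRing A] (I : Ideal A) {X : Scheme.{u}}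
  (f : X ⟶ Spec (CommRingCat.of A))

/-- The structure ring map `A → Γ(X, O_X)` of an `A`-scheme. -/
noncomputable def strMap : A →+* Γ(X, ⊤) :=
  f.appTop.hom.comp (Scheme.ΓSpecIso (CommRingCat.of A)).inv.hom

omit [IsNoetherianRing A] in
theorem toSpecΓ_strMap : X.toSpecΓ ≫ Spec.map (CommRingCat.ofHom (strMap A f)) = f := by
  have h1 : CommRingCat.ofHom (strMap A f) =
      (Scheme.ΓSpecIso (CommRingCat.of A)).inv ≫ f.appTop := by
    ext a
    rfl
  rw [h1, Spec.map_comp, ← Scheme.toSpecΓ_naturality_assoc, toSpecΓ_SpecMap_ΓSpecIso_inv,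
    Category.comp_id]

omit [IsNoetherianRing A] in
theorem map_strMap_le :
    I.map (strMap A f) ≤ RingHom.ker
      (pullback.fst f (Spec.map (CommRingCat.ofHom (Ideal.Quotient.mk I)))).appTop.hom := by
  rw [Ideal.map_le_iff_le_comap]
  intro a ha
  rw [Ideal.mem_comap, RingHom.mem_ker]
  set q := Spec.map (CommRingCat.ofHom (Ideal.Quotient.mk I)) with hq
  have h1 : (Scheme.ΓSpecIso (CommRingCat.of A)).inv ≫ f.appTop ≫ (pullback.fst f q).appTop =
      CommRingCat.ofHom (Ideal.Quotient.mk I) ≫ (Scheme.ΓSpecIso (CommRingCat.of (A ⧸ I))).inv ≫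
        (pullback.snd f q).appTop := by
    rw [← Scheme.Hom.comp_appTop, pullback.condition, Scheme.Hom.comp_appTop,
      Scheme.ΓSpecIso_inv_naturality_assoc]
  have h2 := congrArg (fun k => k.hom a) h1
  simp only [CommRingCat.hom_comp, CommRingCat.hom_ofHom, RingHom.comp_apply] at h2
  change (pullback.fst f q).appTop.hom (f.appTop.hom
    ((Scheme.ΓSpecIso (CommRingCat.of A)).inv.hom a)) = 0
  rw [h2, Ideal.Quotient.eq_zero_iff_mem.mpr ha, map_zero, map_zero]

variable [IsProper f]

theorem exists_proper_over_henselian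
    (hX : HC (pullback.fst f (Spec.map (CommRingCat.ofHom (Ideal.Quotient.mk I))))) :
    ∃ (A' : Type u) (_ : CommRing A') (I' : Ideal A') (_ : HenselianRing A' I')
      (_ : IsNoetherianRing A')
      (f' : X ⟶ Spec (CommRingCat.of A')) (_ : IsProper f')
      (t : pullback f (Spec.map (CommRingCat.ofHom (Ideal.Quotient.mk I))) ⟶
        Spec (CommRingCat.of (A' ⧸ I'))),
      IsPullback (pullback.fst f (Spec.map (CommRingCat.ofHom (Ideal.Quotient.mk I)))) t f'
        (Spec.map (CommRingCat.ofHom (Ideal.Quotient.mk I'))) := by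
  set q := Spec.map (CommRingCat.ofHom (Ideal.Quotient.mk I)) with hq
  haveI : CompactSpace X := QuasiCompact.compactSpace_of_compactSpace f
  haveI : QuasiSeparatedSpace X := quasiSeparatedSpace_of_quasiSeparated f
  haveI : IsClosedImmersion q :=
    IsClosedImmersion.spec_of_surjective _ Ideal.Quotient.mk_surjective
  have hB := henselianRing_of_HC (pullback.fst f q) hX
  obtain ⟨G, hG, -⟩ := universal_Hz (A := A) (I := I) Γ(X, ⊤)
    (RingHom.ker (pullback.fst f q).appTop.hom) (strMap A f) hB (map_strMap_le A I f)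
  let φ : A →+* Hz A I := algebraMap A (Hz A I)
  let f' : X ⟶ Spec (CommRingCat.of (Hz A I)) := X.toSpecΓ ≫ Spec.map (CommRingCat.ofHom G)
  have hf' : f' ≫ Spec.map (CommRingCat.ofHom φ) = f := by
    change (X.toSpecΓ ≫ Spec.map (CommRingCat.ofHom G)) ≫ Spec.map (CommRingCat.ofHom φ) = f
    rw [Category.assoc, ← Spec.map_comp, ← CommRingCat.ofHom_comp, hG]
    exact toSpecΓ_strMap A f
  haveI : IsProper (f' ≫ Spec.map (CommRingCat.ofHom φ)) := by rw [hf']; infer_instance
  have hpf' : IsProper f' := IsProper.of_comp f' (Spec.map (CommRingCat.ofHom φ))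
  have hR := isPullback_Spec_quotMap φ I
  have hcond : (pullback.fst f q ≫ f') ≫ Spec.map (CommRingCat.ofHom φ) =
      pullback.snd f q ≫ q := by
    rw [Category.assoc, hf', pullback.condition]
  refine ⟨Hz A I, inferInstance, I.map φ, henselianRing_Hz,
    Groth.Agent.Lib.Helper26.HzNoeth.isNoetherianRing_of_isPairHenselization
      (isPairHenselization_Hz (A := A) (I := I)),
    f', hpf', hR.lift (pullback.fst f q ≫ f') (pullback.snd f q) hcond, ?_⟩
  refine IsPullback.of_bot ?_ (hR.lift_fst _ _ hcond).symm hR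
  rw [hR.lift_snd, hf']
  exact IsPullback.of_hasPullback f q

end Main

end Groth.Agent.R2.H87.HensProper
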