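import Mathlib
import Groth.Agent.R2.H87ClopenLift
import Groth.Agent.Lib.Helper26HenselIdem

/-!
# Henselian pairs and henselian couples `(Spec A, Spec A/I)` (helper87)
-/

set_option autoImplicit false

namespace Groth.Agent.R2.H87.HensSpec

open AlgebraicGeometry CategoryTheory Limits Topology
open Groth.Agent.R2.H87.Clopen

universe u

/-- The closed immersion `Spec (A/I) ⟶ Spec A`. -/
noncomputable abbrev quotSpec (A : Type u) [CommRing A] (I : Ideal A) :
    Spec (CommRingCat.of (A ⧸ I)) ⟶ Spec (CommRingCat.of A) :=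
  Spec.map (CommRingCat.ofHom (Ideal.Quotient.mk I))

instance (A : Type u) [CommRing A] (I : Ideal A) : IsClosedImmersion (quotSpec A I) :=
  IsClosedImmersion.spec_of_surjective _ Ideal.Quotient.mk_surjective

theorem range_quotSpec (A : Type u) [CommRing A] (I : Ideal A) :
    Set.range (quotSpec A I) = PrimeSpectrum.zeroLocus (I : Set A) := by
  have h := range_comap_of_surjective (A ⧸ I) (Ideal.Quotient.mk I) Ideal.Quotient.mk_surjective
  rw [Ideal.mk_ker] at h
  exact h

theorem range_fst_quotSpec (A : Type u) [CommRing A] (I : Ideal A) {Y : Scheme.{u}}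
    (g : Y ⟶ Spec (CommRingCat.of A)) :
    Set.range (pullback.fst g (quotSpec A I)) = g ⁻¹' PrimeSpectrum.zeroLocus (I : Set A) := by
  rw [Scheme.Pullback.range_fst, range_quotSpec]

/-- The condition of the statement for `Y = Spec B`, in terms of idempotents. -/
theorem clopenLift_fst_Spec_iff (A : Type u) [CommRing A] (I : Ideal A) (B : Type u) [CommRing B]
    [Algebra A B] :
    ClopenLift (pullback.fst (Spec.map (CommRingCat.ofHom (algebraMap A B))) (quotSpec A I)) ↔
      Set.BijOn (Ideal.Quotient.mk (I.map (algebraMap A B))) {e : B | IsIdempotentElem e}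
        {e | IsIdempotentElem e} := by
  refine clopenLift_iff_bijOn_of_range_eq_zeroLocus _ _
    (Scheme.Hom.isClosedEmbedding _).isEmbedding ?_
  refine (range_fst_quotSpec A I _).trans ?_
  change PrimeSpectrum.comap (algebraMap A B) ⁻¹' _ = _
  rw [PrimeSpectrum.preimage_comap_zeroLocus, Ideal.map, PrimeSpectrum.zeroLocus_span]

theorem clopenLift_fst_of_henselian (A : Type u) [CommRing A] (I : Ideal A) [HenselianRing A I]
    {Y : Scheme.{u}} (g : Y ⟶ Spec (CommRingCat.of A)) [IsFinite g] :
    ClopenLift (pullback.fst g (quotSpec A I)) := by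
  have : IsAffine Y := isAffine_of_isAffineHom g
  let φ : CommRingCat.of A ⟶ Γ(Y, ⊤) := (Scheme.ΓSpecIso (CommRingCat.of A)).inv ≫ g.appTop
  have hg : g = Y.isoSpec.hom ≫ Spec.map φ := by
    rw [Spec.map_comp, ← Category.assoc, Scheme.isoSpec_hom_naturality, Category.assoc]
    simp [Scheme.isoSpec]
  let _ : Algebra A Γ(Y, ⊤) := φ.hom.toAlgebra
  have hfin : φ.hom.Finite := by
    have h1 : g.appTop.hom.Finite := Scheme.Hom.finite_appTop g
    have h2 : (Scheme.ΓSpecIso (CommRingCat.of A)).inv.hom.Finite :=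
      RingHom.Finite.of_surjective _
        (ConcreteCategory.bijective_of_isIso (Scheme.ΓSpecIso (CommRingCat.of A)).inv).surjective
    exact h1.comp h2
  have : Module.Finite A Γ(Y, ⊤) := hfin
  have : Algebra.IsIntegral A Γ(Y, ⊤) := Algebra.IsIntegral.of_finite A _
  -- transport along the homeomorphism `Y ≃ Spec Γ(Y)`
  let e : Y ≃ₜ Spec Γ(Y, ⊤) := Scheme.homeoOfIso Y.isoSpec
  rw [← clopenLift_homeomorph_comp_iff e]
  have hbij := Groth.Agent.Lib.Helper26.HenselIdem.idem_bijOn A I Γ(Y, ⊤)
  refine (clopenLift_iff_bijOn_of_range_eq_zeroLocus (I.map (algebraMap A Γ(Y, ⊤))) _ ?_ ?_).mpr hbij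
  · exact e.isEmbedding.comp (Scheme.Hom.isClosedEmbedding _).isEmbedding
  · refine (Set.range_comp _ _).trans ?_
    refine (congrArg (fun s => e '' s) (range_fst_quotSpec A I g)).trans ?_
    have h1 : (g : Y → Spec (CommRingCat.of A)) = (Spec.map φ) ∘ e := by
      conv_lhs => rw [hg]
      rfl
    refine (congrArg (fun (f : Y → Spec (CommRingCat.of A)) =>
      e '' (f ⁻¹' PrimeSpectrum.zeroLocus (I : Set A))) h1).trans ?_
    refine (congrArg (fun s => e '' s) (Set.preimage_comp (f := e) (g := Spec.map φ))).trans ?_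
    refine (Set.image_preimage_eq _ e.surjective).trans ?_
    change PrimeSpectrum.comap φ.hom ⁻¹' _ = _
    rw [PrimeSpectrum.preimage_comap_zeroLocus, Ideal.map, PrimeSpectrum.zeroLocus_span]
    rfl

theorem henselian_of_clopenLift (A : Type u) [CommRing A] (I : Ideal A)
    (h : ∀ (Y : Scheme.{u}) (g : Y ⟶ Spec (CommRingCat.of A)), IsFinite g →
      ClopenLift (pullback.fst g (quotSpec A I))) :
    HenselianRing A I := by
  apply Groth.Agent.Lib.Helper26.HenselIdem.henselian_of_finite_bijOn
  intro B _ _ hB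
  rw [← clopenLift_fst_Spec_iff]
  apply h
  rw [IsFinite.SpecMap_iff]
  exact RingHom.finite_algebraMap.mpr hB

end Groth.Agent.R2.H87.HensSpec
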