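import Mathlib
import Groth.Agent.R2.H87ClopenFibres
import Groth.Agent.R2.H87HensSpec
import Groth.Agent.R2.H87HensProper
import Groth.Agent.R2.H40SteinFact
import Groth.Agent.R2.H64SteinST0

/-!
# Proper schemes over henselian pairs are henselian couples (helper87)

`(A, I)` a henselian pair with `A` Noetherian, `X` proper over `A`: clopen subsets of
`X₀ = X ×_A A/I` lift uniquely to `X` (Stein factorisation + Zariski connectedness from PROJ:stein).
-/

set_option autoImplicit false

namespace Groth.Agent.R2.H87.HensProperHC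

open AlgebraicGeometry CategoryTheory Limits Topology
open Groth.Agent.R2.H87.Clopen Groth.Agent.R2.H87.HensSpec Groth.Agent.R2.H87.HensProper

universe u

/-- `ClopenLift` for the closed fibre only depends on the closed subset `g ⁻¹' V(I)`. -/
theorem clopenLift_fst_iff (A : Type u) [CommRing A] (I : Ideal A) {Y : Scheme.{u}}
    (g : Y ⟶ Spec (CommRingCat.of A)) :
    ClopenLift (pullback.fst g (quotSpec A I)) ↔
      ClopenLift (Subtype.val : (g ⁻¹' PrimeSpectrum.zeroLocus (I : Set A) : Set Y) → Y) := by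
  refine clopenLift_iff_of_range_eq (Scheme.Hom.isClosedEmbedding _).isEmbedding
    IsEmbedding.subtypeVal ?_
  rw [range_fst_quotSpec, Subtype.range_val]

/-- **A proper scheme over a Noetherian henselian pair is a henselian couple (no finite cover).** -/
theorem clopenLift_fst_of_isProper (A : Type u) [CommRing A] [IsNoetherianRing A] (I : Ideal A)
    [HenselianRing A I] {Y : Scheme.{u}} (h : Y ⟶ Spec (CommRingCat.of A)) [IsProper h] :
    ClopenLift (pullback.fst h (quotSpec A I)) := by
  have st0 := Groth.Agent.R2.H64.SteinST0.st0.{u}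
  have hfin : IsFinite h.fromNormalization :=
    Groth.Agent.R2.H40.SteinFact.isFinite_fromNormalization h
      (Groth.Agent.R2.H40.SteinFact.finite_app_of_isProper h)
  have hprop : IsProper h.toNormalization :=
    Groth.Agent.R2.H40.SteinFact.isProper_toNormalization h
  have hconn := Groth.Agent.R2.H40.SteinFact.isConnected_toNormalization_preimage h st0
  have h1 := clopenLift_fst_of_henselian A I h.fromNormalization
  rw [clopenLift_fst_iff] at h1 ⊢
  have h2 := clopenLift_preimage_of_isClosedMap (q := h.toNormalization)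
    h.toNormalization.continuous h.toNormalization.isClosedMap hconn _ h1
  have hpre : h.toNormalization ⁻¹'
      (h.fromNormalization ⁻¹' PrimeSpectrum.zeroLocus (I : Set A)) =
      h ⁻¹' PrimeSpectrum.zeroLocus (I : Set A) := by
    ext x
    have hx : h.fromNormalization (h.toNormalization x) = h x := by
      change (h.toNormalization ≫ h.fromNormalization) x = h x
      rw [h.toNormalization_fromNormalization]
    change h.fromNormalization (h.toNormalization x) ∈ PrimeSpectrum.zeroLocus (I : Set A) ↔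
      h x ∈ PrimeSpectrum.zeroLocus (I : Set A)
    rw [hx]
  rwa [hpre] at h2

/-- **Proper over a Noetherian henselian pair ⇒ henselian couple.** -/
theorem clopenLift_of_isProper_henselian (A : Type u) [CommRing A] [IsNoetherianRing A]
    (I : Ideal A) [HenselianRing A I] {X : Scheme.{u}} (f : X ⟶ Spec (CommRingCat.of A))
    [IsProper f] {Y : Scheme.{u}} (g : Y ⟶ X) [IsFinite g] :
    ClopenLift (pullback.fst g (pullback.fst f (quotSpec A I))) := by
  have h1 := clopenLift_fst_of_isProper A I (g ≫ f)
  refine (clopenLift_iff_of_range_eq (Scheme.Hom.isClosedEmbedding _).isEmbedding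
    (Scheme.Hom.isClosedEmbedding _).isEmbedding ?_).mpr h1
  rw [Scheme.Pullback.range_fst, range_fst_quotSpec, range_fst_quotSpec]
  rfl

/-- the closed fibre of `X → Spec Γ(X, O_X)` along `J = ker (Γ(X) → Γ(X₀))` is `X₀`. -/
theorem preimage_toSpecΓ_zeroLocus_ker (A : Type u) [CommRing A] (I : Ideal A) {X : Scheme.{u}}
    (f : X ⟶ Spec (CommRingCat.of A)) :
    (X.toSpecΓ : X → Spec Γ(X, ⊤)) ⁻¹' PrimeSpectrum.zeroLocus
        ((RingHom.ker (pullback.fst f (quotSpec A I)).appTop.hom : Ideal Γ(X, ⊤)) : Set Γ(X, ⊤)) =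
      f ⁻¹' PrimeSpectrum.zeroLocus (I : Set A) := by
  set i₀ := pullback.fst f (quotSpec A I) with hi₀
  ext x
  constructor
  · intro hx
    have hx' : (RingHom.ker i₀.appTop.hom : Set Γ(X, ⊤)) ⊆ (X.toSpecΓ x).asIdeal := hx
    have hf : f x = Spec.map (CommRingCat.ofHom (strMap A f)) (X.toSpecΓ x) := by
      conv_lhs => rw [← toSpecΓ_strMap A f]
      rfl
    change f x ∈ PrimeSpectrum.zeroLocus (I : Set A)
    rw [hf]
    refine (PrimeSpectrum.mem_zeroLocus _ _).mpr ?_
    intro a ha
    change strMap A f a ∈ (X.toSpecΓ x).asIdeal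
    exact hx' (map_strMap_le A I f (Ideal.mem_map_of_mem _ ha))
  · intro hx
    rw [← range_fst_quotSpec] at hx
    obtain ⟨x₀, rfl⟩ := hx
    have hnat := Scheme.toSpecΓ_naturality i₀
    have h2 : X.toSpecΓ (i₀ x₀) =
        Spec.map i₀.appTop ((pullback f (quotSpec A I)).toSpecΓ x₀) := by
      change (i₀ ≫ X.toSpecΓ) x₀ = _
      rw [hnat]
      rfl
    change X.toSpecΓ (i₀ x₀) ∈ PrimeSpectrum.zeroLocus _
    rw [h2]
    refine (PrimeSpectrum.mem_zeroLocus _ _).mpr ?_
    intro b hb
    exact Ideal.ker_le_comap i₀.appTop.hom hb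

/-- **Proper over Noetherian `A` with `(Γ(X), ker (Γ(X) → Γ(X₀)))` henselian ⇒ henselian
couple.** -/
theorem clopenLift_of_isProper_henselian_Γ (A : Type u) [CommRing A] [IsNoetherianRing A]
    (I : Ideal A) {X : Scheme.{u}} (f : X ⟶ Spec (CommRingCat.of A)) [IsProper f]
    (h : HenselianRing (Γ(X, ⊤) : Type u)
      (RingHom.ker (pullback.fst f (quotSpec A I)).appTop.hom))
    {Y : Scheme.{u}} (g : Y ⟶ X) [IsFinite g] :
    ClopenLift (pullback.fst g (pullback.fst f (quotSpec A I))) := by
  -- `Γ(X)` is finite over `A`, hence Noetherian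
  have hφ : (strMap A f).Finite := by
    have h1 : (f.app ⊤).hom.Finite :=
      Groth.Agent.R2.H40.SteinFact.finite_app_of_isProper f ⊤ (isAffineOpen_top _)
    have h2 : (Scheme.ΓSpecIso (CommRingCat.of A)).inv.hom.Finite :=
      RingHom.Finite.of_surjective _
        (ConcreteCategory.bijective_of_isIso (Scheme.ΓSpecIso (CommRingCat.of A)).inv).surjective
    exact h1.comp h2
  have hB : IsNoetherianRing (Γ(X, ⊤) : Type u) := by
    letI := (strMap A f).toAlgebra
    have : Module.Finite A (Γ(X, ⊤) : Type u) := hφ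
    exact IsNoetherianRing.of_finite A _
  -- `X` is proper over `Spec Γ(X)`
  obtain ⟨f', hf'⟩ : ∃ f' : X ⟶ Spec (CommRingCat.of (Γ(X, ⊤) : Type u)), f' = X.toSpecΓ :=
    ⟨_, rfl⟩
  have hcomp : f' ≫ Spec.map (CommRingCat.ofHom (strMap A f)) = f := by
    rw [hf']
    exact toSpecΓ_strMap A f
  haveI : IsProper (f' ≫ Spec.map (CommRingCat.ofHom (strMap A f))) := by
    rw [hcomp]; infer_instance
  have hpf' : IsProper f' := IsProper.of_comp f' (Spec.map (CommRingCat.ofHom (strMap A f)))
  have h1 := clopenLift_fst_of_isProper (Γ(X, ⊤) : Type u)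
    (RingHom.ker (pullback.fst f (quotSpec A I)).appTop.hom) (g ≫ f')
  refine (clopenLift_iff_of_range_eq (Scheme.Hom.isClosedEmbedding _).isEmbedding
    (Scheme.Hom.isClosedEmbedding _).isEmbedding ?_).mpr h1
  rw [Scheme.Pullback.range_fst, range_fst_quotSpec, range_fst_quotSpec,
    ← preimage_toSpecΓ_zeroLocus_ker A I f, hf']
  rfl

end Groth.Agent.R2.H87.HensProperHC
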