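import Mathlib

/-!
# Limits of scheme-theoretic images (helper87)

`X ⟶ lim X'_i` a closed immersion (cofiltered limit, affine transitions).  Then `X` is the limit of
the scheme-theoretic images `Z_i` of `X ⟶ X'_i`.
-/

set_option autoImplicit false
universe u
open CategoryTheory AlgebraicGeometry Limits

namespace Groth.Agent.R2.H87.LimImage

variable {I : Type u} [SmallCategory I] (D : I ⥤ Scheme.{u}) (c : Cone D) (hc : IsLimit c)

set_option backward.defeqAttrib.useBackward true in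
set_option backward.isDefEq.respectTransparency false in
open Scheme.Opens in
include hc in
/-- sections over the preimage of an affine open come from a stage. -/
lemma exists_appLE_eq [IsCofiltered I] [∀ {i j} (f : i ⟶ j), IsAffineHom (D.map f)]
    (i : I) (V : (D.obj i).Opens) (hV : IsAffineOpen V) (r : Γ(c.pt, c.π.app i ⁻¹ᵁ V)) :
    ∃ (j : I) (φ : j ⟶ i) (s : Γ(D.obj j, D.map φ ⁻¹ᵁ V))
      (h : c.π.app i ⁻¹ᵁ V ≤ c.π.app j ⁻¹ᵁ D.map φ ⁻¹ᵁ V),
      r = (c.π.app j).appLE (D.map φ ⁻¹ᵁ V) (c.π.app i ⁻¹ᵁ V) h s := by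
  have (j : _) : IsAffine ((opensDiagram D i V).op.obj j).unop := hV.preimage _
  have (j : _) : IsAffine ((opensDiagram D i V).obj j) := hV.preimage _
  obtain ⟨⟨j⟩, s, hs⟩ := (Types.jointly_surjective_of_isColimit (isColimitOfPreserves
    (Scheme.Γ ⋙ forget _) (isLimitOpensCone D c hc i V).op) ((c.π.app i ⁻¹ᵁ V).topIso.inv r))
  obtain ⟨s, rfl⟩ := (D.map j.hom ⁻¹ᵁ V).topIso.symm.commRingCatIsoToRingEquiv.surjective s
  have h : c.π.app j.left ⁻¹ᵁ D.map j.hom ⁻¹ᵁ V = c.π.app i ⁻¹ᵁ V := congr($(c.w j.hom) ⁻¹ᵁ V)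
  have : r = (c.π.app j.left).appLE (D.map j.hom ⁻¹ᵁ V) (c.π.app i ⁻¹ᵁ V) h.ge s := by
    convert!
      show r = ((topIso _).inv ≫ ((opensCone D c i V).π.app j).appTop ≫ (topIso _).hom) s from
        (c.π.app i ⁻¹ᵁ V).topIso.commRingCatIsoToRingEquiv.symm_apply_eq.mp hs.symm using 3
    simp [Scheme.Hom.app_eq_appLE, Scheme.Hom.resLE_appLE]
  exact ⟨j.left, j.hom, s, h.ge, this⟩

include hc in
/-- An inclusion of quasi-coherent ideal sheaves on a cofiltered limit with affine transitions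
can be tested after pushing forward to all stages. -/
lemma le_of_forall_map_le [IsCofiltered I] [∀ {i j} (f : i ⟶ j), IsAffineHom (D.map f)]
    (K J : c.pt.IdealSheafData)
    (h : ∀ i, K.map (c.π.app i) ≤ J.map (c.π.app i)) : K ≤ J := by
  obtain ⟨i₀⟩ := IsCofiltered.nonempty (C := I)
  have hπ : ∀ i, IsAffineHom (c.π.app i) := fun i => isAffineHom_π_app D c hc i
  refine Scheme.IdealSheafData.le_of_iSup_eq_top
    (fun V : (D.obj i₀).affineOpens =>
      (⟨c.π.app i₀ ⁻¹ᵁ V.1, V.2.preimage (c.π.app i₀)⟩ : c.pt.affineOpens)) ?_ ?_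
  · rw [eq_top_iff]
    intro x _
    obtain ⟨_, ⟨V, hV : IsAffineOpen V, rfl⟩, hxV, -⟩ :=
      (D.obj i₀).isBasis_affineOpens.exists_subset_of_mem_open
        (Set.mem_univ (c.π.app i₀ x)) isOpen_univ
    exact TopologicalSpace.Opens.mem_iSup.mpr ⟨⟨V, hV⟩, hxV⟩
  · intro V s hs
    obtain ⟨j, φ, sj, hle, hsj⟩ := exists_appLE_eq D c hc i₀ V.1 V.2 s
    have hV' : IsAffineOpen (D.map φ ⁻¹ᵁ V.1) := V.2.preimage (D.map φ)
    have heq : c.π.app j ⁻¹ᵁ D.map φ ⁻¹ᵁ V.1 = c.π.app i₀ ⁻¹ᵁ V.1 := by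
      rw [← Scheme.Hom.comp_preimage, c.w]
    -- restriction maps between the two (equal) opens
    have hs' : (c.π.app j).app (D.map φ ⁻¹ᵁ V.1) sj =
        (c.pt.presheaf.map (homOfLE heq.le).op).hom s := by
      rw [hsj, Scheme.Hom.appLE]
      change _ = ((c.π.app j).app (D.map φ ⁻¹ᵁ V.1) ≫ c.pt.presheaf.map (homOfLE hle).op ≫
        c.pt.presheaf.map (homOfLE heq.le).op).hom sj
      rw [← Functor.map_comp]
      have : ((homOfLE hle).op ≫ (homOfLE heq.le).op) = 𝟙 _ := Subsingleton.elim _ _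
      rw [this, CategoryTheory.Functor.map_id]
      rfl
    have h1 : sj ∈ (K.map (c.π.app j)).ideal ⟨D.map φ ⁻¹ᵁ V.1, hV'⟩ := by
      rw [Scheme.IdealSheafData.ideal_map_of_isAffineHom, Ideal.mem_comap, hs']
      exact K.ideal_le_comap_ideal
        (U := ⟨c.π.app j ⁻¹ᵁ D.map φ ⁻¹ᵁ V.1, hV'.preimage (c.π.app j)⟩)
        (V := ⟨c.π.app i₀ ⁻¹ᵁ V.1, V.2.preimage (c.π.app i₀)⟩) heq.le hs
    have h2 := h j _ h1
    rw [Scheme.IdealSheafData.ideal_map_of_isAffineHom, Ideal.mem_comap] at h2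
    have h3 := J.ideal_le_comap_ideal
        (U := ⟨c.π.app i₀ ⁻¹ᵁ V.1, V.2.preimage (c.π.app i₀)⟩)
        (V := ⟨c.π.app j ⁻¹ᵁ D.map φ ⁻¹ᵁ V.1, hV'.preimage (c.π.app j)⟩) hle h2
    rw [Ideal.mem_comap] at h3
    rw [hsj]
    exact h3

section Image

variable {X : Scheme.{u}} (ι : X ⟶ c.pt)

/-- the maps to the stages. -/
abbrev g (i : I) : X ⟶ D.obj i := ι ≫ c.π.app i

lemma g_map {i j : I} (φ : i ⟶ j) : g D c ι i ≫ D.map φ = g D c ι j := by
  simp [g, c.w]

lemma ker_imageι_comp {i j : I} (φ : i ⟶ j) :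
    ((g D c ι i).imageι ≫ D.map φ).ker = (g D c ι j).ker := by
  rw [Scheme.Hom.ker_comp, Scheme.IdealSheafData.ker_subschemeι, Scheme.IdealSheafData.map_ker,
    g_map]

/-- transition maps between the scheme-theoretic images. -/
noncomputable def Zmap {i j : I} (φ : i ⟶ j) : (g D c ι i).image ⟶ (g D c ι j).image :=
  IsClosedImmersion.lift (g D c ι j).imageι ((g D c ι i).imageι ≫ D.map φ) (by
    rw [Scheme.IdealSheafData.ker_subschemeι, ker_imageι_comp])

@[reassoc]
lemma Zmap_imageι {i j : I} (φ : i ⟶ j) :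
    Zmap D c ι φ ≫ (g D c ι j).imageι = (g D c ι i).imageι ≫ D.map φ :=
  IsClosedImmersion.lift_fac _ _ _

/-- the diagram of scheme-theoretic images. -/
noncomputable def DZ : I ⥤ Scheme.{u} where
  obj i := (g D c ι i).image
  map φ := Zmap D c ι φ
  map_id i := by
    rw [← cancel_mono (g D c ι i).imageι, Zmap_imageι, D.map_id, Category.comp_id,
      Category.id_comp]
  map_comp φ ψ := by
    rw [← cancel_mono (g D c ι _).imageι, Zmap_imageι, Category.assoc, Zmap_imageι,
      Zmap_imageι_assoc, D.map_comp]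

/-- the closed immersions into the stages, as a natural transformation. -/
noncomputable def ζ : DZ D c ι ⟶ D where
  app i := (g D c ι i).imageι
  naturality _ _ φ := Zmap_imageι D c ι φ

instance (i : I) : IsClosedImmersion ((ζ D c ι).app i) :=
  inferInstanceAs (IsClosedImmersion (g D c ι i).imageι)

/-- the cone with point `X`. -/
noncomputable abbrev cZ : Cone (DZ D c ι) where
  pt := X
  π :=
    { app i := (g D c ι i).toImage
      naturality i j φ := by
        change 𝟙 X ≫ (g D c ι j).toImage = (g D c ι i).toImage ≫ Zmap D c ι φ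
        rw [← cancel_mono (g D c ι j).imageι, Category.id_comp, Category.assoc, Zmap_imageι,
          Scheme.Hom.toImage_imageι, Scheme.Hom.toImage_imageι_assoc, g_map] }

lemma cZ_π_ζ (i : I) : (cZ D c ι).π.app i ≫ (ζ D c ι).app i = ι ≫ c.π.app i :=
  (g D c ι i).toImage_imageι

instance isAffineHom_DZ_map [∀ {i j} (f : i ⟶ j), IsAffineHom (D.map f)] {i j : I} (φ : i ⟶ j) :
    IsAffineHom ((DZ D c ι).map φ) := by
  change IsAffineHom (Zmap D c ι φ)
  have h : IsAffineHom (Zmap D c ι φ ≫ (g D c ι j).imageι) := by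
    rw [Zmap_imageι]
    infer_instance
  exact IsAffineHom.of_comp _ (g D c ι j).imageι

include hc in
/-- **`X` is the limit of its scheme-theoretic images in the stages.** -/
noncomputable def isLimitCZ [IsCofiltered I] [∀ {i j} (f : i ⟶ j), IsAffineHom (D.map f)]
    [IsClosedImmersion ι] : IsLimit (cZ D c ι) := by
  -- the lift
  have key : ∀ s : Cone (DZ D c ι), ∃ m : s.pt ⟶ X,
      m ≫ ι = hc.lift ((Cone.postcompose (ζ D c ι)).obj s) := by
    intro s
    set t := hc.lift ((Cone.postcompose (ζ D c ι)).obj s) with ht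
    have htπ : ∀ i, t ≫ c.π.app i = s.π.app i ≫ (g D c ι i).imageι := fun i =>
      hc.fac ((Cone.postcompose (ζ D c ι)).obj s) i
    have H : ι.ker ≤ t.ker := by
      refine le_of_forall_map_le D c hc _ _ (fun i => ?_)
      rw [Scheme.IdealSheafData.map_ker, Scheme.IdealSheafData.map_ker, htπ]
      have := (s.π.app i).le_ker_comp (g D c ι i).imageι
      change (g D c ι i).ker.subschemeι.ker ≤ _ at this
      rwa [Scheme.IdealSheafData.ker_subschemeι] at this
    exact ⟨IsClosedImmersion.lift ι t H, IsClosedImmersion.lift_fac _ _ _⟩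
  choose m hm using key
  refine
    { lift := m
      fac := fun s i => ?_
      uniq := fun s m' hm' => ?_ }
  · have h1 : (m s ≫ (g D c ι i).toImage) ≫ (g D c ι i).imageι =
        s.π.app i ≫ (g D c ι i).imageι := by
      rw [Category.assoc, Scheme.Hom.toImage_imageι]
      change m s ≫ ι ≫ c.π.app i = _
      rw [← Category.assoc, hm]
      exact hc.fac ((Cone.postcompose (ζ D c ι)).obj s) i
    exact (cancel_mono (g D c ι i).imageι).mp h1
  · obtain ⟨m'', hm''⟩ : ∃ m'' : s.pt ⟶ X, m'' = m' := ⟨m', rfl⟩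
    subst hm''
    have hm2 : ∀ i, m'' ≫ ι ≫ c.π.app i = s.π.app i ≫ (ζ D c ι).app i := fun i => by
      rw [← hm' i, Category.assoc, cZ_π_ζ]
    have h2 : m'' ≫ ι = m s ≫ ι := by
      rw [hm]
      refine hc.hom_ext (fun i => ?_)
      rw [hc.fac, Category.assoc, hm2 i]
      rfl
    exact (cancel_mono ι).mp h2

end Image

end Groth.Agent.R2.H87.LimImage
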