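/-
helper87: pullback bookkeeping for descending properness through limits (Stacks 081F, 09ZR, 0CNH).
Pure category theory + a small scheme lemma ("image of proper is proper" packaged for covers).
-/
import Mathlib

set_option autoImplicit false
universe u v w
open CategoryTheory AlgebraicGeometry Limits

namespace Groth.Agent.R2.H87.LimProper

section Cat

variable {C : Type v} [Category.{w} C]

/-- Given `j₁ ≫ b₁ = π₁ ≫ f₁` (a "Chow cover" `X₁' → X₁`, `X₁' → P₁ → Y₁` of `f₁ : X₁ → Y₁`) and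
base changes of `f₁`, `b₁` along `u : Y₂ → Y₁` and of `j₁` along `P₂ → P₁`, the induced map
`X₂' → X₂` is the base change of `π₁`. -/
lemma exists_lift_isPullback {X₁ Y₁ X₁' P₁ X₂ Y₂ P₂ X₂' : C}
    {f₁ : X₁ ⟶ Y₁} {π₁ : X₁' ⟶ X₁} {j₁ : X₁' ⟶ P₁} {b₁ : P₁ ⟶ Y₁} (comm : j₁ ≫ b₁ = π₁ ≫ f₁)
    {u : Y₂ ⟶ Y₁} {pX : X₂ ⟶ X₁} {f₂ : X₂ ⟶ Y₂} (hX : IsPullback pX f₂ f₁ u)
    {pP : P₂ ⟶ P₁} {r : P₂ ⟶ Y₂} (hP : IsPullback pP r b₁ u)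
    {pX' : X₂' ⟶ X₁'} {f₂' : X₂' ⟶ P₂} (hX' : IsPullback pX' f₂' j₁ pP) :
    ∃ ρ : X₂' ⟶ X₂, ρ ≫ f₂ = f₂' ≫ r ∧ IsPullback pX' ρ π₁ pX := by
  have hcomm : (pX' ≫ π₁) ≫ f₁ = (f₂' ≫ r) ≫ u := by
    rw [Category.assoc, ← comm, ← Category.assoc, hX'.w, Category.assoc, hP.w, Category.assoc]
  have h2 : hX.lift (pX' ≫ π₁) (f₂' ≫ r) hcomm ≫ f₂ = f₂' ≫ r := hX.lift_snd _ _ _
  refine ⟨hX.lift (pX' ≫ π₁) (f₂' ≫ r) hcomm, h2, ?_⟩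
  have hbig : IsPullback pX' (f₂' ≫ r) (j₁ ≫ b₁) u := hX'.paste_vert hP
  rw [comm, ← h2] at hbig
  exact IsPullback.of_bot hbig (hX.lift_fst _ _ _).symm hX

/-- Rebase: from a stage `(Xi, Yi)` over an index `i ⟶ i₀` one gets pullback squares from the
limit objects to that stage. -/
lemma exists_rebase {I : Type*} [Category I] {D : I ⥤ C} {c : Cone D} {i₀ i : I} (φ : i ⟶ i₀)
    {X₀ Y₀ X Y Xi Yi : C} {f₀ : X₀ ⟶ Y₀} {g₀ : Y₀ ⟶ D.obj i₀} {f : X ⟶ Y} {g : Y ⟶ c.pt}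
    {qY : Y ⟶ Y₀} {qX : X ⟶ X₀}
    (hY : IsPullback qY g g₀ (c.π.app i₀)) (hX : IsPullback qX f f₀ qY)
    {fi : Xi ⟶ Yi} {gi : Yi ⟶ D.obj i} {pY : Yi ⟶ Y₀} {pX : Xi ⟶ X₀}
    (hYi : IsPullback pY gi g₀ (D.map φ)) (hXi : IsPullback pX fi f₀ pY) :
    ∃ (qYi : Y ⟶ Yi) (qXi : X ⟶ Xi), qYi ≫ pY = qY ∧ qXi ≫ pX = qX ∧
      IsPullback qYi g gi (c.π.app i) ∧ IsPullback qXi f fi qYi := by
  have hw : qY ≫ g₀ = (g ≫ c.π.app i) ≫ D.map φ := by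
    rw [Category.assoc, c.w, hY.w]
  have h1 : hYi.lift qY (g ≫ c.π.app i) hw ≫ pY = qY := hYi.lift_fst _ _ _
  have h2 : hYi.lift qY (g ≫ c.π.app i) hw ≫ gi = g ≫ c.π.app i := hYi.lift_snd _ _ _
  have hYl : IsPullback (hYi.lift qY (g ≫ c.π.app i) hw) g gi (c.π.app i) := by
    have hbig := hY
    rw [← h1, ← c.w φ] at hbig
    exact IsPullback.of_right hbig h2 hYi
  have hw' : qX ≫ f₀ = (f ≫ hYi.lift qY (g ≫ c.π.app i) hw) ≫ pY := by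
    rw [Category.assoc, h1, hX.w]
  have h3 : hXi.lift qX (f ≫ hYi.lift qY (g ≫ c.π.app i) hw) hw' ≫ pX = qX := hXi.lift_fst _ _ _
  have h4 : hXi.lift qX (f ≫ hYi.lift qY (g ≫ c.π.app i) hw) hw' ≫ fi =
      f ≫ hYi.lift qY (g ≫ c.π.app i) hw := hXi.lift_snd _ _ _
  refine ⟨_, hXi.lift qX (f ≫ hYi.lift qY (g ≫ c.π.app i) hw) hw', h1, h3, hYl, ?_⟩
  have hbig := hX
  rw [← h3] at hbig
  conv at hbig => arg 4; rw [← h1]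
  exact IsPullback.of_right hbig h4 hXi

end Cat

end Groth.Agent.R2.H87.LimProper
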