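import Mathlib
import Groth.Agent.S0591
import Groth.Agent.S2074
import Groth.Agent.R2.H87LimImage

/-!
# Proper morphisms as limits of proper morphisms over finite type bases (helper87)

Helper constructions for S2147: descending a proper f.p. morphism to a stage, and the induced
base-change system over `Over j₁`.
-/

set_option autoImplicit false
universe u
open CategoryTheory AlgebraicGeometry Limits

namespace Groth.Agent.R2.H87.LimProperC

/-- If some base change of `f` along `u'` is proper and `u` factors through `u'`, then any base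
change of `f` along `u` is proper. -/
lemma isProper_of_isPullback_of_factor' {X Y T T' P P' : Scheme.{u}} {f : X ⟶ Y} {u' : T' ⟶ Y}
    {a' : P' ⟶ X} {b' : P' ⟶ T'} (h' : IsPullback a' b' f u') (hb' : IsProper b')
    {u : T ⟶ Y} (v : T ⟶ T') (hv : v ≫ u' = u)
    {a : P ⟶ X} {b : P ⟶ T} (h : IsPullback a b f u) : IsProper b := by
  have hw : a ≫ f = (b ≫ v) ≫ u' := by rw [Category.assoc, hv, h.w]
  have hl1 : h'.lift a (b ≫ v) hw ≫ a' = a := h'.lift_fst _ _ _
  have hl2 : h'.lift a (b ≫ v) hw ≫ b' = b ≫ v := h'.lift_snd _ _ _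
  have big : IsPullback (h'.lift a (b ≫ v) hw ≫ a') b f (v ≫ u') := by
    rw [hl1, hv]; exact h
  have sq : IsPullback (h'.lift a (b ≫ v) hw) b b' v := IsPullback.of_right big hl2 h'
  exact MorphismProperty.of_isPullback (P := @IsProper) sq hb'

section Stage

variable {J : Type u} [SmallCategory J] [IsCofiltered J] (DA : J ⥤ Scheme.{u}) (cS : Cone DA)
  (hcS : IsLimit cS) [∀ (i j : J) (f : i ⟶ j), IsAffineHom (DA.map f)]
  [∀ j, CompactSpace (DA.obj j)] [∀ j, QuasiSeparatedSpace (DA.obj j)]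

include hcS in
/-- A proper morphism of finite presentation over the limit descends to a proper morphism of
finite presentation over a stage. -/
lemma exists_proper_model {X' : Scheme.{u}} (p' : X' ⟶ cS.pt) [IsProper p']
    [LocallyOfFinitePresentation p'] :
    ∃ (j₁ : J) (X'₁ : Scheme.{u}) (p₁ : X'₁ ⟶ DA.obj j₁) (g₁ : X' ⟶ X'₁),
      IsProper p₁ ∧ IsPullback g₁ p' p₁ (cS.π.app j₁) := by
  obtain ⟨j₀, X'₀, p₀, g₀, hfp, hqc, hqs, hpb⟩ := Groth.Agent.S0591.result DA cS hcS X' p'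
  have : CompactSpace X'₀ := QuasiCompact.compactSpace_of_compactSpace p₀
  have : QuasiSeparatedSpace X'₀ := quasiSeparatedSpace_of_quasiSeparated p₀
  have hlft : LocallyOfFiniteType p₀ := inferInstance
  have hY : IsPullback (cS.π.app j₀) (𝟙 cS.pt) (𝟙 (DA.obj j₀)) (cS.π.app j₀) :=
    IsPullback.id_vert (cS.π.app j₀)
  obtain ⟨j₁, φ, Xi, Yi, fi, gi, pY, pX, hYi, hXi, hfi⟩ :=
    Groth.Agent.S2074.result DA cS hcS j₀ p₀ (𝟙 (DA.obj j₀)) p' (𝟙 cS.pt) (cS.π.app j₀) g₀ hY hpb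
  -- canonical model at stage j₁
  have hpY : pY = gi ≫ DA.map φ := by simpa using hYi.w
  have hcan := IsPullback.of_hasPullback p₀ (DA.map φ)
  have hgi : IsIso gi := by
    exact MorphismProperty.of_isPullback (P := MorphismProperty.isomorphisms Scheme.{u}) hYi
      (MorphismProperty.isomorphisms.infer_property (𝟙 (DA.obj j₀)))
  have hprop : IsProper (pullback.snd p₀ (DA.map φ)) :=
    isProper_of_isPullback_of_factor' hXi hfi (inv gi) (by rw [hpY, IsIso.inv_hom_id_assoc]) hcan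
  -- the limit is also the base change of the canonical model
  have hw : g₀ ≫ p₀ = (p' ≫ cS.π.app j₁) ≫ DA.map φ := by
    rw [Category.assoc, cS.w, hpb.w]
  refine ⟨j₁, pullback p₀ (DA.map φ), pullback.snd p₀ (DA.map φ),
    pullback.lift g₀ (p' ≫ cS.π.app j₁) hw, hprop, ?_⟩
  have big : IsPullback (pullback.lift g₀ (p' ≫ cS.π.app j₁) hw ≫ pullback.fst p₀ (DA.map φ)) p'
      p₀ (cS.π.app j₁ ≫ DA.map φ) := by
    rw [pullback.lift_fst, cS.w]; exact hpb
  exact IsPullback.of_right big (pullback.lift_snd _ _ _) hcan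

end Stage

section System

attribute [local instance] CategoryTheory.isConnected_of_hasTerminal

variable {J : Type u} [SmallCategory J] (DA : J ⥤ Scheme.{u}) (cS : Cone DA)
  (j₁ : J) {X'₁ X' : Scheme.{u}} (p₁ : X'₁ ⟶ DA.obj j₁) (p' : X' ⟶ cS.pt) (g₁ : X' ⟶ X'₁)

/-- transition maps of the base change system. -/
noncomputable def tr {b b' : Over j₁} (u : b ⟶ b') :
    pullback p₁ (DA.map b.hom) ⟶ pullback p₁ (DA.map b'.hom) :=
  pullback.lift (pullback.fst p₁ (DA.map b.hom)) (pullback.snd p₁ (DA.map b.hom) ≫ DA.map u.left)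
    (by rw [Category.assoc, ← DA.map_comp, Over.w, pullback.condition])

@[reassoc]
lemma tr_fst {b b' : Over j₁} (u : b ⟶ b') :
    tr DA j₁ p₁ u ≫ pullback.fst p₁ (DA.map b'.hom) = pullback.fst p₁ (DA.map b.hom) :=
  pullback.lift_fst _ _ _

@[reassoc]
lemma tr_snd {b b' : Over j₁} (u : b ⟶ b') :
    tr DA j₁ p₁ u ≫ pullback.snd p₁ (DA.map b'.hom) =
      pullback.snd p₁ (DA.map b.hom) ≫ DA.map u.left :=
  pullback.lift_snd _ _ _

/-- the base change system of `p₁` over the stages above `j₁`. -/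
noncomputable def DX' : Over j₁ ⥤ Scheme.{u} where
  obj b := pullback p₁ (DA.map b.hom)
  map u := tr DA j₁ p₁ u
  map_id b := by
    apply pullback.hom_ext
    · rw [tr_fst, Category.id_comp]
    · rw [tr_snd, Category.id_comp]
      change _ ≫ DA.map (𝟙 b.left) = _
      rw [DA.map_id, Category.comp_id]
  map_comp u v := by
    apply pullback.hom_ext
    · rw [tr_fst, Category.assoc, tr_fst, tr_fst]
    · rw [tr_snd, Category.assoc, tr_snd, tr_snd_assoc]
      change _ ≫ DA.map (u.left ≫ v.left) = _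
      rw [DA.map_comp]

/-- the projections to the base system. -/
noncomputable def α : DX' DA j₁ p₁ ⟶ Over.forget j₁ ⋙ DA where
  app b := pullback.snd p₁ (DA.map b.hom)
  naturality b b' u := tr_snd DA j₁ p₁ u

lemma isPullback_map {b b' : Over j₁} (u : b ⟶ b') :
    IsPullback ((DX' DA j₁ p₁).map u) (pullback.snd p₁ (DA.map b.hom))
      (pullback.snd p₁ (DA.map b'.hom)) (DA.map u.left) := by
  have hfst : (DX' DA j₁ p₁).map u ≫ pullback.fst p₁ (DA.map b'.hom) =
      pullback.fst p₁ (DA.map b.hom) := tr_fst DA j₁ p₁ u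
  have hsnd : (DX' DA j₁ p₁).map u ≫ pullback.snd p₁ (DA.map b'.hom) =
      pullback.snd p₁ (DA.map b.hom) ≫ DA.map u.left := tr_snd DA j₁ p₁ u
  have big : IsPullback ((DX' DA j₁ p₁).map u ≫ pullback.fst p₁ (DA.map b'.hom))
      (pullback.snd p₁ (DA.map b.hom)) p₁ (DA.map u.left ≫ DA.map b'.hom) := by
    rw [hfst, ← DA.map_comp, Over.w]
    exact IsPullback.of_hasPullback _ _
  exact IsPullback.of_right big hsnd (IsPullback.of_hasPullback _ _)

instance isAffineHom_DX'_map [∀ (i j : J) (f : i ⟶ j), IsAffineHom (DA.map f)] {b b' : Over j₁}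
    (u : b ⟶ b') : IsAffineHom ((DX' DA j₁ p₁).map u) :=
  MorphismProperty.of_isPullback (P := @IsAffineHom) (isPullback_map DA j₁ p₁ u).flip
    inferInstance

instance isProper_α [IsProper p₁] (b : Over j₁) : IsProper ((α DA j₁ p₁).app b) :=
  inferInstanceAs (IsProper (pullback.snd p₁ (DA.map b.hom)))

variable (h₁ : IsPullback g₁ p' p₁ (cS.π.app j₁))

include h₁ in
lemma cone_comm (b : Over j₁) : g₁ ≫ p₁ = (p' ≫ cS.π.app b.left) ≫ DA.map b.hom := by
  rw [Category.assoc, cS.w, h₁.w]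

/-- the cone with point `X'`. -/
noncomputable abbrev cX' : Cone (DX' DA j₁ p₁) where
  pt := X'
  π :=
    { app b := pullback.lift g₁ (p' ≫ cS.π.app b.left) (cone_comm DA cS j₁ p₁ p' g₁ h₁ b)
      naturality b b' u := by
        change 𝟙 X' ≫ _ = _ ≫ tr DA j₁ p₁ u
        apply pullback.hom_ext
        · rw [Category.id_comp, Category.assoc, tr_fst, pullback.lift_fst, pullback.lift_fst]
        · rw [Category.id_comp, Category.assoc, tr_snd, pullback.lift_snd, pullback.lift_snd_assoc,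
            Category.assoc, cS.w] }

lemma cX'_π_snd (b : Over j₁) :
    (cX' DA cS j₁ p₁ p' g₁ h₁).π.app b ≫ pullback.snd p₁ (DA.map b.hom) = p' ≫ cS.π.app b.left :=
  pullback.lift_snd _ _ _

lemma isPullback_cX' (b : Over j₁) :
    IsPullback ((cX' DA cS j₁ p₁ p' g₁ h₁).π.app b) p' (pullback.snd p₁ (DA.map b.hom))
      (cS.π.app b.left) := by
  have big : IsPullback ((cX' DA cS j₁ p₁ p' g₁ h₁).π.app b ≫ pullback.fst p₁ (DA.map b.hom)) p'
      p₁ (cS.π.app b.left ≫ DA.map b.hom) := by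
    rw [cS.w]
    have : (cX' DA cS j₁ p₁ p' g₁ h₁).π.app b ≫ pullback.fst p₁ (DA.map b.hom) = g₁ :=
      pullback.lift_fst _ _ _
    rw [this]
    exact h₁
  exact IsPullback.of_right big (cX'_π_snd DA cS j₁ p₁ p' g₁ h₁ b) (IsPullback.of_hasPullback _ _)

/-- `X'` is the limit of the base change system. -/
noncomputable def isLimitCX' [IsCofiltered J] (hcS : IsLimit cS) :
    IsLimit (cX' DA cS j₁ p₁ p' g₁ h₁) :=
  isLimitOfIsPullbackOfIsConnected (α DA j₁ p₁) (cX' DA cS j₁ p₁ p' g₁ h₁)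
    (cS.whisker (Over.forget j₁))
    { hom := p'
      w := fun b => by
        change p' ≫ cS.π.app b.left =
          ((cX' DA cS j₁ p₁ p' g₁ h₁).π.app b ≫ pullback.snd p₁ (DA.map b.hom))
        rw [cX'_π_snd] }
    (fun b => isPullback_cX' DA cS j₁ p₁ p' g₁ h₁ b)
    ((Functor.Initial.isLimitWhiskerEquiv (Over.forget j₁) cS).symm hcS)

end System

section Final

variable {J : Type u} [SmallCategory J] [IsCofiltered J] (DA : J ⥤ Scheme.{u}) (cS : Cone DA)
  (hcS : IsLimit cS) [∀ (i j : J) (f : i ⟶ j), IsAffineHom (DA.map f)]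
  (j₁ : J) {X'₁ X' X : Scheme.{u}} (p₁ : X'₁ ⟶ DA.obj j₁) [IsProper p₁] (p' : X' ⟶ cS.pt)
  (g₁ : X' ⟶ X'₁) (h₁ : IsPullback g₁ p' p₁ (cS.π.app j₁)) (ι : X ⟶ X') [IsClosedImmersion ι]

include hcS h₁ in
/-- the system of scheme-theoretic images of a closed subscheme `X ⊆ X'` in the base changes of a
proper model `p₁` of `p'`. -/
theorem exists_system :
    ∃ (DX : Over j₁ ⥤ Scheme.{u}) (φ : DX ⟶ Over.forget j₁ ⋙ DA) (cX : Cone DX) (_ : IsLimit cX)
      (eX : cX.pt ≅ X),
      (∀ (b b' : Over j₁) (u : b ⟶ b'), IsAffineHom (DX.map u)) ∧ (∀ b, IsProper (φ.app b)) ∧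
      (∀ b, cX.π.app b ≫ φ.app b = eX.hom ≫ ι ≫ p' ≫ cS.π.app b.left) := by
  have haff' : ∀ {b b' : Over j₁} (u : b ⟶ b'), IsAffineHom ((DX' DA j₁ p₁).map u) := fun u =>
    isAffineHom_DX'_map DA j₁ p₁ u
  refine ⟨LimImage.DZ (DX' DA j₁ p₁) (cX' DA cS j₁ p₁ p' g₁ h₁) ι,
    LimImage.ζ (DX' DA j₁ p₁) (cX' DA cS j₁ p₁ p' g₁ h₁) ι ≫ α DA j₁ p₁,
    LimImage.cZ (DX' DA j₁ p₁) (cX' DA cS j₁ p₁ p' g₁ h₁) ι,
    LimImage.isLimitCZ (DX' DA j₁ p₁) (cX' DA cS j₁ p₁ p' g₁ h₁)
      (isLimitCX' DA cS j₁ p₁ p' g₁ h₁ hcS) ι, Iso.refl X, ?_, ?_, ?_⟩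
  · intro b b' u
    exact LimImage.isAffineHom_DZ_map (DX' DA j₁ p₁) (cX' DA cS j₁ p₁ p' g₁ h₁) ι u
  · intro b
    rw [NatTrans.comp_app]
    have h1 : IsProper ((LimImage.ζ (DX' DA j₁ p₁) (cX' DA cS j₁ p₁ p' g₁ h₁) ι).app b) := by
      have : IsClosedImmersion
          ((LimImage.ζ (DX' DA j₁ p₁) (cX' DA cS j₁ p₁ p' g₁ h₁) ι).app b) :=
        inferInstance
      infer_instance
    have h2 : IsProper ((α DA j₁ p₁).app b) := isProper_α DA j₁ p₁ b
    infer_instance
  · intro b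
    rw [NatTrans.comp_app, ← Category.assoc, LimImage.cZ_π_ζ, Category.assoc]
    change ι ≫ (cX' DA cS j₁ p₁ p' g₁ h₁).π.app b ≫ pullback.snd p₁ (DA.map b.hom) = _
    rw [cX'_π_snd]
    exact (Category.id_comp _).symm

end Final

end Groth.Agent.R2.H87.LimProperC
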