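import Mathlib
import Groth.Agent.R2.H87LimProperC

/-!
# Descending a pair of compact opens separating a closed fibre to a stage (helper87)
-/

set_option autoImplicit false
universe u
open CategoryTheory AlgebraicGeometry Limits

namespace Groth.Agent.R2.H87.LimOpens

open Groth.Agent.R2.H87.LimProperC

variable {J : Type u} [SmallCategory J] [IsCofiltered J] (DA : J ⥤ Scheme.{u}) (cS : Cone DA)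
  (hcS : IsLimit cS) [∀ (i j : J) (f : i ⟶ j), IsAffineHom (DA.map f)]
  (j₂ : J) {X₂ X : Scheme.{u}} (p₂ : X₂ ⟶ DA.obj j₂) (f' : X ⟶ cS.pt) (g₂ : X ⟶ X₂)
  (h₂ : IsPullback g₂ f' p₂ (cS.π.app j₂))

/-- the structure map of the stage `b` to the base stage `j₂`. -/
noncomputable abbrev σ (b : Over j₂) : (DX' DA j₂ p₂).obj b ⟶ DA.obj j₂ :=
  pullback.fst p₂ (DA.map b.hom) ≫ p₂

lemma map_σ {b b' : Over j₂} (u : b' ⟶ b) :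
    (DX' DA j₂ p₂).map u ≫ σ DA j₂ p₂ b = σ DA j₂ p₂ b' := by
  change tr DA j₂ p₂ u ≫ pullback.fst p₂ (DA.map b.hom) ≫ p₂ = _
  rw [tr_fst_assoc]
  rfl

include h₂ in
lemma π_σ (b : Over j₂) :
    (cX' DA cS j₂ p₂ f' g₂ h₂).π.app b ≫ σ DA j₂ p₂ b = g₂ ≫ p₂ := by
  change pullback.lift g₂ (f' ≫ cS.π.app b.left) _ ≫ pullback.fst p₂ (DA.map b.hom) ≫ p₂ = _
  rw [pullback.lift_fst_assoc]

include hcS in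
/-- **Descent of a separating pair of compact opens.** -/
theorem exists_stage_opens [QuasiCompact p₂] [QuasiSeparated p₂] [∀ j, CompactSpace (DA.obj j)]
    [∀ j, QuasiSeparatedSpace (DA.obj j)] (C : (DA.obj j₂).Opens)
    (hC : IsCompact (C : Set (DA.obj j₂))) (O₁ O₂ : X.Opens) (hO₁ : IsCompact (O₁ : Set X))
    (hO₂ : IsCompact (O₂ : Set X)) (hcov : ⊤ ≤ (g₂ ≫ p₂) ⁻¹ᵁ C ⊔ O₁ ⊔ O₂)
    (hdisj : O₁ ⊓ O₂ ≤ (g₂ ≫ p₂) ⁻¹ᵁ C) :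
    ∃ (b : Over j₂) (V₁ V₂ : ((DX' DA j₂ p₂).obj b).Opens),
      (cX' DA cS j₂ p₂ f' g₂ h₂).π.app b ⁻¹ᵁ V₁ = O₁ ∧
      (cX' DA cS j₂ p₂ f' g₂ h₂).π.app b ⁻¹ᵁ V₂ = O₂ ∧
      ⊤ ≤ σ DA j₂ p₂ b ⁻¹ᵁ C ⊔ V₁ ⊔ V₂ ∧ V₁ ⊓ V₂ ≤ σ DA j₂ p₂ b ⁻¹ᵁ C := by
  have haff : ∀ {b b' : Over j₂} (u : b ⟶ b'), IsAffineHom ((DX' DA j₂ p₂).map u) := fun u =>
    isAffineHom_DX'_map DA j₂ p₂ u
  have hlim := isLimitCX' DA cS j₂ p₂ f' g₂ h₂ hcS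
  -- stages are compact and quasi-separated
  have hcpt' : ∀ b : Over j₂, CompactSpace ↥(pullback p₂ (DA.map b.hom)) := fun b =>
    QuasiCompact.compactSpace_of_compactSpace (pullback.snd p₂ (DA.map b.hom))
  have hcpt : ∀ b : Over j₂, CompactSpace ((DX' DA j₂ p₂).obj b) := hcpt'
  have hqs' : ∀ b : Over j₂, QuasiSeparatedSpace ↥(pullback p₂ (DA.map b.hom)) := fun b =>
    quasiSeparatedSpace_of_quasiSeparated (pullback.snd p₂ (DA.map b.hom))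
  have hqs : ∀ b : Over j₂, QuasiSeparatedSpace ((DX' DA j₂ p₂).obj b) := hqs'
  have hσqc : ∀ b : Over j₂, QuasiCompact (σ DA j₂ p₂ b) := fun b =>
    (inferInstance : QuasiCompact (pullback.fst p₂ (DA.map b.hom) ≫ p₂))
  -- descend the two opens
  obtain ⟨b₁, V₁, hV₁c, hV₁⟩ := exists_preimage_eq (DX' DA j₂ p₂)
    (cX' DA cS j₂ p₂ f' g₂ h₂) hlim O₁ hO₁
  obtain ⟨b₂, V₂, hV₂c, hV₂⟩ := exists_preimage_eq (DX' DA j₂ p₂)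
    (cX' DA cS j₂ p₂ f' g₂ h₂) hlim O₂ hO₂
  -- common stage `b₃`
  let b₃ := IsCofiltered.min b₁ b₂
  let u₁ : b₃ ⟶ b₁ := IsCofiltered.minToLeft b₁ b₂
  let u₂ : b₃ ⟶ b₂ := IsCofiltered.minToRight b₁ b₂
  set c := cX' DA cS j₂ p₂ f' g₂ h₂ with hc
  have hV₁' : c.π.app b₃ ⁻¹ᵁ ((DX' DA j₂ p₂).map u₁ ⁻¹ᵁ V₁) = O₁ := by
    rw [← Scheme.Hom.comp_preimage, c.w, hV₁]
  have hV₂' : c.π.app b₃ ⁻¹ᵁ ((DX' DA j₂ p₂).map u₂ ⁻¹ᵁ V₂) = O₂ := by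
    rw [← Scheme.Hom.comp_preimage, c.w, hV₂]
  have hV₁c' : IsCompact (((DX' DA j₂ p₂).map u₁ ⁻¹ᵁ V₁ : ((DX' DA j₂ p₂).obj b₃).Opens) :
      Set ((DX' DA j₂ p₂).obj b₃)) :=
    QuasiCompact.isCompact_preimage (f := (DX' DA j₂ p₂).map u₁) _ V₁.2 hV₁c
  have hV₂c' : IsCompact (((DX' DA j₂ p₂).map u₂ ⁻¹ᵁ V₂ : ((DX' DA j₂ p₂).obj b₃).Opens) :
      Set ((DX' DA j₂ p₂).obj b₃)) :=
    QuasiCompact.isCompact_preimage (f := (DX' DA j₂ p₂).map u₂) _ V₂.2 hV₂c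
  set V₁₃ := (DX' DA j₂ p₂).map u₁ ⁻¹ᵁ V₁ with hV₁₃
  set V₂₃ := (DX' DA j₂ p₂).map u₂ ⁻¹ᵁ V₂ with hV₂₃
  have hσc : ∀ b : Over j₂, IsCompact ((σ DA j₂ p₂ b ⁻¹ᵁ C : ((DX' DA j₂ p₂).obj b).Opens) :
      Set ((DX' DA j₂ p₂).obj b)) := fun b =>
    QuasiCompact.isCompact_preimage (f := σ DA j₂ p₂ b) _ C.2 hC
  have hπσ : ∀ b : Over j₂, c.π.app b ⁻¹ᵁ (σ DA j₂ p₂ b ⁻¹ᵁ C) = (g₂ ≫ p₂) ⁻¹ᵁ C := fun b => by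
    rw [← Scheme.Hom.comp_preimage, π_σ]
  -- the covering condition at a later stage
  have hcov3 : c.π.app b₃ ⁻¹ᵁ ⊤ ≤ c.π.app b₃ ⁻¹ᵁ (σ DA j₂ p₂ b₃ ⁻¹ᵁ C ⊔ V₁₃ ⊔ V₂₃) := by
    rw [Scheme.Hom.preimage_sup, Scheme.Hom.preimage_sup, hπσ, hV₁', hV₂']
    exact le_trans le_top hcov
  obtain ⟨b₄, u₄, h₄⟩ := exists_map_preimage_le_map_preimage (DX' DA j₂ p₂) c hlim
    (U := ⊤) (V := σ DA j₂ p₂ b₃ ⁻¹ᵁ C ⊔ V₁₃ ⊔ V₂₃) isCompact_univ hcov3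
  -- the disjointness condition at a later stage
  have hdisj3 : c.π.app b₃ ⁻¹ᵁ (V₁₃ ⊓ V₂₃) ≤ c.π.app b₃ ⁻¹ᵁ (σ DA j₂ p₂ b₃ ⁻¹ᵁ C) := by
    rw [Scheme.Hom.preimage_inf, hπσ, hV₁', hV₂']
    exact hdisj
  have hinter : IsCompact ((V₁₃ ⊓ V₂₃ : ((DX' DA j₂ p₂).obj b₃).Opens) :
      Set ((DX' DA j₂ p₂).obj b₃)) :=
    QuasiSeparatedSpace.inter_isCompact _ _ V₁₃.2 hV₁c' V₂₃.2 hV₂c'
  obtain ⟨b₅, u₅, h₅⟩ := exists_map_preimage_le_map_preimage (DX' DA j₂ p₂) c hlim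
    (U := V₁₃ ⊓ V₂₃) (V := σ DA j₂ p₂ b₃ ⁻¹ᵁ C) hinter hdisj3
  -- common stage `b₆`
  obtain ⟨b₆, v₄, v₅, hv⟩ := IsCofiltered.cospan u₄ u₅
  have hM : (DX' DA j₂ p₂).map (v₄ ≫ u₄) ⁻¹ᵁ (σ DA j₂ p₂ b₃ ⁻¹ᵁ C) = σ DA j₂ p₂ b₆ ⁻¹ᵁ C := by
    rw [← Scheme.Hom.comp_preimage, map_σ]
  have key4 : ∀ W : ((DX' DA j₂ p₂).obj b₃).Opens,
      (DX' DA j₂ p₂).map v₄ ⁻¹ᵁ ((DX' DA j₂ p₂).map u₄ ⁻¹ᵁ W) =
        (DX' DA j₂ p₂).map (v₄ ≫ u₄) ⁻¹ᵁ W := fun W => by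
    rw [Functor.map_comp, Scheme.Hom.comp_preimage]
  have key5 : ∀ W : ((DX' DA j₂ p₂).obj b₃).Opens,
      (DX' DA j₂ p₂).map v₅ ⁻¹ᵁ ((DX' DA j₂ p₂).map u₅ ⁻¹ᵁ W) =
        (DX' DA j₂ p₂).map (v₄ ≫ u₄) ⁻¹ᵁ W := fun W => by
    rw [hv, Functor.map_comp, Scheme.Hom.comp_preimage]
  refine ⟨b₆, (DX' DA j₂ p₂).map (v₄ ≫ u₄) ⁻¹ᵁ V₁₃, (DX' DA j₂ p₂).map (v₄ ≫ u₄) ⁻¹ᵁ V₂₃,
    ?_, ?_, ?_, ?_⟩
  · rw [← Scheme.Hom.comp_preimage, c.w, hV₁']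
  · rw [← Scheme.Hom.comp_preimage, c.w, hV₂']
  · have h := Scheme.Hom.preimage_mono ((DX' DA j₂ p₂).map v₄) h₄
    rw [key4, key4, Scheme.Hom.preimage_sup, Scheme.Hom.preimage_sup, hM] at h
    refine le_trans ?_ h
    rw [Scheme.Hom.preimage_top]
  · have h := Scheme.Hom.preimage_mono ((DX' DA j₂ p₂).map v₅) h₅
    rw [key5, key5, Scheme.Hom.preimage_inf, hM] at h
    exact h

end Groth.Agent.R2.H87.LimOpens
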