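import Mathlib
import Groth.Agent.S0528
import Groth.Agent.Lib.Helper26FGZ
import Groth.Agent.Lib.Helper26HzNoeth
import Groth.Agent.R2.H87HensProperHC
import Groth.Agent.R2.H87HensConnFG
import Groth.Agent.R2.H87LimOpens

/-!
# Clopen subsets of the closed fibre lift for proper f.p. schemes over any henselian pair
(helper87)

Noetherian approximation + henselization of a finite type `ℤ`-algebra + the Noetherian case
(`H87HensProperHC`).
-/

set_option autoImplicit false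

namespace Groth.Agent.R2.H87.HensConn

open AlgebraicGeometry CategoryTheory Limits Topology Opposite
open Groth.Agent.R2.H87.Clopen Groth.Agent.R2.H87.HensSpec Groth.Agent.R2.H87.HensProperHC
open Groth.Agent.Lib.Helper26.PairHz

universe u

/-- preimage of a zero locus under `Spec.map`. -/
theorem preimage_specMap_zeroLocus {R A : Type u} [CommRing R] [CommRing A] (φ : R →+* A)
    (T : Set R) :
    (Spec.map (CommRingCat.ofHom φ) : Spec (CommRingCat.of A) → Spec (CommRingCat.of R)) ⁻¹'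
      PrimeSpectrum.zeroLocus T = PrimeSpectrum.zeroLocus (φ '' T) := by
  change PrimeSpectrum.comap φ ⁻¹' _ = _
  rw [PrimeSpectrum.preimage_comap_zeroLocus]

/-- membership of `Spec.map φ x` in a zero locus of an ideal. -/
theorem specMap_mem_zeroLocus_map_iff {R A : Type u} [CommRing R] [CommRing A] (φ : R →+* A)
    (J : Ideal R) (x : Spec (CommRingCat.of A)) :
    Spec.map (CommRingCat.ofHom φ) x ∈ PrimeSpectrum.zeroLocus (J : Set R) ↔
      x ∈ PrimeSpectrum.zeroLocus ((J.map φ : Ideal A) : Set A) := by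
  refine (PrimeSpectrum.mem_zeroLocus _ _).trans
    (Iff.trans ?_ (PrimeSpectrum.mem_zeroLocus _ _).symm)
  exact (Ideal.map_le_iff_le_comap (f := φ) (I := J) (K := x.asIdeal)).symm

/-- membership of `Spec.map φ x` in a zero locus of a set. -/
theorem specMap_mem_zeroLocus_iff {R A : Type u} [CommRing R] [CommRing A] (φ : R →+* A)
    (T : Set R) (x : Spec (CommRingCat.of A)) :
    Spec.map (CommRingCat.ofHom φ) x ∈ PrimeSpectrum.zeroLocus T ↔
      x ∈ PrimeSpectrum.zeroLocus (φ '' T) := by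
  refine (PrimeSpectrum.mem_zeroLocus _ _).trans
    (Iff.trans ?_ (PrimeSpectrum.mem_zeroLocus _ _).symm)
  constructor
  · rintro h _ ⟨r, hr, rfl⟩
    exact h hr
  · intro h r hr
    exact h ⟨r, hr, rfl⟩

/-- **The henselization step.** -/
theorem exists_isClopen_of_stage {R A : Type u} [CommRing R] [IsNoetherianRing R] [CommRing A]
    (I_R : Ideal R) (φ : R →+* A) (I : Ideal A) [hA : HenselianRing A I] (hI : I_R.map φ ≤ I)
    {X X_R : Scheme.{u}} (f : X ⟶ Spec (CommRingCat.of A)) (p_R : X_R ⟶ Spec (CommRingCat.of R))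
    [IsProper p_R] (g : X ⟶ X_R) (hcomm : g ≫ p_R = f ≫ Spec.map (CommRingCat.ofHom φ))
    (W₁ W₂ : Set X_R) (hW₁ : IsClosed W₁) (hW₂ : IsClosed W₂) (hd : Disjoint W₁ W₂)
    (hu : W₁ ∪ W₂ = p_R ⁻¹' PrimeSpectrum.zeroLocus (I_R : Set R)) :
    ∃ U : Set X, IsClopen U ∧ U ∩ f ⁻¹' PrimeSpectrum.zeroLocus (I : Set A) =
      g ⁻¹' W₁ ∩ f ⁻¹' PrimeSpectrum.zeroLocus (I : Set A) := by
  obtain ⟨ψ, hψ⟩ : ∃ ψ : R →+* Hz R I_R, ψ = algebraMap R (Hz R I_R) := ⟨_, rfl⟩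
  haveI : HenselianRing (Hz R I_R) (I_R.map ψ) := hψ ▸ henselianRing_Hz
  haveI : IsNoetherianRing (Hz R I_R) :=
    Groth.Agent.Lib.Helper26.HzNoeth.isNoetherianRing_of_isPairHenselization
      (isPairHenselization_Hz (A := R) (I := I_R))
  obtain ⟨G, hG, -⟩ := universal_Hz (A := R) (I := I_R) A I φ hA hI
  rw [← hψ] at hG
  obtain ⟨h, hh⟩ : ∃ h : pullback p_R (Spec.map (CommRingCat.ofHom ψ)) ⟶
      Spec (CommRingCat.of (Hz R I_R)), h = pullback.snd _ _ := ⟨_, rfl⟩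
  obtain ⟨m, hm⟩ : ∃ m : pullback p_R (Spec.map (CommRingCat.ofHom ψ)) ⟶ X_R,
      m = pullback.fst _ _ := ⟨_, rfl⟩
  haveI : IsProper h := by rw [hh]; infer_instance
  have hmh : m ≫ p_R = h ≫ Spec.map (CommRingCat.ofHom ψ) := by
    rw [hm, hh]; exact pullback.condition
  have hCL := clopenLift_fst_of_isProper (Hz R I_R) (I_R.map ψ) h
  rw [clopenLift_fst_iff] at hCL
  -- the closed fibre upstairs
  have hZh : ∀ z : ↥(pullback p_R (Spec.map (CommRingCat.ofHom ψ))),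
      z ∈ h ⁻¹' PrimeSpectrum.zeroLocus ((I_R.map ψ : Ideal (Hz R I_R)) : Set (Hz R I_R)) ↔
      m z ∈ p_R ⁻¹' PrimeSpectrum.zeroLocus (I_R : Set R) := by
    intro z
    have hz : p_R (m z) = Spec.map (CommRingCat.ofHom ψ) (h z) := by
      change (m ≫ p_R) z = (h ≫ Spec.map (CommRingCat.ofHom ψ)) z
      rw [hmh]
    have hA := specMap_mem_zeroLocus_map_iff ψ I_R (h z)
    rw [← hz] at hA
    exact hA.symm
  -- the clopen subset of the closed fibre upstairs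
  have hmem : ∀ z : ↥(h ⁻¹' PrimeSpectrum.zeroLocus
      ((I_R.map ψ : Ideal (Hz R I_R)) : Set (Hz R I_R))), m z.1 ∈ W₁ ∪ W₂ := by
    intro z
    rw [hu]
    exact (hZh z.1).mp z.2
  have hcl1 : IsClosed ((Subtype.val : ↥(h ⁻¹' PrimeSpectrum.zeroLocus
      ((I_R.map ψ : Ideal (Hz R I_R)) : Set (Hz R I_R))) → _) ⁻¹' (m ⁻¹' W₁)) :=
    (hW₁.preimage m.continuous).preimage continuous_subtype_val
  have hcl2 : IsClosed ((Subtype.val : ↥(h ⁻¹' PrimeSpectrum.zeroLocus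
      ((I_R.map ψ : Ideal (Hz R I_R)) : Set (Hz R I_R))) → _) ⁻¹' (m ⁻¹' W₂)) :=
    (hW₂.preimage m.continuous).preimage continuous_subtype_val
  have hcompl : ((Subtype.val : ↥(h ⁻¹' PrimeSpectrum.zeroLocus
      ((I_R.map ψ : Ideal (Hz R I_R)) : Set (Hz R I_R))) → _) ⁻¹' (m ⁻¹' W₁))ᶜ =
      (Subtype.val ⁻¹' (m ⁻¹' W₂)) := by
    ext z
    constructor
    · intro hz
      rcases hmem z with h1 | h2
      · exact absurd h1 hz
      · exact h2
    · intro hz hz1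
      exact (Set.disjoint_left.mp hd) hz1 hz
  have hclopen : IsClopen ((Subtype.val : ↥(h ⁻¹' PrimeSpectrum.zeroLocus
      ((I_R.map ψ : Ideal (Hz R I_R)) : Set (Hz R I_R))) → _) ⁻¹' (m ⁻¹' W₁)) := by
    refine ⟨hcl1, ?_⟩
    rw [← isClosed_compl_iff, hcompl]
    exact hcl2
  obtain ⟨Uh, ⟨hUh, hUhV⟩, -⟩ := hCL _ hclopen
  -- the map `X ⟶ X^h`
  have hw : g ≫ p_R = (f ≫ Spec.map (CommRingCat.ofHom G)) ≫ Spec.map (CommRingCat.ofHom ψ) := by
    rw [hcomm, Category.assoc, ← Spec.map_comp, ← CommRingCat.ofHom_comp, hG]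
  obtain ⟨n, hn⟩ : ∃ n : X ⟶ pullback p_R (Spec.map (CommRingCat.ofHom ψ)),
      n = pullback.lift g (f ≫ Spec.map (CommRingCat.ofHom G)) hw := ⟨_, rfl⟩
  have hnm : n ≫ m = g := by rw [hn, hm]; exact pullback.lift_fst _ _ _
  have hnh : n ≫ h = f ≫ Spec.map (CommRingCat.ofHom G) := by
    rw [hn, hh]; exact pullback.lift_snd _ _ _
  have hnZ : ∀ x : X, x ∈ f ⁻¹' PrimeSpectrum.zeroLocus (I : Set A) →
      n x ∈ h ⁻¹' PrimeSpectrum.zeroLocus
        ((I_R.map ψ : Ideal (Hz R I_R)) : Set (Hz R I_R)) := by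
    intro x hx
    have h1 : h (n x) = Spec.map (CommRingCat.ofHom G) (f x) := by
      change (n ≫ h) x = (f ≫ Spec.map (CommRingCat.ofHom G)) x
      rw [hnh]
    change h (n x) ∈ PrimeSpectrum.zeroLocus _
    rw [h1]
    have hx' : (I : Set A) ⊆ (f x).asIdeal := (PrimeSpectrum.mem_zeroLocus (f x) _).mp hx
    refine (PrimeSpectrum.mem_zeroLocus _ _).mpr ?_
    intro r hr
    change G r ∈ (f x).asIdeal
    apply hx'
    apply hI
    have : (I_R.map ψ).map G = I_R.map φ := by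
      rw [Ideal.map_map, hG]
    rw [← this]
    exact Ideal.mem_map_of_mem G hr
  refine ⟨n ⁻¹' Uh, hUh.preimage n.continuous, ?_⟩
  ext x
  constructor
  · rintro ⟨hxU, hxZ⟩
    refine ⟨?_, hxZ⟩
    have h1 : (⟨n x, hnZ x hxZ⟩ : ↥(h ⁻¹' PrimeSpectrum.zeroLocus
        ((I_R.map ψ : Ideal (Hz R I_R)) : Set (Hz R I_R)))) ∈ Subtype.val ⁻¹' Uh := hxU
    rw [hUhV] at h1
    have h2 : m (n x) ∈ W₁ := h1
    have h3 : m (n x) = g x := by
      change (n ≫ m) x = g x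
      rw [hnm]
    rw [h3] at h2
    exact h2
  · rintro ⟨hxW, hxZ⟩
    refine ⟨?_, hxZ⟩
    have h3 : m (n x) = g x := by
      change (n ≫ m) x = g x
      rw [hnm]
    have h2 : m (n x) ∈ W₁ := by rw [h3]; exact hxW
    have h1 : (⟨n x, hnZ x hxZ⟩ : ↥(h ⁻¹' PrimeSpectrum.zeroLocus
        ((I_R.map ψ : Ideal (Hz R I_R)) : Set (Hz R I_R)))) ∈
        Subtype.val ⁻¹' (m ⁻¹' W₁) := h2
    rw [← hUhV] at h1
    exact h1

section Limit

open Groth.Agent.Lib.Helper26.FGZ Groth.Agent.R2.H87.LimProperC Groth.Agent.R2.H87.LimOpens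

/-- finitely generated `ℤ`-subalgebras are Noetherian. -/
theorem isNoetherianRing_of_fg {A : Type u} [CommRing A] (S : Subalgebra ℤ A) (hS : S.FG) :
    IsNoetherianRing S := by
  haveI : Algebra.FiniteType ℤ S := (Subalgebra.fg_iff_finiteType S).mp hS
  exact Algebra.FiniteType.isNoetherianRing ℤ S

/-- **Clopen decompositions of the closed fibre lift** (proper, finitely presented, over any
henselian pair). -/
theorem exists_isClopen_inter_eq (A : Type u) [CommRing A] (I : Ideal A) [hA : HenselianRing A I]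
    {X : Scheme.{u}} (f : X ⟶ Spec (CommRingCat.of A)) [IsProper f]
    [LocallyOfFinitePresentation f]
    (V₁ V₂ : Set X) (h₁ : IsClosed V₁) (h₂ : IsClosed V₂) (hd : Disjoint V₁ V₂)
    (hu : V₁ ∪ V₂ = f ⁻¹' PrimeSpectrum.zeroLocus (I : Set A)) :
    ∃ U : Set X, IsClopen U ∧ U ∩ f ⁻¹' PrimeSpectrum.zeroLocus (I : Set A) = V₁ := by
  classical
  haveI : CompactSpace X := QuasiCompact.compactSpace_of_compactSpace f
  haveI : QuasiSeparatedSpace X := quasiSeparatedSpace_of_quasiSeparated f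
  obtain ⟨s, O₁, O₂, hsI, hO₁o, hO₂o, hO₁c, hO₂c, hcov, hdisj, hV₁O, hV₂O⟩ :=
    Groth.Agent.R2.H87.HensConnFG.exists_finset_compactOpens f I V₁ V₂ h₁ h₂ hd hu
  -- Noetherian approximation of `f`
  obtain ⟨f', hf'⟩ : ∃ f' : X ⟶ (specCone A).pt, f' = f := ⟨f, rfl⟩
  have hpf : IsProper f := inferInstance
  have hlfp : LocallyOfFinitePresentation f := inferInstance
  haveI : IsProper f' := by rw [hf']; exact hpf
  haveI : LocallyOfFinitePresentation f' := by rw [hf']; exact hlfp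
  obtain ⟨j₁, X₁, p₁, g₁, hp₁, h₁'⟩ :=
    exists_proper_model (specDiagram A) (specCone A) (specIsLimit A) f'
  obtain ⟨S₁, rfl⟩ : ∃ S₁ : FGSub A, j₁ = op S₁ := ⟨j₁.unop, rfl⟩
  -- enlarge the stage so that it contains `s`
  obtain ⟨R₂, hR₂⟩ : ∃ R₂ : FGSub A, R₂ =
      ⟨S₁.1 ⊔ Algebra.adjoin ℤ (s : Set A), S₁.2.sup (Subalgebra.fg_adjoin_finset s)⟩ := ⟨_, rfl⟩
  have hle : S₁ ≤ R₂ := by
    rw [hR₂]; exact (le_sup_left : S₁.1 ≤ S₁.1 ⊔ Algebra.adjoin ℤ (s : Set A))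
  have hsR₂ : ∀ a ∈ s, a ∈ R₂.1 := by
    intro a ha
    rw [hR₂]
    exact (le_sup_right : Algebra.adjoin ℤ (s : Set A) ≤ S₁.1 ⊔ Algebra.adjoin ℤ (s : Set A))
      (Algebra.subset_adjoin ha)
  obtain ⟨b₂, hb₂⟩ : ∃ b₂ : Over (op S₁), b₂ = Over.mk (homOfLE hle).op := ⟨_, rfl⟩
  obtain ⟨p₂, hp₂⟩ : ∃ p₂ : pullback p₁ ((specDiagram A).map (homOfLE hle).op) ⟶
      (specDiagram A).obj (op R₂), p₂ = pullback.snd _ _ := ⟨_, rfl⟩
  haveI : IsProper p₂ := by rw [hp₂]; infer_instance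
  obtain ⟨g₂, hg₂⟩ : ∃ g₂ : X ⟶ pullback p₁ ((specDiagram A).map (homOfLE hle).op),
      g₂ = (cX' (specDiagram A) (specCone A) (op S₁) p₁ f' g₁ h₁').π.app
        (Over.mk (homOfLE hle).op) := ⟨_, rfl⟩
  have h₂' : IsPullback g₂ f' p₂ ((specCone A).π.app (op R₂)) := by
    rw [hg₂, hp₂]
    exact isPullback_cX' (specDiagram A) (specCone A) (op S₁) p₁ f' g₁ h₁'
      (Over.mk (homOfLE hle).op)
  haveI : IsNoetherianRing R₂.1 := isNoetherianRing_of_fg R₂.1 R₂.2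
  -- the open complement of `V(s)` at the stage `R₂`
  obtain ⟨T₂, hT₂⟩ : ∃ T₂ : Set R₂.1, T₂ = {r : R₂.1 | (r : A) ∈ s} := ⟨_, rfl⟩
  have himT₂ : (algebraMap R₂.1 A) '' T₂ = (s : Set A) := by
    ext a
    constructor
    · rintro ⟨r, hr, rfl⟩
      rw [hT₂] at hr
      exact hr
    · intro ha
      refine ⟨⟨a, hsR₂ a ha⟩, ?_, rfl⟩
      rw [hT₂]
      exact ha
  obtain ⟨C, hCdef⟩ : ∃ C : (Spec (CommRingCat.of R₂.1)).Opens,
      (C : Set (Spec (CommRingCat.of R₂.1))) = (PrimeSpectrum.zeroLocus T₂)ᶜ :=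
    ⟨⟨(PrimeSpectrum.zeroLocus T₂)ᶜ, (PrimeSpectrum.isClosed_zeroLocus T₂).isOpen_compl⟩, rfl⟩
  have hC : IsCompact (C : Set (Spec (CommRingCat.of R₂.1))) :=
    TopologicalSpace.NoetherianSpace.isCompact (α := PrimeSpectrum R₂.1) _
  have hpre : ∀ x : X, x ∈ ((g₂ ≫ p₂) ⁻¹ᵁ C : X.Opens) ↔
      x ∉ f ⁻¹' PrimeSpectrum.zeroLocus (s : Set A) := by
    intro x
    have h3 : (g₂ ≫ p₂) x = Spec.map (CommRingCat.ofHom (algebraMap R₂.1 A)) (f x) := by
      rw [h₂'.w, hf']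
      rfl
    have h4 := specMap_mem_zeroLocus_iff (algebraMap R₂.1 A) T₂ (f x)
    rw [himT₂, ← h3] at h4
    have h5 : (g₂ ≫ p₂) x ∈ (C : Set (Spec (CommRingCat.of R₂.1))) ↔
        (g₂ ≫ p₂) x ∈ (PrimeSpectrum.zeroLocus T₂)ᶜ := Set.ext_iff.mp hCdef _
    exact h5.trans (not_congr h4)
  have hcov' : (⊤ : X.Opens) ≤ (g₂ ≫ p₂) ⁻¹ᵁ C ⊔ ⟨O₁, hO₁o⟩ ⊔ ⟨O₂, hO₂o⟩ := by
    intro x _
    by_cases hx : x ∈ f ⁻¹' PrimeSpectrum.zeroLocus (s : Set A)
    · rcases hcov hx with h | h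
      · exact Or.inl (Or.inr h)
      · exact Or.inr h
    · exact Or.inl (Or.inl ((hpre x).mpr hx))
  have hdisj' : (⟨O₁, hO₁o⟩ ⊓ ⟨O₂, hO₂o⟩ : X.Opens) ≤ (g₂ ≫ p₂) ⁻¹ᵁ C := by
    rintro x ⟨hx1, hx2⟩
    refine (hpre x).mpr (fun hx => ?_)
    have : x ∈ f ⁻¹' PrimeSpectrum.zeroLocus (s : Set A) ∩ (O₁ ∩ O₂) := ⟨hx, hx1, hx2⟩
    rw [hdisj] at this
    exact this
  obtain ⟨b, W₁o, W₂o, hW₁, hW₂, hcovb, hdisjb⟩ :=
    exists_stage_opens (specDiagram A) (specCone A) (specIsLimit A) (op R₂) p₂ f' g₂ h₂' C hC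
      ⟨O₁, hO₁o⟩ ⟨O₂, hO₂o⟩ hO₁c hO₂c hcov' hdisj'
  -- the stage `b`
  obtain ⟨R, hRb⟩ : ∃ R : FGSub A, R = b.left.unop := ⟨_, rfl⟩
  have hRle : R₂ ≤ R := hRb ▸ leOfHom b.hom.unop
  haveI : IsNoetherianRing R.1 := isNoetherianRing_of_fg R.1 R.2
  obtain ⟨ι₂, hι₂⟩ : ∃ ι₂ : R₂.1 →+* R.1, ι₂ = (Subalgebra.inclusion hRle).toRingHom := ⟨_, rfl⟩
  subst hRb
  obtain ⟨p_R, hp_R⟩ : ∃ p_R : (DX' (specDiagram A) (op R₂) p₂).obj b ⟶
      Spec (CommRingCat.of (b.left.unop).1),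
      p_R = pullback.snd p₂ ((specDiagram A).map b.hom) := ⟨_, rfl⟩
  haveI : IsProper p_R := by
    rw [hp_R]
    exact (inferInstance : IsProper (pullback.snd p₂ ((specDiagram A).map b.hom)))
  obtain ⟨g, hg⟩ : ∃ g : X ⟶ (DX' (specDiagram A) (op R₂) p₂).obj b,
      g = (cX' (specDiagram A) (specCone A) (op R₂) p₂ f' g₂ h₂').π.app b := ⟨_, rfl⟩
  have hcomm : g ≫ p_R = f ≫ Spec.map (CommRingCat.ofHom (algebraMap (b.left.unop).1 A)) := by
    have h3 := cX'_π_snd (specDiagram A) (specCone A) (op R₂) p₂ f' g₂ h₂' b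
    rw [hg, hp_R]
    refine h3.trans ?_
    exact congrArg (fun k => k ≫ (specCone A).π.app b.left) hf'
  have hσ : σ (specDiagram A) (op R₂) p₂ b = p_R ≫ Spec.map (CommRingCat.ofHom ι₂) := by
    rw [hp_R, hι₂]
    exact pullback.condition
  -- the closed fibre at the stage
  obtain ⟨I_R, hI_R⟩ : ∃ I_R : Ideal (b.left.unop).1, I_R = (Ideal.span T₂).map ι₂ := ⟨_, rfl⟩
  have hZR : ∀ y : (DX' (specDiagram A) (op R₂) p₂).obj b,
      y ∈ (σ (specDiagram A) (op R₂) p₂ b ⁻¹ᵁ C : ((DX' (specDiagram A) (op R₂) p₂).obj b).Opens) ↔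
        y ∉ p_R ⁻¹' PrimeSpectrum.zeroLocus (I_R : Set (b.left.unop).1) := by
    intro y
    have h3 : σ (specDiagram A) (op R₂) p₂ b y = Spec.map (CommRingCat.ofHom ι₂) (p_R y) := by
      rw [hσ]; rfl
    have h4 := specMap_mem_zeroLocus_map_iff ι₂ (Ideal.span T₂) (p_R y)
    rw [PrimeSpectrum.zeroLocus_span, ← h3, ← hI_R] at h4
    have h5 : σ (specDiagram A) (op R₂) p₂ b y ∈ (C : Set (Spec (CommRingCat.of R₂.1))) ↔
        σ (specDiagram A) (op R₂) p₂ b y ∈ (PrimeSpectrum.zeroLocus T₂)ᶜ := Set.ext_iff.mp hCdef _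
    exact h5.trans (not_congr h4)
  have hI : I_R.map (algebraMap (b.left.unop).1 A) ≤ I := by
    rw [hI_R, Ideal.map_map, Ideal.map_span, Ideal.span_le]
    rintro _ ⟨r, hr, rfl⟩
    rw [hT₂] at hr
    apply hsI
    have : ((algebraMap (b.left.unop).1 A).comp ι₂) r = (r : A) := by
      rw [hι₂]; rfl
    rw [this]
    exact hr
  -- the decomposition at the stage
  have hZcl : IsClosed (p_R ⁻¹' PrimeSpectrum.zeroLocus (I_R : Set (b.left.unop).1)) :=
    (PrimeSpectrum.isClosed_zeroLocus _).preimage p_R.continuous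
  have hW₁eq : p_R ⁻¹' PrimeSpectrum.zeroLocus (I_R : Set (b.left.unop).1) ∩ (W₁o : Set _) =
      p_R ⁻¹' PrimeSpectrum.zeroLocus (I_R : Set (b.left.unop).1) ∩ (W₂o : Set _)ᶜ := by
    ext y
    constructor
    · rintro ⟨hy, hy1⟩
      refine ⟨hy, fun hy2 => ?_⟩
      exact (hZR y).mp (hdisjb ⟨hy1, hy2⟩) hy
    · rintro ⟨hy, hy2⟩
      refine ⟨hy, ?_⟩
      rcases hcovb (Set.mem_univ y) with (h | h) | h
      · exact absurd hy ((hZR y).mp h)
      · exact h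
      · exact absurd h hy2
  have hW₂eq : p_R ⁻¹' PrimeSpectrum.zeroLocus (I_R : Set (b.left.unop).1) ∩ (W₂o : Set _) =
      p_R ⁻¹' PrimeSpectrum.zeroLocus (I_R : Set (b.left.unop).1) ∩ (W₁o : Set _)ᶜ := by
    ext y
    constructor
    · rintro ⟨hy, hy2⟩
      refine ⟨hy, fun hy1 => ?_⟩
      exact (hZR y).mp (hdisjb ⟨hy1, hy2⟩) hy
    · rintro ⟨hy, hy1⟩
      refine ⟨hy, ?_⟩
      rcases hcovb (Set.mem_univ y) with (h | h) | h
      · exact absurd hy ((hZR y).mp h)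
      · exact absurd h hy1
      · exact h
  obtain ⟨U, hU, hUeq⟩ := exists_isClopen_of_stage I_R (algebraMap (b.left.unop).1 A) I hI f p_R g
    hcomm (p_R ⁻¹' PrimeSpectrum.zeroLocus (I_R : Set (b.left.unop).1) ∩ (W₁o : Set _))
    (p_R ⁻¹' PrimeSpectrum.zeroLocus (I_R : Set (b.left.unop).1) ∩ (W₂o : Set _))
    (by rw [hW₁eq]; exact hZcl.inter W₂o.2.isClosed_compl)
    (by rw [hW₂eq]; exact hZcl.inter W₁o.2.isClosed_compl)
    (by
      rw [Set.disjoint_left]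
      rintro y ⟨hy, hy1⟩ ⟨-, hy2⟩
      exact (hZR y).mp (hdisjb ⟨hy1, hy2⟩) hy)
    (by
      ext y
      constructor
      · rintro (⟨hy, -⟩ | ⟨hy, -⟩) <;> exact hy
      · intro hy
        rcases hcovb (Set.mem_univ y) with (h | h) | h
        · exact absurd hy ((hZR y).mp h)
        · exact Or.inl ⟨hy, h⟩
        · exact Or.inr ⟨hy, h⟩)
  refine ⟨U, hU, ?_⟩
  rw [hUeq]
  -- identify the result with `V₁`
  have hgZ : ∀ x : X, x ∈ f ⁻¹' PrimeSpectrum.zeroLocus (I : Set A) →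
      g x ∈ p_R ⁻¹' PrimeSpectrum.zeroLocus (I_R : Set (b.left.unop).1) := by
    intro x hx
    have h3 : p_R (g x) = Spec.map (CommRingCat.ofHom (algebraMap (b.left.unop).1 A)) (f x) := by
      change (g ≫ p_R) x = _
      rw [hcomm]; rfl
    change p_R (g x) ∈ PrimeSpectrum.zeroLocus _
    rw [h3]
    have hx' : (I : Set A) ⊆ (f x).asIdeal := (PrimeSpectrum.mem_zeroLocus (f x) _).mp hx
    refine (PrimeSpectrum.mem_zeroLocus _ _).mpr ?_
    intro r hr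
    change algebraMap (b.left.unop).1 A r ∈ (f x).asIdeal
    exact hx' (hI (Ideal.mem_map_of_mem _ hr))
  have hgO : ∀ x : X, g x ∈ (W₁o : Set _) ↔ x ∈ O₁ := by
    intro x
    have : x ∈ (g ⁻¹ᵁ W₁o : X.Opens) ↔ x ∈ (⟨O₁, hO₁o⟩ : X.Opens) := by
      rw [hg, hW₁]
    exact this
  have hZsub : f ⁻¹' PrimeSpectrum.zeroLocus (I : Set A) ⊆
      f ⁻¹' PrimeSpectrum.zeroLocus (s : Set A) :=
    Set.preimage_mono (PrimeSpectrum.zeroLocus_anti_mono hsI)
  ext x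
  constructor
  · rintro ⟨⟨-, hx1⟩, hxZ⟩
    have hxO₁ : x ∈ O₁ := (hgO x).mp hx1
    have hxV : x ∈ V₁ ∪ V₂ := by rw [hu]; exact hxZ
    rcases hxV with h | h
    · exact h
    · exfalso
      have : x ∈ f ⁻¹' PrimeSpectrum.zeroLocus (s : Set A) ∩ (O₁ ∩ O₂) :=
        ⟨hZsub hxZ, hxO₁, hV₂O h⟩
      rw [hdisj] at this
      exact this
  · intro hx
    have hxZ : x ∈ f ⁻¹' PrimeSpectrum.zeroLocus (I : Set A) := by
      rw [← hu]; exact Or.inl hx
    exact ⟨⟨hgZ x hxZ, (hgO x).mpr (hV₁O hx)⟩, hxZ⟩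

end Limit

/-- **Connectedness of a proper finitely presented scheme over a henselian pair can be tested on
the closed fibre.** -/
theorem connectedSpace_iff (A : Type u) [CommRing A] (I : Ideal A) [hA : HenselianRing A I]
    {X : Scheme.{u}} (f : X ⟶ Spec (CommRingCat.of A)) [IsProper f]
    [LocallyOfFinitePresentation f] :
    ConnectedSpace ↥X ↔ ConnectedSpace ↥(pullback f (quotSpec A I)) := by
  have hemb : IsClosedEmbedding (pullback.fst f (quotSpec A I)) :=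
    Scheme.Hom.isClosedEmbedding _
  have hrange := range_fst_quotSpec A I f
  have hmeet : ∀ C : Set X, IsClosed C → C.Nonempty →
      (C ∩ Set.range (pullback.fst f (quotSpec A I))).Nonempty := by
    intro C hC hne
    rw [hrange]
    exact Groth.Agent.R2.H87.HensConnTop.inter_preimage_zeroLocus_nonempty I hA.jac f
      f.isClosedMap C hC hne
  constructor
  · intro hX
    refine Groth.Agent.R2.H87.HensConnTop.connectedSpace_of_forall_exists_clopen
      (pullback.fst f (quotSpec A I)) hmeet ?_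
    intro V hV
    obtain ⟨U, hU, hUeq⟩ := exists_isClopen_inter_eq A I f
      (pullback.fst f (quotSpec A I) '' V) (pullback.fst f (quotSpec A I) '' Vᶜ)
      (hemb.isClosedMap V hV.isClosed) (hemb.isClosedMap Vᶜ hV.compl.isClosed)
      ((Set.disjoint_image_iff hemb.injective).mpr disjoint_compl_right)
      (by rw [← Set.image_union, Set.union_compl_self, Set.image_univ, hrange])
    refine ⟨U, hU, ?_⟩
    ext x
    constructor
    · intro hx
      have : pullback.fst f (quotSpec A I) x ∈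
          U ∩ f ⁻¹' PrimeSpectrum.zeroLocus (I : Set A) := by
        refine ⟨hx, ?_⟩
        rw [← hrange]
        exact ⟨x, rfl⟩
      rw [hUeq] at this
      obtain ⟨x', hx', hxx'⟩ := this
      rwa [← hemb.injective hxx']
    · intro hx
      have : pullback.fst f (quotSpec A I) x ∈
          U ∩ f ⁻¹' PrimeSpectrum.zeroLocus (I : Set A) := by
        rw [hUeq]; exact ⟨x, hx, rfl⟩
      exact this.1
  · intro hX₀
    exact Groth.Agent.R2.H87.HensConnTop.connectedSpace_of_forall_closed_inter_range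
      (pullback.fst f (quotSpec A I)) (pullback.fst f (quotSpec A I)).continuous hmeet

end Groth.Agent.R2.H87.HensConn
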