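import Mathlib
import Groth.Agent.Lib.Helper26FinPartSch

/-!
# Étale surjective schemes over a henselian local ring contain a finite surjective open (helper87)
-/

set_option autoImplicit false
set_option linter.style.haveILetI false

namespace Groth.Agent.R2.H87.HensDVR

open AlgebraicGeometry CategoryTheory Limits TopologicalSpace

universe u

/-- An unramified morphism locally of finite type is locally quasi-finite. -/
theorem locallyQuasiFinite_of_unramified {X Y : Scheme.{u}} (f : X ⟶ Y) [LocallyOfFiniteType f]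
    [FormallyUnramified f] : LocallyQuasiFinite f := by
  constructor
  intro U hU V hV e
  have h1 : (f.appLE U V e).hom.FiniteType :=
    HasRingHomProperty.appLE (P := @LocallyOfFiniteType) f inferInstance ⟨U, hU⟩ ⟨V, hV⟩ e
  have h2 : (f.appLE U V e).hom.FormallyUnramified :=
    HasRingHomProperty.appLE (P := @FormallyUnramified) f inferInstance ⟨U, hU⟩ ⟨V, hV⟩ e
  algebraize [(f.appLE U V e).hom]
  rw [← RingHom.algebraMap_toAlgebra (f.appLE U V e).hom, RingHom.quasiFinite_algebraMap]
  infer_instance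

/-- A prime of an integral extension lying over a maximal ideal gives a closed point. -/
theorem isClosed_singleton_of_comap_isMaximal {A B : Type u} [CommRing A] [CommRing B]
    (ρ : A →+* B) (hρ : ρ.IsIntegral) (q : PrimeSpectrum B)
    (hq : (q.asIdeal.comap ρ).IsMaximal) : IsClosed ({q} : Set (PrimeSpectrum B)) := by
  letI : Algebra A B := ρ.toAlgebra
  haveI : Algebra.IsIntegral A B := algebraMap_isIntegral_iff.mp hρ
  rw [PrimeSpectrum.isClosed_singleton_iff_isMaximal]
  exact Ideal.isMaximal_of_isIntegral_of_isMaximal_comap (R := A) q.asIdeal hq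

theorem exists_open_finite_surjective (A : Type u) [CommRing A] [HenselianLocalRing A]
    (T : Scheme.{u}) (f : T ⟶ Spec (CommRingCat.of A)) [Etale f] [Surjective f] :
    ∃ U : T.Opens, IsFinite (U.ι ≫ f) ∧ Surjective (U.ι ≫ f) := by
  obtain ⟨t, ht⟩ := f.surjective (IsLocalRing.closedPoint A)
  obtain ⟨V, hV, htV⟩ : ∃ V : T.Opens, IsAffineOpen V ∧ t ∈ V := by
    obtain ⟨_, ⟨V, hV, rfl⟩, htV, -⟩ :=
      T.isBasis_affineOpens.exists_subset_of_mem_open (Set.mem_univ t) isOpen_univ
    exact ⟨V, hV, htV⟩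
  haveI : IsAffine ↑V := hV
  let fV : (V : Scheme.{u}) ⟶ Spec (CommRingCat.of A) := V.ι ≫ f
  haveI : Etale fV := by dsimp only [fV]; infer_instance
  haveI : LocallyQuasiFinite fV := locallyQuasiFinite_of_unramified fV
  let I : Ideal A := IsLocalRing.maximalIdeal A
  obtain ⟨B, ρ, j', φ, hint, hopen, hj'ρ, hj'⟩ :=
    Groth.Agent.Lib.Helper26.FinPartSch.exists_openImmersion_integral fV
  haveI := hopen
  -- the closed fibre
  have hfib : {x : ↥(V : Scheme.{u}) | I ≤ (fV x : PrimeSpectrum A).asIdeal} =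
      fV ⁻¹' {IsLocalRing.closedPoint A} := by
    ext x
    simp only [Set.mem_ofPred_eq, Set.mem_preimage]
    constructor
    · intro h
      apply PrimeSpectrum.ext
      exact ((IsLocalRing.maximalIdeal.isMaximal A).eq_of_le
        (fV x : PrimeSpectrum A).2.ne_top h).symm
    · intro h
      rw [h]
      exact le_rfl
  have hfin : {x : ↥(V : Scheme.{u}) | I ≤ (fV x : PrimeSpectrum A).asIdeal}.Finite := by
    rw [hfib]
    exact fV.finite_preimage_singleton _
  have hT : IsClosed (j' '' {x : ↥(V : Scheme.{u}) | I ≤ (fV x : PrimeSpectrum A).asIdeal}) := by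
    have hfin' := hfin.image j'
    rw [← Set.biUnion_of_singleton (j' '' _)]
    refine hfin'.isClosed_biUnion ?_
    rintro _ ⟨x, hx, rfl⟩
    refine isClosed_singleton_of_comap_isMaximal ρ.hom hint (j' x) ?_
    have h1 : (fV x : PrimeSpectrum A) = PrimeSpectrum.comap ρ.hom (j' x) := by
      rw [← hj'ρ]
      rfl
    have h2 : (fV x : PrimeSpectrum A) = IsLocalRing.closedPoint A := by
      rw [hfib] at hx
      exact hx
    have h3 : (j' x : PrimeSpectrum B).asIdeal.comap ρ.hom = IsLocalRing.maximalIdeal A := by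
      have := congrArg PrimeSpectrum.asIdeal (h1.symm.trans h2)
      exact this
    rw [h3]
    exact IsLocalRing.maximalIdeal.isMaximal A
  obtain ⟨W, -, hWfin, hWmem⟩ :=
    Groth.Agent.Lib.Helper26.FinPartSch.exists_clopen_finite_of_openImmersion I fV B ρ j' hint
      hj'ρ hT
  refine ⟨V.ι ''ᵁ W, ?_, ?_⟩
  · have e : (V.ι.isoImage W).inv ≫ W.ι ≫ fV = (V.ι ''ᵁ W).ι ≫ f := by
      rw [← Scheme.Hom.isoImage_inv_ι_assoc]
    rw [← e]
    haveI := hWfin
    infer_instance
  · have e : (V.ι.isoImage W).inv ≫ W.ι ≫ fV = (V.ι ''ᵁ W).ι ≫ f := by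
      rw [← Scheme.Hom.isoImage_inv_ι_assoc]
    rw [← e]
    haveI : Surjective (W.ι ≫ fV) := by
      constructor
      have hopenmap : IsOpenMap (W.ι ≫ fV) := (W.ι ≫ fV).isOpenMap
      let R : Opens (PrimeSpectrum A) := ⟨Set.range (W.ι ≫ fV), hopenmap.isOpen_range⟩
      have hmem : IsLocalRing.closedPoint A ∈ R := by
        have htW : (⟨t, htV⟩ : ↥(V : Scheme.{u})) ∈ W := by
          apply hWmem
          have : fV ⟨t, htV⟩ = IsLocalRing.closedPoint A := ht
          rw [this]
          exact le_rfl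
        refine ⟨⟨⟨t, htV⟩, htW⟩, ?_⟩
        exact ht
      have hR : R = ⊤ := (IsLocalRing.closedPoint_mem_iff R).mp hmem
      intro s
      have : s ∈ (R : Set (PrimeSpectrum A)) := by rw [hR]; trivial
      exact this
    infer_instance

end Groth.Agent.R2.H87.HensDVR
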