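import Mathlib
import Groth.Agent.R2.H87ClopenSigma

/-!
# Henselian couples and disjoint unions (helper87)
-/

set_option autoImplicit false
set_option linter.style.haveILetI false

namespace Groth.Agent.R2.H87.HensSigma

open AlgebraicGeometry CategoryTheory Limits TopologicalSpace Topology
open Groth.Agent.R2.H87.Clopen Groth.Agent.R2.H87.ClopenSigma

universe u

section General

variable {X X₀ Y : Scheme.{u}} (g : Y ⟶ X) (i : X₀ ⟶ X) [IsClosedImmersion i]

theorem clopenLift_congr_set {Y : Type*} [TopologicalSpace Y] {Z Z' : Set Y} (h : Z = Z') :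
    ClopenLift (Subtype.val : Z → Y) ↔ ClopenLift (Subtype.val : Z' → Y) := by
  subst h; exact Iff.rfl

/-- For a closed immersion `i`, lifting clopens along `Y ×_X X₀ ⟶ Y` is a property of the closed
subset `g⁻¹(i(X₀))` of `Y`. -/
theorem clopenLift_fst_iff :
    ClopenLift (pullback.fst g i) ↔
      ClopenLift (Subtype.val : (g ⁻¹' Set.range i) → Y) := by
  rw [clopenLift_iff_subtype (pullback.fst g i).isEmbedding]
  exact clopenLift_congr_set (Scheme.Pullback.range_fst g i)

end General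

section Sigma

variable {ι : Type u} (X X₀ : ι → Scheme.{u}) (i : ∀ j, X₀ j ⟶ X j)

theorem exists_sigmaι_eq (x : (∐ X : Scheme.{u})) : ∃ (j : ι) (y : X j), Sigma.ι X j y = x := by
  obtain ⟨⟨j, y⟩, h⟩ := (sigmaMk X).surjective x
  exact ⟨j, y, by rw [← h, sigmaMk_mk]⟩

theorem sigmaι_mem_range_map_iff (j : ι) (x : X j) :
    Sigma.ι X j x ∈ Set.range (Limits.Sigma.map i) ↔ x ∈ Set.range (i j) := by
  constructor
  · rintro ⟨z, hz⟩
    obtain ⟨k, x₀, rfl⟩ := exists_sigmaι_eq X₀ z
    have h1 : Limits.Sigma.map i (Sigma.ι X₀ k x₀) = Sigma.ι X k (i k x₀) := by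
      rw [← Scheme.Hom.comp_apply, ← Scheme.Hom.comp_apply, Sigma.ι_map]
    rw [h1] at hz
    have h2 := (sigmaι_eq_iff X k j (i k x₀) x).mp hz
    obtain ⟨rfl, h3⟩ := Sigma.mk.inj_iff.mp h2
    exact ⟨x₀, eq_of_heq h3⟩
  · rintro ⟨x₀, rfl⟩
    refine ⟨Sigma.ι X₀ j x₀, ?_⟩
    rw [← Scheme.Hom.comp_apply, ← Scheme.Hom.comp_apply, Sigma.ι_map]

theorem isClosed_range_sigmaι (j : ι) : IsClosed (Set.range (Sigma.ι X j)) := by
  have : (Set.range (Sigma.ι X j))ᶜ = ⋃ k ∈ {k | k ≠ j}, Set.range (Sigma.ι X k) := by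
    ext y
    simp only [Set.mem_compl_iff, Set.mem_iUnion, Set.mem_ofPred_eq, exists_prop]
    constructor
    · intro hy
      obtain ⟨k, x, rfl⟩ := exists_sigmaι_eq X y
      refine ⟨k, ?_, x, rfl⟩
      rintro rfl
      exact hy ⟨x, rfl⟩
    · rintro ⟨k, hkj, x, rfl⟩ ⟨x', hx'⟩
      have h2 := (sigmaι_eq_iff X j k x' x).mp hx'
      exact hkj (Sigma.mk.inj_iff.mp h2).1.symm
  rw [← isOpen_compl_iff, this]
  exact isOpen_biUnion (fun k _ => (Sigma.ι X k).isOpenEmbedding.isOpen_range)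

instance isClosedImmersion_sigmaι (j : ι) : IsClosedImmersion (Sigma.ι X j) :=
  IsClosedImmersion.of_isPreimmersion _ (isClosed_range_sigmaι X j)

variable [∀ j, IsClosedImmersion (i j)]

omit [∀ j, IsClosedImmersion (i j)] in
theorem range_fst_map_sigmaι (j : ι) :
    Set.range (pullback.fst (Limits.Sigma.map i) (Sigma.ι X j)) = Set.range (Sigma.ι X₀ j) := by
  rw [Scheme.Pullback.range_fst]
  ext z
  constructor
  · rintro ⟨x, hx⟩
    obtain ⟨k, x₀, rfl⟩ := exists_sigmaι_eq X₀ z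
    have h1 : Limits.Sigma.map i (Sigma.ι X₀ k x₀) = Sigma.ι X k (i k x₀) := by
      rw [← Scheme.Hom.comp_apply, ← Scheme.Hom.comp_apply, Sigma.ι_map]
    rw [h1] at hx
    have h2 := (sigmaι_eq_iff X j k x (i k x₀)).mp hx
    obtain ⟨rfl, -⟩ := Sigma.mk.inj_iff.mp h2
    exact ⟨x₀, rfl⟩
  · rintro ⟨x₀, rfl⟩
    refine ⟨i j x₀, ?_⟩
    rw [← Scheme.Hom.comp_apply, ← Scheme.Hom.comp_apply, Sigma.ι_map]

theorem isClosedImmersion_snd_map_sigmaι (j : ι) :
    IsClosedImmersion (pullback.snd (Limits.Sigma.map i) (Sigma.ι X j)) := by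
  let e := IsOpenImmersion.isoOfRangeEq (pullback.fst (Limits.Sigma.map i) (Sigma.ι X j))
    (Sigma.ι X₀ j) (range_fst_map_sigmaι X X₀ i j)
  have he : e.hom ≫ Sigma.ι X₀ j = pullback.fst (Limits.Sigma.map i) (Sigma.ι X j) :=
    IsOpenImmersion.isoOfRangeEq_hom_fac _ _ _
  have h : pullback.snd (Limits.Sigma.map i) (Sigma.ι X j) = e.hom ≫ i j := by
    rw [← cancel_mono (Sigma.ι X j), ← pullback.condition, ← he, Category.assoc, Category.assoc,
      Sigma.ι_map]
  rw [h]
  infer_instance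

instance isClosedImmersion_sigmaMap : IsClosedImmersion (Limits.Sigma.map i) := by
  refine IsZariskiLocalAtTarget.of_openCover (P := @IsClosedImmersion) (sigmaOpenCover X) ?_
  intro j
  exact isClosedImmersion_snd_map_sigmaι X X₀ i j

theorem clopenLift_sigma_iff :
    (∀ (Y : Scheme.{u}) (g : Y ⟶ ∐ X), IsFinite g →
      ClopenLift (pullback.fst g (Limits.Sigma.map i))) ↔
    ∀ j : ι, ∀ (Y : Scheme.{u}) (g : Y ⟶ X j), IsFinite g →
      ClopenLift (pullback.fst g (i j)) := by
  constructor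
  · intro h j Y g hg
    haveI := hg
    have hG : IsFinite (g ≫ Sigma.ι X j) := inferInstance
    have h1 := h Y (g ≫ Sigma.ι X j) hG
    rw [clopenLift_fst_iff] at h1 ⊢
    refine (clopenLift_congr_set ?_).mp h1
    ext y
    simp only [Set.mem_preimage]
    rw [Scheme.Hom.comp_apply]
    exact sigmaι_mem_range_map_iff X X₀ i j (g y)
  · intro h Y g hg
    haveI := hg
    rw [clopenLift_fst_iff]
    set Z : Set Y := g ⁻¹' Set.range (Limits.Sigma.map i) with hZ
    have hsq : IsPartitionSquare (Subtype.val : Z → Y)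
        (fun j => (pullback.fst g (Sigma.ι X j) : ↥(pullback g (Sigma.ι X j)) → Y))
        (fun j => Z.restrictPreimage (pullback.fst g (Sigma.ι X j)))
        (fun j => (Subtype.val :
          ((pullback.fst g (Sigma.ι X j) : ↥(pullback g (Sigma.ι X j)) → Y) ⁻¹' Z) → _)) := by
      refine ⟨continuous_subtype_val, fun j x => rfl,
        fun j => (pullback.fst g (Sigma.ι X j)).isOpenEmbedding,
        fun j => Set.restrictPreimage_isOpenEmbedding Z
          (pullback.fst g (Sigma.ι X j)).isOpenEmbedding, ?_, ?_,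
        fun j => Set.range_restrictPreimage _ _⟩
      · intro y
        obtain ⟨j, x, hx⟩ := exists_sigmaι_eq X (g y)
        refine ⟨j, ?_⟩
        rw [Scheme.Pullback.range_fst]
        exact ⟨x, hx⟩
      · intro j k hjk
        rw [Set.disjoint_iff]
        rintro y ⟨hyj, hyk⟩
        rw [Scheme.Pullback.range_fst] at hyj hyk
        obtain ⟨x, hx⟩ := hyj
        obtain ⟨x', hx'⟩ := hyk
        have h2 := (sigmaι_eq_iff X j k x x').mp (hx.trans hx'.symm)
        exact hjk (Sigma.mk.inj_iff.mp h2).1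
    refine hsq.clopenLift_iff.mpr (fun j => ?_)
    have h1 := h j (pullback g (Sigma.ι X j)) (pullback.snd g (Sigma.ι X j)) inferInstance
    rw [clopenLift_fst_iff] at h1
    refine (clopenLift_congr_set ?_).mp h1
    ext y'
    simp only [Set.mem_preimage, hZ]
    rw [← sigmaι_mem_range_map_iff X X₀ i j, ← Scheme.Hom.comp_apply, ← Scheme.Hom.comp_apply,
      pullback.condition]

end Sigma

end Groth.Agent.R2.H87.HensSigma
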