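import Groth.Agent.Lib.Helper17StkFp
import Groth.Agent.Lib.Helper26LiftSq

/-!
# The unique lifting property is stable under base change along a 2-fibre product (helper87)

For functors over `C`, `j : 𝒜 ⟶ ℬ`, `f : 𝒳 ⟶ 𝒴`, `y : 𝒴' ⟶ 𝒴`: if every square over `(j, f)` can be
(uniquely) filled in then so can every square over `(j, fpFst y f)`, the base change of `f`
along `y`.
-/

set_option autoImplicit false

namespace Groth.Agent.R2.H87.LiftSqBC

open CategoryTheory LiftSq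
open Groth.Agent.Lib.Helper17 Groth.Agent.Lib.Helper26.LiftSqComp

universe v₆ u₆ v₅ u₅ v₄ u₄ v₃ u₃ v₂ u₂ v u

set_option allowUnsafeReducibility true in
attribute [local reducible] BasedFunctor.comp

variable {C : Type u} [Category.{v} C]
  {𝒜 : BasedCategory.{v₂, u₂} C} {ℬ : BasedCategory.{v₃, u₃} C}
  {𝒳 : BasedCategory.{v₄, u₄} C} {𝒴 : BasedCategory.{v₅, u₅} C} {𝒴' : BasedCategory.{v₆, u₆} C}

/-- Whiskering an isomorphism on the left. -/
def whiskerLeftIso (F : 𝒜 ⥤ᵇ ℬ) {G H : ℬ ⥤ᵇ 𝒳} (α : G ≅ H) :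
    BasedFunctor.comp F G ≅ BasedFunctor.comp F H where
  hom := BasedCategory.whiskerLeft F α.hom
  inv := BasedCategory.whiskerLeft F α.inv
  hom_inv_id := by rw [← whiskerLeft_comp', α.hom_inv_id, whiskerLeft_id']
  inv_hom_id := by rw [← whiskerLeft_comp', α.inv_hom_id, whiskerLeft_id']

theorem iso_hom_inv_app {F G : ℬ ⥤ᵇ 𝒳} (α : F ≅ G) (b : ℬ.obj) :
    α.hom.toNatTrans.app b ≫ α.inv.toNatTrans.app b = 𝟙 _ :=
  congrArg (fun t => t.toNatTrans.app b) α.hom_inv_id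

theorem iso_inv_hom_app {F G : ℬ ⥤ᵇ 𝒳} (α : F ≅ G) (b : ℬ.obj) :
    α.inv.toNatTrans.app b ≫ α.hom.toNatTrans.app b = 𝟙 _ :=
  congrArg (fun t => t.toNatTrans.app b) α.inv_hom_id

theorem aux1 {D : Type*} [Category D] {X Y Z W V : D} (p : X ⟶ Y) (q : Y ⟶ Z) (r : Z ⟶ W)
    (p' : Y ⟶ V) (r' : V ⟶ W) (s : X ⟶ V) (h2 : p' ≫ r' = q ≫ r) (h1 : p ≫ p' = s) :
    (p ≫ q) ≫ r = s ≫ r' := by
  rw [Category.assoc, ← h2, ← Category.assoc, h1]

theorem aux2 {D : Type*} [Category D] {X Y Z W V : D} (p : X ⟶ Y) (p' : Y ⟶ X) (q : Y ⟶ Z)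
    (r : Z ⟶ W) (s : X ⟶ V) (r' : V ⟶ W) (hp : p' ≫ p = 𝟙 Y) (h : (p ≫ q) ≫ r = s ≫ r') :
    (p' ≫ s) ≫ r' = q ≫ r := by
  rw [Category.assoc, ← h, Category.assoc, ← Category.assoc, hp, Category.id_comp]

theorem aux5 {D : Type*} [Category D] {X Y Z W : D} (p : X ⟶ Y) (p' : Y ⟶ X) (q : X ⟶ W)
    (r₁ : Y ⟶ Z) (r₂ : W ⟶ Z) (s : X ⟶ Z) (hp : p' ≫ p = 𝟙 Y) (e1 : p ≫ r₁ = s)
    (e2 : q ≫ r₂ = s) : (p' ≫ q) ≫ r₂ = r₁ := by
  rw [Category.assoc, e2, ← e1, ← Category.assoc, hp, Category.id_comp]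

theorem aux4 {D : Type*} [Category D] {X Y Z : D} (p : X ⟶ Y) (p' : Y ⟶ X) (t : Y ⟶ Z)
    (q : X ⟶ Z) (hp : p' ≫ p = 𝟙 Y) (h : p ≫ t = q) : t = p' ≫ q := by
  rw [← h, ← Category.assoc, hp, Category.id_comp]

variable (j : 𝒜 ⥤ᵇ ℬ) (f : 𝒳 ⥤ᵇ 𝒴) (y : 𝒴' ⥤ᵇ 𝒴)

/-- The square against `f` obtained from a square against the base change of `f`. -/
def sqF (sq : Sq j (FibCat.fpFst y f)) : Sq j f where
  top := BasedFunctor.comp sq.top (FibCat.fpSnd y f)
  bot := BasedFunctor.comp sq.bot y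
  iso := whiskerRightIso sq.iso y ≪≫ whiskerLeftIso sq.top (FibCat.fpIso y f)

theorem sqF_iso_hom_app (sq : Sq j (FibCat.fpFst y f)) (a : 𝒜.obj) :
    (sqF j f y sq).iso.hom.toNatTrans.app a =
      y.map (sq.iso.hom.toNatTrans.app a) ≫ (sq.top.obj a).obj.iso.hom := rfl

/-- A dotted arrow of the square against `f` gives one of the square against the base change. -/
def liftOfF (sq : Sq j (FibCat.fpFst y f)) (d' : (sqF j f y sq).Lift) : sq.Lift where
  fn := FibCat.fpLift sq.bot d'.fn d'.isoBot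
  isoTop := fpIsoMk y f (H := BasedFunctor.comp j (FibCat.fpLift sq.bot d'.fn d'.isoBot))
    (K := sq.top) sq.iso d'.isoTop (fun a => by
      have h := congrArg (fun t => t.toNatTrans.app a) d'.w
      exact h.symm)
  isoBot := Iso.refl _
  w := by
    apply BasedNatTrans.homCategory.ext
    ext a
    exact Category.id_comp _

theorem exists_lift (hf : Lifts j f) : Lifts j (FibCat.fpFst y f) := fun sq => by
  obtain ⟨d'⟩ := hf (sqF j f y sq)
  exact ⟨liftOfF j f y sq d'⟩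

/-- A dotted arrow of the square against the base change gives one of the square against `f`. -/
def liftToF (sq : Sq j (FibCat.fpFst y f)) (d : sq.Lift) : (sqF j f y sq).Lift where
  fn := BasedFunctor.comp d.fn (FibCat.fpSnd y f)
  isoTop := whiskerRightIso d.isoTop (FibCat.fpSnd y f)
  isoBot := whiskerRightIso d.isoBot y ≪≫ whiskerLeftIso d.fn (FibCat.fpIso y f)
  w := by
    apply BasedNatTrans.homCategory.ext
    ext a
    have h1 : d.isoBot.hom.toNatTrans.app (j.obj a) ≫ (d.isoTop.hom.toNatTrans.app a).hom.fst =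
        sq.iso.hom.toNatTrans.app a := congrArg (fun t => t.toNatTrans.app a) d.w
    have h2 := (d.isoTop.hom.toNatTrans.app a).hom.w
    exact aux1 (y.map (d.isoBot.hom.toNatTrans.app (j.obj a))) (d.fn.obj (j.obj a)).obj.iso.hom
      (f.map ((d.isoTop.hom.toNatTrans.app a).hom.snd))
      (y.map (d.isoTop.hom.toNatTrans.app a).hom.fst) (sq.top.obj a).obj.iso.hom
      (y.map (sq.iso.hom.toNatTrans.app a)) h2
      ((y.map_comp _ _).symm.trans (congrArg y.map h1))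

/-- A morphism of dotted arrows induces one between the associated dotted arrows against `f`. -/
def homToF {sq : Sq j (FibCat.fpFst y f)} {d₁ d₂ : sq.Lift} (θ : d₁ ⟶ d₂) :
    liftToF j f y sq d₁ ⟶ liftToF j f y sq d₂ :=
  ⟨BasedCategory.whiskerRight θ.hom (FibCat.fpSnd y f), by
    change BasedCategory.whiskerLeft j (BasedCategory.whiskerRight θ.hom (FibCat.fpSnd y f)) ≫
      BasedCategory.whiskerRight d₂.isoTop.hom (FibCat.fpSnd y f) =
      BasedCategory.whiskerRight d₁.isoTop.hom (FibCat.fpSnd y f)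
    rw [whiskerLeft_whiskerRight, ← whiskerRight_comp', θ.w_top], by
    apply BasedNatTrans.homCategory.ext
    ext b
    have h1 : d₁.isoBot.hom.toNatTrans.app b ≫ (θ.hom.toNatTrans.app b).hom.fst =
        d₂.isoBot.hom.toNatTrans.app b := congrArg (fun t => t.toNatTrans.app b) θ.w_bot
    have h2 := (θ.hom.toNatTrans.app b).hom.w
    exact aux1 (y.map (d₁.isoBot.hom.toNatTrans.app b)) (d₁.fn.obj b).obj.iso.hom
      (f.map ((θ.hom.toNatTrans.app b).hom.snd))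
      (y.map (θ.hom.toNatTrans.app b).hom.fst) (d₂.fn.obj b).obj.iso.hom
      (y.map (d₂.isoBot.hom.toNatTrans.app b)) h2
      ((y.map_comp _ _).symm.trans (congrArg y.map h1))⟩

theorem uniq_lift (hf : LiftsUnique j f) : LiftsUnique j (FibCat.fpFst y f) := by
  intro sq d₁ d₂
  obtain ⟨uψ⟩ := hf (sqF j f y sq) (liftToF j f y sq d₁) (liftToF j f y sq d₂)
  obtain ⟨ψ, hψ⟩ : ∃ ψ : liftToF j f y sq d₁ ⟶ liftToF j f y sq d₂, ∀ ψ', ψ' = ψ :=
    ⟨uψ.default, uψ.uniq⟩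
  let α₁ : BasedFunctor.comp d₁.fn (FibCat.fpFst y f) ⟶
      BasedFunctor.comp d₂.fn (FibCat.fpFst y f) := d₁.isoBot.inv ≫ d₂.isoBot.hom
  have hα₁ : ∀ b : ℬ.obj, α₁.toNatTrans.app b =
      d₁.isoBot.inv.toNatTrans.app b ≫ d₂.isoBot.hom.toNatTrans.app b := fun b => rfl
  have hw : ∀ b : ℬ.obj, y.map (α₁.toNatTrans.app b) ≫ (d₂.fn.obj b).obj.iso.hom =
      (d₁.fn.obj b).obj.iso.hom ≫ f.map (ψ.hom.toNatTrans.app b) := by
    intro b
    have h1 : (y.map (d₁.isoBot.hom.toNatTrans.app b) ≫ (d₁.fn.obj b).obj.iso.hom) ≫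
        f.map (ψ.hom.toNatTrans.app b) =
        y.map (d₂.isoBot.hom.toNatTrans.app b) ≫ (d₂.fn.obj b).obj.iso.hom :=
      congrArg (fun t => t.toNatTrans.app b) ψ.w_bot
    have hp : y.map (d₁.isoBot.inv.toNatTrans.app b) ≫ y.map (d₁.isoBot.hom.toNatTrans.app b) =
        𝟙 _ := by
      rw [← y.map_comp, iso_inv_hom_app, y.map_id]
    rw [hα₁, y.map_comp]
    exact aux2 _ _ _ _ _ _ hp h1
  let θh : d₁.fn ⟶ d₂.fn := fpHomMk y f α₁ ψ.hom hw
  have wtop : BasedCategory.whiskerLeft j θh ≫ d₂.isoTop.hom = d₁.isoTop.hom := by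
    apply fp_twoHom_ext
    · intro a
      have e1 : d₁.isoBot.hom.toNatTrans.app (j.obj a) ≫
          (d₁.isoTop.hom.toNatTrans.app a).hom.fst = sq.iso.hom.toNatTrans.app a :=
        congrArg (fun t => t.toNatTrans.app a) d₁.w
      have e2 : d₂.isoBot.hom.toNatTrans.app (j.obj a) ≫
          (d₂.isoTop.hom.toNatTrans.app a).hom.fst = sq.iso.hom.toNatTrans.app a :=
        congrArg (fun t => t.toNatTrans.app a) d₂.w
      change (d₁.isoBot.inv.toNatTrans.app (j.obj a) ≫ d₂.isoBot.hom.toNatTrans.app (j.obj a)) ≫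
        (d₂.isoTop.hom.toNatTrans.app a).hom.fst = (d₁.isoTop.hom.toNatTrans.app a).hom.fst
      exact aux5 (d₁.isoBot.hom.toNatTrans.app (j.obj a)) (d₁.isoBot.inv.toNatTrans.app (j.obj a))
        (d₂.isoBot.hom.toNatTrans.app (j.obj a)) (d₁.isoTop.hom.toNatTrans.app a).hom.fst
        (d₂.isoTop.hom.toNatTrans.app a).hom.fst _ (iso_inv_hom_app _ _) e1 e2
    · intro a
      exact congrArg (fun t => t.toNatTrans.app a) ψ.w_top
  have wbot : d₁.isoBot.hom ≫ BasedCategory.whiskerRight θh (FibCat.fpFst y f) =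
      d₂.isoBot.hom := by
    apply BasedNatTrans.homCategory.ext
    ext b
    change d₁.isoBot.hom.toNatTrans.app b ≫
      (d₁.isoBot.inv.toNatTrans.app b ≫ d₂.isoBot.hom.toNatTrans.app b) =
      d₂.isoBot.hom.toNatTrans.app b
    rw [← Category.assoc, iso_hom_inv_app, Category.id_comp]
  refine ⟨⟨⟨⟨θh, wtop, wbot⟩⟩, ?_⟩⟩
  intro θ'
  apply Sq.Lift.hom_ext
  apply fp_twoHom_ext
  · intro b
    have h1 : d₁.isoBot.hom.toNatTrans.app b ≫ (θ'.hom.toNatTrans.app b).hom.fst =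
        d₂.isoBot.hom.toNatTrans.app b := congrArg (fun t => t.toNatTrans.app b) θ'.w_bot
    change (θ'.hom.toNatTrans.app b).hom.fst =
      d₁.isoBot.inv.toNatTrans.app b ≫ d₂.isoBot.hom.toNatTrans.app b
    exact aux4 (d₁.isoBot.hom.toNatTrans.app b) _ _ _ (iso_inv_hom_app _ _) h1
  · intro b
    have h := hψ (homToF j f y θ')
    exact congrArg (fun t => t.hom.toNatTrans.app b) h

theorem liftsUniquely_fpFst (hf : LiftsUniquely j f) : LiftsUniquely j (FibCat.fpFst y f) := by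
  intro sq
  exact ⟨exists_lift j f y (fun s => (hf s).1) sq, uniq_lift j f y (fun s => (hf s).2) sq⟩

end Groth.Agent.R2.H87.LiftSqBC
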