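/-
helper87: a cofiltered limit of finite type `S`-schemes with closed immersions as transition maps
which is proper over `S` has proper stages (Stacks 09ZR, key step), via Chow's lemma.
-/
import Mathlib
import Groth.Agent.S7409
import Groth.Agent.S9199
import Groth.Agent.S2076
import Groth.Agent.S0594
import Groth.Agent.S9705

set_option autoImplicit false
universe u
open CategoryTheory AlgebraicGeometry Limits

namespace Groth.Agent.R2.H87.LimProperB

/-- Let `S` be qcqs and `X = lim X_i` a cofiltered limit in `Over S` of qcqs schemes locally of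
finite type over `S` whose transition maps are closed immersions. If `X → S` is proper, then for
all `i` beyond some index, `X_i → S` is proper and `X → X_i` is a closed immersion. -/
theorem eventually_isProper {J : Type u} [SmallCategory J] [IsCofiltered J] {S : Scheme.{u}}
    [CompactSpace S] [QuasiSeparatedSpace S]
    (D : J ⥤ Over S) (c : Cone D) (hc : IsLimit c)
    (hcl : ∀ (i j : J) (a : i ⟶ j), IsClosedImmersion (D.map a).left)
    (hD : ∀ i, LocallyOfFiniteType (D.obj i).hom ∧ CompactSpace (D.obj i).left ∧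
      QuasiSeparatedSpace (D.obj i).left)
    [IsProper c.pt.hom] :
    ∃ i₂ : J, ∀ (i : J) (_ : i ⟶ i₂),
      IsProper (D.obj i).hom ∧ IsClosedImmersion (c.π.app i).left := by
  classical
  have hconn : IsConnected J := IsCofiltered.isConnected _
  let D' : J ⥤ Scheme.{u} := D ⋙ Over.forget S
  let c' : Cone D' := (Over.forget S).mapCone c
  have hc' : IsLimit c' := isLimitOfPreserves (Over.forget S) hc
  have hcl' : ∀ (i j : J) (a : i ⟶ j), IsClosedImmersion (D'.map a) := hcl
  have haff' : ∀ (i j : J) (a : i ⟶ j), IsAffineHom (D'.map a) := fun i j a => by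
    have := hcl' i j a; infer_instance
  let t : D' ⟶ (Functor.const J).obj S :=
    { app := fun i => (D.obj i).hom
      naturality := fun i j a => by
        change (D.map a).left ≫ (D.obj j).hom = (D.obj i).hom ≫ 𝟙 S
        rw [Category.comp_id, Over.w] }
  have hcpt : ∀ i, CompactSpace (D'.obj i) := fun i => (hD i).2.1
  have hqs : ∀ i, QuasiSeparatedSpace (D'.obj i) := fun i => (hD i).2.2
  let tt : ∀ i : J, D'.obj i ⟶ S := fun i => (D.obj i).hom
  let pS : c'.pt ⟶ S := c.pt.hom
  have htt_w : ∀ i, c'.π.app i ≫ tt i = pS := fun i => Over.w (c.π.app i)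
  have htt_map : ∀ (i j : J) (a : i ⟶ j), D'.map a ≫ tt j = tt i := fun i j a => Over.w (D.map a)
  have hpS : IsProper pS := ‹IsProper c.pt.hom›
  obtain ⟨i₀⟩ := IsCofiltered.nonempty (C := J)
  -- separatedness beyond `ia`
  have hsep0 : IsSeparated (c'.π.app i₀ ≫ t.app i₀) := by
    change IsSeparated ((c.π.app i₀).left ≫ (D.obj i₀).hom)
    have h : (c.π.app i₀).left ≫ (D.obj i₀).hom = c.pt.hom := Over.w (c.π.app i₀)
    rw [h]; infer_instance
  obtain ⟨ia, ha⟩ := Groth.Agent.S9199.result S D' t c' hc' i₀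
  -- the projections are closed immersions beyond `ib`
  have hft : LocallyOfFiniteType (𝟙 c.pt.left ≫ c.pt.hom) := by
    rw [Category.id_comp]; infer_instance
  have haffL : ∀ (i j : J) (a : i ⟶ j), IsAffineHom (D.map a).left := haff'
  have hcptL : ∀ i, CompactSpace (D.obj i).left := hcpt
  obtain ⟨ib, hb⟩ := Groth.Agent.S2076.result S D c hc (𝟙 c.pt.left)
  rw [Category.id_comp] at hb
  have key_cl : ∀ (i : J) (_ : i ⟶ ib), IsClosedImmersion (c.π.app i).left := fun i a => by
    have h1 : (c.π.app i).left ≫ (D.map a).left = (c.π.app ib).left := by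
      rw [← Over.comp_left, c.w]
    have h2 : IsClosedImmersion ((c.π.app i).left ≫ (D.map a).left) := by rw [h1]; exact hb
    have h3 := hcl i ib a
    exact IsClosedImmersion.of_comp (c.π.app i).left (D.map a).left
  let i₁ : J := IsCofiltered.min ia ib
  have key_sep : ∀ (i : J) (_ : i ⟶ i₁), IsSeparated (D.obj i).hom := fun i a =>
    ha i (a ≫ IsCofiltered.minToLeft _ _)
  -- Chow's lemma at `i₁`
  have hs₁ : IsSeparated (D.obj i₁).hom := key_sep i₁ (𝟙 _)
  have hl₁ : LocallyOfFiniteType (D.obj i₁).hom := (hD i₁).1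
  have hc₁ : CompactSpace (D.obj i₁).left := (hD i₁).2.1
  have hq₁ : QuasiCompact (D.obj i₁).hom := inferInstance
  obtain ⟨n, X₁', π₁, j₁, hj₁, hcomm0, hπp, hπs⟩ :=
    @Groth.Agent.S7409.result (D'.obj i₁) S (D.obj i₁).hom _ _ hs₁ hl₁ hq₁
  have hcomm : j₁ ≫ CohB1.ProjSpaceOver.toBase n S = π₁ ≫ tt i₁ := hcomm0
  have hb₁ : IsProper (CohB1.ProjSpaceOver.toBase n S) := Groth.Agent.S9705.isProper_toBase n S
  have hPc : CompactSpace (CohB1.ProjSpaceOver n S) :=
    QuasiCompact.compactSpace_of_compactSpace (CohB1.ProjSpaceOver.toBase n S)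
  have hPq : QuasiSeparatedSpace (CohB1.ProjSpaceOver n S) :=
    quasiSeparatedSpace_of_quasiSeparated (CohB1.ProjSpaceOver.toBase n S)
  -- the base-changed diagram
  let G : Over (D'.obj i₁) ⥤ Scheme.{u} := Over.pullback π₁ ⋙ Over.forget X₁'
  let D'' : Over i₁ ⥤ Scheme.{u} := Over.post (X := i₁) D' ⋙ G
  let c'' : Cone D'' := G.mapCone (c'.overPost i₁)
  have hconn' : IsConnected (Over i₁) := IsCofiltered.isConnected _
  have hpres1 : PreservesLimitsOfSize.{u, u} (Over.pullback π₁) :=
    (Over.mapPullbackAdj π₁).rightAdjoint_preservesLimits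
  have hc'' : IsLimit c'' :=
    isLimitOfPreserves (Over.forget X₁')
      (isLimitOfPreserves (Over.pullback π₁) (hc'.overPost i₁))
  -- the structure maps to `X₁'` and to `X_k`
  let sE : ∀ k : Over i₁, D''.obj k ⟶ X₁' := fun k => pullback.snd (D'.map k.hom) π₁
  let fE : ∀ k : Over i₁, D''.obj k ⟶ D'.obj k.left := fun k => pullback.fst (D'.map k.hom) π₁
  have hEpb : ∀ k : Over i₁, IsPullback (fE k) (sE k) (D'.map k.hom) π₁ := fun k =>
    IsPullback.of_hasPullback (D'.map k.hom) π₁
  have hEcl : ∀ k, IsClosedImmersion (sE k) := fun k =>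
    MorphismProperty.of_isPullback (P := @IsClosedImmersion) (hEpb k) (hcl' _ _ k.hom)
  have hfstp : ∀ k : Over i₁, IsProper (fE k) := fun k =>
    MorphismProperty.of_isPullback (P := @IsProper) (hEpb k).flip hπp
  have hfsts : ∀ k : Over i₁, Surjective (fE k) := fun k =>
    MorphismProperty.of_isPullback (P := @Surjective) (hEpb k).flip hπs
  have hDmap : ∀ (k l : Over i₁) (a : k ⟶ l), D''.map a ≫ sE l = sE k := fun k l a =>
    Over.w ((Over.pullback π₁).map ((Over.post (X := i₁) D').map a))
  let t'' : D'' ⟶ (Functor.const (Over i₁)).obj (CohB1.ProjSpaceOver n S) :=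
    { app := fun k => sE k ≫ j₁
      naturality := fun k l a => by
        change D''.map a ≫ sE l ≫ j₁ = (sE k ≫ j₁) ≫ 𝟙 _
        rw [Category.comp_id, ← Category.assoc, hDmap] }
  have hcl'' : ∀ (k l : Over i₁) (a : k ⟶ l), IsClosedImmersion (D''.map a) := fun k l a => by
    have h2 := hEcl l
    have h3 : IsClosedImmersion (D''.map a ≫ sE l) := by rw [hDmap]; exact hEcl k
    exact IsClosedImmersion.of_comp (D''.map a) (sE l)
  have hcpt'' : ∀ k, CompactSpace (D''.obj k) := fun k => by
    have := hfstp k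
    have := hcpt k.left
    exact QuasiCompact.compactSpace_of_compactSpace (fE k)
  have hqs'' : ∀ k, QuasiSeparatedSpace (D''.obj k) := fun k => by
    have := hfstp k
    have := hqs k.left
    exact quasiSeparatedSpace_of_quasiSeparated (fE k)
  have hlft'' : ∀ k, LocallyOfFiniteType (t''.app k) := fun k => by
    change LocallyOfFiniteType (sE k ≫ j₁)
    have := hEcl k
    infer_instance
  -- the limit maps to `P` by a closed immersion
  let k₀ : Over i₁ := Over.mk (𝟙 i₁)
  let sL : c''.pt ⟶ X₁' := pullback.snd (c'.π.app i₁) π₁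
  let fL : c''.pt ⟶ c'.pt := pullback.fst (c'.π.app i₁) π₁
  have hLpb : IsPullback fL sL (c'.π.app i₁) π₁ := IsPullback.of_hasPullback (c'.π.app i₁) π₁
  have hcπ : ∀ k : Over i₁, c''.π.app k ≫ sE k = sL := fun k =>
    Over.w ((Over.pullback π₁).map ((c'.overPost i₁).π.app k))
  have hcl_i₁ : IsClosedImmersion (c'.π.app i₁) := key_cl i₁ (IsCofiltered.minToRight _ _)
  have hsLcl : IsClosedImmersion sL :=
    MorphismProperty.of_isPullback (P := @IsClosedImmersion) hLpb hcl_i₁
  have hfLp : IsProper fL := MorphismProperty.of_isPullback (P := @IsProper) hLpb.flip hπp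
  have hcl0 : IsClosedImmersion (c''.π.app k₀ ≫ t''.app k₀) := by
    change IsClosedImmersion (c''.π.app k₀ ≫ sE k₀ ≫ j₁)
    rw [← Category.assoc, hcπ]
    have hw : (sL ≫ j₁) ≫ CohB1.ProjSpaceOver.toBase n S = fL ≫ pS := by
      rw [Category.assoc, hcomm, ← Category.assoc, ← hLpb.w, Category.assoc, htt_w]
    have hp : IsProper ((sL ≫ j₁) ≫ CohB1.ProjSpaceOver.toBase n S) := by
      rw [hw]; infer_instance
    have hp' : IsProper (sL ≫ j₁) := IsProper.of_comp _ (CohB1.ProjSpaceOver.toBase n S)
    have hi : IsImmersion (sL ≫ j₁) := inferInstance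
    exact IsClosedImmersion.of_isPreimmersion _ (Scheme.Hom.isClosedMap _).isClosed_range
  obtain ⟨k₂, hk₂⟩ := Groth.Agent.S0594.result (CohB1.ProjSpaceOver n S) D'' t'' c'' hc'' k₀
  -- properness at `k₂.left`
  have hprop₂ : IsProper (D.obj k₂.left).hom := by
    have hsep := key_sep k₂.left k₂.hom
    have hlft := (hD k₂.left).1
    have hw : fE k₂ ≫ tt k₂.left = t''.app k₂ ≫ CohB1.ProjSpaceOver.toBase n S := by
      change _ = (sE k₂ ≫ j₁) ≫ _
      rw [Category.assoc, hcomm, ← Category.assoc, ← (hEpb k₂).w, Category.assoc, htt_map]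
    have huc : UniversallyClosed (fE k₂ ≫ tt k₂.left) := by
      rw [hw]; infer_instance
    have hsurj : Surjective (fE k₂) := hfsts k₂
    have huc2 : UniversallyClosed (tt k₂.left) :=
      UniversallyClosed.of_comp_surjective (fE k₂) _
    have hsep' : IsSeparated (tt k₂.left) := hsep
    have hlft' : LocallyOfFiniteType (tt k₂.left) := hlft
    exact (show IsProper (tt k₂.left) from {})
  refine ⟨k₂.left, fun i a => ⟨?_, key_cl i (a ≫ k₂.hom ≫ IsCofiltered.minToRight _ _)⟩⟩
  have h : (D.map a).left ≫ (D.obj k₂.left).hom = (D.obj i).hom := Over.w (D.map a)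
  rw [← h]
  have := hcl _ _ a
  infer_instance

end Groth.Agent.R2.H87.LimProperB
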