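import Mathlib
import Groth.Prelude.Def_PicRel2
import Groth.Agent.Lib.Helper23PB

/-!
# Base change of the representing object of the relative Picard functor (helper87)
-/

set_option autoImplicit false
set_option linter.style.haveILetI false

namespace Groth.Agent.R2.H87.PicBC

open CategoryTheory CategoryTheory.Limits AlgebraicGeometry PicF PicRel

universe u

section Cl

variable {X Y Z : Scheme.{u}}

theorem pullCl_comp (f : X ⟶ Y) (g : Y ⟶ Z) (c : Cl Z) :
    pullCl (f ≫ g) c = pullCl f (pullCl g c) := by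
  induction c using Quot.ind with
  | mk L => exact Quot.sound ⟨((Scheme.Modules.pullbackComp f g).app L).symm⟩

theorem pullCl_id (c : Cl X) : pullCl (𝟙 X) c = c := by
  induction c using Quot.ind with
  | mk L => exact Quot.sound ⟨(Scheme.Modules.pullbackId X).app L⟩

theorem pullCl_congr {f g : X ⟶ Y} (h : f = g) (c : Cl Y) : pullCl f c = pullCl g c := by
  rw [h]

theorem isInvertibleCl_pullCl (f : X ⟶ Y) {c : Cl Y} (hc : IsInvertibleCl c) :
    IsInvertibleCl (pullCl f c) := by
  obtain ⟨L, rfl, hL⟩ := hc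
  exact ⟨_, rfl, Groth.Agent.Lib.Helper23.PB.isInvertible_pullback f L hL⟩

theorem pullCl_inv_hom (e : X ≅ Y) (c : Cl Y) : pullCl e.inv (pullCl e.hom c) = c := by
  rw [← pullCl_comp, e.inv_hom_id, pullCl_id]

theorem pullCl_hom_inv (e : X ≅ Y) (c : Cl X) : pullCl e.hom (pullCl e.inv c) = c := by
  rw [← pullCl_comp, e.hom_inv_id, pullCl_id]

end Cl

section Main

variable {X S S' : Scheme.{u}} (f : X ⟶ S) (g : S' ⟶ S)

/-- An `S'`-scheme viewed as an `S`-scheme. -/
abbrev dn (T : Over S') : Over S := Over.mk (T.hom ≫ g)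

/-- A morphism of `S'`-schemes viewed as a morphism of `S`-schemes. -/
abbrev dnHom {T T' : Over S'} (h : T' ⟶ T) : dn g T' ⟶ dn g T :=
  Over.homMk h.left (by simp [Over.w_assoc])

/-- The comparison `(X ×_S S') ×_{S'} T ≅ X ×_S T`. -/
noncomputable abbrev cmp (T : Over S') :
    XT (pullback.snd f g) T ≅ XT f (dn g T) :=
  pullbackLeftPullbackSndIso f g T.hom

set_option backward.isDefEq.respectTransparency false in
theorem cmp_inv_XTmap {T T' : Over S'} (h : T' ⟶ T) :
    (cmp f g T').inv ≫ XTmap (pullback.snd f g) h = XTmap f (dnHom g h) ≫ (cmp f g T).inv := by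
  rw [Iso.inv_comp_eq, ← Category.assoc, Iso.eq_comp_inv]
  apply pullback.hom_ext
  · simp [XTmap, cmp]
  · simp [XTmap, cmp]

/-- the transported family of maps -/
noncomputable abbrev φ' (P : Over S) (φ : ∀ T : Over S, Cl (XT f T) → (T ⟶ P)) (T : Over S')
    (c : Cl (XT (pullback.snd f g) T)) : T ⟶ Over.mk (pullback.snd P.hom g) :=
  Over.homMk
    (pullback.lift (φ (Over.mk (T.hom ≫ g))
      (pullCl (pullbackLeftPullbackSndIso f g T.hom).inv c)).left T.hom
      (Over.w (φ (Over.mk (T.hom ≫ g)) (pullCl (pullbackLeftPullbackSndIso f g T.hom).inv c))))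
    (pullback.lift_snd _ _ _)

variable (P : Over S) (φ : ∀ T : Over S, Cl (XT f T) → (T ⟶ P))

theorem φ'_left_fst (T : Over S') (c : Cl (XT (pullback.snd f g) T)) :
    (φ' f g P φ T c).left ≫ pullback.fst P.hom g =
      (φ (dn g T) (pullCl (cmp f g T).inv c)).left :=
  pullback.lift_fst _ _ _

omit f in
theorem hom_ext' {T : Over S'} (γ γ' : T ⟶ Over.mk (pullback.snd P.hom g))
    (h : γ.left ≫ pullback.fst P.hom g = γ'.left ≫ pullback.fst P.hom g) : γ = γ' := by
  apply Over.OverMorphism.ext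
  apply pullback.hom_ext h
  exact (Over.w γ).trans (Over.w γ').symm

set_option backward.isDefEq.respectTransparency false in
omit g in
theorem XTmap_comp {T T' T'' : Over S} (a : T'' ⟶ T') (b : T' ⟶ T) :
    XTmap f (a ≫ b) = XTmap f a ≫ XTmap f b := by
  apply pullback.hom_ext
  · simp [XTmap]
  · simp [XTmap]

/-- the identity of `U` as a morphism between the two ways of viewing an étale `T`-scheme over `S` -/
abbrev assocHom (T : Over S') (U : T.left.Etale) : dn g (ovr T U) ⟶ ovr (dn g T) U :=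
  Over.homMk (𝟙 _) (by simp)

omit f in
theorem dnHom_ovrHom (T : Over S') (U : T.left.Etale) :
    dnHom g (ovrHom T U) = assocHom g T U ≫ ovrHom (dn g T) U := by
  apply Over.OverMorphism.ext
  simp

theorem isRelPic_baseChange (hP : IsRelPic f P φ) :
    IsRelPic (pullback.snd f g) (Over.mk (pullback.snd P.hom g)) (φ' f g P φ) := by
  refine ⟨?_, ?_, ?_⟩
  · intro T T' h c hc
    apply hom_ext'
    rw [φ'_left_fst, Over.comp_left, Category.assoc, φ'_left_fst]
    have h1 := hP.natural (dn g T) (dn g T') (dnHom g h) (pullCl (cmp f g T).inv c)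
      (isInvertibleCl_pullCl _ hc)
    have h2 : pullCl (cmp f g T').inv (pullCl (XTmap (pullback.snd f g) h) c) =
        pullCl (XTmap f (dnHom g h)) (pullCl (cmp f g T).inv c) := by
      rw [← pullCl_comp, ← pullCl_comp, cmp_inv_XTmap]
    rw [h2, h1]
    rfl
  · intro T γ
    let γ₀ : dn g T ⟶ P := Over.homMk (γ.left ≫ pullback.fst P.hom g) (by
      have h1 : γ.left ≫ pullback.snd P.hom g = T.hom := Over.w γ
      change (γ.left ≫ pullback.fst P.hom g) ≫ P.hom = T.hom ≫ g
      rw [Category.assoc, pullback.condition, ← Category.assoc, h1])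
    obtain ⟨ι, U, hU, hc⟩ := hP.locallySurjective (dn g T) γ₀
    refine ⟨ι, U, hU, fun k => ?_⟩
    obtain ⟨c₀, hc₀, hφ⟩ := hc k
    refine ⟨pullCl (cmp f g (ovr T (U k))).hom (pullCl (XTmap f (assocHom g T (U k))) c₀),
      isInvertibleCl_pullCl _ (isInvertibleCl_pullCl _ hc₀), ?_⟩
    apply hom_ext'
    rw [φ'_left_fst, pullCl_inv_hom]
    have h1 := hP.natural _ _ (assocHom g T (U k)) c₀ hc₀
    rw [h1, hφ]
    simp [γ₀]
  · intro T c c' hc hc' heq
    have h0 : φ (dn g T) (pullCl (cmp f g T).inv c) = φ (dn g T) (pullCl (cmp f g T).inv c') := by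
      apply Over.OverMorphism.ext
      rw [← φ'_left_fst, ← φ'_left_fst, heq]
    obtain ⟨ι, U, hU, hk⟩ := hP.locallyInjective (dn g T) _ _ (isInvertibleCl_pullCl _ hc)
      (isInvertibleCl_pullCl _ hc') h0
    refine ⟨ι, U, hU, fun k => ?_⟩
    have key : ∀ d : Cl (XT (pullback.snd f g) T),
        pullCl (XTmap (pullback.snd f g) (ovrHom T (U k))) d =
        pullCl (cmp f g (ovr T (U k))).hom (pullCl (XTmap f (assocHom g T (U k)))
          (pullCl (XTmap f (ovrHom (dn g T) (U k))) (pullCl (cmp f g T).inv d))) := by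
      intro d
      rw [← pullCl_comp (XTmap f (assocHom g T (U k))), ← XTmap_comp, ← dnHom_ovrHom,
        ← pullCl_comp (XTmap f (dnHom g (ovrHom T (U k)))), ← cmp_inv_XTmap, pullCl_comp,
        pullCl_hom_inv]
    rw [key c, key c', hk k]

end Main

end Groth.Agent.R2.H87.PicBC
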