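import Mathlib

/-!
# Affine Zariski covering systems over cofinite posets (helper87)

For a poset `Λ` with finite down-sets and an inverse system `X : Λᵒᵖ ⥤ Scheme` of qcqs schemes we
construct an inverse system `Y` of affine schemes with a morphism `Y ⟶ X` which is levelwise a
Zariski covering (a finite disjoint union of affine opens covering `X_λ`).

Construction: by well-founded recursion we choose finite sets `C l` of affine opens of `X_l` such
that any family of opens `b m ∈ C m` (`m < l`) and any point `x` of `X_l` mapping into all `b m`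
admits `W ∈ C l` with `x ∈ W ⊆ ⋂ p⁻¹ (b m)`.  `Y_l` is the disjoint union, over all "threads"
(compatible families `a m ∈ C m`, `m ≤ l`), of `a l`.
-/

set_option autoImplicit false
universe u v
open CategoryTheory AlgebraicGeometry Opposite TopologicalSpace
open scoped Classical

namespace Groth.Agent.R2.H87.ZarSys

section Cov

variable {Z : Scheme.{u}}

lemma exists_cov (O : Z.Opens) (h : IsCompact (O : Set Z)) :
    ∃ s : Set Z.Opens, s.Finite ∧ (∀ W ∈ s, IsAffineOpen W) ∧ (∀ W ∈ s, W ≤ O) ∧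
      ∀ x ∈ O, ∃ W ∈ s, x ∈ W := by
  obtain ⟨s, hs, hO⟩ := (isCompact_iff_finite_and_eq_biUnion_affineOpens (U := O)).mp h
  refine ⟨Subtype.val '' s, hs.image _, ?_, ?_, ?_⟩
  · rintro _ ⟨W, -, rfl⟩; exact W.2
  · rintro _ ⟨W, hW, rfl⟩
    rw [hO]
    exact le_iSup₂ (f := fun (i : Z.affineOpens) (_ : i ∈ s) => (i : Z.Opens)) W hW
  · intro x hx
    rw [hO] at hx
    simp only [Opens.mem_iSup] at hx
    obtain ⟨W, hW, hxW⟩ := hx
    exact ⟨W, ⟨W, hW, rfl⟩, hxW⟩

/-- A chosen finite affine cover of a quasi-compact open (empty otherwise). -/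
noncomputable def cov (O : Z.Opens) : Set Z.Opens :=
  if h : IsCompact (O : Set Z) then (exists_cov O h).choose else ∅

lemma cov_finite (O : Z.Opens) : (cov O).Finite := by
  unfold cov; split_ifs with h
  · exact (exists_cov O h).choose_spec.1
  · exact Set.finite_empty

lemma cov_affine {O W : Z.Opens} (hW : W ∈ cov O) : IsAffineOpen W := by
  unfold cov at hW; split_ifs at hW with h
  · exact (exists_cov O h).choose_spec.2.1 W hW
  · exact hW.elim

lemma cov_le {O W : Z.Opens} (hW : W ∈ cov O) : W ≤ O := by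
  unfold cov at hW; split_ifs at hW with h
  · exact (exists_cov O h).choose_spec.2.2.1 W hW
  · exact hW.elim

lemma cov_cover {O : Z.Opens} (h : IsCompact (O : Set Z)) {x : Z} (hx : x ∈ O) :
    ∃ W ∈ cov O, x ∈ W := by
  unfold cov; rw [dif_pos h]
  exact (exists_cov O h).choose_spec.2.2.2 x hx

lemma isCompact_iInf [CompactSpace Z] [QuasiSeparatedSpace Z] {ι : Type*} [Finite ι]
    (U : ι → Z.Opens) (hU : ∀ i, IsCompact (U i : Set Z)) :
    IsCompact ((⨅ i, U i : Z.Opens) : Set Z) := by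
  rw [Opens.coe_iInf]
  rw [← Set.sInter_range]
  refine QuasiSeparatedSpace.isCompact_sInter (Set.finite_range _) ?_ ?_
  · rintro _ ⟨i, rfl⟩; exact Or.inl (U i).isOpen
  · rintro _ ⟨i, rfl⟩; exact hU i

end Cov

variable {Λ : Type v} [PartialOrder Λ] (hΛ : ∀ l : Λ, (Set.Iic l).Finite) (X : Λᵒᵖ ⥤ Scheme.{u})

/-- transition map `X_l ⟶ X_m` for `m ≤ l`. -/
abbrev p {m l : Λ} (h : m ≤ l) : X.obj (op l) ⟶ X.obj (op m) := X.map (homOfLE h).op

lemma p_refl (l : Λ) : p X (le_refl l) = 𝟙 _ := by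
  have : (homOfLE (le_refl l)).op = 𝟙 (op l) := rfl
  unfold p; rw [this, X.map_id]

lemma p_trans {k m l : Λ} (hkm : k ≤ m) (hml : m ≤ l) :
    p X hml ≫ p X hkm = p X (hkm.trans hml) := by
  unfold p; rw [← X.map_comp]; rfl

lemma map_eq {l m : Λ} (f : op l ⟶ op m) : X.map f = p X (leOfHom f.unop) :=
  congrArg X.map (Quiver.Hom.unop_inj (Subsingleton.elim _ _))

include hΛ in
lemma wf : WellFounded ((· < ·) : Λ → Λ → Prop) := by
  have hsub : ∀ m l : Λ, m < l → (hΛ m).toFinset.card < (hΛ l).toFinset.card := by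
    intro m l h
    apply Finset.card_lt_card
    rw [Finset.ssubset_iff_of_subset]
    · refine ⟨l, by simp, ?_⟩
      simp only [Set.Finite.mem_toFinset, Set.mem_Iic]
      exact not_le_of_gt h
    · intro k; simp only [Set.Finite.mem_toFinset, Set.mem_Iic]; exact fun hk => hk.trans h.le
  exact Subrelation.wf (fun {a b} h => hsub a b h) (InvImage.wf (fun l => (hΛ l).toFinset.card) Nat.lt_wfRel.wf)

include hΛ in
lemma finite_Iio (l : Λ) : Finite {m // m < l} :=
  ((hΛ l).subset (fun m (hm : m < l) => hm.le)).to_subtype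

include hΛ in
lemma finite_Iic (l : Λ) : Finite {m // m ≤ l} := (hΛ l).to_subtype

/-- recursion step. -/
noncomputable def Cstep (l : Λ) (C : ∀ m, m < l → Set (X.obj (op m)).Opens) :
    Set (X.obj (op l)).Opens :=
  ⋃ b ∈ {b : ∀ m : {m // m < l}, (X.obj (op m.1)).Opens | ∀ m, b m ∈ C m.1 m.2},
    cov (⨅ m : {m // m < l}, (p X m.2.le) ⁻¹ᵁ (b m))

/-- the chosen finite sets of affine opens. -/
noncomputable def C (l : Λ) : Set (X.obj (op l)).Opens := (wf hΛ).fix (Cstep X) l

lemma C_eq (l : Λ) : C hΛ X l = Cstep X l (fun m _ => C hΛ X m) :=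
  WellFounded.fix_eq _ _ _

lemma C_affine {l : Λ} {W : (X.obj (op l)).Opens} (hW : W ∈ C hΛ X l) : IsAffineOpen W := by
  rw [C_eq] at hW
  simp only [Cstep, Set.mem_iUnion] at hW
  obtain ⟨b, -, hW⟩ := hW
  exact cov_affine hW

lemma C_finite (l : Λ) : (C hΛ X l).Finite := by
  induction l using (wf hΛ).induction with
  | _ l ih =>
    rw [C_eq]
    have := finite_Iio hΛ l
    refine Set.Finite.biUnion ?_ (fun b _ => cov_finite _)
    exact Set.Finite.pi' (fun (m : {m // m < l}) => ih m.1 m.2)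

/-- Threads: compatible families of chosen affine opens on the down-set of `l`. -/
structure Thread (l : Λ) where
  a : ∀ m, m ≤ l → (X.obj (op m)).Opens
  mem : ∀ m h, a m h ∈ C hΛ X m
  compat : ∀ m (h : m ≤ l) k (hk : k ≤ m), a m h ≤ (p X hk) ⁻¹ᵁ (a k (hk.trans h))

variable {hΛ X}

/-- restriction of threads. -/
abbrev Thread.restrict {l m : Λ} (t : Thread hΛ X l) (h : m ≤ l) : Thread hΛ X m where
  a k hk := t.a k (hk.trans h)
  mem k _ := t.mem k _
  compat k _ j hj := t.compat k _ j hj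

/-- top open of a thread. -/
abbrev Thread.top {l : Λ} (t : Thread hΛ X l) : (X.obj (op l)).Opens := t.a l le_rfl

lemma Thread.restrict_refl {l : Λ} (t : Thread hΛ X l) : t.restrict le_rfl = t := rfl

lemma Thread.restrict_trans {l m k : Λ} (t : Thread hΛ X l) (h : m ≤ l) (h' : k ≤ m) :
    (t.restrict h).restrict h' = t.restrict (h'.trans h) := rfl

variable (hΛ X)

instance thread_finite (l : Λ) : Finite (Thread hΛ X l) := by
  have := finite_Iic hΛ l
  have : ∀ m : {m // m ≤ l}, Finite ↥(C hΛ X m.1) := fun m => (C_finite hΛ X m.1).to_subtype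
  let φ : Thread hΛ X l → (∀ m : {m // m ≤ l}, ↥(C hΛ X m.1)) :=
    fun t m => ⟨t.a m.1 m.2, t.mem m.1 m.2⟩
  refine Finite.of_injective φ (fun t t' h => ?_)
  cases t; cases t'
  congr
  funext m hm
  exact congrArg Subtype.val (congrFun h ⟨m, hm⟩)


/-- the disjoint union of the top opens of all threads. -/
noncomputable abbrev Yobj (l : Λ) : Scheme.{u} :=
  ∐ (fun t : Thread hΛ X l => (t.top : Scheme.{u}))

variable {hΛ X} in
/-- restriction of the transition map to top opens of a thread. -/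
noncomputable def res {l m : Λ} (t : Thread hΛ X l) (h : m ≤ l) :
    (t.top : Scheme.{u}) ⟶ ((t.restrict h).top : Scheme.{u}) :=
  (p X h).resLE _ _ (t.compat l le_rfl m h)

variable {hΛ X} in
lemma res_ι {l m : Λ} (t : Thread hΛ X l) (h : m ≤ l) :
    res t h ≫ (t.restrict h).top.ι = t.top.ι ≫ p X h :=
  Scheme.Hom.resLE_comp_ι _ _

/-- transition maps of `Y`. -/
noncomputable def Ymap {l m : Λ} (h : m ≤ l) : Yobj hΛ X l ⟶ Yobj hΛ X m :=
  Limits.Sigma.desc (fun t : Thread hΛ X l => res t h ≫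
    Limits.Sigma.ι (fun t : Thread hΛ X m => (t.top : Scheme.{u})) (t.restrict h))

lemma ι_Ymap {l m : Λ} (h : m ≤ l) (t : Thread hΛ X l) :
    Limits.Sigma.ι (fun t : Thread hΛ X l => (t.top : Scheme.{u})) t ≫ Ymap hΛ X h =
      res t h ≫ Limits.Sigma.ι (fun t : Thread hΛ X m => (t.top : Scheme.{u})) (t.restrict h) := by
  unfold Ymap
  exact Limits.Sigma.ι_desc _ _

lemma Ymap_refl (l : Λ) : Ymap hΛ X (le_refl l) = 𝟙 _ := by
  refine Limits.Sigma.hom_ext _ _ (fun t => ?_)
  rw [ι_Ymap, Category.comp_id]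
  have : res t (le_refl l) = 𝟙 _ := by
    rw [← cancel_mono (t.restrict (le_refl l)).top.ι, res_ι, p_refl]
    simp
  rw [this, Category.id_comp]

lemma Ymap_trans {k m l : Λ} (hkm : k ≤ m) (hml : m ≤ l) :
    Ymap hΛ X hml ≫ Ymap hΛ X hkm = Ymap hΛ X (hkm.trans hml) := by
  refine Limits.Sigma.hom_ext _ _ (fun t => ?_)
  rw [ι_Ymap, ← Category.assoc, ι_Ymap, Category.assoc, ι_Ymap, ← Category.assoc]
  have : res t hml ≫ res (t.restrict hml) hkm = res t (hkm.trans hml) := by
    rw [← cancel_mono ((t.restrict hml).restrict hkm).top.ι, Category.assoc, res_ι,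
      ← Category.assoc, res_ι, Category.assoc, p_trans]
    exact (res_ι t (hkm.trans hml)).symm
  rw [this]

/-- the inverse system of affine schemes. -/
noncomputable def Y : Λᵒᵖ ⥤ Scheme.{u} where
  obj l := Yobj hΛ X l.unop
  map f := Ymap hΛ X (leOfHom f.unop)
  map_id l := Ymap_refl hΛ X l.unop
  map_comp f g := (Ymap_trans hΛ X (leOfHom g.unop) (leOfHom f.unop)).symm

/-- the components of the covering map. -/
noncomputable def πapp (l : Λ) : Yobj hΛ X l ⟶ X.obj (op l) :=
  Limits.Sigma.desc (fun t : Thread hΛ X l => t.top.ι)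

lemma ι_πapp (l : Λ) (t : Thread hΛ X l) :
    Limits.Sigma.ι (fun t : Thread hΛ X l => (t.top : Scheme.{u})) t ≫ πapp hΛ X l = t.top.ι := by
  unfold πapp
  exact Limits.Sigma.ι_desc _ _

/-- the covering map. -/
noncomputable def π : Y hΛ X ⟶ X where
  app l := πapp hΛ X l.unop
  naturality l m f := by
    refine Limits.Sigma.hom_ext _ _ (fun t => ?_)
    change _ ≫ Ymap hΛ X (leOfHom f.unop) ≫ πapp hΛ X m.unop = _ ≫ πapp hΛ X l.unop ≫ X.map f
    rw [← Category.assoc, ι_Ymap, Category.assoc, ι_πapp, res_ι, ← Category.assoc, ι_πapp]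
    rw [map_eq X f]

variable [∀ l : Λ, CompactSpace ↥(X.obj (op l))] [∀ l : Λ, QuasiSeparatedSpace ↥(X.obj (op l))]

/-- Key property of the recursion. -/
lemma C_refine (l : Λ) (x : X.obj (op l)) (b : ∀ m : Λ, (X.obj (op m)).Opens)
    (hb : ∀ m (h : m < l), b m ∈ C hΛ X m ∧ (p X h.le) x ∈ b m) :
    ∃ W ∈ C hΛ X l, x ∈ W ∧ ∀ m (h : m < l), W ≤ (p X h.le) ⁻¹ᵁ (b m) := by
  have := finite_Iio hΛ l
  set O : (X.obj (op l)).Opens := ⨅ m : {m // m < l}, (p X m.2.le) ⁻¹ᵁ (b m.1) with hO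
  have hOc : IsCompact (O : Set (X.obj (op l))) := by
    refine isCompact_iInf _ (fun m => ?_)
    exact QuasiCompact.isCompact_preimage (f := p X m.2.le) _ (b m.1).isOpen
      (C_affine hΛ X (hb m.1 m.2).1).isCompact
  have hxO : x ∈ O := by
    rw [hO, ← SetLike.mem_coe, Opens.coe_iInf, Set.mem_iInter]
    exact fun m => (hb m.1 m.2).2
  obtain ⟨W, hW, hxW⟩ := cov_cover hOc hxO
  refine ⟨W, ?_, hxW, fun m h => ?_⟩
  · rw [C_eq]
    simp only [Cstep, Set.mem_iUnion]
    exact ⟨fun m => b m.1, fun m => (hb m.1 m.2).1, hW⟩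
  · exact (cov_le hW).trans (iInf_le (fun m : {m // m < l} => (p X m.2.le) ⁻¹ᵁ (b m.1)) ⟨m, h⟩)

/-- Existence of threads through a point, on a finite lower set. -/
lemma exists_thread_on (l : Λ) (x : X.obj (op l)) (D : Finset Λ) (hDl : ∀ m ∈ D, m ≤ l)
    (hD : ∀ m ∈ D, ∀ k, k ≤ m → k ∈ D) :
    ∃ a : ∀ m : Λ, (X.obj (op m)).Opens, ∀ m (_ : m ∈ D) (h : m ≤ l),
      a m ∈ C hΛ X m ∧ (p X h) x ∈ a m ∧ ∀ k (hk : k ≤ m), a m ≤ (p X hk) ⁻¹ᵁ (a k) := by
  induction D using Finset.strongInduction with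
  | H D ih =>
    rcases D.eq_empty_or_nonempty with rfl | hne
    · exact ⟨fun _ => ⊥, fun m hm => absurd hm (Finset.notMem_empty m)⟩
    · obtain ⟨M, hMD, hMmax⟩ := D.exists_maximal hne
      have hMmax' : ∀ m ∈ D, M ≤ m → m = M := fun m hm hMm =>
        le_antisymm (hMmax hm hMm) hMm
      obtain ⟨a', ha'⟩ := ih (D.erase M) (Finset.erase_ssubset hMD)
        (fun m hm => hDl m (Finset.mem_of_mem_erase hm))
        (fun m hm k hk => by
          refine Finset.mem_erase.mpr ⟨?_, hD m (Finset.mem_of_mem_erase hm) k hk⟩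
          rintro rfl
          exact (Finset.ne_of_mem_erase hm) (hMmax' m (Finset.mem_of_mem_erase hm) hk))
      have hMl := hDl M hMD
      have hlt : ∀ m, m < M → m ∈ D.erase M := fun m h =>
        Finset.mem_erase.mpr ⟨h.ne, hD M hMD m h.le⟩
      obtain ⟨W, hWC, hxW, hWle⟩ := C_refine hΛ X M ((p X hMl) x) a' (fun m h => by
        obtain ⟨h1, h2, -⟩ := ha' m (hlt m h) (h.le.trans hMl)
        refine ⟨h1, ?_⟩
        rw [← Scheme.Hom.comp_apply, p_trans]
        exact h2)
      refine ⟨Function.update a' M W, fun m hm h => ?_⟩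
      by_cases hmM : m = M
      · subst hmM
        simp only [Function.update_self]
        refine ⟨hWC, hxW, fun k hk => ?_⟩
        by_cases hkm : k = m
        · subst hkm
          simp only [Function.update_self]
          rw [p_refl]; rfl
        · rw [Function.update_of_ne hkm]
          exact hWle k (lt_of_le_of_ne hk hkm)
      · have hm' : m ∈ D.erase M := Finset.mem_erase.mpr ⟨hmM, hm⟩
        rw [Function.update_of_ne hmM]
        obtain ⟨h1, h2, h3⟩ := ha' m hm' h
        refine ⟨h1, h2, fun k hk => ?_⟩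
        have hkM : k ≠ M := by
          rintro rfl
          exact hmM (hMmax' m hm hk)
        rw [Function.update_of_ne hkM]
        exact h3 k hk

lemma exists_thread (l : Λ) (x : X.obj (op l)) : ∃ t : Thread hΛ X l, x ∈ t.top := by
  obtain ⟨a, ha⟩ := exists_thread_on hΛ X l x (hΛ l).toFinset (fun m hm => by simpa using hm)
    (fun m hm k hk => by
      simp only [Set.Finite.mem_toFinset, Set.mem_Iic] at hm ⊢
      exact hk.trans hm)
  have hmem : ∀ m, m ≤ l → m ∈ (hΛ l).toFinset := fun m h => by simpa using h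
  refine ⟨⟨fun m _ => a m, fun m h => (ha m (hmem m h) h).1,
    fun m h k hk => (ha m (hmem m h) h).2.2 k hk⟩, ?_⟩
  have := (ha l (hmem l le_rfl) le_rfl).2.1
  rw [p_refl] at this
  exact this

omit [∀ l : Λ, CompactSpace ↥(X.obj (op l))] [∀ l : Λ, QuasiSeparatedSpace ↥(X.obj (op l))] in
lemma isAffine_Yobj (l : Λ) : IsAffine (Yobj hΛ X l) := by
  have : ∀ t : Thread hΛ X l, IsAffine (t.top : Scheme.{u}) :=
    fun t => C_affine hΛ X (t.mem l le_rfl)
  infer_instance

lemma surjective_πapp (l : Λ) : Surjective (πapp hΛ X l) := by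
  refine ⟨fun x => ?_⟩
  obtain ⟨t, hx⟩ := exists_thread hΛ X l x
  obtain ⟨y, rfl⟩ : ∃ y : (t.top : Scheme.{u}), t.top.ι y = x := ⟨⟨x, hx⟩, rfl⟩
  refine ⟨(Limits.Sigma.ι (fun t : Thread hΛ X l => (t.top : Scheme.{u})) t) y, ?_⟩
  rw [← Scheme.Hom.comp_apply, ι_πapp]

omit [∀ l : Λ, CompactSpace ↥(X.obj (op l))] [∀ l : Λ, QuasiSeparatedSpace ↥(X.obj (op l))] in
lemma exists_disjoint_cover (l : Λ) :
    ∃ (ι : Type u) (U : ι → (Yobj hΛ X l).Opens),
      Pairwise (fun i j => Disjoint (U i) (U j)) ∧ iSup U = ⊤ ∧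
        ∀ i, IsOpenImmersion ((U i).ι ≫ πapp hΛ X l) := by
  let g : Thread hΛ X l → Scheme.{u} := fun t => (t.top : Scheme.{u})
  let e := equivShrink.{u} (Thread hΛ X l)
  refine ⟨Shrink.{u} (Thread hΛ X l), fun i => (Limits.Sigma.ι g (e.symm i)).opensRange,
    ?_, ?_, ?_⟩
  · intro i j hij
    exact disjoint_opensRange_sigmaι g _ _ (fun h => hij (e.symm.injective h))
  · have h1 : ⨆ t, (Limits.Sigma.ι g t).opensRange = ⊤ := (sigmaOpenCover g).iSup_opensRange
    rw [← h1]
    exact e.symm.surjective.iSup_comp (fun t => (Limits.Sigma.ι g t).opensRange)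
  · intro i
    have : (Limits.Sigma.ι g (e.symm i)).opensRange.ι ≫ πapp hΛ X l =
        (Limits.Sigma.ι g (e.symm i)).isoOpensRange.inv ≫ (e.symm i).top.ι := by
      rw [← Scheme.Hom.isoOpensRange_inv_comp, Category.assoc, ι_πapp]
    rw [this]
    infer_instance

include hΛ in
theorem main : ∃ (Y : Λᵒᵖ ⥤ Scheme.{u}) (π : Y ⟶ X), ∀ l : Λ,
      IsAffine (Y.obj (Opposite.op l)) ∧ Surjective (π.app (Opposite.op l)) ∧
        ∃ (ι : Type u) (U : ι → (Y.obj (Opposite.op l)).Opens),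
          Pairwise (fun i j => Disjoint (U i) (U j)) ∧ iSup U = ⊤ ∧
            ∀ i, IsOpenImmersion ((U i).ι ≫ π.app (Opposite.op l)) :=
  ⟨Y hΛ X, π hΛ X, fun l => ⟨isAffine_Yobj hΛ X l, surjective_πapp hΛ X l,
    exists_disjoint_cover hΛ X l⟩⟩

end Groth.Agent.R2.H87.ZarSys
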