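import Mathlib

/-!
# helper88: the Peskine–Szpiro acyclicity lemma in an elementary form

A complex of finitely generated modules `M_e → … → M_1 → M_0` (with `d i = 0` for `i ≥ e`) over a
Noetherian local ring, carrying a weakly regular sequence of length `e` inside the maximal ideal and
whose homology at the places `1, …, e` is torsion for every element of the maximal ideal, is exact at
those places.
-/

set_option autoImplicit false
set_option linter.unusedSectionVars false

namespace Groth.Agent.R2.H88.Acyclic

universe u v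

open RingTheory.Sequence
open Pointwise

section abstract

variable {R : Type u} [CommRing R] [IsLocalRing R] [IsNoetherianRing R]

/-- membership in `x • ⊤` -/
theorem mk_eq_zero_iff {M : Type v} [AddCommGroup M] [Module R M] (x : R) (z : M) :
    (Submodule.Quotient.mk z : QuotSMulTop x M) = 0 ↔ ∃ w : M, x • w = z := by
  rw [Submodule.Quotient.mk_eq_zero, Submodule.mem_smul_pointwise_iff_exists]
  simp

theorem acyclic_aux (e : ℕ) : ∀ (M : ℕ → Type v) [∀ i, AddCommGroup (M i)] [∀ i, Module R (M i)]
    [∀ i, Module.Finite R (M i)] (d : ∀ i, M (i + 1) →ₗ[R] M i) (rs : List R), rs.length = e →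
    (∀ x ∈ rs, x ∈ IsLocalRing.maximalIdeal R) →
    (∀ i, IsWeaklyRegular (M i) rs) → (∀ i z, d i (d (i + 1) z) = 0) → (∀ i, e ≤ i → d i = 0) →
    (∀ i, i < e → ∀ x ∈ IsLocalRing.maximalIdeal R, ∀ z, d i z = 0 →
      ∃ N : ℕ, x ^ N • z ∈ LinearMap.range (d (i + 1))) →
    ∀ i, i < e → ∀ z, d i z = 0 → z ∈ LinearMap.range (d (i + 1)) := by
  induction e with
  | zero => intro M _ _ _ d rs _ _ _ _ _ _ i hi; exact absurd hi (Nat.not_lt_zero i)
  | succ e ih =>
    intro M _ _ _ d rs hlen hmem hreg hcx htop htor
    match rs, hlen, hmem, hreg with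
    | [], hlen, _, _ => exact absurd hlen (by simp)
    | x :: rs', hlen, hmem, hreg =>
      have hx : x ∈ IsLocalRing.maximalIdeal R := hmem x (List.mem_cons_self)
      have hxreg : ∀ i, IsSMulRegular (M i) x := fun i =>
        ((isWeaklyRegular_cons_iff (M i) x rs').mp (hreg i)).1
      have hcancel : ∀ i (a b : M i), x • a = x • b → a = b := fun i a b h => hxreg i h
      -- the quotient complex
      have IH := ih (fun i => QuotSMulTop x (M (i + 1)))
        (fun i => QuotSMulTop.map x (d (i + 1))) rs' (by simpa using hlen)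
        (fun y hy => hmem y (List.mem_cons_of_mem _ hy))
        (fun i => ((isWeaklyRegular_cons_iff (M (i + 1)) x rs').mp (hreg (i + 1))).2)
        (by
          intro i z
          obtain ⟨z, rfl⟩ := Submodule.Quotient.mk_surjective _ z
          rw [QuotSMulTop.map_apply_mk, QuotSMulTop.map_apply_mk, hcx, Submodule.Quotient.mk_zero])
        (by
          intro i hi
          rw [htop (i + 1) (by omega), map_zero])
        (by
          intro i hi y hy z' hz'
          obtain ⟨z, rfl⟩ := Submodule.Quotient.mk_surjective _ z'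
          rw [QuotSMulTop.map_apply_mk, mk_eq_zero_iff] at hz'
          obtain ⟨w, hw⟩ := hz'
          have hw0 : d i w = 0 := by
            apply hcancel
            rw [smul_zero, ← map_smul, hw, hcx]
          obtain ⟨N, u, hu⟩ := htor i (by omega) y hy w hw0
          have hz1 : d (i + 1) (y ^ N • z - x • u) = 0 := by
            rw [map_sub, map_smul, map_smul, ← hw, hu, smul_comm, sub_self]
          obtain ⟨N', v, hv⟩ := htor (i + 1) (by omega) y hy _ hz1
          refine ⟨N' + N, Submodule.Quotient.mk v, ?_⟩
          rw [QuotSMulTop.map_apply_mk, hv, ← Submodule.Quotient.mk_smul, pow_add, mul_smul,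
            smul_sub, sub_eq_add_neg, Submodule.Quotient.mk_add, add_eq_left,
            Submodule.Quotient.mk_neg, neg_eq_zero, mk_eq_zero_iff]
          exact ⟨y ^ N' • u, by rw [smul_comm]⟩)
      intro j hj z hz
      rcases j with _ | i
      · -- place 1
        have L1 : ∀ z : M 1, d 0 z = 0 → x • z ∈ LinearMap.range (d 1) →
            z ∈ LinearMap.range (d 1) := by
          intro z _ hz2
          obtain ⟨v, hv⟩ := hz2
          rcases Nat.eq_zero_or_pos e with he | he
          · have h0 : d 1 = 0 := htop 1 (by omega)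
            rw [h0, LinearMap.zero_apply] at hv
            have : z = 0 := by
              apply hcancel
              rw [smul_zero, ← hv]
            rw [this]
            exact Submodule.zero_mem _
          · have hv' : QuotSMulTop.map x (d 1) (Submodule.Quotient.mk v) = 0 := by
              rw [QuotSMulTop.map_apply_mk, mk_eq_zero_iff]
              exact ⟨z, hv.symm⟩
            obtain ⟨u', hu'⟩ := IH 0 he _ hv'
            obtain ⟨u, rfl⟩ := Submodule.Quotient.mk_surjective _ u'
            rw [QuotSMulTop.map_apply_mk, ← sub_eq_zero, ← Submodule.Quotient.mk_sub,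
              mk_eq_zero_iff] at hu'
            obtain ⟨v2, hv2⟩ := hu'
            refine ⟨- v2, ?_⟩
            apply hcancel
            rw [← map_smul, smul_neg, hv2, neg_sub, map_sub, hcx, sub_zero, hv]
        obtain ⟨N, hN⟩ := htor 0 (by omega) x hx z hz
        induction N generalizing z with
        | zero => simpa using hN
        | succ N ihN =>
          apply ihN z hz
          apply L1 (x ^ N • z) (by rw [map_smul, hz, smul_zero])
          rwa [← mul_smul, ← pow_succ']
      · -- places ≥ 2 : Nakayama
        have hle : LinearMap.ker (d (i + 1)) ≤ LinearMap.range (d (i + 1 + 1)) := by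
          apply Submodule.le_of_le_smul_of_le_jacobson_bot (I := Ideal.span {x})
          · exact IsNoetherian.noetherian _
          · rw [IsLocalRing.jacobson_eq_maximalIdeal ⊥ bot_ne_top, Ideal.span_le]
            simpa using hx
          · intro z hz
            rw [LinearMap.mem_ker] at hz
            have hz' : QuotSMulTop.map x (d (i + 1)) (Submodule.Quotient.mk z) = 0 := by
              rw [QuotSMulTop.map_apply_mk, hz, Submodule.Quotient.mk_zero]
            obtain ⟨v', hv'⟩ := IH i (by omega) _ hz'
            obtain ⟨v, rfl⟩ := Submodule.Quotient.mk_surjective _ v'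
            rw [QuotSMulTop.map_apply_mk, ← sub_eq_zero, ← Submodule.Quotient.mk_sub,
              mk_eq_zero_iff] at hv'
            obtain ⟨w, hw⟩ := hv'
            have hw0 : d (i + 1) w = 0 := by
              apply hcancel
              rw [smul_zero, ← map_smul, hw, map_sub, hcx, hz, sub_zero]
            have hzeq : z = d (i + 1 + 1) v + x • (- w) := by
              rw [smul_neg, hw]; abel
            rw [hzeq]
            refine Submodule.add_mem_sup ⟨v, rfl⟩ ?_
            exact Submodule.smul_mem_smul (Ideal.mem_span_singleton_self x)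
              (by rw [LinearMap.mem_ker, map_neg, hw0, neg_zero])
        exact hle hz

end abstract

section pi

variable {R : Type u} [CommRing R]

theorem smul_top_eq_pi {ι : Type*} [Finite ι] (M : Type v) [AddCommGroup M] [Module R M] (x : R) :
    (x • (⊤ : Submodule R (ι → M))) = Submodule.pi Set.univ (fun _ : ι => x • (⊤ : Submodule R M)) := by
  ext f
  rw [Submodule.mem_smul_pointwise_iff_exists, Submodule.mem_pi]
  constructor
  · rintro ⟨g, -, rfl⟩ i -
    exact Submodule.mem_smul_pointwise_iff_exists _ _ _ |>.mpr ⟨g i, trivial, rfl⟩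
  · intro h
    have h' : ∀ i, ∃ m : M, x • m = f i := by
      intro i
      obtain ⟨m, -, hm⟩ := (Submodule.mem_smul_pointwise_iff_exists _ _ _).mp (h i (Set.mem_univ i))
      exact ⟨m, hm⟩
    choose g hg using h'
    exact ⟨g, trivial, funext hg⟩

/-- `(ι → M) / x (ι → M) ≃ ι → M / x M` -/
noncomputable def quotPiEquiv (ι : Type) [Fintype ι] [DecidableEq ι] (M : Type v) [AddCommGroup M]
    [Module R M] (x : R) : QuotSMulTop x (ι → M) ≃ₗ[R] (ι → QuotSMulTop x M) :=
  (Submodule.quotEquivOfEq _ _ (smul_top_eq_pi M x)).trans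
    (Submodule.quotientPi (fun _ : ι => x • (⊤ : Submodule R M)))

theorem isWeaklyRegular_pi (ι : Type) [Fintype ι] [DecidableEq ι] (rs : List R) :
    ∀ (M : Type v) [AddCommGroup M] [Module R M], IsWeaklyRegular M rs →
      IsWeaklyRegular (ι → M) rs := by
  induction rs with
  | nil => intro M _ _ _; exact IsWeaklyRegular.nil R _
  | cons x rs ih =>
    intro M _ _ h
    rw [isWeaklyRegular_cons_iff] at h ⊢
    refine ⟨?_, ?_⟩
    · intro f g hfg
      funext i
      exact h.1 (congrFun hfg i)
    · exact ((quotPiEquiv ι M x).isWeaklyRegular_congr rs).mpr (ih _ h.2)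

end pi

section loc

variable {R : Type u} [CommRing R]

theorem exists_smul_mem_range {a b : ℕ} (B : Matrix (Fin a) (Fin b) R) (z : Fin a → R)
    (p : Ideal R) [p.IsPrime]
    (h : (algebraMap R (Localization.AtPrime p)) ∘ z ∈
      LinearMap.range (B.map (algebraMap R (Localization.AtPrime p))).mulVecLin) :
    ∃ s : R, s ∉ p ∧ s • z ∈ LinearMap.range B.mulVecLin := by
  obtain ⟨w, hw⟩ := h
  obtain ⟨s, hs⟩ := IsLocalization.exist_integer_multiples_of_finite p.primeCompl w
  choose w0 hw0 using hs
  have key : ∀ i, algebraMap R (Localization.AtPrime p) ((B.mulVec w0) i) =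
      algebraMap R (Localization.AtPrime p) ((s : R) * z i) := by
    intro i
    have h1 := congrFun hw i
    simp only [Matrix.mulVecLin_apply, Matrix.mulVec, dotProduct, Matrix.map_apply,
      Function.comp_apply] at h1
    simp only [Matrix.mulVec, dotProduct, map_sum, map_mul]
    rw [← h1, Finset.mul_sum]
    refine Finset.sum_congr rfl fun j _ => ?_
    rw [hw0 j, Algebra.smul_def]
    ring
  have key2 : ∀ i, ∃ c : p.primeCompl, (c : R) * (B.mulVec w0) i = (c : R) * ((s : R) * z i) :=
    fun i => (IsLocalization.eq_iff_exists p.primeCompl (Localization.AtPrime p)).mp (key i)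
  choose c hc using key2
  refine ⟨(∏ i, (c i : R)) * (s : R), ?_, ⟨(∏ i, (c i : R)) • w0, ?_⟩⟩
  · exact p.primeCompl.mul_mem (Submonoid.prod_mem _ (fun i _ => (c i).2)) s.2
  · rw [Matrix.mulVecLin_apply, Matrix.mulVec_smul]
    funext i
    simp only [Pi.smul_apply, smul_eq_mul]
    rw [← Finset.mul_prod_erase Finset.univ _ (Finset.mem_univ i)]
    rw [mul_comm (c i : R), mul_assoc, hc i]
    ring

theorem exists_pow_smul_mem_range [IsLocalRing R] {a b : ℕ} (B : Matrix (Fin a) (Fin b) R)
    (z : Fin a → R)
    (hloc : ∀ (p : Ideal R) [p.IsPrime], p ≠ IsLocalRing.maximalIdeal R →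
      (algebraMap R (Localization.AtPrime p)) ∘ z ∈
        LinearMap.range (B.map (algebraMap R (Localization.AtPrime p))).mulVecLin)
    (x : R) (hx : x ∈ IsLocalRing.maximalIdeal R) :
    ∃ N : ℕ, x ^ N • z ∈ LinearMap.range B.mulVecLin := by
  by_contra hcon
  simp only [not_exists] at hcon
  let I : Ideal R := Submodule.comap (LinearMap.toSpanSingleton R _ z) (LinearMap.range B.mulVecLin)
  have hI : ∀ r, r ∈ I ↔ r • z ∈ LinearMap.range B.mulVecLin := fun r => Iff.rfl
  have hdisj : Disjoint (I : Set R) (Submonoid.powers x) := by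
    rw [Set.disjoint_left]
    rintro r hr ⟨N, rfl⟩
    exact hcon N ((hI _).mp hr)
  obtain ⟨p, hp, hIp, hpd⟩ := Ideal.exists_le_prime_disjoint I (Submonoid.powers x) hdisj
  have hxp : x ∉ p := fun h => Set.disjoint_left.mp hpd h (Submonoid.mem_powers x)
  have hpm : p ≠ IsLocalRing.maximalIdeal R := fun h => hxp (h ▸ hx)
  obtain ⟨s, hs, hsz⟩ := exists_smul_mem_range B z p (hloc p hpm)
  exact hs (hIp ((hI s).mpr hsz))

end loc

section final

variable {R : Type u} [CommRing R] [IsLocalRing R] [IsNoetherianRing R]

theorem map_comp_mem_ker {a b : ℕ} (B : Matrix (Fin a) (Fin b) R) (z : Fin b → R)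
    (hz : B.mulVecLin z = 0) {S : Type*} [CommRing S] (f : R →+* S) :
    f ∘ z ∈ LinearMap.ker (B.map f).mulVecLin := by
  rw [LinearMap.mem_ker, Matrix.mulVecLin_apply]
  funext i
  rw [← RingHom.map_mulVec, ← Matrix.mulVecLin_apply, hz]
  simp

theorem main (e : ℕ) (he : 1 ≤ e) (n : ℕ → ℕ)
    (A : (i : ℕ) → Matrix (Fin (n i)) (Fin (n (i + 1))) R)
    (hA : ∀ i, i + 2 ≤ e → A i * A (i + 1) = 0)
    (rs : List R) (hlen : rs.length = e) (hmem : ∀ x ∈ rs, x ∈ IsLocalRing.maximalIdeal R)
    (hreg : RingTheory.Sequence.IsRegular R rs)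
    (hloc : ∀ (p : Ideal R) [p.IsPrime], p ≠ IsLocalRing.maximalIdeal R →
      LinearMap.ker ((A (e - 1)).map (algebraMap R (Localization.AtPrime p))).mulVecLin = ⊥ ∧
        ∀ i, i + 2 ≤ e →
          LinearMap.ker ((A i).map (algebraMap R (Localization.AtPrime p))).mulVecLin =
            LinearMap.range ((A (i + 1)).map (algebraMap R (Localization.AtPrime p))).mulVecLin) :
    LinearMap.ker (A (e - 1)).mulVecLin = ⊥ ∧
      ∀ i, i + 2 ≤ e → LinearMap.ker (A i).mulVecLin = LinearMap.range (A (i + 1)).mulVecLin := by
  classical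
  let A' : (i : ℕ) → Matrix (Fin (n i)) (Fin (n (i + 1))) R := fun i => if i < e then A i else 0
  have hA'1 : ∀ i, i < e → A' i = A i := fun i hi => if_pos hi
  have hA'2 : ∀ i, e ≤ i → A' i = 0 := fun i hi => if_neg (by omega)
  have key := acyclic_aux (R := R) e (fun i => Fin (n i) → R) (fun i => (A' i).mulVecLin) rs hlen hmem
    (fun i => isWeaklyRegular_pi (Fin (n i)) rs R hreg.toIsWeaklyRegular)
    (by
      intro i z
      by_cases h : i + 2 ≤ e
      · rw [hA'1 i (by omega), hA'1 (i + 1) (by omega), Matrix.mulVecLin_apply,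
          Matrix.mulVecLin_apply, Matrix.mulVec_mulVec, hA i h, Matrix.zero_mulVec]
      · rw [hA'2 (i + 1) (by omega), Matrix.mulVecLin_zero, LinearMap.zero_apply, map_zero])
    (by
      intro i hi
      rw [hA'2 i hi, Matrix.mulVecLin_zero])
    (by
      intro i hi x hx z hz
      apply exists_pow_smul_mem_range (A' (i + 1)) z _ x hx
      intro p _ hp
      rw [hA'1 i hi] at hz
      by_cases h : i + 2 ≤ e
      · rw [hA'1 (i + 1) (by omega), ← (hloc p hp).2 i h]
        exact map_comp_mem_ker (A i) z hz _
      · have hie : e - 1 = i := by omega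
        have h1 := (hloc p hp).1
        rw [hie] at h1
        have h2 := map_comp_mem_ker (A i) z hz (algebraMap R (Localization.AtPrime p))
        rw [h1, Submodule.mem_bot] at h2
        rw [h2]
        exact Submodule.zero_mem _)
  refine ⟨?_, ?_⟩
  · rw [eq_bot_iff]
    intro z hz
    rw [LinearMap.mem_ker] at hz
    have h1 := key (e - 1) (by omega) z (by rw [hA'1 (e - 1) (by omega)]; exact hz)
    rw [hA'2 (e - 1 + 1) (by omega), Matrix.mulVecLin_zero, LinearMap.range_zero] at h1
    exact h1
  · intro i hi
    apply le_antisymm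
    · intro z hz
      rw [LinearMap.mem_ker] at hz
      have h1 := key i (by omega) z (by rw [hA'1 i (by omega)]; exact hz)
      rwa [hA'1 (i + 1) (by omega)] at h1
    · rintro _ ⟨v, rfl⟩
      rw [LinearMap.mem_ker, Matrix.mulVecLin_apply, Matrix.mulVecLin_apply, Matrix.mulVec_mulVec,
        hA i hi, Matrix.zero_mulVec]

end final

end Groth.Agent.R2.H88.Acyclic
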