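import Mathlib
import Groth.Agent.Lib.Helper5IntDim

/-!
# ℤ-gradings via coactions `ρ : V →+* V[T;T⁻¹]`

A ℤ-grading of a commutative ring `V` is encoded by a ring homomorphism `ρ : V →+* V[T;T⁻¹]`
such that `V` is additively spanned by the *homogeneous* elements (`ρ v = C v * T n`).
The degree-zero part is the equalizer `deg0 ρ` of `ρ` and `C`.  Main results:

* `ringKrullDim_laurent` : `dim B[T;T⁻¹] = dim B + 1` for Noetherian `B`;
* `isNoetherianRing_deg0`;
* `exists_maximal_comap_eq` : maximal ideals of the degree-zero part are contracted;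
* `ringKrullDim_eq_deg0_add_one` : if `V` (Noetherian) has a homogeneous unit of nonzero degree,
  then `dim V = dim V₀ + 1`.
-/

set_option autoImplicit false
set_option linter.style.haveILetI false

open LaurentPolynomial

namespace Groth.Agent.R2.H88.Coact

section Loc

theorem ringKrullDim_le_of_isLocalization {R : Type*} [CommRing R] (M : Submonoid R)
    (S : Type*) [CommRing S] [Algebra R S] [IsLocalization M S] :
    ringKrullDim S ≤ ringKrullDim R := by
  rw [ringKrullDim_le_iff_height_le]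
  intro P hP
  rw [← IsLocalization.height_under M P]
  exact Ideal.height_le_ringKrullDim_of_ne_top (Ideal.IsPrime.ne_top (hP.under R))

end Loc

section Laurent

variable {V : Type*} [CommRing V]

theorem coeff_C_mul (c : V) (p : V[T;T⁻¹]) (n : ℤ) : (C c * p).coeff n = c * p.coeff n := by
  rw [← smul_eq_C_mul, AddMonoidAlgebra.coeff_smul]
  rfl

theorem coeff_C_mul_T (c : V) (m n : ℤ) :
    (C c * T m : V[T;T⁻¹]).coeff n = if m = n then c else 0 := by
  rw [← single_eq_C_mul_T, AddMonoidAlgebra.coeff_single, Finsupp.single_apply]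

theorem ringKrullDim_laurent (B : Type*) [CommRing B] [IsNoetherianRing B] :
    ringKrullDim B[T;T⁻¹] = ringKrullDim B + 1 := by
  apply le_antisymm
  · have h := ringKrullDim_le_of_isLocalization
      (Submonoid.powers (Polynomial.X : Polynomial B)) B[T;T⁻¹]
    rwa [Polynomial.ringKrullDim_of_isNoetherianRing] at h
  · let f : B[T;T⁻¹] →+* B := LaurentPolynomial.eval₂ (RingHom.id B) 1
    refine ringKrullDim_succ_le_of_surjective f ?_ (r := T 1 - 1) ?_ ?_
    · intro b
      exact ⟨C b, by simp [f]⟩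
    · have h1 : (T 1 - 1 : B[T;T⁻¹]) =
          algebraMap (Polynomial B) B[T;T⁻¹] (Polynomial.X - Polynomial.C 1) := by
        rw [algebraMap_eq_toLaurent, map_sub, Polynomial.toLaurent_X, Polynomial.toLaurent_C,
          map_one]
      rw [h1]
      apply IsLocalization.map_nonZeroDivisors_le
        (Submonoid.powers (Polynomial.X : Polynomial B)) B[T;T⁻¹]
      exact ⟨_, (Polynomial.monic_X_sub_C (1 : B)).mem_nonZeroDivisors, rfl⟩
    · simp [f]

end Laurent

section Coaction

variable {V : Type*} [CommRing V] (ρ : V →+* V[T;T⁻¹])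

/-- `v` is homogeneous of degree `n` for the coaction `ρ`. -/
def IsHomog (v : V) (n : ℤ) : Prop := ρ v = C v * T n

/-- The degree-zero part. -/
noncomputable def deg0 : Subring V := RingHom.eqLocus ρ (C : V →+* V[T;T⁻¹])

/-- `V` is additively spanned by homogeneous elements. -/
def Spans : Prop := ∀ v : V, v ∈ AddSubmonoid.closure {v | ∃ n, IsHomog ρ v n}

variable {ρ}

theorem mem_deg0 {v : V} : v ∈ deg0 ρ ↔ ρ v = C v := Iff.rfl

theorem isHomog_zero_iff {v : V} : IsHomog ρ v 0 ↔ v ∈ deg0 ρ := by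
  rw [IsHomog, T_zero, mul_one, mem_deg0]

theorem IsHomog.mul {x y : V} {n m : ℤ} (hx : IsHomog ρ x n) (hy : IsHomog ρ y m) :
    IsHomog ρ (x * y) (n + m) := by
  rw [IsHomog] at *
  rw [map_mul, hx, hy, map_mul, T_add]
  ring

theorem isHomog_one : IsHomog ρ 1 0 := by
  rw [IsHomog, map_one, map_one, T_zero, mul_one]

theorem isHomog_zero (n : ℤ) : IsHomog ρ 0 n := by
  rw [IsHomog, map_zero, map_zero, zero_mul]

theorem IsHomog.pow {x : V} {n : ℤ} (hx : IsHomog ρ x n) (k : ℕ) :
    IsHomog ρ (x ^ k) (k * n) := by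
  induction k with
  | zero => simpa using isHomog_one
  | succ k ih =>
    rw [pow_succ]
    have := ih.mul hx
    convert this using 1
    push_cast
    ring

theorem IsHomog.unit_inv (a : Vˣ) {d : ℤ} (h : IsHomog ρ (a : V) d) :
    IsHomog ρ ((a⁻¹ : Vˣ) : V) (-d) := by
  rw [IsHomog] at *
  have h1 : ρ ((a⁻¹ : Vˣ) : V) * ρ (a : V) = 1 := by
    rw [← map_mul, Units.inv_mul, map_one]
  have h2 : (C ((a⁻¹ : Vˣ) : V) * T (-d) : V[T;T⁻¹]) * ρ (a : V) = 1 := by
    rw [h]
    calc (C ((a⁻¹ : Vˣ) : V) * T (-d) : V[T;T⁻¹]) * (C (a : V) * T d)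
        = C (((a⁻¹ : Vˣ) : V) * (a : V)) * (T (-d) * T d) := by rw [map_mul]; ring
      _ = 1 := by rw [Units.inv_mul, map_one, ← T_add, neg_add_cancel, T_zero, mul_one]
  have hu : IsUnit (ρ (a : V)) := a.isUnit.map ρ
  exact hu.mul_left_injective (h1.trans h2.symm)

theorem IsHomog.unit_zpow (a : Vˣ) {d : ℤ} (h : IsHomog ρ (a : V) d) (m : ℤ) :
    IsHomog ρ ((a ^ m : Vˣ) : V) (m * d) := by
  have hnat : ∀ (b : Vˣ) (e : ℤ), IsHomog ρ (b : V) e → ∀ k : ℕ,
      IsHomog ρ ((b ^ k : Vˣ) : V) (k * e) := by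
    intro b e hb k
    rw [Units.val_pow_eq_pow_val]
    exact hb.pow k
  obtain ⟨k, rfl | rfl⟩ := m.eq_nat_or_neg
  · rw [zpow_natCast]
    exact hnat a d h k
  · rw [zpow_neg, zpow_natCast, ← inv_pow]
    have := hnat a⁻¹ (-d) (h.unit_inv a) k
    convert this using 1
    ring

/-- The projection to the degree-zero part (coefficient of `T^0`). -/
noncomputable def proj0 (ρ : V →+* V[T;T⁻¹]) : V →+ V where
  toFun v := (ρ v).coeff 0
  map_zero' := by simp
  map_add' x y := by simp

theorem proj0_apply (v : V) : proj0 ρ v = (ρ v).coeff 0 := rfl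

theorem proj0_of_isHomog {v : V} {n : ℤ} (h : IsHomog ρ v n) :
    proj0 ρ v = if n = 0 then v else 0 := by
  rw [proj0_apply, h, coeff_C_mul_T]

theorem proj0_of_mem {v : V} (hv : v ∈ deg0 ρ) : proj0 ρ v = v := by
  rw [proj0_of_isHomog (isHomog_zero_iff.mpr hv), if_pos rfl]

theorem proj0_mul_of_mem {c : V} (hc : c ∈ deg0 ρ) (v : V) :
    proj0 ρ (c * v) = c * proj0 ρ v := by
  rw [proj0_apply, map_mul, mem_deg0.mp hc, coeff_C_mul, proj0_apply]

theorem proj0_mem (hs : Spans ρ) (v : V) : proj0 ρ v ∈ deg0 ρ := by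
  induction hs v using AddSubmonoid.closure_induction with
  | mem x hx =>
    obtain ⟨n, hn⟩ := hx
    rw [proj0_of_isHomog hn]
    split_ifs with h0
    · subst h0; exact isHomog_zero_iff.mp hn
    · exact (deg0 ρ).zero_mem
  | zero => rw [map_zero]; exact (deg0 ρ).zero_mem
  | add x y _ _ hx hy => rw [map_add]; exact (deg0 ρ).add_mem hx hy

theorem comap_map_eq (hs : Spans ρ) (I : Ideal (deg0 ρ)) :
    (I.map (deg0 ρ).subtype).comap (deg0 ρ).subtype = I := by
  apply le_antisymm _ Ideal.le_comap_map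
  intro x hx
  have key : ∀ y ∈ I.map (deg0 ρ).subtype, ∀ r : V, ∃ i ∈ I, (i : V) = proj0 ρ (r * y) := by
    intro y hy
    induction hy using Submodule.span_induction with
    | mem y hy =>
      obtain ⟨i, hi, rfl⟩ := hy
      intro r
      refine ⟨⟨proj0 ρ r, proj0_mem hs r⟩ * i, I.mul_mem_left _ hi, ?_⟩
      rw [mul_comm r, Subring.coe_mul]
      change proj0 ρ r * (i : V) = proj0 ρ ((i : V) * r)
      rw [proj0_mul_of_mem i.2, mul_comm]
    | zero => intro r; exact ⟨0, I.zero_mem, by simp⟩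
    | add y z _ _ hy hz =>
      intro r
      obtain ⟨i, hi, hi'⟩ := hy r
      obtain ⟨j, hj, hj'⟩ := hz r
      exact ⟨i + j, I.add_mem hi hj, by rw [mul_add, map_add, ← hi', ← hj']; rfl⟩
    | smul s y _ hy =>
      intro r
      obtain ⟨i, hi, hi'⟩ := hy (r * s)
      exact ⟨i, hi, by rw [hi', smul_eq_mul, mul_assoc]⟩
  obtain ⟨i, hi, hi'⟩ := key _ hx 1
  rw [one_mul] at hi'
  have : i = x := Subtype.ext (by rw [hi']; exact proj0_of_mem x.2)
  rwa [← this]

theorem isNoetherianRing_deg0 (hs : Spans ρ) [IsNoetherianRing V] : IsNoetherianRing (deg0 ρ) := by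
  rw [isNoetherianRing_iff, isNoetherian_iff']
  have hV : WellFoundedGT (Ideal V) := (isNoetherian_iff' (R := V) (M := V)).mp inferInstance
  have hmono : StrictMono (fun I : Ideal (deg0 ρ) => I.map (deg0 ρ).subtype) := by
    apply Monotone.strictMono_of_injective
    · intro I J h; exact Ideal.map_mono h
    · intro I J h
      have := congrArg (Ideal.comap (deg0 ρ).subtype) h
      simpa only [comap_map_eq hs] using this
  exact hmono.wellFoundedGT

theorem exists_maximal_comap_eq (hs : Spans ρ) (M : Ideal (deg0 ρ)) [hM : M.IsMaximal] :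
    ∃ N : Ideal V, N.IsMaximal ∧ N.comap (deg0 ρ).subtype = M := by
  have hne : M.map (deg0 ρ).subtype ≠ ⊤ := by
    intro h
    have := comap_map_eq hs M
    rw [h, Ideal.comap_top] at this
    exact hM.ne_top this.symm
  obtain ⟨N, hN, hle⟩ := Ideal.exists_le_maximal _ hne
  refine ⟨N, hN, ?_⟩
  have h1 : M ≤ N.comap (deg0 ρ).subtype := by
    rw [← comap_map_eq hs M]
    exact Ideal.comap_mono hle
  have h2 : N.comap (deg0 ρ).subtype ≠ ⊤ := (Ideal.IsPrime.comap _ (hK := hN.isPrime)).ne_top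
  exact (hM.eq_of_le h2 h1).symm

end Coaction

section Dim

variable {V : Type*} [CommRing V] {ρ : V →+* V[T;T⁻¹]}

/-- The evaluation map `V₀[T;T⁻¹] → V`, `T ↦ a`. -/
noncomputable def evalUnit (ρ : V →+* V[T;T⁻¹]) (a : Vˣ) : (deg0 ρ)[T;T⁻¹] →+* V :=
  LaurentPolynomial.eval₂ (deg0 ρ).subtype a

theorem evalUnit_C_mul_T (a : Vˣ) (c : deg0 ρ) (m : ℤ) :
    evalUnit ρ a (C c * T m) = (c : V) * ((a ^ m : Vˣ) : V) := by
  rw [evalUnit, eval₂_C_mul_T]
  rfl

theorem coeff_rho_evalUnit (a : Vˣ) {d : ℤ} (hd : d ≠ 0) (ha : IsHomog ρ (a : V) d)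
    (p : (deg0 ρ)[T;T⁻¹]) (n : ℤ) :
    (ρ (evalUnit ρ a p)).coeff (n * d) = (p.coeff n : V) * ((a ^ n : Vˣ) : V) := by
  induction p using LaurentPolynomial.induction_on' with
  | add p q hp hq =>
    rw [map_add, map_add, AddMonoidAlgebra.coeff_add, Finsupp.add_apply, hp, hq,
      AddMonoidAlgebra.coeff_add, Finsupp.add_apply, Subring.coe_add, add_mul]
  | C_mul_T m c =>
    rw [evalUnit_C_mul_T, map_mul ρ, mem_deg0.mp c.2, (ha.unit_zpow a m), ← mul_assoc,
      ← map_mul C, coeff_C_mul_T, coeff_C_mul_T]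
    by_cases h : m = n
    · subst h; simp
    · have h' : ¬ m * d = n * d := fun hh => h (mul_right_cancel₀ hd hh)
      simp [h, h']

theorem evalUnit_injective (a : Vˣ) {d : ℤ} (hd : d ≠ 0) (ha : IsHomog ρ (a : V) d) :
    Function.Injective (evalUnit ρ a) := by
  rw [injective_iff_map_eq_zero]
  intro p hp
  ext n
  have := coeff_rho_evalUnit a hd ha p n
  rw [hp, map_zero] at this
  have h0 : (p.coeff n : V) * ((a ^ n : Vˣ) : V) = 0 := by
    rw [← this]; rfl
  have h1 : (p.coeff n : V) = 0 := by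
    have := congrArg (· * ((a ^ n : Vˣ)⁻¹ : Vˣ).val) h0
    simpa [mul_assoc] using this
  have h2 : p.coeff n = 0 := Subtype.ext h1
  simpa using h2

theorem evalUnit_isIntegral (hs : Spans ρ) (a : Vˣ) {d : ℤ} (hd : d ≠ 0)
    (ha : IsHomog ρ (a : V) d) : (evalUnit ρ a).IsIntegral := by
  letI := (evalUnit ρ a).toAlgebra
  intro v
  change IsIntegral (deg0 ρ)[T;T⁻¹] v
  induction hs v using AddSubmonoid.closure_induction with
  | mem x hx =>
    obtain ⟨n, hn⟩ := hx
    have he : 0 < d.natAbs := Int.natAbs_pos.mpr hd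
    set m : ℤ := n * d.sign with hm
    have hc : IsHomog ρ (x ^ d.natAbs * ((a ^ (-m) : Vˣ) : V)) 0 := by
      have := (hn.pow d.natAbs).mul (ha.unit_zpow a (-m))
      convert this using 1
      rw [hm]
      have : (d.natAbs : ℤ) = d.sign * d := (Int.sign_mul_self_eq_natAbs d).symm
      rw [this]; ring
    have hc' := isHomog_zero_iff.mp hc
    have hx : x ^ d.natAbs = algebraMap (deg0 ρ)[T;T⁻¹] V (C ⟨_, hc'⟩ * T m) := by
      change _ = evalUnit ρ a _
      rw [evalUnit_C_mul_T]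
      change _ = x ^ d.natAbs * ((a ^ (-m) : Vˣ) : V) * ((a ^ m : Vˣ) : V)
      rw [mul_assoc, ← Units.val_mul, ← zpow_add, neg_add_cancel, zpow_zero, Units.val_one, mul_one]
    apply IsIntegral.of_pow he
    rw [hx]
    exact isIntegral_algebraMap
  | zero => exact isIntegral_zero
  | add x y _ _ hx hy => exact hx.add hy

/-- If a Noetherian ring `V` with a spanning coaction has a homogeneous unit of nonzero degree, then
`dim V = dim V₀ + 1`. -/
theorem ringKrullDim_eq_deg0_add_one (hs : Spans ρ) [IsNoetherianRing V] (a : Vˣ) {d : ℤ}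
    (hd : d ≠ 0) (ha : IsHomog ρ (a : V) d) :
    ringKrullDim V = ringKrullDim (deg0 ρ) + 1 := by
  haveI := isNoetherianRing_deg0 hs
  letI := (evalUnit ρ a).toAlgebra
  haveI : Algebra.IsIntegral (deg0 ρ)[T;T⁻¹] V := ⟨evalUnit_isIntegral hs a hd ha⟩
  rw [Groth.Agent.Lib.Helper5.ringKrullDim_eq_of_isIntegral_of_injective (deg0 ρ)[T;T⁻¹] V
    (evalUnit_injective a hd ha), ringKrullDim_laurent]

end Dim

section Localize

variable {U : Type*} [CommRing U] (ρ : U →+* U[T;T⁻¹]) (w : U) (hw : w ∈ deg0 ρ)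
  (V : Type*) [CommRing V] [Algebra U V] [IsLocalization.Away w V]

theorem mapRingHom_C_mul_T (u : U) (n : ℤ) :
    AddMonoidAlgebra.mapRingHom ℤ (algebraMap U V) (C u * T n) = C (algebraMap U V u) * T n := by
  rw [← single_eq_C_mul_T, ← single_eq_C_mul_T, AddMonoidAlgebra.mapRingHom_single]

include hw in
theorem isUnit_map_rho :
    IsUnit (((AddMonoidAlgebra.mapRingHom ℤ (algebraMap U V)).comp ρ) w) := by
  rw [RingHom.comp_apply, mem_deg0.mp hw]
  have := mapRingHom_C_mul_T V w 0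
  simp only [T_zero, mul_one] at this
  rw [this]
  exact (IsLocalization.Away.algebraMap_isUnit w).map C

/-- The induced coaction on the localization at a degree-zero element. -/
noncomputable def rhoLoc : V →+* V[T;T⁻¹] :=
  IsLocalization.Away.lift (S := V) w (isUnit_map_rho ρ w hw V)

theorem rhoLoc_algebraMap (u : U) :
    rhoLoc ρ w hw V (algebraMap U V u) = AddMonoidAlgebra.mapRingHom ℤ (algebraMap U V) (ρ u) := by
  rw [rhoLoc, IsLocalization.Away.lift_eq]
  rfl

variable {ρ} in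
theorem isHomog_algebraMap {u : U} {n : ℤ} (h : IsHomog ρ u n) :
    IsHomog (rhoLoc ρ w hw V) (algebraMap U V u) n := by
  rw [IsHomog, rhoLoc_algebraMap, h, mapRingHom_C_mul_T]

theorem proj0_algebraMap (u : U) :
    proj0 (rhoLoc ρ w hw V) (algebraMap U V u) = algebraMap U V (proj0 ρ u) := by
  rw [proj0_apply, rhoLoc_algebraMap, AddMonoidAlgebra.coeff_mapRingHom, proj0_apply]

/-- `w` as a unit of the localization. -/
noncomputable def wUnit : Vˣ := (IsLocalization.Away.algebraMap_isUnit (S := V) w).unit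

theorem wUnit_val : ((wUnit w V : Vˣ) : V) = algebraMap U V w := IsUnit.unit_spec _

theorem isHomog_wUnit_zpow (m : ℤ) :
    IsHomog (rhoLoc ρ w hw V) ((wUnit w V ^ m : Vˣ) : V) 0 := by
  have h0 : IsHomog (rhoLoc ρ w hw V) ((wUnit w V : Vˣ) : V) 0 := by
    rw [wUnit_val]
    exact isHomog_algebraMap w hw V (isHomog_zero_iff.mpr hw)
  simpa using h0.unit_zpow (wUnit w V) m

theorem exists_eq_algebraMap_mul (v : V) :
    ∃ (u : U) (m : ℕ), v = algebraMap U V u * ((wUnit w V ^ (-(m : ℤ)) : Vˣ) : V) := by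
  obtain ⟨m, u, h⟩ := IsLocalization.Away.surj w v
  refine ⟨u, m, ?_⟩
  rw [← h, ← wUnit_val, ← Units.val_pow_eq_pow_val, mul_assoc, ← Units.val_mul, ← zpow_natCast,
    ← zpow_add, add_neg_cancel, zpow_zero, Units.val_one, mul_one]

variable {ρ} in
theorem spans_rhoLoc (hs : Spans ρ) : Spans (rhoLoc ρ w hw V) := by
  intro v
  obtain ⟨u, m, rfl⟩ := exists_eq_algebraMap_mul w V v
  set c := ((wUnit w V ^ (-(m : ℤ)) : Vˣ) : V) with hc
  have hch : IsHomog (rhoLoc ρ w hw V) c 0 := isHomog_wUnit_zpow ρ w hw V _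
  induction hs u using AddSubmonoid.closure_induction with
  | mem x hx =>
    obtain ⟨n, hn⟩ := hx
    apply AddSubmonoid.subset_closure
    refine ⟨n + 0, (isHomog_algebraMap w hw V hn).mul hch⟩
  | zero => rw [map_zero, zero_mul]; exact AddSubmonoid.zero_mem _
  | add x y _ _ hx hy => rw [map_add, add_mul]; exact AddSubmonoid.add_mem _ hx hy

/-- The map between degree-zero parts. -/
noncomputable def deg0Map : deg0 ρ →+* deg0 (rhoLoc ρ w hw V) :=
  (algebraMap U V).restrict (deg0 ρ) (deg0 (rhoLoc ρ w hw V)) (fun _ hx =>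
    isHomog_zero_iff.mp (isHomog_algebraMap w hw V (isHomog_zero_iff.mpr hx)))

theorem deg0Map_val (x : deg0 ρ) : ((deg0Map ρ w hw V x : deg0 (rhoLoc ρ w hw V)) : V) =
    algebraMap U V (x : U) := rfl

/-- The algebra structure between degree-zero parts. -/
@[instance_reducible]
noncomputable def deg0Algebra : Algebra (deg0 ρ) (deg0 (rhoLoc ρ w hw V)) :=
  (deg0Map ρ w hw V).toAlgebra

variable {ρ} in
theorem isLocalization_deg0 (hs : Spans ρ) :
    @IsLocalization.Away (deg0 ρ) _ (⟨w, hw⟩ : deg0 ρ) (deg0 (rhoLoc ρ w hw V)) _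
      (deg0Algebra ρ w hw V) := by
  letI := deg0Algebra ρ w hw V
  have halg : ∀ x : deg0 ρ, ((algebraMap (deg0 ρ) (deg0 (rhoLoc ρ w hw V)) x :
      deg0 (rhoLoc ρ w hw V)) : V) = algebraMap U V (x : U) := fun x => rfl
  refine IsLocalization.Away.mk _ ?_ ?_ ?_
  · -- unit
    have hinv : ((wUnit w V ^ (-1 : ℤ) : Vˣ) : V) ∈ deg0 (rhoLoc ρ w hw V) :=
      isHomog_zero_iff.mp (isHomog_wUnit_zpow ρ w hw V (-1))
    refine IsUnit.of_mul_eq_one ⟨_, hinv⟩ ?_
    apply Subtype.ext
    rw [Subring.coe_mul, halg]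
    change algebraMap U V w * _ = 1
    rw [← wUnit_val, ← Units.val_mul, zpow_neg_one, mul_inv_cancel, Units.val_one]
  · intro z
    obtain ⟨m, u, h⟩ := IsLocalization.Away.surj w (z : V)
    refine ⟨m, ⟨proj0 ρ u, proj0_mem hs u⟩, ?_⟩
    apply Subtype.ext
    rw [Subring.coe_mul, Subring.coe_pow, halg, halg]
    change (z : V) * algebraMap U V w ^ m = algebraMap U V (proj0 ρ u)
    rw [← proj0_algebraMap ρ w hw V, ← h]
    have hz : (z : V) * algebraMap U V w ^ m ∈ deg0 (rhoLoc ρ w hw V) := by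
      apply Subring.mul_mem _ z.2
      apply Subring.pow_mem
      exact isHomog_zero_iff.mp (isHomog_algebraMap w hw V (isHomog_zero_iff.mpr hw))
    exact (proj0_of_mem hz).symm
  · intro a b hab
    have hab' : algebraMap U V (a : U) = algebraMap U V (b : U) := by
      rw [← halg, ← halg, hab]
    obtain ⟨n, hn⟩ := IsLocalization.Away.exists_of_eq w hab'
    exact ⟨n, Subtype.ext hn⟩

end Localize

section AlgStruct

variable {k : Type*} [CommRing k] {V : Type*} [CommRing V] [Algebra k V] (ρ : V →+* V[T;T⁻¹])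
  (hk : ∀ c : k, ρ (algebraMap k V c) = C (algebraMap k V c))

/-- The `k`-algebra structure on the degree-zero part of a `k`-linear coaction. -/
@[instance_reducible]
noncomputable def deg0AlgebraBase : Algebra k (deg0 ρ) :=
  ((algebraMap k V).codRestrict (deg0 ρ) (fun c => hk c)).toAlgebra

theorem deg0AlgebraBase_algebraMap_val (c : k) :
    ((@algebraMap k (deg0 ρ) _ _ (deg0AlgebraBase ρ hk) c : deg0 ρ) : V) = algebraMap k V c := rfl

end AlgStruct

end Groth.Agent.R2.H88.Coact
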