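import Mathlib

/-!
# Abstract Euler products over a family of norms (helper88)

For a family of "norms" `N : ι → ℕ` with `2 ≤ N i` and `∑ (N i)^(-σ) < ∞`, the Dirichlet series
whose `n`-th coefficient counts the finitely supported `α : ι →₀ ℕ` with `∏ (N i)^(α i) = n`
converges absolutely for `re s ≥ σ` and does not vanish there.
-/

set_option autoImplicit false
set_option linter.style.haveILetI false

open Finset

namespace Groth.Agent.R2.H88.Euler

section productFormula

variable {ι : Type*} {R : Type*} [CommSemiring R]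

/-- Sum over finitely supported functions with prescribed ranges = product of sums. -/
theorem sum_finsupp_prod (s : Finset ι) (t : ι → Finset ℕ) (g : ι → ℕ → R)
    (hg : ∀ i, g i 0 = 1) :
    ∑ α ∈ s.finsupp t, α.prod g = ∏ i ∈ s, ∑ j ∈ t i, g i j := by
  classical
  rw [Finset.prod_sum]
  unfold Finset.finsupp
  rw [Finset.sum_map]
  refine Finset.sum_congr rfl fun p _ => ?_
  simp only [Function.Embedding.coeFn_mk]
  rw [Finsupp.prod_of_support_subset _ (Finsupp.support_indicator_subset s p) g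
    (fun i _ => hg i), ← Finset.prod_attach]
  refine Finset.prod_congr rfl fun x _ => ?_
  rw [Finsupp.indicator_of_mem x.2]

end productFormula

section summable

variable {ι : Type*}

/-- Key summability: if `0 ≤ v i ≤ ρ < 1` and `v` is summable then the family
`α ↦ ∏ (v i)^(α i)` over finitely supported `α` is summable. -/
theorem summable_finsupp_prod (v : ι → ℝ) (hv0 : ∀ i, 0 ≤ v i) (ρ : ℝ) (hρ : ρ < 1)
    (hvρ : ∀ i, v i ≤ ρ) (hv : Summable v) :
    Summable (fun α : ι →₀ ℕ => α.prod (fun i m => v i ^ m)) := by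
  classical
  have hρ' : 0 < 1 - ρ := by linarith
  set C : ℝ := (1 - ρ)⁻¹ with hC
  have hC0 : 0 ≤ C := (inv_pos.mpr hρ').le
  -- pointwise bound of geometric sums
  have hgeom : ∀ i (n : ℕ), ∑ j ∈ Finset.range n, v i ^ j ≤ Real.exp (C * v i) := by
    intro i n
    have h1 : v i < 1 := lt_of_le_of_lt (hvρ i) hρ
    have h2 : ∑ j ∈ Finset.range n, v i ^ j ≤ (1 - v i)⁻¹ := by
      rw [geom_sum_eq h1.ne, ← neg_sub, ← neg_sub (1 : ℝ) (v i), neg_div_neg_eq, div_eq_mul_inv]
      have : 1 - v i ^ n ≤ 1 := by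
        have := pow_nonneg (hv0 i) n
        linarith
      have hpos : 0 < 1 - v i := by linarith
      calc (1 - v i ^ n) * (1 - v i)⁻¹ ≤ 1 * (1 - v i)⁻¹ :=
            mul_le_mul_of_nonneg_right this (inv_pos.mpr hpos).le
        _ = (1 - v i)⁻¹ := one_mul _
    have h3 : (1 - v i)⁻¹ ≤ 1 + C * v i := by
      have hpos : 0 < 1 - v i := by linarith
      rw [inv_le_iff_one_le_mul₀ hpos]
      have hCv : C * (1 - ρ) = 1 := inv_mul_cancel₀ hρ'.ne'
      have hle : 1 - ρ ≤ 1 - v i := by linarith [hvρ i]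
      have : C * (1 - ρ) ≤ C * (1 - v i) := mul_le_mul_of_nonneg_left hle hC0
      nlinarith [hv0 i, mul_nonneg hC0 (hv0 i)]
    calc ∑ j ∈ Finset.range n, v i ^ j ≤ (1 - v i)⁻¹ := h2
      _ ≤ 1 + C * v i := h3
      _ ≤ Real.exp (C * v i) := by
        have := Real.add_one_le_exp (C * v i)
        linarith
  refine summable_of_sum_le (c := Real.exp (C * ∑' i, v i)) ?_ ?_
  · intro α
    exact Finset.prod_nonneg fun i _ => pow_nonneg (hv0 i) _
  · intro u
    set Y : Finset ι := u.biUnion (fun α => α.support) with hY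
    set K : ℕ := u.sum (fun α => α.sum fun _ m => m) with hK
    have hsub : u ⊆ Y.finsupp (fun _ => Finset.range (K + 1)) := by
      intro α hα
      rw [Finset.mem_finsupp_iff]
      refine ⟨Finset.subset_biUnion_of_mem (fun α : ι →₀ ℕ => α.support) hα, fun i _ => ?_⟩
      rw [Finset.mem_range, Nat.lt_succ_iff]
      by_cases hi : i ∈ α.support
      · calc α i ≤ α.sum fun _ m => m :=
              Finset.single_le_sum (f := fun j => α j) (fun _ _ => Nat.zero_le _) hi
          _ ≤ K := Finset.single_le_sum (f := fun α : ι →₀ ℕ => α.sum fun _ m => m)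
              (fun _ _ => Nat.zero_le _) hα
      · rw [Finsupp.notMem_support_iff.mp hi]
        exact Nat.zero_le _
    calc ∑ α ∈ u, α.prod (fun i m => v i ^ m)
        ≤ ∑ α ∈ Y.finsupp (fun _ => Finset.range (K + 1)), α.prod (fun i m => v i ^ m) :=
          Finset.sum_le_sum_of_subset_of_nonneg hsub
            (fun α _ _ => Finset.prod_nonneg fun i _ => pow_nonneg (hv0 i) _)
      _ = ∏ i ∈ Y, ∑ j ∈ Finset.range (K + 1), v i ^ j :=
          sum_finsupp_prod Y _ (fun i m => v i ^ m) (fun i => pow_zero _)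
      _ ≤ ∏ i ∈ Y, Real.exp (C * v i) :=
          Finset.prod_le_prod (fun i _ => Finset.sum_nonneg fun j _ => pow_nonneg (hv0 i) _)
            (fun i _ => hgeom i _)
      _ = Real.exp (C * ∑ i ∈ Y, v i) := by
          rw [← Real.exp_sum, Finset.mul_sum]
      _ ≤ Real.exp (C * ∑' i, v i) := by
          apply Real.exp_le_exp.mpr
          exact mul_le_mul_of_nonneg_left (hv.sum_le_tsum Y (fun i _ => hv0 i)) hC0

end summable

section norm

variable {ι : Type*} (N : ι → ℕ)

/-- The norm of a finitely supported family of multiplicities. -/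
noncomputable def nrm (α : ι →₀ ℕ) : ℕ := α.prod (fun i m => N i ^ m)

@[simp] theorem nrm_zero : nrm N 0 = 1 := by simp [nrm]

theorem nrm_add (α β : ι →₀ ℕ) : nrm N (α + β) = nrm N α * nrm N β := by
  classical
  unfold nrm
  exact Finsupp.prod_add_index' (fun i => pow_zero _) (fun i m n => pow_add _ _ _)

variable {N}

theorem nrm_pos (hN : ∀ i, 2 ≤ N i) (α : ι →₀ ℕ) : 0 < nrm N α := by
  unfold nrm
  exact Finset.prod_pos fun i _ => pow_pos (by have := hN i; omega) _

theorem nrm_eq_one_iff (hN : ∀ i, 2 ≤ N i) (α : ι →₀ ℕ) : nrm N α = 1 ↔ α = 0 := by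
  constructor
  · intro h
    by_contra hne
    obtain ⟨i, hi⟩ := Finsupp.support_nonempty_iff.mpr hne
    have hdvd : N i ^ α i ∣ nrm N α := Finset.dvd_prod_of_mem (fun i => N i ^ α i) hi
    rw [h, Nat.dvd_one] at hdvd
    have h2 : 2 ≤ N i ^ α i := by
      calc 2 ≤ N i := hN i
        _ = N i ^ 1 := (pow_one _).symm
        _ ≤ N i ^ α i := Nat.pow_le_pow_right (by have := hN i; omega)
            (Nat.one_le_iff_ne_zero.mpr (Finsupp.mem_support_iff.mp hi))
    omega
  · rintro rfl
    exact nrm_zero N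

/-- The real weight of `α`: `(nrm α)^(-σ) = ∏ ((N i)^(-σ))^(α i)`. -/
theorem nrm_rpow (α : ι →₀ ℕ) (σ : ℝ) :
    ((nrm N α : ℕ) : ℝ) ^ (-σ) = α.prod (fun i m => ((N i : ℝ) ^ (-σ)) ^ m) := by
  unfold nrm Finsupp.prod
  rw [Nat.cast_prod, ← Real.finsetProd_rpow _ _ (fun i _ => by positivity)]
  refine Finset.prod_congr rfl fun i _ => ?_
  rw [Nat.cast_pow, ← Real.rpow_natCast_mul (Nat.cast_nonneg _), mul_comm,
    Real.rpow_mul_natCast (Nat.cast_nonneg _)]

end norm

section moebius

variable {ι : Type*}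

/-- The Möbius function on finitely supported multiplicity functions. -/
noncomputable def moeb (β : ι →₀ ℕ) : ℤ :=
  haveI := Classical.dec (∀ i, β i ≤ 1)
  if ∀ i, β i ≤ 1 then (-1) ^ β.support.card else 0

theorem abs_moeb_le_one (β : ι →₀ ℕ) : |moeb β| ≤ 1 := by
  unfold moeb
  split_ifs
  · simp
  · simp

theorem moeb_zero : moeb (0 : ι →₀ ℕ) = 1 := by
  unfold moeb
  simp

/-- The indicator function of a finite set, as a multiplicity function. -/
noncomputable def ind (B : Finset ι) : ι →₀ ℕ := Finsupp.indicator B (fun _ _ => 1)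

theorem ind_apply [DecidableEq ι] (B : Finset ι) (i : ι) : ind B i = if i ∈ B then 1 else 0 := by
  classical
  unfold ind
  rw [Finsupp.indicator_apply]
  split_ifs <;> rfl

theorem support_ind (B : Finset ι) : (ind B).support = B := by
  classical
  ext i
  rw [Finsupp.mem_support_iff, ind_apply]
  split_ifs with h <;> simp [h]

theorem ind_le_one (B : Finset ι) (i : ι) : ind B i ≤ 1 := by
  classical
  rw [ind_apply]
  split_ifs <;> omega

theorem eq_ind_support {β : ι →₀ ℕ} (hβ : ∀ i, β i ≤ 1) : β = ind β.support := by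
  classical
  ext i
  rw [ind_apply]
  split_ifs with h
  · have := Finsupp.mem_support_iff.mp h
    have := hβ i
    omega
  · exact Finsupp.notMem_support_iff.mp h

theorem moeb_ind (B : Finset ι) : moeb (ind B) = (-1) ^ B.card := by
  unfold moeb
  rw [if_pos (ind_le_one B), support_ind]

/-- The Möbius identity: `∑_{α + β = γ} μ(β) = [γ = 0]`. -/
theorem sum_antidiagonal_moeb [DecidableEq ι] (γ : ι →₀ ℕ) :
    ∑ kl ∈ Finset.HasAntidiagonal.antidiagonal γ, moeb kl.2 = if γ = 0 then 1 else 0 := by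
  classical
  have key : ∑ kl ∈ Finset.HasAntidiagonal.antidiagonal γ, moeb kl.2 =
      ∑ B ∈ γ.support.powerset, (-1 : ℤ) ^ B.card := by
    refine Finset.sum_bij_ne_zero (fun kl _ _ => kl.2.support) ?_ ?_ ?_ ?_
    · intro kl hkl _
      rw [Finset.mem_powerset]
      rw [Finset.HasAntidiagonal.mem_antidiagonal] at hkl
      intro i hi
      rw [Finsupp.mem_support_iff] at hi ⊢
      have := congrArg (fun f => f i) hkl
      simp only [Finsupp.add_apply] at this
      omega
    · intro kl hkl hne kl' hkl' hne' hsupp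
      have h1 : ∀ i, kl.2 i ≤ 1 := by
        by_contra h
        apply hne
        unfold moeb
        rw [if_neg h]
      have h1' : ∀ i, kl'.2 i ≤ 1 := by
        by_contra h
        apply hne'
        unfold moeb
        rw [if_neg h]
      have h2 : kl.2 = kl'.2 := by
        rw [eq_ind_support h1, eq_ind_support h1', hsupp]
      rw [Finset.HasAntidiagonal.mem_antidiagonal] at hkl hkl'
      have h3 : kl.1 = kl'.1 := by
        have : kl.1 + kl.2 = kl'.1 + kl.2 := by rw [hkl, h2, hkl']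
        exact add_right_cancel this
      exact Prod.ext h3 h2
    · intro B hB _
      rw [Finset.mem_powerset] at hB
      have hle : ind B ≤ γ := by
        intro i
        rw [ind_apply]
        split_ifs with h
        · exact Nat.one_le_iff_ne_zero.mpr (Finsupp.mem_support_iff.mp (hB h))
        · exact Nat.zero_le _
      refine ⟨(γ - ind B, ind B), ?_, ?_, ?_⟩
      · rw [Finset.HasAntidiagonal.mem_antidiagonal]
        exact tsub_add_cancel_of_le hle
      · rw [moeb_ind]
        exact pow_ne_zero _ (by norm_num)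
      · exact support_ind B
    · intro kl _ hne
      have h1 : ∀ i, kl.2 i ≤ 1 := by
        by_contra h
        apply hne
        unfold moeb
        rw [if_neg h]
      unfold moeb
      rw [if_pos h1]
  rw [key, Finset.sum_powerset_neg_one_pow_card]
  simp only [Finsupp.support_eq_empty]

end moebius

section main

variable {ι : Type*} (N : ι → ℕ)

/-- The coefficient sequence: number of `α` of norm `n`. -/
noncomputable def coeff (n : ℕ) : ℕ := Nat.card {α : ι →₀ ℕ // nrm N α = n}

variable {N} (hN : ∀ i, 2 ≤ N i) {σ : ℝ} (hσ : 0 < σ)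
  (hsum : Summable (fun i => (N i : ℝ) ^ (-σ)))

include hN hσ hsum

theorem summable_nrm_rpow : Summable (fun α : ι →₀ ℕ => ((nrm N α : ℕ) : ℝ) ^ (-σ)) := by
  simp_rw [nrm_rpow]
  refine summable_finsupp_prod (fun i => (N i : ℝ) ^ (-σ)) (fun i => by positivity)
    ((2 : ℝ) ^ (-σ)) ?_ (fun i => ?_) hsum
  · exact Real.rpow_lt_one_of_one_lt_of_neg (by norm_num) (by linarith)
  · have hNi : (0 : ℝ) < (N i : ℝ) := by
      have := hN i
      exact_mod_cast (by omega : 0 < N i)
    rw [Real.rpow_le_rpow_iff_of_neg hNi (by norm_num) (by linarith)]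
    exact_mod_cast hN i

theorem finite_fiber (n : ℕ) : Finite {α : ι →₀ ℕ // nrm N α = n} := by
  rcases Nat.eq_zero_or_pos n with rfl | hn
  · have : IsEmpty {α : ι →₀ ℕ // nrm N α = 0} := ⟨fun α => (nrm_pos hN α.1).ne' α.2⟩
    infer_instance
  · have hS := summable_nrm_rpow hN hσ hsum
    have hpos : (0 : ℝ) < (n : ℝ) ^ (-σ) := Real.rpow_pos_of_pos (by exact_mod_cast hn) _
    have h1 := (tendsto_order.1 hS.tendsto_cofinite_zero).2 _ hpos
    rw [Filter.eventually_cofinite] at h1
    apply Set.finite_coe_iff.mpr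
    refine h1.subset ?_
    intro α hα
    simp only [Set.mem_ofPred_eq] at hα ⊢
    rw [hα]
    exact lt_irrefl _

theorem summable_norm_cpow (s : ℂ) (hs : σ ≤ s.re) :
    Summable (fun α : ι →₀ ℕ => ‖((nrm N α : ℕ) : ℂ) ^ (-s)‖) := by
  refine (summable_nrm_rpow hN hσ hsum).of_nonneg_of_le (fun α => norm_nonneg _) (fun α => ?_)
  rw [Complex.norm_natCast_cpow_of_pos (nrm_pos hN α), Complex.neg_re]
  apply Real.rpow_le_rpow_of_exponent_le
  · exact_mod_cast nrm_pos hN α
  · linarith

/-- The Dirichlet series of the coefficient sequence is the sum over all `α`. -/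
theorem lseriesHasSum (s : ℂ) (hs : σ ≤ s.re) :
    LSeriesHasSum (fun n => (coeff N n : ℂ)) s (∑' α : ι →₀ ℕ, ((nrm N α : ℕ) : ℂ) ^ (-s)) := by
  have hS : Summable (fun α : ι →₀ ℕ => ((nrm N α : ℕ) : ℂ) ^ (-s)) :=
    (summable_norm_cpow hN hσ hsum s hs).of_norm
  have h1 := (Equiv.sigmaFiberEquiv (nrm N)).hasSum_iff.mpr hS.hasSum
  unfold LSeriesHasSum
  refine HasSum.sigma h1 (fun n => ?_)
  haveI := finite_fiber hN hσ hsum n
  letI : Fintype {α : ι →₀ ℕ // nrm N α = n} := Fintype.ofFinite _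
  have h2 : LSeries.term (fun n => (coeff N n : ℂ)) s n =
      ∑ c : {α : ι →₀ ℕ // nrm N α = n}, ((nrm N c.1 : ℕ) : ℂ) ^ (-s) := by
    have h3 : ∀ c : {α : ι →₀ ℕ // nrm N α = n}, ((nrm N c.1 : ℕ) : ℂ) ^ (-s) = (n : ℂ) ^ (-s) :=
      fun c => by rw [c.2]
    rw [Finset.sum_congr rfl (fun c _ => h3 c), Finset.sum_const, Finset.card_univ,
      nsmul_eq_mul]
    rcases Nat.eq_zero_or_pos n with rfl | hn
    · have : IsEmpty {α : ι →₀ ℕ // nrm N α = 0} := ⟨fun α => (nrm_pos hN α.1).ne' α.2⟩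
      simp
    · rw [LSeries.term_of_ne_zero hn.ne', coeff, Nat.card_eq_fintype_card, Complex.cpow_neg,
        div_eq_mul_inv]
  rw [h2]
  exact hasSum_fintype _

/-- Nonvanishing of the sum, through the Möbius inverse. -/
theorem tsum_cpow_ne_zero (s : ℂ) (hs : σ ≤ s.re) :
    (∑' α : ι →₀ ℕ, ((nrm N α : ℕ) : ℂ) ^ (-s)) ≠ 0 := by
  classical
  set T : (ι →₀ ℕ) → ℂ := fun α => ((nrm N α : ℕ) : ℂ) ^ (-s) with hT
  set M : (ι →₀ ℕ) → ℂ := fun β => (moeb β : ℂ) * T β with hM
  have hTn : Summable (fun α => ‖T α‖) := summable_norm_cpow hN hσ hsum s hs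
  have hMn : Summable (fun β => ‖M β‖) := by
    refine hTn.of_nonneg_of_le (fun β => norm_nonneg _) (fun β => ?_)
    rw [hM, norm_mul]
    have : ‖(moeb β : ℂ)‖ ≤ 1 := by
      rw [Complex.norm_intCast]
      exact_mod_cast abs_moeb_le_one β
    calc ‖(moeb β : ℂ)‖ * ‖T β‖ ≤ 1 * ‖T β‖ := mul_le_mul_of_nonneg_right this (norm_nonneg _)
      _ = ‖T β‖ := one_mul _
  have hTadd : ∀ α β, T (α + β) = T α * T β := by
    intro α β
    simp only [hT]
    rw [nrm_add, Nat.cast_mul, Complex.natCast_mul_natCast_cpow]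
  have hprod := hTn.of_norm.tsum_mul_tsum_eq_tsum_sum_antidiagonal hMn.of_norm
    (summable_mul_of_summable_norm hTn hMn)
  have hinner : ∀ γ : ι →₀ ℕ, ∑ kl ∈ Finset.HasAntidiagonal.antidiagonal γ, T kl.1 * M kl.2 =
      if γ = 0 then 1 else 0 := by
    intro γ
    have h1 : ∀ kl ∈ Finset.HasAntidiagonal.antidiagonal γ,
        T kl.1 * M kl.2 = (moeb kl.2 : ℂ) * T γ := by
      intro kl hkl
      rw [Finset.HasAntidiagonal.mem_antidiagonal] at hkl
      rw [← hkl, hTadd, hM]
      ring
    rw [Finset.sum_congr rfl h1, ← Finset.sum_mul, ← Int.cast_sum, sum_antidiagonal_moeb]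
    split_ifs with h
    · rw [h, hT]
      simp
    · simp
  rw [tsum_congr hinner, tsum_ite_eq] at hprod
  intro h0
  rw [h0, zero_mul] at hprod
  exact zero_ne_one hprod

/-- **Abstract Euler product**: absolute convergence and nonvanishing. -/
theorem lseriesSummable_and_ne_zero (s : ℂ) (hs : σ ≤ s.re) :
    LSeriesSummable (fun n => (coeff N n : ℂ)) s ∧ LSeries (fun n => (coeff N n : ℂ)) s ≠ 0 := by
  have h := lseriesHasSum hN hσ hsum s hs
  exact ⟨h.LSeriesSummable, by rw [h.LSeries_eq]; exact tsum_cpow_ne_zero hN hσ hsum s hs⟩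

end main

section primePowerBound

variable {ι : Type*}

/-- Summability of `∑ (N i)^(-σ)` from prime-power point-count bounds of the shape
`#{N = p^m} ≤ D p^{m(r-1)}` for `p ≥ p₀` and `≤ D p^{mr}` for `p < p₀`, when `σ > r`. -/
theorem summable_of_primePow_bounds (N : ι → ℕ) (D p₀ r : ℕ) (σ : ℝ) (hσ : (r : ℝ) < σ)
    (h1 : ∀ i, ∃ p m : ℕ, p.Prime ∧ 1 ≤ m ∧ N i = p ^ m)
    (h2 : ∀ (Z : Finset ι) (p m : ℕ), p.Prime → 1 ≤ m → (∀ i ∈ Z, N i = p ^ m) →
      (p₀ ≤ p → Z.card * p ^ m ≤ D * (p ^ m) ^ r) ∧ (p < p₀ → Z.card ≤ D * (p ^ m) ^ r)) :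
    Summable (fun i => (N i : ℝ) ^ (-σ)) := by
  classical
  set g₁ : ℕ → ℝ := fun q => (D : ℝ) * (q : ℝ) ^ ((r : ℝ) - 1 - σ) with hg₁
  set h : ℕ → ℕ → ℝ := fun p q =>
    if p.Prime ∧ ∃ m : ℕ, 1 ≤ m ∧ q = p ^ m then (D : ℝ) * (q : ℝ) ^ ((r : ℝ) - σ) else 0 with hh
  set g : ℕ → ℝ := fun q => g₁ q + ∑ p ∈ Finset.range p₀, h p q with hg
  have hg₁s : Summable g₁ := (Real.summable_nat_rpow.mpr (by linarith)).mul_left _
  have hh0 : ∀ p q, 0 ≤ h p q := by
    intro p q
    simp only [hh]
    split_ifs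
    · positivity
    · exact le_rfl
  have hhs : ∀ p, Summable (h p) := by
    intro p
    by_cases hp : p.Prime
    · have hp2 : 2 ≤ p := hp.two_le
      have hinj : Function.Injective (fun m : ℕ => p ^ (m + 1)) := by
        intro a b hab
        have := Nat.pow_right_injective hp2 hab
        omega
      rw [← hinj.summable_iff]
      · have hρ0 : (0 : ℝ) ≤ (p : ℝ) ^ ((r : ℝ) - σ) := by positivity
        have hρ1 : (p : ℝ) ^ ((r : ℝ) - σ) < 1 :=
          Real.rpow_lt_one_of_one_lt_of_neg (by exact_mod_cast hp.one_lt) (by linarith)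
        have hgeo := ((summable_geometric_of_lt_one hρ0 hρ1).mul_left
          ((D : ℝ) * (p : ℝ) ^ ((r : ℝ) - σ)))
        refine hgeo.congr fun m => ?_
        simp only [Function.comp_apply, hh]
        rw [if_pos ⟨hp, m + 1, by omega, rfl⟩, Nat.cast_pow,
          ← Real.rpow_natCast_mul (Nat.cast_nonneg _), mul_comm ((m + 1 : ℕ) : ℝ),
          Real.rpow_mul_natCast (Nat.cast_nonneg _), pow_succ]
        ring
      · intro q hq
        simp only [hh]
        rw [if_neg]
        rintro ⟨-, m, hm, rfl⟩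
        exact hq ⟨m - 1, by simp only; congr 1; omega⟩
    · have : h p = fun _ => 0 := by
        funext q
        simp only [hh]
        rw [if_neg (fun hc => hp hc.1)]
      rw [this]
      exact summable_zero
  have hgs : Summable g := hg₁s.add (summable_sum fun p _ => hhs p)
  have hg0 : ∀ q, 0 ≤ g q := by
    intro q
    simp only [hg, hg₁]
    have : 0 ≤ ∑ p ∈ Finset.range p₀, h p q := Finset.sum_nonneg fun p _ => hh0 p q
    positivity
  refine summable_of_sum_le (c := ∑' q, g q) (fun i => by positivity) (fun Y => ?_)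
  have hcomp := Finset.sum_comp (s := Y) (fun q : ℕ => (q : ℝ) ^ (-σ)) N
  rw [hcomp]
  calc ∑ q ∈ Y.image N, (Finset.card {i ∈ Y | N i = q}) • (q : ℝ) ^ (-σ)
      ≤ ∑ q ∈ Y.image N, g q := by
        refine Finset.sum_le_sum fun q hq => ?_
        obtain ⟨i₀, -, rfl⟩ := Finset.mem_image.mp hq
        obtain ⟨p, m, hp, hm, hpm⟩ := h1 i₀
        set Z : Finset ι := {i ∈ Y | N i = N i₀} with hZ
        have hZall : ∀ i ∈ Z, N i = p ^ m := by
          intro i hi
          rw [← hpm]
          exact (Finset.mem_filter.mp hi).2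
        obtain ⟨hb1, hb2⟩ := h2 Z p m hp hm hZall
        have hq0 : (0 : ℝ) < (N i₀ : ℝ) := by
          rw [hpm]
          exact_mod_cast pow_pos hp.pos m
        rw [nsmul_eq_mul]
        by_cases hpp : p₀ ≤ p
        · have hnat := hb1 hpp
          rw [← hpm] at hnat
          have hreal : (Z.card : ℝ) * (N i₀ : ℝ) ≤ (D : ℝ) * (N i₀ : ℝ) ^ (r : ℝ) := by
            rw [Real.rpow_natCast]
            exact_mod_cast hnat
          have e1 : (N i₀ : ℝ) ^ (-σ) = (N i₀ : ℝ) * (N i₀ : ℝ) ^ (-σ - 1) := by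
            rw [← Real.rpow_one_add' hq0.le (by linarith)]
            congr 1
            ring
          have e2 : (N i₀ : ℝ) ^ ((r : ℝ) - 1 - σ) =
              (N i₀ : ℝ) ^ (r : ℝ) * (N i₀ : ℝ) ^ (-σ - 1) := by
            rw [← Real.rpow_add hq0]
            congr 1
            ring
          have hpos : (0 : ℝ) ≤ (N i₀ : ℝ) ^ (-σ - 1) := by positivity
          calc (Z.card : ℝ) * (N i₀ : ℝ) ^ (-σ)
              = ((Z.card : ℝ) * (N i₀ : ℝ)) * (N i₀ : ℝ) ^ (-σ - 1) := by rw [e1]; ring
            _ ≤ ((D : ℝ) * (N i₀ : ℝ) ^ (r : ℝ)) * (N i₀ : ℝ) ^ (-σ - 1) :=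
                mul_le_mul_of_nonneg_right hreal hpos
            _ = g₁ (N i₀) := by simp only [hg₁]; rw [e2]; ring
            _ ≤ g (N i₀) := by
                simp only [hg]
                have : 0 ≤ ∑ p ∈ Finset.range p₀, h p (N i₀) :=
                  Finset.sum_nonneg fun p _ => hh0 p _
                linarith
        · have hlt : p < p₀ := not_le.mp hpp
          have hnat := hb2 hlt
          rw [← hpm] at hnat
          have hreal : (Z.card : ℝ) ≤ (D : ℝ) * (N i₀ : ℝ) ^ (r : ℝ) := by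
            rw [Real.rpow_natCast]
            exact_mod_cast hnat
          have e2 : (N i₀ : ℝ) ^ ((r : ℝ) - σ) = (N i₀ : ℝ) ^ (r : ℝ) * (N i₀ : ℝ) ^ (-σ) := by
            rw [← Real.rpow_add hq0]
            congr 1
          have hpos : (0 : ℝ) ≤ (N i₀ : ℝ) ^ (-σ) := by positivity
          calc (Z.card : ℝ) * (N i₀ : ℝ) ^ (-σ)
              ≤ ((D : ℝ) * (N i₀ : ℝ) ^ (r : ℝ)) * (N i₀ : ℝ) ^ (-σ) :=
                mul_le_mul_of_nonneg_right hreal hpos
            _ = h p (N i₀) := by
                simp only [hh]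
                rw [if_pos ⟨hp, m, hm, hpm⟩, e2]
                ring
            _ ≤ ∑ p' ∈ Finset.range p₀, h p' (N i₀) :=
                Finset.single_le_sum (f := fun p' => h p' (N i₀)) (fun p' _ => hh0 p' _)
                  (Finset.mem_range.mpr hlt)
            _ ≤ g (N i₀) := by
                simp only [hg, hg₁]
                have : (0 : ℝ) ≤ (D : ℝ) * (N i₀ : ℝ) ^ ((r : ℝ) - 1 - σ) := by positivity
                linarith
    _ ≤ ∑' q, g q := hgs.sum_le_tsum _ (fun q _ => hg0 q)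

end primePowerBound

end Groth.Agent.R2.H88.Euler
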