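import Groth.Agent.R2.H88PtCount

/-!
# Point counts of schemes of finite type over `ℤ` (helper88)

Reduction of `#Hom(Spec F, X)` to `#Hom(Γ(X, U), F)` for a finite affine cover.
-/

set_option autoImplicit false
set_option linter.style.haveILetI false
universe u

open CategoryTheory AlgebraicGeometry

namespace Groth.Agent.R2.H88.PtCountSch

variable {X : Scheme.{u}}

/-- The dimension of an affine open is at most the dimension of the scheme. -/
theorem ringKrullDim_le_of_isAffineOpen {U : X.Opens} (hU : IsAffineOpen U) :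
    ringKrullDim Γ(X, U) ≤ topologicalKrullDim X := by
  rw [← PrimeSpectrum.topologicalKrullDim_eq_ringKrullDim]
  have h1 : topologicalKrullDim (PrimeSpectrum Γ(X, U)) = topologicalKrullDim U :=
    (IsHomeomorph.topologicalKrullDim_eq _ (Scheme.homeoOfIso hU.isoSpec).isHomeomorph).symm
  rw [h1]
  exact topologicalKrullDim_subspace_le X U

/-- A point with values in a field factors through any affine open containing its image. -/
theorem exists_eq_comp_fromSpec {F : Type u} [Field F] (g : Spec (CommRingCat.of F) ⟶ X)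
    {U : X.Opens} (hU : IsAffineOpen U) (pt : Spec (CommRingCat.of F)) (hx : g.base pt ∈ U) :
    ∃ θ : Γ(X, U) →+* F, g = Spec.map (CommRingCat.ofHom θ) ≫ hU.fromSpec := by
  haveI : Subsingleton (Spec (CommRingCat.of F)) :=
    (inferInstance : Subsingleton (PrimeSpectrum F))
  have hrange : Set.range g.base ⊆ Set.range U.ι.base := by
    rintro _ ⟨y, rfl⟩
    have : y = pt := Subsingleton.elim _ _
    rw [this]
    have := Scheme.Opens.range_ι U
    rw [Set.ext_iff] at this
    exact (this _).mpr hx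
  have hg' : IsOpenImmersion.lift U.ι g hrange ≫ U.ι = g := IsOpenImmersion.lift_fac _ _ _
  refine ⟨(Spec.preimage (IsOpenImmersion.lift U.ι g hrange ≫ hU.isoSpec.hom)).hom, ?_⟩
  rw [CommRingCat.ofHom_hom, Spec.map_preimage, IsAffineOpen.fromSpec, Category.assoc,
    Iso.hom_inv_id_assoc, hg']

/-- Sections over affine opens of a scheme locally of finite type over a finitely generated
ring are finitely generated rings. -/
theorem finiteType_int_of_isAffineOpen_of_finiteType {R : Type u} [CommRing R]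
    [Algebra.FiniteType ℤ R] (f : X ⟶ Spec (CommRingCat.of R))
    [LocallyOfFiniteType f] {U : X.Opens} (hU : IsAffineOpen U) :
    Algebra.FiniteType ℤ Γ(X, U) := by
  have h1 : (f.appLE ⊤ U (by simp)).hom.FiniteType :=
    HasRingHomProperty.appLE @LocallyOfFiniteType f inferInstance
      ⟨⊤, isAffineOpen_top _⟩ ⟨U, hU⟩ _
  have h0 : (algebraMap ℤ R).FiniteType := RingHom.finiteType_algebraMap.mpr inferInstance
  have ha : Function.Surjective (Scheme.ΓSpecIso (CommRingCat.of R)).inv.hom :=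
    (ConcreteCategory.bijective_of_isIso (Scheme.ΓSpecIso (CommRingCat.of R)).inv).2
  have h2 : ((f.appLE ⊤ U (by simp)).hom.comp
      ((Scheme.ΓSpecIso (CommRingCat.of R)).inv.hom.comp (algebraMap ℤ R))).FiniteType :=
    h1.comp (h0.comp_surjective ha)
  have h3 : (f.appLE ⊤ U (by simp)).hom.comp
      ((Scheme.ΓSpecIso (CommRingCat.of R)).inv.hom.comp (algebraMap ℤ R)) =
      algebraMap ℤ Γ(X, U) := Subsingleton.elim _ _
  rw [h3] at h2
  exact RingHom.finiteType_algebraMap.mp h2

instance : Algebra.FiniteType ℤ (ULift.{u} ℤ) :=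
  Algebra.FiniteType.equiv (inferInstance : Algebra.FiniteType ℤ ℤ) ULift.algEquiv.symm

/-- Sections over affine opens of a scheme locally of finite type over `ℤ` are finitely generated
rings. -/
theorem finiteType_int_of_isAffineOpen (f : X ⟶ Spec (CommRingCat.of (ULift.{u} ℤ)))
    [LocallyOfFiniteType f] {U : X.Opens} (hU : IsAffineOpen U) :
    Algebra.FiniteType ℤ Γ(X, U) :=
  finiteType_int_of_isAffineOpen_of_finiteType f hU

open Groth.Agent.R2.H88.PtCount

/-- The number of `F`-points is bounded by the sum over a finite affine cover of the numbers of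
ring homomorphisms. -/
theorem card_points_le_sum (s : Finset X.affineOpens)
    (hs : ∀ x : X, ∃ U ∈ s, x ∈ (U : X.Opens))
    (hft : ∀ U ∈ s, Algebra.FiniteType ℤ Γ(X, (U : X.Opens)))
    (F : Type u) [Field F] [Finite F] :
    Nat.card (Spec (CommRingCat.of F) ⟶ X) ≤
      ∑ U ∈ s, Nat.card (Γ(X, (U : X.Opens)) →+* F) := by
  classical
  haveI : ∀ U : s, Finite (Γ(X, (U.1 : X.Opens)) →+* F) := fun U =>
    haveI := hft U.1 U.2
    finite_ringHom _ F
  let Θ : (Σ U : s, (Γ(X, (U.1 : X.Opens)) →+* F)) → (Spec (CommRingCat.of F) ⟶ X) :=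
    fun z => Spec.map (CommRingCat.ofHom z.2) ≫ z.1.1.2.fromSpec
  have hΘ : Function.Surjective Θ := by
    intro g
    let pt : Spec (CommRingCat.of F) := (⟨⊥, Ideal.isPrime_bot⟩ : PrimeSpectrum F)
    obtain ⟨U, hUs, hxU⟩ := hs (g.base pt)
    obtain ⟨θ, hθ⟩ := exists_eq_comp_fromSpec g U.2 pt hxU
    exact ⟨⟨⟨U, hUs⟩, θ⟩, hθ.symm⟩
  calc Nat.card (Spec (CommRingCat.of F) ⟶ X)
      ≤ Nat.card (Σ U : s, (Γ(X, (U.1 : X.Opens)) →+* F)) :=
        Nat.card_le_card_of_surjective Θ hΘ
    _ = ∑ U : s, Nat.card (Γ(X, (U.1 : X.Opens)) →+* F) := Nat.card_sigma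
    _ = ∑ U ∈ s, Nat.card (Γ(X, (U : X.Opens)) →+* F) :=
        Finset.sum_coe_sort s (fun U => Nat.card (Γ(X, (U : X.Opens)) →+* F))

/-- **Point count bound for schemes of finite type over a finitely generated ring** (natural
number form). -/
theorem exists_card_points_le_of_finiteType {R : Type u} [CommRing R] [Algebra.FiniteType ℤ R]
    (f : X ⟶ Spec (CommRingCat.of R)) [LocallyOfFiniteType f] [QuasiCompact f] (r : ℕ) (hr : topologicalKrullDim X ≤ r) :
    ∃ (D p₀ : ℕ), ∀ (p : ℕ), p.Prime → ∀ (F : Type u) [Field F] [Finite F], (p : F) = 0 →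
      (p₀ ≤ p → Nat.card (Spec (CommRingCat.of F) ⟶ X) * Nat.card F ≤ D * Nat.card F ^ r) ∧
      (p < p₀ → Nat.card (Spec (CommRingCat.of F) ⟶ X) ≤ D * Nat.card F ^ r) := by
  classical
  -- finite affine cover
  have hcomp : IsCompact (Set.univ : Set X) := by
    have := QuasiCompact.isCompact_preimage (f := f) Set.univ isOpen_univ isCompact_univ
    simpa using this
  obtain ⟨S, hSfin, hSU⟩ :=
    isCompact_and_isOpen_iff_finite_and_eq_biUnion_affineOpens.mp ⟨hcomp, isOpen_univ⟩
  set s : Finset X.affineOpens := hSfin.toFinset with hsdef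
  have hs : ∀ x : X, ∃ U ∈ s, x ∈ (U : X.Opens) := by
    intro x
    have hx : x ∈ (Set.univ : Set X) := Set.mem_univ x
    rw [hSU] at hx
    simp only [Set.mem_iUnion] at hx
    obtain ⟨U, hU, hxU⟩ := hx
    exact ⟨U, hSfin.mem_toFinset.mpr hU, hxU⟩
  have hft : ∀ U ∈ s, Algebra.FiniteType ℤ Γ(X, (U : X.Opens)) := fun U _ =>
    finiteType_int_of_isAffineOpen_of_finiteType f U.2
  have hb : ∀ U : X.affineOpens, ∃ (D p₀ : ℕ), ∀ (p : ℕ), p.Prime →
      ∀ (F : Type u) [Field F] [Finite F], (p : F) = 0 →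
      (p₀ ≤ p → Nat.card (Γ(X, (U : X.Opens)) →+* F) * Nat.card F ≤ D * Nat.card F ^ r) ∧
      (p < p₀ → Nat.card (Γ(X, (U : X.Opens)) →+* F) ≤ D * Nat.card F ^ r) := by
    intro U
    haveI := finiteType_int_of_isAffineOpen_of_finiteType f U.2
    exact exists_bound.{u, u} Γ(X, (U : X.Opens)) r ((ringKrullDim_le_of_isAffineOpen U.2).trans hr)
  choose D p₀ hDp using hb
  refine ⟨∑ U ∈ s, D U, s.sup p₀, fun p hp F _ _ hpF => ?_⟩
  have hq : 1 ≤ Nat.card F := Nat.card_pos
  -- in all cases the weak bound holds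
  have hweak : ∀ U : X.affineOpens,
      Nat.card (Γ(X, (U : X.Opens)) →+* F) ≤ D U * Nat.card F ^ r := by
    intro U
    by_cases h : p₀ U ≤ p
    · exact (Nat.le_mul_of_pos_right _ hq).trans ((hDp U p hp F hpF).1 h)
    · exact (hDp U p hp F hpF).2 (not_le.mp h)
  refine ⟨fun hle => ?_, fun _ => ?_⟩
  · calc Nat.card (Spec (CommRingCat.of F) ⟶ X) * Nat.card F
        ≤ (∑ U ∈ s, Nat.card (Γ(X, (U : X.Opens)) →+* F)) * Nat.card F :=
          Nat.mul_le_mul_right _ (card_points_le_sum s hs hft F)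
      _ = ∑ U ∈ s, Nat.card (Γ(X, (U : X.Opens)) →+* F) * Nat.card F := Finset.sum_mul _ _ _
      _ ≤ ∑ U ∈ s, D U * Nat.card F ^ r := by
          refine Finset.sum_le_sum fun U hU => ?_
          exact (hDp U p hp F hpF).1 ((Finset.le_sup hU).trans hle)
      _ = (∑ U ∈ s, D U) * Nat.card F ^ r := (Finset.sum_mul _ _ _).symm
  · calc Nat.card (Spec (CommRingCat.of F) ⟶ X)
        ≤ ∑ U ∈ s, Nat.card (Γ(X, (U : X.Opens)) →+* F) := card_points_le_sum s hs hft F
      _ ≤ ∑ U ∈ s, D U * Nat.card F ^ r := Finset.sum_le_sum fun U _ => hweak U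
      _ = (∑ U ∈ s, D U) * Nat.card F ^ r := (Finset.sum_mul _ _ _).symm

/-- **Point count bound for schemes of finite type over `ℤ`** (natural number form). -/
theorem exists_card_points_le (f : X ⟶ Spec (CommRingCat.of (ULift.{u} ℤ)))
    [LocallyOfFiniteType f] [QuasiCompact f] (r : ℕ) (hr : topologicalKrullDim X ≤ r) :
    ∃ (D p₀ : ℕ), ∀ (p : ℕ), p.Prime → ∀ (F : Type u) [Field F] [Finite F], (p : F) = 0 →
      (p₀ ≤ p → Nat.card (Spec (CommRingCat.of F) ⟶ X) * Nat.card F ≤ D * Nat.card F ^ r) ∧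
      (p < p₀ → Nat.card (Spec (CommRingCat.of F) ⟶ X) ≤ D * Nat.card F ^ r) :=
  exists_card_points_le_of_finiteType f r hr

/-- Finiteness of the set of points with values in a finite field. -/
theorem finite_points {R : Type u} [CommRing R] [Algebra.FiniteType ℤ R]
    (f : X ⟶ Spec (CommRingCat.of R)) [LocallyOfFiniteType f] [QuasiCompact f]
    (F : Type u) [Field F] [Finite F] : Finite (Spec (CommRingCat.of F) ⟶ X) := by
  classical
  have hcomp : IsCompact (Set.univ : Set X) := by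
    have := QuasiCompact.isCompact_preimage (f := f) Set.univ isOpen_univ isCompact_univ
    simpa using this
  obtain ⟨S, hSfin, hSU⟩ :=
    isCompact_and_isOpen_iff_finite_and_eq_biUnion_affineOpens.mp ⟨hcomp, isOpen_univ⟩
  haveI : Finite S := hSfin
  haveI : ∀ U : S, Finite (Γ(X, (U.1 : X.Opens)) →+* F) := fun U =>
    haveI := finiteType_int_of_isAffineOpen_of_finiteType f U.1.2
    finite_ringHom _ F
  let Θ : (Σ U : S, (Γ(X, (U.1 : X.Opens)) →+* F)) → (Spec (CommRingCat.of F) ⟶ X) :=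
    fun z => Spec.map (CommRingCat.ofHom z.2) ≫ z.1.1.2.fromSpec
  refine Finite.of_surjective Θ ?_
  intro g
  let pt : Spec (CommRingCat.of F) := (⟨⊥, Ideal.isPrime_bot⟩ : PrimeSpectrum F)
  have hx : g.base pt ∈ (Set.univ : Set X) := Set.mem_univ _
  rw [hSU] at hx
  simp only [Set.mem_iUnion] at hx
  obtain ⟨U, hU, hxU⟩ := hx
  obtain ⟨θ, hθ⟩ := exists_eq_comp_fromSpec g U.2 pt hxU
  exact ⟨⟨⟨U, hU⟩, θ⟩, hθ.symm⟩

end Groth.Agent.R2.H88.PtCountSch
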