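import Groth.Agent.R2.H88Euler
import Groth.Agent.R2.H88PtCountSch
import Groth.Prelude.Def_W4c1zetahwZeta

/-!
# The zeta function of a scheme of finite type over a finitely generated ring (helper88)

Convergence and nonvanishing of `L_X(s) = ∑ a_n n^{-s}` for `re s > dim X`.
-/

set_option autoImplicit false
set_option linter.style.haveILetI false
universe u

open CategoryTheory AlgebraicGeometry
open Groth.Agent.R2.H88.Euler Groth.Agent.R2.H88.PtCount Groth.Agent.R2.H88.PtCountSch

namespace Groth.Agent.R2.H88.EulerSch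

variable (X : Scheme.{u})

/-- The norm of a point: cardinality of the residue field (`0` if infinite). -/
noncomputable def ptNorm (x : X) : ℕ := Nat.card (X.residueField x)

/-- Closed points with finite residue field. -/
def IsGoodPt (x : X) : Prop := IsClosed ({x} : Set X) ∧ 2 ≤ ptNorm X x

/-- The type of closed points with finite residue field. -/
abbrev Pt : Type u := {x : X // IsGoodPt X x}

/-- The norm on `Pt X`. -/
noncomputable def Nm (x : Pt X) : ℕ := ptNorm X x.1

theorem two_le_Nm (x : Pt X) : 2 ≤ Nm X x := x.2.2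

theorem ptNorm_ne_one (x : X) : ptNorm X x ≠ 1 := by
  intro h
  have := (Nat.card_eq_one_iff_unique.mp h).1
  exact false_of_nontrivial_of_subsingleton (X.residueField x)

/-- For `n ≠ 0` the number of effective `0`-cycles of norm `n` is the coefficient of the
abstract Euler product over closed points with finite residue field. -/
theorem cycleNormCount_eq_coeff {n : ℕ} (hn : n ≠ 0) :
    Zeta.cycleNormCount X n = coeff (Nm X) n := by
  classical
  unfold Zeta.cycleNormCount coeff
  -- support points of a cycle of nonzero norm are good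
  have hgood : ∀ α : X →₀ ℕ, (∀ x ∈ α.support, IsClosed ({x} : Set X)) →
      α.prod (fun x m => Nat.card (X.residueField x) ^ m) = n →
      ∀ x ∈ α.support, IsGoodPt X x := by
    intro α hcl hprod x hx
    refine ⟨hcl x hx, ?_⟩
    have hdvd : ptNorm X x ^ α x ∣ n := by
      rw [← hprod]
      exact Finset.dvd_prod_of_mem (fun x => Nat.card (X.residueField x) ^ α x) hx
    have h0 : ptNorm X x ≠ 0 := by
      intro h0
      rw [h0, zero_pow (Finsupp.mem_support_iff.mp hx)] at hdvd
      exact hn (zero_dvd_iff.mp hdvd)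
    have h1 := ptNorm_ne_one X x
    omega
  refine Nat.card_congr
    { toFun := fun α => ⟨α.1.subtypeDomain (IsGoodPt X), ?_⟩
      invFun := fun β => ⟨β.1.extendDomain, ?_, ?_⟩
      left_inv := ?_
      right_inv := ?_ }
  · have h := hgood α.1 α.2.1 α.2.2
    unfold nrm
    exact (Finsupp.prod_subtypeDomain_index
      (h := fun x m => Nat.card (X.residueField x) ^ m) h).trans α.2.2
  · intro x hx
    exact (Finsupp.support_extendDomain_subset β.1 hx).1
  · have h1 : ∀ x ∈ (β.1.extendDomain).support, IsGoodPt X x := fun x hx =>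
      Finsupp.support_extendDomain_subset β.1 hx
    rw [← Finsupp.prod_subtypeDomain_index
      (h := fun x m => Nat.card (X.residueField x) ^ m) h1, Finsupp.subtypeDomain_extendDomain]
    exact β.2
  · intro α
    apply Subtype.ext
    exact Finsupp.extendDomain_subtypeDomain α.1 (hgood α.1 α.2.1 α.2.2)
  · intro β
    apply Subtype.ext
    exact Finsupp.subtypeDomain_extendDomain β.1

/-- Points with residue field of cardinality `#F` inject into `X(F)`. -/
theorem card_le_card_points (F : Type u) [Field F] [Finite F]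
    [Finite (Spec (CommRingCat.of F) ⟶ X)]
    (Z : Finset (Pt X)) (hZ : ∀ x ∈ Z, Nm X x = Nat.card F) :
    Z.card ≤ Nat.card (Spec (CommRingCat.of F) ⟶ X) := by
  classical
  have key : ∀ x : Z, Nonempty (X.residueField x.1.1 ≃+* F) := by
    intro x
    have hc : Nat.card (X.residueField x.1.1) = Nat.card F := hZ x.1 x.2
    have hne : Nat.card (X.residueField x.1.1) ≠ 0 := by
      rw [hc]
      exact Nat.card_pos.ne'
    haveI : Finite (X.residueField x.1.1) := Nat.finite_of_card_ne_zero hne
    letI : Fintype (X.residueField x.1.1) := Fintype.ofFinite _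
    letI : Fintype F := Fintype.ofFinite _
    refine ⟨FiniteField.ringEquivOfCardEq ?_⟩
    rw [← Nat.card_eq_fintype_card, ← Nat.card_eq_fintype_card, hc]
  let e : ∀ x : Z, X.residueField x.1.1 ≃+* F := fun x => Classical.choice (key x)
  let pt : Spec (CommRingCat.of F) := (⟨⊥, Ideal.isPrime_bot⟩ : PrimeSpectrum F)
  let g : Z → (Spec (CommRingCat.of F) ⟶ X) := fun x =>
    Spec.map (CommRingCat.ofHom (e x).toRingHom) ≫ X.fromSpecResidueField x.1.1
  have hg : ∀ x : Z, (g x).base pt = x.1.1 := by
    intro x
    simp only [g, Scheme.Hom.comp_base, TopCat.hom_comp, ContinuousMap.comp_apply]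
    exact Scheme.fromSpecResidueField_apply _ _
  have hinj : Function.Injective g := by
    intro x y hxy
    have h1 : x.1.1 = y.1.1 := by rw [← hg x, ← hg y, hxy]
    exact Subtype.ext (Subtype.ext h1)
  calc Z.card = Nat.card Z := by rw [Nat.card_eq_fintype_card, Fintype.card_coe]
    _ ≤ Nat.card (Spec (CommRingCat.of F) ⟶ X) := Nat.card_le_card_of_injective g hinj

/-- Norms of closed points with finite residue fields are prime powers. -/
theorem Nm_eq_primePow (x : Pt X) : ∃ p m : ℕ, p.Prime ∧ 1 ≤ m ∧ Nm X x = p ^ m := by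
  have hne : Nat.card (X.residueField x.1) ≠ 0 := by
    have := x.2.2
    unfold ptNorm at this
    omega
  haveI : Finite (X.residueField x.1) := Nat.finite_of_card_ne_zero hne
  letI : Fintype (X.residueField x.1) := Fintype.ofFinite _
  obtain ⟨p, -, n, hp, hn⟩ := FiniteField.card' (X.residueField x.1)
  refine ⟨p, n, hp, n.pos, ?_⟩
  unfold Nm ptNorm
  rw [Nat.card_eq_fintype_card, hn]

/-- Existence of a finite field of given prime power cardinality in the universe `u`. -/
theorem exists_finiteField (p m : ℕ) (hp : p.Prime) (hm : 1 ≤ m) :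
    ∃ (F : Type u) (_ : Field F) (_ : Finite F), Nat.card F = p ^ m ∧ (p : F) = 0 := by
  haveI : Fact p.Prime := ⟨hp⟩
  refine ⟨ULift.{u} (GaloisField p m), inferInstance, inferInstance, ?_, ?_⟩
  · rw [Nat.card_congr Equiv.ulift, GaloisField.card p m (by omega)]
  · haveI : CharP (GaloisField p m) p := inferInstance
    apply ULift.ext
    simp

/-- Summability of the norms of closed points, from point-count bounds. -/
theorem summable_Nm_rpow (D p₀ r : ℕ)
    (hb : ∀ (p : ℕ), p.Prime → ∀ (F : Type u) [Field F] [Finite F], (p : F) = 0 →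
      (p₀ ≤ p → Nat.card (Spec (CommRingCat.of F) ⟶ X) * Nat.card F ≤ D * Nat.card F ^ r) ∧
      (p < p₀ → Nat.card (Spec (CommRingCat.of F) ⟶ X) ≤ D * Nat.card F ^ r))
    (hfin : ∀ (F : Type u) [Field F] [Finite F], Finite (Spec (CommRingCat.of F) ⟶ X))
    (σ : ℝ) (hσ : (r : ℝ) < σ) :
    Summable (fun x : Pt X => (Nm X x : ℝ) ^ (-σ)) := by
  refine summable_of_primePow_bounds (Nm X) D p₀ r σ hσ (Nm_eq_primePow X) ?_
  intro Z p m hp hm hZ
  obtain ⟨F, _, _, hcard, hpF⟩ := exists_finiteField.{u} p m hp hm
  haveI := hfin F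
  have hle : Z.card ≤ Nat.card (Spec (CommRingCat.of F) ⟶ X) :=
    card_le_card_points X F Z (fun x hx => by rw [hZ x hx, hcard])
  obtain ⟨h1, h2⟩ := hb p hp F hpF
  rw [hcard] at h1 h2
  exact ⟨fun h => (Nat.mul_le_mul_right _ hle).trans (h1 h), fun h => hle.trans (h2 h)⟩

variable {X}

/-- **Convergence and nonvanishing of the zeta function** of a scheme of finite type over a
finitely generated ring, in the half plane `re s > dim X`. -/
theorem lseries_arithCoeff {R : Type u} [CommRing R] [Algebra.FiniteType ℤ R]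
    (f : X ⟶ Spec (CommRingCat.of R)) [LocallyOfFiniteType f] [QuasiCompact f] (r : ℕ)
    (hr : topologicalKrullDim X ≤ r) :
    LSeries.abscissaOfAbsConv (Zeta.arithCoeff X) ≤ (r : ℝ) ∧
      ∀ s : ℂ, (r : ℝ) < s.re → LSeries (Zeta.arithCoeff X) s ≠ 0 := by
  obtain ⟨D, p₀, hb⟩ := exists_card_points_le_of_finiteType f r hr
  have hfin : ∀ (F : Type u) [Field F] [Finite F], Finite (Spec (CommRingCat.of F) ⟶ X) :=
    fun F _ _ => finite_points f F
  have key : ∀ s : ℂ, (r : ℝ) < s.re →
      LSeriesSummable (Zeta.arithCoeff X) s ∧ LSeries (Zeta.arithCoeff X) s ≠ 0 := by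
    intro s hs
    have hσ0 : 0 < s.re := lt_of_le_of_lt (Nat.cast_nonneg r) hs
    have hsum := summable_Nm_rpow X D p₀ r hb hfin s.re hs
    obtain ⟨h1, h2⟩ := lseriesSummable_and_ne_zero (two_le_Nm X) hσ0 hsum s le_rfl
    have hcongr : ∀ {n : ℕ}, n ≠ 0 → Zeta.arithCoeff X n = (coeff (Nm X) n : ℂ) := by
      intro n hn
      unfold Zeta.arithCoeff
      rw [cycleNormCount_eq_coeff X hn]
    exact ⟨(LSeriesSummable_congr s hcongr).mpr h1, by rw [LSeries_congr hcongr s]; exact h2⟩
  refine ⟨LSeries.abscissaOfAbsConv_le_of_forall_lt_LSeriesSummable fun y hy => ?_,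
    fun s hs => (key s hs).2⟩
  exact (key y (by simpa using hy)).1

end Groth.Agent.R2.H88.EulerSch
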