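import Groth.Agent.R2.H88FibConsT2
import Groth.Agent.S5880
import Groth.Agent.S3426
import Groth.Agent.S3445
import Groth.Agent.Lib.Helper12Descent
import Groth.Agent.Lib.Helper12ImmersionDescent
import Groth.Agent.Lib.Helper3ForallFiber

/-!
# helper88: PROJ:fibcons - [D-sep], [D-dom], and the assembly of the six rows
(S3424, S3425, S2577, S3446, S2576, S2585) from the dichotomy packages of `H88FibConsSpec`.
-/

set_option autoImplicit false
set_option linter.style.haveILetI false
universe u
open CategoryTheory CategoryTheory.Limits AlgebraicGeometry Topology TopologicalSpace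

namespace Groth.Agent.R2.H88.FibConsAsm

open Groth.Agent.R2.H88.FibConsSpec Groth.Agent.R2.H88.FibConsT2
open Groth.Agent.Lib.Helper3.ConsOfLocus Groth.Agent.Lib.Helper3.ForallFiber

/-- a locally closed subset of a Noetherian space is constructible. -/
theorem isConstructible_of_isLocallyClosed {X : Type*} [TopologicalSpace X] [NoetherianSpace X]
    {s : Set X} (hs : IsLocallyClosed s) : IsConstructible s := by
  obtain ⟨U, Z, hU, hZ, rfl⟩ := hs
  have hr : IsRetrocompact U := fun _ _ _ => NoetherianSpace.isCompact _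
  exact (hr.isConstructible hU).inter (isConstructible_of_isClosed_noeth hZ)

/-! ### [D-sep] -/

theorem sepDich (c : ClosedDichStmt.{u}) (r : RangeClosedIffStmt.{u}) (i : SepIdStmt.{u}) :
    SepDichStmt.{u} := by
  intro X Y S f g _ _ _ _ _ _
  obtain ⟨hf1, hf2⟩ := ft_of_comp f g
  let p : pullback f f ⟶ S := pullback.fst f f ≫ f ≫ g
  haveI : LocallyOfFiniteType p := inferInstance
  haveI : QuasiCompact p := inferInstance
  haveI : IsNoetherian (pullback f f) := isNoetherian_of_finiteType p
  have hZ : IsConstructible (Set.range (pullback.diagonal f)) :=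
    isConstructible_of_isLocallyClosed (pullback.diagonal f).isLocallyClosed_range
  have hE : ConsProp.locusMor (fun _ _ _ f _ => IsSeparated f) f g =
      fibClosed p (Set.range (pullback.diagonal f)) := by
    ext s
    exact (i f g s).trans (r (pullback.diagonal f) p s)
  rw [hE]
  exact c p _ hZ

/-! ### [D-dom] -/

theorem domDich (d : DenseDichStmt.{u}) (r : DominantIffStmt.{u}) : DomDichStmt.{u} := by
  intro X Y S f g _ _ _ _ _ _
  obtain ⟨hf1, hf2⟩ := ft_of_comp f g
  haveI : IsNoetherian Y := isNoetherian_of_finiteType g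
  have hZ : IsConstructible (Set.range f) := by
    rw [← Set.image_univ]
    exact f.isConstructible_image IsConstructible.univ
  have hE : ConsProp.locusMor (fun _ _ _ f _ => IsDominant f) f g =
      fibDense g (Set.range f) Set.univ := by
    ext s
    exact r f g s
  rw [hE]
  exact d g _ _ hZ IsConstructible.univ

/-! ### Assembly -/

theorem isConsMor_of_dich (Q : MorphismProperty Scheme.{u}) [Q.IsStableUnderBaseChange]
    [Q.DescendsAlong (@Surjective ⊓ @Flat ⊓ @QuasiCompact)] (h : Dich Q) :
    ConsProp.IsConsMor (fun _ _ _ f _ => Q f) :=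
  ⟨isFieldStableMor_of Q, fun _ _ _ f g => h f g⟩

theorem isConsMor_sep (h : SepDichStmt.{u}) :
    ConsProp.IsConsMor.{u} (fun _ _ _ f _ => IsSeparated f) := by
  haveI := Groth.Agent.Lib.Helper12.descendsAlong_isSeparated.{u}
  exact isConsMor_of_dich @IsSeparated h

theorem isConsMor_proper (h : PropDichStmt.{u}) :
    ConsProp.IsConsMor.{u} (fun _ _ _ f _ => IsProper f) := by
  haveI := Groth.Agent.Lib.Helper12.descendsAlong_isProper.{u}
  exact isConsMor_of_dich @IsProper h

theorem isConsMor_dom (fs : DomFieldStableStmt.{u}) (h : DomDichStmt.{u}) :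
    ConsProp.IsConsMor.{u} (fun _ _ _ f _ => IsDominant f) :=
  ⟨fs, fun _ _ _ f g => h f g⟩


/-- a scheme with at most one point is affine. -/
theorem isAffine_of_subsingleton (T : Scheme.{u}) [Subsingleton T] : IsAffine T := by
  by_cases h : IsEmpty T
  · infer_instance
  · rw [not_isEmpty_iff] at h
    obtain ⟨z⟩ := h
    obtain ⟨_, ⟨U, hU, rfl⟩, hzU, -⟩ :=
      T.isBasis_affineOpens.exists_subset_of_mem_open (Set.mem_univ z) isOpen_univ
    have hU' : U = ⊤ := by
      ext y
      simp only [Opens.coe_top, Set.mem_univ, iff_true]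
      rw [Subsingleton.elim y z]
      exact hzU
    subst hU'
    have h1 : IsAffine ((⊤ : T.Opens) : Scheme.{u}) := hU
    exact (IsAffine.iff_of_isIso T.topIso.hom).mp h1

/-- a one-point integral scheme (the spectrum of a field) is locally Noetherian. -/
theorem isLocallyNoetherian_of_onePoint (T : Scheme.{u}) [IsIntegral T] [Subsingleton T] :
    IsLocallyNoetherian T := by
  haveI : IsAffine T := isAffine_of_subsingleton T
  haveI : Subsingleton (PrimeSpectrum Γ(T, ⊤)) :=
    (Scheme.homeoOfIso T.isoSpec).symm.injective.subsingleton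
  haveI : IsNoetherianRing Γ(T, ⊤) := by
    rw [isNoetherianRing_iff_ideal_fg]
    intro I
    by_cases hI : I = ⊤
    · rw [hI]; exact ⟨{1}, by simp⟩
    · obtain ⟨m, hm, hIm⟩ := Ideal.exists_le_maximal I hI
      have : m = ⊥ := by
        have := Subsingleton.elim (⟨m, hm.isPrime⟩ : PrimeSpectrum Γ(T, ⊤)) ⟨⊥, Ideal.isPrime_bot⟩
        exact congrArg PrimeSpectrum.asIdeal this
      rw [this, le_bot_iff] at hIm
      rw [hIm]
      exact Submodule.fg_bot
  exact isLocallyNoetherian_of_affine_cover (S := fun _ : Unit => ⟨⊤, isAffineOpen_top T⟩)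
    (by simp) (fun _ => ‹_›)

/-- over a field, a morphism between schemes of finite type is quasi-compact. -/
theorem quasiCompact_of_onePoint {X Y T : Scheme.{u}} (f : X ⟶ Y) (g : Y ⟶ T) [IsIntegral T]
    [Subsingleton T] [LocallyOfFiniteType g] [LocallyOfFiniteType (f ≫ g)] [QuasiCompact (f ≫ g)] :
    QuasiCompact f := by
  haveI := isLocallyNoetherian_of_onePoint T
  exact (ft_of_comp f g).2

theorem isConsMor_imm (h : ImmDichStmt.{u}) :
    ConsProp.IsConsMor.{u} (fun _ _ _ f _ => IsImmersion f) := by
  haveI := Groth.Agent.Lib.Helper12.descendsAlong_isImmersion_inf_quasiCompact.{u}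
  haveI : MorphismProperty.IsStableUnderBaseChange
      (@IsImmersion ⊓ @QuasiCompact : MorphismProperty Scheme.{u}) :=
    MorphismProperty.IsStableUnderBaseChange.inf (P := @IsImmersion) (Q := @QuasiCompact)
  have key : ∀ ⦃X Y T : Scheme.{u}⦄ (f : X ⟶ Y) (g : Y ⟶ T) [IsIntegral T] [Subsingleton T]
      [LocallyOfFiniteType g] [QuasiCompact g] [LocallyOfFiniteType (f ≫ g)]
      [QuasiCompact (f ≫ g)], (@IsImmersion ⊓ @QuasiCompact : MorphismProperty Scheme.{u}) f ↔
        IsImmersion f := by
    intro X Y T f g _ _ _ _ _ _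
    exact ⟨fun h => h.1, fun h => ⟨h, quasiCompact_of_onePoint f g⟩⟩
  refine isConsMor_congr (P := fun _ _ _ f _ => (@IsImmersion ⊓ @QuasiCompact :
    MorphismProperty Scheme.{u}) f)
    ⟨isFieldStableMor_of (@IsImmersion ⊓ @QuasiCompact : MorphismProperty Scheme.{u}), ?_⟩ key
  intro X Y S f g _ _ _ _ _ _
  have : ConsProp.locusMor (fun _ _ _ f _ => (@IsImmersion ⊓ @QuasiCompact :
      MorphismProperty Scheme.{u}) f) f g =
      ConsProp.locusMor (fun _ _ _ f _ => IsImmersion f) f g := by
    ext s
    haveI : LocallyOfFiniteType (MoreMor.fiberMap f g s ≫ g.fiberToSpecResidueField s) := by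
      rw [Groth.Agent.Lib.Helper3.LocusBC.fiberMap_fiberToSpecResidueField]; infer_instance
    haveI : QuasiCompact (MoreMor.fiberMap f g s ≫ g.fiberToSpecResidueField s) := by
      rw [Groth.Agent.Lib.Helper3.LocusBC.fiberMap_fiberToSpecResidueField]; infer_instance
    exact key (MoreMor.fiberMap f g s) (g.fiberToSpecResidueField s)
  rw [this]
  exact h f g


/-! ### The six rows (frozen statements), from the dichotomies -/

theorem s3424_of (h : SepDichStmt.{u})
    {X Y S : Scheme.{u}} (f : X ⟶ Y) (g : Y ⟶ S)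
    [LocallyOfFinitePresentation g] [QuasiCompact g] [QuasiSeparated g]
    [LocallyOfFinitePresentation (f ≫ g)] [QuasiCompact (f ≫ g)] [QuasiSeparated (f ≫ g)] :
    Topology.IsLocallyConstructible {s : S |
      IsSeparated (pullback.lift (pullback.fst (f ≫ g) (S.fromSpecResidueField s) ≫ f) (pullback.snd (f ≫ g) (S.fromSpecResidueField s))
          ((Category.assoc _ _ _).trans pullback.condition) :
        pullback (f ≫ g) (S.fromSpecResidueField s) ⟶ pullback g (S.fromSpecResidueField s))} :=
  Groth.Agent.S5880.result (isConsMor_sep h) f g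

theorem s3425_of (fs : DomFieldStableStmt.{u}) (h : DomDichStmt.{u})
    {X Y S : Scheme.{u}} (f : X ⟶ Y) (g : Y ⟶ S)
    [LocallyOfFinitePresentation g] [QuasiCompact g] [QuasiSeparated g]
    [LocallyOfFinitePresentation (f ≫ g)] [QuasiCompact (f ≫ g)] [QuasiSeparated (f ≫ g)] :
    Topology.IsLocallyConstructible {s : S |
      IsDominant (pullback.lift (pullback.fst (f ≫ g) (S.fromSpecResidueField s) ≫ f) (pullback.snd (f ≫ g) (S.fromSpecResidueField s))
          ((Category.assoc _ _ _).trans pullback.condition) :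
        pullback (f ≫ g) (S.fromSpecResidueField s) ⟶ pullback g (S.fromSpecResidueField s))} :=
  Groth.Agent.S5880.result (isConsMor_dom fs h) f g

theorem s2577_of (h : PropDichStmt.{u})
    {X Y S : Scheme.{u}} (f : X ⟶ Y) (g : Y ⟶ S)
    [LocallyOfFinitePresentation g] [QuasiCompact g] [QuasiSeparated g]
    [LocallyOfFinitePresentation (f ≫ g)] [QuasiCompact (f ≫ g)] [QuasiSeparated (f ≫ g)] :
    Topology.IsLocallyConstructible {s : S |
      IsProper (pullback.lift (pullback.fst (f ≫ g) (S.fromSpecResidueField s) ≫ f) (pullback.snd (f ≫ g) (S.fromSpecResidueField s))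
          ((Category.assoc _ _ _).trans pullback.condition) :
        pullback (f ≫ g) (S.fromSpecResidueField s) ⟶ pullback g (S.fromSpecResidueField s))} :=
  Groth.Agent.S5880.result (isConsMor_proper h) f g

theorem s3446_of (h : ImmDichStmt.{u})
    {X Y S : Scheme.{u}} (f : X ⟶ Y) (g : Y ⟶ S)
    [LocallyOfFinitePresentation g] [QuasiCompact g] [QuasiSeparated g]
    [LocallyOfFinitePresentation (f ≫ g)] [QuasiCompact (f ≫ g)] [QuasiSeparated (f ≫ g)] :
    Topology.IsLocallyConstructible {s : S |
      IsImmersion (pullback.lift (pullback.fst (f ≫ g) (S.fromSpecResidueField s) ≫ f) (pullback.snd (f ≫ g) (S.fromSpecResidueField s))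
          ((Category.assoc _ _ _).trans pullback.condition) :
        pullback (f ≫ g) (S.fromSpecResidueField s) ⟶ pullback g (S.fromSpecResidueField s))} :=
  Groth.Agent.S5880.result (isConsMor_imm h) f g

theorem s2576_of (h : PropDichStmt.{u})
    {X Y S : Scheme.{u}} (f : X ⟶ Y) (g : Y ⟶ S)
    [LocallyOfFinitePresentation g] [QuasiCompact g] [QuasiSeparated g]
    [LocallyOfFinitePresentation (f ≫ g)] [QuasiCompact (f ≫ g)] [QuasiSeparated (f ≫ g)] :
    Topology.IsLocallyConstructible {s : S |
      IsClosedImmersion (pullback.lift (pullback.fst (f ≫ g) (S.fromSpecResidueField s) ≫ f) (pullback.snd (f ≫ g) (S.fromSpecResidueField s))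
          ((Category.assoc _ _ _).trans pullback.condition) :
        pullback (f ≫ g) (S.fromSpecResidueField s) ⟶ pullback g (S.fromSpecResidueField s))} :=
  by
  convert (s2577_of h f g).inter (Groth.Agent.S3426.result f g) using 1
  ext s
  exact IsClosedImmersion.iff_isProper_and_mono _

theorem s2585_of (h : PropDichStmt.{u})
    {X Y S : Scheme.{u}} (f : X ⟶ Y) (g : Y ⟶ S)
    [LocallyOfFinitePresentation g] [QuasiCompact g] [QuasiSeparated g]
    [LocallyOfFinitePresentation (f ≫ g)] [QuasiCompact (f ≫ g)] [QuasiSeparated (f ≫ g)] :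
    Topology.IsLocallyConstructible {s : S |
      IsFinite (pullback.lift (pullback.fst (f ≫ g) (S.fromSpecResidueField s) ≫ f) (pullback.snd (f ≫ g) (S.fromSpecResidueField s))
          ((Category.assoc _ _ _).trans pullback.condition) :
        pullback (f ≫ g) (S.fromSpecResidueField s) ⟶ pullback g (S.fromSpecResidueField s))} :=
  by
  convert (s2577_of h f g).inter (Groth.Agent.S3445.result f g) using 1
  ext s
  exact IsFinite.iff_isProper_and_locallyQuasiFinite _

end Groth.Agent.R2.H88.FibConsAsm
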