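import Groth.Agent.R2.H88FibConsSpec
import Groth.Agent.Lib.Helper3ConsOfLocus
import Groth.Agent.S2505

set_option autoImplicit false
universe u
open CategoryTheory CategoryTheory.Limits AlgebraicGeometry Topology TopologicalSpace

namespace Groth.Agent.R2.H88.FibConsFSdom

open Groth.Agent.R2.H88.FibConsSpec

/-- points of a cartesian square: a compatible pair of points lifts. -/
theorem exists_preimage_of_isPullback {P X Y S : Scheme.{u}} {fst : P ⟶ X} {snd : P ⟶ Y}
    {f : X ⟶ S} {g : Y ⟶ S} (h : IsPullback fst snd f g) (x : X) (y : Y) (hxy : f x = g y) :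
    ∃ z : P, fst z = x ∧ snd z = y := by
  obtain ⟨z, hz1, hz2⟩ := Scheme.Pullback.exists_preimage_pullback x y hxy
  refine ⟨h.isoPullback.inv z, ?_, ?_⟩
  · rw [← Scheme.Hom.comp_apply, h.isoPullback_inv_fst, hz1]
  · rw [← Scheme.Hom.comp_apply, h.isoPullback_inv_snd, hz2]

theorem domFieldStable : DomFieldStableStmt.{u} := by
  intro X X' Y Y' T T' f g f' g' eX eY h _ _ _ _ _ _ _ _ hY hX
  have hfpqc := Groth.Agent.Lib.Helper3.ConsOfLocus.fpqc_of_onePoint h
  have hsurj : Surjective eY :=
    MorphismProperty.of_isPullback (P := @Surjective) hY.flip hfpqc.1.1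
  have hopen : UniversallyOpen eY :=
    MorphismProperty.of_isPullback (P := @UniversallyOpen) hY.flip
      (Groth.Agent.S2505.univOpen_of_subsingleton h)
  constructor
  · intro hf
    refine ⟨?_⟩
    rw [DenseRange, dense_iff_inter_open]
    intro U' hU' hne
    have hU : IsOpen (eY '' U') := eY.isOpenMap U' hU'
    obtain ⟨_, ⟨y', hy', rfl⟩, x, hx⟩ := hf.denseRange.inter_open_nonempty _ hU (hne.image _)
    obtain ⟨x', -, hx'⟩ := exists_preimage_of_isPullback hX x y' hx
    exact ⟨y', hy', x', hx'⟩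
  · intro hf'
    refine ⟨?_⟩
    have h1 : DenseRange (eX ≫ f) := by
      rw [hX.w]
      exact (hsurj.surj.denseRange).comp hf'.denseRange eY.continuous
    exact h1.mono (by
      rintro _ ⟨x, rfl⟩
      exact ⟨eX x, rfl⟩)

end Groth.Agent.R2.H88.FibConsFSdom
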