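import Groth.Agent.R2.H88StratFree
import Groth.Agent.Lib.Helper3FlatOpenFP

set_option autoImplicit false
set_option linter.style.haveILetI false
open TensorProduct

universe u

namespace Groth.Agent.R2.H88.FreeGeneric

open Groth.Agent.Lib.Helper3.FlatLoc

/-- Composite of localizations at `S₁` then `S₂` is a localization at `S₂`, provided every element
of `S₁` divides an element of `S₂`. -/
theorem isLocalizedModule_comp {R M N P : Type*} [CommRing R] [AddCommGroup M] [AddCommGroup N]
    [AddCommGroup P] [Module R M] [Module R N] [Module R P] (S₁ S₂ : Submonoid R)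
    (h : ∀ x ∈ S₁, ∃ m, m * x ∈ S₂) (f : M →ₗ[R] N) [IsLocalizedModule S₁ f] (g : N →ₗ[R] P)
    [IsLocalizedModule S₂ g] : IsLocalizedModule S₂ (g ∘ₗ f) where
  map_units s := IsLocalizedModule.map_units g s
  surj y := by
    obtain ⟨⟨n, s₂⟩, hn⟩ := IsLocalizedModule.surj S₂ g y
    obtain ⟨⟨m, s₁⟩, hm⟩ := IsLocalizedModule.surj S₁ f n
    obtain ⟨c, hc⟩ := h s₁.1 s₁.2
    refine ⟨⟨c • m, ⟨c * s₁.1, hc⟩ * s₂⟩, ?_⟩
    simp only [Submonoid.smul_def, Submonoid.coe_mul, LinearMap.comp_apply] at hn hm ⊢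
    rw [mul_smul, hn, ← map_smul g, mul_smul, hm, map_smul f]
  exists_of_eq {x₁ x₂} e := by
    simp only [LinearMap.comp_apply] at e
    obtain ⟨s₂, hs₂⟩ := IsLocalizedModule.exists_of_eq (S := S₂) (f := g) e
    rw [Submonoid.smul_def, Submonoid.smul_def, ← map_smul f, ← map_smul f] at hs₂
    obtain ⟨s₁, hs₁⟩ := IsLocalizedModule.exists_of_eq (S := S₁) (f := f) hs₂
    obtain ⟨c, hc⟩ := h s₁.1 s₁.2
    refine ⟨⟨c * s₁.1, hc⟩ * s₂, ?_⟩
    simp only [Submonoid.smul_def, Submonoid.coe_mul] at hs₁ ⊢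
    rw [mul_smul, mul_smul, hs₁, ← mul_smul, ← mul_smul]

/-- If `M_p` is flat over `A` (for `B` f.p. over `A`, `M` f.p. over `B`), there is `s ∉ p` with
`M_s` flat over `A`. -/
theorem exists_flat_away {A B : Type u} [CommRing A] [CommRing B] [Algebra A B]
    [Algebra.FinitePresentation A B] (p : Ideal A) [p.IsPrime]
    (M : Type u) [AddCommGroup M] [Module B M] [Module A M] [IsScalarTower A B M]
    [Module.FinitePresentation B M]
    (hflat : Module.Flat A (LocalizedModule p.primeCompl M)) :
    ∃ s : A, s ∉ p ∧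
      Module.Flat A (LocalizedModule (Submonoid.powers (algebraMap A B s)) M) := by
  classical
  have h1 := (flat_localizedModule_iff' (R := A) (S := A) (M := M) p.primeCompl).mp hflat
  have hU : IsOpen {q : PrimeSpectrum B |
      Module.Flat A (LocalizedModule q.asIdeal.primeCompl M)} :=
    Groth.Agent.Lib.Helper3.FlatOpen.isOpen_flatLocus_of_finitePresentation
  obtain ⟨𝔟, h𝔟⟩ := (PrimeSpectrum.isClosed_iff_zeroLocus_ideal _).mp hU.isClosed_compl
  have hnd : ¬ Disjoint (𝔟 : Set B) (p.primeCompl.map (algebraMap A B) : Set B) := by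
    intro hdisj
    obtain ⟨q, hq, h𝔟q, hqd⟩ := Ideal.exists_le_prime_disjoint 𝔟 _ hdisj
    have hqU : (⟨q, hq⟩ : PrimeSpectrum B) ∈ {q : PrimeSpectrum B |
        Module.Flat A (LocalizedModule q.asIdeal.primeCompl M)} := by
      rw [Set.mem_ofPred_eq, flat_localizedModule_iff']
      intro I z hz
      obtain ⟨s, hs, hsz⟩ := h1 I z hz
      refine ⟨algebraMap A B s, ?_, ?_⟩
      · intro hmem
        exact Set.disjoint_left.mp hqd hmem ⟨s, hs, rfl⟩
      · rw [algebraMap_smul]; exact hsz
    have hqZ : (⟨q, hq⟩ : PrimeSpectrum B) ∈ PrimeSpectrum.zeroLocus (𝔟 : Set B) := by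
      rw [PrimeSpectrum.mem_zeroLocus]; exact h𝔟q
    rw [← h𝔟] at hqZ
    exact hqZ hqU
  rw [Set.not_disjoint_iff] at hnd
  obtain ⟨_, hb, ⟨s, hs, rfl⟩⟩ := hnd
  refine ⟨s, hs, ?_⟩
  rw [flat_localizedModule_iff']
  intro I z hz
  let 𝔞 : Ideal B := LinearMap.ker (LinearMap.toSpanSingleton B (M ⊗[A] I) z)
  have hmem : algebraMap A B s ∈ 𝔞.radical := by
    rw [Ideal.radical_eq_sInf, Ideal.mem_sInf]
    rintro q ⟨h𝔞q, hq⟩
    have hqU : (⟨q, hq⟩ : PrimeSpectrum B) ∉ {q : PrimeSpectrum B |
        Module.Flat A (LocalizedModule q.asIdeal.primeCompl M)} := by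
      intro hqU
      rw [Set.mem_ofPred_eq, flat_localizedModule_iff'] at hqU
      obtain ⟨b, hbq, hbz⟩ := hqU I z hz
      exact hbq (h𝔞q (by
        change LinearMap.toSpanSingleton B (M ⊗[A] I) z b = 0
        rw [LinearMap.toSpanSingleton_apply]; exact hbz))
    have : (⟨q, hq⟩ : PrimeSpectrum B) ∈ PrimeSpectrum.zeroLocus (𝔟 : Set B) := by
      rw [← h𝔟]; exact hqU
    rw [PrimeSpectrum.mem_zeroLocus] at this
    exact this hb
  obtain ⟨k, hk⟩ := hmem
  refine ⟨algebraMap A B s ^ k, ⟨k, rfl⟩, ?_⟩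
  have : LinearMap.toSpanSingleton B (M ⊗[A] I) z (algebraMap A B s ^ k) = 0 := hk
  rwa [LinearMap.toSpanSingleton_apply] at this

theorem exists_away_ringHom {A : Type*} [CommRing A] (t₀ t s : A) (ht : t = s * t₀) :
    ∃ ρ : Localization.Away t₀ →+* Localization.Away t,
      ρ.comp (algebraMap A (Localization.Away t₀)) = algebraMap A (Localization.Away t) := by
  have hu : IsUnit (algebraMap A (Localization.Away t) t₀) := by
    have h1 : IsUnit (algebraMap A (Localization.Away t) t) :=
      IsLocalization.Away.algebraMap_isUnit t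
    have h2 : algebraMap A (Localization.Away t) s * algebraMap A (Localization.Away t) t₀ =
        algebraMap A (Localization.Away t) t := by
      rw [← map_mul, ← ht]
    rw [← h2] at h1
    exact isUnit_of_mul_isUnit_right h1
  refine ⟨IsLocalization.Away.lift (S := Localization.Away t₀) (P := Localization.Away t)
    (g := algebraMap A (Localization.Away t)) t₀ hu, ?_⟩
  apply RingHom.ext
  intro a
  exact IsLocalization.Away.lift_eq (S := Localization.Away t₀) (P := Localization.Away t)
    (g := algebraMap A (Localization.Away t)) t₀ hu a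

/-- **Generic freeness over a ring with a unique minimal prime `p`**: if `M_p` is flat over `A_p`
then `M_t` is free over `A_t` for some `t ∉ p`. -/
theorem exists_free_away {A B : Type u} [CommRing A] [CommRing B] [Algebra A B]
    [Algebra.FinitePresentation A B] (p : Ideal A) [p.IsPrime] (hp : minimalPrimes A = {p})
    (M : Type u) [AddCommGroup M] [Module B M] [Module A M] [IsScalarTower A B M]
    [Module.FinitePresentation B M]
    (hflat : Module.Flat (Localization.AtPrime p) (LocalizedModule p.primeCompl M)) :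
    ∃ t : A, t ∉ p ∧
      Module.Free (Localization.Away t) (LocalizedModule (Submonoid.powers t) M) := by
  classical
  have hpnil : p ≤ nilradical A := by
    rw [nilradical_eq_sInf]
    refine le_sInf fun P hP => ?_
    haveI : P.IsPrime := hP
    obtain ⟨p', hp', hle⟩ := Ideal.exists_minimalPrimes_le (bot_le : ⊥ ≤ P)
    have h1 : p' ∈ minimalPrimes A := hp'
    rw [hp] at h1
    have h2 : p' = p := h1
    rw [← h2]; exact hle
  have hflatA : Module.Flat A (LocalizedModule p.primeCompl M) :=
    Module.Flat.trans A (Localization.AtPrime p) _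
  obtain ⟨s, hs, hsflat⟩ := exists_flat_away (B := B) p M hflatA
  let T := Submonoid.powers (algebraMap A B s)
  let Bs := Localization T
  let Ms := LocalizedModule T M
  haveI : Algebra.FinitePresentation B Bs :=
    inferInstanceAs (Algebra.FinitePresentation B (Localization.Away (algebraMap A B s)))
  haveI : Algebra.FinitePresentation A Bs := Algebra.FinitePresentation.trans A B _
  haveI : Module.Flat A Ms := hsflat
  obtain ⟨l, hl, hfree⟩ := StratFree.exists_stratification (A := A) (B := Bs) Ms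
  -- first index not in p
  have hex : ∃ i, ∃ hi : i < l.length, l[i] ∉ p := by
    by_contra hcon
    push Not at hcon
    have : Ideal.span {a | a ∈ l} ≤ p := by
      rw [Ideal.span_le]
      intro a ha
      obtain ⟨i, hi, rfl⟩ := List.getElem_of_mem ha
      exact hcon i hi
    rw [hl] at this
    exact (Ideal.IsPrime.ne_top inferInstance) (top_le_iff.mp this)
  obtain ⟨hi, hni⟩ := Nat.find_spec hex
  have hmin : ∀ j, j < Nat.find hex → ∀ hj : j < l.length, l[j] ∈ p := by
    intro j hj hjl
    by_contra hc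
    exact Nat.find_min hex hj ⟨hjl, hc⟩
  have hfreeD := hfree (Nat.find hex) hi
  generalize Nat.find hex = i at hi hni hmin hfreeD
  set t₀ := l[i] with ht₀
  set J := Ideal.span {a | a ∈ l.take i} with hJ
  have hJp : J ≤ p := by
    rw [hJ, Ideal.span_le]
    intro a ha
    obtain ⟨j, hj, rfl⟩ := List.mem_take_iff_getElem.mp ha
    exact hmin j (lt_of_lt_of_le hj (min_le_left _ _)) _
  have hJfg : J.FG := ⟨(l.take i).toFinset, by simp [hJ]⟩
  obtain ⟨n, hn⟩ := (hJfg.isNilpotent_iff_le_nilradical).mpr (hJp.trans hpnil)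
  -- Step 4 : nilpotent lifting
  let C := Localization.Away t₀
  let D := StratFree.QA J t₀
  haveI : Module.Free D (D ⊗[A] Ms) := hfreeD
  have hsurj : Function.Surjective (algebraMap C D) := Ideal.Quotient.mk_surjective
  have hker : RingHom.ker (algebraMap C D) ^ n = ⊥ := by
    have : RingHom.ker (algebraMap C D) = J.map (algebraMap A C) := Ideal.mk_ker
    rw [this, ← Ideal.map_pow, hn]
    exact Ideal.map_bot
  haveI : Module.Free D (D ⊗[C] (C ⊗[A] Ms)) :=
    Module.Free.of_equiv (AlgebraTensorModule.cancelBaseChange A C D D Ms).symm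
  haveI : Module.Free C (C ⊗[A] Ms) := StratFree.free_of_free_baseChange hsurj hker
  -- Step 5
  obtain ⟨t, ht⟩ : ∃ t, t = s * t₀ := ⟨_, rfl⟩
  have htp : t ∉ p := by
    rw [ht]
    exact fun h => (Ideal.IsPrime.mem_or_mem inferInstance h).elim hs hni
  refine ⟨t, htp, ?_⟩
  let E := Localization.Away t
  obtain ⟨ρ, hρ⟩ := exists_away_ringHom t₀ t s ht
  haveI : Module.Free E (E ⊗[A] Ms) := StratFree.free_tensor_of_ringHom ρ hρ
  let h₁ : M →ₗ[A] Ms := (LocalizedModule.mkLinearMap T M).restrictScalars A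
  haveI : IsLocalizedModule (Submonoid.powers s) h₁ :=
    IsLocalizedModule.restrictScalars_powers s (LocalizedModule.mkLinearMap T M)
  let φ : M →ₗ[A] E ⊗[A] Ms := (TensorProduct.mk A E Ms 1) ∘ₗ h₁
  haveI : IsLocalizedModule (Submonoid.powers t) φ := by
    refine isLocalizedModule_comp (Submonoid.powers s) (Submonoid.powers t) ?_ h₁ _
    rintro _ ⟨k, rfl⟩
    refine ⟨t₀ ^ k, ⟨k, ?_⟩⟩
    change t ^ k = t₀ ^ k * s ^ k
    rw [ht, mul_pow, mul_comm]
  let e : (E ⊗[A] Ms) ≃ₗ[A] LocalizedModule (Submonoid.powers t) M :=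
    IsLocalizedModule.linearEquiv (Submonoid.powers t) φ
      (LocalizedModule.mkLinearMap (Submonoid.powers t) M)
  exact Module.Free.of_equiv (LinearEquiv.extendScalarsOfIsLocalization (Submonoid.powers t) E e)

end Groth.Agent.R2.H88.FreeGeneric
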