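import Mathlib
import Groth.Prelude.Def_W4c1liftfrobW2
import Groth.Agent.Lib.Helper16FrobLift

/-!
# helper88: lifting an etale algebra together with a Frobenius lift along a `W₂`-lifting

Given a flat lifting `(B, ι, π)` of a `k`-algebra `A` over `W₂(k)` and an etale `A`-algebra `C`
with a submersive presentation `C = A[X]/(f)`, we lift the relations to `B[X]`, obtain an etale
`B`-algebra `D = B[X]/(F)` with `D/pD = C`, and lift a Frobenius lift of `B` to `D` by formal
etaleness.
-/

set_option autoImplicit false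
set_option linter.style.haveILetI false
universe u v

namespace Groth.Agent.R2.H88.FrobEtale

open MvPolynomial

/-- units lift along surjections whose kernel has square zero -/
theorem isUnit_of_map_of_sq_zero {R S : Type*} [CommRing R] [CommRing S] (f : R →+* S)
    (hf : Function.Surjective f) (hker : ∀ x y, f x = 0 → f y = 0 → x * y = 0) (x : R)
    (hx : IsUnit (f x)) : IsUnit x := by
  obtain ⟨u, hu⟩ := hx
  obtain ⟨y, hy⟩ := hf (↑u⁻¹)
  have h1 : f (x * y - 1) = 0 := by
    rw [map_sub, map_mul, ← hu, hy, Units.mul_inv, map_one, sub_self]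
  have h2 : (x * y - 1) * (x * y - 1) = 0 := hker _ _ h1 h1
  refine isUnit_iff_exists_inv.mpr ⟨y * (2 - x * y), ?_⟩
  linear_combination -h2

section construction

variable {A : Type v} {B : Type v} {C : Type v} [CommRing A] [CommRing B] [CommRing C]
  [Algebra A C] (π : B →+* A) {ι' σ' : Type} [Finite σ']
  (P : Algebra.SubmersivePresentation A C ι' σ') (w : σ' → MvPolynomial ι' B)

/-- the lifted algebra `B[X]/(w)` -/
abbrev LiftAlg : Type v := MvPolynomial ι' B ⧸ Ideal.span (Set.range w)

/-- the composite `B[X] → A[X] → C` -/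
noncomputable def phi : MvPolynomial ι' B →+* C :=
  (MvPolynomial.aeval P.val : MvPolynomial ι' A →ₐ[A] C).toRingHom.comp (MvPolynomial.map π)

theorem phi_apply (G : MvPolynomial ι' B) :
    phi π P G = MvPolynomial.aeval P.val (MvPolynomial.map π G) := rfl

variable (hw : ∀ j, MvPolynomial.map π (w j) = P.relation j)

include hw in
theorem phi_w (j : σ') : phi π P (w j) = 0 := by
  rw [phi_apply, hw j]
  exact P.aeval_val_relation j

include hw in
theorem span_le_ker : Ideal.span (Set.range w) ≤ RingHom.ker (phi π P) := by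
  rw [Ideal.span_le]
  rintro _ ⟨j, rfl⟩
  exact phi_w π P w hw j

/-- the reduction map `B[X]/(w) → C` -/
noncomputable def piD : LiftAlg w →+* C :=
  Ideal.Quotient.lift _ (phi π P) (fun _ ha => span_le_ker π P w hw ha)

theorem piD_mk (G : MvPolynomial ι' B) :
    piD π P w hw (Ideal.Quotient.mk _ G) = phi π P G := rfl

theorem piD_algebraMap (b : B) :
    piD π P w hw (algebraMap B (LiftAlg w) b) = algebraMap A C (π b) := by
  have : algebraMap B (LiftAlg w) b = Ideal.Quotient.mk _ (MvPolynomial.C b) := rfl
  rw [this, piD_mk, phi_apply, MvPolynomial.map_C, MvPolynomial.aeval_C]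

theorem piD_surjective (hπ : Function.Surjective π) : Function.Surjective (piD π P w hw) := by
  intro c
  obtain ⟨g, rfl⟩ := P.algebraMap_surjective c
  obtain ⟨G, rfl⟩ := MvPolynomial.map_surjective π hπ g
  refine ⟨Ideal.Quotient.mk _ G, ?_⟩
  rw [piD_mk, phi_apply, P.algebraMap_apply]

theorem ker_piD (hπ : Function.Surjective π) :
    RingHom.ker (piD π P w hw) = Ideal.map (algebraMap B (LiftAlg w)) (RingHom.ker π) := by
  apply le_antisymm
  · intro d hd
    obtain ⟨G, rfl⟩ := Ideal.Quotient.mk_surjective d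
    rw [RingHom.mem_ker, piD_mk, phi_apply] at hd
    have h1 : MvPolynomial.map π G ∈ P.ker := by
      rw [Algebra.Generators.ker_eq_ker_aeval_val]
      exact hd
    rw [← P.span_range_relation_eq_ker, Finsupp.mem_ideal_span_range_iff_exists_finsupp] at h1
    obtain ⟨c, hc⟩ := h1
    choose H hH using fun j => MvPolynomial.map_surjective π hπ (c j)
    set G' : MvPolynomial ι' B := G - c.sum (fun j _ => H j * w j) with hG'
    have h2 : MvPolynomial.map π G' = 0 := by
      rw [hG', map_sub, ← hc, Finsupp.sum, Finsupp.sum, map_sum]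
      rw [sub_eq_zero]
      refine Finset.sum_congr rfl fun j _ => ?_
      rw [map_mul, hH, hw]
    have h3 : G' ∈ Ideal.map (MvPolynomial.C : B →+* MvPolynomial ι' B) (RingHom.ker π) := by
      rw [← MvPolynomial.ker_map]
      exact h2
    have h4 : Ideal.Quotient.mk (Ideal.span (Set.range w)) G = Ideal.Quotient.mk _ G' := by
      rw [hG', map_sub, Finsupp.sum, map_sum]
      rw [eq_sub_iff_add_eq, add_eq_left]
      refine Finset.sum_eq_zero fun j _ => ?_
      rw [map_mul, Ideal.Quotient.eq_zero_iff_mem.mpr (Ideal.subset_span (Set.mem_range_self j)), mul_zero]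
    rw [h4]
    have h5 : (algebraMap B (LiftAlg w)) =
        (Ideal.Quotient.mk (Ideal.span (Set.range w))).comp (MvPolynomial.C) := rfl
    rw [h5, ← Ideal.map_map]
    exact Ideal.mem_map_of_mem _ h3
  · rw [Ideal.map_le_iff_le_comap]
    intro b hb
    rw [Ideal.mem_comap, RingHom.mem_ker, piD_algebraMap, RingHom.mem_ker.mp hb, map_zero]

end construction

section etale

variable {A : Type v} {B : Type v} {C : Type v} [CommRing A] [CommRing B] [CommRing C]
  [Algebra A C] (π : B →+* A) {ι' σ' : Type} [Finite σ']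
  (P : Algebra.SubmersivePresentation A C ι' σ') (w : σ' → MvPolynomial ι' B)
  (hw : ∀ j, MvPolynomial.map π (w j) = P.relation j)

/-- the naive presubmersive presentation of `B[X]/(w)` -/
noncomputable def preQ : Algebra.PreSubmersivePresentation B (LiftAlg w) ι' σ' :=
  Algebra.PreSubmersivePresentation.naive (v := w) P.map P.map_inj

theorem piD_jacobian : piD π P w hw (preQ P w).jacobian = P.jacobian := by
  classical
  cases nonempty_fintype σ'
  rw [Algebra.PreSubmersivePresentation.jacobian_eq_jacobiMatrix_det,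
    Algebra.PreSubmersivePresentation.jacobian_eq_jacobiMatrix_det]
  have h1 : ∀ x : MvPolynomial ι' B,
      piD π P w hw (algebraMap (preQ P w).Ring (LiftAlg w) x) = phi π P x := fun x => rfl
  rw [h1, RingHom.map_det, RingHom.map_det]
  congr 1
  ext i j
  simp only [RingHom.mapMatrix_apply, Matrix.map_apply]
  rw [Algebra.PreSubmersivePresentation.jacobiMatrix_apply,
    Algebra.PreSubmersivePresentation.jacobiMatrix_apply]
  rw [phi_apply, P.algebraMap_apply]
  change aeval P.val (map π (pderiv (P.map i) (w j))) = _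
  rw [← MvPolynomial.pderiv_map, hw]

theorem ker_sq_zero (hπ : Function.Surjective π)
    (hsq : ∀ x y, π x = 0 → π y = 0 → x * y = 0) (x y : LiftAlg w)
    (hx : piD π P w hw x = 0) (hy : piD π P w hw y = 0) : x * y = 0 := by
  have hx' : x ∈ Ideal.map (algebraMap B (LiftAlg w)) (RingHom.ker π) := by
    rw [← ker_piD π P w hw hπ]; exact hx
  have hy' : y ∈ Ideal.map (algebraMap B (LiftAlg w)) (RingHom.ker π) := by
    rw [← ker_piD π P w hw hπ]; exact hy
  have h1 := Ideal.mul_mem_mul hx' hy'
  rw [← Ideal.map_mul] at h1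
  have hI : RingHom.ker π * RingHom.ker π = ⊥ := by
    rw [eq_bot_iff, Ideal.mul_le]
    intro a ha b hb
    rw [Ideal.mem_bot]
    exact hsq a b ha hb
  rw [hI, Ideal.map_bot, Ideal.mem_bot] at h1
  exact h1

include hw in
theorem isUnit_jacobian (hπ : Function.Surjective π)
    (hsq : ∀ x y, π x = 0 → π y = 0 → x * y = 0) : IsUnit (preQ P w).jacobian := by
  apply isUnit_of_map_of_sq_zero (piD π P w hw) (piD_surjective π P w hw hπ)
    (ker_sq_zero π P w hw hπ hsq)
  rw [piD_jacobian]
  exact P.jacobian_isUnit

/-- the submersive presentation of `B[X]/(w)` -/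
noncomputable def subQ (hπ : Function.Surjective π)
    (hsq : ∀ x y, π x = 0 → π y = 0 → x * y = 0) :
    Algebra.SubmersivePresentation B (LiftAlg w) ι' σ' where
  toPreSubmersivePresentation := preQ P w
  jacobian_isUnit := isUnit_jacobian π P w hw hπ hsq

include hw in
theorem etale_liftAlg [Finite ι'] (hπ : Function.Surjective π)
    (hsq : ∀ x y, π x = 0 → π y = 0 → x * y = 0) (hP : P.dimension = 0) :
    Algebra.Etale B (LiftAlg w) := by
  have h0 : (subQ π P w hw hπ hsq).dimension = 0 := hP
  have : Algebra.IsStandardSmoothOfRelativeDimension 0 B (LiftAlg w) :=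
    (subQ π P w hw hπ hsq).isStandardSmoothOfRelativeDimension h0
  infer_instance

end etale

section froblift

/-- a copy of a ring, to carry a twisted algebra structure -/
def Tw (D : Type v) : Type v := D

instance (D : Type v) [CommRing D] : CommRing (Tw D) := inferInstanceAs (CommRing D)

theorem exists_frob_lift_aux {B D C : Type v} [CommRing B] [CommRing D] [CommRing C] [Algebra B D]
    [Algebra.FormallyEtale B D] (p : ℕ) [Fact p.Prime] [CharP C p] (Φ : B →+* B) (πD : D →+* C)
    (hsurj : Function.Surjective πD) (hnil : ∀ x y, πD x = 0 → πD y = 0 → x * y = 0)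
    (hcompat : ∀ b, πD (algebraMap B D (Φ b)) = (πD (algebraMap B D b)) ^ p) :
    ∃ ΦD : D →+* D, (∀ b, ΦD (algebraMap B D b) = algebraMap B D (Φ b)) ∧
      ∀ d, πD (ΦD d) = πD d ^ p := by
  letI : Algebra B (Tw D) := ((algebraMap B D).comp Φ).toAlgebra
  letI : Algebra B (Tw C) := (πD.comp ((algebraMap B D).comp Φ)).toAlgebra
  let f : D →ₐ[B] Tw C :=
    { toRingHom := (frobenius C p).comp πD
      commutes' := fun b => by
        change (πD (algebraMap B D b)) ^ p = πD (algebraMap B D (Φ b))
        exact (hcompat b).symm }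
  let g : Tw D →ₐ[B] Tw C :=
    { toRingHom := πD
      commutes' := fun b => rfl }
  have hg : Function.Surjective g := hsurj
  have hg' : IsNilpotent (RingHom.ker (g : Tw D →+* Tw C)) := by
    refine ⟨2, ?_⟩
    rw [pow_two, Ideal.zero_eq_bot, eq_bot_iff, Ideal.mul_le]
    intro a ha b hb
    rw [Ideal.mem_bot]
    exact hnil a b ha hb
  let l : D →ₐ[B] Tw D := Algebra.FormallySmooth.liftOfSurjective f g hg hg'
  refine ⟨(l : D →+* Tw D), fun b => ?_, fun d => ?_⟩
  · exact l.commutes b
  · exact Algebra.FormallySmooth.liftOfSurjective_apply f g hg hg' d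

theorem exists_frob_lift {B D C : Type v} [CommRing B] [CommRing D] [CommRing C] [Algebra B D]
    [Algebra.FormallyEtale B D] (p : ℕ) [Fact p.Prime] (hp : (p : C) = 0) (Φ : B →+* B)
    (πD : D →+* C)
    (hsurj : Function.Surjective πD) (hnil : ∀ x y, πD x = 0 → πD y = 0 → x * y = 0)
    (hcompat : ∀ b, πD (algebraMap B D (Φ b)) = (πD (algebraMap B D b)) ^ p) :
    ∃ ΦD : D →+* D, (∀ b, ΦD (algebraMap B D b) = algebraMap B D (Φ b)) ∧
      ∀ d, πD (ΦD d) = πD d ^ p := by
  rcases subsingleton_or_nontrivial C with hC | hC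
  · have h1 : (1 : D) = 0 := by
      have := hnil 1 1 (Subsingleton.elim _ _) (Subsingleton.elim _ _)
      rwa [mul_one] at this
    have hD : Subsingleton D := subsingleton_of_zero_eq_one h1.symm
    exact ⟨RingHom.id D, fun b => Subsingleton.elim _ _, fun d => Subsingleton.elim _ _⟩
  · haveI : CharP C p := (CharP.charP_iff_prime_eq_zero (Fact.out : p.Prime)).mpr hp
    exact exists_frob_lift_aux p Φ πD hsurj hnil hcompat

end froblift

section main

open FrobAlg Groth.Agent.Lib.Helper16FrobLift

theorem isFLiftable_of_etale (p : ℕ) [Fact p.Prime] (k : Type u) [Field k] [IsAlgClosed k]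
    [CharP k p] (A C : Type v) [CommRing A] [CommRing C] [Algebra k A] [Algebra k C]
    [Algebra A C] [IsScalarTower k A C] [Algebra.Etale A C]
    (hA : FrobAlg.IsFLiftable p k A) : FrobAlg.IsFLiftable p k C := by
  obtain ⟨B, _, ι, π, Φ, h⟩ := hA
  have hlift : FrobAlg.IsLift p k A B ι π := h.toIsLift
  have hsmooth : Algebra.IsStandardSmoothOfRelativeDimension 0 A C :=
    Algebra.Etale.iff_isStandardSmoothOfRelativeDimension_zero.mp inferInstance
  obtain ⟨ι', σ', _, _, P, hP⟩ := hsmooth.out
  choose w hw using fun j => MvPolynomial.map_surjective π hlift.surj (P.relation j)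
  have hsq : ∀ x y, π x = 0 → π y = 0 → x * y = 0 := by
    intro x y hx hy
    obtain ⟨x', rfl⟩ := lift_ker p k hlift x hx
    obtain ⟨y', rfl⟩ := lift_ker p k hlift y hy
    have h2 := lift_p_sq p k hlift
    calc (p : B) * x' * ((p : B) * y') = ((p : B) * (p : B)) * (x' * y') := by ring
      _ = 0 := by rw [h2, zero_mul]
  haveI hEt : Algebra.Etale B (LiftAlg w) := etale_liftAlg π P w hw hlift.surj hsq hP
  have hpC : (p : C) = 0 := by
    rw [← map_natCast (algebraMap k C), CharP.cast_eq_zero, map_zero]
  have hsurjD := piD_surjective π P w hw hlift.surj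
  have hnilD := ker_sq_zero π P w hw hlift.surj hsq
  have hcompat : ∀ b, piD π P w hw (algebraMap B (LiftAlg w) (Φ b)) =
      (piD π P w hw (algebraMap B (LiftAlg w) b)) ^ p := by
    intro b
    rw [piD_algebraMap, piD_algebraMap, h.red, map_pow]
  obtain ⟨ΦD, hΦ1, hΦ2⟩ := exists_frob_lift p hpC Φ (piD π P w hw) hsurjD hnilD hcompat
  refine ⟨LiftAlg w, inferInstance, (algebraMap B (LiftAlg w)).comp ι, piD π P w hw, ΦD, ?_⟩
  refine { flat := ?_, surj := hsurjD, ker_eq := ?_, comm := ?_, semi := ?_, red := hΦ2 }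
  · have hflatD : (algebraMap B (LiftAlg w)).Flat := by
      rw [RingHom.flat_algebraMap_iff]
      exact Algebra.Smooth.flat B (LiftAlg w)
    exact RingHom.Flat.comp hlift.flat hflatD
  · rw [ker_piD π P w hw hlift.surj, hlift.ker_eq, Ideal.map_map]
  · ext x
    simp only [RingHom.comp_apply]
    rw [piD_algebraMap]
    have := RingHom.congr_fun hlift.comm x
    simp only [RingHom.comp_apply] at this
    rw [this, ← IsScalarTower.algebraMap_apply]
  · ext x
    simp only [RingHom.comp_apply]
    rw [hΦ1]
    have := RingHom.congr_fun h.semi x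
    simp only [RingHom.comp_apply] at this
    rw [this]

end main

end Groth.Agent.R2.H88.FrobEtale
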