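import Mathlib
import Groth.Prelude.Def_GrSeg

/-!
# Helper library (helper97): Segre products of graded modules, basic finiteness.

Main result: `segre_module_finite` — for finitely generated graded modules `M`, `N` over graded
`k`-algebras of finite type, the Segre product `M # N` is a finitely generated module over the Segre
ring `R # S`.
-/

set_option autoImplicit false
universe u
open scoped TensorProduct

namespace Groth.Agent.R2.H97.Segre

section Proj

variable {k : Type u} [Field k] {R : Type u} [CommRing R] [Algebra k R]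
  (𝒜 : ℤ → Submodule k R) [GradedAlgebra 𝒜]
  {M : Type u} [AddCommGroup M] [Module R M] [Module k M] [IsScalarTower k R M]
  (ℳ : ℤ → AddSubgroup M) [DirectSum.Decomposition ℳ] [SetLike.GradedSMul 𝒜 ℳ]

/-- the `n`-th homogeneous component, as an additive map -/
noncomputable def projAdd (n : ℤ) : M →+ M :=
  (AddSubgroup.subtype (ℳ n)).comp
    ((DFinsupp.evalAddMonoidHom n).comp (DirectSum.decomposeAddEquiv ℳ).toAddMonoidHom)

theorem projAdd_apply (n : ℤ) (x : M) : projAdd ℳ n x = (DirectSum.decompose ℳ x n : M) := rfl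

theorem projAdd_mem (n : ℤ) (x : M) : projAdd ℳ n x ∈ ℳ n := by
  rw [projAdd_apply]; exact (DirectSum.decompose ℳ x n).2

theorem projAdd_of_mem_same {n : ℤ} {x : M} (hx : x ∈ ℳ n) : projAdd ℳ n x = x := by
  rw [projAdd_apply, DirectSum.decompose_of_mem_same ℳ hx]

theorem projAdd_of_mem_ne {n m : ℤ} {x : M} (hx : x ∈ ℳ m) (h : m ≠ n) : projAdd ℳ n x = 0 := by
  rw [projAdd_apply, DirectSum.decompose_of_mem_ne ℳ hx h]

include 𝒜 in
omit [DirectSum.Decomposition ℳ] in
theorem smul_mem_piece (c : k) {n : ℤ} {x : M} (hx : x ∈ ℳ n) : c • x ∈ ℳ n := by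
  have h1 : (algebraMap k R c) ∈ 𝒜 0 := by
    rw [Algebra.algebraMap_eq_smul_one]
    exact Submodule.smul_mem _ _ (SetLike.GradedOne.one_mem)
  have h2 : (algebraMap k R c) • x ∈ ℳ ((0 : ℤ) +ᵥ n) :=
    SetLike.GradedSMul.smul_mem (A := 𝒜) (B := ℳ) h1 hx
  rw [algebraMap_smul, vadd_eq_add, zero_add] at h2
  exact h2

include 𝒜 in
theorem projAdd_smul (n : ℤ) (c : k) (x : M) : projAdd ℳ n (c • x) = c • projAdd ℳ n x := by
  induction x using DirectSum.Decomposition.inductionOn ℳ with
  | zero => simp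
  | @homogeneous i m =>
    by_cases h : i = n
    · subst h
      rw [projAdd_of_mem_same ℳ (smul_mem_piece 𝒜 ℳ c m.2), projAdd_of_mem_same ℳ m.2]
    · rw [projAdd_of_mem_ne ℳ (smul_mem_piece 𝒜 ℳ c m.2) h, projAdd_of_mem_ne ℳ m.2 h, smul_zero]
  | add a b ha hb => rw [smul_add, map_add, map_add, ha, hb, smul_add]

/-- the `n`-th homogeneous component, as a `k`-linear map -/
noncomputable def projLin (n : ℤ) : M →ₗ[k] M where
  toFun := projAdd ℳ n
  map_add' := map_add _
  map_smul' c x := projAdd_smul 𝒜 ℳ n c x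

theorem projLin_apply (n : ℤ) (x : M) : projLin 𝒜 ℳ n x = projAdd ℳ n x := rfl

omit [Module k M] [IsScalarTower k R M] in
/-- `π_n (r • a) = (r_{n-m}) • a` for `a` homogeneous of degree `m`. -/
theorem projAdd_smul_of_mem (n m : ℤ) (r : R) {a : M} (ha : a ∈ ℳ m) :
    projAdd ℳ n (r • a) = (GradedAlgebra.proj 𝒜 (n - m) r) • a := by
  induction r using DirectSum.Decomposition.inductionOn 𝒜 with
  | zero => simp
  | @homogeneous i r =>
    have hmem : (r : R) • a ∈ ℳ (i + m) := by
      have := SetLike.GradedSMul.smul_mem (A := 𝒜) (B := ℳ) r.2 ha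
      rwa [vadd_eq_add] at this
    rw [GradedAlgebra.proj_apply]
    by_cases h : i = n - m
    · have h' : i + m = n := by omega
      rw [DirectSum.decompose_of_mem_same 𝒜 (h ▸ r.2)]
      rw [projAdd_of_mem_same ℳ (h' ▸ hmem)]
    · have h' : i + m ≠ n := by omega
      rw [DirectSum.decompose_of_mem_ne 𝒜 r.2 h, zero_smul, projAdd_of_mem_ne ℳ hmem h']
  | add x y hx hy => rw [add_smul, map_add, hx, hy, map_add, add_smul]

end Proj

section Act

variable (k : Type u) [Field k] (R S : Type u) [CommRing R] [CommRing S] [Algebra k R] [Algebra k S]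
  (M N : Type u) [AddCommGroup M] [Module R M] [Module k M] [IsScalarTower k R M]
  [AddCommGroup N] [Module S N] [Module k N] [IsScalarTower k S N]

theorem act_one : GrSeg.act k R S M N 1 = LinearMap.id := by
  apply TensorProduct.ext'
  intro m n
  rw [Algebra.TensorProduct.one_def, GrSeg.act_tmul]
  simp

theorem act_mul (x y : R ⊗[k] S) :
    GrSeg.act k R S M N (x * y) = GrSeg.act k R S M N x ∘ₗ GrSeg.act k R S M N y := by
  induction x with
  | zero => simp
  | tmul r s =>
    induction y with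
    | zero => simp
    | tmul r' s' =>
      apply TensorProduct.ext'
      intro m n
      simp [Algebra.TensorProduct.tmul_mul_tmul, GrSeg.act_tmul, mul_smul]
    | add y y' hy hy' => rw [mul_add, map_add, hy, hy', map_add, LinearMap.comp_add]
  | add x x' hx hx' => rw [add_mul, map_add, hx, hx', map_add, LinearMap.add_comp]

/-- the action of `R ⊗ S` on `M ⊗ N` as a ring homomorphism to the endomorphism ring -/
noncomputable def actRingHom : R ⊗[k] S →+* Module.End k (M ⊗[k] N) where
  toFun := GrSeg.act k R S M N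
  map_one' := act_one k R S M N
  map_mul' x y := act_mul k R S M N x y
  map_zero' := map_zero _
  map_add' := map_add _

/-- the `R ⊗ S`-module structure on `M ⊗ N` (not an instance) -/
@[reducible] noncomputable def actModule : Module (R ⊗[k] S) (M ⊗[k] N) :=
  Module.compHom (M ⊗[k] N) (actRingHom k R S M N)

theorem actModule_smul (c : R ⊗[k] S) (w : M ⊗[k] N) :
    (letI := actModule k R S M N; c • w) = GrSeg.act k R S M N c w := rfl

theorem finite_tensor [Module.Finite R M] [Module.Finite S N] :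
    letI := actModule k R S M N
    Module.Finite (R ⊗[k] S) (M ⊗[k] N) := by
  let _ := actModule k R S M N
  obtain ⟨sM, hsM⟩ := (Module.finite_def (R := R) (M := M)).mp inferInstance
  obtain ⟨sN, hsN⟩ := (Module.finite_def (R := S) (M := N)).mp inferInstance
  classical
  refine ⟨⟨Finset.image₂ (fun m n => m ⊗ₜ[k] n) sM sN, ?_⟩⟩
  set U : Submodule (R ⊗[k] S) (M ⊗[k] N) :=
    Submodule.span (R ⊗[k] S) (↑(Finset.image₂ (fun m n => m ⊗ₜ[k] n) sM sN) : Set (M ⊗[k] N)) with hU
  have h1 : ∀ m : M, ∀ n' ∈ sN, m ⊗ₜ[k] n' ∈ U := by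
    intro m n' hn'
    have hm : m ∈ Submodule.span R (sM : Set M) := by rw [hsM]; trivial
    induction hm using Submodule.span_induction with
    | mem x hx =>
      apply Submodule.subset_span
      rw [Finset.coe_image₂]
      exact ⟨x, hx, n', hn', rfl⟩
    | zero => rw [TensorProduct.zero_tmul]; exact U.zero_mem
    | add x y _ _ hx hy => rw [TensorProduct.add_tmul]; exact U.add_mem hx hy
    | smul r x _ hx =>
      have : (r • x) ⊗ₜ[k] n' = (r ⊗ₜ[k] (1 : S)) • (x ⊗ₜ[k] n') := by
        rw [actModule_smul, GrSeg.act_tmul, one_smul]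
      rw [this]
      exact U.smul_mem _ hx
  have h2 : ∀ (m : M) (n : N), m ⊗ₜ[k] n ∈ U := by
    intro m n
    have hn : n ∈ Submodule.span S (sN : Set N) := by rw [hsN]; trivial
    induction hn using Submodule.span_induction with
    | mem x hx => exact h1 m x hx
    | zero => rw [TensorProduct.tmul_zero]; exact U.zero_mem
    | add x y _ _ hx hy => rw [TensorProduct.tmul_add]; exact U.add_mem hx hy
    | smul s x _ hx =>
      have : m ⊗ₜ[k] (s • x) = ((1 : R) ⊗ₜ[k] s) • (m ⊗ₜ[k] x) := by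
        rw [actModule_smul, GrSeg.act_tmul, one_smul]
      rw [this]
      exact U.smul_mem _ hx
  rw [eq_top_iff]
  rintro w -
  induction w with
  | zero => exact U.zero_mem
  | tmul m n => exact h2 m n
  | add x y hx hy => exact U.add_mem hx hy

end Act

section Main

variable {k : Type u} [Field k] {R : Type u} [CommRing R] [Algebra k R]
  (𝒜 : ℤ → Submodule k R) [GradedAlgebra 𝒜]
  {S : Type u} [CommRing S] [Algebra k S] (ℬ : ℤ → Submodule k S) [GradedAlgebra ℬ]
  {M : Type u} [AddCommGroup M] [Module R M] [Module k M] [IsScalarTower k R M]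
  (ℳ : ℤ → AddSubgroup M) [DirectSum.Decomposition ℳ] [SetLike.GradedSMul 𝒜 ℳ]
  {N : Type u} [AddCommGroup N] [Module S N] [Module k N] [IsScalarTower k S N]
  (𝒩 : ℤ → AddSubgroup N) [DirectSum.Decomposition 𝒩] [SetLike.GradedSMul ℬ 𝒩]

/-- projection of `M ⊗ N` onto `M_n ⊗ N_n` -/
noncomputable def segProj (n : ℤ) : M ⊗[k] N →ₗ[k] M ⊗[k] N :=
  TensorProduct.map (projLin 𝒜 ℳ n) (projLin ℬ 𝒩 n)

/-- projection of `R ⊗ S` onto `R_m ⊗ S_m` -/
noncomputable def segProjRing (m : ℤ) : R ⊗[k] S →ₗ[k] R ⊗[k] S :=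
  TensorProduct.map (GradedAlgebra.proj 𝒜 m) (GradedAlgebra.proj ℬ m)

theorem segProj_of_mem {n : ℤ} {w : M ⊗[k] N} (hw : w ∈ GrSeg.segrePiece k ℳ 𝒩 n) :
    segProj 𝒜 ℬ ℳ 𝒩 n w = w := by
  unfold GrSeg.segrePiece at hw
  induction hw using Submodule.span_induction with
  | mem x hx =>
    obtain ⟨a, ha, b, hb, rfl⟩ := hx
    rw [segProj, TensorProduct.map_tmul, projLin_apply, projLin_apply,
      projAdd_of_mem_same ℳ ha, projAdd_of_mem_same 𝒩 hb]
  | zero => simp
  | add x y _ _ hx hy => rw [map_add, hx, hy]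
  | smul c x _ hx => rw [map_smul, hx]

theorem segProjRing_mem (m : ℤ) (c : R ⊗[k] S) :
    segProjRing 𝒜 ℬ m c ∈ GrSeg.segrePiece k 𝒜 ℬ m := by
  induction c with
  | zero => simp
  | tmul r s =>
    rw [segProjRing, TensorProduct.map_tmul]
    apply Submodule.subset_span
    refine ⟨_, ?_, _, ?_, rfl⟩
    · rw [GradedAlgebra.proj_apply]; exact (DirectSum.decompose 𝒜 r m).2
    · rw [GradedAlgebra.proj_apply]; exact (DirectSum.decompose ℬ s m).2
  | add x y hx hy => rw [map_add]; exact Submodule.add_mem _ hx hy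

theorem segProj_act {n m : ℤ} (c : R ⊗[k] S) {w : M ⊗[k] N}
    (hw : w ∈ GrSeg.segrePiece k ℳ 𝒩 m) :
    segProj 𝒜 ℬ ℳ 𝒩 n (GrSeg.act k R S M N c w) =
      GrSeg.act k R S M N (segProjRing 𝒜 ℬ (n - m) c) w := by
  unfold GrSeg.segrePiece at hw
  induction hw using Submodule.span_induction with
  | mem x hx =>
    obtain ⟨a, ha, b, hb, rfl⟩ := hx
    induction c with
    | zero => simp
    | tmul r s =>
      rw [GrSeg.act_tmul, segProj, TensorProduct.map_tmul, projLin_apply, projLin_apply,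
        projAdd_smul_of_mem 𝒜 ℳ n m r ha, projAdd_smul_of_mem ℬ 𝒩 n m s hb,
        segProjRing, TensorProduct.map_tmul, GrSeg.act_tmul]
    | add x y hx hy =>
      rw [map_add, LinearMap.add_apply, map_add, hx, hy, map_add, map_add, LinearMap.add_apply]
  | zero => simp
  | add x y _ _ hx hy => rw [map_add, map_add, hx, hy, map_add]
  | smul d x _ hx => rw [map_smul, map_smul, hx, map_smul]

variable {T : Type u} [CommRing T] [Algebra k T] (𝒯 : ℤ → Submodule k T) [GradedAlgebra 𝒯]
  {P : Type u} [AddCommGroup P] [Module T P] [Module k P] [IsScalarTower k T P]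
  (𝒬 : ℤ → AddSubgroup P) [DirectSum.Decomposition 𝒬]

/-- The Segre product of finitely generated graded modules over graded `k`-algebras of finite type is a
finitely generated module over the Segre ring. -/
theorem segre_module_finite [Algebra.FiniteType k R] [Algebra.FiniteType k S]
    [Module.Finite R M] [Module.Finite S N]
    (ψ : T →ₐ[k] R ⊗[k] S) (hT : GrSeg.IsSegreRing 𝒜 ℬ 𝒯 ψ)
    (φ : P →ₗ[k] M ⊗[k] N) (hP : GrSeg.IsSegreMod ψ ℳ 𝒩 𝒬 φ) : Module.Finite T P := by
  classical
  let _ := actModule k R S M N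
  haveI : Algebra.FiniteType k (R ⊗[k] S) :=
    Algebra.FiniteType.trans (S := R) inferInstance inferInstance
  haveI : IsNoetherianRing (R ⊗[k] S) := Algebra.FiniteType.isNoetherianRing k (R ⊗[k] S)
  haveI : Module.Finite (R ⊗[k] S) (M ⊗[k] N) := finite_tensor k R S M N
  haveI : IsNoetherian (R ⊗[k] S) (M ⊗[k] N) := isNoetherian_of_isNoetherianRing_of_finite _ _
  let G : Set (M ⊗[k] N) := {w | ∃ n, ∃ p ∈ 𝒬 n, φ p = w}
  have hfg : (Submodule.span (R ⊗[k] S) G).FG := IsNoetherian.noetherian _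
  obtain ⟨F, hFG, hF⟩ := (Submodule.fg_span_iff_fg_span_finset_subset G).mp hfg
  have hch : ∀ f : {x // x ∈ F}, ∃ n, ∃ p ∈ 𝒬 n, φ p = f.1 := fun f => hFG f.2
  choose deg pre hpre hφpre using hch
  refine ⟨⟨F.attach.image pre, ?_⟩⟩
  rw [eq_top_iff]
  rintro p -
  induction p using DirectSum.Decomposition.inductionOn 𝒬 with
  | zero => exact Submodule.zero_mem _
  | add a b ha hb => exact Submodule.add_mem _ ha hb
  | @homogeneous n p =>
    have hpG : φ p ∈ Submodule.span (R ⊗[k] S) G := Submodule.subset_span ⟨n, p, p.2, rfl⟩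
    rw [hF] at hpG
    obtain ⟨c, -, hc⟩ := Submodule.mem_span_finset.mp hpG
    have hpiece : ∀ (m : ℤ) (q : P), q ∈ 𝒬 m → φ q ∈ GrSeg.segrePiece k ℳ 𝒩 m := by
      intro m q hq
      have : φ q ∈ φ '' (𝒬 m : Set P) := ⟨q, hq, rfl⟩
      rw [hP.image_piece m] at this
      exact this
    have h1 : segProj 𝒜 ℬ ℳ 𝒩 n (φ p) = φ p := segProj_of_mem 𝒜 ℬ ℳ 𝒩 (hpiece n p p.2)
    -- coefficients in the Segre ring
    have hcoef : ∀ f : {x // x ∈ F}, ∃ t : T, ψ t = segProjRing 𝒜 ℬ (n - deg f) (c f.1) := by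
      intro f
      have hmem := segProjRing_mem 𝒜 ℬ (n - deg f) (c f.1)
      rw [← hT.2 (n - deg f)] at hmem
      obtain ⟨t, -, ht⟩ := hmem
      exact ⟨t, ht⟩
    choose t ht using hcoef
    have key : φ p = φ (∑ f ∈ F.attach, t f • pre f) := by
      rw [map_sum]
      conv_lhs => rw [← h1, ← hc, map_sum, ← Finset.sum_attach]
      refine Finset.sum_congr rfl ?_
      intro f _
      rw [hP.map_smul, ht f, hφpre f]
      have hw : (f.1 : M ⊗[k] N) ∈ GrSeg.segrePiece k ℳ 𝒩 (deg f) := by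
        rw [← hφpre f]; exact hpiece _ _ (hpre f)
      exact segProj_act 𝒜 ℬ ℳ 𝒩 (c f.1) hw
    rw [hP.injective key]
    refine Submodule.sum_mem _ ?_
    intro f hf
    refine Submodule.smul_mem _ _ (Submodule.subset_span ?_)
    rw [Finset.coe_image]
    exact ⟨f, hf, rfl⟩

end Main

end Groth.Agent.R2.H97.Segre
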