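import Mathlib
import Groth.Agent.R2.H97Segre

/-!
# Quotient gradings, homogeneity of annihilators and of minimal primes, homogeneous witnesses of
associated primes (towards S19753)
-/

set_option autoImplicit false

namespace Groth.Agent.R2.H88.GrQuot

open DirectSum

section Quot

variable {k R : Type*} [CommRing k] [CommRing R] [Algebra k R] (𝒜 : ℤ → Submodule k R)
  [GradedAlgebra 𝒜] (I : Ideal R)

/-- pieces of the quotient grading -/
def quotGrading (n : ℤ) : Submodule k (R ⧸ I) :=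
  (𝒜 n).map (Ideal.Quotient.mkₐ k I).toLinearMap

omit [GradedAlgebra 𝒜] in
theorem mk_mem_quotGrading {n : ℤ} {a : R} (ha : a ∈ 𝒜 n) :
    Ideal.Quotient.mk I a ∈ quotGrading 𝒜 I n := ⟨a, ha, rfl⟩

omit [GradedAlgebra 𝒜] in
theorem exists_of_mem_quotGrading {n : ℤ} {x : R ⧸ I} (hx : x ∈ quotGrading 𝒜 I n) :
    ∃ a ∈ 𝒜 n, Ideal.Quotient.mk I a = x := by
  obtain ⟨a, ha, rfl⟩ := hx
  exact ⟨a, ha, rfl⟩

instance : SetLike.GradedMonoid (quotGrading 𝒜 I) where
  one_mem := ⟨1, SetLike.GradedOne.one_mem, map_one (Ideal.Quotient.mk I)⟩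
  mul_mem := by
    rintro i j _ _ ⟨a, ha, rfl⟩ ⟨b, hb, rfl⟩
    exact ⟨a * b, SetLike.GradedMul.mul_mem ha hb, map_mul (Ideal.Quotient.mk I) a b⟩

/-- component maps -/
noncomputable def compMap (n : ℤ) : 𝒜 n →ₗ[k] quotGrading 𝒜 I n :=
  (Ideal.Quotient.mkₐ k I).toLinearMap.restrict (p := 𝒜 n) (q := quotGrading 𝒜 I n)
    (fun x hx => ⟨x, hx, rfl⟩)

omit [GradedAlgebra 𝒜] in
theorem compMap_coe (n : ℤ) (a : 𝒜 n) :
    ((compMap 𝒜 I n a : quotGrading 𝒜 I n) : R ⧸ I) = Ideal.Quotient.mk I (a : R) := rfl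

noncomputable def preDecomp : R →ₗ[k] ⨁ n, quotGrading 𝒜 I n :=
  (DirectSum.lmap (compMap 𝒜 I)) ∘ₗ (DirectSum.decomposeLinearEquiv 𝒜).toLinearMap

theorem preDecomp_of_mem {n : ℤ} {a : R} (ha : a ∈ 𝒜 n) :
    preDecomp 𝒜 I a = DirectSum.of (fun n => quotGrading 𝒜 I n) n
      ⟨Ideal.Quotient.mk I a, mk_mem_quotGrading 𝒜 I ha⟩ := by
  unfold preDecomp
  rw [LinearMap.comp_apply]
  change (DirectSum.lmap (compMap 𝒜 I)) (DirectSum.decompose 𝒜 a) = _
  rw [DirectSum.decompose_of_mem 𝒜 ha, DirectSum.lmap_of]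
  rfl

variable {I} in
theorem preDecomp_eq_zero (hI : I.IsHomogeneous 𝒜) {x : R} (hx : x ∈ I) :
    preDecomp 𝒜 I x = 0 := by
  unfold preDecomp
  rw [LinearMap.comp_apply]
  change (DirectSum.lmap (compMap 𝒜 I)) (DirectSum.decompose 𝒜 x) = _
  ext i
  rw [DirectSum.lmap_apply, compMap_coe]
  have := hI i hx
  rw [DirectSum.zero_apply, ZeroMemClass.coe_zero]
  exact Ideal.Quotient.eq_zero_iff_mem.mpr this

theorem coe_preDecomp (r : R) :
    DirectSum.coeAddMonoidHom (quotGrading 𝒜 I) (preDecomp 𝒜 I r) = Ideal.Quotient.mk I r := by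
  induction r using DirectSum.Decomposition.inductionOn 𝒜 with
  | zero => simp
  | homogeneous a => rw [preDecomp_of_mem 𝒜 I a.2, DirectSum.coeAddMonoidHom_of]
  | add a b ha hb => rw [map_add, map_add, ha, hb, map_add]

theorem preDecomp_surjective : Function.Surjective (preDecomp 𝒜 I) := by
  unfold preDecomp
  rw [LinearMap.coe_comp]
  apply Function.Surjective.comp
  · rw [DirectSum.lmap_surjective]
    intro n y
    obtain ⟨a, ha, hay⟩ := exists_of_mem_quotGrading 𝒜 I y.2
    exact ⟨⟨a, ha⟩, Subtype.ext hay⟩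
  · exact (DirectSum.decomposeLinearEquiv 𝒜).surjective

variable {I} in
theorem preDecomp_congr (hI : I.IsHomogeneous 𝒜) {r r' : R}
    (h : Ideal.Quotient.mk I r = Ideal.Quotient.mk I r') :
    preDecomp 𝒜 I r = preDecomp 𝒜 I r' := by
  have h1 : r - r' ∈ I := Ideal.Quotient.eq.mp h
  have h2 := preDecomp_eq_zero 𝒜 hI h1
  rwa [map_sub, sub_eq_zero] at h2

variable {I} in
/-- the quotient of a graded algebra by a homogeneous ideal is graded -/
@[reducible] noncomputable def quotDecomposition (hI : I.IsHomogeneous 𝒜) :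
    DirectSum.Decomposition (quotGrading 𝒜 I) where
  decompose' x := preDecomp 𝒜 I (Quotient.out x)
  left_inv x := by
    rw [coe_preDecomp]
    exact Ideal.Quotient.mk_out x
  right_inv v := by
    obtain ⟨r, rfl⟩ := preDecomp_surjective 𝒜 I v
    apply preDecomp_congr 𝒜 hI
    rw [Ideal.Quotient.mk_out, coe_preDecomp]

variable {I} in
@[reducible] noncomputable def quotGradedAlgebra (hI : I.IsHomogeneous 𝒜) :
    GradedAlgebra (quotGrading 𝒜 I) :=
  { (inferInstance : SetLike.GradedMonoid (quotGrading 𝒜 I)), quotDecomposition 𝒜 hI with }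

omit [GradedAlgebra 𝒜] in
theorem quotGrading_eq_bot {n : ℤ} (h : 𝒜 n = ⊥) : quotGrading 𝒜 I n = ⊥ := by
  unfold quotGrading
  rw [h, Submodule.map_bot]

omit [GradedAlgebra 𝒜] in
theorem quotGrading_zero (h : 𝒜 0 = Submodule.span k {(1 : R)}) :
    quotGrading 𝒜 I 0 = Submodule.span k {(1 : R ⧸ I)} := by
  unfold quotGrading
  rw [h, Submodule.map_span, Set.image_singleton]
  simp

end Quot

section Ann

universe u

open Groth.Agent.R2.H97.Segre

variable {k : Type u} [Field k] {R : Type u} [CommRing R] [Algebra k R]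
  (𝒜 : ℤ → Submodule k R) [GradedAlgebra 𝒜]
  {M : Type u} [AddCommGroup M] [Module R M]
  (ℳ : ℤ → AddSubgroup M) [DirectSum.Decomposition ℳ] [SetLike.GradedSMul 𝒜 ℳ]

include ℳ in
/-- the annihilator of a graded module is homogeneous -/
theorem annihilator_isHomogeneous : (Module.annihilator R M).IsHomogeneous 𝒜 := by
  intro i x hx
  rw [Module.mem_annihilator] at hx ⊢
  intro m
  induction m using DirectSum.Decomposition.inductionOn ℳ with
  | zero => rw [smul_zero]
  | @homogeneous j m =>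
    have h := projAdd_smul_of_mem 𝒜 ℳ (i + j) j x m.2
    rw [hx, map_zero, add_sub_cancel_right, GradedAlgebra.proj_apply] at h
    exact h.symm
  | add a b ha hb => rw [smul_add, ha, hb, add_zero]

omit [GradedAlgebra 𝒜] in
/-- a homogeneous scalar shifts the projections -/
theorem projAdd_smul_of_mem_left (i j : ℤ) {x : R} (hx : x ∈ 𝒜 j) (m : M) :
    projAdd ℳ (j + i) (x • m) = x • projAdd ℳ i m := by
  induction m using DirectSum.Decomposition.inductionOn ℳ with
  | zero => simp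
  | @homogeneous l m =>
    have hmem : x • (m : M) ∈ ℳ (j + l) := by
      have := SetLike.GradedSMul.smul_mem (A := 𝒜) (B := ℳ) hx m.2
      rwa [vadd_eq_add] at this
    by_cases h : l = i
    · subst h
      rw [projAdd_of_mem_same ℳ hmem, projAdd_of_mem_same ℳ m.2]
    · have h' : j + l ≠ j + i := by omega
      rw [projAdd_of_mem_ne ℳ hmem h', projAdd_of_mem_ne ℳ m.2 h, smul_zero]
  | add a b ha hb => rw [smul_add, map_add, ha, hb, map_add, smul_add]

/-- a homogeneous prime which is the annihilator of an element is the annihilator of a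
homogeneous element -/
theorem exists_homogeneous_colon_eq (p : Ideal R) [hp : p.IsPrime] (hph : p.IsHomogeneous 𝒜)
    (m : M) (hm : ∀ r : R, r ∈ p ↔ r • m = 0) :
    ∃ (i : ℤ) (m' : M), m' ∈ ℳ i ∧ ∀ r : R, r ∈ p ↔ r • m' = 0 := by
  classical
  -- every element of `p` kills every component
  have h1 : ∀ (i : ℤ) (x : R), x ∈ p → x • projAdd ℳ i m = 0 := by
    intro i x hx
    rw [← DirectSum.sum_support_decompose 𝒜 x, Finset.sum_smul]
    apply Finset.sum_eq_zero
    intro j _
    have hxj : (DirectSum.decompose 𝒜 x j : R) ∈ p := hph j hx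
    have hxj' : (DirectSum.decompose 𝒜 x j : R) ∈ 𝒜 j := (DirectSum.decompose 𝒜 x j).2
    rw [← projAdd_smul_of_mem_left 𝒜 ℳ i j hxj', (hm _).mp hxj, map_zero]
  by_contra hcon
  push Not at hcon
  have h2 : ∀ i : ℤ, ∃ r : R, r • projAdd ℳ i m = 0 ∧ r ∉ p := by
    intro i
    obtain ⟨r, hr | hr⟩ := hcon i (projAdd ℳ i m) (projAdd_mem ℳ i m)
    · exact absurd (h1 i r hr.1) hr.2
    · exact ⟨r, hr.2, hr.1⟩
  choose r hr0 hrp using h2
  set s := (DirectSum.decompose ℳ m).support with hs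
  have hprod : (∏ i ∈ s, r i) ∉ p := by
    rw [hp.prod_mem_iff]
    push Not
    intro i _
    exact hrp i
  apply hprod
  rw [hm]
  have hsum : m = ∑ i ∈ s, projAdd ℳ i m := by
    conv_lhs => rw [← DirectSum.sum_support_decompose ℳ m]
    rfl
  rw [hsum, Finset.smul_sum]
  apply Finset.sum_eq_zero
  intro i hi
  obtain ⟨c, hc⟩ := Finset.dvd_prod_of_mem r hi
  rw [hc, mul_comm, mul_smul, hr0 i, smul_zero]

omit [Field k] in
/-- minimal primes over a homogeneous ideal are homogeneous -/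
theorem isHomogeneous_of_mem_minimalPrimes {k : Type*} [CommRing k] [Algebra k R]
    (𝒜 : ℤ → Submodule k R) [GradedAlgebra 𝒜] {I p : Ideal R} (hI : I.IsHomogeneous 𝒜)
    (hp : p ∈ I.minimalPrimes) : p.IsHomogeneous 𝒜 := by
  have hprime : ((p.homogeneousCore 𝒜).toIdeal).IsPrime := Ideal.IsPrime.homogeneousCore hp.1.1
  have hle : (p.homogeneousCore 𝒜).toIdeal ≤ p := Ideal.toIdeal_homogeneousCore_le 𝒜 p
  have hI' : I ≤ (p.homogeneousCore 𝒜).toIdeal := by
    rw [← hI.toIdeal_homogeneousCore_eq_self]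
    exact Ideal.homogeneousCore_mono 𝒜 hp.1.2
  have := hp.2 ⟨hprime, hI'⟩ hle
  have heq : (p.homogeneousCore 𝒜).toIdeal = p := le_antisymm hle this
  rw [← heq]
  exact (p.homogeneousCore 𝒜).isHomogeneous

end Ann

end Groth.Agent.R2.H88.GrQuot
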