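import Mathlib
import Groth.Agent.Lib.Helper3FibreFree
import Groth.Agent.Lib.Helper3FlatModelMod
import Groth.Agent.Lib.Helper3FlatBC
import Groth.Agent.S9158

set_option autoImplicit false
set_option linter.style.haveILetI false

open TensorProduct

namespace Groth.Agent.R2.H88.StratFree

universe u

section Nilp

variable {C : Type*} [CommRing C] {X : Type*} [AddCommGroup X] [Module C X]

theorem top_le_of_sup_smul_top {𝔫 : Ideal C} {n : ℕ} (hn : 𝔫 ^ n = ⊥) (N : Submodule C X)
    (h : (⊤ : Submodule C X) ≤ N ⊔ 𝔫 • ⊤) : N = ⊤ := by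
  have key : ∀ k : ℕ, (⊤ : Submodule C X) ≤ N ⊔ 𝔫 ^ k • ⊤ := by
    intro k
    induction k with
    | zero => simp
    | succ k ih =>
      calc (⊤ : Submodule C X) ≤ N ⊔ 𝔫 ^ k • ⊤ := ih
        _ ≤ N ⊔ 𝔫 ^ k • (N ⊔ 𝔫 • ⊤) := by
            gcongr
        _ ≤ N ⊔ 𝔫 ^ (k + 1) • ⊤ := by
            rw [Submodule.smul_sup, ← Submodule.mul_smul, ← pow_succ]
            refine sup_le le_sup_left (sup_le ?_ le_sup_right)
            exact le_trans Submodule.smul_le_right le_sup_left
  have := key n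
  rw [hn, Submodule.bot_smul, sup_bot_eq] at this
  exact top_le_iff.mp this

theorem eq_bot_of_le_smul {𝔫 : Ideal C} {n : ℕ} (hn : 𝔫 ^ n = ⊥) (K : Submodule C X)
    (h : K ≤ 𝔫 • K) : K = ⊥ := by
  have key : ∀ k : ℕ, K ≤ 𝔫 ^ k • K := by
    intro k
    induction k with
    | zero => simp
    | succ k ih =>
      calc K ≤ 𝔫 ^ k • K := ih
        _ ≤ 𝔫 ^ k • (𝔫 • K) := by gcongr
        _ = 𝔫 ^ (k + 1) • K := by rw [← Submodule.mul_smul, ← pow_succ]
  have := key n
  rw [hn, Submodule.bot_smul] at this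
  exact le_bot_iff.mp this

end Nilp

section Lift

variable {C D : Type*} [CommRing C] [CommRing D] [Algebra C D]
  {X : Type*} [AddCommGroup X] [Module C X]

/-- If `C → D` is surjective, `1 ⊗ x = 0` in `D ⊗ X` forces `x ∈ (ker) X`. -/
theorem mem_smul_top_of_one_tmul_eq_zero (hsurj : Function.Surjective (algebraMap C D)) (x : X)
    (hx : (1 : D) ⊗ₜ[C] x = 0) :
    x ∈ (RingHom.ker (algebraMap C D)) • (⊤ : Submodule C X) := by
  set 𝔫 : Ideal C := LinearMap.ker (Algebra.linearMap C D) with h𝔫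
  have h𝔫' : 𝔫 = RingHom.ker (algebraMap C D) := by
    ext c; rfl
  rw [← h𝔫']
  let e : (C ⧸ 𝔫) ≃ₗ[C] D := LinearMap.quotKerEquivOfSurjective (Algebra.linearMap C D) hsurj
  let θ : D ⊗[C] X ≃ₗ[C] X ⧸ 𝔫 • (⊤ : Submodule C X) :=
    (TensorProduct.congr e.symm (LinearEquiv.refl C X)) ≪≫ₗ quotTensorEquivQuotSMul X 𝔫
  have h1 : e.symm 1 = Ideal.Quotient.mk 𝔫 1 := by
    rw [LinearEquiv.symm_apply_eq]
    change _ = (Algebra.linearMap C D) 1
    simp
  have h2 : θ ((1 : D) ⊗ₜ[C] x) = Submodule.Quotient.mk x := by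
    change quotTensorEquivQuotSMul X 𝔫 ((e.symm 1) ⊗ₜ[C] x) = _
    rw [h1, quotTensorEquivQuotSMul_mk_tmul, one_smul]
  rw [hx, map_zero] at h2
  exact (Submodule.Quotient.mk_eq_zero _).mp h2.symm

theorem exists_one_tmul_eq (hsurj : Function.Surjective (algebraMap C D)) (z : D ⊗[C] X) :
    ∃ x : X, (1 : D) ⊗ₜ[C] x = z := by
  induction z using TensorProduct.induction_on with
  | zero => exact ⟨0, by simp⟩
  | tmul d x =>
    obtain ⟨c, rfl⟩ := hsurj d
    refine ⟨c • x, ?_⟩
    rw [tmul_smul, Algebra.algebraMap_eq_smul_one, smul_tmul']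
  | add a b ha hb =>
    obtain ⟨x, rfl⟩ := ha
    obtain ⟨y, rfl⟩ := hb
    exact ⟨x + y, by rw [tmul_add]⟩

/-- **Nilpotent lifting of freeness**: if `C → D` is surjective with nilpotent kernel, `X` is a flat
`C`-module and `D ⊗ X` is free over `D`, then `X` is free over `C`. -/
theorem free_of_free_baseChange (hsurj : Function.Surjective (algebraMap C D)) {n : ℕ}
    (hn : RingHom.ker (algebraMap C D) ^ n = ⊥) [Module.Flat C X] [Module.Free D (D ⊗[C] X)] :
    Module.Free C X := by
  classical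
  set 𝔫 := RingHom.ker (algebraMap C D) with h𝔫
  let κ := Module.Free.ChooseBasisIndex D (D ⊗[C] X)
  let b : Module.Basis κ D (D ⊗[C] X) := Module.Free.chooseBasis D (D ⊗[C] X)
  choose x hx using fun j => exists_one_tmul_eq (X := X) hsurj (b j)
  let u : (κ →₀ C) →ₗ[C] X := Finsupp.linearCombination C x
  have hu : ∀ l : κ →₀ C, (1 : D) ⊗ₜ[C] u l =
      Finsupp.linearCombination D b (l.mapRange (algebraMap C D) (map_zero _)) := by
    intro l
    induction l using Finsupp.induction_linear with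
    | zero => simp
    | add f g hf hg =>
      rw [map_add, tmul_add, hf, hg, Finsupp.mapRange_add (by intro a b; exact map_add _ a b),
        map_add]
    | single j c =>
      change (1 : D) ⊗ₜ[C] (Finsupp.linearCombination C x (Finsupp.single j c)) = _
      rw [Finsupp.linearCombination_single, Finsupp.mapRange_single,
        Finsupp.linearCombination_single, tmul_smul, hx j, Algebra.algebraMap_eq_smul_one,
        smul_assoc, one_smul]
  -- a set-theoretic section preserving zero
  let g : D → C := fun d => if d = 0 then 0 else Function.surjInv hsurj d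
  have hg : ∀ d, algebraMap C D (g d) = d := by
    intro d
    by_cases hd : d = 0
    · simp [g, hd]
    · simp only [g, hd, if_false]
      exact Function.surjInv_eq hsurj d
  have hg0 : g 0 = 0 := by simp [g]
  have hsurju : Function.Surjective u := by
    rw [← LinearMap.range_eq_top]
    apply top_le_of_sup_smul_top hn
    intro y _
    let l : κ →₀ C := (b.repr ((1 : D) ⊗ₜ[C] y)).mapRange g hg0
    have h1 : (1 : D) ⊗ₜ[C] (y - u l) = 0 := by
      rw [tmul_sub, hu, sub_eq_zero]
      have : (l.mapRange (algebraMap C D) (map_zero _)) = b.repr ((1 : D) ⊗ₜ[C] y) := by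
        ext j
        simp [l, hg]
      rw [this, b.linearCombination_repr]
    have h2 := mem_smul_top_of_one_tmul_eq_zero hsurj _ h1
    have : y = u l + (y - u l) := by abel
    rw [this]
    exact Submodule.add_mem_sup (LinearMap.mem_range_self u l) h2
  have hker : LinearMap.ker u ≤ 𝔫 • LinearMap.ker u := by
    intro l hl
    have h1 : Finsupp.linearCombination D b (l.mapRange (algebraMap C D) (map_zero _)) = 0 := by
      rw [← hu, LinearMap.mem_ker.mp hl, tmul_zero]
    have h2 : l.mapRange (algebraMap C D) (map_zero _) = 0 :=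
      (linearIndependent_iff.mp b.linearIndependent) _ h1
    have h3 : ∀ j, l j ∈ 𝔫 := by
      intro j
      have := DFunLike.congr_fun h2 j
      rw [h𝔫, RingHom.mem_ker]
      simpa using this
    have h4 : l ∈ 𝔫 • (⊤ : Submodule C (κ →₀ C)) := by
      rw [← Finsupp.sum_single l, Finsupp.sum]
      refine Submodule.sum_mem _ fun j _ => ?_
      have : Finsupp.single j (l j) = (l j) • Finsupp.single j (1 : C) := by
        rw [Finsupp.smul_single, smul_eq_mul, mul_one]
      rw [this]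
      exact Submodule.smul_mem_smul (h3 j) trivial
    exact Groth.Agent.Lib.Helper3.FibreFree.mem_smul_ker_of_flat u hsurju 𝔫 h4
      (LinearMap.mem_ker.mp hl)
  have hkerbot : LinearMap.ker u = ⊥ := eq_bot_of_le_smul hn _ hker
  exact Module.Free.of_equiv
    (LinearEquiv.ofBijective u ⟨LinearMap.ker_eq_bot.mp hkerbot, hsurju⟩)

end Lift

section BaseChange

/-- Freeness of `C ⊗[A] M` passes to `C' ⊗[A] M` along any `A`-compatible ring hom `C → C'`. -/
theorem free_tensor_of_ringHom {A C C' M : Type*} [CommRing A] [CommRing C] [CommRing C']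
    [Algebra A C] [Algebra A C'] [AddCommGroup M] [Module A M]
    (ρ : C →+* C') (hρ : ρ.comp (algebraMap A C) = algebraMap A C')
    [Module.Free C (C ⊗[A] M)] : Module.Free C' (C' ⊗[A] M) := by
  letI := ρ.toAlgebra
  haveI : IsScalarTower A C C' := .of_algebraMap_eq' hρ.symm
  exact Module.Free.of_equiv (AlgebraTensorModule.cancelBaseChange A C C' C' M)

end BaseChange

section QA

/-- The ring `A_g / J A_g`. -/
abbrev QA {A : Type u} [CommRing A] (J : Ideal A) (g : A) : Type u :=
  Localization.Away g ⧸ J.map (algebraMap A (Localization.Away g))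

variable {A₀ A : Type u} [CommRing A₀] [CommRing A] [Algebra A₀ A]

theorem QA.isUnit_algebraMap (J : Ideal A) (g : A) : IsUnit (algebraMap A (QA J g) g) := by
  rw [IsScalarTower.algebraMap_apply A (Localization.Away g) (QA J g)]
  exact (IsLocalization.Away.algebraMap_isUnit g).map _

theorem QA.algebraMap_eq_zero (J : Ideal A) (g : A) {a : A} (ha : a ∈ J) :
    algebraMap A (QA J g) a = 0 := by
  rw [IsScalarTower.algebraMap_apply A (Localization.Away g) (QA J g)]
  exact Ideal.Quotient.eq_zero_iff_mem.mpr (Ideal.mem_map_of_mem _ ha)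

theorem QA.exists_map (J₀ : Ideal A₀) (g₀ : A₀) (J : Ideal A) (g : A)
    (hg : algebraMap A₀ A g₀ = g) (hJ : J₀.map (algebraMap A₀ A) ≤ J) :
    ∃ ρ : QA J₀ g₀ →+* QA J g, ρ.comp (algebraMap A₀ (QA J₀ g₀)) = algebraMap A₀ (QA J g) := by
  have hu : IsUnit (algebraMap A₀ (QA J g) g₀) := by
    rw [IsScalarTower.algebraMap_apply A₀ A (QA J g), hg]
    exact QA.isUnit_algebraMap J g
  let ρ₁ : Localization.Away g₀ →+* QA J g := IsLocalization.Away.lift g₀ hu
  have hρ₁ : ∀ a, ρ₁ (algebraMap A₀ _ a) = algebraMap A₀ (QA J g) a := fun a =>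
    IsLocalization.Away.lift_eq g₀ hu a
  have hker : ∀ x ∈ J₀.map (algebraMap A₀ (Localization.Away g₀)), ρ₁ x = 0 := by
    intro x hx
    have : J₀.map (algebraMap A₀ (Localization.Away g₀)) ≤ RingHom.ker ρ₁ := by
      rw [Ideal.map_le_iff_le_comap]
      intro a ha
      rw [Ideal.mem_comap, RingHom.mem_ker, hρ₁, IsScalarTower.algebraMap_apply A₀ A (QA J g)]
      exact QA.algebraMap_eq_zero J g (hJ (Ideal.mem_map_of_mem _ ha))
    exact this hx
  refine ⟨Ideal.Quotient.lift _ ρ₁ hker, ?_⟩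
  ext a
  rw [RingHom.comp_apply, IsScalarTower.algebraMap_apply A₀ (Localization.Away g₀) (QA J₀ g₀)]
  change Ideal.Quotient.lift _ ρ₁ hker (Ideal.Quotient.mk _ _) = _
  rw [Ideal.Quotient.lift_mk, hρ₁]

end QA

section GenFree

/-- Generic freeness modulo a radical ideal, in the `QA` form. -/
theorem exists_free_QA_of_isRadical {A₀ : Type u} (B₀ M₀ : Type u) [CommRing A₀] [CommRing B₀]
    [Algebra A₀ B₀] [Algebra.FiniteType A₀ B₀] [AddCommGroup M₀] [Module B₀ M₀] [Module A₀ M₀]
    [IsScalarTower A₀ B₀ M₀] [Module.Finite B₀ M₀] (𝔯 : Ideal A₀) (h𝔯 : 𝔯.IsRadical) (hne : 𝔯 ≠ ⊤) :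
    ∃ f : A₀, f ∉ 𝔯 ∧ Module.Free (QA 𝔯 f) (QA 𝔯 f ⊗[A₀] M₀) := by
  classical
  let R' := A₀ ⧸ 𝔯
  let 𝔯B : Ideal B₀ := 𝔯.map (algebraMap A₀ B₀)
  let S := B₀ ⧸ 𝔯B
  let P : Submodule B₀ M₀ := 𝔯B • ⊤
  let N := M₀ ⧸ P
  haveI : IsReduced R' := (Ideal.isRadical_iff_quotient_reduced 𝔯).mp h𝔯
  haveI : Nontrivial R' := Ideal.Quotient.nontrivial_iff.mpr hne
  haveI : Algebra.FiniteType A₀ S :=
    Algebra.FiniteType.of_surjective (Ideal.Quotient.mkₐ A₀ 𝔯B) (Ideal.Quotient.mkₐ_surjective A₀ 𝔯B)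
  haveI : Algebra.FiniteType R' S := Algebra.FiniteType.of_restrictScalars_finiteType A₀ R' S
  letI : Module R' N := Module.compHom N (algebraMap R' S)
  haveI : IsScalarTower R' S N :=
    ⟨fun r s n => by
      rw [Algebra.smul_def, mul_smul]
      rfl⟩
  haveI : Module.Finite B₀ N := inferInstance
  haveI : Module.Finite S N := Module.Finite.of_restrictScalars_finite B₀ S N
  haveI : IsScalarTower A₀ R' N := by
    refine IsScalarTower.of_algebraMap_smul fun a n => ?_
    induction n using Submodule.Quotient.induction_on with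
    | H m =>
      change (algebraMap R' S (algebraMap A₀ R' a)) • (Submodule.Quotient.mk m : N) = _
      rw [← IsScalarTower.algebraMap_apply A₀ R' S, IsScalarTower.algebraMap_apply A₀ B₀ S,
        algebraMap_smul, algebraMap_smul]
  obtain ⟨U, hUo, hUd, hU⟩ := Groth.Agent.S9158.result R' S N
  obtain ⟨u, hu⟩ := hUd.nonempty
  obtain ⟨f', hf'u, -, hfree, -, -, -⟩ := hU u hu
  obtain ⟨f, rfl⟩ := Ideal.Quotient.mk_surjective f'
  refine ⟨f, ?_, ?_⟩
  · intro hf
    apply hf'u
    rw [Ideal.Quotient.eq_zero_iff_mem.mpr hf]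
    exact zero_mem _
  · set f' : R' := Ideal.Quotient.mk 𝔯 f with hf'
    let L₁ := Localization.Away f'
    let X₁ := LocalizedModule (Submonoid.powers f') N
    let D := QA 𝔯 f
    haveI : IsLocalization.Away f' D := by
      have : Algebra.algebraMapSubmonoid R' (Submonoid.powers f) = Submonoid.powers f' := by
        rw [Algebra.algebraMapSubmonoid, Submonoid.map_powers]
        rfl
      change IsLocalization (Submonoid.powers f') D
      rw [← this]
      infer_instance
    -- Step 1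
    haveI : Module.Free L₁ (L₁ ⊗[R'] N) :=
      Module.Free.of_equiv (IsLocalizedModule.isBaseChange (Submonoid.powers f') L₁
        (LocalizedModule.mkLinearMap (Submonoid.powers f') N)).equiv.symm
    -- Step 2
    let σ : L₁ →ₐ[R'] D := (IsLocalization.algEquiv (Submonoid.powers f') L₁ D).toAlgHom
    haveI : Module.Free D (D ⊗[R'] N) :=
      free_tensor_of_ringHom (A := R') (M := N) σ.toRingHom σ.comp_algebraMap
    -- Step 3
    have hP : 𝔯 • (⊤ : Submodule A₀ M₀) = P.restrictScalars A₀ := by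
      rw [Ideal.smul_restrictScalars, Submodule.restrictScalars_top]
    let e₀ : (R' ⊗[A₀] M₀) ≃ₗ[A₀] N :=
      quotTensorEquivQuotSMul M₀ 𝔯 ≪≫ₗ Submodule.quotEquivOfEq _ _ hP ≪≫ₗ
        Submodule.Quotient.restrictScalarsEquiv A₀ P
    let e_N : (R' ⊗[A₀] M₀) ≃ₗ[R'] N :=
      LinearEquiv.extendScalarsOfSurjective Ideal.Quotient.mk_surjective e₀
    -- Step 4
    exact Module.Free.of_equiv
      ((AlgebraTensorModule.congr (LinearEquiv.refl D D) e_N.symm) ≪≫ₗ
        AlgebraTensorModule.cancelBaseChange A₀ R' D D M₀)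

/-- Over a noetherian base, a flat finite module over a finite type algebra becomes free over
`A_f / I A_f` for some `f ∉ I` (generic freeness modulo the radical plus nilpotent lifting). -/
theorem exists_free_QA {A₀ : Type u} (B₀ M₀ : Type u) [CommRing A₀] [IsNoetherianRing A₀]
    [CommRing B₀] [Algebra A₀ B₀] [Algebra.FiniteType A₀ B₀] [AddCommGroup M₀] [Module B₀ M₀]
    [Module A₀ M₀] [IsScalarTower A₀ B₀ M₀] [Module.Finite B₀ M₀] [Module.Flat A₀ M₀]
    (I : Ideal A₀) (hne : I ≠ ⊤) :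
    ∃ f : A₀, f ∉ I ∧ Module.Free (QA I f) (QA I f ⊗[A₀] M₀) := by
  set 𝔯 := I.radical with h𝔯
  have h1 : 𝔯.IsRadical := Ideal.radical_isRadical I
  have h2 : 𝔯 ≠ ⊤ := by rwa [Ne, Ideal.radical_eq_top]
  obtain ⟨f, hf, hfree⟩ := exists_free_QA_of_isRadical B₀ M₀ 𝔯 h1 h2
  refine ⟨f, fun h => hf (Ideal.le_radical h), ?_⟩
  obtain ⟨n, hn⟩ := Ideal.exists_radical_pow_le_of_fg I (IsNoetherian.noetherian _)
  let C := QA I f
  let D := QA 𝔯 f
  have hle : I.map (algebraMap A₀ (Localization.Away f)) ≤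
      𝔯.map (algebraMap A₀ (Localization.Away f)) := Ideal.map_mono Ideal.le_radical
  let ψ : C →+* D := Ideal.Quotient.factor hle
  letI : Algebra C D := ψ.toAlgebra
  have hsurj : Function.Surjective (algebraMap C D) := Ideal.Quotient.factor_surjective hle
  have hker : RingHom.ker (algebraMap C D) ^ n = ⊥ := by
    change RingHom.ker ψ ^ n = ⊥
    rw [Ideal.Quotient.factor_ker, ← Ideal.map_pow, ← Ideal.map_pow, eq_bot_iff]
    calc _ ≤ (I.map (algebraMap A₀ (Localization.Away f))).map (Ideal.Quotient.mk _) :=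
          Ideal.map_mono (Ideal.map_mono hn)
      _ = ⊥ := Ideal.map_quotient_self _
  haveI : IsScalarTower A₀ C D := by
    have := IsScalarTower.of_algebraMap_eq' (R := A₀) (S := C) (A := D) rfl
    exact this
  haveI : Module.Flat C (C ⊗[A₀] M₀) := inferInstance
  haveI : Module.Free D (D ⊗[C] (C ⊗[A₀] M₀)) :=
    Module.Free.of_equiv (AlgebraTensorModule.cancelBaseChange A₀ C D D M₀).symm
  exact free_of_free_baseChange hsurj hker

end GenFree

section Strat

/-- `A_g/JA_g ⊗ M` is free over `A_g / J A_g`. -/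
def FreeAt {A : Type u} [CommRing A] (M : Type u) [AddCommGroup M] [Module A M] (J : Ideal A)
    (g : A) : Prop :=
  Module.Free (QA J g) (QA J g ⊗[A] M)

theorem FreeAt.congr {A : Type u} [CommRing A] {M : Type u} [AddCommGroup M] [Module A M]
    {J J' : Ideal A} {g g' : A} (hJ : J = J') (hg : g = g') (h : FreeAt M J g) : FreeAt M J' g' := by
  subst hJ hg
  exact h

/-- Noetherian induction: the stratification over a noetherian base. -/
theorem exists_list_freeAt {A₀ : Type u} (B₀ M₀ : Type u) [CommRing A₀] [IsNoetherianRing A₀]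
    [CommRing B₀] [Algebra A₀ B₀] [Algebra.FiniteType A₀ B₀] [AddCommGroup M₀] [Module B₀ M₀]
    [Module A₀ M₀] [IsScalarTower A₀ B₀ M₀] [Module.Finite B₀ M₀] [Module.Flat A₀ M₀]
    (I : Ideal A₀) :
    ∃ l : List A₀, I ⊔ Ideal.span {a | a ∈ l} = ⊤ ∧
      ∀ (i : ℕ) (hi : i < l.length), FreeAt M₀ (I ⊔ Ideal.span {a | a ∈ l.take i}) l[i] := by
  induction I using IsNoetherian.induction with
  | _ I ih =>
  by_cases hI : I = ⊤
  · refine ⟨[], ?_, ?_⟩
    · rw [hI]; simp
    · intro i hi; simp at hi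
  · obtain ⟨f, hf, hfree⟩ := exists_free_QA B₀ M₀ I hI
    have hlt : I < I ⊔ Ideal.span {f} := by
      refine lt_of_le_of_ne le_sup_left fun h => hf ?_
      rw [h]
      exact Ideal.mem_sup_right (Ideal.subset_span rfl)
    obtain ⟨l', hl', hfree'⟩ := ih _ hlt
    refine ⟨f :: l', ?_, ?_⟩
    · have : {a | a ∈ f :: l'} = {f} ∪ {a | a ∈ l'} := by ext; simp
      rw [this, Ideal.span_union, ← sup_assoc]; exact hl'
    · intro i hi
      cases i with
      | zero =>
        refine FreeAt.congr ?_ ?_ hfree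
        · simp
        · simp
      | succ k =>
        have hk : k < l'.length := by simpa using hi
        refine FreeAt.congr ?_ ?_ (hfree' k hk)
        · have : {a | a ∈ (f :: l').take (k + 1)} = {f} ∪ {a | a ∈ l'.take k} := by ext; simp
          rw [this, Ideal.span_union, ← sup_assoc]
        · simp

/-- `FreeAt` passes along base change of the data. -/
theorem FreeAt.baseChange {A₀ A : Type u} [CommRing A₀] [CommRing A] [Algebra A₀ A]
    {M₀ M : Type u} [AddCommGroup M₀] [Module A₀ M₀] [AddCommGroup M] [Module A M] [Module A₀ M]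
    [IsScalarTower A₀ A M] (f : M₀ →ₗ[A₀] M) (hf : IsBaseChange A f) {J₀ : Ideal A₀} {g₀ : A₀}
    {J : Ideal A} {g : A} (hg : algebraMap A₀ A g₀ = g) (hJ : J₀.map (algebraMap A₀ A) ≤ J)
    (h : FreeAt M₀ J₀ g₀) : FreeAt M J g := by
  obtain ⟨ρ, hρ⟩ := QA.exists_map J₀ g₀ J g hg hJ
  unfold FreeAt at h ⊢
  haveI := h
  haveI : Module.Free (QA J g) (QA J g ⊗[A₀] M₀) := free_tensor_of_ringHom ρ hρ
  exact Module.Free.of_equiv
    ((AlgebraTensorModule.cancelBaseChange A₀ A (QA J g) (QA J g) M₀).symm ≪≫ₗ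
      AlgebraTensorModule.congr (LinearEquiv.refl _ _) hf.equiv)

theorem exists_stratification {A B : Type u} [CommRing A] [CommRing B] [Algebra A B]
    [Algebra.FinitePresentation A B] (M : Type u) [AddCommGroup M] [Module B M] [Module A M]
    [IsScalarTower A B M] [Module.FinitePresentation B M] [Module.Flat A M] :
    ∃ l : List A, Ideal.span {a | a ∈ l} = ⊤ ∧
      ∀ (i : ℕ) (hi : i < l.length), FreeAt M (Ideal.span {a | a ∈ l.take i}) l[i] := by
  obtain ⟨A₀, _, _, B₀, _, _, _, _, _, _, M₀, _, _, _, _, _, _, f, hA₀, hB₀, hM₀, hflat, hpo, hbc⟩ :=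
    Groth.Agent.Lib.Helper3.FlatModelMod.exists_flat_module_model A B M
  haveI : IsNoetherianRing A₀ := Algebra.FiniteType.isNoetherianRing ℤ A₀
  letI : Module A₀ M := Module.compHom M (algebraMap A₀ A)
  haveI : IsScalarTower A₀ A M :=
    ⟨fun a x m => by
      rw [Algebra.smul_def, mul_smul]
      rfl⟩
  have hB₀M : ∀ (b : B₀) (m : M), b • m = algebraMap B₀ B b • m := fun b m => by
    rw [Algebra.algebraMap_eq_smul_one, smul_assoc, one_smul]
  haveI : IsScalarTower A₀ B₀ M :=
    ⟨fun a b m => by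
      change (a • b) • m = algebraMap A₀ A a • (b • m)
      rw [hB₀M, hB₀M, ← algebraMap_smul B (algebraMap A₀ A a), ← mul_smul,
        ← IsScalarTower.algebraMap_apply A₀ A B, Algebra.smul_def, map_mul,
        ← IsScalarTower.algebraMap_apply A₀ B₀ B]⟩
  have hbc' : IsBaseChange A (f.restrictScalars A₀) :=
    Groth.Agent.Lib.Helper3.FlatLoc.isBaseChange_restrictScalars_of_isPushout f hbc
  obtain ⟨l₀, hl₀, hfree₀⟩ := exists_list_freeAt B₀ M₀ (⊥ : Ideal A₀)
  let φ := algebraMap A₀ A
  have hset : ∀ l : List A₀, {a | a ∈ l.map φ} = φ '' {a | a ∈ l} := by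
    intro l; ext; simp [eq_comm]
  refine ⟨l₀.map φ, ?_, ?_⟩
  · rw [hset, ← Ideal.map_span]
    rw [bot_sup_eq] at hl₀
    rw [hl₀, Ideal.map_top]
  · intro i hi
    have hi₀ : i < l₀.length := by simpa using hi
    refine FreeAt.baseChange (f.restrictScalars A₀) hbc' ?_ ?_ (hfree₀ i hi₀)
    · simp [φ]
    · rw [bot_sup_eq, Ideal.map_span, ← hset, List.map_take]

end Strat

end Groth.Agent.R2.H88.StratFree
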