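import Mathlib
import Groth.Agent.Lib.Helper14NormFlat
import Groth.Agent.R2.H88StratFree
import Groth.Agent.S9158

/-!
# Stratification with flat graded pieces (helper88)

For `A₀` noetherian, `B₀` of finite type over `A₀`, `J₀ ⊆ B₀` an ideal and `M₀` a finite `B₀`-module
there is a finite stratification of `Spec A₀` by affine locally closed pieces `Spec A_i` (with
`A_i = (A₀)_f / 𝔯 (A₀)_f` reduced) such that all graded pieces `J₀ⁿ N_i / J₀ⁿ⁺¹ N_i`
(`N_i = A_i ⊗ M₀`) are `A_i`-flat.

Route: generic freeness (S9158, reduced base) applied to the reduction mod `J'` of the Rees module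
of `M' = M₀ / 𝔯 M₀` over the Rees algebra of `J' = J₀ B'`, `B' = B₀ / 𝔯 B₀`; every graded piece is a
retract of that reduction; transfer along the localization `A₀/𝔯 → (A₀)_f/𝔯(A₀)_f`; noetherian
induction.
-/

set_option autoImplicit false
set_option linter.style.haveILetI false

open TensorProduct

namespace Groth.Agent.R2.H88.GrStrat

universe u

open Groth.Agent.R2.H88.StratFree
open Groth.Agent.Lib.Helper14.NormFlat

section Transfer

variable {A' C : Type*} [CommRing A'] [CommRing C] [Algebra A' C] (S : Submonoid A')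
  [IsLocalization S C] {M' N : Type*} [AddCommGroup M'] [Module A' M'] [AddCommGroup N]
  [Module A' N] [Module C N] [IsScalarTower A' C N] (ι : M' →ₗ[A'] N) [IsLocalizedModule S ι]

/-- The "image of `X` in `M/Y`" commutes with localization. -/
theorem exists_isLocalizedModule_map_mkQ (X' Y' : Submodule A' M') (PX PY : Submodule C N)
    (hX : X'.localized' C S ι = PX) (hY : Y'.localized' C S ι = PY) :
    ∃ φ : ↥(Submodule.map Y'.mkQ X') →ₗ[A'] ↥(Submodule.map PY.mkQ PX),
      IsLocalizedModule S φ := by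
  subst hX hY
  set q := Y'.toLocalizedQuotient' C S ι with hq
  set T := Submodule.map Y'.mkQ X' with hT
  have key : T.localized' C S q =
      Submodule.map (Y'.localized' C S ι).mkQ (X'.localized' C S ι) := by
    rw [Submodule.localized'_eq_span C S q T, Submodule.localized'_eq_span C S ι X',
      Submodule.map_span]
    congr 1
    rw [hT, Submodule.map_coe, ← Set.image_comp, ← Set.image_comp]
    rfl
  suffices h : ∀ T' : Submodule C (N ⧸ Y'.localized' C S ι), T.localized' C S q = T' →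
      ∃ φ : ↥T →ₗ[A'] ↥T', IsLocalizedModule S φ from h _ key
  rintro T' rfl
  exact ⟨T.toLocalized' C S q, inferInstance⟩

end Transfer

section Transfer2

variable {A₀ A' C : Type*} [CommRing A₀] [CommRing A'] [CommRing C] [Algebra A₀ A'] [Algebra A₀ C]
  [Algebra A' C] [IsScalarTower A₀ A' C] (S : Submonoid A') [IsLocalization S C]
  {M₀ M' : Type*} [AddCommGroup M₀] [Module A₀ M₀] [AddCommGroup M'] [Module A₀ M'] [Module A' M']
  [IsScalarTower A₀ A' M'] (π : M₀ →ₗ[A₀] M') (hπ : IsBaseChange A' π)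

include hπ in
/-- If `M' = A' ⊗ M₀` and `C` is a localization of `A'`, then the image of `C ⊗ X` in
`(C ⊗ M₀) / im (C ⊗ Y)` is the localization of the image of `π X` in `M' / π Y`. -/
theorem exists_isLocalizedModule_TP (X Y : Submodule A₀ M₀) (X' Y' : Submodule A' M')
    (hX : (X' : Set M') = π '' X) (hY : (Y' : Set M') = π '' Y) :
    ∃ φ : ↥(Submodule.map Y'.mkQ X') →ₗ[A']
        ↥(Submodule.map (LinearMap.range (LinearMap.baseChange C Y.subtype)).mkQ
          (LinearMap.range (LinearMap.baseChange C X.subtype))),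
      IsLocalizedModule S φ := by
  let ι : M' →ₗ[A'] C ⊗[A₀] M₀ := hπ.lift (TensorProduct.mk A₀ C M₀ 1)
  have hιπ : ∀ m, ι (π m) = (1 : C) ⊗ₜ[A₀] m := fun m => hπ.lift_eq _ m
  have hι : IsBaseChange C ι := by
    refine IsBaseChange.of_comp hπ ?_
    have : (ι : M' →ₗ[A₀] C ⊗[A₀] M₀) ∘ₗ π = TensorProduct.mk A₀ C M₀ 1 := hπ.lift_comp _
    rw [this]
    exact TensorProduct.isBaseChange A₀ M₀ C
  have : IsLocalizedModule S ι := (isLocalizedModule_iff_isBaseChange S C ι).mpr hι
  have key : ∀ (Z : Submodule A₀ M₀) (Z' : Submodule A' M'), (Z' : Set M') = π '' Z →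
      Z'.localized' C S ι = LinearMap.range (LinearMap.baseChange C Z.subtype) := by
    intro Z Z' hZ
    change _ = Z.baseChange C
    rw [Submodule.localized'_eq_span, Submodule.baseChange_eq_span, hZ, Submodule.map_coe,
      ← Set.image_comp]
    congr 1
    ext x
    simp only [Set.mem_image, Function.comp_apply, hιπ]
    rfl
  exact exists_isLocalizedModule_map_mkQ S ι X' Y' _ _ (key X X' hX) (key Y Y' hY)

end Transfer2

section FlatRetract

/-- A localization of a retract of `𝓝` is flat as soon as the localization of `𝓝` is. -/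
theorem flat_of_retract_of_flat_localizedModule {R : Type*} [CommRing R] (g : R) {C : Type*}
    [CommRing C] [Algebra R C] [IsLocalization.Away g C] {N 𝓝 Q : Type*} [AddCommGroup N]
    [AddCommGroup 𝓝] [AddCommGroup Q] [Module R N] [Module R 𝓝] [Module R Q] [Module C Q]
    [IsScalarTower R C Q] (φ : N →ₗ[R] Q) [IsLocalizedModule (Submonoid.powers g) φ]
    (i : N →ₗ[R] 𝓝) (π : 𝓝 →ₗ[R] N) (hπi : π.comp i = LinearMap.id)
    [Module.Flat R (LocalizedModule (Submonoid.powers g) 𝓝)] :
    Module.Flat C Q := by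
  let 𝓝' := LocalizedModule (Submonoid.powers g) 𝓝
  let i' : Q →ₗ[R] 𝓝' := IsLocalizedModule.map (Submonoid.powers g) φ
    (LocalizedModule.mkLinearMap _ 𝓝) i
  let π' : 𝓝' →ₗ[R] Q := IsLocalizedModule.map (Submonoid.powers g)
    (LocalizedModule.mkLinearMap _ 𝓝) φ π
  have h : π'.comp i' = LinearMap.id := by
    apply IsLocalizedModule.ext (Submonoid.powers g) φ (IsLocalizedModule.map_units φ)
    refine LinearMap.ext fun x => ?_
    change π' (i' (φ x)) = φ x
    have h1 : i' (φ x) = LocalizedModule.mkLinearMap _ 𝓝 (i x) :=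
      IsLocalizedModule.map_apply (Submonoid.powers g) φ (LocalizedModule.mkLinearMap _ 𝓝) i x
    have h2 : π' (LocalizedModule.mkLinearMap _ 𝓝 (i x)) = φ (π (i x)) :=
      IsLocalizedModule.map_apply (Submonoid.powers g) (LocalizedModule.mkLinearMap _ 𝓝) φ π (i x)
    rw [h1, h2]
    congr 1
    exact LinearMap.congr_fun hπi x
  have h2 : Module.Flat R Q := Module.Flat.of_retract i' π' h
  exact (Module.flat_iff_of_isLocalization C (Submonoid.powers g) Q).mpr h2

end FlatRetract

section TPEquiv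

variable {A' B' M' : Type*} [CommRing A'] [CommRing B'] [Algebra A' B'] [AddCommGroup M']
  [Module B' M'] [Module A' M'] [IsScalarTower A' B' M'] (J' : Ideal B')

/-- `X / J'X ≃ image of X in M'/Y` when `Y = J' X`. -/
theorem nonempty_quot_equiv_map_mkQ (X Y : Submodule B' M') (hXY : Y = J' • X) :
    Nonempty ((↥X ⧸ (J' • ⊤ : Submodule B' ↥X)) ≃ₗ[A']
      ↥(Submodule.map (Y.restrictScalars A').mkQ (X.restrictScalars A'))) := by
  let ψ : ↥X →ₗ[A'] M' ⧸ Y.restrictScalars A' :=
    (Y.restrictScalars A').mkQ ∘ₗ (X.subtype.restrictScalars A')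
  have hker : LinearMap.ker ψ = (J' • ⊤ : Submodule B' ↥X).restrictScalars A' := by
    ext x
    rw [LinearMap.mem_ker, LinearMap.comp_apply, Submodule.mkQ_apply,
      Submodule.Quotient.mk_eq_zero, Submodule.restrictScalars_mem, Submodule.restrictScalars_mem,
      hXY]
    have h1 : (J' • ⊤ : Submodule B' ↥X).map X.subtype = J' • X := by
      rw [Submodule.map_smul'', Submodule.map_top, Submodule.range_subtype]
    rw [← h1]
    constructor
    · rintro ⟨y, hy, hyx⟩
      have : y = x := Subtype.ext hyx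
      rwa [← this]
    · intro hx
      exact ⟨x, hx, rfl⟩
  have hrange : LinearMap.range ψ =
      Submodule.map (Y.restrictScalars A').mkQ (X.restrictScalars A') := by
    rw [LinearMap.range_comp]
    congr 1
    ext x
    simp
  exact ⟨(Submodule.Quotient.restrictScalarsEquiv A' (J' • ⊤ : Submodule B' ↥X)).symm ≪≫ₗ
    Submodule.quotEquivOfEq _ _ hker.symm ≪≫ₗ ψ.quotKerEquivRange ≪≫ₗ LinearEquiv.ofEq _ _ hrange⟩

end TPEquiv

section Retract

variable {A' B' : Type*} [CommRing A'] [CommRing B'] [Algebra A' B'] (J' : Ideal B')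
  {X Y : Type*} [AddCommGroup X] [Module B' X] [Module A' X] [IsScalarTower A' B' X]
  [AddCommGroup Y] [Module B' Y] [Module A' Y] [IsScalarTower A' B' Y]

omit [Algebra A' B'] [CommRing A'] [Module A' X] [IsScalarTower A' B' X] [Module A' Y]
  [IsScalarTower A' B' Y] in
theorem smul_top_le_comap (g : X →ₗ[B'] Y) :
    (J' • ⊤ : Submodule B' X) ≤ (J' • ⊤ : Submodule B' Y).comap g := by
  rw [← Submodule.map_le_iff_le_comap, Submodule.map_smul'']
  exact Submodule.smul_mono le_rfl le_top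

theorem exists_retract_quotient (g : X →ₗ[B'] Y) (h : Y →ₗ[B'] X) (hg : h ∘ₗ g = LinearMap.id) :
    ∃ (i : (X ⧸ (J' • ⊤ : Submodule B' X)) →ₗ[A'] (Y ⧸ (J' • ⊤ : Submodule B' Y)))
      (π : (Y ⧸ (J' • ⊤ : Submodule B' Y)) →ₗ[A'] (X ⧸ (J' • ⊤ : Submodule B' X))),
      π ∘ₗ i = LinearMap.id := by
  refine ⟨(Submodule.mapQ _ _ g (smul_top_le_comap J' g)).restrictScalars A',
    (Submodule.mapQ _ _ h (smul_top_le_comap J' h)).restrictScalars A', ?_⟩
  refine LinearMap.ext fun x => ?_
  obtain ⟨x, rfl⟩ := Submodule.Quotient.mk_surjective _ x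
  change Submodule.Quotient.mk (h (g x)) = Submodule.Quotient.mk x
  congr 1
  exact LinearMap.congr_fun hg x

end Retract

section GenFlat

/-- Generic flatness (after inverting one element) of the reduction mod `J'` of a finite module over
a finite type algebra, over a reduced base. -/
theorem exists_flat_localizedModule_quotient (A' : Type u) [CommRing A'] [IsReduced A']
    [Nontrivial A'] (B' : Type u) [CommRing B'] [Algebra A' B'] (J' : Ideal B')
    (S : Type u) [CommRing S] [Algebra A' S] [Algebra B' S] [IsScalarTower A' B' S]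
    [Algebra.FiniteType A' S] (𝓡 : Type u) [AddCommGroup 𝓡] [Module S 𝓡] [Module B' 𝓡]
    [Module A' 𝓡] [IsScalarTower B' S 𝓡] [IsScalarTower A' B' 𝓡] [IsScalarTower A' S 𝓡]
    [Module.Finite S 𝓡] :
    ∃ f : A', f ≠ 0 ∧ Module.Flat A'
      (LocalizedModule (Submonoid.powers f) (𝓡 ⧸ (J' • ⊤ : Submodule B' 𝓡))) := by
  set JS : Ideal S := J'.map (algebraMap B' S) with hJS
  let gr := 𝓡 ⧸ (JS • ⊤ : Submodule S 𝓡)
  obtain ⟨U, hUo, hUd, hU⟩ := Groth.Agent.S9158.result A' S gr
  obtain ⟨u, hu⟩ := hUd.nonempty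
  obtain ⟨f, hfu, -, hfree, -, -, -⟩ := hU u hu
  refine ⟨f, fun h0 => hfu (by rw [h0]; exact zero_mem _), ?_⟩
  have hEq : (JS • ⊤ : Submodule S 𝓡).restrictScalars A' =
      (J' • ⊤ : Submodule B' 𝓡).restrictScalars A' := by
    have h : (JS • ⊤ : Submodule S 𝓡).restrictScalars B' = (J' • ⊤ : Submodule B' 𝓡) := by
      rw [hJS, Ideal.smul_restrictScalars, Submodule.restrictScalars_top]
    rw [← h]
    rfl
  let E : (𝓡 ⧸ (J' • ⊤ : Submodule B' 𝓡)) ≃ₗ[A'] gr :=
    (Submodule.Quotient.restrictScalarsEquiv A' (J' • ⊤ : Submodule B' 𝓡)).symm ≪≫ₗ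
      Submodule.quotEquivOfEq _ _ hEq.symm ≪≫ₗ
      Submodule.Quotient.restrictScalarsEquiv A' (JS • ⊤ : Submodule S 𝓡)
  let ψ : (𝓡 ⧸ (J' • ⊤ : Submodule B' 𝓡)) →ₗ[A'] LocalizedModule (Submonoid.powers f) gr :=
    (LocalizedModule.mkLinearMap (Submonoid.powers f) gr) ∘ₗ E.toLinearMap
  have : IsLocalizedModule (Submonoid.powers f) ψ := inferInstance
  let eLoc := IsLocalizedModule.linearEquiv (Submonoid.powers f)
    (LocalizedModule.mkLinearMap (Submonoid.powers f) (𝓡 ⧸ (J' • ⊤ : Submodule B' 𝓡))) ψ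
  have h1 : Module.Flat A' (LocalizedModule (Submonoid.powers f) gr) :=
    (Module.flat_iff_of_isLocalization (Localization.Away f) (Submonoid.powers f) _).mp
      inferInstance
  exact Module.Flat.of_linearEquiv eLoc

/-- **Generic flatness of the graded pieces** of the `J'`-adic filtration over a reduced noetherian
base: after inverting a single nonzero `f`, all `J'ⁿM'/J'ⁿ⁺¹M'` become flat. -/
theorem exists_flat_TP_of_reduced (A' B' M' : Type u) [CommRing A'] [IsNoetherianRing A']
    [IsReduced A'] [Nontrivial A'] [CommRing B'] [Algebra A' B'] [Algebra.FiniteType A' B']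
    [AddCommGroup M'] [Module B' M'] [Module A' M'] [IsScalarTower A' B' M'] [Module.Finite B' M']
    (J' : Ideal B') :
    ∃ f : A', f ≠ 0 ∧ ∀ (n : ℕ) (C Q : Type u) [CommRing C] [Algebra A' C]
      [IsLocalization.Away f C] [AddCommGroup Q] [Module A' Q] [Module C Q] [IsScalarTower A' C Q]
      (φ : ↥(Submodule.map ((J' ^ (n + 1) • (⊤ : Submodule B' M')).restrictScalars A').mkQ
        ((J' ^ n • (⊤ : Submodule B' M')).restrictScalars A')) →ₗ[A'] Q)
      [IsLocalizedModule (Submonoid.powers f) φ], Module.Flat C Q := by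
  haveI : IsNoetherianRing B' := Algebra.FiniteType.isNoetherianRing A' B'
  set F : J'.Filtration M' := J'.stableFiltration (⊤ : Submodule B' M') with hF
  haveI : Module.Finite (reesAlgebra J') ↥F.submodule := by
    rw [Module.Finite.iff_fg]
    refine (F.submodule_fg_iff_stable fun i => ?_).mpr (J'.stableFiltration_stable ⊤)
    exact IsNoetherian.noetherian _
  haveI : Algebra.FiniteType B' (reesAlgebra J') :=
    (Subalgebra.fg_iff_finiteType _).mp (reesAlgebra.fg (IsNoetherian.noetherian J'))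
  haveI : Algebra.FiniteType A' (reesAlgebra J') := Algebra.FiniteType.trans ‹_› ‹_›
  obtain ⟨f, hf, hflat⟩ :=
    exists_flat_localizedModule_quotient A' B' J' (reesAlgebra J') ↥F.submodule
  refine ⟨f, hf, fun n C Q _ _ _ _ _ _ _ φ _ => ?_⟩
  have hXY : F.N (n + 1) = J' • F.N n := by
    rw [hF, Ideal.stableFiltration_N, Ideal.stableFiltration_N, pow_succ', Submodule.mul_smul]
  have he : Nonempty ((↥(F.N n) ⧸ (J' • ⊤ : Submodule B' ↥(F.N n))) ≃ₗ[A']
      ↥(Submodule.map ((J' ^ (n + 1) • (⊤ : Submodule B' M')).restrictScalars A').mkQ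
        ((J' ^ n • (⊤ : Submodule B' M')).restrictScalars A'))) :=
    nonempty_quot_equiv_map_mkQ (A' := A') J' (F.N n) (F.N (n + 1)) hXY
  obtain ⟨e⟩ := he
  have hret : reesProj F n ∘ₗ reesIncl F n = LinearMap.id :=
    LinearMap.ext fun x => reesProj_reesIncl F n x
  obtain ⟨i, π, hπi⟩ := exists_retract_quotient (A' := A') (X := ↥(F.N n)) (Y := ↥F.submodule) J'
    (reesIncl F n) (reesProj F n) hret
  haveI := hflat
  refine flat_of_retract_of_flat_localizedModule f φ (i ∘ₗ e.symm.toLinearMap)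
    (e.toLinearMap ∘ₗ π) ?_
  refine LinearMap.ext fun x => ?_
  change e (π (i (e.symm x))) = x
  have : π (i (e.symm x)) = e.symm x := LinearMap.congr_fun hπi _
  rw [this]
  exact e.apply_symm_apply x

end GenFlat

section QAFlat

/-- Generic flatness of the graded pieces modulo a radical ideal, in the `QA` form. -/
theorem exists_flat_QA_of_isRadical {A₀ B₀ : Type u} [CommRing A₀] [IsNoetherianRing A₀]
    [CommRing B₀] [Algebra A₀ B₀] [Algebra.FiniteType A₀ B₀] (J₀ : Ideal B₀) (M₀ : Type u)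
    [AddCommGroup M₀] [Module B₀ M₀] [Module A₀ M₀] [IsScalarTower A₀ B₀ M₀] [Module.Finite B₀ M₀]
    (𝔯 : Ideal A₀) (h𝔯 : 𝔯.IsRadical) (hne : 𝔯 ≠ ⊤) :
    ∃ f : A₀, f ∉ 𝔯 ∧ ∀ n : ℕ, Module.Flat (QA 𝔯 f)
      ↥(Submodule.map
        (LinearMap.range (LinearMap.baseChange (QA 𝔯 f)
          ((J₀ ^ (n + 1) • (⊤ : Submodule B₀ M₀)).restrictScalars A₀).subtype)).mkQ
        (LinearMap.range (LinearMap.baseChange (QA 𝔯 f)
          ((J₀ ^ n • (⊤ : Submodule B₀ M₀)).restrictScalars A₀).subtype))) := by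
  classical
  let R' := A₀ ⧸ 𝔯
  let 𝔯B : Ideal B₀ := 𝔯.map (algebraMap A₀ B₀)
  let S := B₀ ⧸ 𝔯B
  let P : Submodule B₀ M₀ := 𝔯B • ⊤
  let N := M₀ ⧸ P
  haveI : IsReduced R' := (Ideal.isRadical_iff_quotient_reduced 𝔯).mp h𝔯
  haveI : Nontrivial R' := Ideal.Quotient.nontrivial_iff.mpr hne
  haveI : Algebra.FiniteType A₀ S :=
    Algebra.FiniteType.of_surjective (Ideal.Quotient.mkₐ A₀ 𝔯B) (Ideal.Quotient.mkₐ_surjective A₀ 𝔯B)
  haveI : Algebra.FiniteType R' S := Algebra.FiniteType.of_restrictScalars_finiteType A₀ R' S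
  letI : Module R' N := Module.compHom N (algebraMap R' S)
  haveI : IsScalarTower R' S N :=
    ⟨fun r s n => by
      rw [Algebra.smul_def, mul_smul]
      rfl⟩
  haveI : Module.Finite B₀ N := inferInstance
  haveI : Module.Finite S N := Module.Finite.of_restrictScalars_finite B₀ S N
  haveI : IsScalarTower A₀ R' N := by
    refine IsScalarTower.of_algebraMap_smul fun a n => ?_
    induction n using Submodule.Quotient.induction_on with
    | H m =>
      change (algebraMap R' S (algebraMap A₀ R' a)) • (Submodule.Quotient.mk m : N) = _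
      rw [← IsScalarTower.algebraMap_apply A₀ R' S, IsScalarTower.algebraMap_apply A₀ B₀ S,
        algebraMap_smul, algebraMap_smul]
  let J' : Ideal S := J₀.map (Ideal.Quotient.mk 𝔯B)
  obtain ⟨f', hf', hflat⟩ := exists_flat_TP_of_reduced R' S N J'
  obtain ⟨f, rfl⟩ := Ideal.Quotient.mk_surjective f'
  refine ⟨f, fun hf => hf' (Ideal.Quotient.eq_zero_iff_mem.mpr hf), fun n => ?_⟩
  set f' : R' := Ideal.Quotient.mk 𝔯 f with hf'def
  let D := QA 𝔯 f
  haveI : IsLocalization.Away f' D := by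
    have : Algebra.algebraMapSubmonoid R' (Submonoid.powers f) = Submonoid.powers f' := by
      rw [Algebra.algebraMapSubmonoid, Submonoid.map_powers]
      rfl
    change IsLocalization (Submonoid.powers f') D
    rw [← this]
    infer_instance
  -- `N = R' ⊗ M₀`
  have hP : 𝔯 • (⊤ : Submodule A₀ M₀) = P.restrictScalars A₀ := by
    rw [Ideal.smul_restrictScalars, Submodule.restrictScalars_top]
  let e₀ : (R' ⊗[A₀] M₀) ≃ₗ[A₀] N :=
    quotTensorEquivQuotSMul M₀ 𝔯 ≪≫ₗ Submodule.quotEquivOfEq _ _ hP ≪≫ₗ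
      Submodule.Quotient.restrictScalarsEquiv A₀ P
  let e_N : (R' ⊗[A₀] M₀) ≃ₗ[R'] N :=
    LinearEquiv.extendScalarsOfSurjective Ideal.Quotient.mk_surjective e₀
  let π : M₀ →ₗ[A₀] N := P.mkQ.restrictScalars A₀
  have hπ : IsBaseChange R' π := by
    refine IsBaseChange.of_equiv e_N fun m => ?_
    change e₀ ((Ideal.Quotient.mk 𝔯 1) ⊗ₜ[A₀] m) = _
    change Submodule.Quotient.restrictScalarsEquiv A₀ P (Submodule.quotEquivOfEq _ _ hP
      (quotTensorEquivQuotSMul M₀ 𝔯 ((Ideal.Quotient.mk 𝔯 1) ⊗ₜ[A₀] m))) = _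
    rw [quotTensorEquivQuotSMul_mk_tmul, one_smul]
    rfl
  have hX : ∀ k : ℕ, (((J' ^ k • (⊤ : Submodule S N)).restrictScalars R' : Submodule R' N) : Set N)
      = π '' (((J₀ ^ k • (⊤ : Submodule B₀ M₀)).restrictScalars A₀ : Submodule A₀ M₀) : Set M₀) := by
    intro k
    have h1 : (J' ^ k • (⊤ : Submodule S N)).restrictScalars B₀ = J₀ ^ k • (⊤ : Submodule B₀ N) := by
      have : J' ^ k = (J₀ ^ k).map (algebraMap B₀ S) := by
        rw [Ideal.map_pow]
        rfl
      rw [this, Ideal.smul_restrictScalars, Submodule.restrictScalars_top]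
    have h2 : (J₀ ^ k • (⊤ : Submodule B₀ M₀)).map P.mkQ = J₀ ^ k • (⊤ : Submodule B₀ N) := by
      rw [Submodule.map_smul'', Submodule.map_top, Submodule.range_mkQ]
    ext x
    have hx1 : x ∈ (((J' ^ k • (⊤ : Submodule S N)).restrictScalars R' : Submodule R' N) : Set N) ↔
        x ∈ (J' ^ k • (⊤ : Submodule S N)).restrictScalars B₀ := Iff.rfl
    rw [hx1, h1, ← h2]
    rfl
  obtain ⟨φ, hφ⟩ := exists_isLocalizedModule_TP (C := D) (Submonoid.powers f') π hπ
    ((J₀ ^ n • (⊤ : Submodule B₀ M₀)).restrictScalars A₀)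
    ((J₀ ^ (n + 1) • (⊤ : Submodule B₀ M₀)).restrictScalars A₀)
    ((J' ^ n • (⊤ : Submodule S N)).restrictScalars R')
    ((J' ^ (n + 1) • (⊤ : Submodule S N)).restrictScalars R') (hX n) (hX (n + 1))
  exact hflat n D _ φ

end QAFlat

section Induction

/-- Noetherian induction producing a list `l` generating the unit ideal with a prescribed property
at each step. -/
theorem exists_list_of_forall {A₀ : Type u} [CommRing A₀] [IsNoetherianRing A₀]
    (P : Ideal A₀ → A₀ → Prop) (hP : ∀ I : Ideal A₀, I ≠ ⊤ → ∃ f, f ∉ I ∧ P I f) (I : Ideal A₀) :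
    ∃ l : List A₀, I ⊔ Ideal.span {a | a ∈ l} = ⊤ ∧
      ∀ (i : ℕ) (hi : i < l.length), P (I ⊔ Ideal.span {a | a ∈ l.take i}) l[i] := by
  have congr : ∀ {J J' : Ideal A₀} {g g' : A₀}, J = J' → g = g' → P J g → P J' g' := by
    rintro J _ g _ rfl rfl h
    exact h
  induction I using IsNoetherian.induction with
  | _ I ih =>
  by_cases hI : I = ⊤
  · refine ⟨[], ?_, ?_⟩
    · rw [hI]; simp
    · intro i hi; simp at hi
  · obtain ⟨f, hf, hfree⟩ := hP I hI
    have hlt : I < I ⊔ Ideal.span {f} := by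
      refine lt_of_le_of_ne le_sup_left fun h => hf ?_
      rw [h]
      exact Ideal.mem_sup_right (Ideal.subset_span rfl)
    obtain ⟨l', hl', hfree'⟩ := ih _ hlt
    refine ⟨f :: l', ?_, ?_⟩
    · have : {a | a ∈ f :: l'} = {f} ∪ {a | a ∈ l'} := by ext; simp
      rw [this, Ideal.span_union, ← sup_assoc]; exact hl'
    · intro i hi
      cases i with
      | zero =>
        refine congr ?_ ?_ hfree
        · simp
        · simp
      | succ k =>
        have hk : k < l'.length := by simpa using hi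
        refine congr ?_ ?_ (hfree' k hk)
        · have : {a | a ∈ (f :: l').take (k + 1)} = {f} ∪ {a | a ∈ l'.take k} := by ext; simp
          rw [this, Ideal.span_union, ← sup_assoc]
        · simp

end Induction

section Topology

open AlgebraicGeometry CategoryTheory

variable {A₀ : Type u} [CommRing A₀]

theorem algebraMap_QA_eq (𝔯 : Ideal A₀) (g : A₀) : algebraMap A₀ (QA 𝔯 g) =
      (Ideal.Quotient.mk (𝔯.map (algebraMap A₀ (Localization.Away g)))).comp
        (algebraMap A₀ (Localization.Away g)) := by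
  ext a
  rw [IsScalarTower.algebraMap_apply A₀ (Localization.Away g) (QA 𝔯 g)]
  rfl

/-- `Spec (A_g / 𝔯 A_g) → Spec A` is an immersion. -/
theorem isImmersion_QA (𝔯 : Ideal A₀) (g : A₀) :
    IsImmersion (Spec.map (CommRingCat.ofHom (algebraMap A₀ (QA 𝔯 g)))) := by
  rw [algebraMap_QA_eq, CommRingCat.ofHom_comp, Spec.map_comp]
  have : IsClosedImmersion (Spec.map (CommRingCat.ofHom
      (Ideal.Quotient.mk (𝔯.map (algebraMap A₀ (Localization.Away g)))))) :=
    IsClosedImmersion.spec_of_surjective _ Ideal.Quotient.mk_surjective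
  have : IsOpenImmersion (Spec.map (CommRingCat.ofHom (algebraMap A₀ (Localization.Away g)))) :=
    IsOpenImmersion.of_isLocalization g
  infer_instance

theorem range_comap_QA (𝔯 : Ideal A₀) (g : A₀) :
    Set.range (PrimeSpectrum.comap (algebraMap A₀ (QA 𝔯 g))) =
      PrimeSpectrum.zeroLocus (𝔯 : Set A₀) ∩
        (PrimeSpectrum.basicOpen g : Set (PrimeSpectrum A₀)) := by
  rw [algebraMap_QA_eq, PrimeSpectrum.comap_comp]
  change Set.range (PrimeSpectrum.comap (algebraMap A₀ (Localization.Away g)) ∘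
    PrimeSpectrum.comap (Ideal.Quotient.mk (𝔯.map (algebraMap A₀ (Localization.Away g))))) = _
  rw [Set.range_comp, range_comap_of_surjective _ _ Ideal.Quotient.mk_surjective,
    Ideal.mk_ker, ← PrimeSpectrum.localization_away_comap_range (Localization.Away g) g]
  ext p
  constructor
  · rintro ⟨q, hq, rfl⟩
    refine ⟨?_, q, rfl⟩
    rw [PrimeSpectrum.mem_zeroLocus] at hq ⊢
    intro a ha
    exact hq (Ideal.mem_map_of_mem _ ha)
  · rintro ⟨hp, q, rfl⟩
    refine ⟨q, ?_, rfl⟩
    rw [PrimeSpectrum.mem_zeroLocus] at hp ⊢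
    rw [SetLike.coe_subset_coe, Ideal.map_le_iff_le_comap]
    exact hp

/-- The image of `Spec (A_g / 𝔯 A_g) → Spec A` is `V(𝔯) ∩ D(g)`. -/
theorem range_QA (𝔯 : Ideal A₀) (g : A₀) :
    Set.range (Spec.map (CommRingCat.ofHom (algebraMap A₀ (QA 𝔯 g)))) =
      PrimeSpectrum.zeroLocus (𝔯 : Set A₀) ∩
        (PrimeSpectrum.basicOpen g : Set (PrimeSpectrum A₀)) :=
  range_comap_QA 𝔯 g

/-- The `i`-th stratum attached to a list of elements: `V(l₀, …, l_{i-1}) ∩ D(l_i)`. -/
def stratum (l : List A₀) (i : ℕ) (hi : i < l.length) : Set (PrimeSpectrum A₀) :=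
  PrimeSpectrum.zeroLocus ((Ideal.span {a | a ∈ l.take i}).radical : Set A₀) ∩
    (PrimeSpectrum.basicOpen l[i] : Set (PrimeSpectrum A₀))

theorem mem_stratum_iff (l : List A₀) (i : ℕ) (hi : i < l.length) (p : PrimeSpectrum A₀) :
    p ∈ stratum l i hi ↔
      (∀ (k : ℕ) (hk : k < i), l[k]'(hk.trans hi) ∈ p.asIdeal) ∧ l[i] ∉ p.asIdeal := by
  unfold stratum
  rw [Set.mem_inter_iff, PrimeSpectrum.zeroLocus_radical, PrimeSpectrum.zeroLocus_span,
    PrimeSpectrum.mem_zeroLocus, SetLike.mem_coe, PrimeSpectrum.mem_basicOpen]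
  refine and_congr_left fun _ => ⟨fun h k hk => ?_, fun h a ha => ?_⟩
  · exact h (List.mem_take_iff_getElem.mpr ⟨k, lt_min hk (hk.trans hi), rfl⟩)
  · obtain ⟨j, hj, rfl⟩ := List.mem_take_iff_getElem.mp ha
    exact h j (lt_of_lt_of_le hj (min_le_left _ _))

theorem stratum_disjoint (l : List A₀) (i j : ℕ) (hi : i < l.length) (hj : j < l.length)
    (hij : i ≠ j) : Disjoint (stratum l i hi) (stratum l j hj) := by
  rw [Set.disjoint_left]
  intro p hpi hpj
  rw [mem_stratum_iff] at hpi hpj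
  rcases lt_or_gt_of_ne hij with h | h
  · exact hpi.2 (hpj.1 i h)
  · exact hpj.2 (hpi.1 j h)

theorem iUnion_stratum (l : List A₀) (hl : Ideal.span {a | a ∈ l} = ⊤) :
    ⋃ i : Fin l.length, stratum l i.1 i.2 = Set.univ := by
  classical
  rw [Set.eq_univ_iff_forall]
  intro p
  have hex : ∃ k : ℕ, ∃ hk : k < l.length, l[k] ∉ p.asIdeal := by
    by_contra hcon
    push Not at hcon
    have : Ideal.span {a | a ∈ l} ≤ p.asIdeal := by
      rw [Ideal.span_le]
      intro a ha
      obtain ⟨k, hk, rfl⟩ := List.mem_iff_getElem.mp ha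
      exact hcon k hk
    rw [hl] at this
    exact p.isPrime.ne_top (top_le_iff.mp this)
  obtain ⟨hk, hkp⟩ := Nat.find_spec hex
  refine Set.mem_iUnion.mpr ⟨⟨Nat.find hex, hk⟩, ?_⟩
  rw [mem_stratum_iff]
  refine ⟨fun k hkk => ?_, hkp⟩
  by_contra hcon
  exact Nat.find_min hex hkk ⟨hkk.trans hk, hcon⟩

theorem stratum_open (l : List A₀) (i : Fin l.length) :
    ∃ U : Set (PrimeSpectrum A₀), IsOpen U ∧
      U ∩ (⋃ j : Fin l.length, ⋃ (_ : i ≤ j), stratum l j.1 j.2) = stratum l i.1 i.2 := by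
  refine ⟨(PrimeSpectrum.basicOpen (l[i.1]'i.2) : Set (PrimeSpectrum A₀)),
    (PrimeSpectrum.basicOpen _).isOpen, ?_⟩
  ext p
  simp only [Set.mem_inter_iff, Set.mem_iUnion, SetLike.mem_coe, PrimeSpectrum.mem_basicOpen]
  constructor
  · rintro ⟨hp, j, hij, hpj⟩
    rcases eq_or_lt_of_le hij with h | h
    · subst h; exact hpj
    · rw [mem_stratum_iff] at hpj
      exact absurd (hpj.1 i.1 h) hp
  · intro hp
    refine ⟨?_, i, le_rfl, hp⟩
    rw [mem_stratum_iff] at hp
    exact hp.2

end Topology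

section Main

/-- The stratification data: a list `l` generating the unit ideal such that over each
`A_i = (A₀)_{l_i} / rad(l₀, …, l_{i-1})` all graded pieces are flat. -/
theorem exists_list_flat {A₀ B₀ : Type u} [CommRing A₀] [IsNoetherianRing A₀]
    [CommRing B₀] [Algebra A₀ B₀] [Algebra.FiniteType A₀ B₀] (J₀ : Ideal B₀) (M₀ : Type u)
    [AddCommGroup M₀] [Module B₀ M₀] [Module A₀ M₀] [IsScalarTower A₀ B₀ M₀]
    [Module.Finite B₀ M₀] :
    ∃ l : List A₀, Ideal.span {a | a ∈ l} = ⊤ ∧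
      ∀ (i : ℕ) (hi : i < l.length) (n : ℕ),
        Module.Flat (QA (Ideal.span {a | a ∈ l.take i}).radical l[i])
          ↥(Submodule.map
            (LinearMap.range (LinearMap.baseChange
              (QA (Ideal.span {a | a ∈ l.take i}).radical l[i])
              ((J₀ ^ (n + 1) • (⊤ : Submodule B₀ M₀)).restrictScalars A₀).subtype)).mkQ
            (LinearMap.range (LinearMap.baseChange
              (QA (Ideal.span {a | a ∈ l.take i}).radical l[i])
              ((J₀ ^ n • (⊤ : Submodule B₀ M₀)).restrictScalars A₀).subtype))) := by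
  let P : Ideal A₀ → A₀ → Prop := fun I f => ∀ n : ℕ, Module.Flat (QA I.radical f)
    ↥(Submodule.map
      (LinearMap.range (LinearMap.baseChange (QA I.radical f)
        ((J₀ ^ (n + 1) • (⊤ : Submodule B₀ M₀)).restrictScalars A₀).subtype)).mkQ
      (LinearMap.range (LinearMap.baseChange (QA I.radical f)
        ((J₀ ^ n • (⊤ : Submodule B₀ M₀)).restrictScalars A₀).subtype)))
  have hP : ∀ I : Ideal A₀, I ≠ ⊤ → ∃ f, f ∉ I ∧ P I f := by
    intro I hI
    have h2 : I.radical ≠ ⊤ := by rwa [Ne, Ideal.radical_eq_top]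
    obtain ⟨f, hf, hflat⟩ :=
      exists_flat_QA_of_isRadical J₀ M₀ I.radical (Ideal.radical_isRadical I) h2
    exact ⟨f, fun h => hf (Ideal.le_radical h), hflat⟩
  obtain ⟨l, hl, hl'⟩ := exists_list_of_forall P hP ⊥
  rw [bot_sup_eq] at hl
  refine ⟨l, hl, fun i hi n => ?_⟩
  have := hl' i hi
  rw [bot_sup_eq] at this
  exact this n

end Main

end Groth.Agent.R2.H88.GrStrat
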