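import Mathlib

/-!
# helper88: Jacobian-type determinants and commuting derivations

For commuting derivations `D j` of a commutative ring `R` and an additive functional `Λ` killing all
`D j x` ("integration"), the determinant of a matrix with closed rows one of which is exact is
killed by `Λ`.  Consequence: `Λ (det (δ_ij u_i + D_j f_i)) = Λ (∏ u_i)` when `D_a u_i = 0` for
`a ≠ i`.
-/

set_option autoImplicit false
set_option linter.unusedSectionVars false

namespace Groth.Agent.R2.H88.JacDer

open Finset Equiv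

variable {k R : Type*} [CommRing k] [CommRing R] [Algebra k R]

theorem leibniz_prod {ι : Type*} [DecidableEq ι] (D : Derivation k R R) (s : Finset ι)
    (g : ι → R) : D (∏ i ∈ s, g i) = ∑ l ∈ s, (∏ i ∈ s.erase l, g i) * D (g l) := by
  induction s using Finset.induction_on with
  | empty => simp
  | insert a s ha ih =>
    rw [Finset.prod_insert ha, Derivation.leibniz, ih, Finset.sum_insert ha,
      Finset.erase_insert ha]
    simp only [smul_eq_mul]
    rw [add_comm, Finset.mul_sum]
    congr 1
    refine Finset.sum_congr rfl fun l hl => ?_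
    have hne : a ≠ l := fun h => ha (h ▸ hl)
    have ha' : a ∉ s.erase l := fun h => ha (Finset.mem_of_mem_erase h)
    rw [Finset.erase_insert_of_ne hne, Finset.prod_insert ha', mul_assoc]

section lam

variable {ι : Type*} [Fintype ι] [DecidableEq ι] (D : ι → Derivation k R R)
  {G : Type*} [AddCommGroup G] (Λ : R →+ G) (hΛ : ∀ j x, Λ (D j x) = 0)

include hΛ in
theorem ibp (j : ι) (x y : R) : Λ (D j x * y) = - Λ (x * D j y) := by
  have h := hΛ j (x * y)
  rw [Derivation.leibniz, smul_eq_mul, smul_eq_mul, map_add] at h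
  rw [mul_comm (D j x) y]
  exact eq_neg_of_add_eq_zero_right h

/-- the term of the expansion -/
noncomputable def T (N : Matrix ι ι R) (i0 : ι) (φ : R) (l : ι) (σ : Perm ι) : G :=
  (Equiv.Perm.sign σ : ℤ) •
    Λ (φ * ((∏ i ∈ (univ.erase i0).erase l, N i (σ i)) * D (σ i0) (N l (σ l))))

include hΛ in
theorem lam_term (N : Matrix ι ι R) (i0 : ι) (φ : R) (hφ : ∀ b, N i0 b = D b φ) (σ : Perm ι) :
    Λ (((Equiv.Perm.sign σ : ℤ) : R) * ∏ i, N.transpose (σ i) i) =
      - ∑ l ∈ univ.erase i0, T D Λ N i0 φ l σ := by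
  simp only [Matrix.transpose_apply, T]
  rw [← Finset.mul_prod_erase univ _ (Finset.mem_univ i0), hφ, ← zsmul_eq_mul, map_zsmul,
    ibp D Λ hΛ, leibniz_prod, Finset.mul_sum, map_sum, smul_neg, Finset.smul_sum]

theorem T_swap (N : Matrix ι ι R) (hcl : ∀ l a b, D a (N l b) = D b (N l a)) (i0 : ι) (φ : R)
    (l : ι) (hl : l ≠ i0) (σ : Perm ι) :
    T D Λ N i0 φ l σ + T D Λ N i0 φ l (σ * Equiv.swap i0 l) = 0 := by
  have h1 : (σ * Equiv.swap i0 l) i0 = σ l := by simp
  have h2 : (σ * Equiv.swap i0 l) l = σ i0 := by simp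
  have h3 : ∏ i ∈ (univ.erase i0).erase l, N i ((σ * Equiv.swap i0 l) i) =
      ∏ i ∈ (univ.erase i0).erase l, N i (σ i) := by
    refine Finset.prod_congr rfl fun i hi => ?_
    have hi1 : i ≠ l := Finset.ne_of_mem_erase hi
    have hi0 : i ≠ i0 := Finset.ne_of_mem_erase (Finset.mem_of_mem_erase hi)
    rw [Equiv.Perm.mul_apply, Equiv.swap_apply_of_ne_of_ne hi0 hi1]
  have h4 : Equiv.Perm.sign (σ * Equiv.swap i0 l) = - Equiv.Perm.sign σ := by
    rw [Equiv.Perm.sign_mul, Equiv.Perm.sign_swap (Ne.symm hl), mul_neg, mul_one]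
  unfold T
  rw [h1, h2, h3, h4, hcl l (σ l) (σ i0)]
  simp

include hΛ in
/-- closed rows and one exact row: the determinant is a divergence -/
theorem lam_det_eq_zero (N : Matrix ι ι R) (hcl : ∀ l a b, D a (N l b) = D b (N l a)) (i0 : ι)
    (φ : R) (hφ : ∀ b, N i0 b = D b φ) : Λ N.det = 0 := by
  rw [← Matrix.det_transpose, Matrix.det_apply', map_sum]
  rw [Finset.sum_congr rfl fun σ _ => lam_term D Λ hΛ N i0 φ hφ σ]
  rw [Finset.sum_neg_distrib, neg_eq_zero, Finset.sum_comm]
  refine Finset.sum_eq_zero fun l hl => ?_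
  have hl' : l ≠ i0 := Finset.ne_of_mem_erase hl
  refine Finset.sum_ninvolution (fun σ => σ * Equiv.swap i0 l)
    (fun σ => T_swap D Λ N hcl i0 φ l hl' σ) (fun σ _ h => ?_) (fun σ => Finset.mem_univ _)
    (fun σ => ?_)
  · have h5 := congrArg (fun τ => τ i0) h
    simp only [Equiv.Perm.mul_apply, Equiv.swap_apply_left] at h5
    exact hl' (σ.injective h5)
  · rw [mul_assoc, Equiv.swap_mul_self, mul_one]

end lam

section rows

variable {ι : Type*} [Fintype ι] [DecidableEq ι] (D : ι → Derivation k R R)
  {G : Type*} [AddCommGroup G] (Λ : R →+ G) (hΛ : ∀ j x, Λ (D j x) = 0)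
  (hcomm : ∀ a b x, D a (D b x) = D b (D a x))
  (u f : ι → R) (hu : ∀ a i, a ≠ i → D a (u i) = 0)

/-- the matrix `δ_ij u_i + D_j f_i`, with the rows in `S` replaced by `δ_ij u_i` -/
def NS (S : Finset ι) : Matrix ι ι R := fun i j =>
  (if i = j then u i else 0) + (if i ∈ S then 0 else D j (f i))

include hcomm hu in
theorem NS_closed (S : Finset ι) (l a b : ι) : D a (NS D u f S l b) = D b (NS D u f S l a) := by
  unfold NS
  rcases eq_or_ne a b with rfl | hab
  · rfl
  · rw [map_add, map_add]
    congr 1
    · by_cases h1 : l = b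
      · subst h1
        rw [if_pos rfl, if_neg (Ne.symm hab), map_zero, hu a l hab]
      · rw [if_neg h1, map_zero]
        by_cases h2 : l = a
        · subst h2
          rw [if_pos rfl, hu b l (Ne.symm h1)]
        · rw [if_neg h2, map_zero]
    · by_cases h : l ∈ S
      · rw [if_pos h, if_pos h, map_zero, map_zero]
      · rw [if_neg h, if_neg h, hcomm]

include hΛ hcomm hu in
theorem lam_det_NS_insert (S : Finset ι) (a : ι) (ha : a ∉ S) :
    Λ (NS D u f (insert a S)).det = Λ (NS D u f S).det := by
  have h1 : NS D u f S = (NS D u f S).updateRow a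
      ((fun j => if a = j then u a else 0) + (fun j => D j (f a))) := by
    ext i j
    by_cases hi : i = a
    · subst hi
      rw [Matrix.updateRow_self]
      simp [NS, ha]
    · rw [Matrix.updateRow_ne hi]
  have h2 : (NS D u f S).updateRow a (fun j => if a = j then u a else 0) =
      NS D u f (insert a S) := by
    ext i j
    by_cases hi : i = a
    · subst hi
      rw [Matrix.updateRow_self]
      simp [NS]
    · rw [Matrix.updateRow_ne hi]
      simp [NS, hi]
  have h3 : Λ ((NS D u f S).updateRow a (fun j => D j (f a))).det = 0 := by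
    refine lam_det_eq_zero D Λ hΛ _ (fun l x y => ?_) a (f a) (fun b => ?_)
    · by_cases hl : l = a
      · subst hl
        rw [Matrix.updateRow_self, hcomm]
      · rw [Matrix.updateRow_ne hl]
        exact NS_closed D hcomm u f hu S l x y
    · rw [Matrix.updateRow_self]
  rw [h1, Matrix.det_updateRow_add, map_add, h3, add_zero, h2]

include hΛ hcomm hu in
theorem lam_det_NS (S : Finset ι) : Λ (NS D u f S).det = Λ (NS D u f ∅).det := by
  induction S using Finset.induction_on with
  | empty => rfl
  | insert a S ha ih => rw [lam_det_NS_insert D Λ hΛ hcomm u f hu S a ha, ih]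

include hΛ hcomm hu in
/-- the main identity -/
theorem lam_det (M : Matrix ι ι R)
    (hM : ∀ i j, M i j = (if i = j then u i else 0) + D j (f i)) :
    Λ M.det = Λ (∏ i, u i) := by
  have h1 : M = NS D u f ∅ := by
    ext i j
    simp [NS, hM]
  have h2 : NS D u f Finset.univ = Matrix.diagonal u := by
    ext i j
    simp [NS, Matrix.diagonal_apply]
  rw [h1, ← lam_det_NS D Λ hΛ hcomm u f hu Finset.univ, h2, Matrix.det_diagonal]

end rows

section single

theorem iterate_pow_mul (D : Derivation k R R) (t c : R) (ht : D t = 1) (hc : D c = 0) (n m : ℕ) :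
    D^[m] (t ^ n * c) = (n.descFactorial m : R) * (t ^ (n - m) * c) := by
  induction m with
  | zero => simp
  | succ m ih =>
    rw [Function.iterate_succ_apply', ih, ← nsmul_eq_mul, map_nsmul, Derivation.leibniz,
      Derivation.leibniz_pow, ht, hc, Nat.descFactorial_succ, Nat.sub_sub]
    simp only [smul_eq_mul, mul_zero, zero_add, mul_one, nsmul_eq_mul, Nat.cast_mul]
    rw [Nat.sub_add_eq]
    ring

theorem wilson_cast (p : ℕ) [Fact p.Prime] [CharP R p] : (((p - 1).factorial : ℕ) : R) = -1 := by
  have h1 : (((p - 1).factorial + 1 : ℕ) : R) = 0 := by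
    rw [CharP.cast_eq_zero_iff R p]
    have h2 := ZMod.wilsons_lemma (p := p)
    rw [← (ZMod.natCast_eq_zero_iff _ p)]
    push_cast
    rw [h2]
    ring
  push_cast at h1
  exact eq_neg_of_add_eq_zero_left h1

theorem iterate_top (D : Derivation k R R) (p : ℕ) [Fact p.Prime] [CharP R p] (t c : R)
    (ht : D t = 1) (hc : D c = 0) : D^[p - 1] (t ^ (p - 1) * c) = - c := by
  rw [iterate_pow_mul D t c ht hc, Nat.descFactorial_self, Nat.sub_self, pow_zero, one_mul,
    wilson_cast p, neg_one_mul]

end single

section top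

variable {ι : Type*} [DecidableEq ι] (D : ι → Derivation k R R)
  (hcomm : ∀ a b x, D a (D b x) = D b (D a x))
  (p : ℕ) [Fact p.Prime] [CharP R p]
  (hpow : ∀ j x, (D j)^[p] x = 0)
  (t : ι → R) (ht : ∀ i j, D j (t i) = if i = j then 1 else 0)

include hcomm in
theorem iterate_comm (a b : ι) (m : ℕ) (x : R) : (D a)^[m] (D b x) = D b ((D a)^[m] x) := by
  induction m generalizing x with
  | zero => rfl
  | succ m ih => rw [Function.iterate_succ_apply, Function.iterate_succ_apply, hcomm, ih]

include hcomm hpow ht in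
theorem exists_top (S : Finset ι) : ∃ Λ : R →ₗ[k] R,
    (∀ j ∈ S, ∀ x, Λ (D j x) = 0) ∧ (∀ j x, Λ (D j x) = D j (Λ x)) ∧
    (∀ c, (∀ j ∈ S, D j c = 0) → Λ ((∏ i ∈ S, t i ^ (p - 1)) * c) = (-1) ^ S.card * c) := by
  induction S using Finset.induction_on with
  | empty =>
    refine ⟨LinearMap.id, by simp, by simp, by simp⟩
  | insert a S ha ih =>
    obtain ⟨Λ, h1, h2, h3⟩ := ih
    have hp1 : p - 1 + 1 = p := Nat.sub_add_cancel (Fact.out : p.Prime).one_le
    refine ⟨Λ ∘ₗ ((D a : R →ₗ[k] R) ^ (p - 1)), ?_, ?_, ?_⟩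
    · intro j hj x
      rw [LinearMap.comp_apply, Module.End.pow_apply]
      rcases Finset.mem_insert.mp hj with rfl | hj'
      · change Λ ((D j)^[p - 1] (D j x)) = 0
        rw [← Function.iterate_succ_apply, Nat.succ_eq_add_one, hp1, hpow, map_zero]
      · change Λ ((D a)^[p - 1] (D j x)) = 0
        rw [iterate_comm D hcomm, h1 j hj']
    · intro j x
      rw [LinearMap.comp_apply, Module.End.pow_apply, LinearMap.comp_apply, Module.End.pow_apply]
      change Λ ((D a)^[p - 1] (D j x)) = D j (Λ ((D a)^[p - 1] x))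
      rw [iterate_comm D hcomm, h2]
    · intro c hc
      rw [LinearMap.comp_apply, Module.End.pow_apply, Finset.prod_insert ha, mul_assoc]
      change Λ ((D a)^[p - 1] (t a ^ (p - 1) * ((∏ i ∈ S, t i ^ (p - 1)) * c))) = _
      have hc' : D a ((∏ i ∈ S, t i ^ (p - 1)) * c) = 0 := by
        rw [Derivation.leibniz, hc a (Finset.mem_insert_self a S), smul_zero, zero_add,
          leibniz_prod]
        rw [Finset.sum_eq_zero, smul_zero]
        intro l hl
        have hla : l ≠ a := fun h => ha (h ▸ hl)
        rw [Derivation.leibniz_pow, ht l a, if_neg hla, smul_zero, smul_zero, mul_zero]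
      rw [iterate_top (D a) p (t a) _ (by rw [ht a a, if_pos rfl]) hc', map_neg,
        h3 c (fun j hj => hc j (Finset.mem_insert_of_mem hj)), Finset.card_insert_of_notMem ha,
        pow_succ]
      ring

end top

section conclusion

variable {ι : Type*} [Fintype ι] [DecidableEq ι] (D : ι → Derivation k R R)
  (hcomm : ∀ a b x, D a (D b x) = D b (D a x))
  (p : ℕ) [Fact p.Prime] [CharP R p]
  (hpow : ∀ j x, (D j)^[p] x = 0)
  (t : ι → R) (ht : ∀ i j, D j (t i) = if i = j then 1 else 0)

include hcomm hpow ht in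
theorem det_ne_zero [Nontrivial R] (f : ι → R) (M : Matrix ι ι R)
    (hM : ∀ i j, M i j = (if i = j then t i ^ (p - 1) else 0) + D j (f i)) : M.det ≠ 0 := by
  obtain ⟨Λ, h1, -, h3⟩ := exists_top D hcomm p hpow t ht Finset.univ
  have hΛ : ∀ j x, Λ.toAddMonoidHom (D j x) = 0 := fun j x => h1 j (Finset.mem_univ j) x
  have hu : ∀ a i, a ≠ i → D a (t i ^ (p - 1)) = 0 := by
    intro a i hai
    rw [Derivation.leibniz_pow, ht i a, if_neg (Ne.symm hai), smul_zero, smul_zero]
  have h4 := lam_det D Λ.toAddMonoidHom hΛ hcomm (fun i => t i ^ (p - 1)) f hu M hM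
  intro h0
  rw [h0, map_zero] at h4
  have h5 := h3 1 (fun j _ => (D j).map_one_eq_zero)
  rw [mul_one, mul_one] at h5
  have h6 : Λ (∏ i, t i ^ (p - 1)) = (-1) ^ (Finset.univ : Finset ι).card := h5
  have h7 : ((-1 : R) ^ (Finset.univ : Finset ι).card) = 0 := by
    rw [← h6]; exact h4.symm
  exact (IsUnit.ne_zero ((isUnit_one.neg).pow _)) h7

end conclusion

section ppower

theorem iterate_mul (D : Derivation k R R) (n : ℕ) (a b : R) :
    D^[n] (a * b) = ∑ ij ∈ Finset.HasAntidiagonal.antidiagonal n,
      n.choose ij.1 • (D^[ij.1] a * D^[ij.2] b) := by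
  induction n with
  | zero => simp
  | succ n ih =>
    rw [Finset.sum_antidiagonal_choose_succ_nsmul (M := R) (fun i j => D^[i] a * D^[j] b) n]
    simp only [Function.iterate_succ_apply', ih, map_sum, map_nsmul, Derivation.leibniz,
      smul_eq_mul, smul_add, Finset.sum_add_distrib]
    congr 1
    refine Finset.sum_congr rfl fun ⟨i, j⟩ hij => ?_
    rw [n.choose_symm_of_eq_add (Finset.HasAntidiagonal.mem_antidiagonal.1 hij).symm,
      mul_comm (D^[j] b)]

theorem iterate_p_mul (D : Derivation k R R) (p : ℕ) [Fact p.Prime] [CharP R p] (a b : R) :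
    D^[p] (a * b) = a * D^[p] b + b * D^[p] a := by
  rw [iterate_mul, Finset.Nat.sum_antidiagonal_eq_sum_range_succ
    (fun i j => p.choose i • (D^[i] a * D^[j] b)) p]
  obtain ⟨q, hq⟩ : ∃ q, p = q + 1 := ⟨p - 1, (Nat.sub_add_cancel (Fact.out : p.Prime).one_le).symm⟩
  have key : ∀ i ∈ Finset.range q, p.choose (i + 1) • (D^[i + 1] a * D^[p - (i + 1)] b) = 0 := by
    intro i hi
    have hi' : i + 1 < p := by
      have := Finset.mem_range.mp hi
      omega
    have hdvd : p ∣ p.choose (i + 1) :=
      Nat.Prime.dvd_choose_self (Fact.out : p.Prime) (Nat.succ_ne_zero i) hi'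
    rw [← Nat.cast_smul_eq_nsmul R, (CharP.cast_eq_zero_iff R p _).mpr hdvd, zero_smul]
  rw [Finset.sum_range_succ]
  conv_lhs => rw [hq, Finset.sum_range_succ', ← hq]
  rw [Finset.sum_eq_zero key]
  simp only [Nat.choose_zero_right, Nat.sub_zero, Function.iterate_zero, id_eq, one_smul,
    Nat.choose_self, Nat.sub_self, zero_add]
  rw [mul_comm (D^[p] a) b]

/-- the `p`-th iterate of a derivation in characteristic `p`, as a derivation -/
noncomputable def powP (D : Derivation k R R) (p : ℕ) [Fact p.Prime] [CharP R p] :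
    Derivation k R R :=
  Derivation.mk' ((D : R →ₗ[k] R) ^ p) (fun a b => by
    rw [Module.End.pow_apply, Module.End.pow_apply, Module.End.pow_apply]
    exact iterate_p_mul D p a b)

theorem powP_apply (D : Derivation k R R) (p : ℕ) [Fact p.Prime] [CharP R p] (x : R) :
    powP D p x = D^[p] x := by
  change ((D : R →ₗ[k] R) ^ p) x = _
  rw [Module.End.pow_apply]
  rfl

end ppower

section kaehler

variable {A : Type*} [CommRing A] [Algebra k A] {ι : Type*} [Fintype ι] [DecidableEq ι]
  (b : Module.Basis ι A (Ω[A⁄k])) (t : ι → A) (hb : ∀ i, b i = KaehlerDifferential.D k A (t i))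

/-- the partial derivatives dual to a basis `d t_i` of the Kähler differentials -/
noncomputable def partialDer (j : ι) : Derivation k A A :=
  (b.coord j).compDer (KaehlerDifferential.D k A)

theorem partialDer_apply (j : ι) (x : A) :
    partialDer b j x = b.coord j (KaehlerDifferential.D k A x) := rfl

include hb in
theorem partialDer_t (i j : ι) : partialDer b j (t i) = if i = j then 1 else 0 := by
  rw [partialDer_apply, ← hb, Module.Basis.coord_apply, Module.Basis.repr_self,
    Finsupp.single_apply]

include hb in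
theorem derivation_eq_zero (δ : Derivation k A A) (h : ∀ i, δ (t i) = 0) : δ = 0 := by
  have h1 : δ.liftKaehlerDifferential = 0 := by
    apply b.ext
    intro i
    rw [hb, Derivation.liftKaehlerDifferential_comp_D, h, LinearMap.zero_apply]
  ext x
  rw [← Derivation.liftKaehlerDifferential_comp_D δ x, h1, LinearMap.zero_apply,
    Derivation.zero_apply]

include hb in
theorem partialDer_comm (i j : ι) (x : A) :
    partialDer b i (partialDer b j x) = partialDer b j (partialDer b i x) := by
  have h1 : ⁅partialDer b i, partialDer b j⁆ = 0 := by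
    apply derivation_eq_zero b t hb
    intro l
    rw [Derivation.commutator_apply, partialDer_t b t hb, partialDer_t b t hb]
    split_ifs <;> simp
  have h2 := congrArg (fun δ : Derivation k A A => δ x) h1
  simp only [Derivation.commutator_apply, Derivation.zero_apply] at h2
  exact sub_eq_zero.mp h2

include hb in
theorem partialDer_pow (p : ℕ) [Fact p.Prime] [CharP A p] (j : ι) (x : A) :
    (partialDer b j)^[p] x = 0 := by
  have h1 : powP (partialDer b j) p = 0 := by
    apply derivation_eq_zero b t hb
    intro l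
    have hp1 : p = (p - 2) + 1 + 1 := by
      have := (Fact.out : p.Prime).two_le
      omega
    rw [powP_apply, hp1, Function.iterate_succ_apply, partialDer_t b t hb]
    have h0 : partialDer b j (if l = j then (1 : A) else 0) = 0 := by
      split_ifs <;> simp
    rw [Function.iterate_succ_apply, h0]
    exact iterate_map_zero (partialDer b j) _
  rw [← powP_apply, h1, Derivation.zero_apply]

include hb in
/-- **Main theorem**: the Frobenius-lift Jacobian has nonzero determinant. -/
theorem det_partial_ne_zero (p : ℕ) [Fact p.Prime] [CharP A p] [Nontrivial A] (f : ι → A) :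
    (Matrix.of fun i j : ι => (if i = j then t i ^ (p - 1) else 0) +
      b.coord j (KaehlerDifferential.D k A (f i))).det ≠ 0 := by
  refine det_ne_zero (partialDer b) (partialDer_comm b t hb) p (partialDer_pow b t hb p) t
    (partialDer_t b t hb) f _ (fun i j => ?_)
  rw [Matrix.of_apply, partialDer_apply]

end kaehler

end Groth.Agent.R2.H88.JacDer
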