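import Mathlib
import Groth.Agent.Lib.Helper5IntDim

/-!
# Counting ring homomorphisms into finite fields (helper88)

`card_ringHom_le`: if a ring `A` is generated by finitely many elements, each of which satisfies
a monic polynomial over `ℤ[a₁, …, a_s]` "as far as homomorphisms into `F` can see", then
`#Hom(A, F) ≤ (∏ degrees) * #F ^ s`.
-/

set_option autoImplicit false
set_option linter.style.haveILetI false
universe u v

open Polynomial

namespace Groth.Agent.R2.H88.PtCount

section bound

variable {A : Type u} [CommRing A] {ι : Type*} [Fintype ι] {s : ℕ}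

/-- The basic counting bound. -/
theorem card_ringHom_le (y : ι → A) (a : Fin s → A)
    (P : ι → Polynomial (MvPolynomial (Fin s) ℤ)) (hP : ∀ i, (P i).Monic)
    (F : Type v) [Field F] [Finite F]
    (h1 : ∀ φ φ' : A →+* F, (∀ i, φ (y i) = φ' (y i)) → φ = φ')
    (h2 : ∀ (φ : A →+* F) (i : ι),
      φ (Polynomial.eval₂ (MvPolynomial.eval₂Hom (Int.castRingHom A) a) (y i) (P i)) = 0) :
    Nat.card (A →+* F) ≤ (∏ i, (P i).natDegree) * Nat.card F ^ s := by
  classical
  haveI : Fintype F := Fintype.ofFinite F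
  -- the specialised polynomials
  let Q : ι → (Fin s → F) → Polynomial F := fun i t =>
    (P i).map (MvPolynomial.eval₂Hom (Int.castRingHom F) t)
  have hQdeg : ∀ i t, (Q i t).natDegree = (P i).natDegree := fun i t =>
    (hP i).natDegree_map _
  have hQne : ∀ i t, Q i t ≠ 0 := fun i t => ((hP i).map _).ne_zero
  let S : Finset (ι → F) := Finset.univ.biUnion
    (fun t : Fin s → F => Fintype.piFinset (fun i => (Q i t).roots.toFinset))
  have hScard : S.card ≤ (∏ i, (P i).natDegree) * Nat.card F ^ s := by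
    refine (Finset.card_biUnion_le).trans ?_
    have : ∀ t ∈ (Finset.univ : Finset (Fin s → F)),
        (Fintype.piFinset (fun i => (Q i t).roots.toFinset)).card ≤ ∏ i, (P i).natDegree := by
      intro t _
      rw [Fintype.card_piFinset]
      refine Finset.prod_le_prod' fun i _ => ?_
      exact (Multiset.toFinset_card_le _).trans ((Polynomial.card_roots' _).trans (hQdeg i t).le)
    refine (Finset.sum_le_sum this).trans ?_
    rw [Finset.sum_const, Finset.card_univ, smul_eq_mul, Fintype.card_fun, Fintype.card_fin,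
      Nat.card_eq_fintype_card, mul_comm]
  -- the map into `S`
  have hmem : ∀ φ : A →+* F, (fun i => φ (y i)) ∈ S := by
    intro φ
    refine Finset.mem_biUnion.mpr ⟨fun j => φ (a j), Finset.mem_univ _, ?_⟩
    rw [Fintype.mem_piFinset]
    intro i
    rw [Multiset.mem_toFinset, Polynomial.mem_roots (hQne i _), Polynomial.IsRoot.def]
    have hcomp : φ.comp (MvPolynomial.eval₂Hom (Int.castRingHom A) a) =
        MvPolynomial.eval₂Hom (Int.castRingHom F) (fun j => φ (a j)) := by
      apply MvPolynomial.ringHom_ext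
      · intro n; simp
      · intro j; simp
    have := h2 φ i
    rw [Polynomial.hom_eval₂, hcomp, Polynomial.eval₂_eq_eval_map] at this
    exact this
  let Φ : (A →+* F) → S := fun φ => ⟨fun i => φ (y i), hmem φ⟩
  have hΦ : Function.Injective Φ := by
    intro φ φ' h
    apply h1
    intro i
    have := congrArg Subtype.val h
    exact congrFun this i
  calc Nat.card (A →+* F) ≤ Nat.card S := Nat.card_le_card_of_injective Φ hΦ
    _ = S.card := by rw [Nat.card_eq_fintype_card, Fintype.card_coe]
    _ ≤ _ := hScard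

end bound

section generators

theorem isJacobsonRing_int : IsJacobsonRing ℤ := by
  rw [isJacobsonRing_iff_prime_eq]
  intro P hP
  by_cases hbot : P = ⊥
  · subst hbot
    rw [eq_bot_iff]
    intro x hx
    rw [Ideal.mem_jacobson_bot] at hx
    have h1 := hx x
    rw [Int.isUnit_iff] at h1
    have hx2 : 0 ≤ x * x := mul_self_nonneg x
    rcases h1 with h1 | h1
    · have : x * x = 0 := by omega
      have : x = 0 := by simpa using this
      simp [this]
    · omega
  · haveI : P.IsMaximal := IsPrime.to_maximal_ideal hbot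
    exact Ideal.jacobson_eq_self_of_isMaximal

/-- Ring homomorphisms out of a ring are determined by their values on ring generators. -/
theorem ringHom_ext_of_adjoin {A : Type*} {B : Type*} [CommRing A] [CommRing B] {S : Set A}
    (hS : Algebra.adjoin ℤ S = ⊤) (φ φ' : A →+* B) (h : ∀ x ∈ S, φ x = φ' x) : φ = φ' := by
  have := AlgHom.ext_of_adjoin_eq_top hS (φ₁ := φ.toIntAlgHom) (φ₂ := φ'.toIntAlgHom) h
  exact RingHom.ext fun x => DFunLike.congr_fun this x

end generators

section charp

/-- Characteristic `p` bound: for a finitely generated ring `A` of dimension `≤ r` there is a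
constant `D` with `#Hom(A, F) ≤ D * #F ^ r` for all finite fields `F` of characteristic `p`. -/
theorem exists_bound_char_p (A : Type u) [CommRing A] [Algebra.FiniteType ℤ A] (r : ℕ)
    (hr : ringKrullDim A ≤ r) (p : ℕ) (hp : p.Prime) :
    ∃ D : ℕ, ∀ (F : Type v) [Field F] [Finite F], (p : F) = 0 →
      Nat.card (A →+* F) ≤ D * Nat.card F ^ r := by
  classical
  obtain ⟨S, hS⟩ := (Algebra.FiniteType.out : (⊤ : Subalgebra ℤ A).FG)
  set I : Ideal A := Ideal.span {(p : A)} with hI
  set π : A →+* A ⧸ I := Ideal.Quotient.mk I with hπ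
  -- every hom to a char p field factors through `A ⧸ I`
  have hfac : ∀ (F : Type v) [Field F], (p : F) = 0 → ∀ φ : A →+* F,
      ∃ ψ : A ⧸ I →+* F, φ = ψ.comp π := by
    intro F _ hpF φ
    have hle : ∀ x ∈ I, φ x = 0 := by
      intro x hx
      rw [hI, Ideal.mem_span_singleton'] at hx
      obtain ⟨c, rfl⟩ := hx
      rw [map_mul, map_natCast, hpF, mul_zero]
    exact ⟨Ideal.Quotient.lift I φ hle, by ext x; simp [hπ]⟩
  rcases subsingleton_or_nontrivial (A ⧸ I) with hsub | hnt
  · refine ⟨0, fun F _ _ hpF => ?_⟩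
    have : IsEmpty (A →+* F) := by
      refine ⟨fun φ => ?_⟩
      obtain ⟨ψ, -⟩ := hfac F hpF φ
      have h01 : (0 : A ⧸ I) = 1 := Subsingleton.elim _ _
      have := congrArg ψ h01
      rw [map_zero, map_one] at this
      exact zero_ne_one this
    simp
  · haveI : Fact p.Prime := ⟨hp⟩
    have hpB : ((p : ℕ) : A ⧸ I) = 0 := by
      have : (p : A ⧸ I) = π (p : A) := by simp
      rw [this, hπ, Ideal.Quotient.eq_zero_iff_mem, hI]
      exact Ideal.mem_span_singleton_self _
    haveI : CharP (A ⧸ I) p := (CharP.charP_iff_prime_eq_zero hp).mpr hpB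
    letI : Algebra (ZMod p) (A ⧸ I) := ZMod.algebra _ p
    haveI : Algebra.FiniteType ℤ (A ⧸ I) :=
      Algebra.FiniteType.of_surjective (Ideal.Quotient.mkₐ ℤ I) (Ideal.Quotient.mkₐ_surjective ℤ I)
    haveI : Algebra.FiniteType (ZMod p) (A ⧸ I) :=
      Algebra.FiniteType.of_restrictScalars_finiteType ℤ (ZMod p) (A ⧸ I)
    obtain ⟨s, g, hinj, hint⟩ := exists_integral_inj_algHom_of_fg (ZMod p) (A ⧸ I)
    -- dimension
    have hs : s ≤ r := by
      letI := g.toRingHom.toAlgebra
      haveI : Algebra.IsIntegral (MvPolynomial (Fin s) (ZMod p)) (A ⧸ I) := ⟨hint⟩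
      have h1 := Groth.Agent.Lib.Helper5.ringKrullDim_eq_of_isIntegral_of_injective
        (MvPolynomial (Fin s) (ZMod p)) (A ⧸ I) hinj
      rw [MvPolynomial.ringKrullDim_of_isNoetherianRing, ringKrullDim_eq_zero_of_field] at h1
      have h2 : ringKrullDim (A ⧸ I) ≤ r := (ringKrullDim_quotient_le I).trans hr
      rw [h1] at h2
      simp only [Nat.card_eq_fintype_card, Fintype.card_fin, zero_add] at h2
      exact_mod_cast h2
    -- lifts of the parameters
    choose a ha using fun j : Fin s => Ideal.Quotient.mk_surjective (I := I) (g (MvPolynomial.X j))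
    set hA : MvPolynomial (Fin s) ℤ →+* A := MvPolynomial.eval₂Hom (Int.castRingHom A) a with hhA
    set h : MvPolynomial (Fin s) ℤ →+* A ⧸ I :=
      g.toRingHom.comp (MvPolynomial.map (Int.castRingHom (ZMod p))) with hh
    have hcomp : h = π.comp hA := by
      apply MvPolynomial.ringHom_ext
      · intro n; simp [hh, hhA]
      · intro j; simp [hh, hhA, hπ, ha]
    have hhint : h.IsIntegral := by
      refine RingHom.IsIntegral.trans _ _ ?_ hint
      apply RingHom.isIntegral_of_surjective
      exact MvPolynomial.map_surjective _ (ZMod.intCast_surjective)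
    choose P hPm hP0 using fun i : S => hhint (π i.1)
    refine ⟨∏ i, (P i).natDegree, fun F _ _ hpF => ?_⟩
    have key := card_ringHom_le (fun i : S => (i : A)) a P hPm F ?_ ?_
    · refine key.trans (Nat.mul_le_mul_left _ (Nat.pow_le_pow_right ?_ hs))
      exact Nat.card_pos
    · intro φ φ' hφ
      refine ringHom_ext_of_adjoin hS φ φ' fun x hx => hφ ⟨x, hx⟩
    · intro φ i
      obtain ⟨ψ, rfl⟩ := hfac F hpF φ
      rw [RingHom.comp_apply, Polynomial.hom_eval₂, ← hhA, ← hcomp, hP0 i, map_zero]

end charp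

section generic

variable {A : Type u} [CommRing A] {L : Type*} [CommRing L] [Algebra A L]
  [IsLocalization (Algebra.algebraMapSubmonoid A (nonZeroDivisors ℤ)) L]

omit [IsLocalization (Algebra.algebraMapSubmonoid A (nonZeroDivisors ℤ)) L] in
theorem algebraMap_intCast' (n : ℤ) : algebraMap A L (n : A) = (n : L) := map_intCast _ n

theorem mem_algebraMapSubmonoid_intCast {n : ℤ} (hn : n ≠ 0) :
    (n : A) ∈ Algebra.algebraMapSubmonoid A (nonZeroDivisors ℤ) :=
  ⟨n, mem_nonZeroDivisors_of_ne_zero hn, by simp⟩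

theorem isUnit_intCast_of_ne_zero (A : Type u) [CommRing A] (L : Type*) [CommRing L] [Algebra A L]
    [IsLocalization (Algebra.algebraMapSubmonoid A (nonZeroDivisors ℤ)) L]
    {n : ℤ} (hn : n ≠ 0) : IsUnit (n : L) := by
  have := IsLocalization.map_units L
    (⟨(n : A), mem_algebraMapSubmonoid_intCast hn⟩ :
      Algebra.algebraMapSubmonoid A (nonZeroDivisors ℤ))
  simpa using this

variable (A) in
theorem exists_int_mul_eq (z : L) :
    ∃ n : ℤ, n ≠ 0 ∧ ∃ a : A, (n : L) * z = algebraMap A L a := by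
  obtain ⟨⟨a, m⟩, h⟩ := IsLocalization.surj (Algebra.algebraMapSubmonoid A (nonZeroDivisors ℤ)) z
  obtain ⟨n, hn, hnm⟩ := m.2
  refine ⟨n, nonZeroDivisors.ne_zero hn, a, ?_⟩
  simp only at h
  rw [← h, ← hnm, mul_comm]
  simp

variable (L) in
theorem exists_int_mul_eq_zero (e : A) (h : algebraMap A L e = 0) :
    ∃ n : ℤ, n ≠ 0 ∧ (n : A) * e = 0 := by
  obtain ⟨m, hm⟩ := (IsLocalization.map_eq_zero_iff
    (Algebra.algebraMapSubmonoid A (nonZeroDivisors ℤ)) L e).mp h
  obtain ⟨n, hn, hnm⟩ := m.2
  refine ⟨n, nonZeroDivisors.ne_zero hn, ?_⟩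
  rw [← hm, ← hnm]
  simp

end generic

section dimension

variable {A : Type u} [CommRing A] {L : Type*} [CommRing L] [Algebra A L]
  [IsLocalization (Algebra.algebraMapSubmonoid A (nonZeroDivisors ℤ)) L]

/-- A chain of primes of `A ⊗ ℚ` can be prolonged in `A` when `A` is a finitely generated ring:
`dim (A ⊗ ℚ) + 1 ≤ dim A`. -/
theorem length_add_one_le_ringKrullDim [Algebra.FiniteType ℤ A]
    (l : LTSeries (PrimeSpectrum L)) : ((l.length + 1 : ℕ) : WithBot ℕ∞) ≤ ringKrullDim A := by
  classical
  haveI := isJacobsonRing_int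
  have hmono : StrictMono (PrimeSpectrum.comap (algebraMap A L)) := by
    intro Q₁ Q₂ h
    have h' : Q₁.asIdeal < Q₂.asIdeal := h
    exact (IsLocalization.orderEmbedding
      (Algebra.algebraMapSubmonoid A (nonZeroDivisors ℤ)) L).strictMono h'
  let l' := l.map (PrimeSpectrum.comap (algebraMap A L)) hmono
  have hP : l'.last = PrimeSpectrum.comap (algebraMap A L) l.last := LTSeries.last_map _ _ _
  have hnotmem : ∀ n : ℤ, n ≠ 0 → (n : A) ∉ l'.last.asIdeal := by
    intro n hn hmem
    rw [hP] at hmem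
    have h1 : (n : L) ∈ l.last.asIdeal := by
      have : algebraMap A L (n : A) ∈ l.last.asIdeal := hmem
      simpa using this
    exact l.last.isPrime.ne_top
      (Ideal.eq_top_of_isUnit_mem _ h1 (isUnit_intCast_of_ne_zero A L hn))
  have hnotmax : ¬ l'.last.asIdeal.IsMaximal := by
    intro hmax
    letI := Ideal.Quotient.field l'.last.asIdeal
    haveI : Algebra.FiniteType ℤ (A ⧸ l'.last.asIdeal) :=
      Algebra.FiniteType.of_surjective (Ideal.Quotient.mkₐ ℤ _) (Ideal.Quotient.mkₐ_surjective ℤ _)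
    haveI := finite_of_finite_type_of_isJacobsonRing ℤ (A ⧸ l'.last.asIdeal)
    haveI : Algebra.IsIntegral ℤ (A ⧸ l'.last.asIdeal) := Algebra.IsIntegral.of_finite ℤ _
    have hinj : Function.Injective (algebraMap ℤ (A ⧸ l'.last.asIdeal)) := by
      rw [injective_iff_map_eq_zero]
      intro n hn
      by_contra hne
      apply hnotmem n hne
      rw [← Ideal.Quotient.eq_zero_iff_mem]
      simpa using hn
    exact Int.not_isField (isField_of_isIntegral_of_isField hinj (Field.toIsField _))
  obtain ⟨𝔪, hmax, hle⟩ := Ideal.exists_le_maximal l'.last.asIdeal l'.last.isPrime.ne_top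
  have hlt : l'.last < ⟨𝔪, hmax.isPrime⟩ := by
    refine lt_of_le_of_ne hle ?_
    intro h
    apply hnotmax
    rw [h]
    exact hmax
  have := Order.LTSeries.length_le_krullDim (l'.snoc ⟨𝔪, hmax.isPrime⟩ hlt)
  rw [ringKrullDim]
  simpa [l'] using this

end dimension

section integral

attribute [local instance] MvPolynomial.algebraMvPolynomial in
/-- Clearing denominators in an integrality relation over `ℚ[y]`. -/
theorem exists_int_multiple_integral {L : Type*} [CommRing L] {s : ℕ}
    (g : MvPolynomial (Fin s) ℚ →+* L) (x : L) (hx : g.IsIntegralElem x) :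
    ∃ n : ℤ, n ≠ 0 ∧
      (g.comp (MvPolynomial.map (algebraMap ℤ ℚ))).IsIntegralElem ((n : L) * x) := by
  letI : Algebra (MvPolynomial (Fin s) ℚ) L := g.toAlgebra
  letI : Algebra (MvPolynomial (Fin s) ℤ) L :=
    (g.comp (MvPolynomial.map (algebraMap ℤ ℚ))).toAlgebra
  haveI : IsScalarTower (MvPolynomial (Fin s) ℤ) (MvPolynomial (Fin s) ℚ) L :=
    IsScalarTower.of_algebraMap_eq (fun q => rfl)
  haveI : IsLocalization ((nonZeroDivisors ℤ).map (MvPolynomial.C (σ := Fin s)))
    (MvPolynomial (Fin s) ℚ) := MvPolynomial.isLocalization (nonZeroDivisors ℤ) ℚ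
  have hx' : IsIntegral (MvPolynomial (Fin s) ℚ) x := hx
  obtain ⟨m, hm⟩ := IsIntegral.exists_multiple_integral_of_isLocalization
    ((nonZeroDivisors ℤ).map (MvPolynomial.C (σ := Fin s))) x hx'
  obtain ⟨n, hn, hnm⟩ := m.2
  refine ⟨n, nonZeroDivisors.ne_zero hn, ?_⟩
  have : m • x = (n : L) * x := by
    rw [Submonoid.smul_def, Algebra.smul_def, ← hnm]
    show (g.comp (MvPolynomial.map (algebraMap ℤ ℚ))) (MvPolynomial.C n) * x = _
    simp
  rw [this] at hm
  exact hm

end integral

section main

/-- Generic bound, abstract form: `L` is any model of `A ⊗ ℚ`. -/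
theorem exists_bound_generic_aux (A : Type u) [CommRing A] [Algebra.FiniteType ℤ A] (r : ℕ)
    (hr : ringKrullDim A ≤ r) (L : Type u) [CommRing L] [Algebra ℚ L] [Algebra A L]
    [IsLocalization (Algebra.algebraMapSubmonoid A (nonZeroDivisors ℤ)) L]
    [Algebra.FiniteType ℚ L] :
    ∃ (D : ℕ) (N : ℤ), N ≠ 0 ∧ ∀ (F : Type v) [Field F] [Finite F], (N : F) ≠ 0 →
      Nat.card (A →+* F) * Nat.card F ≤ D * Nat.card F ^ r := by
  classical
  obtain ⟨S, hS⟩ := (Algebra.FiniteType.out : (⊤ : Subalgebra ℤ A).FG)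
  rcases subsingleton_or_nontrivial L with hsub | hnt
  · -- trivial generic fibre
    have h0 : algebraMap A L 1 = 0 := Subsingleton.elim _ _
    obtain ⟨n, hn, hn1⟩ := exists_int_mul_eq_zero L (1 : A) h0
    rw [mul_one] at hn1
    refine ⟨0, n, hn, fun F _ _ hnF => ?_⟩
    have : IsEmpty (A →+* F) :=
      ⟨fun φ => hnF (by have := congrArg φ hn1; simpa using this)⟩
    simp
  · obtain ⟨s, g, hinj, hint⟩ := exists_integral_inj_algHom_of_fg ℚ L
    -- dimension
    have hdimL : ringKrullDim L = s := by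
      letI := g.toRingHom.toAlgebra
      haveI : Algebra.IsIntegral (MvPolynomial (Fin s) ℚ) L := ⟨hint⟩
      have h1 := Groth.Agent.Lib.Helper5.ringKrullDim_eq_of_isIntegral_of_injective
        (MvPolynomial (Fin s) ℚ) L hinj
      rw [MvPolynomial.ringKrullDim_of_isNoetherianRing, ringKrullDim_eq_zero_of_field] at h1
      simpa using h1
    have hs : s + 1 ≤ r := by
      obtain ⟨l, hl⟩ := (Order.le_krullDim_iff (α := PrimeSpectrum L) (n := s)).mp hdimL.ge
      have := (length_add_one_le_ringKrullDim (A := A) l).trans hr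
      rw [hl] at this
      exact_mod_cast this
    -- denominators of the parameters
    choose n hn0 a ha using fun j : Fin s => exists_int_mul_eq A (g (MvPolynomial.X j))
    let σ : MvPolynomial (Fin s) ℚ →ₐ[ℚ] MvPolynomial (Fin s) ℚ :=
      MvPolynomial.aeval (fun j => MvPolynomial.C (n j : ℚ) * MvPolynomial.X j)
    let τ : MvPolynomial (Fin s) ℚ →ₐ[ℚ] MvPolynomial (Fin s) ℚ :=
      MvPolynomial.aeval (fun j => MvPolynomial.C ((n j : ℚ)⁻¹) * MvPolynomial.X j)
    have hστ : σ.comp τ = AlgHom.id ℚ _ := by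
      apply MvPolynomial.algHom_ext
      intro j
      have hnj : (n j : ℚ) ≠ 0 := Int.cast_ne_zero.mpr (hn0 j)
      simp only [σ, τ, AlgHom.comp_apply, MvPolynomial.aeval_X, map_mul, MvPolynomial.aeval_C,
        AlgHom.id_apply, MvPolynomial.algebraMap_eq]
      rw [← mul_assoc, ← MvPolynomial.C_mul, inv_mul_cancel₀ hnj, MvPolynomial.C_1, one_mul]
    have hσsurj : Function.Surjective σ := fun q =>
      ⟨τ q, by rw [← AlgHom.comp_apply, hστ]; rfl⟩
    set g₁ : MvPolynomial (Fin s) ℚ →+* L := g.toRingHom.comp σ.toRingHom with hg₁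
    have hg₁int : g₁.IsIntegral :=
      RingHom.IsIntegral.trans _ _ (RingHom.isIntegral_of_surjective _ hσsurj) hint
    have hg₁X : ∀ j, g₁ (MvPolynomial.X j) = algebraMap A L (a j) := by
      intro j
      rw [← ha j]
      simp [hg₁, σ]
    set hA : MvPolynomial (Fin s) ℤ →+* A := MvPolynomial.eval₂Hom (Int.castRingHom A) a with hhA
    have hcomp : g₁.comp (MvPolynomial.map (algebraMap ℤ ℚ)) = (algebraMap A L).comp hA := by
      apply MvPolynomial.ringHom_ext
      · intro k
        simp [hhA, hg₁, σ]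
      · intro j
        simp [hhA, hg₁X]
    -- integrality data for each generator
    have hdata : ∀ i : S, ∃ (m : ℤ) (P : Polynomial (MvPolynomial (Fin s) ℤ)) (k : ℤ),
        m ≠ 0 ∧ k ≠ 0 ∧ P.Monic ∧
        (k : A) * Polynomial.eval₂ hA (m • (i : A)) P = 0 := by
      intro i
      obtain ⟨m, hm0, hm⟩ := exists_int_multiple_integral g₁ (algebraMap A L i) (hg₁int _)
      rw [hcomp] at hm
      obtain ⟨P, hPm, hP0⟩ := hm
      have hxx : (m : L) * algebraMap A L (i : A) = algebraMap A L (m • (i : A)) := by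
        simp
      rw [hxx, ← Polynomial.hom_eval₂] at hP0
      obtain ⟨k, hk0, hk⟩ := exists_int_mul_eq_zero L _ hP0
      exact ⟨m, P, k, hm0, hk0, hPm, hk⟩
    choose m P k hm0 hk0 hPm hk using hdata
    refine ⟨∏ i, (P i).natDegree, (∏ i, m i) * ∏ i, k i, ?_, fun F _ _ hNF => ?_⟩
    · exact mul_ne_zero (Finset.prod_ne_zero_iff.mpr fun i _ => hm0 i)
        (Finset.prod_ne_zero_iff.mpr fun i _ => hk0 i)
    · have hmF : ∀ i, (m i : F) ≠ 0 := by
        intro i h
        apply hNF
        push_cast
        rw [Finset.prod_eq_zero (Finset.mem_univ i) h, zero_mul]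
      have hkF : ∀ i, (k i : F) ≠ 0 := by
        intro i h
        apply hNF
        push_cast
        rw [Finset.prod_eq_zero (s := Finset.univ) (f := fun i => (k i : F)) (Finset.mem_univ i) h,
          mul_zero]
      have key := card_ringHom_le (fun i : S => m i • (i : A)) a P hPm F ?_ ?_
      · calc Nat.card (A →+* F) * Nat.card F
            ≤ ((∏ i, (P i).natDegree) * Nat.card F ^ s) * Nat.card F :=
              Nat.mul_le_mul_right _ key
          _ = (∏ i, (P i).natDegree) * Nat.card F ^ (s + 1) := by ring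
          _ ≤ (∏ i, (P i).natDegree) * Nat.card F ^ r :=
              Nat.mul_le_mul_left _ (Nat.pow_le_pow_right Nat.card_pos hs)
      · intro φ φ' hφ
        refine ringHom_ext_of_adjoin hS φ φ' fun x hx => ?_
        have := hφ ⟨x, hx⟩
        simp only [zsmul_eq_mul, map_mul, map_intCast] at this
        exact mul_left_cancel₀ (hmF ⟨x, hx⟩) this
      · intro φ i
        have := congrArg φ (hk i)
        rw [map_mul, map_intCast, map_zero] at this
        exact (mul_eq_zero.mp this).resolve_left (hkF i)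

end main

section instantiate

open TensorProduct

attribute [local instance] Algebra.TensorProduct.rightAlgebra in
/-- **Generic bound**: for a finitely generated ring `A` of dimension `≤ r` there are `D` and a
nonzero integer `N` such that `#Hom(A, F) * #F ≤ D * #F ^ r` for all finite fields `F` in which
`N ≠ 0`. -/
theorem exists_bound_generic (A : Type u) [CommRing A] [Algebra.FiniteType ℤ A] (r : ℕ)
    (hr : ringKrullDim A ≤ r) :
    ∃ (D : ℕ) (N : ℤ), N ≠ 0 ∧ ∀ (F : Type v) [Field F] [Finite F], (N : F) ≠ 0 →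
      Nat.card (A →+* F) * Nat.card F ≤ D * Nat.card F ^ r := by
  haveI : IsLocalization (Algebra.algebraMapSubmonoid A (nonZeroDivisors ℤ)) (ℚ ⊗[ℤ] A) :=
    IsLocalization.tensorRight ℚ (nonZeroDivisors ℤ)
  exact exists_bound_generic_aux A r hr (ℚ ⊗[ℤ] A)

end instantiate

section combined

/-- Finiteness of the set of ring homomorphisms from a finitely generated ring to a finite ring. -/
theorem finite_ringHom (A : Type u) [CommRing A] [Algebra.FiniteType ℤ A]
    (F : Type v) [CommRing F] [Finite F] : Finite (A →+* F) := by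
  obtain ⟨S, hS⟩ := (Algebra.FiniteType.out : (⊤ : Subalgebra ℤ A).FG)
  refine Finite.of_injective (fun (φ : A →+* F) (i : S) => φ i) ?_
  intro φ φ' h
  exact ringHom_ext_of_adjoin hS φ φ' fun x hx => congrFun h ⟨x, hx⟩

/-- **Point count bound for finitely generated rings.**  For a finitely generated ring `A` of
dimension `≤ r` there are `D` and `p₀` such that for every finite field `F` of characteristic `p`:
`#Hom(A, F) * #F ≤ D * #F ^ r` if `p ≥ p₀`, and `#Hom(A, F) ≤ D * #F ^ r` if `p < p₀`. -/
theorem exists_bound (A : Type u) [CommRing A] [Algebra.FiniteType ℤ A] (r : ℕ)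
    (hr : ringKrullDim A ≤ r) :
    ∃ (D p₀ : ℕ), ∀ (p : ℕ), p.Prime → ∀ (F : Type v) [Field F] [Finite F], (p : F) = 0 →
      (p₀ ≤ p → Nat.card (A →+* F) * Nat.card F ≤ D * Nat.card F ^ r) ∧
      (p < p₀ → Nat.card (A →+* F) ≤ D * Nat.card F ^ r) := by
  classical
  obtain ⟨D₀, N, hN, hgen⟩ := exists_bound_generic.{u, v} A r hr
  have hp : ∀ p : ℕ, ∃ D : ℕ, p.Prime → ∀ (F : Type v) [Field F] [Finite F], (p : F) = 0 →
      Nat.card (A →+* F) ≤ D * Nat.card F ^ r := by
    intro p
    by_cases hpp : p.Prime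
    · obtain ⟨D, hD⟩ := exists_bound_char_p.{u, v} A r hr p hpp
      exact ⟨D, fun _ => hD⟩
    · exact ⟨0, fun h => absurd h hpp⟩
  choose D' hD' using hp
  refine ⟨D₀ + ∑ p ∈ Finset.range (N.natAbs + 1), D' p, N.natAbs + 1,
    fun p hpp F _ _ hpF => ⟨fun hle => ?_, fun hlt => ?_⟩⟩
  · have hNF : (N : F) ≠ 0 := by
      haveI : CharP F p := (CharP.charP_iff_prime_eq_zero hpp).mpr hpF
      rw [Ne, CharP.intCast_eq_zero_iff F p N]
      intro hdvd
      have h1 : p ∣ N.natAbs := Int.natCast_dvd.mp hdvd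
      have h2 : p ≤ N.natAbs := Nat.le_of_dvd (Int.natAbs_pos.mpr hN) h1
      omega
    refine (hgen F hNF).trans (Nat.mul_le_mul_right _ (Nat.le_add_right _ _))
  · refine (hD' p hpp F hpF).trans (Nat.mul_le_mul_right _ ?_)
    refine le_add_left ?_
    exact Finset.single_le_sum (f := D') (fun _ _ => Nat.zero_le _) (Finset.mem_range.mpr hlt)

end combined

end Groth.Agent.R2.H88.PtCount
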