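import Groth.Agent.R2.H88Coact
import Groth.Agent.Lib.Helper4TensorDim

/-!
# Krull dimension of Segre products (towards S18647)
-/

set_option autoImplicit false
set_option linter.style.haveILetI false

open LaurentPolynomial TensorProduct

namespace Groth.Agent.R2.H88.Segre

open Groth.Agent.R2.H88.Coact

section GradedLift

variable {k : Type*} [CommRing k] {R : Type*} [CommRing R] [Algebra k R]
  (𝒜 : ℤ → Submodule k R) [GradedAlgebra 𝒜]
  {L : Type*} [CommRing L] [Algebra k L]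

/-- The algebra map `R → L` sending a homogeneous `a` of degree `n` to `j a * t n`. -/
noncomputable def gradedLift (j : R →ₐ[k] L) (t : ℤ → L) (h0 : t 0 = 1)
    (hadd : ∀ m n, t (m + n) = t m * t n) : R →ₐ[k] L :=
  (DirectSum.toAlgebra k (fun i => 𝒜 i)
    (fun i => (LinearMap.mulRight k (t i)).comp (j.toLinearMap.comp (𝒜 i).subtype))
    (by
      change j ((1 : R)) * t 0 = 1
      rw [map_one, h0, one_mul])
    (by
      intro m n am an
      change j ((am : R) * (an : R)) * t (m + n) = (j am * t m) * (j an * t n)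
      rw [map_mul, hadd]; ring)).comp (DirectSum.decomposeAlgEquiv 𝒜).toAlgHom

theorem gradedLift_of_mem (j : R →ₐ[k] L) (t : ℤ → L) (h0 : t 0 = 1)
    (hadd : ∀ m n, t (m + n) = t m * t n) {a : R} {n : ℤ} (ha : a ∈ 𝒜 n) :
    gradedLift 𝒜 j t h0 hadd a = j a * t n := by
  unfold gradedLift
  rw [AlgHom.comp_apply]
  have h1 : (DirectSum.decomposeAlgEquiv 𝒜).toAlgHom a =
      DirectSum.of (fun i => 𝒜 i) n ⟨a, ha⟩ := by
    change DirectSum.decompose 𝒜 a = _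
    exact DirectSum.decompose_of_mem 𝒜 ha
  rw [h1, DirectSum.toAlgebra_apply]
  refine (DirectSum.toSemiring_of (A := fun i => 𝒜 i) _ _ _ n (⟨a, ha⟩ : 𝒜 n)).trans ?_
  rfl

end GradedLift

section RhoU

variable {k : Type*} [CommRing k] {R S : Type*} [CommRing R] [CommRing S] [Algebra k R]
  [Algebra k S] (𝒜 : ℤ → Submodule k R) [GradedAlgebra 𝒜] (ℬ : ℤ → Submodule k S)
  [GradedAlgebra ℬ]

/-- `C` as a `k`-algebra map. -/
noncomputable def CAlg (k : Type*) [CommRing k] (A : Type*) [CommRing A] [Algebra k A] :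
    A →ₐ[k] A[T;T⁻¹] :=
  AddMonoidAlgebra.singleZeroAlgHom

theorem CAlg_apply (A : Type*) [CommRing A] [Algebra k A] (x : A) : CAlg k A x = C x := rfl

/-- The coaction on `R ⊗ S` for the difference grading. -/
noncomputable def rhoU : R ⊗[k] S →ₐ[k] (R ⊗[k] S)[T;T⁻¹] :=
  Algebra.TensorProduct.productMap
    (gradedLift 𝒜 ((CAlg k (R ⊗[k] S)).comp Algebra.TensorProduct.includeLeft)
      (fun n => T n) T_zero T_add)
    (gradedLift ℬ ((CAlg k (R ⊗[k] S)).comp Algebra.TensorProduct.includeRight)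
      (fun n => T (-n)) (by simp) (fun m n => by rw [neg_add, T_add]))

theorem rhoU_tmul {a : R} {b : S} {n m : ℤ} (ha : a ∈ 𝒜 n) (hb : b ∈ ℬ m) :
    rhoU 𝒜 ℬ (a ⊗ₜ b) = C (a ⊗ₜ[k] b) * T (n - m) := by
  rw [rhoU, Algebra.TensorProduct.productMap_apply_tmul, gradedLift_of_mem 𝒜 _ _ _ _ ha,
    gradedLift_of_mem ℬ _ _ _ _ hb]
  simp only [AlgHom.comp_apply, CAlg_apply, Algebra.TensorProduct.includeLeft_apply,
    Algebra.TensorProduct.includeRight_apply]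
  have : (a ⊗ₜ[k] b : R ⊗[k] S) = (a ⊗ₜ[k] (1 : S)) * ((1 : R) ⊗ₜ[k] b) := by
    rw [Algebra.TensorProduct.tmul_mul_tmul, mul_one, one_mul]
  rw [this, map_mul, sub_eq_add_neg, T_add]
  ring

theorem isHomog_tmul {a : R} {b : S} {n m : ℤ} (ha : a ∈ 𝒜 n) (hb : b ∈ ℬ m) :
    IsHomog (rhoU 𝒜 ℬ).toRingHom (a ⊗ₜ[k] b) (n - m) :=
  rhoU_tmul 𝒜 ℬ ha hb

/-- Every element of `R ⊗ S` is a sum of tensors of homogeneous elements. -/
theorem mem_closure_homog_tmul (u : R ⊗[k] S) :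
    u ∈ AddSubmonoid.closure
      {x : R ⊗[k] S | ∃ (n m : ℤ) (a : R) (b : S), a ∈ 𝒜 n ∧ b ∈ ℬ m ∧ x = a ⊗ₜ[k] b} := by
  set H := AddSubmonoid.closure
      {x : R ⊗[k] S | ∃ (n m : ℤ) (a : R) (b : S), a ∈ 𝒜 n ∧ b ∈ ℬ m ∧ x = a ⊗ₜ[k] b} with hH
  induction u using TensorProduct.induction_on with
  | zero => exact H.zero_mem
  | add x y hx hy => exact H.add_mem hx hy
  | tmul a b =>
    induction a using DirectSum.Decomposition.inductionOn 𝒜 with
    | zero => rw [zero_tmul]; exact H.zero_mem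
    | add a a' ha ha' => rw [add_tmul]; exact H.add_mem ha ha'
    | homogeneous a =>
      rename_i n
      induction b using DirectSum.Decomposition.inductionOn ℬ with
      | zero => rw [tmul_zero]; exact H.zero_mem
      | add b b' hb hb' => rw [tmul_add]; exact H.add_mem hb hb'
      | homogeneous b =>
        rename_i m
        exact AddSubmonoid.subset_closure ⟨n, m, a, b, a.2, b.2, rfl⟩

theorem spans_rhoU : Spans (rhoU 𝒜 ℬ).toRingHom := by
  intro u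
  refine AddSubmonoid.closure_mono ?_ (mem_closure_homog_tmul 𝒜 ℬ u)
  rintro x ⟨n, m, a, b, ha, hb, rfl⟩
  exact ⟨n - m, isHomog_tmul 𝒜 ℬ ha hb⟩

end RhoU

section DegZero

variable {k : Type*} [Field k] {R S : Type*} [CommRing R] [CommRing S] [Algebra k R]
  [Algebra k S] (𝒜 : ℤ → Submodule k R) [GradedAlgebra 𝒜] (ℬ : ℤ → Submodule k S)
  [GradedAlgebra ℬ]

/-- The coaction as a ring hom. -/
noncomputable abbrev rho : R ⊗[k] S →+* (R ⊗[k] S)[T;T⁻¹] := (rhoU 𝒜 ℬ).toRingHom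

theorem rho_algebraMap (c : k) :
    rho 𝒜 ℬ (algebraMap k (R ⊗[k] S) c) = C (algebraMap k (R ⊗[k] S) c) :=
  (rhoU 𝒜 ℬ).commutes c

theorem algebraMap_mem_deg0 (c : k) : algebraMap k (R ⊗[k] S) c ∈ deg0 (rho 𝒜 ℬ) :=
  rho_algebraMap 𝒜 ℬ c

theorem tmul_mem_deg0 {a : R} {b : S} {n : ℤ} (ha : a ∈ 𝒜 n) (hb : b ∈ ℬ n) :
    a ⊗ₜ[k] b ∈ deg0 (rho 𝒜 ℬ) := by
  have := isHomog_tmul 𝒜 ℬ ha hb
  rw [sub_self] at this
  exact isHomog_zero_iff.mp this

/-- The span of tensors of homogeneous elements of equal degrees. -/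
def Dsub : Submodule k (R ⊗[k] S) :=
  ⨆ n : ℤ, Submodule.span k {x | ∃ a ∈ 𝒜 n, ∃ b ∈ ℬ n, x = a ⊗ₜ[k] b}

theorem smul_mem_deg0 (c : k) {x : R ⊗[k] S} (hx : x ∈ deg0 (rho 𝒜 ℬ)) :
    c • x ∈ deg0 (rho 𝒜 ℬ) := by
  rw [Algebra.smul_def]
  exact (deg0 (rho 𝒜 ℬ)).mul_mem (algebraMap_mem_deg0 𝒜 ℬ c) hx

theorem Dsub_le_deg0 {x : R ⊗[k] S} (hx : x ∈ Dsub 𝒜 ℬ) : x ∈ deg0 (rho 𝒜 ℬ) := by
  unfold Dsub at hx
  induction hx using Submodule.iSup_induction' with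
  | mem n x hx =>
    induction hx using Submodule.span_induction with
    | mem x hx =>
      obtain ⟨a, ha, b, hb, rfl⟩ := hx
      exact tmul_mem_deg0 𝒜 ℬ ha hb
    | zero => exact (deg0 (rho 𝒜 ℬ)).zero_mem
    | add x y _ _ hx hy => exact (deg0 (rho 𝒜 ℬ)).add_mem hx hy
    | smul c x _ hx => exact smul_mem_deg0 𝒜 ℬ c hx
  | zero => exact (deg0 (rho 𝒜 ℬ)).zero_mem
  | add x y _ _ hx hy => exact (deg0 (rho 𝒜 ℬ)).add_mem hx hy

theorem proj0_mem_Dsub (u : R ⊗[k] S) : proj0 (rho 𝒜 ℬ) u ∈ Dsub 𝒜 ℬ := by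
  induction mem_closure_homog_tmul 𝒜 ℬ u using AddSubmonoid.closure_induction with
  | mem x hx =>
    obtain ⟨n, m, a, b, ha, hb, rfl⟩ := hx
    rw [proj0_of_isHomog (isHomog_tmul 𝒜 ℬ ha hb)]
    split_ifs with h
    · have hnm : n = m := by omega
      subst hnm
      exact Submodule.mem_iSup_of_mem n (Submodule.subset_span ⟨a, ha, b, hb, rfl⟩)
    · exact (Dsub 𝒜 ℬ).zero_mem
  | zero => rw [map_zero]; exact (Dsub 𝒜 ℬ).zero_mem
  | add x y _ _ hx hy => rw [map_add]; exact (Dsub 𝒜 ℬ).add_mem hx hy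

theorem mem_deg0_iff {x : R ⊗[k] S} : x ∈ deg0 (rho 𝒜 ℬ) ↔ x ∈ Dsub 𝒜 ℬ := by
  refine ⟨fun hx => ?_, Dsub_le_deg0 𝒜 ℬ⟩
  rw [← proj0_of_mem hx]
  exact proj0_mem_Dsub 𝒜 ℬ x

end DegZero

section Maximality

variable {k : Type*} [Field k] {R S : Type*} [CommRing R] [CommRing S] [Algebra k R]
  [Algebra k S] (𝒜 : ℤ → Submodule k R) [GradedAlgebra 𝒜] (ℬ : ℤ → Submodule k S)
  [GradedAlgebra ℬ]

/-- A prime of a connected nonnegatively graded `k`-algebra containing all homogeneous elements of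
positive degree is maximal. -/
theorem isMaximal_of_forall_homog_mem (hpos : ∀ n : ℤ, n < 0 → 𝒜 n = ⊥)
    (h0 : 𝒜 0 = Submodule.span k {(1 : R)}) (q : Ideal R) [hq : q.IsPrime]
    (h : ∀ (n : ℤ) (a : R), 0 < n → a ∈ 𝒜 n → a ∈ q) : q.IsMaximal := by
  have key : ∀ x : R, ∃ c : k, x - algebraMap k R c ∈ q := by
    intro x
    induction x using DirectSum.Decomposition.inductionOn 𝒜 with
    | zero => exact ⟨0, by simp⟩
    | add x y hx hy =>
      obtain ⟨c, hc⟩ := hx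
      obtain ⟨d, hd⟩ := hy
      refine ⟨c + d, ?_⟩
      have : x + y - algebraMap k R (c + d) = (x - algebraMap k R c) + (y - algebraMap k R d) := by
        rw [map_add]; ring
      rw [this]
      exact q.add_mem hc hd
    | homogeneous a =>
      rename_i n
      have ha : (a : R) ∈ 𝒜 n := a.2
      generalize (a : R) = a' at ha ⊢
      rcases lt_trichotomy n 0 with hn | hn | hn
      · have : a' = 0 := by
          rw [hpos n hn] at ha
          exact (Submodule.mem_bot k).mp ha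
        exact ⟨0, by rw [this]; simp⟩
      · subst hn
        rw [h0, Submodule.mem_span_singleton] at ha
        obtain ⟨c, hc⟩ := ha
        refine ⟨c, ?_⟩
        rw [← hc, Algebra.algebraMap_eq_smul_one, sub_self]
        exact q.zero_mem
      · exact ⟨0, by simpa using h n a' hn ha⟩
  rw [Ideal.isMaximal_iff]
  refine ⟨fun h1 => hq.ne_top ((Ideal.eq_top_iff_one q).mpr h1), fun J x hqJ hxq hxJ => ?_⟩
  obtain ⟨c, hc⟩ := key x
  have hc0 : c ≠ 0 := by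
    rintro rfl
    rw [map_zero, sub_zero] at hc
    exact hxq hc
  have h1 : algebraMap k R c ∈ J := by
    have : algebraMap k R c = x - (x - algebraMap k R c) := by ring
    rw [this]
    exact J.sub_mem hxJ (hqJ hc)
  have : (1 : R) = algebraMap k R c⁻¹ * algebraMap k R c := by
    rw [← map_mul, inv_mul_cancel₀ hc0, map_one]
  rw [this]
  exact J.mul_mem_left _ h1

/-- A prime of the degree-zero part of `R ⊗ S` containing all `a ⊗ b` with `a`, `b` homogeneous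
of the same positive degree is maximal. -/
theorem isMaximal_of_forall_tmul_mem (hposR : ∀ n : ℤ, n < 0 → 𝒜 n = ⊥)
    (h0R : 𝒜 0 = Submodule.span k {(1 : R)}) (h0S : ℬ 0 = Submodule.span k {(1 : S)})
    (Q : Ideal (deg0 (rho 𝒜 ℬ))) [hQ : Q.IsPrime]
    (h : ∀ (n : ℤ) (a : R) (b : S) (_ : 0 < n) (ha : a ∈ 𝒜 n) (hb : b ∈ ℬ n),
      (⟨a ⊗ₜ[k] b, tmul_mem_deg0 𝒜 ℬ ha hb⟩ : deg0 (rho 𝒜 ℬ)) ∈ Q) : Q.IsMaximal := by
  let P : R ⊗[k] S → Prop := fun x => ∃ c : k, ∃ q ∈ Q, x = algebraMap k (R ⊗[k] S) c + (q : R ⊗[k] S)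
  have P_zero : P 0 := ⟨0, 0, Q.zero_mem, by simp⟩
  have P_add : ∀ x y, P x → P y → P (x + y) := by
    rintro x y ⟨c, q, hq, rfl⟩ ⟨d, q', hq', rfl⟩
    refine ⟨c + d, q + q', Q.add_mem hq hq', ?_⟩
    rw [map_add, Subring.coe_add]; ring
  have P_smul : ∀ (t : k) x, P x → P (t • x) := by
    rintro t x ⟨c, q, hq, rfl⟩
    refine ⟨t * c, ⟨algebraMap k (R ⊗[k] S) t, algebraMap_mem_deg0 𝒜 ℬ t⟩ * q,
      Q.mul_mem_left _ hq, ?_⟩
    rw [smul_add, Subring.coe_mul, map_mul, Algebra.smul_def, Algebra.smul_def]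
  have key : ∀ x ∈ Dsub 𝒜 ℬ, P x := by
    intro x hx
    unfold Dsub at hx
    induction hx using Submodule.iSup_induction' with
    | mem n x hx =>
      induction hx using Submodule.span_induction with
      | mem x hx =>
        obtain ⟨a, ha, b, hb, rfl⟩ := hx
        rcases lt_trichotomy n 0 with hn | hn | hn
        · have : a = 0 := by
            rw [hposR n hn] at ha
            exact (Submodule.mem_bot k).mp ha
          rw [this, zero_tmul]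
          exact P_zero
        · subst hn
          rw [h0R, Submodule.mem_span_singleton] at ha
          rw [h0S, Submodule.mem_span_singleton] at hb
          obtain ⟨c, rfl⟩ := ha
          obtain ⟨d, rfl⟩ := hb
          refine ⟨c * d, 0, Q.zero_mem, ?_⟩
          rw [Subring.coe_zero, add_zero, TensorProduct.smul_tmul_smul,
            Algebra.algebraMap_eq_smul_one, Algebra.TensorProduct.one_def]
        · exact ⟨0, ⟨a ⊗ₜ[k] b, tmul_mem_deg0 𝒜 ℬ ha hb⟩, h n a b hn ha hb, by simp⟩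
      | zero => exact P_zero
      | add x y _ _ hx hy => exact P_add x y hx hy
      | smul c x _ hx => exact P_smul c x hx
    | zero => exact P_zero
    | add x y _ _ hx hy => exact P_add x y hx hy
  rw [Ideal.isMaximal_iff]
  refine ⟨fun h1 => hQ.ne_top ((Ideal.eq_top_iff_one Q).mpr h1), fun J x hQJ hxQ hxJ => ?_⟩
  obtain ⟨c, q, hq, hxc⟩ := key x ((mem_deg0_iff 𝒜 ℬ).mp x.2)
  have hc0 : c ≠ 0 := by
    rintro rfl
    rw [map_zero, zero_add] at hxc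
    exact hxQ (by rwa [Subtype.ext hxc])
  have h1 : (⟨algebraMap k (R ⊗[k] S) c, algebraMap_mem_deg0 𝒜 ℬ c⟩ : deg0 (rho 𝒜 ℬ)) ∈ J := by
    have : (⟨algebraMap k (R ⊗[k] S) c, algebraMap_mem_deg0 𝒜 ℬ c⟩ : deg0 (rho 𝒜 ℬ)) = x - q := by
      apply Subtype.ext
      rw [AddSubgroupClass.coe_sub, hxc]; simp
    rw [this]
    exact J.sub_mem hxJ (hQJ hq)
  have : (1 : deg0 (rho 𝒜 ℬ)) = ⟨algebraMap k (R ⊗[k] S) c⁻¹, algebraMap_mem_deg0 𝒜 ℬ c⁻¹⟩ *
      ⟨algebraMap k (R ⊗[k] S) c, algebraMap_mem_deg0 𝒜 ℬ c⟩ := by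
    apply Subtype.ext
    rw [Subring.coe_mul, Subring.coe_one]
    change (1 : R ⊗[k] S) = algebraMap k (R ⊗[k] S) c⁻¹ * algebraMap k (R ⊗[k] S) c
    rw [← map_mul, inv_mul_cancel₀ hc0, map_one]
  rw [this]
  exact J.mul_mem_left _ h1

end Maximality

section Iso

variable {k : Type*} [Field k] {R S : Type*} [CommRing R] [CommRing S] [Algebra k R]
  [Algebra k S] (𝒜 : ℤ → Submodule k R) [GradedAlgebra 𝒜] (ℬ : ℤ → Submodule k S)
  [GradedAlgebra ℬ] {T : Type*} [CommRing T] [Algebra k T] (𝒯 : ℤ → Submodule k T)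
  [GradedAlgebra 𝒯] (ψ : T →ₐ[k] R ⊗[k] S)
  (hdegT : ∀ n : ℤ, (𝒯 n).map ψ.toLinearMap =
    Submodule.span k {x : R ⊗[k] S | ∃ a ∈ 𝒜 n, ∃ b ∈ ℬ n, x = a ⊗ₜ[k] b})

include hdegT in
theorem psi_mem_deg0 (t : T) : ψ t ∈ deg0 (rho 𝒜 ℬ) := by
  induction t using DirectSum.Decomposition.inductionOn 𝒯 with
  | zero => rw [map_zero]; exact (deg0 (rho 𝒜 ℬ)).zero_mem
  | add x y hx hy => rw [map_add]; exact (deg0 (rho 𝒜 ℬ)).add_mem hx hy
  | homogeneous t =>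
    rename_i n
    apply Dsub_le_deg0
    have : ψ (t : T) ∈ (𝒯 n).map ψ.toLinearMap := ⟨t, t.2, rfl⟩
    rw [hdegT n] at this
    exact Submodule.mem_iSup_of_mem n this

omit [GradedAlgebra 𝒯] in
include hdegT in
theorem exists_psi_eq {x : R ⊗[k] S} (hx : x ∈ deg0 (rho 𝒜 ℬ)) : ∃ t, ψ t = x := by
  have hx' := (mem_deg0_iff 𝒜 ℬ).mp hx
  have hle : Dsub 𝒜 ℬ ≤ LinearMap.range ψ.toLinearMap := by
    unfold Dsub
    apply iSup_le
    intro n
    rw [← hdegT n]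
    exact LinearMap.map_le_range
  exact hle hx'

include hdegT in
theorem ringKrullDim_eq_deg0 (hψ : Function.Injective ψ) :
    ringKrullDim T = ringKrullDim (deg0 (rho 𝒜 ℬ)) := by
  let f : T →+* deg0 (rho 𝒜 ℬ) :=
    (ψ : T →+* R ⊗[k] S).codRestrict (deg0 (rho 𝒜 ℬ)) (psi_mem_deg0 𝒜 ℬ 𝒯 ψ hdegT)
  have hf : Function.Bijective f := by
    constructor
    · intro x y hxy
      apply hψ
      exact congrArg Subtype.val hxy
    · intro x
      obtain ⟨t, ht⟩ := exists_psi_eq 𝒜 ℬ 𝒯 ψ hdegT x.2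
      exact ⟨t, Subtype.ext ht⟩
  exact ringKrullDim_eq_of_ringEquiv (RingEquiv.ofBijective f hf)

end Iso

section Loc

universe u

variable {k : Type u} [Field k] {R S : Type u} [CommRing R] [CommRing S] [Algebra k R]
  [Algebra k S] (𝒜 : ℤ → Submodule k R) [GradedAlgebra 𝒜] (ℬ : ℤ → Submodule k S)
  [GradedAlgebra ℬ]

variable {a : R} {b : S} {d : ℤ} (ha : a ∈ 𝒜 d) (hb : b ∈ ℬ d)

/-- The coaction on the localization of `R ⊗ S` at `a ⊗ b`. -/
noncomputable abbrev rhoV : Localization.Away (a ⊗ₜ[k] b) →+* (Localization.Away (a ⊗ₜ[k] b))[T;T⁻¹] :=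
  rhoLoc (rho 𝒜 ℬ) (a ⊗ₜ[k] b) (tmul_mem_deg0 𝒜 ℬ ha hb) (Localization.Away (a ⊗ₜ[k] b))

theorem spans_rhoV : Spans (rhoV 𝒜 ℬ ha hb) :=
  spans_rhoLoc _ _ _ (spans_rhoU 𝒜 ℬ)

theorem finiteType_tensor [Algebra.FiniteType k R] [Algebra.FiniteType k S] :
    Algebra.FiniteType k (R ⊗[k] S) :=
  Algebra.FiniteType.trans (S := R) inferInstance inferInstance

theorem finiteType_loc [Algebra.FiniteType k R] [Algebra.FiniteType k S] (w : R ⊗[k] S) :
    Algebra.FiniteType k (Localization.Away w) :=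
  Algebra.FiniteType.trans (S := R ⊗[k] S) (finiteType_tensor) inferInstance

theorem ringKrullDim_loc [Algebra.FiniteType k R] [Algebra.FiniteType k S] (hd : d ≠ 0) :
    ringKrullDim (Localization.Away (a ⊗ₜ[k] b)) =
      ringKrullDim (deg0 (rhoV 𝒜 ℬ ha hb)) + 1 := by
  haveI : Algebra.FiniteType k (Localization.Away (a ⊗ₜ[k] b)) := finiteType_loc _
  haveI : IsNoetherianRing (Localization.Away (a ⊗ₜ[k] b)) :=
    Algebra.FiniteType.isNoetherianRing k _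
  have hprod : algebraMap (R ⊗[k] S) (Localization.Away (a ⊗ₜ[k] b)) (a ⊗ₜ[k] (1 : S)) *
      algebraMap (R ⊗[k] S) (Localization.Away (a ⊗ₜ[k] b)) ((1 : R) ⊗ₜ[k] b) =
      algebraMap (R ⊗[k] S) (Localization.Away (a ⊗ₜ[k] b)) (a ⊗ₜ[k] b) := by
    rw [← map_mul, Algebra.TensorProduct.tmul_mul_tmul, mul_one, one_mul]
  have hu : IsUnit (algebraMap (R ⊗[k] S) (Localization.Away (a ⊗ₜ[k] b)) (a ⊗ₜ[k] (1 : S))) := by
    apply isUnit_of_mul_isUnit_left (y := algebraMap (R ⊗[k] S) (Localization.Away (a ⊗ₜ[k] b))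
      ((1 : R) ⊗ₜ[k] b))
    rw [hprod]
    exact IsLocalization.Away.algebraMap_isUnit _
  have hh : IsHomog (rhoV 𝒜 ℬ ha hb) ((hu.unit : (Localization.Away (a ⊗ₜ[k] b))ˣ) :
      Localization.Away (a ⊗ₜ[k] b)) d := by
    rw [IsUnit.unit_spec]
    apply isHomog_algebraMap
    have := isHomog_tmul 𝒜 ℬ ha (SetLike.one_mem_graded ℬ)
    rwa [sub_zero] at this
  exact ringKrullDim_eq_deg0_add_one (spans_rhoV 𝒜 ℬ ha hb) hu.unit hd hh

/-- Localization of the degree-zero part at `a ⊗ b`. -/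
theorem isLocalization_deg0_tmul :
    @IsLocalization.Away (deg0 (rho 𝒜 ℬ)) _
      (⟨a ⊗ₜ[k] b, tmul_mem_deg0 𝒜 ℬ ha hb⟩ : deg0 (rho 𝒜 ℬ))
      (deg0 (rhoV 𝒜 ℬ ha hb)) _
      (deg0Algebra (rho 𝒜 ℬ) (a ⊗ₜ[k] b) (tmul_mem_deg0 𝒜 ℬ ha hb)
        (Localization.Away (a ⊗ₜ[k] b))) :=
  isLocalization_deg0 _ _ _ (spans_rhoU 𝒜 ℬ)

theorem disjoint_powers_of_not_mem (Q : Ideal (deg0 (rho 𝒜 ℬ))) [hQ : Q.IsPrime]
    (hwQ : (⟨a ⊗ₜ[k] b, tmul_mem_deg0 𝒜 ℬ ha hb⟩ : deg0 (rho 𝒜 ℬ)) ∉ Q) :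
    Disjoint ((Submonoid.powers (⟨a ⊗ₜ[k] b, tmul_mem_deg0 𝒜 ℬ ha hb⟩ : deg0 (rho 𝒜 ℬ)) :
      Submonoid (deg0 (rho 𝒜 ℬ))) : Set (deg0 (rho 𝒜 ℬ))) (Q : Set (deg0 (rho 𝒜 ℬ))) := by
  rw [Set.disjoint_left]
  rintro x ⟨n, rfl⟩ hx
  exact hwQ (hQ.mem_of_pow_mem n hx)

theorem not_isMaximal_map_deg0Map [Algebra.FiniteType k R] [Algebra.FiniteType k S]
    (Q : Ideal (deg0 (rho 𝒜 ℬ))) [hQ : Q.IsPrime]
    (hwQ : (⟨a ⊗ₜ[k] b, tmul_mem_deg0 𝒜 ℬ ha hb⟩ : deg0 (rho 𝒜 ℬ)) ∉ Q)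
    (hQm : ¬ Q.IsMaximal) :
    ¬ (Q.map (deg0Map (rho 𝒜 ℬ) (a ⊗ₜ[k] b) (tmul_mem_deg0 𝒜 ℬ ha hb)
      (Localization.Away (a ⊗ₜ[k] b)))).IsMaximal := by
  intro hmax
  set V := Localization.Away (a ⊗ₜ[k] b) with hV
  letI algW : Algebra (deg0 (rho 𝒜 ℬ)) (deg0 (rhoV 𝒜 ℬ ha hb)) :=
    deg0Algebra (rho 𝒜 ℬ) (a ⊗ₜ[k] b) (tmul_mem_deg0 𝒜 ℬ ha hb) V
  haveI := isLocalization_deg0_tmul 𝒜 ℬ ha hb
  obtain ⟨N, hN, hNQ⟩ := exists_maximal_comap_eq (spans_rhoV 𝒜 ℬ ha hb)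
    (Q.map (deg0Map (rho 𝒜 ℬ) (a ⊗ₜ[k] b) (tmul_mem_deg0 𝒜 ℬ ha hb) V))
  letI algk : Algebra k (deg0 (rho 𝒜 ℬ)) := deg0AlgebraBase (rho 𝒜 ℬ) (rho_algebraMap 𝒜 ℬ)
  let g : deg0 (rho 𝒜 ℬ) →ₐ[k] V :=
    { (algebraMap (R ⊗[k] S) V).comp (deg0 (rho 𝒜 ℬ)).subtype with
      commutes' := fun c => by
        change algebraMap (R ⊗[k] S) V (algebraMap k (R ⊗[k] S) c) = algebraMap k V c
        rw [← IsScalarTower.algebraMap_apply] }
  have hcomap : N.comap (g : deg0 (rho 𝒜 ℬ) →+* V) = Q := by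
    have h1 : N.comap (g : deg0 (rho 𝒜 ℬ) →+* V) =
        (N.comap (deg0 (rhoV 𝒜 ℬ ha hb)).subtype).comap
          (deg0Map (rho 𝒜 ℬ) (a ⊗ₜ[k] b) (tmul_mem_deg0 𝒜 ℬ ha hb) V) := by
      rw [Ideal.comap_comap]
      rfl
    rw [h1, hNQ]
    exact IsLocalization.under_map_of_isPrime_disjoint
      (Submonoid.powers (⟨a ⊗ₜ[k] b, tmul_mem_deg0 𝒜 ℬ ha hb⟩ : deg0 (rho 𝒜 ℬ)))
      (deg0 (rhoV 𝒜 ℬ ha hb)) hQ (disjoint_powers_of_not_mem 𝒜 ℬ ha hb Q hwQ)
  haveI : Algebra.FiniteType k V := finiteType_loc _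
  letI : Field (V ⧸ N) := Ideal.Quotient.field N
  haveI : Algebra.FiniteType k (V ⧸ N) :=
    Algebra.FiniteType.of_surjective (Ideal.Quotient.mkₐ k N) Ideal.Quotient.mk_surjective
  haveI : Module.Finite k (V ⧸ N) := finite_of_finite_type_of_isJacobsonRing k (V ⧸ N)
  haveI : Algebra.IsIntegral k (V ⧸ N) := Algebra.IsIntegral.of_finite k (V ⧸ N)
  let φ : (deg0 (rho 𝒜 ℬ) ⧸ Q) →ₐ[k] V ⧸ N := Ideal.quotientMapₐ N g (le_of_eq hcomap.symm)
  have hφ : Function.Injective φ :=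
    Ideal.quotientMap_injective' (H := le_of_eq hcomap.symm) (le_of_eq hcomap)
  haveI : Algebra.IsIntegral k (deg0 (rho 𝒜 ℬ) ⧸ Q) := Algebra.IsIntegral.of_injective φ hφ
  have hfield : IsField (deg0 (rho 𝒜 ℬ) ⧸ Q) :=
    isField_of_isIntegral_of_isField' (Field.toIsField k)
  exact hQm (Ideal.Quotient.maximal_of_isField Q hfield)

theorem ringKrullDim_loc_le [Algebra.FiniteType k R] [Algebra.FiniteType k S] (w : R ⊗[k] S) :
    ringKrullDim (Localization.Away w) ≤ ringKrullDim R + ringKrullDim S := by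
  haveI : IsNoetherianRing S := Algebra.FiniteType.isNoetherianRing k S
  rw [← Groth.Agent.Lib.Helper4.TensorDim.ringKrullDim_tensor_eq_add k R S]
  exact ringKrullDim_le_of_isLocalization (Submonoid.powers w) _

theorem ringKrullDim_deg0_le [Algebra.FiniteType k R] [Algebra.FiniteType k S]
    (hposR : ∀ n : ℤ, n < 0 → 𝒜 n = ⊥)
    (h0R : 𝒜 0 = Submodule.span k {(1 : R)}) (h0S : ℬ 0 = Submodule.span k {(1 : S)})
    (r s : ℕ) (hr : ringKrullDim R = r) (hs : ringKrullDim S = s) :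
    ringKrullDim (deg0 (rho 𝒜 ℬ)) ≤ ((r + s - 1 : ℕ) : WithBot ℕ∞) := by
  rw [ringKrullDim_le_iff_height_le]
  intro 𝔪 h𝔪
  have hgoal : 𝔪.height ≤ ((r + s - 1 : ℕ) : ℕ∞) := by
    rw [Ideal.height_le_iff]
    intro Q hQ hlt
    have hQm : ¬ Q.IsMaximal := fun hmax =>
      hlt.ne (hmax.eq_of_le h𝔪.ne_top hlt.le)
    have hex : ∃ (n : ℤ) (a : R) (b : S) (_ : 0 < n) (ha : a ∈ 𝒜 n) (hb : b ∈ ℬ n),
        (⟨a ⊗ₜ[k] b, tmul_mem_deg0 𝒜 ℬ ha hb⟩ : deg0 (rho 𝒜 ℬ)) ∉ Q := by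
      by_contra hcon
      apply hQm
      apply isMaximal_of_forall_tmul_mem 𝒜 ℬ hposR h0R h0S Q
      intro n a b hn ha hb
      by_contra hmem
      exact hcon ⟨n, a, b, hn, ha, hb, hmem⟩
    obtain ⟨n, a, b, hn, ha, hb, hwQ⟩ := hex
    letI algW : Algebra (deg0 (rho 𝒜 ℬ)) (deg0 (rhoV 𝒜 ℬ ha hb)) :=
      deg0Algebra (rho 𝒜 ℬ) (a ⊗ₜ[k] b) (tmul_mem_deg0 𝒜 ℬ ha hb) _
    haveI := isLocalization_deg0_tmul 𝒜 ℬ ha hb
    have hdisj := disjoint_powers_of_not_mem 𝒜 ℬ ha hb Q hwQ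
    set Q' := Q.map (algebraMap (deg0 (rho 𝒜 ℬ)) (deg0 (rhoV 𝒜 ℬ ha hb))) with hQ'
    have hht : Q'.height = Q.height :=
      IsLocalization.height_map_of_disjoint
        (Submonoid.powers (⟨a ⊗ₜ[k] b, tmul_mem_deg0 𝒜 ℬ ha hb⟩ : deg0 (rho 𝒜 ℬ))) Q hdisj
    haveI hQ'p : Q'.IsPrime := IsLocalization.isPrime_of_isPrime_disjoint
      (Submonoid.powers (⟨a ⊗ₜ[k] b, tmul_mem_deg0 𝒜 ℬ ha hb⟩ : deg0 (rho 𝒜 ℬ))) _ Q hQ hdisj
    have hQ'm : ¬ Q'.IsMaximal := not_isMaximal_map_deg0Map 𝒜 ℬ ha hb Q hwQ hQm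
    obtain ⟨M', hM', hle⟩ := Ideal.exists_le_maximal Q' hQ'p.ne_top
    have hlt' : Q' < M' := lt_of_le_of_ne hle (fun h => hQ'm (h ▸ hM'))
    haveI := hM'.isPrime
    have h1 : Q'.height + 1 ≤ M'.height := Ideal.height_add_one_le_of_lt_of_isPrime hlt'
    have h2 : (M'.height : WithBot ℕ∞) ≤ ringKrullDim (deg0 (rhoV 𝒜 ℬ ha hb)) :=
      Ideal.height_le_ringKrullDim_of_ne_top hM'.ne_top
    have h3 := ringKrullDim_loc 𝒜 ℬ ha hb hn.ne'
    have h4 := ringKrullDim_loc_le (k := k) (R := R) (S := S) (a ⊗ₜ[k] b)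
    rw [hr, hs, h3] at h4
    have h5 : ((Q.height + 1 + 1 : ℕ∞) : WithBot ℕ∞) ≤ ((r + s : ℕ) : WithBot ℕ∞) := by
      rw [← hht]
      calc ((Q'.height + 1 + 1 : ℕ∞) : WithBot ℕ∞)
          ≤ ((M'.height + 1 : ℕ∞) : WithBot ℕ∞) := by
            exact_mod_cast add_le_add_left h1 1
        _ = (M'.height : WithBot ℕ∞) + 1 := by push_cast; rfl
        _ ≤ ringKrullDim (deg0 (rhoV 𝒜 ℬ ha hb)) + 1 := by gcongr
        _ ≤ (r : WithBot ℕ∞) + s := h4
        _ = ((r + s : ℕ) : WithBot ℕ∞) := by push_cast; rfl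
    have h6 : Q.height + 1 + 1 ≤ ((r + s : ℕ) : ℕ∞) := by exact_mod_cast h5
    have hfin : Q.height ≠ ⊤ := by
      intro htop
      rw [htop] at h6
      simp at h6
    obtain ⟨m, hm⟩ := ENat.ne_top_iff_exists.mp hfin
    rw [← hm] at h6 ⊢
    have h7 : m + 1 + 1 ≤ r + s := by exact_mod_cast h6
    have : m < r + s - 1 := by omega
    exact_mod_cast this
  exact WithBot.coe_le_coe.mpr hgoal

end Loc

section Lower

theorem exists_prime_not_maximal {A : Type*} [CommRing A] (r : ℕ) (hr : ringKrullDim A = r)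
    (h1 : 1 ≤ r) :
    ∃ q : Ideal A, q.IsPrime ∧ ¬ q.IsMaximal ∧ ((r - 1 : ℕ) : ℕ∞) ≤ q.height := by
  haveI : FiniteRingKrullDim A := by
    rw [finiteRingKrullDim_iff_ne_bot_and_top, hr]
    refine ⟨WithBot.coe_ne_bot, ?_⟩
    intro h
    have h' : ((r : ℕ∞) : WithBot ℕ∞) = ((⊤ : ℕ∞) : WithBot ℕ∞) := h
    exact ENat.natCast_ne_top r (WithBot.coe_injective h')
  obtain ⟨p, hp, hph⟩ := Ideal.exists_isMaximal_height (R := A)
  rw [hr] at hph
  have hph' : p.height = (r : ℕ∞) := by exact_mod_cast hph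
  haveI := hp.isPrime
  have hnot : ¬ p.height ≤ ((r - 1 : ℕ) : ℕ∞) := by
    rw [hph']
    intro h
    have : r ≤ r - 1 := by exact_mod_cast h
    omega
  rw [Ideal.height_le_iff] at hnot
  push Not at hnot
  obtain ⟨q, hq, hlt, hle⟩ := hnot
  exact ⟨q, hq, fun hmax => hlt.ne (hmax.eq_of_le hp.ne_top hlt.le), hle⟩

theorem le_ringKrullDim_away {A : Type*} [CommRing A] [IsJacobsonRing A] (q : Ideal A)
    [hq : q.IsPrime] (hqm : ¬ q.IsMaximal) (a : A) (ha : a ∉ q) :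
    ((q.height + 1 : ℕ∞) : WithBot ℕ∞) ≤ ringKrullDim (Localization.Away a) := by
  have hjac : q.jacobson = q := IsJacobsonRing.out inferInstance hq.isRadical
  have : ∃ J : Ideal A, q ≤ J ∧ J.IsMaximal ∧ a ∉ J := by
    by_contra hcon
    push Not at hcon
    apply ha
    rw [← hjac, Ideal.jacobson, Ideal.mem_sInf]
    intro J hJ
    exact hcon J hJ.1 hJ.2
  obtain ⟨J, hqJ, hJ, haJ⟩ := this
  haveI := hJ.isPrime
  have hlt : q < J := lt_of_le_of_ne hqJ (fun h => hqm (h ▸ hJ))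
  have h1 : q.height + 1 ≤ J.height := Ideal.height_add_one_le_of_lt_of_isPrime hlt
  have hdisj : Disjoint ((Submonoid.powers a : Submonoid A) : Set A) (J : Set A) := by
    rw [Set.disjoint_left]
    rintro x ⟨n, rfl⟩ hx
    exact haJ (hJ.isPrime.mem_of_pow_mem n hx)
  have h2 : (J.map (algebraMap A (Localization.Away a))).height = J.height :=
    IsLocalization.height_map_of_disjoint (Submonoid.powers a) J hdisj
  have hJ' : (J.map (algebraMap A (Localization.Away a))).IsPrime :=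
    IsLocalization.isPrime_of_isPrime_disjoint (Submonoid.powers a) _ J hJ.isPrime hdisj
  calc ((q.height + 1 : ℕ∞) : WithBot ℕ∞) ≤ (J.height : WithBot ℕ∞) := by exact_mod_cast h1
    _ = ((J.map (algebraMap A (Localization.Away a))).height : WithBot ℕ∞) := by rw [h2]
    _ ≤ ringKrullDim (Localization.Away a) := Ideal.height_le_ringKrullDim_of_ne_top hJ'.ne_top

end Lower

section Surj

variable {k : Type*} [Field k] {R S : Type*} [CommRing R] [CommRing S] [Algebra k R]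
  [Algebra k S] (a : R) (b : S)

/-- The natural map `R ⊗ S → R_a ⊗ S_b`. -/
noncomputable def toTensorAway :
    R ⊗[k] S →ₐ[k] Localization.Away a ⊗[k] Localization.Away b :=
  Algebra.TensorProduct.map (IsScalarTower.toAlgHom k R (Localization.Away a))
    (IsScalarTower.toAlgHom k S (Localization.Away b))

theorem toTensorAway_tmul (x : R) (y : S) :
    toTensorAway (k := k) a b (x ⊗ₜ[k] y) =
      algebraMap R (Localization.Away a) x ⊗ₜ[k] algebraMap S (Localization.Away b) y := by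
  simp [toTensorAway]

theorem isUnit_toTensorAway :
    IsUnit ((toTensorAway (k := k) a b).toRingHom (a ⊗ₜ[k] b)) := by
  change IsUnit (toTensorAway (k := k) a b (a ⊗ₜ[k] b))
  rw [toTensorAway_tmul]
  have h1 : IsUnit (algebraMap R (Localization.Away a) a ⊗ₜ[k] (1 : Localization.Away b)) :=
    (IsLocalization.Away.algebraMap_isUnit a).map
      (Algebra.TensorProduct.includeLeft : Localization.Away a →ₐ[k] _)
  have h2 : IsUnit ((1 : Localization.Away a) ⊗ₜ[k] algebraMap S (Localization.Away b) b) :=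
    (IsLocalization.Away.algebraMap_isUnit b).map
      (Algebra.TensorProduct.includeRight : Localization.Away b →ₐ[k] _)
  have := h1.mul h2
  rwa [Algebra.TensorProduct.tmul_mul_tmul, mul_one, one_mul] at this

/-- The induced map `(R ⊗ S)_{a ⊗ b} → R_a ⊗ S_b`. -/
noncomputable def locToTensorAway :
    Localization.Away (a ⊗ₜ[k] b) →+* Localization.Away a ⊗[k] Localization.Away b :=
  IsLocalization.Away.lift (a ⊗ₜ[k] b) (isUnit_toTensorAway (k := k) a b)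

theorem locToTensorAway_algebraMap (u : R ⊗[k] S) :
    locToTensorAway (k := k) a b (algebraMap _ _ u) = toTensorAway (k := k) a b u := by
  rw [locToTensorAway, IsLocalization.Away.lift_eq]
  rfl

theorem locToTensorAway_surjective : Function.Surjective (locToTensorAway (k := k) a b) := by
  set φ := locToTensorAway (k := k) a b with hφ
  set V := Localization.Away (a ⊗ₜ[k] b) with hV
  have hprod : algebraMap (R ⊗[k] S) V (a ⊗ₜ[k] (1 : S)) *
      algebraMap (R ⊗[k] S) V ((1 : R) ⊗ₜ[k] b) = algebraMap (R ⊗[k] S) V (a ⊗ₜ[k] b) := by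
    rw [← map_mul, Algebra.TensorProduct.tmul_mul_tmul, mul_one, one_mul]
  have hu : IsUnit (algebraMap (R ⊗[k] S) V (a ⊗ₜ[k] (1 : S))) := by
    apply isUnit_of_mul_isUnit_left (y := algebraMap (R ⊗[k] S) V ((1 : R) ⊗ₜ[k] b))
    rw [hprod]
    exact IsLocalization.Away.algebraMap_isUnit _
  have hu' : IsUnit (algebraMap (R ⊗[k] S) V ((1 : R) ⊗ₜ[k] b)) := by
    apply isUnit_of_mul_isUnit_right (x := algebraMap (R ⊗[k] S) V (a ⊗ₜ[k] (1 : S)))
    rw [hprod]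
    exact IsLocalization.Away.algebraMap_isUnit _
  have hleft : ∀ x : Localization.Away a, ∃ v : V, φ v = x ⊗ₜ[k] (1 : Localization.Away b) := by
    intro x
    obtain ⟨n, r, hr⟩ := IsLocalization.Away.surj a x
    refine ⟨algebraMap (R ⊗[k] S) V (r ⊗ₜ[k] (1 : S)) * ((hu.unit⁻¹ ^ n : Vˣ) : V), ?_⟩
    have h1 : φ (algebraMap (R ⊗[k] S) V (r ⊗ₜ[k] (1 : S))) =
        (x ⊗ₜ[k] (1 : Localization.Away b)) * φ ((hu.unit ^ n : Vˣ) : V) := by
      rw [Units.val_pow_eq_pow_val, IsUnit.unit_spec, map_pow, hφ, locToTensorAway_algebraMap,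
        locToTensorAway_algebraMap, toTensorAway_tmul, toTensorAway_tmul, map_one, ← hr,
        Algebra.TensorProduct.tmul_pow, one_pow, Algebra.TensorProduct.tmul_mul_tmul, mul_one]
    rw [map_mul, h1, mul_assoc, ← map_mul, ← Units.val_mul, ← mul_pow, mul_inv_cancel, one_pow,
      Units.val_one, map_one, mul_one]
  have hright : ∀ y : Localization.Away b, ∃ v : V, φ v = (1 : Localization.Away a) ⊗ₜ[k] y := by
    intro y
    obtain ⟨n, t, ht⟩ := IsLocalization.Away.surj b y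
    refine ⟨algebraMap (R ⊗[k] S) V ((1 : R) ⊗ₜ[k] t) * ((hu'.unit⁻¹ ^ n : Vˣ) : V), ?_⟩
    have h1 : φ (algebraMap (R ⊗[k] S) V ((1 : R) ⊗ₜ[k] t)) =
        ((1 : Localization.Away a) ⊗ₜ[k] y) * φ ((hu'.unit ^ n : Vˣ) : V) := by
      rw [Units.val_pow_eq_pow_val, IsUnit.unit_spec, map_pow, hφ, locToTensorAway_algebraMap,
        locToTensorAway_algebraMap, toTensorAway_tmul, toTensorAway_tmul, map_one, ← ht,
        Algebra.TensorProduct.tmul_pow, one_pow, Algebra.TensorProduct.tmul_mul_tmul, one_mul]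
    rw [map_mul, h1, mul_assoc, ← map_mul, ← Units.val_mul, ← mul_pow, mul_inv_cancel, one_pow,
      Units.val_one, map_one, mul_one]
  intro z
  induction z using TensorProduct.induction_on with
  | zero => exact ⟨0, map_zero _⟩
  | add x y hx hy =>
    obtain ⟨v, rfl⟩ := hx
    obtain ⟨v', rfl⟩ := hy
    exact ⟨v + v', map_add _ _ _⟩
  | tmul x y =>
    obtain ⟨v, hv⟩ := hleft x
    obtain ⟨v', hv'⟩ := hright y
    refine ⟨v * v', ?_⟩
    rw [map_mul, hv, hv', Algebra.TensorProduct.tmul_mul_tmul, mul_one, one_mul]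

theorem ringKrullDim_tensorAway_le :
    ringKrullDim (Localization.Away a ⊗[k] Localization.Away b) ≤
      ringKrullDim (Localization.Away (a ⊗ₜ[k] b)) :=
  ringKrullDim_le_of_surjective _ (locToTensorAway_surjective (k := k) a b)

end Surj

section Main

universe u

variable {k : Type u} [Field k] {R S : Type u} [CommRing R] [CommRing S] [Algebra k R]
  [Algebra k S] (𝒜 : ℤ → Submodule k R) [GradedAlgebra 𝒜] (ℬ : ℤ → Submodule k S)
  [GradedAlgebra ℬ]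

/-- In a connected nonnegatively graded algebra of positive dimension there is a homogeneous
element `a` of positive degree such that every power of `a` localizes to full dimension. -/
theorem exists_homog_away_dim [Algebra.FiniteType k R] (hpos : ∀ n : ℤ, n < 0 → 𝒜 n = ⊥)
    (h0 : 𝒜 0 = Submodule.span k {(1 : R)}) (r : ℕ) (hr : ringKrullDim R = r) (h1 : 1 ≤ r) :
    ∃ (m : ℕ) (a : R), 0 < m ∧ a ∈ 𝒜 (m : ℤ) ∧
      ∀ e : ℕ, (r : WithBot ℕ∞) ≤ ringKrullDim (Localization.Away (a ^ e)) := by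
  haveI : IsJacobsonRing R := isJacobsonRing_of_finiteType (A := k)
  obtain ⟨q, hq, hqm, hht⟩ := exists_prime_not_maximal r hr h1
  have hex : ∃ (n : ℤ) (a : R), 0 < n ∧ a ∈ 𝒜 n ∧ a ∉ q := by
    by_contra hcon
    apply hqm
    apply isMaximal_of_forall_homog_mem 𝒜 hpos h0 q
    intro n a hn ha
    by_contra hmem
    exact hcon ⟨n, a, hn, ha, hmem⟩
  obtain ⟨n, a, hn, ha, haq⟩ := hex
  lift n to ℕ using hn.le
  refine ⟨n, a, by exact_mod_cast hn, ha, fun e => ?_⟩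
  have hae : a ^ e ∉ q := fun h => haq (hq.mem_of_pow_mem e h)
  refine le_trans ?_ (le_ringKrullDim_away q hqm (a ^ e) hae)
  have : (r : ℕ∞) ≤ q.height + 1 := by
    calc (r : ℕ∞) = ((r - 1 : ℕ) : ℕ∞) + 1 := by
          have : r = (r - 1) + 1 := by omega
          conv_lhs => rw [this]
          push_cast; rfl
      _ ≤ q.height + 1 := by gcongr
  exact WithBot.coe_le_coe.mpr this

theorem le_ringKrullDim_deg0 [Algebra.FiniteType k R] [Algebra.FiniteType k S]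
    (hposR : ∀ n : ℤ, n < 0 → 𝒜 n = ⊥) (hposS : ∀ n : ℤ, n < 0 → ℬ n = ⊥)
    (h0R : 𝒜 0 = Submodule.span k {(1 : R)}) (h0S : ℬ 0 = Submodule.span k {(1 : S)})
    (r s : ℕ) (hr : ringKrullDim R = r) (hs : ringKrullDim S = s) (h1r : 1 ≤ r) (h1s : 1 ≤ s) :
    ((r + s - 1 : ℕ) : WithBot ℕ∞) ≤ ringKrullDim (deg0 (rho 𝒜 ℬ)) := by
  obtain ⟨m₁, a₀, hm₁, ha₀, hdimR⟩ := exists_homog_away_dim 𝒜 hposR h0R r hr h1r
  obtain ⟨m₂, b₀, hm₂, hb₀, hdimS⟩ := exists_homog_away_dim ℬ hposS h0S s hs h1s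
  set d : ℤ := (m₁ : ℤ) * (m₂ : ℤ) with hd
  have hd0 : d ≠ 0 := by positivity
  have ha : a₀ ^ m₂ ∈ 𝒜 d := by
    have := SetLike.pow_mem_graded m₂ ha₀
    rwa [nsmul_eq_mul, mul_comm] at this
  have hb : b₀ ^ m₁ ∈ ℬ d := by
    have := SetLike.pow_mem_graded m₁ hb₀
    rwa [nsmul_eq_mul] at this
  set a := a₀ ^ m₂ with haa
  set b := b₀ ^ m₁ with hbb
  -- dimension of the localization
  haveI : Algebra.FiniteType k (Localization.Away a) :=
    Algebra.FiniteType.trans (S := R) inferInstance inferInstance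
  haveI : IsNoetherianRing S := Algebra.FiniteType.isNoetherianRing k S
  haveI : IsNoetherianRing (Localization.Away b) := inferInstance
  have h1 : ((r + s : ℕ) : WithBot ℕ∞) ≤ ringKrullDim (Localization.Away (a ⊗ₜ[k] b)) := by
    refine le_trans ?_ (ringKrullDim_tensorAway_le (k := k) a b)
    rw [Groth.Agent.Lib.Helper4.TensorDim.ringKrullDim_tensor_eq_add k]
    push_cast
    exact add_le_add (hdimR m₂) (hdimS m₁)
  rw [ringKrullDim_loc 𝒜 ℬ ha hb hd0] at h1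
  -- localization of the degree zero part
  letI algW : Algebra (deg0 (rho 𝒜 ℬ)) (deg0 (rhoV 𝒜 ℬ ha hb)) :=
    deg0Algebra (rho 𝒜 ℬ) (a ⊗ₜ[k] b) (tmul_mem_deg0 𝒜 ℬ ha hb) _
  haveI := isLocalization_deg0_tmul 𝒜 ℬ ha hb
  have h2 : ringKrullDim (deg0 (rhoV 𝒜 ℬ ha hb)) ≤ ringKrullDim (deg0 (rho 𝒜 ℬ)) :=
    ringKrullDim_le_of_isLocalization
      (Submonoid.powers (⟨a ⊗ₜ[k] b, tmul_mem_deg0 𝒜 ℬ ha hb⟩ : deg0 (rho 𝒜 ℬ))) _
  refine le_trans ?_ h2
  generalize ringKrullDim (deg0 (rhoV 𝒜 ℬ ha hb)) = x at h1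
  cases x with
  | bot => simp at h1
  | coe e =>
    have h3 : ((r + s : ℕ) : ℕ∞) ≤ e + 1 := by exact_mod_cast h1
    have h4 : ((r + s - 1 : ℕ) : ℕ∞) ≤ e := by
      cases e with
      | top => exact le_top
      | coe e =>
        have : r + s ≤ e + 1 := by exact_mod_cast h3
        have : r + s - 1 ≤ e := by omega
        exact_mod_cast this
    exact WithBot.coe_le_coe.mpr h4

/-- Krull dimension of the Segre product. -/
theorem ringKrullDim_segre [Algebra.FiniteType k R] [Algebra.FiniteType k S]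
    (hposR : ∀ n : ℤ, n < 0 → 𝒜 n = ⊥) (hposS : ∀ n : ℤ, n < 0 → ℬ n = ⊥)
    (h0R : 𝒜 0 = Submodule.span k {(1 : R)}) (h0S : ℬ 0 = Submodule.span k {(1 : S)})
    {T : Type u} [CommRing T] [Algebra k T] (𝒯 : ℤ → Submodule k T) [GradedAlgebra 𝒯]
    (ψ : T →ₐ[k] R ⊗[k] S) (hψ : Function.Injective ψ)
    (hdegT : ∀ n : ℤ, (𝒯 n).map ψ.toLinearMap =
      Submodule.span k {x : R ⊗[k] S | ∃ a ∈ 𝒜 n, ∃ b ∈ ℬ n, x = a ⊗ₜ[k] b})
    (r s : ℕ) (hr : ringKrullDim R = r) (hs : ringKrullDim S = s) (h1r : 1 ≤ r) (h1s : 1 ≤ s) :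
    ringKrullDim T = ((r + s - 1 : ℕ) : WithBot ℕ∞) := by
  rw [ringKrullDim_eq_deg0 𝒜 ℬ 𝒯 ψ hdegT hψ]
  exact le_antisymm (ringKrullDim_deg0_le 𝒜 ℬ hposR h0R h0S r s hr hs)
    (le_ringKrullDim_deg0 𝒜 ℬ hposR hposS h0R h0S r s hr hs h1r h1s)

end Main

end Groth.Agent.R2.H88.Segre
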