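import Groth.Agent.R2.H88SegreMod
import Groth.Agent.Lib.Helper28DepthCM
import Groth.Agent.Lib.Helper28DepthAss
import Groth.Agent.Lib.Helper28FGDim

/-!
# Dimension of Segre products of graded Cohen–Macaulay modules (S19754)
-/

set_option autoImplicit false
set_option linter.style.haveILetI false

open TensorProduct

namespace Groth.Agent.R2.H88.SegreCM

open Groth.Agent.R2.H88.Coact Groth.Agent.R2.H88.Segre Groth.Agent.R2.H88.GrQuot
  Groth.Agent.R2.H88.SegreMod Groth.Agent.R2.H97.Segre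

universe u

section Homog

variable {k : Type u} [Field k] {R : Type u} [CommRing R] [Algebra k R]
  (𝒜 : ℤ → Submodule k R) [GradedAlgebra 𝒜]
  {M : Type u} [AddCommGroup M] [Module R M]
  (ℳ : ℤ → AddSubgroup M) [DirectSum.Decomposition ℳ] [SetLike.GradedSMul 𝒜 ℳ]

/-- the annihilator of a homogeneous element is homogeneous -/
theorem ker_toSpanSingleton_isHomogeneous {d : ℤ} {m : M} (hm : m ∈ ℳ d) :
    (LinearMap.ker (LinearMap.toSpanSingleton R M m)).IsHomogeneous 𝒜 := by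
  intro i x hx
  rw [LinearMap.mem_ker, LinearMap.toSpanSingleton_apply] at hx ⊢
  have h := projAdd_smul_of_mem 𝒜 ℳ (i + d) d x hm
  rw [hx, map_zero, add_sub_cancel_right, GradedAlgebra.proj_apply] at h
  exact h.symm

/-- the degree zero component vanishes on proper homogeneous ideals -/
theorem decompose_zero_eq_zero_of_mem (h0 : 𝒜 0 = Submodule.span k {(1 : R)}) {c : Ideal R}
    (hc : c.IsHomogeneous 𝒜) (hne : c ≠ ⊤) {x : R} (hx : x ∈ c) :
    (DirectSum.decompose 𝒜 x 0 : R) = 0 := by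
  have h1 : (DirectSum.decompose 𝒜 x 0 : R) ∈ c := hc 0 hx
  have h2 : (DirectSum.decompose 𝒜 x 0 : R) ∈ 𝒜 0 := (DirectSum.decompose 𝒜 x 0).2
  generalize (DirectSum.decompose 𝒜 x 0 : R) = y at h1 h2 ⊢
  rw [h0, Submodule.mem_span_singleton] at h2
  obtain ⟨a, ha⟩ := h2
  by_contra hne0
  have ha0 : a ≠ 0 := by
    rintro rfl
    rw [zero_smul] at ha
    exact hne0 ha.symm
  apply hne
  rw [Ideal.eq_top_iff_one]
  have h3 : (1 : R) = a⁻¹ • y := by
    rw [← ha, smul_smul, inv_mul_cancel₀ ha0, one_smul]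
  rw [h3]
  exact Submodule.smul_of_tower_mem c a⁻¹ h1

theorem sup_ne_top_of_isHomogeneous [Nontrivial R] (h0 : 𝒜 0 = Submodule.span k {(1 : R)})
    {c₁ c₂ : Ideal R} (h₁ : c₁.IsHomogeneous 𝒜) (h₂ : c₂.IsHomogeneous 𝒜) (hne₁ : c₁ ≠ ⊤)
    (hne₂ : c₂ ≠ ⊤) : c₁ ⊔ c₂ ≠ ⊤ := by
  intro htop
  have h1 : (1 : R) ∈ c₁ ⊔ c₂ := by
    rw [htop]
    trivial
  obtain ⟨a, ha, b, hb, hab⟩ := Submodule.mem_sup.mp h1
  have h2 : (DirectSum.decompose 𝒜 (a + b) 0 : R) = (DirectSum.decompose 𝒜 (1 : R) 0 : R) := by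
    rw [hab]
  rw [DirectSum.decompose_add, DirectSum.add_apply, Submodule.coe_add,
    decompose_zero_eq_zero_of_mem 𝒜 h0 h₁ hne₁ ha, decompose_zero_eq_zero_of_mem 𝒜 h0 h₂ hne₂ hb,
    add_zero, DirectSum.decompose_of_mem_same 𝒜 SetLike.GradedOne.one_mem] at h2
  exact zero_ne_one h2

end Homog

section Loc

variable {R : Type u} [CommRing R]

/-- dimension of the quotient of a localization by an extended prime -/
theorem ringKrullDim_quotient_map_le (𝔪 : Ideal R) [𝔪.IsPrime] (p : Ideal R) :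
    ringKrullDim (Localization.AtPrime 𝔪 ⧸ p.map (algebraMap R (Localization.AtPrime 𝔪))) ≤
      ringKrullDim (R ⧸ p) := by
  rw [ringKrullDim_quotient, ringKrullDim_quotient]
  refine Order.krullDim_le_of_strictMono
    (fun Q => ⟨PrimeSpectrum.comap (algebraMap R (Localization.AtPrime 𝔪)) Q.1, ?_⟩) ?_
  · rw [PrimeSpectrum.mem_zeroLocus]
    have h1 : p.map (algebraMap R (Localization.AtPrime 𝔪)) ≤ Q.1.asIdeal :=
      (PrimeSpectrum.mem_zeroLocus _ _).mp Q.2
    exact le_trans Ideal.le_comap_map (Ideal.comap_mono h1)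
  · intro Q Q' hQ
    have h1 : Q.1.asIdeal < Q'.1.asIdeal := hQ
    exact (IsLocalization.orderEmbedding 𝔪.primeCompl (Localization.AtPrime 𝔪)).strictMono h1

variable {M : Type u} [AddCommGroup M] [Module R M] [Module.Finite R M]

/-- heights in `R ⧸ p₀` are bounded by heights in the support -/
theorem height_map_mk_le_height_support (p₀ 𝔪 : Ideal R) [p₀.IsPrime] [h𝔪 : 𝔪.IsPrime]
    (hann : Module.annihilator R M ≤ p₀) (hle : p₀ ≤ 𝔪)
    (hmem : (⟨𝔪, h𝔪⟩ : PrimeSpectrum R) ∈ Module.support R M)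
    [hM : (𝔪.map (Ideal.Quotient.mk p₀)).IsPrime] :
    (𝔪.map (Ideal.Quotient.mk p₀)).height ≤
      Order.height (⟨⟨𝔪, h𝔪⟩, hmem⟩ : Module.support R M) := by
  have h1 := PrimeSpectrum.height_eq_orderHeight
    (⟨𝔪.map (Ideal.Quotient.mk p₀), hM⟩ : PrimeSpectrum (R ⧸ p₀))
  change (𝔪.map (Ideal.Quotient.mk p₀)).height = _ at h1
  rw [h1]
  let f : PrimeSpectrum (R ⧸ p₀) → Module.support R M := fun Q =>
    ⟨PrimeSpectrum.comap (Ideal.Quotient.mk p₀) Q, by
      rw [Module.mem_support_iff_of_finite]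
      refine le_trans hann ?_
      intro x hx
      change Ideal.Quotient.mk p₀ x ∈ Q.asIdeal
      rw [Ideal.Quotient.eq_zero_iff_mem.mpr hx]
      exact Q.asIdeal.zero_mem⟩
  have hf : StrictMono f := by
    intro Q Q' hQ
    exact Groth.Agent.Lib.Helper28.comap_strictMono_of_surjective (Ideal.Quotient.mk p₀)
      Ideal.Quotient.mk_surjective hQ
  have h2 := Order.height_le_height_apply_of_strictMono f hf
    (⟨𝔪.map (Ideal.Quotient.mk p₀), hM⟩ : PrimeSpectrum (R ⧸ p₀))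
  have h3 : f ⟨𝔪.map (Ideal.Quotient.mk p₀), hM⟩ = ⟨⟨𝔪, h𝔪⟩, hmem⟩ := by
    apply Subtype.ext
    apply PrimeSpectrum.ext
    change (𝔪.map (Ideal.Quotient.mk p₀)).comap (Ideal.Quotient.mk p₀) = 𝔪
    rw [Ideal.comap_map_of_surjective _ Ideal.Quotient.mk_surjective, ← RingHom.ker_eq_comap_bot,
      Ideal.mk_ker]
    exact sup_eq_left.mpr hle
  rwa [h3] at h2

end Loc

section Unmixed

variable (k : Type u) [Field k] {R : Type u} [CommRing R] [Algebra k R]
  (𝒜 : ℤ → Submodule k R) [GradedAlgebra 𝒜] [Algebra.FiniteType k R]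
  {M : Type u} [AddCommGroup M] [Module R M]
  (ℳ : ℤ → AddSubgroup M) [DirectSum.Decomposition ℳ] [SetLike.GradedSMul 𝒜 ℳ]
  [Module.Finite R M]

/-- unmixedness of graded Cohen–Macaulay modules: the annihilator of a nonzero homogeneous element
has full dimension -/
theorem ringKrullDim_quot_ker_toSpanSingleton (h0 : 𝒜 0 = Submodule.span k {(1 : R)}) (r : ℕ)
    (hdM : Module.supportDim R M = r)
    (hMcm : ∀ (q : Ideal R) [q.IsPrime], Subsingleton (LocalizedModule q.primeCompl M) ∨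
      LocCoh.IsCohenMacaulayModule (Localization.AtPrime q) (LocalizedModule q.primeCompl M))
    {d : ℤ} {m : M} (hm : m ∈ ℳ d) (hm0 : m ≠ 0) :
    ringKrullDim (R ⧸ LinearMap.ker (LinearMap.toSpanSingleton R M m)) = r := by
  haveI : IsNoetherianRing R := Algebra.FiniteType.isNoetherianRing k R
  set 𝔟 : Ideal R := LinearMap.ker (LinearMap.toSpanSingleton R M m) with h𝔟def
  have hmem𝔟 : ∀ x : R, x ∈ 𝔟 ↔ x • m = 0 := by
    intro x
    rw [h𝔟def, LinearMap.mem_ker, LinearMap.toSpanSingleton_apply]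
  have h𝔟ne : 𝔟 ≠ ⊤ := by
    intro h
    apply hm0
    have h1 : (1 : R) ∈ 𝔟 := by
      rw [h]
      trivial
    rw [hmem𝔟, one_smul] at h1
    exact h1
  have h𝔟h : 𝔟.IsHomogeneous 𝒜 := ker_toSpanSingleton_isHomogeneous 𝒜 ℳ hm
  have hle : Module.annihilator R M ≤ 𝔟 := by
    intro x hx
    rw [hmem𝔟]
    exact Module.mem_annihilator.mp hx m
  have hdI : ringKrullDim (R ⧸ Module.annihilator R M) = r := by
    rw [← hdM, Module.supportDim_eq_ringKrullDim_quotient_annihilator]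
  have hupper : ringKrullDim (R ⧸ 𝔟) ≤ r := by
    rw [← hdI]
    exact ringKrullDim_le_of_surjective (Ideal.Quotient.factor hle)
      (Ideal.Quotient.factor_surjective hle)
  haveI : Nontrivial (R ⧸ 𝔟) := Ideal.Quotient.nontrivial_iff.mpr h𝔟ne
  haveI : Nontrivial R := (Ideal.Quotient.mk 𝔟).domain_nontrivial
  obtain ⟨b, hb⟩ : ∃ b : ℕ, ringKrullDim (R ⧸ 𝔟) = b := by
    have h1 : ringKrullDim (R ⧸ 𝔟) ≠ ⊥ := by
      intro h
      have := ringKrullDim_nonneg_of_nontrivial (R := R ⧸ 𝔟)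
      rw [h] at this
      simp at this
    generalize ringKrullDim (R ⧸ 𝔟) = x at hupper h1
    cases x with
    | bot => exact absurd rfl h1
    | coe e =>
      cases e with
      | top =>
        exfalso
        have h2 : ((⊤ : ℕ∞) : WithBot ℕ∞) ≤ ((r : ℕ∞) : WithBot ℕ∞) := hupper
        rw [WithBot.coe_le_coe] at h2
        exact absurd (top_le_iff.mp h2) (ENat.natCast_ne_top r)
      | coe e => exact ⟨e, rfl⟩
  refine le_antisymm hupper ?_
  rw [hb]
  obtain ⟨p, hp, hpd⟩ := exists_minimalPrimes_dim_eq 𝔟 b hb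
  obtain ⟨p₀, hp₀, hp₀d⟩ := exists_minimalPrimes_dim_eq (Module.annihilator R M) r hdI
  haveI hpprime : p.IsPrime := hp.1.1
  haveI hp₀prime : p₀.IsPrime := hp₀.1.1
  have hph : p.IsHomogeneous 𝒜 := isHomogeneous_of_mem_minimalPrimes 𝒜 h𝔟h hp
  have hp₀h : p₀.IsHomogeneous 𝒜 :=
    isHomogeneous_of_mem_minimalPrimes 𝒜 (annihilator_isHomogeneous 𝒜 ℳ) hp₀
  have hsup : p ⊔ p₀ ≠ ⊤ :=
    sup_ne_top_of_isHomogeneous 𝒜 h0 hph hp₀h hpprime.ne_top hp₀prime.ne_top
  obtain ⟨𝔪, h𝔪, hle𝔪⟩ := Ideal.exists_le_maximal _ hsup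
  haveI h𝔪prime : 𝔪.IsPrime := h𝔪.isPrime
  have hp𝔪 : p ≤ 𝔪 := le_sup_left.trans hle𝔪
  have hp₀𝔪 : p₀ ≤ 𝔪 := le_sup_right.trans hle𝔪
  -- `p` is an associated prime of `M`
  have hpass : p ∈ associatedPrimes R M := by
    have h1 : p ∈ associatedPrimes R (R ⧸ 𝔟) := by
      apply Module.associatedPrimes.minimalPrimes_annihilator_subset_associatedPrimes R (R ⧸ 𝔟)
      rwa [Ideal.annihilator_quotient]
    have hinj : Function.Injective (𝔟.liftQ (LinearMap.toSpanSingleton R M m) le_rfl) := by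
      rw [← LinearMap.ker_eq_bot]
      exact Submodule.ker_liftQ_eq_bot _ _ _ le_rfl
    exact associatedPrimes.subset_of_injective hinj h1
  -- `𝔪` is in the support
  have h𝔪supp : (⟨𝔪, h𝔪prime⟩ : PrimeSpectrum R) ∈ Module.support R M := by
    rw [Module.mem_support_iff_of_finite]
    exact hp₀.1.2.trans hp₀𝔪
  -- the chain of inequalities
  haveI hMmax : (𝔪.map (Ideal.Quotient.mk p₀)).IsMaximal :=
    Ideal.IsMaximal.map_of_surjective_of_ker_le Ideal.Quotient.mk_surjective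
      (by rwa [Ideal.mk_ker])
  haveI hMprime : (𝔪.map (Ideal.Quotient.mk p₀)).IsPrime := hMmax.isPrime
  have e1 : ((r : ℕ∞) : WithBot ℕ∞) ≤
      Module.supportDim (Localization.AtPrime 𝔪) (LocalizedModule 𝔪.primeCompl M) := by
    rw [Groth.Agent.Lib.Helper28.supportDim_localization_eq_height 𝔪 M h𝔪supp]
    have h1 := Groth.Agent.Lib.Helper28.height_eq_ringKrullDim_quotient_of_isMaximal_of_finiteType
      k R p₀ (𝔪.map (Ideal.Quotient.mk p₀))
    rw [hp₀d] at h1
    have h2 := height_map_mk_le_height_support (M := M) p₀ 𝔪 hp₀.1.2 hp₀𝔪 h𝔪supp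
    have h3 : ((𝔪.map (Ideal.Quotient.mk p₀)).height : WithBot ℕ∞) ≤
        ((Order.height (⟨⟨𝔪, h𝔪prime⟩, h𝔪supp⟩ : Module.support R M) : ℕ∞) : WithBot ℕ∞) :=
      WithBot.coe_le_coe.mpr h2
    rw [h1] at h3
    exact h3
  have hnt : Nontrivial (LocalizedModule 𝔪.primeCompl M) :=
    (Module.mem_support_iff (p := ⟨𝔪, h𝔪prime⟩)).mp h𝔪supp
  have e2 : Module.supportDim (Localization.AtPrime 𝔪) (LocalizedModule 𝔪.primeCompl M) =
      ((LocCoh.depth (Localization.AtPrime 𝔪) (LocalizedModule 𝔪.primeCompl M) : ℕ∞) :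
        WithBot ℕ∞) := by
    rcases hMcm 𝔪 with h | h
    · exact absurd h (not_subsingleton_iff_nontrivial.mpr hnt)
    · exact h
  set P : Ideal (Localization.AtPrime 𝔪) := p.map (algebraMap R (Localization.AtPrime 𝔪))
    with hPdef
  have hdisj : Disjoint (𝔪.primeCompl : Set R) (p : Set R) := by
    rw [Set.disjoint_left]
    intro x hx hxp
    exact hx (hp𝔪 hxp)
  have hPcomap : P.comap (algebraMap R (Localization.AtPrime 𝔪)) = p :=
    IsLocalization.under_map_of_isPrime_disjoint 𝔪.primeCompl _ hpprime hdisj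
  have hPass : P ∈ associatedPrimes (Localization.AtPrime 𝔪) (LocalizedModule 𝔪.primeCompl M) := by
    apply Module.associatedPrimes.mem_associatedPrimes_of_comap_mem_associatedPrimes_of_isLocalizedModule
      𝔪.primeCompl (LocalizedModule.mkLinearMap 𝔪.primeCompl M)
    rw [hPcomap]
    exact hpass
  have e3 := Groth.Agent.Lib.Helper28.depth_le_ringKrullDim_quotient_of_mem_associatedPrimes hPass
  have e4 := ringKrullDim_quotient_map_le 𝔪 p
  have hfinal : ((r : ℕ∞) : WithBot ℕ∞) ≤ ringKrullDim (R ⧸ p) :=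
    e1.trans (e2.le.trans (e3.trans e4))
  rw [hpd] at hfinal
  exact hfinal

end Unmixed

section Main

theorem exists_pure_ne_zero {k : Type u} [Field k] {R : Type u} [CommRing R] [Algebra k R]
    {S : Type u} [CommRing S] [Algebra k S] {T : Type u} [CommRing T] [Algebra k T]
    (ψ : T →ₐ[k] TensorProduct k R S)
    {M : Type u} [AddCommGroup M] [Module R M] [Module k M] [IsScalarTower k R M]
    (ℳ : ℤ → AddSubgroup M) {N : Type u} [AddCommGroup N] [Module S N] [Module k N]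
    [IsScalarTower k S N] (𝒩 : ℤ → AddSubgroup N) {P : Type u} [AddCommGroup P] [Module T P]
    [Module k P] [IsScalarTower k T P] (𝒬 : ℤ → AddSubgroup P) [DirectSum.Decomposition 𝒬]
    (φ : P →ₗ[k] TensorProduct k M N) (hP : GrSeg.IsSegreMod ψ ℳ 𝒩 𝒬 φ) [Nontrivial P] :
    ∃ (d : ℤ) (m : M) (n : N), m ∈ ℳ d ∧ n ∈ 𝒩 d ∧ m ⊗ₜ[k] n ≠ 0 := by
  by_contra hcon
  push Not at hcon
  have hall : ∀ x : P, x = 0 := by
    intro x
    induction x using DirectSum.Decomposition.inductionOn 𝒬 with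
    | zero => rfl
    | @homogeneous i a =>
      apply hP.injective
      rw [map_zero]
      have h1 : φ (a : P) ∈ (GrSeg.segrePiece k ℳ 𝒩 i : Set (M ⊗[k] N)) := by
        rw [← hP.image_piece i]
        exact ⟨a, a.2, rfl⟩
      have h2 : GrSeg.segrePiece k ℳ 𝒩 i = ⊥ := by
        unfold GrSeg.segrePiece
        rw [Submodule.span_eq_bot]
        rintro x ⟨m, hm, n, hn, rfl⟩
        exact hcon i m n hm hn
      rw [h2] at h1
      exact h1
    | add a b ha hb => rw [ha, hb, add_zero]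
  obtain ⟨x, hx⟩ := exists_ne (0 : P)
  exact hx (hall x)

theorem supportDim_segreMod_cm (k : Type u) [Field k] (R : Type u) [CommRing R] [Algebra k R]
    (𝒜 : ℤ → Submodule k R) [GradedAlgebra 𝒜] (hposR : ∀ n : ℤ, n < 0 → 𝒜 n = ⊥)
    (h0R : 𝒜 0 = Submodule.span k {(1 : R)}) [Algebra.FiniteType k R] (S : Type u) [CommRing S]
    [Algebra k S] (ℬ : ℤ → Submodule k S) [GradedAlgebra ℬ] (hposS : ∀ n : ℤ, n < 0 → ℬ n = ⊥)
    (h0S : ℬ 0 = Submodule.span k {(1 : S)}) [Algebra.FiniteType k S] (T : Type u) [CommRing T]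
    [Algebra k T] (𝒯 : ℤ → Submodule k T) [GradedAlgebra 𝒯] (ψ : T →ₐ[k] TensorProduct k R S)
    (hT : GrSeg.IsSegreRing 𝒜 ℬ 𝒯 ψ)
    (M : Type u) [AddCommGroup M] [Module R M] [Module k M] [IsScalarTower k R M]
    (ℳ : ℤ → AddSubgroup M) [DirectSum.Decomposition ℳ] [SetLike.GradedSMul 𝒜 ℳ]
    [Module.Finite R M] (N : Type u) [AddCommGroup N] [Module S N] [Module k N]
    [IsScalarTower k S N] (𝒩 : ℤ → AddSubgroup N) [DirectSum.Decomposition 𝒩]
    [SetLike.GradedSMul ℬ 𝒩] [Module.Finite S N] (P : Type u) [AddCommGroup P] [Module T P]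
    [Module k P] [IsScalarTower k T P] (𝒬 : ℤ → AddSubgroup P) [DirectSum.Decomposition 𝒬]
    (φ : P →ₗ[k] TensorProduct k M N) (hP : GrSeg.IsSegreMod ψ ℳ 𝒩 𝒬 φ) (r s : ℕ)
    (h1r : 1 ≤ r) (h1s : 1 ≤ s)
    (hdM : Module.supportDim R M = r) (hdN : Module.supportDim S N = s)
    (hMcm : ∀ (q : Ideal R) [q.IsPrime], Subsingleton (LocalizedModule q.primeCompl M) ∨
      LocCoh.IsCohenMacaulayModule (Localization.AtPrime q) (LocalizedModule q.primeCompl M))
    (hNcm : ∀ (q : Ideal S) [q.IsPrime], Subsingleton (LocalizedModule q.primeCompl N) ∨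
      LocCoh.IsCohenMacaulayModule (Localization.AtPrime q) (LocalizedModule q.primeCompl N)) :
    Module.supportDim T P = ((r + s - 1 : ℕ) : WithBot ℕ∞) ∨ Subsingleton P := by
  by_cases hPs : Subsingleton P
  · right
    exact hPs
  left
  rw [not_subsingleton_iff_nontrivial] at hPs
  obtain ⟨hψ, hdegT⟩ := hT
  haveI : IsNoetherianRing R := Algebra.FiniteType.isNoetherianRing k R
  haveI : IsNoetherianRing S := Algebra.FiniteType.isNoetherianRing k S
  apply le_antisymm
  · -- upper bound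
    set I := Module.annihilator R M with hIdef
    set J := Module.annihilator S N with hJdef
    have hI : I.IsHomogeneous 𝒜 := annihilator_isHomogeneous 𝒜 ℳ
    have hJ : J.IsHomogeneous ℬ := annihilator_isHomogeneous ℬ 𝒩
    have hdI : ringKrullDim (R ⧸ I) = r := by
      rw [← hdM, Module.supportDim_eq_ringKrullDim_quotient_annihilator]
    have hdJ : ringKrullDim (S ⧸ J) = s := by
      rw [← hdN, Module.supportDim_eq_ringKrullDim_quotient_annihilator]
    haveI : Module.Finite T P :=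
      segre_module_finite 𝒜 ℬ ℳ 𝒩 𝒯 𝒬 ψ ⟨hψ, hdegT⟩ φ hP
    rw [Module.supportDim_eq_ringKrullDim_quotient_annihilator]
    have hle : segreKer ψ I J ≤ Module.annihilator T P := by
      intro t ht
      rw [Module.mem_annihilator]
      intro x
      apply hP.injective
      rw [hP.map_smul, map_zero]
      exact act_eq_zero_of_piMap_eq_zero I J le_rfl le_rfl _ ht _
    calc ringKrullDim (T ⧸ Module.annihilator T P)
        ≤ ringKrullDim (T ⧸ segreKer ψ I J) :=
          ringKrullDim_le_of_surjective (Ideal.Quotient.factor hle)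
            (Ideal.Quotient.factor_surjective hle)
      _ = _ := ringKrullDim_quot_segreKer 𝒜 ℬ 𝒯 ψ hdegT hposR hposS h0R h0S hI hJ r s hdI hdJ
          h1r h1s
  · -- lower bound
    obtain ⟨d, m, n, hm, hn, hmn⟩ := exists_pure_ne_zero ψ ℳ 𝒩 𝒬 φ hP
    have hm0 : m ≠ 0 := by
      rintro rfl
      exact hmn (TensorProduct.zero_tmul _ _)
    have hn0 : n ≠ 0 := by
      rintro rfl
      exact hmn (TensorProduct.tmul_zero _ _)
    set p : Ideal R := LinearMap.ker (LinearMap.toSpanSingleton R M m) with hpdef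
    set q : Ideal S := LinearMap.ker (LinearMap.toSpanSingleton S N n) with hqdef
    have hm' : ∀ x : R, x ∈ p ↔ x • m = 0 := by
      intro x
      rw [hpdef, LinearMap.mem_ker, LinearMap.toSpanSingleton_apply]
    have hn' : ∀ x : S, x ∈ q ↔ x • n = 0 := by
      intro x
      rw [hqdef, LinearMap.mem_ker, LinearMap.toSpanSingleton_apply]
    have hph : p.IsHomogeneous 𝒜 := ker_toSpanSingleton_isHomogeneous 𝒜 ℳ hm
    have hqh : q.IsHomogeneous ℬ := ker_toSpanSingleton_isHomogeneous ℬ 𝒩 hn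
    have hpd : ringKrullDim (R ⧸ p) = r :=
      ringKrullDim_quot_ker_toSpanSingleton k 𝒜 ℳ h0R r hdM hMcm hm hm0
    have hqd : ringKrullDim (S ⧸ q) = s :=
      ringKrullDim_quot_ker_toSpanSingleton k ℬ 𝒩 h0S s hdN hNcm hn hn0
    -- the element `z`
    have hmem : m ⊗ₜ[k] n ∈ (GrSeg.segrePiece k ℳ 𝒩 d : Set (M ⊗[k] N)) :=
      Submodule.subset_span ⟨m, hm, n, hn, rfl⟩
    rw [← hP.image_piece d] at hmem
    obtain ⟨z, hz, hzφ⟩ := hmem
    have hann : ∀ t : T, t • z = 0 ↔ t ∈ segreKer ψ p q := by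
      intro t
      rw [mem_segreKer, ← act_tmul_eq_zero_iff p q m n hm' hn', ← hzφ, ← hP.map_smul]
      constructor
      · intro h
        rw [h, map_zero]
      · intro h
        exact hP.injective (h.trans (map_zero φ).symm)
    let g : T →ₗ[T] P := LinearMap.toSpanSingleton T P z
    have hgker : LinearMap.ker g = segreKer ψ p q := by
      ext t
      rw [LinearMap.mem_ker, LinearMap.toSpanSingleton_apply, hann]
    let gbar : (T ⧸ segreKer ψ p q) →ₗ[T] P := Submodule.liftQ (segreKer ψ p q) g hgker.ge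
    have hgbar : Function.Injective gbar := by
      rw [← LinearMap.ker_eq_bot]
      exact Submodule.ker_liftQ_eq_bot _ _ _ hgker.le
    calc ((r + s - 1 : ℕ) : WithBot ℕ∞) = ringKrullDim (T ⧸ segreKer ψ p q) :=
          (ringKrullDim_quot_segreKer 𝒜 ℬ 𝒯 ψ hdegT hposR hposS h0R h0S hph hqh r s hpd hqd
            h1r h1s).symm
      _ = Module.supportDim T (T ⧸ segreKer ψ p q) :=
          (Module.supportDim_quotient_eq_ringKrullDim _).symm
      _ ≤ Module.supportDim T P := Module.supportDim_le_of_injective gbar hgbar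

end Main

end Groth.Agent.R2.H88.SegreCM
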