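import Groth.Agent.R2.H88Segre
import Groth.Agent.R2.H88GrQuot

/-!
# Dimension of Segre products of graded modules (S19753)
-/

set_option autoImplicit false
set_option linter.style.haveILetI false

open TensorProduct

namespace Groth.Agent.R2.H88.SegreMod

open Groth.Agent.R2.H88.Coact Groth.Agent.R2.H88.Segre Groth.Agent.R2.H88.GrQuot

universe u

section General

/-- there is a minimal prime over `I` realizing the dimension of `A ⧸ I` -/
theorem exists_minimalPrimes_dim_eq {A : Type*} [CommRing A] (I : Ideal A) (n : ℕ)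
    (h : ringKrullDim (A ⧸ I) = n) :
    ∃ p ∈ I.minimalPrimes, ringKrullDim (A ⧸ p) = n := by
  have h' := h
  rw [ringKrullDim_quotient] at h'
  obtain ⟨l, hl⟩ := Order.le_krullDim_iff.mp h'.ge
  have hI : I ≤ (l.head.1).asIdeal := (PrimeSpectrum.mem_zeroLocus _ _).mp l.head.2
  obtain ⟨p, hp, hple⟩ := Ideal.exists_minimalPrimes_le hI
  refine ⟨p, hp, le_antisymm ?_ ?_⟩
  · rw [← h]
    exact ringKrullDim_le_of_surjective (Ideal.Quotient.factor hp.1.2)
      (Ideal.Quotient.factor_surjective hp.1.2)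
  · rw [ringKrullDim_quotient]
    have hmem : ∀ i, (l i).1 ∈ PrimeSpectrum.zeroLocus (p : Set A) := by
      intro i
      rw [PrimeSpectrum.mem_zeroLocus]
      have : l.head ≤ l i := LTSeries.head_le l i
      exact le_trans hple this
    let l' : LTSeries (PrimeSpectrum.zeroLocus (p : Set A)) :=
      { length := l.length
        toFun := fun i => ⟨(l i).1, hmem i⟩
        step := fun i => l.step i }
    have := Order.LTSeries.length_le_krullDim l'
    rw [← hl]
    exact this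

/-- a finite module of dimension `≤ 0` over a Noetherian ring is Artinian -/
theorem isArtinian_of_supportDim_le_zero {A : Type*} [CommRing A] [IsNoetherianRing A]
    {M : Type*} [AddCommGroup M] [Module A M] [Module.Finite A M]
    (h : Module.supportDim A M ≤ 0) : IsArtinian A M := by
  rw [Module.supportDim_eq_ringKrullDim_quotient_annihilator] at h
  letI : Module (A ⧸ Module.annihilator A M) M := Module.quotientAnnihilator
  haveI : IsScalarTower A (A ⧸ Module.annihilator A M) M :=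
    (Module.isTorsionBySet_annihilator A M).isScalarTower
  haveI : Ring.KrullDimLE 0 (A ⧸ Module.annihilator A M) := by
    rw [Ring.krullDimLE_iff]
    exact_mod_cast h
  haveI : IsArtinianRing (A ⧸ Module.annihilator A M) :=
    isArtinianRing_iff_krullDimLE_zero.mpr inferInstance
  haveI : Module.Finite (A ⧸ Module.annihilator A M) M := Module.Finite.of_restrictScalars_finite A _ _
  haveI : IsArtinian (A ⧸ Module.annihilator A M) M := inferInstance
  exact isArtinian_of_surjective_algebraMap (R := A ⧸ Module.annihilator A M)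
    Ideal.Quotient.mk_surjective

end General

section Q

variable {k : Type u} [Field k] {R S : Type u} [CommRing R] [CommRing S] [Algebra k R]
  [Algebra k S] (𝒜 : ℤ → Submodule k R) [GradedAlgebra 𝒜] (ℬ : ℤ → Submodule k S)
  [GradedAlgebra ℬ] {T : Type u} [CommRing T] [Algebra k T] (𝒯 : ℤ → Submodule k T)
  [GradedAlgebra 𝒯] (ψ : T →ₐ[k] R ⊗[k] S)
  (hdegT : ∀ n : ℤ, (𝒯 n).map ψ.toLinearMap =
    Submodule.span k {x : R ⊗[k] S | ∃ a ∈ 𝒜 n, ∃ b ∈ ℬ n, x = a ⊗ₜ[k] b})

/-- the quotient map on tensor products -/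
noncomputable def piMap (I : Ideal R) (J : Ideal S) : R ⊗[k] S →ₐ[k] (R ⧸ I) ⊗[k] (S ⧸ J) :=
  Algebra.TensorProduct.map (Ideal.Quotient.mkₐ k I) (Ideal.Quotient.mkₐ k J)

theorem piMap_tmul (I : Ideal R) (J : Ideal S) (r : R) (s : S) :
    piMap (k := k) I J (r ⊗ₜ[k] s) = Ideal.Quotient.mk I r ⊗ₜ[k] Ideal.Quotient.mk J s := rfl

/-- the ideal of the Segre ring cut out by `I` and `J` -/
noncomputable def segreKer (I : Ideal R) (J : Ideal S) : Ideal T :=
  RingHom.ker ((piMap (k := k) I J).comp ψ : T →ₐ[k] (R ⧸ I) ⊗[k] (S ⧸ J))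

theorem mem_segreKer {I : Ideal R} {J : Ideal S} {t : T} :
    t ∈ segreKer ψ I J ↔ piMap (k := k) I J (ψ t) = 0 := Iff.rfl

include hdegT in
theorem ringKrullDim_quot_segreKer [Algebra.FiniteType k R] [Algebra.FiniteType k S]
    (hposR : ∀ n : ℤ, n < 0 → 𝒜 n = ⊥) (hposS : ∀ n : ℤ, n < 0 → ℬ n = ⊥)
    (h0R : 𝒜 0 = Submodule.span k {(1 : R)}) (h0S : ℬ 0 = Submodule.span k {(1 : S)})
    {I : Ideal R} {J : Ideal S} (hI : I.IsHomogeneous 𝒜) (hJ : J.IsHomogeneous ℬ)
    (a b : ℕ) (ha : ringKrullDim (R ⧸ I) = a) (hb : ringKrullDim (S ⧸ J) = b)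
    (h1a : 1 ≤ a) (h1b : 1 ≤ b) :
    ringKrullDim (T ⧸ segreKer ψ I J) = ((a + b - 1 : ℕ) : WithBot ℕ∞) := by
  letI := quotGradedAlgebra 𝒜 hI
  letI := quotGradedAlgebra ℬ hJ
  set ψ' : T →ₐ[k] (R ⧸ I) ⊗[k] (S ⧸ J) := (piMap (k := k) I J).comp ψ with hψ'
  have hdegT' : ∀ n : ℤ, (𝒯 n).map ψ'.toLinearMap =
      Submodule.span k {x : (R ⧸ I) ⊗[k] (S ⧸ J) | ∃ a ∈ quotGrading 𝒜 I n,
        ∃ b ∈ quotGrading ℬ J n, x = a ⊗ₜ[k] b} := by
    intro n
    have h1 : ψ'.toLinearMap = (piMap (k := k) I J).toLinearMap ∘ₗ ψ.toLinearMap := rfl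
    rw [h1, Submodule.map_comp, hdegT n, Submodule.map_span]
    congr 1
    ext x
    constructor
    · rintro ⟨y, ⟨a, ha, b, hb, rfl⟩, rfl⟩
      exact ⟨_, mk_mem_quotGrading 𝒜 I ha, _, mk_mem_quotGrading ℬ J hb, rfl⟩
    · rintro ⟨a', ha', b', hb', rfl⟩
      obtain ⟨a, ha, rfl⟩ := exists_of_mem_quotGrading 𝒜 I ha'
      obtain ⟨b, hb, rfl⟩ := exists_of_mem_quotGrading ℬ J hb'
      exact ⟨a ⊗ₜ[k] b, ⟨a, ha, b, hb, rfl⟩, rfl⟩
  let f : T →+* deg0 (rho (quotGrading 𝒜 I) (quotGrading ℬ J)) :=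
    (ψ' : T →+* (R ⧸ I) ⊗[k] (S ⧸ J)).codRestrict _
      (psi_mem_deg0 (quotGrading 𝒜 I) (quotGrading ℬ J) 𝒯 ψ' hdegT')
  have hf : Function.Surjective f := by
    intro x
    obtain ⟨t, ht⟩ := exists_psi_eq (quotGrading 𝒜 I) (quotGrading ℬ J) 𝒯 ψ' hdegT' x.2
    exact ⟨t, Subtype.ext ht⟩
  have hker : RingHom.ker f = segreKer ψ I J := by
    ext t
    rw [RingHom.mem_ker, mem_segreKer]
    constructor
    · intro h
      exact congrArg Subtype.val h
    · intro h
      exact Subtype.ext h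
  rw [← hker, ringKrullDim_eq_of_ringEquiv (RingHom.quotientKerEquivOfSurjective hf)]
  have hposR' : ∀ n : ℤ, n < 0 → quotGrading 𝒜 I n = ⊥ :=
    fun n hn => quotGrading_eq_bot 𝒜 I (hposR n hn)
  have hposS' : ∀ n : ℤ, n < 0 → quotGrading ℬ J n = ⊥ :=
    fun n hn => quotGrading_eq_bot ℬ J (hposS n hn)
  have h0R' := quotGrading_zero 𝒜 I h0R
  have h0S' := quotGrading_zero ℬ J h0S
  exact le_antisymm
    (ringKrullDim_deg0_le (quotGrading 𝒜 I) (quotGrading ℬ J) hposR' h0R' h0S' a b ha hb)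
    (le_ringKrullDim_deg0 (quotGrading 𝒜 I) (quotGrading ℬ J) hposR' hposS' h0R' h0S' a b ha hb
      h1a h1b)

end Q

section LiftQ

variable {k R : Type*} [CommRing k] [CommRing R] [Algebra k R] (I : Ideal R) {X : Type*}
  [AddCommGroup X] [Module k X] (f : R →ₗ[k] X) (h : I.restrictScalars k ≤ LinearMap.ker f)

/-- lift a `k`-linear map through the quotient by an ideal -/
noncomputable def liftQk : (R ⧸ I) →ₗ[k] X :=
  (Submodule.liftQ (R := k) (M := R) (M₂ := X) (τ₁₂ := RingHom.id k) (I.restrictScalars k) f h) ∘ₗ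
    ((Submodule.Quotient.restrictScalarsEquiv k I).symm.toLinearMap)

theorem liftQk_mk (x : R) : liftQk I f h (Ideal.Quotient.mk I x) = f x := by
  unfold liftQk
  rw [LinearMap.comp_apply]
  change (Submodule.liftQ _ _ _) ((Submodule.Quotient.restrictScalarsEquiv k I).symm
    (Submodule.Quotient.mk x)) = _
  rw [Submodule.Quotient.restrictScalarsEquiv_symm_mk, Submodule.liftQ_apply]

end LiftQ

section Act

variable {k : Type u} [Field k] {R S : Type u} [CommRing R] [CommRing S] [Algebra k R]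
  [Algebra k S]
  {M N : Type u} [AddCommGroup M] [Module R M] [Module k M] [IsScalarTower k R M]
  [AddCommGroup N] [Module S N] [Module k N] [IsScalarTower k S N]

/-- `r ↦ r • m` as a `k`-linear map -/
noncomputable def smulRight (m : M) : R →ₗ[k] M :=
  (LinearMap.toSpanSingleton R M m).restrictScalars k

theorem smulRight_apply (m : M) (r : R) : smulRight (k := k) m r = r • m := rfl

/-- `r ↦ r • m` on the quotient by an ideal killing `m` -/
noncomputable def smulBar (I : Ideal R) (m : M) (h : ∀ r ∈ I, r • m = 0) : (R ⧸ I) →ₗ[k] M :=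
  liftQk I (smulRight (k := k) m) (by
    intro r hr
    rw [LinearMap.mem_ker]
    exact h r hr)

theorem smulBar_mk (I : Ideal R) (m : M) (h : ∀ r ∈ I, r • m = 0) (r : R) :
    smulBar (k := k) I m h (Ideal.Quotient.mk I r) = r • m :=
  liftQk_mk I _ _ r

theorem smulBar_injective (I : Ideal R) (m : M) (h : ∀ r ∈ I, r • m = 0)
    (h' : ∀ r : R, r • m = 0 → r ∈ I) : Function.Injective (smulBar (k := k) I m h) := by
  rw [injective_iff_map_eq_zero]
  intro x hx
  obtain ⟨r, rfl⟩ := Ideal.Quotient.mk_surjective x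
  rw [smulBar_mk] at hx
  exact Ideal.Quotient.eq_zero_iff_mem.mpr (h' r hx)

theorem act_tmul_eq (I : Ideal R) (J : Ideal S) (m : M) (n : N) (hI : ∀ r ∈ I, r • m = 0)
    (hJ : ∀ s ∈ J, s • n = 0) (c : R ⊗[k] S) :
    GrSeg.act k R S M N c (m ⊗ₜ[k] n) =
      TensorProduct.map (smulBar (k := k) I m hI) (smulBar (k := k) J n hJ)
        (piMap (k := k) I J c) := by
  induction c with
  | zero => simp
  | tmul r s =>
    rw [GrSeg.act_tmul, piMap_tmul, TensorProduct.map_tmul, smulBar_mk, smulBar_mk]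
  | add x y hx hy => rw [map_add, LinearMap.add_apply, hx, hy, map_add, map_add]

theorem act_tmul_eq_zero_iff (p : Ideal R) (q : Ideal S) (m : M) (n : N)
    (hp : ∀ r : R, r ∈ p ↔ r • m = 0) (hq : ∀ s : S, s ∈ q ↔ s • n = 0) (c : R ⊗[k] S) :
    GrSeg.act k R S M N c (m ⊗ₜ[k] n) = 0 ↔ piMap (k := k) p q c = 0 := by
  rw [act_tmul_eq p q m n (fun r hr => (hp r).mp hr) (fun s hs => (hq s).mp hs)]
  constructor
  · intro h
    have hinj := TensorProduct.map_injective_of_flat_flat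
      (smulBar (k := k) p m (fun r hr => (hp r).mp hr))
      (smulBar (k := k) q n (fun s hs => (hq s).mp hs))
      (smulBar_injective p m _ (fun r hr => (hp r).mpr hr))
      (smulBar_injective q n _ (fun s hs => (hq s).mpr hs))
    exact hinj (h.trans (map_zero _).symm)
  · intro h
    rw [h, map_zero]

theorem act_eq_zero_of_piMap_eq_zero (I : Ideal R) (J : Ideal S)
    (hI : I ≤ Module.annihilator R M) (hJ : J ≤ Module.annihilator S N) (c : R ⊗[k] S)
    (hc : piMap (k := k) I J c = 0) (w : M ⊗[k] N) : GrSeg.act k R S M N c w = 0 := by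
  induction w with
  | zero => simp
  | tmul m n =>
    rw [act_tmul_eq I J m n (fun r hr => Module.mem_annihilator.mp (hI hr) m)
      (fun s hs => Module.mem_annihilator.mp (hJ hs) n), hc, map_zero]
  | add x y hx hy => rw [map_add, hx, hy, add_zero]

end Act

section Main

open Groth.Agent.R2.H97.Segre

theorem supportDim_segreMod (k : Type u) [Field k] (R : Type u) [CommRing R] [Algebra k R]
    (𝒜 : ℤ → Submodule k R) [GradedAlgebra 𝒜] (hposR : ∀ n : ℤ, n < 0 → 𝒜 n = ⊥)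
    (h0R : 𝒜 0 = Submodule.span k {(1 : R)}) [Algebra.FiniteType k R] (S : Type u) [CommRing S]
    [Algebra k S] (ℬ : ℤ → Submodule k S) [GradedAlgebra ℬ] (hposS : ∀ n : ℤ, n < 0 → ℬ n = ⊥)
    (h0S : ℬ 0 = Submodule.span k {(1 : S)}) [Algebra.FiniteType k S] (T : Type u) [CommRing T]
    [Algebra k T] (𝒯 : ℤ → Submodule k T) [GradedAlgebra 𝒯] (ψ : T →ₐ[k] TensorProduct k R S)
    (hT : GrSeg.IsSegreRing 𝒜 ℬ 𝒯 ψ)
    (hstdR : Ideal.span (⋃ n ∈ Set.Ioi (0 : ℤ), (𝒜 n : Set R)) =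
      Ideal.span ((𝒜 1 : Submodule k R) : Set R))
    (hstdS : Ideal.span (⋃ n ∈ Set.Ioi (0 : ℤ), (ℬ n : Set S)) =
      Ideal.span ((ℬ 1 : Submodule k S) : Set S))
    (M : Type u) [AddCommGroup M] [Module R M] [Module k M] [IsScalarTower k R M]
    (ℳ : ℤ → AddSubgroup M) [DirectSum.Decomposition ℳ] [SetLike.GradedSMul 𝒜 ℳ]
    [Module.Finite R M] (N : Type u) [AddCommGroup N] [Module S N] [Module k N]
    [IsScalarTower k S N] (𝒩 : ℤ → AddSubgroup N) [DirectSum.Decomposition 𝒩]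
    [SetLike.GradedSMul ℬ 𝒩] [Module.Finite S N] (P : Type u) [AddCommGroup P] [Module T P]
    [Module k P] [IsScalarTower k T P] (𝒬 : ℤ → AddSubgroup P) [DirectSum.Decomposition 𝒬]
    (φ : P →ₗ[k] TensorProduct k M N) (hP : GrSeg.IsSegreMod ψ ℳ 𝒩 𝒬 φ) (dM dN : ℕ)
    (hdM : Module.supportDim R M = dM) (hdN : Module.supportDim S N = dN)
    (hMA : ¬ IsArtinian R M) (hNA : ¬ IsArtinian S N) :
    Module.supportDim T P = ((dM + dN - 1 : ℕ) : WithBot ℕ∞) := by
  obtain ⟨hψ, hdegT⟩ := hT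
  haveI : IsNoetherianRing R := Algebra.FiniteType.isNoetherianRing k R
  haveI : IsNoetherianRing S := Algebra.FiniteType.isNoetherianRing k S
  set I := Module.annihilator R M with hIdef
  set J := Module.annihilator S N with hJdef
  have hI : I.IsHomogeneous 𝒜 := annihilator_isHomogeneous 𝒜 ℳ
  have hJ : J.IsHomogeneous ℬ := annihilator_isHomogeneous ℬ 𝒩
  have hdI : ringKrullDim (R ⧸ I) = dM := by
    rw [← hdM, Module.supportDim_eq_ringKrullDim_quotient_annihilator]
  have hdJ : ringKrullDim (S ⧸ J) = dN := by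
    rw [← hdN, Module.supportDim_eq_ringKrullDim_quotient_annihilator]
  have h1M : 1 ≤ dM := by
    by_contra h
    have h0 : dM = 0 := by omega
    apply hMA
    apply isArtinian_of_supportDim_le_zero
    rw [hdM, h0]
    simp
  have h1N : 1 ≤ dN := by
    by_contra h
    have h0 : dN = 0 := by omega
    apply hNA
    apply isArtinian_of_supportDim_le_zero
    rw [hdN, h0]
    simp
  apply le_antisymm
  · -- upper bound
    haveI : Module.Finite T P :=
      segre_module_finite 𝒜 ℬ ℳ 𝒩 𝒯 𝒬 ψ ⟨hψ, hdegT⟩ φ hP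
    rw [Module.supportDim_eq_ringKrullDim_quotient_annihilator]
    have hle : segreKer ψ I J ≤ Module.annihilator T P := by
      intro t ht
      rw [Module.mem_annihilator]
      intro x
      apply hP.injective
      rw [hP.map_smul, map_zero]
      exact act_eq_zero_of_piMap_eq_zero I J le_rfl le_rfl _ ht _
    calc ringKrullDim (T ⧸ Module.annihilator T P)
        ≤ ringKrullDim (T ⧸ segreKer ψ I J) :=
          ringKrullDim_le_of_surjective (Ideal.Quotient.factor hle)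
            (Ideal.Quotient.factor_surjective hle)
      _ = _ := ringKrullDim_quot_segreKer 𝒜 ℬ 𝒯 ψ hdegT hposR hposS h0R h0S hI hJ dM dN hdI hdJ
          h1M h1N
  · -- lower bound
    obtain ⟨p, hp, hpd⟩ := exists_minimalPrimes_dim_eq I dM hdI
    obtain ⟨q, hq, hqd⟩ := exists_minimalPrimes_dim_eq J dN hdJ
    haveI hpprime : p.IsPrime := hp.1.1
    haveI hqprime : q.IsPrime := hq.1.1
    have hph : p.IsHomogeneous 𝒜 := isHomogeneous_of_mem_minimalPrimes 𝒜 hI hp
    have hqh : q.IsHomogeneous ℬ := isHomogeneous_of_mem_minimalPrimes ℬ hJ hq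
    -- associated primes
    have hpass : p ∈ associatedPrimes R M :=
      Module.associatedPrimes.minimalPrimes_annihilator_subset_associatedPrimes R M hp
    have hqass : q ∈ associatedPrimes S N :=
      Module.associatedPrimes.minimalPrimes_annihilator_subset_associatedPrimes S N hq
    obtain ⟨_, m₀, hm₀⟩ := isAssociatedPrime_iff.mp hpass
    obtain ⟨_, n₀, hn₀⟩ := isAssociatedPrime_iff.mp hqass
    have hm₀' : ∀ r : R, r ∈ p ↔ r • m₀ = 0 := by
      intro r
      rw [hm₀, Submodule.mem_colon_singleton, Submodule.mem_bot]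
    have hn₀' : ∀ s : S, s ∈ q ↔ s • n₀ = 0 := by
      intro s
      rw [hn₀, Submodule.mem_colon_singleton, Submodule.mem_bot]
    obtain ⟨i, m, hmi, hm⟩ := exists_homogeneous_colon_eq 𝒜 ℳ p hph m₀ hm₀'
    obtain ⟨j, n, hnj, hn⟩ := exists_homogeneous_colon_eq ℬ 𝒩 q hqh n₀ hn₀'
    -- elements of degree one outside the primes
    have hdeg1 : ∀ {A : Type u} [CommRing A] [Algebra k A] (𝒞 : ℤ → Submodule k A)
        [GradedAlgebra 𝒞] (_ : ∀ n : ℤ, n < 0 → 𝒞 n = ⊥)
        (_ : 𝒞 0 = Submodule.span k {(1 : A)})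
        (_ : Ideal.span (⋃ n ∈ Set.Ioi (0 : ℤ), (𝒞 n : Set A)) =
          Ideal.span ((𝒞 1 : Submodule k A) : Set A))
        (P₀ : Ideal A) [P₀.IsPrime] (d : ℕ) (_ : ringKrullDim (A ⧸ P₀) = d) (_ : 1 ≤ d),
        ∃ x ∈ 𝒞 1, x ∉ P₀ := by
      intro A _ _ 𝒞 _ hpos h0 hstd P₀ _ d hd h1
      by_contra hcon
      push Not at hcon
      have hmax : P₀.IsMaximal := by
        apply isMaximal_of_forall_homog_mem 𝒞 hpos h0 P₀
        intro n a hn ha
        have h2 : a ∈ Ideal.span (⋃ n ∈ Set.Ioi (0 : ℤ), (𝒞 n : Set A)) :=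
          Ideal.subset_span (Set.mem_biUnion (Set.mem_Ioi.mpr hn) ha)
        rw [hstd] at h2
        exact (Ideal.span_le.mpr hcon) h2
      have h3 : ringKrullDim (A ⧸ P₀) = 0 :=
        ringKrullDim_eq_zero_of_isField
          ((Ideal.Quotient.maximal_ideal_iff_isField_quotient P₀).mp hmax)
      rw [hd] at h3
      have h4 : d = 0 := by exact_mod_cast h3
      omega
    obtain ⟨r₁, hr₁, hr₁p⟩ := hdeg1 𝒜 hposR h0R hstdR p dM hpd h1M
    obtain ⟨s₁, hs₁, hs₁q⟩ := hdeg1 ℬ hposS h0S hstdS q dN hqd h1N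
    -- adjust the degrees
    set d := max i j with hd
    obtain ⟨e₁, he₁⟩ : ∃ e : ℕ, (e : ℤ) = d - i :=
      ⟨(d - i).toNat, Int.toNat_of_nonneg (by have := le_max_left i j; omega)⟩
    obtain ⟨e₂, he₂⟩ : ∃ e : ℕ, (e : ℤ) = d - j :=
      ⟨(d - j).toNat, Int.toNat_of_nonneg (by have := le_max_right i j; omega)⟩
    have hshift : ∀ {A : Type u} [CommRing A] [Algebra k A] (𝒞 : ℤ → Submodule k A)
        [GradedAlgebra 𝒞] {X : Type u} [AddCommGroup X] [Module A X] (𝒳 : ℤ → AddSubgroup X)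
        [SetLike.GradedSMul 𝒞 𝒳] (P₀ : Ideal A) [P₀.IsPrime] (x : A) (_ : x ∈ 𝒞 1)
        (_ : x ∉ P₀) (i₀ : ℤ) (y : X) (_ : y ∈ 𝒳 i₀) (_ : ∀ r : A, r ∈ P₀ ↔ r • y = 0)
        (e : ℕ) (d₀ : ℤ) (_ : (e : ℤ) = d₀ - i₀),
        x ^ e • y ∈ 𝒳 d₀ ∧ ∀ r : A, r ∈ P₀ ↔ r • (x ^ e • y) = 0 := by
      intro A _ _ 𝒞 _ X _ _ 𝒳 _ P₀ hP₀ x hx hxP i₀ y hy hann e d₀ he
      constructor
      · have h1 : x ^ e ∈ 𝒞 (e • (1 : ℤ)) := SetLike.pow_mem_graded e hx
        have h2 := SetLike.GradedSMul.smul_mem (A := 𝒞) (B := 𝒳) h1 hy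
        have h3 : e • (1 : ℤ) +ᵥ i₀ = d₀ := by
          rw [vadd_eq_add, nsmul_eq_mul, mul_one]
          omega
        rwa [h3] at h2
      · intro r
        rw [← mul_smul, ← hann]
        constructor
        · intro h
          exact P₀.mul_mem_right _ h
        · intro h
          exact (hP₀.mem_or_mem h).resolve_right (fun h' => hxP (hP₀.mem_of_pow_mem _ h'))
    obtain ⟨hm'd, hm'⟩ := hshift 𝒜 ℳ p r₁ hr₁ hr₁p i m hmi hm e₁ d he₁
    obtain ⟨hn'd, hn'⟩ := hshift ℬ 𝒩 q s₁ hs₁ hs₁q j n hnj hn e₂ d he₂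
    set m' := r₁ ^ e₁ • m with hm'def
    set n' := s₁ ^ e₂ • n with hn'def
    -- the element `z`
    have hmem : m' ⊗ₜ[k] n' ∈ (GrSeg.segrePiece k ℳ 𝒩 d : Set (M ⊗[k] N)) :=
      Submodule.subset_span ⟨m', hm'd, n', hn'd, rfl⟩
    rw [← hP.image_piece d] at hmem
    obtain ⟨z, hz, hzφ⟩ := hmem
    have hann : ∀ t : T, t • z = 0 ↔ t ∈ segreKer ψ p q := by
      intro t
      rw [mem_segreKer, ← act_tmul_eq_zero_iff p q m' n' hm' hn', ← hzφ, ← hP.map_smul]
      constructor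
      · intro h
        rw [h, map_zero]
      · intro h
        exact hP.injective (h.trans (map_zero φ).symm)
    -- the embedding `T ⧸ K → P`
    let g : T →ₗ[T] P := LinearMap.toSpanSingleton T P z
    have hgker : LinearMap.ker g = segreKer ψ p q := by
      ext t
      rw [LinearMap.mem_ker, LinearMap.toSpanSingleton_apply, hann]
    let gbar : (T ⧸ segreKer ψ p q) →ₗ[T] P := Submodule.liftQ (segreKer ψ p q) g hgker.ge
    have hgbar : Function.Injective gbar := by
      rw [← LinearMap.ker_eq_bot]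
      exact Submodule.ker_liftQ_eq_bot _ _ _ hgker.le
    calc ((dM + dN - 1 : ℕ) : WithBot ℕ∞) = ringKrullDim (T ⧸ segreKer ψ p q) :=
          (ringKrullDim_quot_segreKer 𝒜 ℬ 𝒯 ψ hdegT hposR hposS h0R h0S hph hqh dM dN hpd hqd
            h1M h1N).symm
      _ = Module.supportDim T (T ⧸ segreKer ψ p q) :=
          (Module.supportDim_quotient_eq_ringKrullDim _).symm
      _ ≤ Module.supportDim T P := Module.supportDim_le_of_injective gbar hgbar

end Main

end Groth.Agent.R2.H88.SegreMod
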