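import Mathlib
import Groth.Prelude.Def_Coh
import Groth.Prelude.Def_CurvBase
import Groth.Prelude.Def_FlatMod2
import Groth.Agent.R2.H35PullTriv

/-!
# Cohomology and base change to a field extension, against flat base change (helper89)

Everything here is stated against a hypothesis `FlatBC` of the exact shape of S0034 (flat base change
over an affine base), so that the corresponding rows become one-liners once S0034 is available.

* `finrank_HH_bc`: `dim_{k'} H^i(X_{k'}, F_{k'}) = dim_k H^i(X, F)`.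
* `subsingleton_HH_bc_iff`: `H^i(X_{k'}, F_{k'}) = 0 ↔ H^i(X, F) = 0`.
* `euler_bc`, `deg_bc`.
-/

set_option autoImplicit false
set_option linter.style.haveILetI false
universe u
open CategoryTheory CategoryTheory.Limits AlgebraicGeometry TopologicalSpace Opposite

namespace Groth.Agent.R2.H89.FieldBC

/-- the statement of S0034 (flat base change over an affine base). -/
def FlatBC : Prop :=
  ∀ (A B : Type u) [CommRing A] [CommRing B] [Algebra A B] [Module.Flat A B] (X X' : Scheme.{u})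
    [X.Over (Spec (CommRingCat.of A))] [X'.Over (Spec (CommRingCat.of B))] [CompactSpace X]
    [QuasiSeparatedSpace X] (g' : X' ⟶ X)
    (_ : IsPullback g' (X' ↘ Spec (CommRingCat.of B)) (X ↘ Spec (CommRingCat.of A))
      (Spec.map (CommRingCat.ofHom (algebraMap A B))))
    (M : X.Modules) [Coh.IsQCoh M] (i : ℕ),
    Nonempty (TensorProduct A B (Coh.HH X M i) ≃ₗ[B]
      Coh.HH X' ((Scheme.Modules.pullback g').obj M) i)

variable (hbc : FlatBC.{u})
variable (k : Type u) [Field k] (X : Scheme.{u}) [X.Over (Spec (CommRingCat.of k))]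
  [CompactSpace X] [QuasiSeparatedSpace X]
  (k' : Type u) [Field k'] [Algebra k k']

include hbc

/-- `k' ⊗_k H^i(X, F) ≃ H^i(X_{k'}, F_{k'})`. -/
theorem nonempty_linearEquiv_bc (F : X.Modules) (hF : Coh.IsQCoh F) (i : ℕ) :
    letI : (Curv2.bc k X k').Over (Spec (CommRingCat.of k')) := ⟨Curv2.bcSnd k X k'⟩
    Nonempty (TensorProduct k k' (Coh.HH X F i) ≃ₗ[k']
      Coh.HH (Curv2.bc k X k') ((Scheme.Modules.pullback (Curv2.bcFst k X k')).obj F) i) := by
  letI : (Curv2.bc k X k').Over (Spec (CommRingCat.of k')) := ⟨Curv2.bcSnd k X k'⟩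
  haveI : Coh.IsQCoh F := hF
  exact hbc k k' X (Curv2.bc k X k') (Curv2.bcFst k X k') (IsPullback.of_hasPullback _ _) F i

/-- `dim_{k'} H^i(X_{k'}, F_{k'}) = dim_k H^i(X, F)`. -/
theorem finrank_HH_bc (F : X.Modules) (hF : Coh.IsQCoh F) (i : ℕ) :
    letI : (Curv2.bc k X k').Over (Spec (CommRingCat.of k')) := ⟨Curv2.bcSnd k X k'⟩
    Module.finrank k' (Coh.HH (Curv2.bc k X k')
      ((Scheme.Modules.pullback (Curv2.bcFst k X k')).obj F) i) =
      Module.finrank k (Coh.HH X F i) := by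
  letI : (Curv2.bc k X k').Over (Spec (CommRingCat.of k')) := ⟨Curv2.bcSnd k X k'⟩
  obtain ⟨e⟩ := nonempty_linearEquiv_bc hbc k X k' F hF i
  rw [← e.finrank_eq, Module.finrank_baseChange]

/-- `H^i(X_{k'}, F_{k'}) = 0 ↔ H^i(X, F) = 0`. -/
theorem subsingleton_HH_bc_iff (F : X.Modules) (hF : Coh.IsQCoh F) (i : ℕ) :
    Subsingleton (Coh.HH (Curv2.bc k X k')
      ((Scheme.Modules.pullback (Curv2.bcFst k X k')).obj F) i) ↔
      Subsingleton (Coh.HH X F i) := by
  letI : (Curv2.bc k X k').Over (Spec (CommRingCat.of k')) := ⟨Curv2.bcSnd k X k'⟩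
  obtain ⟨e⟩ := nonempty_linearEquiv_bc hbc k X k' F hF i
  rw [← e.toEquiv.subsingleton_congr]
  constructor
  · intro h
    haveI : Module.FaithfullyFlat k k' := inferInstance
    exact (Module.FaithfullyFlat.lTensor_reflects_triviality k k' (Coh.HH X F i))
  · intro h
    infer_instance

/-- `χ(X_{k'}, F_{k'}) = χ(X, F)`. -/
theorem euler_bc (F : X.Modules) (hF : Coh.IsQCoh F) :
    @Curv2.euler k' _ (Curv2.bc k X k') ⟨Curv2.bcSnd k X k'⟩
      ((Scheme.Modules.pullback (Curv2.bcFst k X k')).obj F) = Curv2.euler k X F := by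
  unfold Curv2.euler
  refine finsum_congr (fun i => ?_)
  rw [finrank_HH_bc hbc k X k' F hF i]

/-- `deg(E_{k'}) = deg(E)` (with `deg E = χ(E) - n χ(O)`). -/
theorem deg_bc (E : X.Modules) (hE : Coh.IsQCoh E) (hO : Coh.IsQCoh (Coh.structureModule X))
    (n : ℕ) :
    @Curv2.deg k' _ (Curv2.bc k X k') ⟨Curv2.bcSnd k X k'⟩
      ((Scheme.Modules.pullback (Curv2.bcFst k X k')).obj E) n = Curv2.deg k X E n := by
  letI : (Curv2.bc k X k').Over (Spec (CommRingCat.of k')) := ⟨Curv2.bcSnd k X k'⟩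
  unfold Curv2.deg
  rw [euler_bc hbc k X k' E hE, ← euler_bc hbc k X k' (Coh.structureModule X) hO]
  congr 2
  unfold Curv2.euler
  refine finsum_congr (fun i => ?_)
  rw [Groth.Agent.R2.H35.PullTriv.finrank_HH_eq_of_iso k' (Curv2.bc k X k')
    (Groth.Agent.Lib.Helper23.PB.pullbackUnitIso (Curv2.bcFst k X k')) i]

end Groth.Agent.R2.H89.FieldBC
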