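import Mathlib
import Groth.Prelude.Def_Coh
import Groth.Prelude.Def_CurvBase

/-!
# Global functions and base change to a field extension (helper89)

For `X` quasi-compact and quasi-separated over a field `k` and a field extension `k'/k`:
`Γ(X_{k'}, O) = k' ⊗_k Γ(X, O)` (Mathlib's flat base change of sections), in the form of an
`Algebra.IsPushout`, and the resulting equality of dimensions.
-/

set_option autoImplicit false
set_option linter.style.haveILetI false
universe u
open CategoryTheory CategoryTheory.Limits AlgebraicGeometry TopologicalSpace Opposite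

namespace Groth.Agent.R2.H89.GammaBC

variable (k : Type u) [Field k] (X : Scheme.{u}) [X.Over (Spec (CommRingCat.of k))]
  (k' : Type u) [Field k'] [Algebra k k']

/-- the ring map `A → Γ(X, O_X)` of a scheme over `Spec A` (as in `toΓ`, with values in the
commutative ring `Γ(X, ⊤)`). -/
noncomputable abbrev toΓ {A : Type u} [CommRing A] {X : Scheme.{u}}
    (f : X ⟶ Spec (CommRingCat.of A)) : A →+* Γ(X, ⊤) :=
  f.appTop.hom.comp (Scheme.ΓSpecIso (CommRingCat.of A)).inv.hom

lemma appLE_top {X Y : Scheme.{u}} (f : X ⟶ Y) (h : (⊤ : X.Opens) ≤ f ⁻¹ᵁ ⊤) :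
    f.appLE ⊤ ⊤ h = f.appTop := by
  simp [Scheme.Hom.appLE, Scheme.Hom.appTop]
  try erw [Category.comp_id]

/-- the categorical pushout square of global sections. -/
theorem isPushout_appTop [CompactSpace X] [QuasiSeparatedSpace X] :
    IsPushout (CommRingCat.ofHom (toΓ (X ↘ Spec (CommRingCat.of k))))
      (CommRingCat.ofHom (algebraMap k k'))
      (Curv2.bcFst k X k').appTop
      (CommRingCat.ofHom (toΓ (Curv2.bcSnd k X k'))) := by
  have H := IsPullback.of_hasPullback (X ↘ Spec (CommRingCat.of k))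
    (Spec.map (CommRingCat.ofHom (algebraMap k k')))
  haveI : Flat (Spec.map (CommRingCat.ofHom (algebraMap k k'))) := by
    rw [HasRingHomProperty.Spec_iff (P := @Flat)]
    exact (RingHom.flat_algebraMap_iff).2 inferInstance
  have hUST : (⊤ : (Spec (CommRingCat.of k')).Opens) ≤
      (Spec.map (CommRingCat.ofHom (algebraMap k k'))) ⁻¹ᵁ (⊤ : (Spec (CommRingCat.of k)).Opens) := by
    simp
  have hUSX : (⊤ : X.Opens) ≤ (X ↘ Spec (CommRingCat.of k)) ⁻¹ᵁ (⊤ : (Spec (CommRingCat.of k)).Opens) := by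
    simp
  have hUY : (⊤ : (Curv2.bc k X k').Opens) = (Curv2.bcFst k X k') ⁻¹ᵁ (⊤ : X.Opens) ⊓
      (Curv2.bcSnd k X k') ⁻¹ᵁ (⊤ : (Spec (CommRingCat.of k')).Opens) := by
    simp
  have hiso : IsIso (pushoutSection H hUST hUSX hUY) :=
    isIso_pushoutSection_of_isQuasiSeparated_of_flat_right H hUST hUSX hUY
      (isAffineOpen_top _) (isAffineOpen_top _) (CompactSpace.isCompact_univ)
      (isQuasiSeparated_univ)
  have hpo := (isIso_pushoutSection_iff H hUST hUSX hUY).1 hiso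
  refine hpo.of_iso (Scheme.ΓSpecIso (CommRingCat.of k)) (Iso.refl _)
    (Scheme.ΓSpecIso (CommRingCat.of k')) (Iso.refl _) ?_ ?_ ?_ ?_
  · rw [appLE_top, Iso.refl_hom, Category.comp_id]
    ext x
    simp [toΓ]
  · rw [appLE_top]
    exact Scheme.ΓSpecIso_naturality _
  · rw [appLE_top, Iso.refl_hom, Iso.refl_hom, Category.comp_id, Category.id_comp]
  · rw [appLE_top, Iso.refl_hom, Category.comp_id]
    ext x
    simp [toΓ]

open TensorProduct in
/-- `k' ⊗_k Γ(X, O) ≃ Γ(X_{k'}, O)` as rings, compatibly with the two structure maps. -/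
theorem exists_ringEquiv [CompactSpace X] [QuasiSeparatedSpace X] :
    letI : Algebra k Γ(X, ⊤) := (toΓ (X ↘ Spec (CommRingCat.of k))).toAlgebra
    ∃ e : (k' ⊗[k] Γ(X, ⊤)) ≃+* Γ(Curv2.bc k X k', ⊤),
      (∀ a : k', e (a ⊗ₜ 1) = toΓ (Curv2.bcSnd k X k') a) ∧
      (∀ x : Γ(X, ⊤), e (1 ⊗ₜ x) = (Curv2.bcFst k X k').appTop.hom x) := by
  letI : Algebra k Γ(X, ⊤) := (toΓ (X ↘ Spec (CommRingCat.of k))).toAlgebra
  have hpo := (isPushout_appTop k X k').flip
  have htp := CommRingCat.isPushout_tensorProduct k k' Γ(X, ⊤)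
  refine ⟨(htp.isoPushout ≪≫ hpo.isoPushout.symm).commRingCatIsoToRingEquiv, ?_, ?_⟩
  · intro a
    have h2 : htp.isoPushout.hom (a ⊗ₜ 1) = (pushout.inl _ _ : _ ⟶ pushout
        (CommRingCat.ofHom (algebraMap k k')) (CommRingCat.ofHom (algebraMap k Γ(X, ⊤)))) a :=
      congr($(htp.inl_isoPushout_hom).hom a)
    have h3 := congr($(hpo.inl_isoPushout_inv) a)
    simp only [CommRingCat.hom_comp, RingHom.coe_comp, Function.comp_apply,
      CommRingCat.hom_ofHom] at h3
    change (CommRingCat.Hom.hom hpo.isoPushout.inv)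
      ((CommRingCat.Hom.hom htp.isoPushout.hom) (a ⊗ₜ 1)) = _
    exact (congrArg (CommRingCat.Hom.hom hpo.isoPushout.inv) h2).trans h3
  · intro x
    have h2 : htp.isoPushout.hom (1 ⊗ₜ x) = (pushout.inr _ _ : _ ⟶ pushout
        (CommRingCat.ofHom (algebraMap k k')) (CommRingCat.ofHom (algebraMap k Γ(X, ⊤)))) x :=
      congr($(htp.inr_isoPushout_hom).hom x)
    have h3 := congr($(hpo.inr_isoPushout_inv) x)
    simp only [CommRingCat.hom_comp, RingHom.coe_comp, Function.comp_apply] at h3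
    change (CommRingCat.Hom.hom hpo.isoPushout.inv)
      ((CommRingCat.Hom.hom htp.isoPushout.hom) (1 ⊗ₜ x)) = _
    exact (congrArg (CommRingCat.Hom.hom hpo.isoPushout.inv) h2).trans h3

open TensorProduct in
/-- `k' ⊗_k Γ(X, O) ≃ₗ[k'] Γ(X_{k'}, O)`. -/
theorem nonempty_linearEquiv [CompactSpace X] [QuasiSeparatedSpace X] :
    letI : Algebra k Γ(X, ⊤) := (toΓ (X ↘ Spec (CommRingCat.of k))).toAlgebra
    letI : Algebra k' Γ(Curv2.bc k X k', ⊤) := (toΓ (Curv2.bcSnd k X k')).toAlgebra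
    Nonempty ((k' ⊗[k] Γ(X, ⊤)) ≃ₗ[k'] Γ(Curv2.bc k X k', ⊤)) := by
  letI : Algebra k Γ(X, ⊤) := (toΓ (X ↘ Spec (CommRingCat.of k))).toAlgebra
  letI : Algebra k' Γ(Curv2.bc k X k', ⊤) := (toΓ (Curv2.bcSnd k X k')).toAlgebra
  obtain ⟨e, he1, -⟩ := exists_ringEquiv k X k'
  exact ⟨{ e with
      map_smul' := fun a t => by
        change e (a • t) = toΓ (Curv2.bcSnd k X k') a * e t
        have : a • t = (a ⊗ₜ[k] (1 : Γ(X, ⊤))) * t := by
          induction t using TensorProduct.induction_on with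
          | zero => simp
          | tmul b x => simp [TensorProduct.smul_tmul', Algebra.TensorProduct.tmul_mul_tmul]
          | add t₁ t₂ h₁ h₂ => rw [smul_add, mul_add, h₁, h₂]
        rw [this, map_mul, he1] }⟩

open TensorProduct in
/-- `dim_{k'} Γ(X_{k'}, O) = dim_k Γ(X, O)`. -/
theorem finrank_Γ_bc [CompactSpace X] [QuasiSeparatedSpace X] :
    letI : Algebra k Γ(X, ⊤) := (toΓ (X ↘ Spec (CommRingCat.of k))).toAlgebra
    letI : Algebra k' Γ(Curv2.bc k X k', ⊤) := (toΓ (Curv2.bcSnd k X k')).toAlgebra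
    Module.finrank k' Γ(Curv2.bc k X k', ⊤) = Module.finrank k Γ(X, ⊤) := by
  letI : Algebra k Γ(X, ⊤) := (toΓ (X ↘ Spec (CommRingCat.of k))).toAlgebra
  letI : Algebra k' Γ(Curv2.bc k X k', ⊤) := (toΓ (Curv2.bcSnd k X k')).toAlgebra
  obtain ⟨e'⟩ := nonempty_linearEquiv k X k'
  rw [← e'.finrank_eq, Module.finrank_baseChange]

end Groth.Agent.R2.H89.GammaBC
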