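import Mathlib

/-!
# Separability / pure inseparability of a finite field extension from `L ⊗_k K` (helper89)

`L` an algebraically closed field containing `k`, `K/k` an algebraic field extension:
* `isSeparable_of_isReduced`: if `L ⊗_k K` is reduced then `K/k` is separable;
* `isPurelyInseparable_of_primeSpectrum_subsingleton`: if `L ⊗_k K` has at most one prime ideal then
  `K/k` is purely inseparable.
-/

set_option autoImplicit false
set_option linter.style.haveILetI false
universe u
open TensorProduct Polynomial

namespace Groth.Agent.R2.H89.SepLemma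

variable {k K L : Type*} [Field k] [Field K] [Algebra k K] [Field L] [Algebra k L] [IsAlgClosed L]

omit [IsAlgClosed L] in
/-- two `k`-embeddings of `K` into `L` agree if `L ⊗_k K` has at most one prime ideal. -/
theorem algHom_subsingleton_of_primeSpectrum_subsingleton
    (h : Subsingleton (PrimeSpectrum (L ⊗[k] K))) : Subsingleton (K →ₐ[k] L) := by
  refine ⟨fun σ τ => ?_⟩
  let σ' : L ⊗[k] K →ₐ[L] L := Algebra.TensorProduct.lift (AlgHom.id L L) σ (fun _ _ => mul_comm _ _)
  let τ' : L ⊗[k] K →ₐ[L] L := Algebra.TensorProduct.lift (AlgHom.id L L) τ (fun _ _ => mul_comm _ _)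
  have hσ : (RingHom.ker σ'.toRingHom).IsPrime := RingHom.ker_isPrime _
  have hτ : (RingHom.ker τ'.toRingHom).IsPrime := RingHom.ker_isPrime _
  have hker : RingHom.ker σ'.toRingHom = RingHom.ker τ'.toRingHom :=
    congrArg PrimeSpectrum.asIdeal (Subsingleton.elim (⟨_, hσ⟩ : PrimeSpectrum (L ⊗[k] K)) ⟨_, hτ⟩)
  have key : ∀ t, σ' t = τ' t := by
    intro t
    have h1 : t - algebraMap L (L ⊗[k] K) (σ' t) ∈ RingHom.ker σ'.toRingHom := by
      rw [RingHom.mem_ker]
      change σ' (t - algebraMap L (L ⊗[k] K) (σ' t)) = 0
      rw [map_sub, AlgHom.commutes]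
      exact sub_self _
    rw [hker, RingHom.mem_ker] at h1
    have h2 : τ' (t - algebraMap L (L ⊗[k] K) (σ' t)) = 0 := h1
    rw [map_sub, AlgHom.commutes] at h2
    exact (sub_eq_zero.1 h2).symm
  ext x
  have := key (1 ⊗ₜ x)
  simpa [σ', τ'] using this

/-- `K/k` algebraic and `L ⊗_k K` with at most one prime ideal: `K/k` is purely inseparable. -/
theorem isPurelyInseparable_of_primeSpectrum_subsingleton [Algebra.IsAlgebraic k K]
    (h : Subsingleton (PrimeSpectrum (L ⊗[k] K))) : IsPurelyInseparable k K := by
  haveI := algHom_subsingleton_of_primeSpectrum_subsingleton (k := k) (K := K) (L := L) h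
  have h1 : Field.finSepDegree k K = 1 := by
    rw [Field.finSepDegree_eq_of_isAlgClosed k K L]
    haveI : Nonempty (K →ₐ[k] L) := ⟨IsAlgClosed.lift⟩
    exact Nat.card_unique
  exact isPurelyInseparable_of_finSepDegree_eq_one h1

/-- `K/k` algebraic and `L ⊗_k K` reduced (`L` an algebraically closed extension of `k`): `K/k` is
separable. -/
theorem isSeparable_of_isReduced [Algebra.IsAlgebraic k K] (h : IsReduced (L ⊗[k] K)) :
    Algebra.IsSeparable k K := by
  classical
  refine ⟨fun x => ?_⟩
  have hint : IsIntegral k x := Algebra.IsIntegral.isIntegral x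
  have hirr : Irreducible (minpoly k x) := minpoly.irreducible hint
  obtain ⟨q, hq⟩ := CharP.exists k
  rcases Polynomial.separable_or q hirr with hs | ⟨hns, g, -, hg⟩
  · exact hs
  exfalso
  -- `q` is prime
  have hq0 : q ≠ 0 := by
    rintro rfl
    haveI := CharP.charP_to_charZero k
    exact hns hirr.separable
  have hqp : q.Prime := (CharP.char_is_prime_or_zero k q).resolve_right hq0
  haveI : Fact q.Prime := ⟨hqp⟩
  haveI : CharP L q := charP_of_injective_algebraMap (algebraMap k L).injective q
  haveI : ExpChar L q := ExpChar.prime hqp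
  haveI : PerfectRing L q := PerfectField.toPerfectRing q
  set f := minpoly k x with hf
  -- the `q`-th root of `f` over `L`
  let gL : L[X] := g.map (algebraMap k L)
  let hh : L[X] := gL.map ((frobeniusEquiv L q).symm : L →+* L)
  have h1 : hh.map (frobenius L q) = gL := by
    change (gL.map _).map _ = gL
    rw [Polynomial.map_map]
    have : (frobenius L q).comp ((frobeniusEquiv L q).symm : L →+* L) = RingHom.id L := by
      ext a
      simp
    rw [this, Polynomial.map_id]
  have hpow : hh ^ q = f.map (algebraMap k L) := by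
    rw [← map_frobenius_expand q hh, Polynomial.map_expand, h1, ← hg, Polynomial.map_expand]
  -- degrees
  have hdeg : hh.natDegree < f.natDegree := by
    have h1 : (hh ^ q).natDegree = q * hh.natDegree := natDegree_pow _ _
    rw [hpow, natDegree_map] at h1
    have h2 : 0 < f.natDegree := minpoly.natDegree_pos hint
    have h3 : 2 ≤ q := hqp.two_le
    nlinarith
  -- evaluation at `1 ⊗ x`
  let y : L ⊗[k] K := (1 : L) ⊗ₜ[k] x
  have hy : aeval y (f.map (algebraMap k L)) = 0 := by
    rw [aeval_map_algebraMap]
    have : y = (Algebra.TensorProduct.includeRight : K →ₐ[k] L ⊗[k] K) x := rfl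
    rw [this, aeval_algHom_apply, hf, minpoly.aeval, map_zero]
  have hy0 : aeval y hh = 0 := by
    have : (aeval y hh) ^ q = 0 := by rw [← map_pow, hpow, hy]
    exact IsReduced.eq_zero _ ⟨q, this⟩
  -- linear independence of the powers of `1 ⊗ x`
  have hli : LinearIndependent L (fun i : Fin f.natDegree => (1 : L) ⊗ₜ[k] (x ^ (i : ℕ))) :=
    Module.Flat.linearIndependent_one_tmul (S := L) (linearIndependent_pow x)
  rw [aeval_eq_sum_range' hdeg, Finset.sum_range] at hy0
  have hc : ∀ i : Fin f.natDegree, hh.coeff i = 0 := by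
    have := Fintype.linearIndependent_iff.1 hli (fun i => hh.coeff i) (by
      rw [← hy0]
      refine Finset.sum_congr rfl (fun i _ => ?_)
      rw [Algebra.TensorProduct.tmul_pow, one_pow])
    exact this
  have hh0 : hh = 0 := by
    ext i
    rw [coeff_zero]
    by_cases hi : i < f.natDegree
    · exact hc ⟨i, hi⟩
    · exact coeff_eq_zero_of_natDegree_lt (by omega)
  have : f.map (algebraMap k L) = 0 := by rw [← hpow, hh0, zero_pow hq0]
  have hf0 : f = 0 := (Polynomial.map_eq_zero _).1 this
  exact minpoly.ne_zero hint hf0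

end Groth.Agent.R2.H89.SepLemma
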