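import Mathlib
import Groth.Prelude.Def_Coh
import Groth.Prelude.Def_CurvBase
import Groth.Agent.R2.H89GammaBC
import Groth.Agent.R2.H89SepLemma

/-!
# Separability of the field of global functions (helper89)

`X` quasi-compact quasi-separated over a field `k` with `K = Γ(X, O_X)` a field, finite over `k`:
* `isSeparable_Γ`: if `X` is geometrically reduced over `k`, then `K/k` is separable;
* `isPurelyInseparable_Γ`: if `X` is geometrically irreducible over `k`, then `K/k` is purely
  inseparable.
-/

set_option autoImplicit false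
set_option linter.style.haveILetI false
universe u
open CategoryTheory CategoryTheory.Limits AlgebraicGeometry TopologicalSpace Opposite TensorProduct

namespace Groth.Agent.R2.H89.GammaGeom

open Groth.Agent.R2.H89.GammaBC

variable (k : Type u) [Field k] (X : Scheme.{u}) [X.Over (Spec (CommRingCat.of k))]
  [CompactSpace X] [QuasiSeparatedSpace X]

/-- `Γ(X, O_X)` is separable over `k` for `X` geometrically reduced. -/
theorem isSeparable_Γ (hK : IsField Γ(X, ⊤))
    (hfin : letI : Algebra k Γ(X, ⊤) := (toΓ (X ↘ Spec (CommRingCat.of k))).toAlgebra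
      Module.Finite k Γ(X, ⊤))
    [GeometricallyReduced (X ↘ Spec (CommRingCat.of k))] :
    letI : Algebra k Γ(X, ⊤) := (toΓ (X ↘ Spec (CommRingCat.of k))).toAlgebra
    Algebra.IsSeparable k Γ(X, ⊤) := by
  letI : Algebra k Γ(X, ⊤) := (toΓ (X ↘ Spec (CommRingCat.of k))).toAlgebra
  haveI : IsReduced (Curv2.bc k X (AlgebraicClosure k)) :=
    GeometricallyReduced.geometrically_isReduced (f := X ↘ Spec (CommRingCat.of k)) _ _ _
      (IsPullback.of_hasPullback _ _)
  obtain ⟨e, -, -⟩ := exists_ringEquiv k X (AlgebraicClosure k)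
  have hred : IsReduced (AlgebraicClosure k ⊗[k] Γ(X, ⊤)) :=
    isReduced_of_injective e.toRingHom e.injective
  letI := hK.toField
  haveI : Algebra.IsAlgebraic k Γ(X, ⊤) := Algebra.IsAlgebraic.of_finite k _
  exact Groth.Agent.R2.H89.SepLemma.isSeparable_of_isReduced (L := AlgebraicClosure k) hred

/-- `Γ(X, O_X)` is purely inseparable over `k` for `X` geometrically irreducible. -/
theorem isPurelyInseparable_Γ (hK : IsField Γ(X, ⊤))
    (hfin : letI : Algebra k Γ(X, ⊤) := (toΓ (X ↘ Spec (CommRingCat.of k))).toAlgebra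
      Module.Finite k Γ(X, ⊤))
    [GeometricallyIrreducible (X ↘ Spec (CommRingCat.of k))] :
    letI : Algebra k Γ(X, ⊤) := (toΓ (X ↘ Spec (CommRingCat.of k))).toAlgebra
    IsPurelyInseparable k Γ(X, ⊤) := by
  letI : Algebra k Γ(X, ⊤) := (toΓ (X ↘ Spec (CommRingCat.of k))).toAlgebra
  haveI : IrreducibleSpace (Curv2.bc k X (AlgebraicClosure k)) :=
    GeometricallyIrreducible.geometrically_irreducibleSpace (f := X ↘ Spec (CommRingCat.of k)) _ _ _
      (IsPullback.of_hasPullback _ _)
  haveI : CompactSpace (Curv2.bc k X (AlgebraicClosure k)) :=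
    QuasiCompact.compactSpace_of_compactSpace (Curv2.bcSnd k X (AlgebraicClosure k))
  obtain ⟨e, -, -⟩ := exists_ringEquiv k X (AlgebraicClosure k)
  -- `Spec Γ(Y)` is irreducible
  have hdense : DenseRange (Curv2.bc k X (AlgebraicClosure k)).toSpecΓ :=
    (inferInstance : IsDominant (Curv2.bc k X (AlgebraicClosure k)).toSpecΓ).denseRange
  have h1 : IsIrreducible (Set.range (Curv2.bc k X (AlgebraicClosure k)).toSpecΓ) := by
    rw [← Set.image_univ]
    exact (IrreducibleSpace.isIrreducible_univ _).image _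
      (Curv2.bc k X (AlgebraicClosure k)).toSpecΓ.continuous.continuousOn
  have h2 : IsIrreducible (Set.univ : Set (Spec Γ(Curv2.bc k X (AlgebraicClosure k), ⊤))) := by
    rw [← hdense.closure_eq]
    exact h1.closure
  -- `Γ(Y)` is Artinian, so its spectrum is discrete
  haveI : IsArtinianRing (AlgebraicClosure k ⊗[k] Γ(X, ⊤)) :=
    IsArtinianRing.of_finite (AlgebraicClosure k) _
  haveI : IsArtinianRing Γ(Curv2.bc k X (AlgebraicClosure k), ⊤) :=
    e.surjective.isArtinianRing
  haveI hdisc : DiscreteTopology (PrimeSpectrum Γ(Curv2.bc k X (AlgebraicClosure k), ⊤)) :=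
    inferInstance
  haveI : T2Space (PrimeSpectrum Γ(Curv2.bc k X (AlgebraicClosure k), ⊤)) := inferInstance
  have hsub : Subsingleton (PrimeSpectrum Γ(Curv2.bc k X (AlgebraicClosure k), ⊤)) := by
    have h2' : IsPreirreducible
        (Set.univ : Set (PrimeSpectrum Γ(Curv2.bc k X (AlgebraicClosure k), ⊤))) :=
      h2.isPreirreducible
    have h3 : (Set.univ : Set (PrimeSpectrum Γ(Curv2.bc k X (AlgebraicClosure k), ⊤))).Subsingleton :=
      isPreirreducible_iff_subsingleton.1 h2'
    exact ⟨fun a b => h3 (Set.mem_univ a) (Set.mem_univ b)⟩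
  have hsub' : Subsingleton (PrimeSpectrum (AlgebraicClosure k ⊗[k] Γ(X, ⊤))) :=
    (PrimeSpectrum.comapEquiv e).toEquiv.subsingleton
  letI := hK.toField
  haveI : Algebra.IsAlgebraic k Γ(X, ⊤) := Algebra.IsAlgebraic.of_finite k _
  exact Groth.Agent.R2.H89.SepLemma.isPurelyInseparable_of_primeSpectrum_subsingleton
    (L := AlgebraicClosure k) hsub'

end Groth.Agent.R2.H89.GammaGeom
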