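import Mathlib
import Groth.Agent.Lib.Helper12OpenSub
import Groth.Agent.Lib.Helper12OpenSub2
import Groth.Agent.R2.H48ClosedSub

/-!
# Subspaces of an algebraic space from invariant immersions into a chart (helper89)

Namespace `Groth.Agent.R2.H89.InvImm`.

Given a presentation `(U, R, s, t, p)` of a sheaf `X` and an immersion `i' : Z' ⟶ U` whose inverse
images under `s` and `t` agree (as subschemes of `R`), we construct the locally closed subspace of `X`
whose inverse image in `U` is `Z'`: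
* `exists_subspace_general`: closed subspace (helper48's `R2/H48ClosedSub`) of the open subspace
  (Lib `Helper12OpenSub`) on the image of the coborder of `Z'`;
* `exists_subspace_open`: for an open immersion, the open subspace on the image of `Z'`.
Auxiliary: `exists_isPullback_open` (base change of an open subsheaf to a scheme),
`repWith_isClosedImmersion_incl` (clopen subsheaf), `exists_rel_point`,
`preimage_image_eq_of_invariant`, `coborder_invariant`, `range_fst_of_isPullback`, `invariant_ker`,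
`exists_iso_ZU`, `exists_iso_opn`.
-/

set_option autoImplicit false
universe u
open CategoryTheory CategoryTheory.Limits AlgebraicGeometry Opposite
open AlgSp

namespace Groth.Agent.R2.H89.InvImm

open Groth.Agent.S13210 Groth.Agent.Lib.Helper12 Groth.Agent.R2.H48

variable {S : Scheme.{u}}

/-- The open subscheme `V` of `T` as an object over `S`. -/
noncomputable abbrev opn (T : Over S) (V : T.left.Opens) : Over S := Over.mk (V.ι ≫ T.hom)

/-- The inclusion of the open subscheme over `S`. -/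
noncomputable abbrev opnι (T : Over S) (V : T.left.Opens) : opn T V ⟶ T := Over.homMk V.ι rfl

/-- the base change of an open subsheaf to a scheme is the corresponding open subscheme. -/
lemma exists_isPullback_open {X : AlgSp.Sp S} (W : Set (AlgSp.Points X))
    {T : Over S} (g : (AlgSp.yon S).obj T ⟶ X) (V : T.left.Opens)
    (hV : (V : Set ↥T.left) = AlgSp.Points.ofPt g ⁻¹' W) :
    ∃ a' : (AlgSp.yon S).obj (opn T V) ⟶ OpenSub.obj X W,
      IsPullback a' ((AlgSp.yon S).map (opnι T V)) (OpenSub.incl X W) g := by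
  have hmem : ∀ t : ↥T.left, t ∈ V ↔ AlgSp.Points.ofPt g t ∈ W := by
    intro t
    have : t ∈ (V : Set ↥T.left) ↔ t ∈ AlgSp.Points.ofPt g ⁻¹' W := by rw [hV]
    exact this
  have hfac : ∀ t : ↥(opn T V).left,
      AlgSp.Points.ofPt ((AlgSp.yon S).map (opnι T V) ≫ g) t ∈ W := by
    intro t
    rw [Groth.Agent.S10509.ofPt_yon_map_comp]
    have h3 : V.ι t ∈ V := by
      have h := V.range_ι
      have h2 : V.ι t ∈ Set.range V.ι := ⟨t, rfl⟩
      rw [h] at h2; exact h2
    exact (hmem _).1 h3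
  obtain ⟨a', ha'⟩ := (OpenSub.factor_iff W _).2 hfac
  refine ⟨a', ?_⟩
  apply isPullback_of_yon ha'
  intro T'' b c hbc
  obtain ⟨c₀, rfl⟩ := (AlgSp.yon S).map_surjective c
  have hc : ∀ t : ↥T''.left, c₀.left t ∈ V := by
    intro t
    have h := (OpenSub.factor_iff W (b ≫ OpenSub.incl X W)).1 ⟨b, rfl⟩ t
    rw [hbc, Groth.Agent.S10509.ofPt_yon_map_comp] at h
    exact (hmem _).2 h
  have hrange : Set.range c₀.left ⊆ Set.range V.ι := by
    rw [V.range_ι]; rintro _ ⟨t, rfl⟩; exact hc t
  let d₀ : T''.left ⟶ V.toScheme := IsOpenImmersion.lift V.ι c₀.left hrange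
  have hd₀ : d₀ ≫ V.ι = c₀.left := IsOpenImmersion.lift_fac _ _ _
  let d : T'' ⟶ opn T V := Over.homMk d₀ (by
    show d₀ ≫ V.ι ≫ T.hom = T''.hom
    rw [← Category.assoc, hd₀]; exact Over.w c₀)
  have hdι : d ≫ opnι T V = c₀ := by ext1; exact hd₀
  refine ⟨(AlgSp.yon S).map d, ⟨?_, ?_⟩, ?_⟩
  · rw [← cancel_mono (OpenSub.incl X W), Category.assoc, ha', ← Category.assoc,
      ← Functor.map_comp, hdι, hbc]
  · rw [← Functor.map_comp, hdι]
  · rintro a ⟨-, ha2⟩
    obtain ⟨a₀, rfl⟩ := (AlgSp.yon S).map_surjective a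
    rw [← Functor.map_comp] at ha2
    have h := (AlgSp.yon S).map_injective ha2
    congr 1
    ext1
    rw [← cancel_mono V.ι]
    have h4 : a₀.left ≫ V.ι = c₀.left := congrArg (fun m => m.left) h
    rw [h4]; exact hd₀.symm

/-- an open subsheaf on a clopen set of points is also a closed subsheaf. -/
lemma repWith_isClosedImmersion_incl {X : AlgSp.Sp S} {W : Set (AlgSp.Points X)}
    (hW : IsOpen W) (hWc : IsClosed W) :
    AlgSp.RepWith @IsClosedImmersion (OpenSub.incl X W) := by
  apply MorphismProperty.relative.of_exists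
  intro T g
  let V : T.left.Opens := ⟨AlgSp.Points.ofPt g ⁻¹' W, hW.preimage (AlgSp.Points.continuous_ofPt g)⟩
  obtain ⟨a', sq⟩ := exists_isPullback_open W g V rfl
  refine ⟨opn T V, a', opnι T V, sq, ?_⟩
  show IsClosedImmersion V.ι
  refine IsClosedImmersion.of_isPreimmersion _ ?_
  rw [V.range_ι]
  exact hWc.preimage (AlgSp.Points.continuous_ofPt g)

/-- two points of a chart with the same image come from a point of the relation. -/
lemma exists_rel_point {X : AlgSp.Sp S} {R U : Over S} {s t : R ⟶ U}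
    {p : (AlgSp.yon S).obj U ⟶ X} (hp : AlgSp.IsPresentation s t p) (u v : ↥U.left)
    (h : AlgSp.Points.ofPt p u = AlgSp.Points.ofPt p v) :
    ∃ r : ↥R.left, t.left r = u ∧ s.left r = v := by
  have e : AlgSp.Points.map p (AlgSp.Points.schemeHomeo U u) =
      AlgSp.Points.map p (AlgSp.Points.schemeHomeo U v) := by
    have h1 : ∀ w : ↥U.left, AlgSp.Points.map p (AlgSp.Points.schemeHomeo U w) =
        AlgSp.Points.ofPt p w := fun w => (AlgSp.Points.ofPt_eq_map_ofScheme p w).symm
    rw [h1, h1, h]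
  obtain ⟨y, hy1, hy2⟩ := Groth.Agent.S10175.exists_point_of_isPullback hp.isPullback _ _ e
  obtain ⟨r, rfl⟩ := (AlgSp.Points.schemeHomeo R).surjective y
  refine ⟨r, ?_, ?_⟩
  · apply (AlgSp.Points.schemeHomeo U).injective
    rw [← AlgSp.Points.map_yon_map_apply]
    exact hy1
  · apply (AlgSp.Points.schemeHomeo U).injective
    rw [← AlgSp.Points.map_yon_map_apply]
    exact hy2

/-- a subset of the chart with the same inverse image under `s` and `t` is saturated. -/
lemma preimage_image_eq_of_invariant {X : AlgSp.Sp S} {R U : Over S} {s t : R ⟶ U}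
    {p : (AlgSp.yon S).obj U ⟶ X} (hp : AlgSp.IsPresentation s t p) (A : Set ↥U.left)
    (hA : s.left ⁻¹' A = t.left ⁻¹' A) :
    AlgSp.Points.ofPt p ⁻¹' (AlgSp.Points.ofPt p '' A) = A := by
  refine subset_antisymm ?_ (Set.subset_preimage_image _ _)
  rintro u ⟨v, hv, hvu⟩
  obtain ⟨r, hr1, hr2⟩ := exists_rel_point hp u v hvu.symm
  have h1 : r ∈ s.left ⁻¹' A := by
    change s.left r ∈ A
    rw [hr2]; exact hv
  rw [hA] at h1
  have h2 : t.left r ∈ A := h1
  rwa [hr1] at h2

/-- the coborder of an invariant subset is invariant. -/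
lemma coborder_invariant {R U : Scheme.{u}} (s t : R ⟶ U) [Etale s] [Etale t]
    (A : Set ↥U) (hA : s ⁻¹' A = t ⁻¹' A) : s ⁻¹' (coborder A) = t ⁻¹' (coborder A) := by
  rw [← coborder_preimage s.isOpenMap s.continuous, ← coborder_preimage t.isOpenMap t.continuous,
    hA]

/-- the range of the first projection of a pullback square of schemes. -/
lemma range_fst_of_isPullback {P A B C : Scheme.{u}} {fst : P ⟶ A} {snd : P ⟶ B} {f : A ⟶ C}
    {g : B ⟶ C} (h : IsPullback fst snd f g) : Set.range fst = f ⁻¹' Set.range g := by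
  rw [← Scheme.Pullback.range_fst, ← h.isoPullback_hom_fst]
  ext a
  constructor
  · rintro ⟨x, rfl⟩
    exact ⟨h.isoPullback.hom x, rfl⟩
  · rintro ⟨y, rfl⟩
    refine ⟨h.isoPullback.inv y, ?_⟩
    rw [← Scheme.Hom.comp_apply, ← Category.assoc, Iso.inv_hom_id, Category.id_comp]

/-- the ideal of an invariant closed subscheme of an invariant open of the chart is invariant. -/
lemma invariant_ker {X : AlgSp.Sp S} {R U : Over S} {s t : R ⟶ U}
    {p : (AlgSp.yon S).obj U ⟶ X} (hp : AlgSp.IsPresentation s t p) (V : U.left.Opens)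
    {X₀ : AlgSp.Sp S} (j : X₀ ⟶ X) (pV : (AlgSp.yon S).obj (opn U V) ⟶ X₀)
    (hsq : pV ≫ j = (AlgSp.yon S).map (opnι U V) ≫ p)
    {Z' R' : Scheme.{u}} (c : Z' ⟶ V.toScheme) [IsClosedImmersion c] (k : R' ⟶ R.left)
    (s' t' : R' ⟶ Z') (hs : IsPullback k s' s.left (c ≫ V.ι))
    (ht : IsPullback k t' t.left (c ≫ V.ι)) :
    ClosedSub.Invariant pV (c.ker : (opn U V).left.IdealSheafData) := by
  intro T b₁ b₂ hb hle
  have hb' : (AlgSp.yon S).map (b₁ ≫ opnι U V) ≫ p = (AlgSp.yon S).map (b₂ ≫ opnι U V) ≫ p := by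
    rw [Functor.map_comp, Functor.map_comp, Category.assoc, Category.assoc, ← hsq,
      ← Category.assoc, ← Category.assoc, hb]
  obtain ⟨r, hr⟩ := (AlgSp.yon S).map_surjective (hp.isPullback.lift _ _ hb')
  have hr1 : r ≫ t = b₁ ≫ opnι U V := by
    apply (AlgSp.yon S).map_injective
    rw [Functor.map_comp, hr, hp.isPullback.lift_fst]
  have hr2 : r ≫ s = b₂ ≫ opnι U V := by
    apply (AlgSp.yon S).map_injective
    rw [Functor.map_comp, hr, hp.isPullback.lift_snd]
  have hr1' : r.left ≫ t.left = b₁.left ≫ V.ι := congrArg (fun m => m.left) hr1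
  have hr2' : r.left ≫ s.left = b₂.left ≫ V.ι := congrArg (fun m => m.left) hr2
  let l₁ : T.left ⟶ Z' := IsClosedImmersion.lift c b₁.left hle
  have hl₁ : l₁ ≫ c = b₁.left := IsClosedImmersion.lift_fac _ _ _
  have hw : r.left ≫ t.left = l₁ ≫ (c ≫ V.ι) := by
    rw [hr1', ← Category.assoc, hl₁]
  let ρ : T.left ⟶ R' := ht.lift r.left l₁ hw
  have hρ1 : ρ ≫ k = r.left := ht.lift_fst _ _ _
  have h2 : b₂.left ≫ V.ι = ((ρ ≫ s') ≫ c) ≫ V.ι := by
    rw [← hr2', ← hρ1, Category.assoc, hs.w]
    simp only [Category.assoc]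
  have h3 : b₂.left = (ρ ≫ s') ≫ c := (cancel_mono V.ι).1 h2
  rw [h3]
  exact Scheme.Hom.le_ker_comp (ρ ≫ s') c

/-- the source of a closed immersion into an open of `T` is the closed subscheme of its kernel. -/
lemma exists_iso_ZU {T : Over S} (V : T.left.Opens) {Z' : Scheme.{u}} (c : Z' ⟶ V.toScheme)
    [IsClosedImmersion c] (i' : Z' ⟶ T.left) (hc : c ≫ V.ι = i') :
    ∃ (e : Over.mk (i' ≫ T.hom) ⟶ ClosedSub.ZU (U₀ := opn T V) c.ker), IsIso e ∧
      e ≫ ClosedSub.ιU (U₀ := opn T V) c.ker ≫ opnι T V =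
        (Over.homMk i' rfl : Over.mk (i' ≫ T.hom) ⟶ T) := by
  have hw : c.toImage ≫ (ClosedSub.ZU (U₀ := opn T V) c.ker).hom =
      (Over.mk (i' ≫ T.hom)).hom := by
    have h1 : (ClosedSub.ZU (U₀ := opn T V) c.ker).hom = c.ker.subschemeι ≫ V.ι ≫ T.hom := rfl
    rw [h1, ← Category.assoc, c.toImage_imageι, ← Category.assoc, hc]
    rfl
  refine ⟨Over.homMk c.toImage hw, ?_, ?_⟩
  · haveI : IsIso ((Over.forget S).map (Over.homMk c.toImage hw :
        Over.mk (i' ≫ T.hom) ⟶ ClosedSub.ZU (U₀ := opn T V) c.ker)) := by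
      show IsIso c.toImage
      infer_instance
    exact isIso_of_reflects_iso _ (Over.forget S)
  · ext1
    show c.toImage ≫ c.ker.subschemeι ≫ V.ι = i'
    rw [← Category.assoc, c.toImage_imageι, hc]

/-- the general construction: closed subspace of the invariant open subspace given by the coborder. -/
theorem exists_subspace_general {X : AlgSp.Sp S} (hX : AlgSp.IsAlgSpace X) {R U : Over S}
    (s t : R ⟶ U) (p : (AlgSp.yon S).obj U ⟶ X) (hp : AlgSp.IsPresentation s t p)
    {Z' R' : Scheme.{u}} (i' : Z' ⟶ U.left) [IsImmersion i'] (k : R' ⟶ R.left) (s' t' : R' ⟶ Z')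
    (hs : IsPullback k s' s.left i') (ht : IsPullback k t' t.left i') :
    ∃ (Z : AlgSp.Sp S) (_ : AlgSp.IsAlgSpace Z) (i : Z ⟶ X)
      (q : (AlgSp.yon S).obj (Over.mk (i' ≫ U.hom)) ⟶ Z),
      AlgSp.RepWith @IsImmersion i ∧
      IsPullback q ((AlgSp.yon S).map (Over.homMk i' rfl : Over.mk (i' ≫ U.hom) ⟶ U)) i p ∧
      (IsClosedImmersion i' → AlgSp.RepWith @IsClosedImmersion i) := by
  haveI : Etale s.left := hp.eqvRel.etale_left
  haveI : Etale t.left := hp.eqvRel.etale_right
  have hA : s.left ⁻¹' Set.range i' = t.left ⁻¹' Set.range i' := by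
    rw [← range_fst_of_isPullback hs, ← range_fst_of_isPullback ht]
  let V : U.left.Opens := i'.coborderRange
  have hVcoe : (V : Set ↥U.left) = coborder (Set.range i') := rfl
  have hVinv : s.left ⁻¹' (V : Set ↥U.left) = t.left ⁻¹' (V : Set ↥U.left) := by
    rw [hVcoe]; exact coborder_invariant s.left t.left _ hA
  let W : Set (AlgSp.Points X) := AlgSp.Points.ofPt p '' (V : Set ↥U.left)
  have hWo : IsOpen W := Groth.Agent.S10176.isOpenMap_ofPt p hp.etale _ V.2
  have hVW : (V : Set ↥U.left) = AlgSp.Points.ofPt p ⁻¹' W :=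
    (preimage_image_eq_of_invariant hp _ hVinv).symm
  obtain ⟨pV, sqV⟩ := exists_isPullback_open W p V hVW
  have hX₀ : AlgSp.IsAlgSpace (OpenSub.obj X W) := OpenSub.isAlgSpace_obj hX hWo
  have hjo : AlgSp.RepWith @IsOpenImmersion (OpenSub.incl X W) := OpenSub.repWith_incl hWo
  have hpVe : AlgSp.RepWith @Etale pV :=
    MorphismProperty.of_isPullback (P := AlgSp.RepWith @Etale) sqV.flip hp.etale
  have hpVs : AlgSp.RepWith @Surjective pV :=
    MorphismProperty.of_isPullback (P := AlgSp.RepWith @Surjective) sqV.flip hp.surjective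
  let c : Z' ⟶ V.toScheme := i'.liftCoborder
  have hc : c ≫ V.ι = i' := i'.liftCoborder_ι
  have hinv : ClosedSub.Invariant pV (c.ker : (opn U V).left.IdealSheafData) :=
    invariant_ker hp V _ pV sqV.w c k s' t' (by rw [hc]; exact hs) (by rw [hc]; exact ht)
  obtain ⟨zU, hzU⟩ := ClosedSub.exists_chart hinv
  have sqZ := ClosedSub.isPullback_chart hzU
  have hcl := ClosedSub.repWith_incl hinv hpVe hpVs
  have hZalg := ClosedSub.isAlgSpace_obj hX₀ hinv hpVe hpVs
  obtain ⟨e, he_iso, he⟩ := exists_iso_ZU V c i' hc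
  haveI : IsIso e := he_iso
  have sqP : IsPullback zU ((AlgSp.yon S).map (ClosedSub.ιU (U₀ := opn U V) c.ker) ≫
      (AlgSp.yon S).map (opnι U V))
      (ClosedSub.incl pV (c.ker : (opn U V).left.IdealSheafData) ≫ OpenSub.incl X W) p :=
    (sqZ.flip.paste_horiz sqV.flip).flip
  refine ⟨ClosedSub.obj pV _, hZalg, ClosedSub.incl pV _ ≫ OpenSub.incl X W,
    (AlgSp.yon S).map e ≫ zU, ?_, ?_, ?_⟩
  · exact (AlgSp.RepWith @IsImmersion).comp_mem _ _
      (OpenSub.repWith_mono (fun _ _ g hg => by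
        haveI : IsClosedImmersion g := hg; exact (inferInstance : IsImmersion g)) hcl)
      (OpenSub.repWith_mono (fun _ _ g hg => by
        haveI : IsOpenImmersion g := hg; exact (inferInstance : IsImmersion g)) hjo)
  · refine IsPullback.of_iso sqP (asIso ((AlgSp.yon S).map e)).symm (Iso.refl _) (Iso.refl _)
      (Iso.refl _) ?_ ?_ ?_ ?_
    · simp
    · simp only [Iso.refl_hom, Category.comp_id, Iso.symm_hom, asIso_inv, IsIso.eq_inv_comp]
      rw [← Functor.map_comp, ← Functor.map_comp, he]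
    · simp
    · simp
  · intro hcli
    have hcl' : IsClosed (Set.range i') := i'.isClosedEmbedding.isClosed_range
    have hVuniv : (V : Set ↥U.left) = Set.univ := by rw [hVcoe]; exact hcl'.coborder_eq
    have hWuniv : W = Set.univ := by
      change AlgSp.Points.ofPt p '' (V : Set ↥U.left) = Set.univ
      rw [hVuniv, Set.image_univ]
      exact Set.range_eq_univ.2 (Groth.Agent.S10177.surjective_ofPt p hp.surjective)
    have hjc : AlgSp.RepWith @IsClosedImmersion (OpenSub.incl X W) :=
      repWith_isClosedImmersion_incl hWo (by rw [hWuniv]; exact isClosed_univ)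
    exact (AlgSp.RepWith @IsClosedImmersion).comp_mem _ _ hcl hjc

/-- the source of an open immersion into `T` is the open subscheme on its range. -/
lemma exists_iso_opn {T : Over S} {Z' : Scheme.{u}} (i' : Z' ⟶ T.left) [IsOpenImmersion i'] :
    ∃ (e : Over.mk (i' ≫ T.hom) ⟶ opn T i'.opensRange), IsIso e ∧
      e ≫ opnι T i'.opensRange = (Over.homMk i' rfl : Over.mk (i' ≫ T.hom) ⟶ T) := by
  have hw : i'.isoOpensRange.hom ≫ (opn T i'.opensRange).hom = (Over.mk (i' ≫ T.hom)).hom := by
    have h1 : (opn T i'.opensRange).hom = i'.opensRange.ι ≫ T.hom := rfl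
    rw [h1, ← Category.assoc, i'.isoOpensRange_hom_ι]
    rfl
  refine ⟨Over.homMk i'.isoOpensRange.hom hw, ?_, ?_⟩
  · haveI : IsIso ((Over.forget S).map (Over.homMk i'.isoOpensRange.hom hw :
        Over.mk (i' ≫ T.hom) ⟶ opn T i'.opensRange)) := by
      show IsIso i'.isoOpensRange.hom
      infer_instance
    exact isIso_of_reflects_iso _ (Over.forget S)
  · ext1
    show i'.isoOpensRange.hom ≫ i'.opensRange.ι = i'
    exact i'.isoOpensRange_hom_ι

/-- the construction for an invariant open immersion: the open subspace on the image. -/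
theorem exists_subspace_open {X : AlgSp.Sp S} (hX : AlgSp.IsAlgSpace X) {R U : Over S}
    (s t : R ⟶ U) (p : (AlgSp.yon S).obj U ⟶ X) (hp : AlgSp.IsPresentation s t p)
    {Z' R' : Scheme.{u}} (i' : Z' ⟶ U.left) [IsOpenImmersion i'] (k : R' ⟶ R.left)
    (s' t' : R' ⟶ Z') (hs : IsPullback k s' s.left i') (ht : IsPullback k t' t.left i') :
    ∃ (Z : AlgSp.Sp S) (_ : AlgSp.IsAlgSpace Z) (i : Z ⟶ X)
      (q : (AlgSp.yon S).obj (Over.mk (i' ≫ U.hom)) ⟶ Z),
      AlgSp.RepWith @IsOpenImmersion i ∧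
      IsPullback q ((AlgSp.yon S).map (Over.homMk i' rfl : Over.mk (i' ≫ U.hom) ⟶ U)) i p ∧
      (IsClosedImmersion i' → AlgSp.RepWith @IsClosedImmersion i) := by
  have hA : s.left ⁻¹' Set.range i' = t.left ⁻¹' Set.range i' := by
    rw [← range_fst_of_isPullback hs, ← range_fst_of_isPullback ht]
  let V : U.left.Opens := i'.opensRange
  have hVcoe : (V : Set ↥U.left) = Set.range i' := i'.coe_opensRange
  have hVinv : s.left ⁻¹' (V : Set ↥U.left) = t.left ⁻¹' (V : Set ↥U.left) := by
    rw [hVcoe]; exact hA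
  let W : Set (AlgSp.Points X) := AlgSp.Points.ofPt p '' (V : Set ↥U.left)
  have hWo : IsOpen W := Groth.Agent.S10176.isOpenMap_ofPt p hp.etale _ V.2
  have hVW : (V : Set ↥U.left) = AlgSp.Points.ofPt p ⁻¹' W :=
    (preimage_image_eq_of_invariant hp _ hVinv).symm
  obtain ⟨pV, sqV⟩ := exists_isPullback_open W p V hVW
  obtain ⟨e, he_iso, he⟩ := exists_iso_opn (T := U) i'
  haveI : IsIso e := he_iso
  refine ⟨OpenSub.obj X W, OpenSub.isAlgSpace_obj hX hWo, OpenSub.incl X W,
    (AlgSp.yon S).map e ≫ pV, OpenSub.repWith_incl hWo, ?_, ?_⟩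
  · refine IsPullback.of_iso sqV (asIso ((AlgSp.yon S).map e)).symm (Iso.refl _) (Iso.refl _)
      (Iso.refl _) ?_ ?_ ?_ ?_
    · simp
    · simp only [Iso.refl_hom, Category.comp_id, Iso.symm_hom, asIso_inv, IsIso.eq_inv_comp]
      rw [← Functor.map_comp, he]
    · simp
    · simp
  · intro hcli
    have hcl' : IsClosed (Set.range i') := i'.isClosedEmbedding.isClosed_range
    have hq := Groth.Agent.S10177.isQuotientMap_ofPt p hp.etale hp.surjective
    have hWc : IsClosed W := by
      rw [← hq.isClosed_preimage, ← hVW, hVcoe]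
      exact hcl'
    exact repWith_isClosedImmersion_incl hWo hWc

end Groth.Agent.R2.H89.InvImm
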