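import Mathlib

/-!
# Finiteness of irreducible components (helper89)

* `finite_irreducibleComponents_of_homeomorph`: transfer along a homeomorphism.
* `finite_irreducibleComponents_of_openCover`: a space covered by finitely many opens each with
  finitely many irreducible components has finitely many irreducible components.
* `finite_minimalPrimes_of_flat_finiteType`: a flat algebra of finite type over a ring with finitely
  many minimal primes has finitely many minimal primes.
* `finite_irreducibleComponents_of_flat_lft`: a quasi-compact scheme flat and locally of finite type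
  over a scheme whose quasi-compact opens have finitely many irreducible components has finitely
  many irreducible components.
-/

set_option autoImplicit false

open TopologicalSpace Set

namespace Groth.Agent.R2.H89.IrrFin

section Top

variable {α β : Type*} [TopologicalSpace α] [TopologicalSpace β]

lemma image_mem_irreducibleComponents (e : α ≃ₜ β) {Z : Set α}
    (hZ : Z ∈ irreducibleComponents α) : e '' Z ∈ irreducibleComponents β := by
  refine ⟨hZ.1.image e e.continuous.continuousOn, fun C hC hle => ?_⟩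
  have h1 : IsIrreducible (e.symm '' C) := hC.image _ e.symm.continuous.continuousOn
  have h2 : Z ≤ e.symm '' C := fun z hz => ⟨e z, hle ⟨z, hz, rfl⟩, e.symm_apply_apply z⟩
  have h3 := hZ.2 h1 h2
  intro c hc
  exact ⟨e.symm c, h3 ⟨c, hc, rfl⟩, e.apply_symm_apply c⟩

theorem finite_irreducibleComponents_of_homeomorph (e : α ≃ₜ β)
    (h : (irreducibleComponents α).Finite) : (irreducibleComponents β).Finite := by
  refine (h.image (fun Z => e '' Z)).subset ?_
  intro C hC
  refine ⟨e.symm '' C, image_mem_irreducibleComponents e.symm hC, ?_⟩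
  ext b
  constructor
  · rintro ⟨a, ⟨c, hc, rfl⟩, rfl⟩
    rwa [e.apply_symm_apply]
  · intro hb
    exact ⟨e.symm b, ⟨b, hb, rfl⟩, e.apply_symm_apply b⟩

/-- The trace of an irreducible component on an open set it meets is an irreducible component. -/
lemma preimage_val_mem_irreducibleComponents {O : Set α} (hO : IsOpen O) {Z : Set α}
    (hZ : Z ∈ irreducibleComponents α) (hne : (Z ∩ O).Nonempty) :
    (Subtype.val : ↥O → α) ⁻¹' Z ∈ irreducibleComponents ↥O := by
  have hemb : Topology.IsOpenEmbedding (Subtype.val : ↥O → α) := hO.isOpenEmbedding_subtypeVal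
  have hirr : IsIrreducible ((Subtype.val : ↥O → α) ⁻¹' Z) := by
    refine hZ.1.preimage hemb ?_
    rw [Subtype.range_coe]
    exact hne
  refine ⟨hirr, fun C hC hle => ?_⟩
  have hC' : IsIrreducible (closure ((Subtype.val : ↥O → α) '' C)) :=
    (hC.image _ continuous_subtype_val.continuousOn).closure
  have hZcl : IsClosed Z := isClosed_of_mem_irreducibleComponents Z hZ
  have hZsub : Z ≤ closure ((Subtype.val : ↥O → α) '' C) := by
    have h1 : Z ⊆ closure (Z ∩ O) :=
      subset_closure_inter_of_isPreirreducible_of_isOpen hZ.1.2 hO hne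
    refine h1.trans (closure_mono ?_)
    rintro z ⟨hzZ, hzO⟩
    exact ⟨⟨z, hzO⟩, hle hzZ, rfl⟩
  have h3 := hZ.2 hC' hZsub
  intro c hc
  exact h3 (subset_closure ⟨c, hc, rfl⟩)

theorem finite_irreducibleComponents_of_openCover {ι : Type*} [Finite ι] (O : ι → Set α)
    (hO : ∀ i, IsOpen (O i)) (hcov : ∀ x : α, ∃ i, x ∈ O i)
    (h : ∀ i, (irreducibleComponents ↥(O i)).Finite) : (irreducibleComponents α).Finite := by
  have hsub : irreducibleComponents α ⊆
      ⋃ i, {Z | Z ∈ irreducibleComponents α ∧ (Z ∩ O i).Nonempty} := by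
    intro Z hZ
    obtain ⟨z, hz⟩ := hZ.1.nonempty
    obtain ⟨i, hi⟩ := hcov z
    exact Set.mem_iUnion.mpr ⟨i, hZ, z, hz, hi⟩
  refine (Set.finite_iUnion fun i => ?_).subset hsub
  refine Set.Finite.of_finite_image (f := fun Z => (Subtype.val : ↥(O i) → α) ⁻¹' Z)
    ((h i).subset ?_) ?_
  · rintro _ ⟨Z, ⟨hZ, hne⟩, rfl⟩
    exact preimage_val_mem_irreducibleComponents (hO i) hZ hne
  · rintro Z ⟨hZ, hne⟩ Z' ⟨hZ', hne'⟩ heq
    have key : ∀ {Y : Set α}, Y ∈ irreducibleComponents α → (Y ∩ O i).Nonempty →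
        Y = closure (Y ∩ O i) := by
      intro Y hY hYne
      refine subset_antisymm
        (subset_closure_inter_of_isPreirreducible_of_isOpen hY.1.2 (hO i) hYne) ?_
      exact closure_minimal Set.inter_subset_left (isClosed_of_mem_irreducibleComponents Y hY)
    have heq' : (Subtype.val : ↥(O i) → α) ⁻¹' Z = (Subtype.val : ↥(O i) → α) ⁻¹' Z' := heq
    have h1 : Z ∩ O i = Z' ∩ O i := by
      ext x
      constructor
      · rintro ⟨hx, hxO⟩
        have hh : (⟨x, hxO⟩ : ↥(O i)) ∈ (Subtype.val : ↥(O i) → α) ⁻¹' Z := hx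
        rw [heq'] at hh
        exact ⟨hh, hxO⟩
      · rintro ⟨hx, hxO⟩
        have hh : (⟨x, hxO⟩ : ↥(O i)) ∈ (Subtype.val : ↥(O i) → α) ⁻¹' Z' := hx
        rw [← heq'] at hh
        exact ⟨hh, hxO⟩
    rw [key hZ hne, key hZ' hne', h1]

end Top

section Alg

variable (A B : Type*) [CommRing A] [CommRing B] [Algebra A B]

lemma under_mem_minimalPrimes_of_flat [Module.Flat A B] {q : Ideal B} (hq : q ∈ minimalPrimes B) :
    q.under A ∈ minimalPrimes A := by
  have : q.IsPrime := hq.1.1
  have : Algebra.HasGoingDown A B := inferInstance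
  refine ⟨⟨inferInstance, bot_le⟩, fun p' hp' hle => ?_⟩
  have : p'.IsPrime := hp'.1
  obtain ⟨q', hq'le, hq'prime, hq'over⟩ :=
    Ideal.exists_ideal_le_liesOver_of_le (p := p') (q := q.under A) q hle
  have h1 : q ≤ q' := hq.2 ⟨hq'prime, bot_le⟩ hq'le
  have h2 : q' = q := le_antisymm hq'le h1
  rw [hq'over.over, h2]

/-- The minimal primes of `B` lying over a given prime `p` of `A` are finitely many as soon as
`B` is of finite type over `A`. -/
lemma finite_minimalPrimes_over [Algebra.FiniteType A B] (p : Ideal A) [p.IsPrime] :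
    {q : Ideal B | q ∈ minimalPrimes B ∧ q.under A = p}.Finite := by
  have hN : IsNoetherianRing (p.Fiber B) :=
    Algebra.FiniteType.isNoetherianRing p.ResidueField (p.Fiber B)
  have hfin : (minimalPrimes (p.Fiber B)).Finite := minimalPrimes.finite_of_isNoetherianRing _
  let e := PrimeSpectrum.primesOverOrderIsoFiber A B p
  -- the map to minimal primes of the fibre
  have hmem : ∀ q : Ideal B, q ∈ minimalPrimes B ∧ q.under A = p → q ∈ p.primesOver B := by
    rintro q ⟨hq, hqp⟩
    exact ⟨hq.1.1, ⟨hqp.symm⟩⟩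
  let φ : {q : Ideal B | q ∈ minimalPrimes B ∧ q.under A = p} → Ideal (p.Fiber B) :=
    fun q => (e ⟨q.1, hmem q.1 q.2⟩).asIdeal
  have hφinj : Function.Injective φ := by
    intro q₁ q₂ h
    have h' : e ⟨q₁.1, hmem q₁.1 q₁.2⟩ = e ⟨q₂.1, hmem q₂.1 q₂.2⟩ := PrimeSpectrum.ext h
    have h'' := e.injective h'
    exact Subtype.ext (congrArg (fun z : p.primesOver B => (z : Ideal B)) h'')
  have hφmem : ∀ q, φ q ∈ minimalPrimes (p.Fiber B) := by
    intro q
    refine ⟨⟨(e ⟨q.1, hmem q.1 q.2⟩).isPrime, bot_le⟩, fun r hr hle => ?_⟩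
    have hrp : r.IsPrime := hr.1
    let r' : PrimeSpectrum (p.Fiber B) := ⟨r, hrp⟩
    have hle' : r' ≤ e ⟨q.1, hmem q.1 q.2⟩ := hle
    have h1 : e.symm r' ≤ ⟨q.1, hmem q.1 q.2⟩ := by
      rw [← e.symm_apply_apply ⟨q.1, hmem q.1 q.2⟩]
      exact e.symm.monotone hle'
    have h2 : (e.symm r').1 ≤ q.1 := h1
    have h3 : q.1 ≤ (e.symm r').1 := q.2.1.2 ⟨(e.symm r').2.1, bot_le⟩ h2
    have h4 : (⟨q.1, hmem q.1 q.2⟩ : p.primesOver B) ≤ e.symm r' := h3
    have h5 : e ⟨q.1, hmem q.1 q.2⟩ ≤ r' := by
      rw [← e.apply_symm_apply r']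
      exact e.monotone h4
    exact h5
  have : Finite {q : Ideal B | q ∈ minimalPrimes B ∧ q.under A = p} := by
    have : Finite (minimalPrimes (p.Fiber B)) := hfin.to_subtype
    exact Finite.of_injective (fun q => (⟨φ q, hφmem q⟩ : minimalPrimes (p.Fiber B)))
      (fun a b h => hφinj (congrArg Subtype.val h))
  exact Set.toFinite _

theorem finite_minimalPrimes_of_flat_finiteType [Module.Flat A B] [Algebra.FiniteType A B]
    (h : (minimalPrimes A).Finite) : (minimalPrimes B).Finite := by
  have hsub : minimalPrimes B ⊆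
      ⋃ p ∈ minimalPrimes A, {q : Ideal B | q ∈ minimalPrimes B ∧ q.under A = p} := by
    intro q hq
    exact Set.mem_biUnion (under_mem_minimalPrimes_of_flat A B hq) ⟨hq, rfl⟩
  refine (h.biUnion fun p hp => ?_).subset hsub
  have : p.IsPrime := hp.1.1
  exact finite_minimalPrimes_over A B p

/-- Finiteness of the set of irreducible components of `Spec R` in terms of minimal primes. -/
theorem finite_irreducibleComponents_primeSpectrum_iff (R : Type*) [CommSemiring R] :
    (irreducibleComponents (PrimeSpectrum R)).Finite ↔ (minimalPrimes R).Finite := by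
  have e := minimalPrimes.equivIrreducibleComponents R
  constructor
  · intro h
    have : Finite (irreducibleComponents (PrimeSpectrum R)) := h.to_subtype
    have : Finite (irreducibleComponents (PrimeSpectrum R))ᵒᵈ := this
    have : Finite (minimalPrimes R) := Finite.of_equiv _ e.symm.toEquiv
    exact Set.toFinite _
  · intro h
    have : Finite (minimalPrimes R) := h.to_subtype
    have : Finite (irreducibleComponents (PrimeSpectrum R))ᵒᵈ := Finite.of_equiv _ e.toEquiv
    have : Finite (irreducibleComponents (PrimeSpectrum R)) := this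
    exact Set.toFinite _

end Alg

section Sch

open CategoryTheory AlgebraicGeometry

universe u

lemma finite_irreducibleComponents_iff_of_isAffineOpen {X : Scheme.{u}} {U : X.Opens}
    (hU : IsAffineOpen U) :
    (irreducibleComponents ↥U).Finite ↔ (minimalPrimes Γ(X, U)).Finite := by
  rw [← finite_irreducibleComponents_primeSpectrum_iff]
  let e : ↥U ≃ₜ PrimeSpectrum Γ(X, U) := hU.isoSpec.hom.homeomorph
  exact ⟨finite_irreducibleComponents_of_homeomorph e,
    finite_irreducibleComponents_of_homeomorph e.symm⟩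

theorem finite_irreducibleComponents_of_flat_lft {Y V : Scheme.{u}} (h : Y ⟶ V) [Flat h]
    [LocallyOfFiniteType h] [CompactSpace Y]
    (hV : ∀ W : V.Opens, IsCompact (W : Set V) → (irreducibleComponents ↥W).Finite) :
    (irreducibleComponents Y).Finite := by
  have hch : ∀ y : Y, ∃ (Vy : V.Opens) (Yy : Y.Opens), IsAffineOpen Vy ∧ IsAffineOpen Yy ∧
      y ∈ Yy ∧ Yy ≤ h ⁻¹ᵁ Vy := by
    intro y
    obtain ⟨Vy, hVy, hyV, -⟩ :=
      exists_isAffineOpen_mem_and_subset (x := h y) (U := ⊤) trivial
    obtain ⟨Yy, hYy, hyY, hsub⟩ :=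
      exists_isAffineOpen_mem_and_subset (x := y) (U := h ⁻¹ᵁ Vy) hyV
    exact ⟨Vy, Yy, hVy, hYy, hyY, hsub⟩
  choose Vy Yy hVy hYy hyY hle using hch
  obtain ⟨t, ht⟩ := isCompact_univ.elim_finite_subcover (fun y => (Yy y : Set Y))
    (fun y => (Yy y).2) (fun y _ => Set.mem_iUnion.mpr ⟨y, hyY y⟩)
  refine finite_irreducibleComponents_of_openCover (ι := t) (fun i => (Yy i.1 : Set Y))
    (fun i => (Yy i.1).2) ?_ ?_
  · intro x
    have := ht (Set.mem_univ x)
    simp only [Set.mem_iUnion] at this
    obtain ⟨i, hi, hx⟩ := this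
    exact ⟨⟨i, hi⟩, hx⟩
  · intro i
    have h1 : (minimalPrimes Γ(V, Vy i.1)).Finite :=
      (finite_irreducibleComponents_iff_of_isAffineOpen (hVy i.1)).1
        (hV (Vy i.1) (hVy i.1).isCompact)
    have hflat : (h.appLE (Vy i.1) (Yy i.1) (hle i.1)).hom.Flat :=
      h.flat_appLE (hVy i.1) (hYy i.1) (hle i.1)
    have hft : (h.appLE (Vy i.1) (Yy i.1) (hle i.1)).hom.FiniteType :=
      HasRingHomProperty.appLE @LocallyOfFiniteType h inferInstance
        ⟨Vy i.1, hVy i.1⟩ ⟨Yy i.1, hYy i.1⟩ (hle i.1)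
    algebraize [(h.appLE (Vy i.1) (Yy i.1) (hle i.1)).hom]
    have h2 : (minimalPrimes Γ(Y, Yy i.1)).Finite :=
      finite_minimalPrimes_of_flat_finiteType Γ(V, Vy i.1) Γ(Y, Yy i.1) h1
    exact (finite_irreducibleComponents_iff_of_isAffineOpen (hYy i.1)).2 h2

theorem locFinite_irreducibleComponents_of_flat_lft {U V : Scheme.{u}} (g : U ⟶ V) [Flat g]
    [LocallyOfFiniteType g]
    (hV : ∀ W : V.Opens, IsCompact (W : Set V) → (irreducibleComponents ↥W).Finite) :
    ∀ W : U.Opens, IsCompact (W : Set U) → (irreducibleComponents ↥W).Finite := by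
  intro W hW
  have : CompactSpace ↥W := isCompact_iff_compactSpace.mp hW
  have : CompactSpace ↥(W.toScheme) := this
  exact finite_irreducibleComponents_of_flat_lft (W.ι ≫ g) hV

end Sch

end Groth.Agent.R2.H89.IrrFin
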