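import Mathlib
import Groth.Agent.R2.H89IrrFin

/-!
# Irreducible components, generic points and etale maps (helper89)

* `finite_irreducibleComponents_of_surjective`: continuous surjections preserve finiteness of the
  set of irreducible components.
* `IsGenMin x`: `x` has no proper generization; in a quasi-sober T0 space these are exactly the
  generic points of the irreducible components (`finite_irreducibleComponents_iff_finite_isGenMin`).
* `ringKrullDim_stalk_eq_zero_iff`: on a scheme, the stalk at `x` has Krull dimension `0` iff `x`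
  has no proper generization.
* `locFinite_irreducibleComponents_of_surjective_open`: "quasi-compact opens have finitely many
  irreducible components" descends along open surjective morphisms of schemes.
* `isGenMin_of_etale`, `isGenMin_image_of_flat`.
-/

set_option autoImplicit false
universe u

open TopologicalSpace Set CategoryTheory AlgebraicGeometry

namespace Groth.Agent.R2.H89.IrrGen

section Top

variable {α β : Type*} [TopologicalSpace α] [TopologicalSpace β]

/-- A continuous surjective image of a space with finitely many irreducible components has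
finitely many irreducible components. -/
theorem finite_irreducibleComponents_of_surjective (g : α → β) (hg : Continuous g)
    (hs : Function.Surjective g) (h : (irreducibleComponents α).Finite) :
    (irreducibleComponents β).Finite := by
  refine (h.image (fun Z => closure (g '' Z))).subset ?_
  intro C hC
  have hcov : C ⊆ ⋃₀ ((fun Z => closure (g '' Z)) '' irreducibleComponents α) := by
    intro c _
    obtain ⟨a, rfl⟩ := hs c
    have ha : a ∈ ⋃₀ irreducibleComponents α := by
      rw [sUnion_irreducibleComponents]; trivial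
    obtain ⟨Z, hZ, haZ⟩ := ha
    exact ⟨closure (g '' Z), ⟨Z, hZ, rfl⟩, subset_closure ⟨a, haZ, rfl⟩⟩
  have hfin : ((fun Z => closure (g '' Z)) '' irreducibleComponents α).Finite := h.image _
  obtain ⟨t, ht⟩ := hfin.exists_finset_coe
  have hcl : ∀ z ∈ t, IsClosed z := by
    intro z hz
    have : z ∈ ((fun Z => closure (g '' Z)) '' irreducibleComponents α) := by
      rw [← ht]; exact hz
    obtain ⟨Z, -, rfl⟩ := this
    exact isClosed_closure
  obtain ⟨z, hz, hCz⟩ := (isIrreducible_iff_sUnion_isClosed.1 hC.1) t hcl (by rw [ht]; exact hcov)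
  have hz' : z ∈ ((fun Z => closure (g '' Z)) '' irreducibleComponents α) := by
    rw [← ht]; exact hz
  obtain ⟨Z, hZ, rfl⟩ := hz'
  refine ⟨Z, hZ, ?_⟩
  have hirr : IsIrreducible (closure (g '' Z)) := (hZ.1.image g hg.continuousOn).closure
  exact subset_antisymm (hC.2 hirr hCz) hCz

/-- A point with no proper generization. -/
def IsGenMin (x : α) : Prop := ∀ y : α, y ⤳ x → y = x

lemma closure_mem_irreducibleComponents_of_isGenMin [QuasiSober α] {x : α} (hx : IsGenMin x) :
    closure {x} ∈ irreducibleComponents α := by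
  refine ⟨isIrreducible_singleton.closure, fun C hC hle => ?_⟩
  have hC' : IsIrreducible (closure C) := hC.closure
  obtain ⟨ξ, hξ⟩ := QuasiSober.sober hC' isClosed_closure
  have hxξ : ξ ⤳ x := by
    rw [specializes_iff_mem_closure, hξ.def]
    exact subset_closure (hle (subset_closure rfl))
  have : ξ = x := hx ξ hxξ
  subst this
  rw [hξ.def]
  exact subset_closure

lemma exists_isGenMin_of_mem_irreducibleComponents [QuasiSober α] [T0Space α] {Z : Set α}
    (hZ : Z ∈ irreducibleComponents α) : ∃ x : α, IsGenMin x ∧ closure {x} = Z := by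
  obtain ⟨ξ, hξ⟩ := QuasiSober.sober hZ.1 (isClosed_of_mem_irreducibleComponents Z hZ)
  refine ⟨ξ, fun y hy => ?_, hξ.def⟩
  have h1 : Z ≤ closure {y} := by
    rw [← hξ.def]
    exact closure_minimal (Set.singleton_subset_iff.2 (specializes_iff_mem_closure.1 hy))
      isClosed_closure
  have h2 : closure {y} ≤ Z := hZ.2 isIrreducible_singleton.closure h1
  have h3 : closure {y} = closure {ξ} := by rw [hξ.def]; exact le_antisymm h2 h1
  have h4 : Inseparable y ξ := inseparable_iff_closure_eq.2 h3
  exact h4.eq

theorem finite_irreducibleComponents_iff_finite_isGenMin [QuasiSober α] [T0Space α] :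
    (irreducibleComponents α).Finite ↔ {x : α | IsGenMin x}.Finite := by
  constructor
  · intro h
    refine Set.Finite.of_finite_image (f := fun x => closure {x}) (h.subset ?_) ?_
    · rintro _ ⟨x, hx, rfl⟩
      exact closure_mem_irreducibleComponents_of_isGenMin hx
    · intro x _ y _ hxy
      exact (inseparable_iff_closure_eq.2 hxy).eq
  · intro h
    refine (h.image (fun x => closure {x})).subset ?_
    intro Z hZ
    obtain ⟨x, hx, rfl⟩ := exists_isGenMin_of_mem_irreducibleComponents hZ
    exact ⟨x, hx, rfl⟩

lemma IsGenMin.of_isDiscrete_fibre {f : α → β} (hf : Continuous f) {x : α}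
    (hd : IsDiscrete (f ⁻¹' {f x})) (hx : IsGenMin (f x)) : IsGenMin x := by
  intro y hy
  have h1 : f y = f x := hx _ (hy.map hf)
  have : DiscreteTopology ↥(f ⁻¹' {f x}) := isDiscrete_iff_discreteTopology.1 hd
  have h2 : (⟨y, h1⟩ : ↥(f ⁻¹' {f x})) ⤳ ⟨x, rfl⟩ := (subtype_specializes_iff _ _).2 hy
  exact congrArg Subtype.val h2.eq

lemma IsGenMin.image_of_generalizingMap {f : α → β} (hf : GeneralizingMap f) {x : α}
    (hx : IsGenMin x) : IsGenMin (f x) := by
  intro y hy
  obtain ⟨x', hx', rfl⟩ := hf hy
  rw [hx x' hx']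

end Top

section Sch

theorem ringKrullDim_stalk_eq_zero_iff (X : Scheme.{u}) (x : X) :
    ringKrullDim ↥(X.presheaf.stalk x) = 0 ↔ IsGenMin x := by
  constructor
  · intro h y hy
    have h0 : Ring.KrullDimLE 0 ↥(X.presheaf.stalk x) := Ring.krullDimLE_iff.2 (by rw [h]; rfl)
    have hss : Subsingleton (PrimeSpectrum ↥(X.presheaf.stalk x)) :=
      Ring.KrullDimLE.subsingleton_primeSpectrum _
    have hy' : y ∈ Set.range (X.fromSpecStalk x) := by
      rw [Scheme.range_fromSpecStalk]; exact hy
    obtain ⟨p, rfl⟩ := hy'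
    have : p = IsLocalRing.closedPoint ↥(X.presheaf.stalk x) :=
      @Subsingleton.elim _ hss _ _
    rw [this, Scheme.fromSpecStalk_closedPoint]
  · intro h
    have huniq : ∀ p : PrimeSpectrum ↥(X.presheaf.stalk x),
        p = IsLocalRing.closedPoint ↥(X.presheaf.stalk x) := by
      intro p
      have hp : X.fromSpecStalk x p ∈ Set.range (X.fromSpecStalk x) := ⟨p, rfl⟩
      rw [Scheme.range_fromSpecStalk] at hp
      have h1 : X.fromSpecStalk x p = x := h _ hp
      have h2 : X.fromSpecStalk x p =
          X.fromSpecStalk x (IsLocalRing.closedPoint ↥(X.presheaf.stalk x)) := by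
        rw [h1, Scheme.fromSpecStalk_closedPoint]
      exact (X.fromSpecStalk x).isEmbedding.injective h2
    have : Unique (PrimeSpectrum ↥(X.presheaf.stalk x)) :=
      ⟨⟨IsLocalRing.closedPoint _⟩, huniq⟩
    exact Order.krullDim_eq_zero_of_unique

theorem locFinite_irreducibleComponents_of_surjective_open {W U : Scheme.{u}} (p : W ⟶ U)
    (hopen : IsOpenMap p) (hsurj : Function.Surjective p)
    (hW : ∀ O : W.Opens, IsCompact (O : Set W) → (irreducibleComponents ↥O).Finite) :
    ∀ O : U.Opens, IsCompact (O : Set U) → (irreducibleComponents ↥O).Finite := by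
  intro O hO
  have hch : ∀ b : O, ∃ A : W.Opens, IsAffineOpen A ∧ (A : Set W) ⊆ p ⁻¹' O ∧
      b.1 ∈ p '' (A : Set W) := by
    intro b
    obtain ⟨a, ha⟩ := hsurj b.1
    have hmem : a ∈ p ⁻¹ᵁ O := by
      change p a ∈ O
      rw [ha]; exact b.2
    obtain ⟨A, hA, haA, hsub⟩ := exists_isAffineOpen_mem_and_subset (x := a) (U := p ⁻¹ᵁ O) hmem
    exact ⟨A, hA, hsub, a, haA, ha⟩
  choose A hA hAsub hAmem using hch
  obtain ⟨t, ht⟩ := hO.elim_finite_subcover (fun b : O => p '' (A b : Set W))
    (fun b => hopen _ (A b).2) (fun x hx => Set.mem_iUnion.2 ⟨⟨x, hx⟩, hAmem ⟨x, hx⟩⟩)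
  let A' : W.Opens := ⨆ b ∈ t, A b
  have hA'coe : (A' : Set W) = ⋃ b ∈ t, (A b : Set W) := by
    simp only [A', Opens.coe_iSup]
  have hA'c : IsCompact (A' : Set W) := by
    rw [hA'coe]
    exact t.finite_toSet.isCompact_biUnion (fun b _ => (hA b).isCompact)
  have hfin := hW A' hA'c
  have hmaps : ∀ a : ↥A', p a.1 ∈ O := by
    intro a
    have ha : a.1 ∈ (A' : Set W) := a.2
    rw [hA'coe] at ha
    simp only [Set.mem_iUnion] at ha
    obtain ⟨b, -, hab⟩ := ha
    exact hAsub b hab
  let g : ↥A' → ↥O := fun a => ⟨p a.1, hmaps a⟩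
  have hg : Continuous g :=
    Continuous.subtype_mk (p.continuous.comp continuous_subtype_val) _
  have hgs : Function.Surjective g := by
    intro b
    have hb := ht b.2
    simp only [Set.mem_iUnion] at hb
    obtain ⟨b', hb't, a, haA, hab⟩ := hb
    have haA' : a ∈ (A' : Set W) := by
      rw [hA'coe]
      exact Set.mem_biUnion hb't haA
    exact ⟨⟨a, haA'⟩, Subtype.ext hab⟩
  exact finite_irreducibleComponents_of_surjective g hg hgs hfin

lemma lqf_of_etale {X Y : Scheme.{u}} (f : X ⟶ Y) [Etale f] : LocallyQuasiFinite f := by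
  constructor
  intro U hU V hV e
  have h1 : (f.appLE U V e).hom.FiniteType :=
    HasRingHomProperty.appLE (P := @LocallyOfFiniteType) f inferInstance ⟨U, hU⟩ ⟨V, hV⟩ e
  have h2 : (f.appLE U V e).hom.FormallyUnramified :=
    HasRingHomProperty.appLE (P := @FormallyUnramified) f inferInstance ⟨U, hU⟩ ⟨V, hV⟩ e
  algebraize [(f.appLE U V e).hom]
  rw [← RingHom.algebraMap_toAlgebra (f.appLE U V e).hom, RingHom.quasiFinite_algebraMap]
  infer_instance

lemma isGenMin_of_etale {P U : Scheme.{u}} (f : P ⟶ U) [Etale f] {p : P}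
    (h : IsGenMin (f p)) : IsGenMin p := by
  have := lqf_of_etale f
  exact IsGenMin.of_isDiscrete_fibre f.continuous (f.isDiscrete_preimage_singleton (f p)) h

lemma isGenMin_image_of_flat {P T : Scheme.{u}} (f : P ⟶ T) [Flat f] {p : P}
    (h : IsGenMin p) : IsGenMin (f p) :=
  IsGenMin.image_of_generalizingMap (Flat.generalizingMap f) h

theorem finite_irreducibleComponents_iff_finite_dimZero (X : Scheme.{u}) :
    (irreducibleComponents X).Finite ↔
      {x : X | ringKrullDim ↥(X.presheaf.stalk x) = 0}.Finite := by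
  rw [finite_irreducibleComponents_iff_finite_isGenMin]
  have : {x : X | ringKrullDim ↥(X.presheaf.stalk x) = 0} = {x : X | IsGenMin x} := by
    ext x
    exact ringKrullDim_stalk_eq_zero_iff X x
  rw [this]

end Sch

end Groth.Agent.R2.H89.IrrGen
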