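import Mathlib
import Groth.Prelude.Def_Magnet4
import Groth.Agent.R2.H89SchDom

/-!
# Scheme-theoretic dominance of `A(M)_S ×_S T ⟶ A(N)_S ×_S T` for an injective `N →+ M` (helper89, round 2)
Namespace `Groth.Agent.R2.H89.MagnetDom`.
-/

set_option autoImplicit false
universe u
open CategoryTheory CategoryTheory.Limits MonoidalCategory CartesianMonoidalCategory MonObj AlgebraicGeometry Opposite
open Magnet

namespace Groth.Agent.R2.H89.MagnetDom

section Algebra

variable (R : Type u) [CommRing R] {G H : Type} [Monoid G] [Monoid H]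

/-- `comapDomain` along an injective map, as an `R`-linear map of monoid algebras. -/
noncomputable def retr (g : G → H) (hg : Function.Injective g) : MonoidAlgebra R H →ₗ[R] MonoidAlgebra R G where
  toFun := MonoidAlgebra.comapDomain g hg
  map_add' := MonoidAlgebra.comapDomain_add g hg
  map_smul' c x := by
    apply MonoidAlgebra.coeff_injective
    simp only [MonoidAlgebra.coeff_comapDomain, MonoidAlgebra.coeff_smul, RingHom.id_apply]
    exact Finsupp.comapDomain_smul_of_injective hg c x.coeff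

theorem retr_mapDomain (g : G →* H) (hg : Function.Injective g) (x : MonoidAlgebra R G) :
    retr R g hg ((MonoidAlgebra.mapDomainBialgHom R g).toAlgHom x) = x := by
  induction x using MonoidAlgebra.induction_linear with
  | zero => simp
  | add x y hx hy => rw [map_add, map_add, hx, hy]
  | single m r =>
    change MonoidAlgebra.comapDomain g hg (MonoidAlgebra.mapDomainBialgHom R g (MonoidAlgebra.single m r)) = _
    rw [MonoidAlgebra.mapDomainBialgHom_single, MonoidAlgebra.comapDomain_single_map]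

end Algebra

section Main

/-- Formal: the whiskering `(p^* i₀) ▷ T` in `Over S` of the base change along `p : S ⟶ Z` of `i₀ : G₀ ⟶ M₀` is, up to the
canonical isomorphisms `(G₀ ×_Z S) ×_S T ≅ G₀ ×_Z T`, the base change of `i₀.left` along `T ⟶ S ⟶ Z`. -/
theorem whiskerRight_left_comp_iso {S Z : Scheme.{u}} (p : S ⟶ Z) {G₀ M₀ : Over Z} (i₀ : G₀ ⟶ M₀) (T : Over S) :
    ((Over.pullback p).map i₀ ▷ T).left ≫ (pullbackLeftPullbackSndIso M₀.hom p T.hom).hom =
      (pullbackLeftPullbackSndIso G₀.hom p T.hom).hom ≫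
        pullback.map G₀.hom (T.hom ≫ p) M₀.hom (T.hom ≫ p) i₀.left (𝟙 _) (𝟙 _) (by simp) (by simp) := by
  apply pullback.hom_ext
  · simp only [Category.assoc, pullbackLeftPullbackSndIso_hom_fst, pullback.lift_fst]
    rw [← Category.assoc, ← Category.assoc, pullbackLeftPullbackSndIso_hom_fst]
    erw [Over.whiskerRight_left_fst]
    simp only [Category.assoc]
    congr 1
    exact pullback.lift_fst _ _ _
  · simp only [Category.assoc, pullbackLeftPullbackSndIso_hom_snd, pullback.lift_snd, Category.comp_id]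
    exact Over.whiskerRight_left_snd _

variable (S : Scheme.{u}) {M N : Type} [AddCommMonoid M] [AddCommMonoid N]

/-- **Key lemma**: for an injective `f : N →+ M` and any `S`-scheme `T`, the morphism `A(M)_S ×_S T ⟶ A(N)_S ×_S T` induced by
`f` is scheme-theoretically dominant (the ring map `B[N] → B[M]` is injective for every ring `B`). -/
theorem dominant_AMonS_map_whiskerRight (f : N →+ M) (hf : Function.Injective f) (T : Over S) :
    IsSchemeTheoreticallyDominant (AMonS.map S f ▷ T).left := by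
  have hg : Function.Injective (AddMonoidHom.toMultiplicative f) := hf
  have hdom := SchDom.dominant_pullback_map_SpecMap (ULift.{u} ℤ) _ _
    (MonoidAlgebra.mapDomainBialgHom (ULift.{u} ℤ) (AddMonoidHom.toMultiplicative f)).toAlgHom
    (retr (ULift.{u} ℤ) (AddMonoidHom.toMultiplicative f) hg)
    (retr_mapDomain (ULift.{u} ℤ) (AddMonoidHom.toMultiplicative f) hg)
    (T.hom ≫ Limits.IsTerminal.from specULiftZIsTerminal S)
  exact SchDom.isSchemeTheoreticallyDominant_of_comm_sq _ _ _ _ hdom
    (whiskerRight_left_comp_iso (Limits.IsTerminal.from specULiftZIsTerminal S) (AMon.map (ULift.{u} ℤ) f) T)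

end Main

section Formal

variable {C : Type*} [Category C] [CartesianMonoidalCategory C] {A B X : C} [MonObj A] [MonObj B]

/-- The orbit formula: for `A` acting on `B` by multiplication through a monoid morphism `ψ : A ⟶ B`, an equivariant
`φ : B ⊗ T ⟶ X` satisfies `φ (ψ g, t) = g • φ (1, t)`. -/
theorem whiskerRight_comp_eq (ψ : A ⟶ B) [IsMonHom ψ] (a : MonAct A X) {T : C} (φ : B ⊗ T ⟶ X)
    (hφ : MonAct.IsEquivariant (((MonAct.regular B).restrict ψ).prod (MonAct.trivial A T)) a φ) :
    (ψ ▷ T) ≫ φ = (A ◁ (lift (toUnit T ≫ η[B]) (𝟙 T) ≫ φ)) ≫ a.act := by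
  rw [MonAct.mem_eqvHom_iff] at hφ
  apply hom_ext_lift₂
  intro T' g y
  have h1 := hφ T' g (toUnit T' ≫ η[B]) y
  rw [MonAct.lift_restrict_act, MonAct.lift_regular_act] at h1
  have h2 : (g ≫ ψ) * (toUnit T' ≫ η[B]) = g ≫ ψ := by
    rw [← Hom.one_def, _root_.mul_one]
  rw [h2] at h1
  have h3 : lift (toUnit T' ≫ η[B]) y = y ≫ lift (toUnit T ≫ η[B]) (𝟙 T) := by
    rw [comp_lift, Category.comp_id, ← Category.assoc, toUnit_unique (y ≫ toUnit T)]
  rw [h3, Category.assoc] at h1
  rw [lift_whiskerRight_assoc, h1, lift_whiskerLeft_assoc]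

end Formal

section Sep

variable {S : Scheme.{u}} {M : Type} [AddCommMonoid M]

/-- For `X` separated over `S`: an element of the attractor `X^N` over `T` is determined by its evaluation at the unit section. -/
theorem attr_ext_of_evalAt_eq (X : Over S) [IsSeparated X.hom] (a : MonAct (AMonS S M) X) (N : AddSubmonoid M) (T : Over S)
    (φ₁ φ₂ : (attr a N).obj (op T))
    (h : (attrToX a N).app (op T) φ₁ = (attrToX a N).app (op T) φ₂) : φ₁ = φ₂ := by
  apply Subtype.ext
  have hdom := dominant_AMonS_map_whiskerRight S N.subtype Subtype.val_injective T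
  refine SchDom.ext_of_dominant_of_isSeparated (AMonS.map S N.subtype ▷ T) ?_
  have h' : lift (toUnit T ≫ η[AMonS S N]) (𝟙 T) ≫ φ₁.1 = lift (toUnit T ≫ η[AMonS S N]) (𝟙 T) ≫ φ₂.1 := h
  rw [whiskerRight_comp_eq (AMonS.map S N.subtype) a φ₁.1 φ₁.2, whiskerRight_comp_eq (AMonS.map S N.subtype) a φ₂.1 φ₂.2, h']

end Sep

section Closed

variable {S : Scheme.{u}} {M : Type} [AddCommMonoid M]

/-- For an equivariant closed immersion `f : Z ⟶ Y` of `A(M)_S`-schemes and any magnet `N`: `Z^N = Z ×_Y Y^N` as functors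
(no further hypothesis on `Y` is needed: `A(M)_S ×_S T ⟶ A(N)_S ×_S T` is scheme-theoretically dominant). -/
theorem isPullback_postcomp_attrToX_of_isClosedImmersion (N : AddSubmonoid M) {Y Z : Over S}
    (aY : MonAct (AMonS S M) Y) (aZ : MonAct (AMonS S M) Z) (f : Z ⟶ Y) [IsClosedImmersion f.left]
    (hf : MonAct.IsEquivariant aZ aY f) :
    IsPullback (MonAct.eqvHom.postcomp (subAct S M N) f hf) (attrToX aZ N) (attrToX aY N) (yoneda.map f) := by
  have hfmono : Mono f := by
    have : Mono f.left := inferInstance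
    exact (Over.forget _).mono_of_mono_map this
  have hf' : aZ.act ≫ f = (AMonS S M ◁ f) ≫ aY.act := hf
  refine IsPullback.of_forall_isPullback_app fun T => ?_
  rw [Types.isPullback_iff]
  refine ⟨?_, ?_, ?_⟩
  · ext φ
    change (lift (toUnit (unop T) ≫ η[AMonS S N]) (𝟙 (unop T)) ≫ (φ.1 ≫ f)) =
      (lift (toUnit (unop T) ≫ η[AMonS S N]) (𝟙 (unop T)) ≫ φ.1) ≫ f
    rw [Category.assoc]
  · rintro x₁ y₁ ⟨h1, -⟩
    apply Subtype.ext
    have h2 : x₁.1 ≫ f = y₁.1 ≫ f := congrArg Subtype.val h1
    exact (cancel_mono f).mp h2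
  · rintro ⟨φ, hφ⟩ z hz
    have hz' : lift (toUnit (unop T) ≫ η[AMonS S N]) (𝟙 (unop T)) ≫ φ = z ≫ f := hz
    have hcompat : (AMonS.map S N.subtype ▷ (unop T)) ≫ φ = ((AMonS S M ◁ z) ≫ aZ.act) ≫ f := by
      rw [whiskerRight_comp_eq (AMonS.map S N.subtype) aY φ hφ, hz', Category.assoc, hf',
        ← Category.assoc (AMonS S M ◁ z), ← MonoidalCategory.whiskerLeft_comp]
    have hdom := dominant_AMonS_map_whiskerRight S N.subtype Subtype.val_injective (unop T)
    obtain ⟨χ, hχ⟩ := SchDom.exists_factor_of_dominant_of_isClosedImmersion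
      (AMonS.map S N.subtype ▷ (unop T)) f φ ((AMonS S M ◁ z) ≫ aZ.act) hcompat
    have hχeq : MonAct.IsEquivariant ((subAct S M N).prod (MonAct.trivial (AMonS S M) (unop T))) aZ χ := by
      change _ ≫ χ = (AMonS S M ◁ χ) ≫ aZ.act
      rw [← cancel_mono f, Category.assoc, hχ, Category.assoc, hf', ← Category.assoc (AMonS S M ◁ χ),
        ← MonoidalCategory.whiskerLeft_comp, hχ]
      exact hφ
    refine ⟨⟨χ, hχeq⟩, ?_, ?_⟩
    · apply Subtype.ext
      exact hχ
    · change lift (toUnit (unop T) ≫ η[AMonS S N]) (𝟙 (unop T)) ≫ χ = z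
      rw [← cancel_mono f, Category.assoc, hχ, hz']

end Closed

end Groth.Agent.R2.H89.MagnetDom
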