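import Mathlib
import Groth.Prelude.Def_Magnet4
import Groth.Agent.R2.H89MagnetDom

/-!
# Change of monoid for attractors: upgrading equivariance along a dominant monoid morphism (helper89, round 2)
Namespace `Groth.Agent.R2.H89.MagnetIso`.
-/

set_option autoImplicit false
universe v₁ u₁ u
open CategoryTheory CategoryTheory.Limits MonoidalCategory CartesianMonoidalCategory MonObj AlgebraicGeometry Opposite
open Magnet

namespace Groth.Agent.R2.H89.MagnetIso

section General

variable {C : Type u₁} [Category.{v₁} C] [CartesianMonoidalCategory C]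
variable {A A' B X T : C} [MonObj A] [MonObj A']

/-- The action of `A'` on `B ⊗ T` through `j : A' ⟶ A` and `ρ` is the restriction of the action of `A`. -/
theorem whiskerRight_prod_trivial_act (j : A' ⟶ A) [IsMonHom j] (ρ : MonAct A B) :
    (j ▷ (B ⊗ T)) ≫ (ρ.prod (MonAct.trivial A T)).act = ((ρ.restrict j).prod (MonAct.trivial A' T)).act := by
  apply hom_ext_lift₂
  intro T' g z
  rw [← lift_comp_fst_snd z]
  rw [lift_whiskerRight_assoc, MonAct.lift_prod_act, MonAct.lift_prod_act, MonAct.lift_restrict_act,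
    MonAct.lift_trivial_act, MonAct.lift_trivial_act]

/-- **Upgrading equivariance**: if `φ : B ⊗ T ⟶ X` is equivariant for the actions restricted along `j : A' ⟶ A`, and
morphisms out of `A ⊗ (B ⊗ T)` to `X` are determined by their restriction along `j ▷ (B ⊗ T)`, then `φ` is `A`-equivariant. -/
theorem isEquivariant_of_restrict (j : A' ⟶ A) [IsMonHom j] (ρ : MonAct A B) (a : MonAct A X) (φ : B ⊗ T ⟶ X)
    (hφ : MonAct.IsEquivariant ((ρ.restrict j).prod (MonAct.trivial A' T)) (a.restrict j) φ)
    (hepi : ∀ u v : A ⊗ (B ⊗ T) ⟶ X, (j ▷ (B ⊗ T)) ≫ u = (j ▷ (B ⊗ T)) ≫ v → u = v) :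
    MonAct.IsEquivariant (ρ.prod (MonAct.trivial A T)) a φ := by
  apply hepi
  have h : ((ρ.restrict j).prod (MonAct.trivial A' T)).act ≫ φ = (A' ◁ φ) ≫ (a.restrict j).act := hφ
  rw [← Category.assoc, whiskerRight_prod_trivial_act, h, MonAct.restrict_act, ← whisker_exchange_assoc]

end General

section Schemes

variable (S : Scheme.{u}) {M N P : Type} [AddCommMonoid M] [AddCommMonoid N] [AddCommMonoid P]

theorem AMon_map_id (R : Type u) [CommRing R] : AMon.map R (AddMonoidHom.id M) = 𝟙 (AMon R M) := by
  ext : 1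
  rw [AMon.map_left]
  change Spec.map _ = 𝟙 _
  have : (CommRingCat.ofHom
      (MonoidAlgebra.mapDomainBialgHom R (AddMonoidHom.toMultiplicative (AddMonoidHom.id M))).toAlgHom.toRingHom) =
      𝟙 (CommRingCat.of (MonoidAlgebra R (Multiplicative M))) := by
    apply CommRingCat.hom_ext
    apply RingHom.ext
    intro x
    change (MonoidAlgebra.mapDomainBialgHom R (AddMonoidHom.toMultiplicative (AddMonoidHom.id M))) x = x
    have h : AddMonoidHom.toMultiplicative (AddMonoidHom.id M) = MonoidHom.id (Multiplicative M) := rfl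
    rw [h, MonoidAlgebra.mapDomainBialgHom_id]
    rfl
  rw [this, Spec.map_id]

theorem AMonS_map_id : AMonS.map S (AddMonoidHom.id M) = 𝟙 (AMonS S M) := by
  rw [AMonS.map, AMon_map_id, CategoryTheory.Functor.map_id]

/-- An additive equivalence of monoids induces an isomorphism of diagonalizable monoid schemes. -/
theorem AMonS_map_comp_symm (e : N ≃+ M) :
    AMonS.map S e.toAddMonoidHom ≫ AMonS.map S e.symm.toAddMonoidHom = 𝟙 (AMonS S M) := by
  rw [← AMonS.map_comp, ← AMonS_map_id]
  congr 1
  ext x
  simp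

end Schemes

end Groth.Agent.R2.H89.MagnetIso
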