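import Mathlib
import Groth.Prelude.Def_Magnet4
import Groth.Agent.R2.H89MagnetIso

/-!
# `A(⨆ N i)_S ×_S T = lim A(N i)_S ×_S T` and factorization of morphisms to lfp schemes (helper89, round 2)
Namespace `Groth.Agent.R2.H89.MagnetLim`.
-/

set_option autoImplicit false
universe u
open CategoryTheory CategoryTheory.Limits MonoidalCategory CartesianMonoidalCategory AlgebraicGeometry Opposite
open Magnet

namespace Groth.Agent.R2.H89.MagnetLim

section RingColimit

variable (R : Type u) [CommRing R] {M : Type} [AddCommMonoid M] {J : Type} [Preorder J]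
  (N : J → AddSubmonoid M) (hN : Monotone N)

instance isDirected_ulift [IsDirected J (· ≤ ·)] : IsDirected (ULift.{u} J) (· ≤ ·) :=
  ⟨fun a b => by
    obtain ⟨c, h1, h2⟩ := directed_of (· ≤ ·) a.down b.down
    exact ⟨⟨c⟩, h1, h2⟩⟩

/-- the ring map `R[N₁] → R[N₂]` for `N₁ ≤ N₂`. -/
noncomputable def incl {N₁ N₂ : AddSubmonoid M} (h : N₁ ≤ N₂) :
    CommRingCat.of (MonoidAlgebra R (Multiplicative N₁)) ⟶ CommRingCat.of (MonoidAlgebra R (Multiplicative N₂)) :=
  CommRingCat.ofHom
    (MonoidAlgebra.mapDomainBialgHom R (AddMonoidHom.toMultiplicative (AddSubmonoid.inclusion h))).toAlgHom.toRingHom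

theorem incl_apply_single {N₁ N₂ : AddSubmonoid M} (h : N₁ ≤ N₂) (n : Multiplicative N₁) (r : R) :
    (incl R h).hom (MonoidAlgebra.single n r) =
      MonoidAlgebra.single (AddMonoidHom.toMultiplicative (AddSubmonoid.inclusion h) n) r := by
  change MonoidAlgebra.mapDomainBialgHom R _ _ = _
  rw [MonoidAlgebra.mapDomainBialgHom_single]

theorem incl_refl (N₁ : AddSubmonoid M) : incl R (le_refl N₁) = 𝟙 _ := by
  apply CommRingCat.hom_ext
  apply MonoidAlgebra.ringHom_ext
  · intro r; simp [incl]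
  · intro m; simp [incl]; rfl

theorem incl_comp {N₁ N₂ N₃ : AddSubmonoid M} (h₁ : N₁ ≤ N₂) (h₂ : N₂ ≤ N₃) :
    incl R h₁ ≫ incl R h₂ = incl R (h₁.trans h₂) := by
  apply CommRingCat.hom_ext
  apply MonoidAlgebra.ringHom_ext
  · intro r; simp [incl]
  · intro m; simp [incl]; rfl

theorem incl_injective {N₁ N₂ : AddSubmonoid M} (h : N₁ ≤ N₂) : Function.Injective (incl R h).hom := by
  intro x y hxy
  have h1 := MagnetDom.retr_mapDomain R (AddMonoidHom.toMultiplicative (AddSubmonoid.inclusion h))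
    (AddSubmonoid.inclusion_injective h) x
  have h2 := MagnetDom.retr_mapDomain R (AddMonoidHom.toMultiplicative (AddSubmonoid.inclusion h))
    (AddSubmonoid.inclusion_injective h) y
  rw [← h1, ← h2]
  exact congrArg _ hxy


section Colim

variable [IsDirected J (· ≤ ·)] [Nonempty J]

include hN in
theorem exists_incl_eq (x : MonoidAlgebra R (Multiplicative ↥(⨆ i, N i))) :
    ∃ (i : J) (y : MonoidAlgebra R (Multiplicative (N i))), (incl R (le_iSup N i)).hom y = x := by
  induction x using MonoidAlgebra.induction_linear with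
  | zero => exact ⟨Classical.arbitrary J, 0, map_zero _⟩
  | add x y hx hy =>
    obtain ⟨i, x', rfl⟩ := hx
    obtain ⟨j, y', rfl⟩ := hy
    obtain ⟨k, hik, hjk⟩ := directed_of (· ≤ ·) i j
    refine ⟨k, (incl R (hN hik)).hom x' + (incl R (hN hjk)).hom y', ?_⟩
    rw [map_add]
    congr 1
    · rw [← CommRingCat.comp_apply, incl_comp]
    · rw [← CommRingCat.comp_apply, incl_comp]
  | single m r =>
    obtain ⟨i, hi⟩ := (AddSubmonoid.mem_iSup_of_directed hN.directed_le).1 (Multiplicative.toAdd m).2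
    refine ⟨i, MonoidAlgebra.single (Multiplicative.ofAdd ⟨(Multiplicative.toAdd m).1, hi⟩) r, ?_⟩
    rw [incl_apply_single]
    rfl

/-- the diagram `i ↦ R[N i]`. -/
noncomputable def ringDiag : ULift.{u} J ⥤ CommRingCat.{u} where
  obj i := CommRingCat.of (MonoidAlgebra R (Multiplicative (N i.down)))
  map {i j} h := incl R (hN (ULift.down_le.mpr (leOfHom h)))
  map_id i := incl_refl R _
  map_comp f g := (incl_comp R _ _).symm

/-- the cocone `R[N i] → R[⨆ N i]`. -/
noncomputable def ringCocone : Cocone (ringDiag R N hN) where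
  pt := CommRingCat.of (MonoidAlgebra R (Multiplicative (⨆ i, N i : AddSubmonoid M)))
  ι :=
    { app := fun i => incl R (le_iSup N i.down)
      naturality := fun i j h => by
        change incl R _ ≫ incl R _ = incl R _ ≫ 𝟙 _
        rw [incl_comp, Category.comp_id] }

noncomputable def ringCoconeIsColimit : IsColimit (ringCocone R N hN) := by
  have : ReflectsColimit (ringDiag R N hN) (forget CommRingCat.{u}) :=
    reflectsColimit_of_reflectsIsomorphisms _ _
  apply isColimitOfReflects (forget CommRingCat.{u})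
  refine Types.FilteredColimit.isColimitOf' _ _ ?_ ?_
  · intro x
    obtain ⟨i, y, hy⟩ := exists_incl_eq R N hN x
    exact ⟨⟨i⟩, y, hy.symm⟩
  · intro i x y hxy
    refine ⟨i, 𝟙 i, ?_⟩
    have := incl_injective R (le_iSup N i.down) (a₁ := x) (a₂ := y) hxy
    rw [this]

end Colim

end RingColimit


section SchemeLimit

variable (R : Type u) [CommRing R] {M : Type} [AddCommMonoid M] {J : Type} [Preorder J]
  (N : J → AddSubmonoid M) (hN : Monotone N) [IsDirected J (· ≤ ·)] [Nonempty J]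

theorem AMon_map_inclusion_refl (N₁ : AddSubmonoid M) :
    AMon.map R (AddSubmonoid.inclusion (le_refl N₁)) = 𝟙 (AMon R ↥N₁) := by
  rw [← MagnetIso.AMon_map_id]
  rfl

/-- the diagram `i ↦ A(N i)_R` in `Over (Spec R)`. -/
noncomputable def amonDiag : (ULift.{u} J)ᵒᵖ ⥤ Over (Spec (CommRingCat.of R)) where
  obj i := AMon R (N i.unop.down)
  map {i j} h := AMon.map R (AddSubmonoid.inclusion (hN (ULift.down_le.mpr (leOfHom h.unop))))
  map_id i := AMon_map_inclusion_refl R _
  map_comp f g := by rw [← AMon.map_comp]; rfl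

/-- the cone `A(⨆ N i)_R → A(N i)_R`. -/
noncomputable def amonCone : Cone (amonDiag R N hN) :=
  ⟨AMon R ↥(⨆ i, N i : AddSubmonoid M),
    ⟨fun i => AMon.map R (AddSubmonoid.inclusion (le_iSup N i.unop.down)), fun i j h => by
      change 𝟙 _ ≫ AMon.map R _ = AMon.map R _ ≫ AMon.map R _
      rw [Category.id_comp, ← AMon.map_comp]
      rfl⟩⟩

noncomputable def amonConeIsLimit : IsLimit (amonCone R N hN) := by
  have : IsConnected (ULift.{u} J)ᵒᵖ := IsCofiltered.isConnected _
  apply isLimitOfReflects (Over.forget _)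
  have h : IsLimit (Scheme.Spec.mapCone (ringCocone R N hN).op) :=
    isLimitOfPreserves Scheme.Spec (ringCoconeIsColimit R N hN).op
  exact h

end SchemeLimit


section BaseChange

variable (R : Type u) [CommRing R] {M : Type} [AddCommMonoid M] {J : Type} [Preorder J]
  (N : J → AddSubmonoid M) (hN : Monotone N) [IsDirected J (· ≤ ·)] [Nonempty J]
  {T' : Scheme.{u}} (q : T' ⟶ Spec (CommRingCat.of R))

/-- the cone `A(⨆ N i)_R ×_R T' → A(N i)_R ×_R T'` in schemes. -/
noncomputable def bcCone : Cone (amonDiag R N hN ⋙ Over.pullback q ⋙ Over.forget T') :=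
  (Over.pullback q ⋙ Over.forget T').mapCone (amonCone R N hN)

noncomputable def bcConeIsLimit : IsLimit (bcCone R N hN q) := by
  have : IsConnected (ULift.{u} J)ᵒᵖ := IsCofiltered.isConnected _
  have : PreservesLimitsOfSize.{u, u} (Over.pullback q) := (Over.mapPullbackAdj q).rightAdjoint_preservesLimits
  exact isLimitOfPreserves (Over.pullback q ⋙ Over.forget T') (amonConeIsLimit R N hN)

end BaseChange


section Factor

variable {S : Scheme.{u}} {M : Type} [AddCommMonoid M] {J : Type} [Preorder J]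
  (N : J → AddSubmonoid M) (hN : Monotone N) [IsDirected J (· ≤ ·)] [Nonempty J]

include hN in
theorem exists_factor (X : Over S) [LocallyOfFinitePresentation X.hom] (T : Over S) [IsAffine T.left]
    (φ : AMonS S ↥(⨆ i, N i) ⊗ T ⟶ X) :
    ∃ (i : J) (ψ : AMonS S ↥(N i) ⊗ T ⟶ X),
      (AMonS.map S (AddSubmonoid.inclusion (le_iSup N i)) ▷ T) ≫ ψ = φ := by
  let p := Limits.IsTerminal.from specULiftZIsTerminal S
  let q := T.hom ≫ p
  let D := amonDiag (ULift.{u} ℤ) N hN ⋙ Over.pullback q ⋙ Over.forget T.left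
  let c := bcCone (ULift.{u} ℤ) N hN q
  have hc := bcConeIsLimit (ULift.{u} ℤ) N hN q
  let t : D ⟶ (Functor.const _).obj S :=
    { app := fun i => ((Over.pullback q).obj ((amonDiag (ULift.{u} ℤ) N hN).obj i)).hom ≫ T.hom
      naturality := fun i j h => by
        change ((Over.pullback q).map ((amonDiag (ULift.{u} ℤ) N hN).map h)).left ≫ _ ≫ T.hom = (_ ≫ T.hom) ≫ 𝟙 S
        rw [Category.comp_id, Over.w_assoc] }
  let iso := pullbackLeftPullbackSndIso (AMon (ULift.{u} ℤ) ↥(⨆ i, N i)).hom p T.hom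
  let a : c.pt ⟶ X.left := iso.inv ≫ φ.left
  have hX : φ.left ≫ X.hom = pullback.snd _ T.hom ≫ T.hom := by
    rw [Over.w φ]
    change pullback.fst (pullback.snd _ p) T.hom ≫ pullback.snd _ p = _
    exact pullback.condition
  have ha : c.π ≫ t = (Functor.const _).map (a ≫ X.hom) := by
    ext i : 2
    change ((Over.pullback q).map ((amonCone (ULift.{u} ℤ) N hN).π.app i)).left ≫ _ ≫ T.hom = (iso.inv ≫ φ.left) ≫ X.hom
    have h2 : iso.inv ≫ pullback.snd (AMonS S ↥(⨆ i, N i)).hom T.hom =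
        pullback.snd (AMon (ULift.{u} ℤ) ↥(⨆ i, N i)).hom q := pullbackLeftPullbackSndIso_inv_snd_snd _ _ _
    rw [Over.w_assoc, Category.assoc, hX, ← Category.assoc, h2]
    rfl
  have haff : ∀ i, IsAffine (D.obj i) := by
    intro i
    have h1 : IsAffine (AMon (ULift.{u} ℤ) ↥(N i.unop.down)).left := by
      change IsAffine (Spec _)
      infer_instance
    exact AlgebraicGeometry.Scheme.Pullback.isAffine_of_isAffine_isAffine_isAffine (AMon (ULift.{u} ℤ) ↥(N i.unop.down)).hom q
  have : ∀ {i j} (f : i ⟶ j), IsAffineHom (D.map f) := fun f => inferInstance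
  obtain ⟨i, g, hg1, hg2⟩ := Scheme.exists_π_app_comp_eq_of_locallyOfFinitePresentation D t X.hom c hc a ha
  obtain ⟨i₀, rfl⟩ : ∃ i₀ : J, i = op (ULift.up i₀) := ⟨i.unop.down, rfl⟩
  let isoi := pullbackLeftPullbackSndIso (AMon (ULift.{u} ℤ) ↥(N i₀)).hom p T.hom
  let g' : pullback (AMon (ULift.{u} ℤ) ↥(N i₀)).hom q ⟶ X.left := g
  have hg1' : ((Over.pullback q).map (AMon.map (ULift.{u} ℤ) (AddSubmonoid.inclusion (le_iSup N i₀)))).left ≫ g' =
      iso.inv ≫ φ.left := hg1
  have hg2' : g' ≫ X.hom = pullback.snd (AMon (ULift.{u} ℤ) ↥(N i₀)).hom q ≫ T.hom := hg2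
  have hw : (isoi.hom ≫ g') ≫ X.hom = (AMonS S ↥(N i₀) ⊗ T).hom := by
    have h3 : isoi.hom ≫ pullback.snd (AMon (ULift.{u} ℤ) ↥(N i₀)).hom q =
        pullback.snd (AMonS S ↥(N i₀)).hom T.hom := pullbackLeftPullbackSndIso_hom_snd _ _ _
    rw [Category.assoc, hg2', ← Category.assoc, h3]
    change _ = pullback.fst (pullback.snd _ p) T.hom ≫ pullback.snd _ p
    exact pullback.condition.symm
  refine ⟨i₀, Over.homMk (isoi.hom ≫ g') hw, ?_⟩
  apply Over.OverMorphism.ext
  change (AMonS.map S (AddSubmonoid.inclusion (le_iSup N i₀)) ▷ T).left ≫ (isoi.hom ≫ g') = φ.left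
  have h4 := MagnetDom.whiskerRight_left_comp_iso p
    (AMon.map (ULift.{u} ℤ) (AddSubmonoid.inclusion (le_iSup N i₀))) T
  have h5 : (AMonS.map S (AddSubmonoid.inclusion (le_iSup N i₀)) ▷ T).left ≫ isoi.hom =
      iso.hom ≫ ((Over.pullback q).map (AMon.map (ULift.{u} ℤ) (AddSubmonoid.inclusion (le_iSup N i₀)))).left := by
    refine h4.trans ?_
    congr 1
  rw [← Category.assoc, h5, Category.assoc, hg1', Iso.hom_inv_id_assoc]

end Factor


section Swap

variable {C : Type*} [Category C] [CartesianMonoidalCategory C]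

/-- the swap `A ⊗ (B ⊗ T) ⟶ B ⊗ (A ⊗ T)`. -/
def swap12 (A B T : C) : A ⊗ (B ⊗ T) ⟶ B ⊗ (A ⊗ T) :=
  lift (snd _ _ ≫ fst _ _) (lift (fst _ _) (snd _ _ ≫ snd _ _))

@[reassoc (attr := simp)]
theorem swap12_swap12 (A B T : C) : swap12 A B T ≫ swap12 B A T = 𝟙 _ := by
  apply CartesianMonoidalCategory.hom_ext
  · simp [swap12]
  · apply CartesianMonoidalCategory.hom_ext <;> simp [swap12]

/-- the swap as an isomorphism. -/
def swap12Iso (A B T : C) : A ⊗ (B ⊗ T) ≅ B ⊗ (A ⊗ T) where
  hom := swap12 A B T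
  inv := swap12 B A T

theorem whiskerLeft_whiskerRight_swap12 (A : C) {B B' : C} (ψ : B' ⟶ B) (T : C) :
    (A ◁ (ψ ▷ T)) ≫ swap12 A B T = swap12 A B' T ≫ (ψ ▷ (A ⊗ T)) := by
  apply CartesianMonoidalCategory.hom_ext
  · simp [swap12]
  · apply CartesianMonoidalCategory.hom_ext <;> simp [swap12]

end Swap

section Equivariance

variable {C : Type*} [Category C] [CartesianMonoidalCategory C] {A B B' X T : C} [MonObj A]

/-- `ψ ▷ T` is equivariant for the actions through the first factor. -/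
theorem whiskerLeft_whiskerRight_prod_trivial_act {ρ : MonAct A B} {ρ' : MonAct A B'} (ψ : B' ⟶ B)
    (hψ : MonAct.IsEquivariant ρ' ρ ψ) :
    (A ◁ (ψ ▷ T)) ≫ (ρ.prod (MonAct.trivial A T)).act = (ρ'.prod (MonAct.trivial A T)).act ≫ (ψ ▷ T) := by
  rw [MonAct.isEquivariant_iff] at hψ
  apply hom_ext_lift₂
  intro T' g z
  rw [← lift_comp_fst_snd z]
  rw [lift_whiskerLeft_assoc, lift_whiskerRight, MonAct.lift_prod_act, MonAct.lift_prod_act_assoc,
    MonAct.lift_trivial_act, lift_whiskerRight]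
  congr 1
  rw [Category.assoc (lift g (z ≫ fst B' T)), hψ, Category.assoc]

theorem isEquivariant_of_precomp {ρ : MonAct A B} {ρ' : MonAct A B'} (a : MonAct A X) (ψ : B' ⟶ B)
    (hψ : MonAct.IsEquivariant ρ' ρ ψ) (φ₀ : B ⊗ T ⟶ X)
    (h : MonAct.IsEquivariant (ρ'.prod (MonAct.trivial A T)) a ((ψ ▷ T) ≫ φ₀))
    (hepi : ∀ u v : A ⊗ (B ⊗ T) ⟶ X, (A ◁ (ψ ▷ T)) ≫ u = (A ◁ (ψ ▷ T)) ≫ v → u = v) :
    MonAct.IsEquivariant (ρ.prod (MonAct.trivial A T)) a φ₀ := by
  apply hepi
  have h' : (ρ'.prod (MonAct.trivial A T)).act ≫ (ψ ▷ T) ≫ φ₀ = (A ◁ ((ψ ▷ T) ≫ φ₀)) ≫ a.act := h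
  rw [← Category.assoc, whiskerLeft_whiskerRight_prod_trivial_act ψ hψ, Category.assoc, h',
    MonoidalCategory.whiskerLeft_comp, Category.assoc]

end Equivariance

section Dominant

variable (S : Scheme.{u}) {M N : Type} [AddCommMonoid M] [AddCommMonoid N]

theorem dominant_whiskerLeft_AMonS_map_whiskerRight (f : N →+ M) (hf : Function.Injective f) (A T : Over S) :
    IsSchemeTheoreticallyDominant (A ◁ (AMonS.map S f ▷ T)).left := by
  have hdom := MagnetDom.dominant_AMonS_map_whiskerRight S f hf (A ⊗ T)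
  refine SchDom.isSchemeTheoreticallyDominant_of_comm_sq (AMonS.map S f ▷ (A ⊗ T)).left _
    ((Over.forget S).mapIso (swap12Iso A (AMonS S M) T)) ((Over.forget S).mapIso (swap12Iso A (AMonS S N) T)) hdom ?_
  exact congrArg (fun k => k.left) (whiskerLeft_whiskerRight_swap12 A (AMonS.map S f) T)

end Dominant

end Groth.Agent.R2.H89.MagnetLim
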