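import Mathlib
import Groth.Prelude.Def_Magnet4
import Groth.Agent.R2.H89MagnetLim
import Groth.Agent.R2.H55Kummer

/-!
# Attractor of a subgroup magnet = fixed points of the quotient's diagonalizable group (helper89, round 2)
Namespace `Groth.Agent.R2.H89.MagnetFix`.  Uses helper55's `H55GrpAlg` (group algebras are free over subgroup algebras) and
`H55DSPts` (points of diagonalizable groups), and Mathlib's fpqc descent of morphisms (`EffectiveEpi`).
-/

set_option autoImplicit false
universe u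
open CategoryTheory CategoryTheory.Limits MonoidalCategory CartesianMonoidalCategory AlgebraicGeometry Opposite
open Magnet

namespace Groth.Agent.R2.H89.MagnetFix

section Alg

variable {M : Type} [AddCommGroup M] (Z : AddSubgroup M)

/-- coset representatives. -/
noncomputable def rep (q : M ⧸ Z) : Multiplicative M := Multiplicative.ofAdd (Quotient.out q)

theorem bij : Function.Bijective
    (fun p : Multiplicative ↥Z × (M ⧸ Z) => (AddMonoidHom.toMultiplicative Z.subtype) p.1 * rep Z p.2) := by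
  constructor
  · rintro ⟨z, q⟩ ⟨z', q'⟩ h
    have h' : ((Multiplicative.toAdd z : ↥Z) : M) + Quotient.out q = ((Multiplicative.toAdd z' : ↥Z) : M) + Quotient.out q' := h
    have hq : q = q' := by
      have h1 := congrArg (QuotientAddGroup.mk (s := Z)) h'
      simp only [QuotientAddGroup.mk_add] at h1
      have e1 : (QuotientAddGroup.mk (s := Z) ((Multiplicative.toAdd z : ↥Z) : M)) = 0 :=
        (QuotientAddGroup.eq_zero_iff _).2 (Multiplicative.toAdd z).2
      have e2 : (QuotientAddGroup.mk (s := Z) ((Multiplicative.toAdd z' : ↥Z) : M)) = 0 :=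
        (QuotientAddGroup.eq_zero_iff _).2 (Multiplicative.toAdd z').2
      rw [e1, e2, zero_add, zero_add] at h1
      have o1 : (QuotientAddGroup.mk (s := Z) (Quotient.out q)) = q := Quotient.out_eq' q
      have o2 : (QuotientAddGroup.mk (s := Z) (Quotient.out q')) = q' := Quotient.out_eq' q'
      rw [o1, o2] at h1
      exact h1
    subst hq
    have hz : ((Multiplicative.toAdd z : ↥Z) : M) = ((Multiplicative.toAdd z' : ↥Z) : M) := add_right_cancel h'
    have : Multiplicative.toAdd z = Multiplicative.toAdd z' := Subtype.ext hz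
    rw [Prod.mk.injEq]
    exact ⟨this, rfl⟩
  · intro m
    obtain ⟨h, hh⟩ := QuotientAddGroup.mk_out_eq_add Z (Multiplicative.toAdd m)
    refine ⟨(Multiplicative.ofAdd (-h), QuotientAddGroup.mk (Multiplicative.toAdd m)), ?_⟩
    change Multiplicative.ofAdd (((-h : ↥Z) : M) + Quotient.out (QuotientAddGroup.mk (s := Z) (Multiplicative.toAdd m))) = m
    rw [hh]
    simp

end Alg


section Sch

open Groth.Agent.R2.H55

theorem AMon_map_left_eq (R : Type u) [CommRing R] {N M : Type} [AddCommMonoid N] [AddCommMonoid M] (f : N →+ M) :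
    (AMon.map R f).left = Spec.map (CommRingCat.ofHom
      (MonoidAlgebra.mapDomainRingHom R (AddMonoidHom.toMultiplicative f))) := by
  rw [AMon.map_left]
  rfl

/-- `(f ▷ T).left` is a base change of `f.left`. -/
theorem isPullback_whiskerRight_left {S : Scheme.{u}} {B B' : Over S} (f : B' ⟶ B) (T : Over S) :
    IsPullback (f ▷ T).left (pullback.fst B'.hom T.hom) (pullback.fst B.hom T.hom) f.left := by
  have hbig : IsPullback (pullback.snd B'.hom T.hom) (pullback.fst B'.hom T.hom) T.hom (f.left ≫ B.hom) := by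
    rw [Over.w f]
    exact (IsPullback.of_hasPullback B'.hom T.hom).flip
  have hright : IsPullback (pullback.snd B.hom T.hom) (pullback.fst B.hom T.hom) T.hom B.hom :=
    (IsPullback.of_hasPullback B.hom T.hom).flip
  have h1 : (f ▷ T).left ≫ pullback.fst B.hom T.hom = pullback.fst B'.hom T.hom ≫ f.left :=
    Over.whiskerRight_left_fst f
  have h2 : (f ▷ T).left ≫ pullback.snd B.hom T.hom = pullback.snd B'.hom T.hom :=
    Over.whiskerRight_left_snd f
  exact IsPullback.of_right (h₁₁ := (f ▷ T).left) (h₁₂ := pullback.snd B.hom T.hom)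
    (by rw [h2]; exact hbig) h1 hright

theorem whiskerRight_left_of (P : MorphismProperty Scheme.{u}) [P.IsStableUnderBaseChange]
    {S : Scheme.{u}} {B B' : Over S} (f : B' ⟶ B) (T : Over S) (hf : P f.left) : P (f ▷ T).left :=
  MorphismProperty.of_isPullback (isPullback_whiskerRight_left f T).flip hf

variable (S : Scheme.{u}) {M : Type} [AddCommGroup M] (Z : AddSubgroup M)

theorem flat_AMon_map_subtype : Flat (AMon.map (ULift.{u} ℤ) Z.subtype).left := by
  have h : Flat (Spec.map (CommRingCat.ofHom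
      (MonoidAlgebra.mapDomainRingHom (ULift.{u} ℤ) (AddMonoidHom.toMultiplicative Z.subtype)))) := by
    rw [HasRingHomProperty.Spec_iff (P := @Flat)]
    exact GrpAlg.flat _ _ (rep Z) (bij Z)
  exact h

theorem surjective_AMon_map_subtype : Surjective (AMon.map (ULift.{u} ℤ) Z.subtype).left := by
  have h : Surjective (Spec.map (CommRingCat.ofHom
      (MonoidAlgebra.mapDomainRingHom (ULift.{u} ℤ) (AddMonoidHom.toMultiplicative Z.subtype)))) := by
    constructor
    exact GrpAlg.comap_surjective _ _ (rep Z) (bij Z)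
  exact h

theorem isAffineHom_AMon_map_subtype : IsAffineHom (AMon.map (ULift.{u} ℤ) Z.subtype).left := by
  have h : IsAffineHom (Spec.map (CommRingCat.ofHom
      (MonoidAlgebra.mapDomainRingHom (ULift.{u} ℤ) (AddMonoidHom.toMultiplicative Z.subtype)))) := inferInstance
  exact h

theorem flat_whiskerRight (T : Over S) : Flat (AMonS.map S Z.subtype ▷ T).left :=
  whiskerRight_left_of @Flat _ T
    (Kummer.pullback_map_left_of @Flat _ _ (flat_AMon_map_subtype Z) inferInstance)

theorem surjective_whiskerRight (T : Over S) : Surjective (AMonS.map S Z.subtype ▷ T).left :=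
  whiskerRight_left_of @Surjective _ T
    (Kummer.pullback_map_left_of @Surjective _ _ (surjective_AMon_map_subtype Z) inferInstance)

theorem isAffineHom_whiskerRight (T : Over S) : IsAffineHom (AMonS.map S Z.subtype ▷ T).left :=
  whiskerRight_left_of @IsAffineHom _ T
    (Kummer.pullback_map_left_of @IsAffineHom _ _ (isAffineHom_AMon_map_subtype Z) inferInstance)

theorem effectiveEpi_whiskerRight (T : Over S) : EffectiveEpi (AMonS.map S Z.subtype ▷ T).left := by
  have := flat_whiskerRight S Z T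
  have := surjective_whiskerRight S Z T
  have := isAffineHom_whiskerRight S Z T
  infer_instance

end Sch


section Descent

variable {S : Scheme.{u}}

/-- An `S`-morphism whose underlying morphism of schemes is an effective epimorphism is an epimorphism of `Over S`. -/
theorem epi_of_effectiveEpi_left {W' W : Over S} (h : W' ⟶ W) [EffectiveEpi h.left] : Epi h :=
  (Over.forget S).epi_of_epi_map (inferInstance : Epi h.left)

/-- Descent of `S`-morphisms along an `S`-morphism whose underlying morphism of schemes is an effective epimorphism. -/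
theorem exists_desc_of_effectiveEpi {W' W X : Over S} (h : W' ⟶ W) [EffectiveEpi h.left] (Φ : W' ⟶ X)
    (hΦ : ∀ (V : Over S) (g₁ g₂ : V ⟶ W'), g₁ ≫ h = g₂ ≫ h → g₁ ≫ Φ = g₂ ≫ Φ) :
    ∃ φ : W ⟶ X, h ≫ φ = Φ := by
  have key : ∀ {V : Scheme.{u}} (g₁ g₂ : V ⟶ W'.left), g₁ ≫ h.left = g₂ ≫ h.left →
      g₁ ≫ Φ.left = g₂ ≫ Φ.left := by
    intro V g₁ g₂ hg
    have hs : g₂ ≫ W'.hom = g₁ ≫ W'.hom := by
      rw [← Over.w h, ← Category.assoc, ← hg, Category.assoc]
    let V' : Over S := Over.mk (g₁ ≫ W'.hom)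
    let G₁ : V' ⟶ W' := Over.homMk g₁ rfl
    let G₂ : V' ⟶ W' := Over.homMk g₂ hs
    have h12 : G₁ ≫ h = G₂ ≫ h := by
      apply Over.OverMorphism.ext
      exact hg
    exact congrArg (fun k => k.left) (hΦ V' G₁ G₂ h12)
  have hfac : h.left ≫ EffectiveEpi.desc h.left Φ.left key = Φ.left := EffectiveEpi.fac _ _ _
  have hw : EffectiveEpi.desc h.left Φ.left key ≫ X.hom = W.hom := by
    rw [← cancel_epi h.left, ← Category.assoc, hfac, Over.w, Over.w]
  refine ⟨Over.homMk (EffectiveEpi.desc h.left Φ.left key) hw, ?_⟩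
  apply Over.OverMorphism.ext
  exact hfac

end Descent

section Points

open Groth.Agent.R2.H55 Groth.Agent.R2.H55.DSPts MonObj

variable (S : Scheme.{u}) {M : Type} [AddCommGroup M] (Z : AddSubgroup M)

theorem AMonS_map_eq_DSmap {N : Type} [AddCommGroup N] (f : N →+ M) : AMonS.map S f = Red.DSmap S f := rfl

/-- `D(M/Z) ⟶ D(M) ⟶ D(Z)` is trivial. -/
theorem DSmap_mk_comp_subtype :
    Red.DSmap S (QuotientAddGroup.mk' Z) ≫ Red.DSmap S Z.subtype = 1 := by
  apply dsFn_injective
  intro m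
  rw [dsFn_DSmap, dsFn_one]
  have h : Red.DSmap S (QuotientAddGroup.mk' Z) = 𝟙 _ ≫ Red.DSmap S (QuotientAddGroup.mk' Z) :=
    (Category.id_comp _).symm
  rw [h, dsFn_DSmap]
  have : (QuotientAddGroup.mk' Z) (Z.subtype m) = 0 := by
    rw [QuotientAddGroup.mk'_apply, QuotientAddGroup.eq_zero_iff]
    exact m.2
  rw [this, dsFn_zero]

/-- `D(M/Z)` is the kernel of `D(M) ⟶ D(Z)` on points. -/
theorem exists_lift_of_comp_eq_one {W : Over S} (d : W ⟶ Red.DS S M)
    (hd : d ≫ Red.DSmap S Z.subtype = 1) :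
    ∃ d' : W ⟶ Red.DS S (M ⧸ Z), d' ≫ Red.DSmap S (QuotientAddGroup.mk' Z) = d := by
  have hker : ∀ z : ↥Z, dsFn d (z : M) = 1 := by
    intro z
    have := dsFn_DSmap Z.subtype d z
    rw [hd, dsFn_one] at this
    exact this.symm
  let χ : M →+ Additive Γ(W.left, ⊤) := MonoidHom.toAdditiveRight (dsHom d)
  have hχ : ∀ m : M, χ m = Additive.ofMul (dsFn d m) := fun m => rfl
  have hZ : Z ≤ χ.ker := by
    intro z hz
    rw [AddMonoidHom.mem_ker, hχ]
    have := hker ⟨z, hz⟩
    rw [this]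
    rfl
  let χ' : M ⧸ Z →+ Additive Γ(W.left, ⊤) := QuotientAddGroup.lift Z χ hZ
  obtain ⟨d', hd'⟩ := dsFn_surjective (S := S) (X := W) (AddMonoidHom.toMultiplicativeLeft χ')
  refine ⟨d', ?_⟩
  apply dsFn_injective
  intro m
  rw [dsFn_DSmap, hd']
  change Additive.toMul (χ' (QuotientAddGroup.mk m)) = _
  rw [QuotientAddGroup.lift_mk, hχ]
  rfl

end Points


section Main

open MonObj Groth.Agent.R2.H55.DSPts

variable {S : Scheme.{u}} {M : Type} [AddCommGroup M] (Z : AddSubgroup M) {X : Over S}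

/-- the identity equivalence between the carrier of `Z` as a submonoid and as a subgroup. -/
def e₀ : ↥Z.toAddSubmonoid ≃+ ↥Z where
  toFun x := ⟨x.1, x.2⟩
  invFun x := ⟨x.1, x.2⟩
  left_inv _ := rfl
  right_inv _ := rfl
  map_add' _ _ := rfl

theorem map_subtype_eq : AMonS.map S Z.toAddSubmonoid.subtype =
    AMonS.map S Z.subtype ≫ AMonS.map S (e₀ Z).toAddMonoidHom := by
  rw [← AMonS.map_comp]
  rfl

instance isIso_map_e₀ : IsIso (AMonS.map S (e₀ Z).toAddMonoidHom) :=
  ⟨AMonS.map S (e₀ Z).symm.toAddMonoidHom, MagnetIso.AMonS_map_comp_symm S (e₀ Z),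
    MagnetIso.AMonS_map_comp_symm S (e₀ Z).symm⟩

theorem effectiveEpi_whiskerRight_toAddSubmonoid (T : Over S) :
    EffectiveEpi (AMonS.map S Z.toAddSubmonoid.subtype ▷ T).left := by
  rw [map_subtype_eq, comp_whiskerRight, Over.comp_left]
  have := flat_whiskerRight S Z T
  have := surjective_whiskerRight S Z T
  have := isAffineHom_whiskerRight S Z T
  have hiso : IsIso (AMonS.map S (e₀ Z).toAddMonoidHom ▷ T).left :=
    (Over.forget S).map_isIso (AMonS.map S (e₀ Z).toAddMonoidHom ▷ T)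
  infer_instance

theorem epi_whiskerRight_toAddSubmonoid (T : Over S) : Epi (AMonS.map S Z.toAddSubmonoid.subtype ▷ T) := by
  have := effectiveEpi_whiskerRight_toAddSubmonoid Z T
  exact epi_of_effectiveEpi_left _

theorem epi_whiskerLeft_whiskerRight_toAddSubmonoid (A T : Over S) :
    Epi (A ◁ (AMonS.map S Z.toAddSubmonoid.subtype ▷ T)) := by
  have h := MagnetLim.whiskerLeft_whiskerRight_swap12 A (AMonS.map S Z.toAddSubmonoid.subtype) T
  have h2 : A ◁ (AMonS.map S Z.toAddSubmonoid.subtype ▷ T) =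
      MagnetLim.swap12 A (AMonS S M) T ≫ (AMonS.map S Z.toAddSubmonoid.subtype ▷ (A ⊗ T)) ≫
        MagnetLim.swap12 (AMonS S ↥Z.toAddSubmonoid) A T := by
    rw [← Category.assoc, ← h, Category.assoc, MagnetLim.swap12_swap12, Category.comp_id]
  rw [h2]
  have := epi_whiskerRight_toAddSubmonoid Z (A ⊗ T)
  have : IsIso (MagnetLim.swap12 A (AMonS S M) T) := (MagnetLim.swap12Iso A (AMonS S M) T).isIso_hom
  have : IsIso (MagnetLim.swap12 (AMonS S ↥Z.toAddSubmonoid) A T) :=
    (MagnetLim.swap12Iso (AMonS S ↥Z.toAddSubmonoid) A T).isIso_hom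
  infer_instance

end Main


section Core

open MonObj GrpObj Groth.Agent.R2.H55.DSPts

variable {S : Scheme.{u}} {M : Type} [AddCommGroup M] (Z : AddSubgroup M) {X : Over S}

/-- two points of `D(M)` with the same image in `D(Z)` differ by a point of `D(M/Z)`. -/
theorem exists_eq_mul_of_comp_eq {V : Over S} (a₁ a₂ : V ⟶ Red.DS S M)
    (h : a₁ ≫ AMonS.map S Z.toAddSubmonoid.subtype = a₂ ≫ AMonS.map S Z.toAddSubmonoid.subtype) :
    ∃ d' : V ⟶ Red.DS S (M ⧸ Z), a₁ = a₂ * (d' ≫ Red.DSmap S (QuotientAddGroup.mk' Z)) := by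
  have h' : a₁ ≫ Red.DSmap S Z.subtype = a₂ ≫ Red.DSmap S Z.subtype := by
    rw [map_subtype_eq, ← Category.assoc, ← Category.assoc, cancel_mono] at h
    exact h
  have : IsMonHom (Red.DSmap S Z.subtype) := Groth.Agent.Lib.Helper27DiagSub.isMonHom_DSmap S _
  have hw : (a₂⁻¹ * a₁) ≫ Red.DSmap S Z.subtype = 1 := by
    rw [MonObj.mul_comp _ _ (Red.DSmap S Z.subtype), h', ← MonObj.mul_comp _ _ (Red.DSmap S Z.subtype),
      inv_mul_cancel, MonObj.one_comp (Red.DSmap S Z.subtype)]
  obtain ⟨d', hd'⟩ := exists_lift_of_comp_eq_one S Z (a₂⁻¹ * a₁) hw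
  refine ⟨d', ?_⟩
  rw [hd', mul_inv_cancel_left]

end Core


section Exists

open MonObj GrpObj Groth.Agent.R2.H55.DSPts

variable {S : Scheme.{u}} {M : Type} [AddCommGroup M] (Z : AddSubgroup M) {X : Over S}

/-- the orbit map of a point fixed by `D(M/Z)` descends along `D(M) ×_S T ⟶ D(Z) ×_S T` to an element of the attractor. -/
theorem exists_attr_of_fixed (b : MonAct (AMonS S M) X) (T : Over S) (x : T ⟶ X)
    (hx : ∀ (T' : Over S) (t : T' ⟶ T) (g : T' ⟶ AMonS S (M ⧸ Z)),
      lift (g ≫ AMonS.map S (QuotientAddGroup.mk' Z)) (t ≫ x) ≫ b.act = t ≫ x) :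
    ∃ φ : AMonS S ↥Z.toAddSubmonoid ⊗ T ⟶ X,
      MonAct.IsEquivariant ((subAct S M Z.toAddSubmonoid).prod (MonAct.trivial (AMonS S M) T)) b φ ∧
      (AMonS.map S Z.toAddSubmonoid.subtype ▷ T) ≫ φ = (AMonS S M ◁ x) ≫ b.act := by
  have := effectiveEpi_whiskerRight_toAddSubmonoid Z T
  obtain ⟨φ, hφ⟩ := exists_desc_of_effectiveEpi (AMonS.map S Z.toAddSubmonoid.subtype ▷ T)
    ((AMonS S M ◁ x) ≫ b.act) (by
      intro V g₁ g₂ h12
      have hsnd : g₁ ≫ snd _ _ = g₂ ≫ snd _ _ := by
        have := congrArg (fun k => k ≫ snd _ _) h12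
        simpa only [Category.assoc, whiskerRight_snd] using this
      have hfst : (g₁ ≫ fst _ _) ≫ AMonS.map S Z.toAddSubmonoid.subtype =
          (g₂ ≫ fst _ _) ≫ AMonS.map S Z.toAddSubmonoid.subtype := by
        have := congrArg (fun k => k ≫ fst _ _) h12
        simpa only [Category.assoc, whiskerRight_fst] using this
      obtain ⟨d', hd'⟩ := exists_eq_mul_of_comp_eq Z (g₁ ≫ fst _ _) (g₂ ≫ fst _ _) hfst
      rw [← lift_comp_fst_snd g₁, ← lift_comp_fst_snd g₂, lift_whiskerLeft_assoc, lift_whiskerLeft_assoc, hsnd, hd']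
      have hmul := MonAct.lift_mul_act b (g₂ ≫ fst _ _) (d' ≫ Red.DSmap S (QuotientAddGroup.mk' Z))
        ((g₂ ≫ snd _ _) ≫ x)
      refine hmul.trans ?_
      have hx' : lift (d' ≫ Red.DSmap S (QuotientAddGroup.mk' Z)) ((g₂ ≫ snd _ _) ≫ x) ≫ b.act =
          (g₂ ≫ snd _ _) ≫ x := hx V (g₂ ≫ snd _ _) d'
      rw [hx'])
  refine ⟨φ, ?_, hφ⟩
  have hψ : MonAct.IsEquivariant (MonAct.regular (AMonS S M)) (subAct S M Z.toAddSubmonoid)
      (AMonS.map S Z.toAddSubmonoid.subtype) := by
    rw [MonAct.isEquivariant_iff]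
    intro T' g y
    rw [subAct, MonAct.lift_regular_act_assoc, MonAct.lift_restrict_act, MonAct.lift_regular_act, MonObj.mul_comp]
  refine MagnetLim.isEquivariant_of_precomp b _ hψ φ ?_ ?_
  · rw [hφ]
    exact ((MonAct.eqvHom.ofPoint b).app (op T) x).2
  · intro u v huv
    have := epi_whiskerLeft_whiskerRight_toAddSubmonoid Z (AMonS S M) T
    exact (cancel_epi _).mp huv

end Exists


section Iso

open MonObj GrpObj Groth.Agent.R2.H55.DSPts

variable {S : Scheme.{u}} {M : Type} [AddCommGroup M] (Z : AddSubgroup M) {X : Over S}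

/-- the value at the unit section of an element of the attractor `X^Z` is fixed by `D(M/Z)`. -/
theorem evalAt_fixed (b : MonAct (AMonS S M) X) (T : Over S) (φ : (attr b Z.toAddSubmonoid).obj (op T))
    (T' : Over S) (t : T' ⟶ T) (g : T' ⟶ AMonS S (M ⧸ Z)) :
    lift g (t ≫ (attrToX b Z.toAddSubmonoid).app (op T) φ) ≫
      (b.restrict (AMonS.map S (QuotientAddGroup.mk' Z))).act =
      t ≫ (attrToX b Z.toAddSubmonoid).app (op T) φ := by
  have horb := MagnetDom.whiskerRight_comp_eq (AMonS.map S Z.toAddSubmonoid.subtype) b φ.1 φ.2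
  change lift g (t ≫ (lift (toUnit T ≫ η[AMonS S ↥Z.toAddSubmonoid]) (𝟙 T) ≫ φ.1)) ≫ _ =
    t ≫ (lift (toUnit T ≫ η[AMonS S ↥Z.toAddSubmonoid]) (𝟙 T) ≫ φ.1)
  rw [MonAct.lift_restrict_act, ← lift_whiskerLeft_assoc, ← horb, lift_whiskerRight_assoc]
  have h1 : (g ≫ AMonS.map S (QuotientAddGroup.mk' Z)) ≫ AMonS.map S Z.toAddSubmonoid.subtype =
      toUnit T' ≫ η[AMonS S ↥Z.toAddSubmonoid] := by
    have h2 : AMonS.map S (QuotientAddGroup.mk' Z) ≫ AMonS.map S Z.subtype = 1 := DSmap_mk_comp_subtype S Z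
    rw [map_subtype_eq, Category.assoc, ← Category.assoc (AMonS.map S (QuotientAddGroup.mk' Z)), h2,
      MonObj.one_comp, MonObj.comp_one, Hom.one_def]
  rw [h1]
  rw [← Category.assoc t, comp_lift, Category.comp_id, ← Category.assoc, toUnit_unique (t ≫ toUnit T) (toUnit T')]

/-- the canonical map from the attractor `X^Z` to the fixed points of `D(M/Z)`. -/
noncomputable def toFix (b : MonAct (AMonS S M) X) :
    attr b Z.toAddSubmonoid ⟶ MonAct.fixedPsh (b.restrict (AMonS.map S (QuotientAddGroup.mk' Z))) where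
  app T := TypeCat.ofHom fun φ => ⟨(attrToX b Z.toAddSubmonoid).app T φ, fun T' t g => evalAt_fixed Z b (unop T) φ T' t g⟩
  naturality T T' t := ConcreteCategory.hom_ext _ _ fun φ => Subtype.ext (by
    have := congrArg (fun k => k φ) ((attrToX b Z.toAddSubmonoid).naturality t)
    exact this)

end Iso


section IsIso

open MonObj GrpObj Groth.Agent.R2.H55.DSPts

variable {S : Scheme.{u}} {M : Type} [AddCommGroup M] (Z : AddSubgroup M) {X : Over S}

theorem isIso_toFix (b : MonAct (AMonS S M) X) : IsIso (toFix Z b) := by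
  rw [NatTrans.isIso_iff_isIso_app]
  intro T
  rw [isIso_iff_bijective]
  constructor
  · intro φ₁ φ₂ h
    have h' : lift (toUnit (unop T) ≫ η[AMonS S ↥Z.toAddSubmonoid]) (𝟙 (unop T)) ≫ φ₁.1 =
        lift (toUnit (unop T) ≫ η[AMonS S ↥Z.toAddSubmonoid]) (𝟙 (unop T)) ≫ φ₂.1 := congrArg Subtype.val h
    apply Subtype.ext
    have := epi_whiskerRight_toAddSubmonoid Z (unop T)
    rw [← cancel_epi (AMonS.map S Z.toAddSubmonoid.subtype ▷ unop T),
      MagnetDom.whiskerRight_comp_eq (AMonS.map S Z.toAddSubmonoid.subtype) b φ₁.1 φ₁.2,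
      MagnetDom.whiskerRight_comp_eq (AMonS.map S Z.toAddSubmonoid.subtype) b φ₂.1 φ₂.2, h']
  · rintro ⟨x, hx⟩
    obtain ⟨φ, hφeq, hφ⟩ := exists_attr_of_fixed Z b (unop T) x (fun T' t g => by
      have := hx T' t g
      rwa [MonAct.lift_restrict_act] at this)
    refine ⟨⟨φ, hφeq⟩, Subtype.ext ?_⟩
    change lift (toUnit (unop T) ≫ η[AMonS S ↥Z.toAddSubmonoid]) (𝟙 (unop T)) ≫ φ = x
    have h1 : η[AMonS S ↥Z.toAddSubmonoid] = η[AMonS S M] ≫ AMonS.map S Z.toAddSubmonoid.subtype :=
      (IsMonHom.one_hom (f := AMonS.map S Z.toAddSubmonoid.subtype)).symm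
    rw [h1, ← Category.assoc, ← lift_whiskerRight, Category.assoc, hφ, lift_whiskerLeft_assoc, Category.id_comp,
      ← Hom.one_def, MonAct.lift_one_act]

end IsIso

end Groth.Agent.R2.H89.MagnetFix
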