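import Mathlib
import Groth.Prelude.Def_Magnet4
import Groth.Agent.Lib.Helper20IdealComap
import Groth.Agent.Lib.Helper18UT4

/-!
# Square-zero thickenings `B ×_S Spec (A/I) ⟶ B ×_S Spec A` and uniqueness of lifts along them
(helper89, round 2).  Namespace `Groth.Agent.R2.H89.MagnetThick`.
-/

set_option autoImplicit false
universe u
open CategoryTheory CategoryTheory.Limits MonoidalCategory CartesianMonoidalCategory AlgebraicGeometry Opposite

namespace Groth.Agent.R2.H89.MagnetThick

/-- For `t : T ⟶ T'` in `Over S` the square with top `(B ◁ t).left`, the two second projections and bottom `t.left`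
is cartesian. -/
theorem isPullback_whiskerLeft_left {S : Scheme.{u}} (B : Over S) {T T' : Over S} (t : T ⟶ T') :
    IsPullback (pullback.snd B.hom T.hom) (B ◁ t).left t.left (pullback.snd B.hom T'.hom) := by
  have hbig : IsPullback (pullback.fst B.hom T.hom) (pullback.snd B.hom T.hom) B.hom (t.left ≫ T'.hom) := by
    rw [Over.w t]
    exact IsPullback.of_hasPullback B.hom T.hom
  have hright : IsPullback (pullback.fst B.hom T'.hom) (pullback.snd B.hom T'.hom) B.hom T'.hom :=
    IsPullback.of_hasPullback B.hom T'.hom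
  have h1 : (B ◁ t).left ≫ pullback.fst B.hom T'.hom = pullback.fst B.hom T.hom :=
    Over.whiskerLeft_left_fst t
  have h2 : (B ◁ t).left ≫ pullback.snd B.hom T'.hom = pullback.snd B.hom T.hom ≫ t.left :=
    Over.whiskerLeft_left_snd t
  exact (IsPullback.of_right (h₁₁ := (B ◁ t).left) (h₁₂ := pullback.fst B.hom T'.hom)
    (by rw [h1]; exact hbig) h2 hright).flip

/-- `B ×_S Spec (A/I) ⟶ B ×_S Spec A` is a first order thickening when `I ^ 2 = ⊥`. -/
theorem isFirstOrderThickening_whiskerLeft {S : Scheme.{u}} (B : Over S) (A : Type u) [CommRing A] (I : Ideal A)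
    (hI : I ^ 2 = ⊥) (str : Spec (CommRingCat.of A) ⟶ S) :
    MoreMor.IsFirstOrderThickening (B ◁ (Over.homMk (Spec.map (CommRingCat.ofHom (Ideal.Quotient.mk I))) rfl :
        Over.mk (Spec.map (CommRingCat.ofHom (Ideal.Quotient.mk I)) ≫ str) ⟶ Over.mk str)).left := by
  refine Groth.Agent.Lib.Helper20.IdealComap.isFirstOrderThickening_of_isPullback
    (isPullback_whiskerLeft_left B _) ?_
  refine Groth.Agent.Helper18UT.isFirstOrderThickening_SpecMap _ Ideal.Quotient.mk_surjective ?_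
  change RingHom.ker (Ideal.Quotient.mk I) ^ 2 = ⊥
  rw [Ideal.mk_ker, hI]

/-- The base change `B ×_S T ⟶ B ×_S T'` of a first order thickening `T ⟶ T'` is a first order thickening. -/
theorem isFirstOrderThickening_whiskerLeft_of {S : Scheme.{u}} (B : Over S) {T T' : Over S} (t : T ⟶ T')
    (ht : MoreMor.IsFirstOrderThickening t.left) : MoreMor.IsFirstOrderThickening (B ◁ t).left :=
  Groth.Agent.Lib.Helper20.IdealComap.isFirstOrderThickening_of_isPullback (isPullback_whiskerLeft_left B t) ht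

/-- Uniqueness of lifts along the base change `B ×_S T ⟶ B ×_S T'` of a first order thickening against a formally
unramified morphism. -/
theorem eq_of_thickening {S : Scheme.{u}} (B : Over S) {X Y : Over S} (f : X ⟶ Y)
    [FormallyUnramified f.left] {T T' : Over S} (t : T ⟶ T') (ht : MoreMor.IsFirstOrderThickening t.left)
    (φ₁ φ₂ : B ⊗ T' ⟶ X) (h1 : (B ◁ t) ≫ φ₁ = (B ◁ t) ≫ φ₂) (h2 : φ₁ ≫ f = φ₂ ≫ f) : φ₁ = φ₂ := by
  obtain ⟨⟨hci, -⟩, hk⟩ := isFirstOrderThickening_whiskerLeft_of B t ht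
  have := hci
  ext1
  refine FormallyUnramified.hom_ext _ ⟨2, by rw [pow_two]; exact hk⟩ f.left ?_ ?_
  · exact congrArg CommaMorphism.left h1
  · exact congrArg CommaMorphism.left h2

/-- Uniqueness of lifts along `B ×_S Spec (A/I) ⟶ B ×_S Spec A` against a formally unramified morphism. -/
theorem eq_of_whiskerLeft_comp_eq {S : Scheme.{u}} (B : Over S) {X Y : Over S} (f : X ⟶ Y)
    [FormallyUnramified f.left] (A : Type u) [CommRing A] (I : Ideal A)
    (hI : I ^ 2 = ⊥) (str : Spec (CommRingCat.of A) ⟶ S) (φ₁ φ₂ : B ⊗ Over.mk str ⟶ X)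
    (h1 : (B ◁ (Over.homMk (Spec.map (CommRingCat.ofHom (Ideal.Quotient.mk I))) rfl :
        Over.mk (Spec.map (CommRingCat.ofHom (Ideal.Quotient.mk I)) ≫ str) ⟶ Over.mk str)) ≫ φ₁ =
      (B ◁ (Over.homMk (Spec.map (CommRingCat.ofHom (Ideal.Quotient.mk I))) rfl :
        Over.mk (Spec.map (CommRingCat.ofHom (Ideal.Quotient.mk I)) ≫ str) ⟶ Over.mk str)) ≫ φ₂)
    (h2 : φ₁ ≫ f = φ₂ ≫ f) : φ₁ = φ₂ := by
  refine eq_of_thickening B f _ ?_ φ₁ φ₂ h1 h2
  refine Groth.Agent.Helper18UT.isFirstOrderThickening_SpecMap _ Ideal.Quotient.mk_surjective ?_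
  change RingHom.ker (Ideal.Quotient.mk I) ^ 2 = ⊥
  rw [Ideal.mk_ker, hI]

end Groth.Agent.R2.H89.MagnetThick
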