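import Mathlib
import Groth.Prelude.Def_Formal2
import Groth.Prelude.Def_FEt
import Groth.Agent.R2.H89PicFF
import Groth.Agent.Lib.Helper20ParaF8

/-!
# Injectivity of `Pic` of a punctured spectrum under faithfully flat base change (helper89)

`picPullbackInjective_punctured`: `A` Noetherian local of depth at least two, `A → B` faithfully flat, `U` the
punctured spectrum of `A` and `U_B` its preimage in `Spec B`: `Pic U → Pic U_B` has trivial kernel
(`Γ(U, O) = A` is local by Hartogs, so `H89PicFF.nonempty_iso_structureModule` applies).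
-/

set_option autoImplicit false
set_option linter.style.haveILetI false
universe u
open CategoryTheory CategoryTheory.Limits AlgebraicGeometry TopologicalSpace Opposite

namespace Groth.Agent.R2.H89.PicCompl

theorem picPullbackInjective_punctured (A B : Type u) [CommRing A] [IsNoetherianRing A] [IsLocalRing A]
    [CommRing B] [Algebra A B] [Module.FaithfullyFlat A B] (hdepth : (2 : ℕ∞) ≤ LocCoh.depth A A) :
    Formal2.PicPullbackInjective
      (Spec.map (CommRingCat.ofHom (algebraMap A B)) ∣_ FEt.puncturedSpec A) := by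
  intro L hL hφ
  obtain ⟨φ⟩ := hφ
  haveI : L.IsQuasicoherent := Groth.Agent.Lib.Helper23.SecTw.isQuasicoherent_of_isInvertible L hL
  haveI : Flat (Spec.map (CommRingCat.ofHom (algebraMap A B))) := by
    rw [HasRingHomProperty.Spec_iff (P := @Flat)]
    exact (RingHom.flat_algebraMap_iff).2 inferInstance
  haveI : CompactSpace (FEt.puncturedSpec A).toScheme :=
    isCompact_iff_compactSpace.1 (TopologicalSpace.NoetherianSpace.isCompact _)
  haveI : QuasiSeparatedSpace (FEt.puncturedSpec A).toScheme :=
    quasiSeparatedSpace_of_quasiSeparated (FEt.puncturedSpec A).ι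
  -- `Γ(U, O) ≃ A` is local
  have hbij : Function.Bijective (FEt.puncturedSpec A).ι.appTop := by
    rw [Scheme.Opens.ι_appTop]
    have h1 := Groth.Agent.Lib.Helper20.ParaFLib.bijective_res_puncturedSpec A hdepth
    have e : (FEt.puncturedSpec A).ι ''ᵁ ⊤ = FEt.puncturedSpec A := by
      rw [Scheme.Hom.image_top_eq_opensRange, Scheme.Opens.opensRange_ι]
    exact (Groth.Agent.Lib.Helper20.ParaFLib.bijective_resf_iff_of_eq rfl e.symm _ _).1 h1
  let E : A ≃+* Γ((FEt.puncturedSpec A).toScheme, ⊤) :=
    (Scheme.ΓSpecIso (CommRingCat.of A)).symm.commRingCatIsoToRingEquiv.trans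
      (RingEquiv.ofBijective (FEt.puncturedSpec A).ι.appTop.hom hbij)
  haveI : IsLocalRing Γ((FEt.puncturedSpec A).toScheme, ⊤) := E.isLocalRing
  have hsl : Finite (MaximalSpectrum Γ((FEt.puncturedSpec A).toScheme, ⊤)) := inferInstance
  exact Groth.Agent.R2.H89.PicFF.nonempty_iso_structureModule (FEt.puncturedSpec A).ι
    (Spec.map (CommRingCat.ofHom (algebraMap A B))) _ _
    (isPullback_morphismRestrict _ _) (isAffineOpen_top _) (isAffineOpen_top _)
    (Groth.Agent.R2.H89.PicFF.faithfullyFlat_appLE_specMap A B _) hsl L φ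

end Groth.Agent.R2.H89.PicCompl
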