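import Mathlib
import Groth.Agent.R2.H89PicFFLoc
import Groth.Agent.R2.H89PicSemilocal
import Groth.Agent.Lib.Helper23RestrJ

/-!
# Gluing trivialisations over a disjoint open cover; fpqc descent of invertible modules from the base (helper89)

* `exists_isGen_opensRange`: `b : P' ⟶ P` an open immersion with `b^* M ≅ O` ⇒ `M` has a generator over
  the range of `b`.
* `nonempty_iso_of_disjoint_cover`: `M` with generators over pairwise disjoint opens covering the scheme
  is `≅ O`.
* `nonempty_iso_of_sigma`: a module on a coproduct `∐ W_k` whose pullback to each `W_k` is trivial is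
  trivial.
* `exists_flat_affine_trivialising`: an invertible module on a quasi-compact scheme is trivialised by a flat
  surjective morphism from an affine scheme.
* `exists_isGen_of_descends_after_ff`: if `pr₁^* L ≅ pr₂^* N'` on `X ×_Y Y'` (`g : Y' ⟶ Y` fpqc,
  `O_Y ≃ f_* O_X`), then `L` has a generator over the preimage of a neighbourhood of any point of `Y`.
* `exists_invertible_descent` (S5684): then `L ≅ f^* (f_* L)` with `f_* L` invertible.
-/

set_option autoImplicit false
set_option linter.style.haveILetI false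
universe u
open CategoryTheory CategoryTheory.Limits AlgebraicGeometry TopologicalSpace Opposite

namespace Groth.Agent.R2.H89.PicFFFam

open Groth.Agent.Lib.Helper23.SecTw Groth.Agent.Lib.Helper23.GenLocus Groth.Agent.Lib.Helper6
  Groth.Agent.Lib.Helper23.PB Groth.Agent.Lib.Helper23.GenNear
open Groth.Agent.R2.H89.PicFFLoc
open Groth.Agent.R2.H89.PicSemilocal (nonempty_iso_of_isGen_top)

section openImm

/-- a module whose pullback along an open immersion is trivial has a generator over its range. -/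
theorem exists_isGen_opensRange {P' P : Scheme.{u}} (b : P' ⟶ P) [IsOpenImmersion b]
    (M : P.Modules) (ε : (Scheme.Modules.pullback b).obj M ≅ Coh.structureModule P') :
    ∃ e : Γ(M, b.opensRange), IsGen M b.opensRange e := by
  let ε' : M.restrict b ≅ Coh.structureModule P' :=
    (Scheme.Modules.restrictFunctorIsoPullback b).app M ≪≫ ε
  have h1 : IsGen (M.restrict b) ⊤ (ε'.symm.hom.app ⊤ (toS ⊤ 1)) :=
    isGen_of_iso ε'.symm (isGen_one ⊤)
  have h2 := Groth.Agent.Lib.Helper23.RestrJ.isGen_of_isGen_restrict b M ⊤ _ h1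
  exact exists_isGen_of_eq M (Scheme.Hom.image_top_eq_opensRange b) _ h2

end openImm

section disjoint

variable {T : Scheme.{u}} (M : T.Modules)

/-- sections over the empty open are equal. -/
theorem eq_of_le_bot {V : T.Opens} (hV : V ≤ ⊥) (s t : Γ(M, V)) : s = t := by
  rw [eq_zero_of_le_bot M hV s, eq_zero_of_le_bot M hV t]

/-- generators over pairwise disjoint opens covering `T` glue to a global generator. -/
theorem nonempty_iso_of_disjoint_cover {κ : Type u} (U : κ → T.Opens)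
    (hdisj : ∀ i j, i ≠ j → U i ⊓ U j ≤ ⊥) (hcov : (⊤ : T.Opens) ≤ iSup U)
    (e : ∀ k, Γ(M, U k)) (he : ∀ k, IsGen M (U k) (e k)) :
    Nonempty (M ≅ Coh.structureModule T) := by
  classical
  have hcomp : TopCat.Presheaf.IsCompatible (modSheaf M).1 U e := by
    intro i j
    by_cases hij : i = j
    · subst hij
      rfl
    · exact eq_of_le_bot M (hdisj i j hij) _ _
  obtain ⟨s, hs, -⟩ := (modSheaf M).existsUnique_gluing' U ⊤ (fun k => homOfLE le_top) hcov e hcomp
  have hgen : IsGen M ⊤ s := by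
    refine isGen_of_forall_isGenNear M ⊤ s (fun x _ => ?_)
    obtain ⟨k, hk⟩ := Opens.mem_iSup.1 (hcov (show x ∈ (⊤ : T.Opens) from trivial))
    refine ⟨U k, le_top, hk, ?_⟩
    have h1 : res M (le_top : U k ≤ ⊤) s = e k := hs k
    rw [h1]
    exact he k
  exact nonempty_iso_of_isGen_top M s hgen

/-- a module on a coproduct of schemes whose pullback to every component is trivial is trivial. -/
theorem nonempty_iso_of_sigma {κ : Type u} (W : κ → Scheme.{u}) (M : (∐ W).Modules)
    (h : ∀ k, Nonempty ((Scheme.Modules.pullback (Sigma.ι W k)).obj M ≅ Coh.structureModule (W k))) :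
    Nonempty (M ≅ Coh.structureModule (∐ W)) := by
  have hex : ∀ k, ∃ e : Γ(M, (Sigma.ι W k).opensRange), IsGen M (Sigma.ι W k).opensRange e := by
    intro k
    obtain ⟨ε⟩ := h k
    exact exists_isGen_opensRange (Sigma.ι W k) M ε
  choose e he using hex
  refine nonempty_iso_of_disjoint_cover M (fun k => (Sigma.ι W k).opensRange) ?_ ?_ e he
  · intro i j hij
    exact (disjoint_opensRange_sigmaι W i j hij).le_bot
  · have := (sigmaOpenCover W).iSup_opensRange
    exact this.ge

end disjoint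

section lemC

/-- an invertible module on a quasi-compact scheme is trivialised by a flat surjective morphism from an
affine scheme (a finite disjoint union of trivialising affine opens). -/
theorem exists_flat_affine_trivialising {Z : Scheme.{u}} [CompactSpace Z] (N : Z.Modules)
    (hN : PicF.IsInvertible N) :
    ∃ (T : Scheme.{u}) (p : T ⟶ Z), IsAffine T ∧ Surjective p ∧ Flat p ∧
      Nonempty ((Scheme.Modules.pullback p).obj N ≅ Coh.structureModule T) := by
  classical
  choose W e hzW hWaff he using fun z : Z => exists_affine_gen N hN z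
  obtain ⟨t, ht⟩ := isCompact_univ.elim_finite_subcover (fun z : Z => ((W z : Z.Opens) : Set Z))
    (fun z => (W z).isOpen) (fun z _ => Set.mem_iUnion.2 ⟨z, hzW z⟩)
  let κ : Type u := ↥t
  let Wk : κ → Scheme.{u} := fun k => ((W k.1 : Z.Opens) : Scheme.{u})
  haveI : ∀ k, IsAffine (Wk k) := fun k => hWaff k.1
  let p : ∐ Wk ⟶ Z := Sigma.desc (fun k => (W k.1).ι)
  have hpι : ∀ k, Sigma.ι Wk k ≫ p = (W k.1).ι := fun k => Sigma.ι_desc _ _
  refine ⟨∐ Wk, p, inferInstance, ⟨fun z => ?_⟩, ?_, ?_⟩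
  · obtain ⟨S, ⟨z', rfl⟩, hz'⟩ := ht (Set.mem_univ z)
    obtain ⟨S', ⟨hz't, rfl⟩, hz''⟩ := hz'
    refine ⟨Sigma.ι Wk ⟨z', hz't⟩ ⟨z, hz''⟩, ?_⟩
    rw [← Scheme.Hom.comp_apply, hpι]
    rfl
  · rw [IsZariskiLocalAtSource.iff_of_openCover (P := @Flat) (sigmaOpenCover _)]
    intro k
    change Flat (Sigma.ι Wk k ≫ p)
    rw [hpι]
    infer_instance
  · refine nonempty_iso_of_sigma Wk _ (fun k => ?_)
    obtain ⟨ν⟩ := nonempty_restrict_iso_of_isGen N (W k.1) (e k.1) (he k.1)
    exact ⟨(Scheme.Modules.pullbackComp (Sigma.ι Wk k) p).app N ≪≫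
      (Scheme.Modules.pullbackCongr (hpι k)).app N ≪≫
      ((Scheme.Modules.restrictFunctorIsoPullback (W k.1).ι).app N).symm ≪≫ ν⟩

end lemC

section general

variable {X Y Y' : Scheme.{u}} (f : X ⟶ Y) (g : Y' ⟶ Y)

/-- **Local generators, relative version**: if `pr₁^* L ≅ pr₂^* N'` on `X ×_Y Y'` with `N'` invertible on
`Y'`, `g : Y' ⟶ Y` faithfully flat quasi-compact and `O_Y → f_* O_X` bijective, then `L` is generated by
one section over the preimage of a neighbourhood of any point of `Y`. -/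
theorem exists_isGen_of_descends_after_ff [QuasiCompact f] [QuasiSeparated f]
    (hf : ∀ V : Y.Opens, Function.Bijective (f.app V)) [Flat g] [Surjective g] [QuasiCompact g]
    (L : X.Modules) (hL : PicF.IsInvertible L) (N' : Y'.Modules) (hN' : PicF.IsInvertible N')
    (ψ : (Scheme.Modules.pullback (pullback.fst f g)).obj L ≅
      (Scheme.Modules.pullback (pullback.snd f g)).obj N')
    (y : Y) : ∃ (U : Y.Opens) (s : Γ(L, f ⁻¹ᵁ U)), y ∈ U ∧ IsGen L (f ⁻¹ᵁ U) s := by
  obtain ⟨V, hV, hyV, -⟩ := exists_isAffineOpen_mem_and_subset (X := Y) (x := y) (U := ⊤) trivial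
  haveI : IsAffine (V : Scheme.{u}) := hV
  haveI : CompactSpace (f ⁻¹ᵁ V).toScheme := QuasiCompact.compactSpace_of_compactSpace (f ∣_ V)
  haveI : QuasiSeparatedSpace (f ⁻¹ᵁ V).toScheme := quasiSeparatedSpace_of_quasiSeparated (f ∣_ V)
  haveI : CompactSpace (g ⁻¹ᵁ V).toScheme := QuasiCompact.compactSpace_of_compactSpace (g ∣_ V)
  obtain ⟨T, p, hT, hps, hpf, ⟨ν⟩⟩ := exists_flat_affine_trivialising
    ((Scheme.Modules.pullback (g ⁻¹ᵁ V).ι).obj N') (isInvertible_pullback _ N' hN')
  haveI := hps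
  haveI := hpf
  haveI := hT
  haveI : Surjective (g ∣_ V) := MorphismProperty.of_isPullback (P := @Surjective)
    (isPullback_morphismRestrict g V).flip inferInstance
  have h'' : IsPullback (pullback.fst (f ∣_ V) (p ≫ (g ∣_ V))) (pullback.snd (f ∣_ V) (p ≫ (g ∣_ V)))
      (f ∣_ V) (p ≫ (g ∣_ V)) := IsPullback.of_hasPullback _ _
  have hfV : Function.Bijective (f ∣_ V).appTop := by
    rw [morphismRestrict_appTop]
    exact (ConcreteCategory.bijective_of_isIso (X.presheaf.map (eqToHom _).op)).comp (hf _)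
  have hw : (pullback.fst (f ∣_ V) (p ≫ (g ∣_ V)) ≫ (f ⁻¹ᵁ V).ι) ≫ f =
      (pullback.snd (f ∣_ V) (p ≫ (g ∣_ V)) ≫ p ≫ (g ⁻¹ᵁ V).ι) ≫ g := by
    rw [Category.assoc, ← morphismRestrict_ι f V, ← Category.assoc, pullback.condition]
    simp only [Category.assoc]
    rw [morphismRestrict_ι g V]
  let a : pullback (f ∣_ V) (p ≫ (g ∣_ V)) ⟶ pullback f g := pullback.lift _ _ hw
  have ha : a ≫ pullback.fst f g = pullback.fst (f ∣_ V) (p ≫ (g ∣_ V)) ≫ (f ⁻¹ᵁ V).ι :=
    pullback.lift_fst _ _ _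
  have ha2 : a ≫ pullback.snd f g = pullback.snd (f ∣_ V) (p ≫ (g ∣_ V)) ≫ p ≫ (g ⁻¹ᵁ V).ι :=
    pullback.lift_snd _ _ _
  have hLV : PicF.IsInvertible (L.restrict (f ⁻¹ᵁ V).ι) := isInvertible_restrict L hL (f ⁻¹ᵁ V)
  let φ'' : (Scheme.Modules.pullback (pullback.fst (f ∣_ V) (p ≫ (g ∣_ V)))).obj
        (L.restrict (f ⁻¹ᵁ V).ι) ≅ Coh.structureModule (pullback (f ∣_ V) (p ≫ (g ∣_ V))) :=
    (Scheme.Modules.pullback (pullback.fst (f ∣_ V) (p ≫ (g ∣_ V)))).mapIso
        ((Scheme.Modules.restrictFunctorIsoPullback (f ⁻¹ᵁ V).ι).app L) ≪≫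
      (Scheme.Modules.pullbackComp (pullback.fst (f ∣_ V) (p ≫ (g ∣_ V))) (f ⁻¹ᵁ V).ι).app L ≪≫
      (Scheme.Modules.pullbackCongr ha.symm).app L ≪≫
      ((Scheme.Modules.pullbackComp a (pullback.fst f g)).app L).symm ≪≫
      (Scheme.Modules.pullback a).mapIso ψ ≪≫
      (Scheme.Modules.pullbackComp a (pullback.snd f g)).app N' ≪≫
      (Scheme.Modules.pullbackCongr ha2).app N' ≪≫
      ((Scheme.Modules.pullbackComp (pullback.snd (f ∣_ V) (p ≫ (g ∣_ V))) (p ≫ (g ⁻¹ᵁ V).ι)).app N').symm ≪≫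
      (Scheme.Modules.pullback (pullback.snd (f ∣_ V) (p ≫ (g ∣_ V)))).mapIso
        (((Scheme.Modules.pullbackComp p (g ⁻¹ᵁ V).ι).app N').symm ≪≫ ν) ≪≫
      pullbackUnitIso (pullback.snd (f ∣_ V) (p ≫ (g ∣_ V)))
  obtain ⟨r, s, hyr, hs⟩ := exists_isGen_basicOpen (f ∣_ V) (p ≫ (g ∣_ V)) _ _ h'' hfV
    (L.restrict (f ⁻¹ᵁ V).ι) hLV φ'' ⟨y, hyV⟩
  have h1 : IsGen L ((f ⁻¹ᵁ V).ι ''ᵁ ((f ∣_ V) ⁻¹ᵁ ((V : Scheme.{u}).basicOpen r))) s :=
    isGen_of_isGen_restrict L (f ⁻¹ᵁ V) _ s hs
  obtain ⟨s', hs'⟩ := exists_isGen_of_eq L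
    (image_morphismRestrict_preimage f V ((V : Scheme.{u}).basicOpen r)) s h1
  exact ⟨V.ι ''ᵁ ((V : Scheme.{u}).basicOpen r), s', ⟨⟨y, hyV⟩, hyr, rfl⟩, hs'⟩

/-- **S5684**: `L` descends to an invertible module on the base. -/
theorem exists_invertible_descent [QuasiCompact f] [QuasiSeparated f]
    (hf : ∀ V : Y.Opens, Function.Bijective (f.app V)) [Flat g] [Surjective g] [QuasiCompact g]
    (L : X.Modules) (hL : PicF.IsInvertible L) (N' : Y'.Modules) (hN' : PicF.IsInvertible N')
    (hψ : Nonempty ((Scheme.Modules.pullback (pullback.fst f g)).obj L ≅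
      (Scheme.Modules.pullback (pullback.snd f g)).obj N')) :
    ∃ N : Y.Modules, PicF.IsInvertible N ∧ Nonempty (L ≅ (Scheme.Modules.pullback f).obj N) := by
  obtain ⟨ψ⟩ := hψ
  obtain ⟨hN, hiso⟩ := pushforward_invertible_and_counit_iso_of_isGen f hf L
    (fun y => exists_isGen_of_descends_after_ff f g hf L hL N' hN' ψ y)
  haveI := hiso
  exact ⟨(Scheme.Modules.pushforward f).obj L, hN,
    ⟨(asIso ((Scheme.Modules.pullbackPushforwardAdjunction f).counit.app L)).symm⟩⟩

end general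

end Groth.Agent.R2.H89.PicFFFam
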