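import Mathlib
import Groth.Prelude.Def_FlatMod2
import Groth.Agent.Lib.Helper2RankLoc
import Groth.Agent.Lib.Helper20StalkExact
import Groth.Agent.Lib.Helper1FLF1

/-!
# Ranks of finite locally free modules and monomorphisms (helper91)

* `rank_sections_of_restrict_iso_freeMod`: sections over an affine open of a module which is free
  of rank `n` there have rank `n`.
* `rank_le_of_mono`: a monomorphism `F ⟶ E` of finite locally free modules of ranks `r`, `n` on a
  nonempty scheme forces `r ≤ n`.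
-/

set_option autoImplicit false
set_option linter.style.haveILetI false
universe u
open CategoryTheory Limits AlgebraicGeometry TopologicalSpace Opposite

namespace Groth.Agent.R2.H91.RankLe

open Groth.Agent.Lib.Helper2.RankLoc

variable {X : Scheme.{u}}

attribute [local instance] RingHomInvPair.of_ringEquiv RingHomInvPair.of_ringEquiv_symm in
/-- the rank of the sections over (the image of) an affine open `V` of a module whose restriction along an
open immersion `f` is `O^n`. -/
theorem rank_sections_of_restrict_iso_freeMod {Y : Scheme.{u}} (f : Y ⟶ X) [IsOpenImmersion f]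
    (M : X.Modules) {n : ℕ} (e : M.restrict f ≅ FlatMod.freeMod Y n) {V : Y.Opens}
    (hV : IsAffineOpen V) [Nonempty V] :
    Module.rank Γ(X, f ''ᵁ V) Γ(M, f ''ᵁ V) = n := by
  obtain ⟨E⟩ := nonempty_sections_equiv_of_iso_freeMod (M.restrict f) e hV
  haveI : Nontrivial Γ(Y, V) := inferInstance
  have hrkY : Module.rank Γ(Y, V) Γ(M.restrict f, V) = n := by
    rw [E.rank_eq, rank_finsupp_self]
    simp
  let σ : Γ(Y, V) ≃+* Γ(X, f ''ᵁ V) := (f.appIso V).symm.commRingCatIsoToRingEquiv
  let j : Γ(M.restrict f, V) ≃+ Γ(M, f ''ᵁ V) := (M.restrictAppIso f V).addCommGroupIsoToAddEquiv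
  have hc : ∀ (r : Γ(Y, V)) (m : Γ(M.restrict f, V)), j (r • m) = σ r • j m :=
    fun r m => Scheme.Modules.smul_restrictAppIso_hom_apply f M V r m
  rw [← hrkY]
  exact (rank_eq_of_equiv_equiv σ j σ.bijective hc).symm

/-- A monomorphism of finite locally free modules cannot raise the rank. -/
theorem rank_le_of_mono [Nonempty X] {F E : X.Modules} (i : F ⟶ E) [Mono i] {r n : ℕ}
    (hF : FlatMod.IsFinLocFreeOfRank r F) (hE : FlatMod.IsFinLocFreeOfRank n E) : r ≤ n := by
  obtain ⟨x⟩ := (inferInstance : Nonempty X)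
  obtain ⟨U₁, hx₁, ⟨e₁⟩⟩ := hF x
  obtain ⟨U₂, hx₂, ⟨e₂⟩⟩ := hE x
  set U : X.Opens := U₁ ⊓ U₂ with hU
  have hxU : x ∈ U := ⟨hx₁, hx₂⟩
  obtain ⟨e₁'⟩ := Groth.Agent.Lib.Helper1.FLF.nonempty_restrict_iso_freeMod_of_le F
    (inf_le_left : U ≤ U₁) e₁
  obtain ⟨e₂'⟩ := Groth.Agent.Lib.Helper1.FLF.nonempty_restrict_iso_freeMod_of_le E
    (inf_le_right : U ≤ U₂) e₂
  obtain ⟨V, hV, hyV, -⟩ := exists_isAffineOpen_mem_and_subset (X := (U : Scheme.{u}))
    (x := ⟨x, hxU⟩) (U := ⊤) trivial
  haveI : Nonempty V := ⟨⟨⟨x, hxU⟩, hyV⟩⟩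
  have h1 := rank_sections_of_restrict_iso_freeMod U.ι F e₁' hV
  have h2 := rank_sections_of_restrict_iso_freeMod U.ι E e₂' hV
  set W : X.Opens := U.ι ''ᵁ V with hW
  have hinj : Function.Injective (Scheme.Modules.Hom.app i W) :=
    Groth.Agent.Lib.Helper20.StalkExact.injective_app_of_mono i W
  let φ : Γ(F, W) →ₗ[Γ(X, W)] Γ(E, W) :=
    { toFun := fun s => Scheme.Modules.Hom.app i W s
      map_add' := fun s t => map_add _ s t
      map_smul' := fun c s => Scheme.Modules.Hom.app_smul i c s }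
  have hle := LinearMap.rank_le_of_injective φ hinj
  rw [h1, h2] at hle
  exact_mod_cast hle

end Groth.Agent.R2.H91.RankLe
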