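import Mathlib
import Groth.Prelude.Def_FlatMod2
import Groth.Prelude.Def_Coh
import Groth.Agent.R2.H91RankLe
import Groth.Agent.Lib.Helper23FinTypeLocal
import Groth.Agent.Lib.Helper2LocFree
import Groth.Agent.Lib.Helper20StalkExact

/-!
# Additivity of ranks in short exact sequences of finite locally free modules (helper89)

* `isCoh_of_isFinLocFree`: finite locally free modules are coherent (`Coh.IsCoh`).
* `free_sections_of_restrict_iso_freeMod`: sections over (the image of) an affine open of a module whose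
  restriction along an open immersion is `O^n` are free.
* `rank_add_of_shortExact`: `0 → E₁ → E₂ → E₃ → 0` short exact, `E_i` finite locally free of rank `n_i`, on a
  nonempty scheme: `n₂ = n₁ + n₃`.
-/

set_option autoImplicit false
set_option linter.style.haveILetI false
universe u
open CategoryTheory Limits AlgebraicGeometry TopologicalSpace Opposite

namespace Groth.Agent.R2.H89.RankAdd

open Groth.Agent.Lib.Helper2.RankLoc

variable {X : Scheme.{u}}

theorem isFinLocFree_of_rank {n : ℕ} {M : X.Modules} (h : FlatMod.IsFinLocFreeOfRank n M) :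
    FlatMod.IsFinLocFree M := fun x => by
  obtain ⟨U, hxU, hU⟩ := h x
  exact ⟨U, n, hxU, hU⟩

/-- finite locally free modules are quasi-coherent of finite type. -/
theorem isCoh_of_isFinLocFree {M : X.Modules} (h : FlatMod.IsFinLocFree M) : Coh.IsCoh M := by
  haveI hfp := Groth.Agent.Lib.Helper2.LocFree.isFP_of_isFinLocFree M h
  exact ⟨{ nonempty_quasicoherentData :=
      ⟨(SheafOfModules.IsFinitePresentation.exists_quasicoherentData
        (R := X.ringCatSheaf) M).choose⟩ }, inferInstance⟩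

attribute [local instance] RingHomInvPair.of_ringEquiv RingHomInvPair.of_ringEquiv_symm in
/-- the sections over (the image of) an affine open `V` of a module whose restriction along an
open immersion `f` is `O^n` are free. -/
theorem free_sections_of_restrict_iso_freeMod {Y : Scheme.{u}} (f : Y ⟶ X) [IsOpenImmersion f]
    (M : X.Modules) {n : ℕ} (e : M.restrict f ≅ FlatMod.freeMod Y n) {V : Y.Opens}
    (hV : IsAffineOpen V) :
    Module.Free Γ(X, f ''ᵁ V) Γ(M, f ''ᵁ V) := by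
  obtain ⟨E⟩ := nonempty_sections_equiv_of_iso_freeMod (M.restrict f) e hV
  haveI : Module.Free Γ(Y, V) Γ(M.restrict f, V) := Module.Free.of_equiv E.symm
  let σ : Γ(Y, V) ≃+* Γ(X, f ''ᵁ V) := (f.appIso V).symm.commRingCatIsoToRingEquiv
  let j : Γ(M.restrict f, V) ≃+ Γ(M, f ''ᵁ V) := (M.restrictAppIso f V).addCommGroupIsoToAddEquiv
  have hc : ∀ (r : Γ(Y, V)) (m : Γ(M.restrict f, V)), j (r • m) = σ r • j m :=
    fun r m => Scheme.Modules.smul_restrictAppIso_hom_apply f M V r m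
  let j' : Γ(M.restrict f, V) ≃ₛₗ[(σ : Γ(Y, V) →+* Γ(X, f ''ᵁ V))] Γ(M, f ''ᵁ V) :=
    { j with map_smul' := hc }
  exact Module.Free.of_equiv j'

/-- Additivity of ranks in a short exact sequence of finite locally free modules on a nonempty
scheme. -/
theorem rank_add_of_shortExact [Nonempty X] (S : ShortComplex X.Modules) (hS : S.ShortExact)
    {n₁ n₂ n₃ : ℕ} (h₁ : FlatMod.IsFinLocFreeOfRank n₁ S.X₁)
    (h₂ : FlatMod.IsFinLocFreeOfRank n₂ S.X₂) (h₃ : FlatMod.IsFinLocFreeOfRank n₃ S.X₃) :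
    n₂ = n₁ + n₃ := by
  obtain ⟨x⟩ := (inferInstance : Nonempty X)
  obtain ⟨U₁, hx₁, ⟨e₁⟩⟩ := h₁ x
  obtain ⟨U₂, hx₂, ⟨e₂⟩⟩ := h₂ x
  obtain ⟨U₃, hx₃, ⟨e₃⟩⟩ := h₃ x
  set U : X.Opens := U₁ ⊓ U₂ ⊓ U₃ with hU
  have hxU : x ∈ U := ⟨⟨hx₁, hx₂⟩, hx₃⟩
  obtain ⟨e₁'⟩ := Groth.Agent.Lib.Helper1.FLF.nonempty_restrict_iso_freeMod_of_le S.X₁
    ((inf_le_left.trans inf_le_left : U ≤ U₁)) e₁
  obtain ⟨e₂'⟩ := Groth.Agent.Lib.Helper1.FLF.nonempty_restrict_iso_freeMod_of_le S.X₂
    ((inf_le_left.trans inf_le_right : U ≤ U₂)) e₂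
  obtain ⟨e₃'⟩ := Groth.Agent.Lib.Helper1.FLF.nonempty_restrict_iso_freeMod_of_le S.X₃
    (inf_le_right : U ≤ U₃) e₃
  obtain ⟨V, hV, hyV, -⟩ := exists_isAffineOpen_mem_and_subset (X := (U : Scheme.{u}))
    (x := ⟨x, hxU⟩) (U := ⊤) trivial
  haveI : Nonempty V := ⟨⟨⟨x, hxU⟩, hyV⟩⟩
  have r1 := Groth.Agent.R2.H91.RankLe.rank_sections_of_restrict_iso_freeMod U.ι S.X₁ e₁' hV
  have r2 := Groth.Agent.R2.H91.RankLe.rank_sections_of_restrict_iso_freeMod U.ι S.X₂ e₂' hV
  have r3 := Groth.Agent.R2.H91.RankLe.rank_sections_of_restrict_iso_freeMod U.ι S.X₃ e₃' hV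
  haveI f1 := free_sections_of_restrict_iso_freeMod U.ι S.X₁ e₁' hV
  haveI f3 := free_sections_of_restrict_iso_freeMod U.ι S.X₃ e₃' hV
  have hWaff : IsAffineOpen (U.ι ''ᵁ V) := hV.image_of_isOpenImmersion U.ι
  haveI : Nonempty ↥(U.ι ''ᵁ V) := ⟨⟨U.ι ⟨x, hxU⟩, ⟨⟨x, hxU⟩, hyV, rfl⟩⟩⟩
  haveI : Nontrivial Γ(X, U.ι ''ᵁ V) := inferInstance
  set W : X.Opens := U.ι ''ᵁ V with hW
  haveI := hS.mono_f
  haveI := hS.epi_g
  haveI q2 : S.X₂.IsQuasicoherent := (isCoh_of_isFinLocFree (isFinLocFree_of_rank h₂)).1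
  haveI q3 : S.X₃.IsQuasicoherent := (isCoh_of_isFinLocFree (isFinLocFree_of_rank h₃)).1
  have hinj : Function.Injective (Scheme.Modules.Hom.app S.f W) :=
    Groth.Agent.Lib.Helper20.StalkExact.injective_app_of_mono S.f W
  have hsurj : Function.Surjective (Scheme.Modules.Hom.app S.g W) :=
    Groth.Agent.Lib.Helper23.FinType.surjective_app_of_epi S.g hWaff
  let φ : Γ(S.X₁, W) →ₗ[Γ(X, W)] Γ(S.X₂, W) :=
    { toFun := fun s => Scheme.Modules.Hom.app S.f W s
      map_add' := fun s t => map_add _ s t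
      map_smul' := fun c s => Scheme.Modules.Hom.app_smul S.f c s }
  let ψ : Γ(S.X₂, W) →ₗ[Γ(X, W)] Γ(S.X₃, W) :=
    { toFun := fun s => Scheme.Modules.Hom.app S.g W s
      map_add' := fun s t => map_add _ s t
      map_smul' := fun c s => Scheme.Modules.Hom.app_smul S.g c s }
  have hex : Function.Exact φ ψ := by
    intro t
    constructor
    · intro ht
      obtain ⟨r, hr⟩ := Groth.Agent.Lib.Helper20.StalkExact.exists_app_eq_of_exact S hS W t ht
      exact ⟨r, hr⟩
    · rintro ⟨r, rfl⟩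
      change Scheme.Modules.Hom.app S.g W (Scheme.Modules.Hom.app S.f W r) = 0
      have h0 : Scheme.Modules.Hom.app (S.f ≫ S.g) W = 0 := by rw [S.zero]; rfl
      rw [Scheme.Modules.Hom.comp_app] at h0
      have := congrArg (fun g => g.hom r) h0
      simpa using this
  obtain ⟨l, hl⟩ := Module.projective_lifting_property ψ LinearMap.id hsurj
  let eqv := (hex.splitSurjectiveEquiv hinj ⟨l, hl⟩).1
  have hrk := eqv.rank_eq
  rw [rank_prod', r1, r2, r3] at hrk
  exact_mod_cast hrk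

/-- modules on the empty scheme have no cohomology (after helper2's `H_subsingleton_of_isEmpty`). -/
theorem subsingleton_HH_of_isEmpty [IsEmpty X] (M : X.Modules) (p : ℕ) :
    Subsingleton (Coh.HH X M p) := by
  have hz : ∀ U : (Opens X)ᵒᵖ, IsZero ((Coh.toAb M).obj.obj U) := by
    intro U
    have hU : U.unop = ⊥ := by
      ext x
      exact isEmptyElim x
    have hT : IsTerminal ((Coh.toAb M).obj.obj (op U.unop)) :=
      TopCat.Sheaf.isTerminalOfEqEmpty (Coh.toAb M) hU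
    exact IsZero.of_iso (isZero_zero _) (hT.uniqueUpToIso HasZeroObject.zeroIsTerminal)
  have hF : IsZero (Coh.toAb M).obj := Functor.isZero _ hz
  have hF' : IsZero (Coh.toAb M) := by
    refine ⟨fun G => ⟨⟨⟨0⟩, fun f => ?_⟩⟩, fun G => ⟨⟨⟨0⟩, fun f => ?_⟩⟩⟩
    · apply Sheaf.hom_ext
      exact hF.eq_of_src _ _
    · apply Sheaf.hom_ext
      exact hF.eq_of_tgt _ _
  exact Sheaf.subsingleton_H_of_isZero hF' p

end Groth.Agent.R2.H89.RankAdd
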