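import Mathlib
import Groth.Prelude.Def_MultCurve
import Groth.Agent.Lib.Helper20IdealComap
import Groth.Agent.Lib.Helper22ThickAffine

/-!
# Closed immersion criterion for maps out of a square-zero thickening (helper89, round 2)
Namespace `Groth.Agent.R2.H89.Ribbon`.
-/

set_option autoImplicit false
universe u
open CategoryTheory CategoryTheory.Limits AlgebraicGeometry

namespace Groth.Agent.R2.H89.Ribbon

/-- Ring lemma: `φ : R → A`, `π : A → Ā` surjective with square-zero kernel generated by the image of `ker (π ∘ φ)`, and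
`π ∘ φ` surjective; then `φ` is surjective. -/
theorem surjective_of_sq_zero {R A A' : Type*} [CommRing R] [CommRing A] [CommRing A'] (φ : R →+* A) (π : A →+* A')
    (hπφ : Function.Surjective (π.comp φ)) (hsq : RingHom.ker π * RingHom.ker π = ⊥)
    (hgen : RingHom.ker π ≤ Ideal.map φ (RingHom.ker (π.comp φ))) : Function.Surjective φ := by
  -- every element of `ker π` is in the range of `φ`
  have hker : ∀ x ∈ RingHom.ker π, x ∈ φ.range := by
    intro x hx
    have hx' := hgen hx
    refine Submodule.span_induction (p := fun y _ => y ∈ φ.range) ?_ ?_ ?_ ?_ hx'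
    · rintro y ⟨r, hr, rfl⟩
      exact ⟨r, rfl⟩
    · exact φ.range.zero_mem
    · intro y z _ _ hy hz
      exact φ.range.add_mem hy hz
    · intro a y hy hy'
      -- a • y with y ∈ span; a = φ r + k with k ∈ ker π
      obtain ⟨r, hr⟩ := hπφ (π a)
      have hk : a - φ r ∈ RingHom.ker π := by
        rw [RingHom.mem_ker, map_sub, ← hr]
        simp
      have hyker : y ∈ RingHom.ker π := by
        have : Ideal.map φ (RingHom.ker (π.comp φ)) ≤ RingHom.ker π := by
          rw [Ideal.map_le_iff_le_comap]
          intro z hz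
          exact hz
        exact this hy
      have h0 : (a - φ r) * y = 0 := by
        have : (a - φ r) * y ∈ RingHom.ker π * RingHom.ker π := Ideal.mul_mem_mul hk hyker
        rw [hsq] at this
        exact this
      have : a • y = φ r * y := by
        rw [smul_eq_mul]
        linear_combination h0
      rw [this]
      exact φ.range.mul_mem ⟨r, rfl⟩ hy'
  intro a
  obtain ⟨r, hr⟩ := hπφ (π a)
  have hk : a - φ r ∈ RingHom.ker π := by
    rw [RingHom.mem_ker, map_sub, ← hr]
    simp
  obtain ⟨s, hs⟩ := hker _ hk
  exact ⟨r + s, by rw [map_add, hs]; ring⟩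


open Scheme.IdealSheafData in
/-- A closed immersion whose ideal has square zero is surjective. -/
theorem surjective_of_ker_sq {D C : Scheme.{u}} (i : D ⟶ C) [IsClosedImmersion i] (hsq : i.ker * i.ker = ⊥) :
    Function.Surjective i := by
  have h1 : i.ker.support = ⊤ := by
    have : (i.ker * i.ker).support = i.ker.support := by
      rw [support_mul, sup_idem]
    rw [← this, hsq, support_bot]
  have h2 := Scheme.Hom.support_ker i
  have h3 : closure (Set.range i) = Set.univ := by
    rw [← h2, h1]
    rfl
  rw [i.isClosedEmbedding.isClosed_range.closure_eq] at h3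
  exact Set.range_eq_univ.mp h3

open Scheme.IdealSheafData in
/-- The kernel of a base change of a closed immersion is the pullback of its ideal. -/
theorem ker_eq_comap_of_isPullback {P Z X Y : Scheme.{u}} {fst' : P ⟶ X} {snd' : P ⟶ Z} {f : X ⟶ Y} {i : Z ⟶ Y}
    [IsClosedImmersion i] (sq : IsPullback fst' snd' f i) : fst'.ker = i.ker.comap f := by
  rw [← ker_fst_of_isClosedImmersion i f, ← sq.isoPullback_hom_fst]
  exact Scheme.Hom.ker_comp_of_isIso _ _

/-- **Affine case.** -/
theorem isClosedImmersion_of_affine {D C X : Scheme.{u}} [IsAffine X] (i : D ⟶ C) (f : C ⟶ X)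
    [IsClosedImmersion i] (hsq : i.ker * i.ker = ⊥) [IsClosedImmersion (i ≫ f)]
    (hker : (i ≫ f).ker.comap f = i.ker) : IsClosedImmersion f := by
  have hD : IsAffine D := isAffine_of_isAffineHom (i ≫ f)
  have hC : IsAffine C :=
    Groth.Agent.Lib.Helper22.ThickAffine.isAffine_of_thickening i (surjective_of_ker_sq i hsq)
  refine IsClosedImmersion.of_surjective_of_isAffine f ?_
  have hπ : Function.Surjective (i ≫ f).appTop.hom :=
    (IsClosedImmersion.isAffine_surjective_of_isAffine (i ≫ f)).2
  have hcomp : (i ≫ f).appTop.hom = i.appTop.hom.comp f.appTop.hom := by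
    rw [Scheme.Hom.comp_appTop]
    rfl
  have hkeri : i.ker.ideal ⟨⊤, isAffineOpen_top C⟩ = RingHom.ker i.appTop.hom := Scheme.Hom.ker_apply i _
  have hkerj : (i ≫ f).ker.ideal ⟨⊤, isAffineOpen_top X⟩ = RingHom.ker (i ≫ f).appTop.hom :=
    Scheme.Hom.ker_apply (i ≫ f) _
  refine surjective_of_sq_zero f.appTop.hom i.appTop.hom ?_ ?_ ?_
  · rw [← hcomp]; exact hπ
  · rw [← hkeri]
    change (i.ker * i.ker).ideal _ = ⊥
    rw [hsq]
    rfl
  · rw [← hcomp, ← hkerj, ← hkeri, ← hker]
    exact (Groth.Agent.Lib.Helper20.IdealComap.ideal_comap_top_of_isAffine f (i ≫ f).ker).le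



open Scheme.IdealSheafData in
/-- **General case**: a morphism `f : C ⟶ X` out of a square-zero thickening `i : D ⟶ C` whose restriction to `D` is a closed
immersion and which pulls the ideal of `D` in `X` back to the ideal of `D` in `C` is a closed immersion. -/
theorem isClosedImmersion_of_comap_ker_eq {D C X : Scheme.{u}} (i : D ⟶ C) (f : C ⟶ X)
    [IsClosedImmersion i] (hsq : i.ker * i.ker = ⊥) [IsClosedImmersion (i ≫ f)]
    (hker : (i ≫ f).ker.comap f = i.ker) : IsClosedImmersion f := by
  rw [IsZariskiLocalAtTarget.iff_of_openCover (P := @IsClosedImmersion) X.affineCover]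
  intro k
  let g := X.affineCover.f k
  change IsClosedImmersion (pullback.snd f g)
  let i' : pullback (i ≫ f) g ⟶ pullback f g :=
    pullback.map (i ≫ f) g f g i (𝟙 _) (𝟙 _) (by simp) (by simp)
  have hi'snd : i' ≫ pullback.snd f g = pullback.snd (i ≫ f) g := by
    dsimp only [i', pullback.map]
    rw [pullback.lift_snd, Category.comp_id]
  have hi'fst : i' ≫ pullback.fst f g = pullback.fst (i ≫ f) g ≫ i := by
    dsimp only [i', pullback.map]
    rw [pullback.lift_fst]
  have sq : IsPullback i' (pullback.fst (i ≫ f) g) (pullback.fst f g) i := by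
    have hr : IsPullback (pullback.fst f g) (pullback.snd f g) f g := IsPullback.of_hasPullback f g
    have ho : IsPullback (pullback.fst (i ≫ f) g) (pullback.snd (i ≫ f) g) (i ≫ f) g :=
      IsPullback.of_hasPullback (i ≫ f) g
    refine IsPullback.of_right ?_ hi'fst hr.flip
    rw [hi'snd]
    exact ho.flip
  have hci' : IsClosedImmersion i' := MorphismProperty.of_isPullback sq.flip inferInstance
  have hkeri' : i'.ker = i.ker.comap (pullback.fst f g) := ker_eq_comap_of_isPullback sq
  have hcj' : IsClosedImmersion (i' ≫ pullback.snd f g) := by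
    rw [hi'snd]
    infer_instance
  refine isClosedImmersion_of_affine i' (pullback.snd f g) ?_ ?_
  · rw [hkeri']
    exact Groth.Agent.Lib.Helper20.IdealComap.comap_mul_self_eq_bot _ _ hsq
  · have h1 : (i' ≫ pullback.snd f g).ker = (i ≫ f).ker.comap g := by
      rw [hi'snd]
      exact ker_eq_comap_of_isPullback (IsPullback.of_hasPullback (i ≫ f) g).flip
    rw [h1, ← comap_comp, ← pullback.condition, comap_comp, hker, hkeri']

open Scheme.IdealSheafData in
/-- Converse: for a closed immersion `f`, the ideal of `D` in `X` pulls back to the ideal of `D` in `C`. -/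
theorem comap_ker_eq_of_isClosedImmersion {D C X : Scheme.{u}} (i : D ⟶ C) (f : C ⟶ X)
    [IsClosedImmersion i] [IsClosedImmersion f] : (i ≫ f).ker.comap f = i.ker := by
  have h1 : IsPullback i (𝟙 D) (𝟙 C) i := IsPullback.of_vert_isIso ⟨by simp⟩
  have h2 : IsPullback (𝟙 C) (𝟙 C) f f := (IsKernelPair.id_of_mono f)
  have h3 := h1.paste_horiz h2
  rw [Category.comp_id] at h3
  exact (ker_eq_comap_of_isPullback h3).symm


end Groth.Agent.R2.H89.Ribbon
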