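import Mathlib
import Groth.Agent.Lib.Helper12FieldBC3
import Groth.Agent.Lib.Helper14GeomIrr
import Groth.Agent.S9908
import Groth.Agent.S10175
import Groth.Prelude.Def_AlgSpDec

/-!
# Base change of algebraic spaces along extensions of separably closed fields (helper89)

For a sheaf `X` over `Spec k`, a separably closed field `K` over `k` and a morphism
`g : Spec L ⟶ Spec K` over `k`, the map `|X_L| → |X_K|` is open, surjective and has connected
fibres; hence `|X_L|` is connected as soon as `|X_K|` is.
-/

set_option autoImplicit false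
set_option linter.style.haveILetI false
universe u
open CategoryTheory CategoryTheory.Limits AlgebraicGeometry TensorProduct

namespace Groth.Agent.R2.H89.SepConn

open Groth.Agent.Lib.Helper12.FieldBC

/-- The fibre product of two field spectra over a separably closed field is connected. -/
lemma connectedSpace_pullback_of_isSepClosed {K F L : Type u} [Field K] [Field F] [Field L]
    [IsSepClosed K] (a : Spec (CommRingCat.of F) ⟶ Spec (CommRingCat.of K))
    (b : Spec (CommRingCat.of L) ⟶ Spec (CommRingCat.of K)) :
    ConnectedSpace ↥(pullback a b) := by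
  obtain ⟨φ, rfl⟩ := Spec.map_surjective a
  obtain ⟨ψ, rfl⟩ := Spec.map_surjective b
  letI : Algebra K F := φ.hom.toAlgebra
  letI : Algebra K L := ψ.hom.toAlgebra
  have hF : (nilradical F).IsPrime := by
    rw [nilradical_eq_zero]
    exact Ideal.isPrime_bot
  have hirr : (nilradical (L ⊗[K] F)).IsPrime :=
    Groth.Agent.Lib.Helper14.GeomIrr.isPrime_nilradical_tensor_of_isSepClosed hF L
  have hirr' : (nilradical (F ⊗[K] L)).IsPrime :=
    Groth.Agent.Lib.Helper14.GeomIrr.isPrime_nilradical_of_ringEquiv
      (Algebra.TensorProduct.comm K F L).toRingEquiv hirr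
  have h1 : IrreducibleSpace (PrimeSpectrum (F ⊗[K] L)) :=
    Groth.Agent.Lib.Helper14.GeomIrr.irreducibleSpace_iff.mpr hirr'
  have h2 : ConnectedSpace ↥(Spec (CommRingCat.of (F ⊗[K] L))) :=
    inferInstanceAs (ConnectedSpace (PrimeSpectrum (F ⊗[K] L)))
  exact (pullbackSpecIso K F L).inv.homeomorph.surjective.connectedSpace
    (pullbackSpecIso K F L).inv.homeomorph.continuous


variable {k : Type u} [Field k] (X : AlgSp.Sp (Spec (CommRingCat.of k)))
  (K L : Type u) [Field K] [Field L] [Algebra k K] [Algebra k L] (g : ptK k L ⟶ ptK k K)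

/-- the map `X_L ⟶ X_K` induced by `g : Spec L ⟶ Spec K`. -/
noncomputable abbrev bcMap :
    X ⨯ (AlgSp.yon (Spec (CommRingCat.of k))).obj (ptK k L) ⟶
      X ⨯ (AlgSp.yon (Spec (CommRingCat.of k))).obj (ptK k K) :=
  prod.map (𝟙 X) ((AlgSp.yon (Spec (CommRingCat.of k))).map g)

/-- `h_pt` is terminal. -/
noncomputable def hpt (k : Type u) [Field k] :
    IsTerminal ((AlgSp.yon (Spec (CommRingCat.of k))).obj (Over.mk (𝟙 _))) :=
  IsTerminal.isTerminalObj (AlgSp.yon _) _ Over.mkIdTerminal

lemma isOpenMap_bcMap : IsOpenMap (AlgSp.Points.map (bcMap X K L g)) := by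
  have sq := isPullback_prod_map (hpt k) X ((AlgSp.yon (Spec (CommRingCat.of k))).map g)
  have : IsIntegral (ptK k K).left := inferInstanceAs (IsIntegral (Spec (CommRingCat.of K)))
  have : Subsingleton ↥(ptK k K).left := inferInstanceAs (Subsingleton (PrimeSpectrum K))
  have h0 : UniversallyOpen g.left := inferInstance
  have h1 : AlgSp.RepWith @UniversallyOpen ((AlgSp.yon (Spec (CommRingCat.of k))).map g) :=
    (AlgSp.repWith_yon_map_iff _ _).2 h0
  have h2 : AlgSp.RepWith @UniversallyOpen (bcMap X K L g) :=
    MorphismProperty.of_isPullback (P := AlgSp.RepWith @UniversallyOpen) sq h1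
  exact Groth.Agent.S9908.isOpenMap_map_of_repWith _ h2

lemma surjective_bcMap : Function.Surjective (AlgSp.Points.map (bcMap X K L g)) :=
  surjective_map_prod_map X K L g


/-- The fibres of `|X_L| → |X_K|` are connected when `K` is separably closed. -/
lemma isConnected_fibre [IsSepClosed K]
    (x : AlgSp.Points (X ⨯ (AlgSp.yon (Spec (CommRingCat.of k))).obj (ptK k K))) :
    IsConnected (AlgSp.Points.map (bcMap X K L g) ⁻¹' {x}) := by
  induction x using AlgSp.Points.ind with | h q => ?_
  let T : Over (Spec (CommRingCat.of k)) := q.pt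
  let c : (AlgSp.yon (Spec (CommRingCat.of k))).obj T ⟶
      X ⨯ (AlgSp.yon (Spec (CommRingCat.of k))).obj (ptK k K) := q.toHom
  obtain ⟨r, hr⟩ := (AlgSp.yon (Spec (CommRingCat.of k))).map_surjective (c ≫ prod.snd)
  let W : Over (Spec (CommRingCat.of k)) := Over.mk (pullback.fst r.left g.left ≫ T.hom)
  let fstW : W ⟶ T := Over.homMk (pullback.fst r.left g.left) rfl
  have hw : pullback.snd r.left g.left ≫ (ptK k L).hom = pullback.fst r.left g.left ≫ T.hom := by
    rw [← Over.w g, ← Category.assoc, ← pullback.condition, Category.assoc, Over.w r]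
  let sndW : W ⟶ ptK k L := Over.homMk (pullback.snd r.left g.left) hw
  have sqO : IsPullback fstW sndW r g := by
    refine IsPullback.of_map (Over.forget _) (Over.OverMorphism.ext pullback.condition) ?_
    exact IsPullback.of_hasPullback r.left g.left
  have sqY := sqO.map (AlgSp.yon (Spec (CommRingCat.of k)))
  let l : (AlgSp.yon (Spec (CommRingCat.of k))).obj W ⟶
      X ⨯ (AlgSp.yon (Spec (CommRingCat.of k))).obj (ptK k L) :=
    prod.lift ((AlgSp.yon _).map fstW ≫ c ≫ prod.fst) ((AlgSp.yon _).map sndW)
  have hl : l ≫ bcMap X K L g = (AlgSp.yon _).map fstW ≫ c := by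
    apply Limits.prod.hom_ext
    · rw [Category.assoc, prod.map_fst, Category.comp_id, prod.lift_fst, Category.assoc]
    · rw [Category.assoc, prod.map_snd, ← Category.assoc, prod.lift_snd, ← Functor.map_comp,
        ← sqO.w, Functor.map_comp, hr, Category.assoc]
  have sqR := isPullback_prod_map (hpt k) X ((AlgSp.yon (Spec (CommRingCat.of k))).map g)
  have sqL : IsPullback l ((AlgSp.yon _).map fstW) (bcMap X K L g) c := by
    refine IsPullback.of_right ?_ hl sqR
    rw [prod.lift_snd, ← hr]
    exact sqY.flip
  have hWc : ConnectedSpace ↥W.left := connectedSpace_pullback_of_isSepClosed r.left g.left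
  have hWc' : ConnectedSpace (AlgSp.Points ((AlgSp.yon (Spec (CommRingCat.of k))).obj W)) :=
    (AlgSp.Points.schemeHomeo W).surjective.connectedSpace (AlgSp.Points.schemeHomeo W).continuous
  have hc : ∀ t : ↥T.left, AlgSp.Points.map c (AlgSp.Points.ofScheme T t) = AlgSp.Points.mk q := by
    intro t
    rw [← AlgSp.Points.ofPt_eq_map_ofScheme]
    exact AlgSp.Points.ofPt_toHom q t
  have hfib : AlgSp.Points.map (bcMap X K L g) ⁻¹' {AlgSp.Points.mk q} =
      Set.range (AlgSp.Points.map l) := by
    ext z
    constructor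
    · intro hz
      have hz' : AlgSp.Points.map (bcMap X K L g) z = AlgSp.Points.mk q := hz
      have e : AlgSp.Points.map (bcMap X K L g) z =
          AlgSp.Points.map c (AlgSp.Points.ofScheme T (IsLocalRing.closedPoint q.K)) := by
        rw [hz', hc]
      obtain ⟨p, hp, -⟩ := Groth.Agent.S10175.exists_point_of_isPullback sqL z _ e
      exact ⟨p, hp⟩
    · rintro ⟨p, rfl⟩
      show AlgSp.Points.map (bcMap X K L g) (AlgSp.Points.map l p) = AlgSp.Points.mk q
      rw [← AlgSp.Points.map_comp, hl, AlgSp.Points.map_comp]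
      obtain ⟨t, ht⟩ := (AlgSp.Points.schemeHomeo T).surjective
        (AlgSp.Points.map ((AlgSp.yon _).map fstW) p)
      rw [← ht]
      exact hc t
  rw [hfib]
  exact isConnected_range (AlgSp.Points.continuous_map l)

include g in
/-- If `K` is separably closed and `|X_K|` is connected, then `|X_L|` is connected for every
`g : Spec L ⟶ Spec K` over `k`. -/
theorem connectedSpace_bc_of_isSepClosed [IsSepClosed K]
    [ConnectedSpace (AlgSp.Points (X ⨯ (AlgSp.yon (Spec (CommRingCat.of k))).obj (ptK k K)))] :
    ConnectedSpace (AlgSp.Points (X ⨯ (AlgSp.yon (Spec (CommRingCat.of k))).obj (ptK k L))) := by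
  have hq : Topology.IsQuotientMap (AlgSp.Points.map (bcMap X K L g)) :=
    (isOpenMap_bcMap X K L g).isQuotientMap (AlgSp.Points.continuous_map _)
      (surjective_bcMap X K L g)
  have h := hq.isCoinducing.isConnected_preimage_of_isClosed (isConnected_fibre X K L g)
    isClosed_univ isConnected_univ
  rw [Set.preimage_univ] at h
  exact connectedSpace_iff_univ.mpr h

end Groth.Agent.R2.H89.SepConn
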