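import Mathlib
import Groth.Prelude.Def_Coh
import Groth.Prelude.Def_CurvBase
import Groth.Agent.Lib.Helper11SmInt
import Groth.Agent.R2.H34ConnIdem
import Groth.Agent.R2.H89GammaBC

/-!
# Smooth schemes over a field: geometric reducedness, connectedness, integrality (helper89)

* `isDomain_stalk_of_isPullback`, `geometricallyReduced_of_smooth`: a smooth `k`-scheme is geometrically
  reduced (all local rings of all base changes are domains).
* `geometricallyIntegral_of_smooth_of_geometricallyConnected`: smooth of finite type and geometrically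
  connected implies geometrically integral.
* `geometricallyConnected_of_finrank_Γ_eq_one`: a qcqs `k`-scheme with `dim_k Γ(X, O_X) = 1` is
  geometrically connected.
-/

set_option autoImplicit false
set_option linter.style.haveILetI false
universe u
open CategoryTheory CategoryTheory.Limits AlgebraicGeometry TopologicalSpace Opposite TensorProduct

namespace Groth.Agent.R2.H89.SmoothGeom

open Groth.Agent.R2.H89.GammaBC

variable {k : Type u} [Field k] {X : Scheme.{u}} (f : X ⟶ Spec (CommRingCat.of k))

theorem isDomain_stalk_of_isPullback [Smooth f] {K : Type u} [Field K]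
    (y : Spec (CommRingCat.of K) ⟶ Spec (CommRingCat.of k)) {Z : Scheme.{u}} (fst : Z ⟶ X)
    (snd : Z ⟶ Spec (CommRingCat.of K)) (h : IsPullback fst snd f y) (z : Z) :
    IsDomain (Z.presheaf.stalk z) := by
  haveI : Smooth snd := MorphismProperty.of_isPullback h ‹Smooth f›
  exact Groth.Agent.Lib.Helper11SmInt.isDomain_stalk_of_smooth K snd z

/-- a smooth scheme over a field is geometrically reduced. -/
theorem geometricallyReduced_of_smooth [Smooth f] : GeometricallyReduced f := by
  refine ⟨fun K _ y Z fst snd h => ?_⟩
  haveI : ∀ z : Z, _root_.IsReduced (Z.presheaf.stalk z) := fun z => by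
    haveI := isDomain_stalk_of_isPullback f y fst snd h z
    infer_instance
  exact isReduced_of_isReduced_stalk Z

/-- a smooth, quasi-compact, geometrically connected scheme over a field is geometrically
integral. -/
theorem geometricallyIntegral_of_smooth_of_geometricallyConnected [Smooth f] [QuasiCompact f]
    [GeometricallyConnected f] : GeometricallyIntegral f := by
  refine ⟨fun K _ y Z fst snd h => ?_⟩
  haveI : Smooth snd := MorphismProperty.of_isPullback h ‹Smooth f›
  haveI : QuasiCompact snd := MorphismProperty.of_isPullback h ‹QuasiCompact f›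
  haveI : IsLocallyNoetherian Z := LocallyOfFiniteType.isLocallyNoetherian snd
  haveI : CompactSpace Z := QuasiCompact.compactSpace_of_compactSpace snd
  haveI : IsNoetherian Z := {}
  haveI : ConnectedSpace Z :=
    GeometricallyConnected.geometrically_connectedSpace (f := f) y fst snd h
  exact Groth.Agent.Lib.Helper11SmInt.isIntegral_of_connected_of_isDomain_stalk
    (fun z => isDomain_stalk_of_isPullback f y fst snd h z)

open Groth.Agent.R2.H34.GeomConnAlg Groth.Agent.R2.H34.ConnIdem in
/-- an algebra of dimension one over a field has only trivial idempotents. -/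
theorem trivIdem_of_finrank_eq_one {K A : Type*} [Field K] [CommRing A] [Algebra K A]
    (h : Module.finrank K A = 1) : TrivIdem A := by
  haveI : Nontrivial A := Module.nontrivial_of_finrank_pos (R := K) (by omega)
  refine ⟨inferInstance, fun e he => ?_⟩
  have htop : (⊥ : Subalgebra K A) = ⊤ := Subalgebra.bot_eq_top_of_finrank_eq_one h
  have hmem : e ∈ (⊥ : Subalgebra K A) := htop ▸ Algebra.mem_top
  obtain ⟨c, rfl⟩ := Algebra.mem_bot.1 hmem
  have hc : c * c = c := (algebraMap K A).injective (by rw [map_mul]; exact he)
  have hc' : c * (c - 1) = 0 := by rw [mul_sub, hc, mul_one, sub_self]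
  rcases mul_eq_zero.1 hc' with h0 | h1
  · left; rw [h0, map_zero]
  · right; rw [sub_eq_zero.1 h1, map_one]

open Groth.Agent.R2.H34.GeomConnAlg Groth.Agent.R2.H34.ConnIdem in
/-- a quasi-compact quasi-separated `k`-scheme with `dim_k Γ(X, O_X) = 1` is geometrically
connected. -/
theorem geometricallyConnected_of_finrank_eq_one (X : Scheme.{u}) [X.Over (Spec (CommRingCat.of k))]
    [CompactSpace X] [QuasiSeparatedSpace X]
    (h1 : letI : Algebra k Γ(X, ⊤) := (toΓ (X ↘ Spec (CommRingCat.of k))).toAlgebra
      Module.finrank k Γ(X, ⊤) = 1) :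
    GeometricallyConnected (X ↘ Spec (CommRingCat.of k)) := by
  letI : Algebra k Γ(X, ⊤) := (toΓ (X ↘ Spec (CommRingCat.of k))).toAlgebra
  refine ⟨fun K _ y Z fst snd h => ?_⟩
  obtain ⟨φ, rfl⟩ := Spec.map_surjective y
  letI : Algebra k K := φ.hom.toAlgebra
  have hc : ConnectedSpace (Curv2.bc k X K) := by
    rw [connectedSpace_iff_trivIdem]
    obtain ⟨e, -, -⟩ := exists_ringEquiv k X K
    refine TrivIdem.of_ringEquiv e (trivIdem_of_finrank_eq_one (K := K) ?_)
    rw [Module.finrank_baseChange, h1]
  let i : Z ≅ Curv2.bc k X K := h.isoPullback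
  exact (i.hom.homeomorph).symm.surjective.connectedSpace (i.hom.homeomorph).symm.continuous

end Groth.Agent.R2.H89.SmoothGeom
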