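import Mathlib

/-!
# Local finiteness of irreducible components below an open surjection from a locally Noetherian
space (helper89)

`locallyFinite_irreducibleComponents_of_isOpenMap`: if `π : U → Y` is continuous, open and
surjective, every point of `U` has an open Noetherian neighbourhood, and `T ⊆ Y` is closed, then
the irreducible components of `T` form a locally finite family of subsets of `Y`.
-/

set_option autoImplicit false

open TopologicalSpace Set

namespace Groth.Agent.R2.H89.TopLocFin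

variable {Y : Type*} [TopologicalSpace Y]

/-- The preimage of a preirreducible subset of `T` in the subtype `↥T` is preirreducible. -/
theorem isPreirreducible_preimage_val {T E : Set Y} (hE : IsPreirreducible E) (hET : E ⊆ T) :
    IsPreirreducible ((Subtype.val : ↥T → Y) ⁻¹' E) := by
  intro U₁ U₂ hU₁ hU₂ h₁ h₂
  obtain ⟨O₁, hO₁, rfl⟩ := isOpen_induced_iff.mp hU₁
  obtain ⟨O₂, hO₂, rfl⟩ := isOpen_induced_iff.mp hU₂
  obtain ⟨a, ha, ha'⟩ := h₁
  obtain ⟨b, hb, hb'⟩ := h₂
  obtain ⟨e, he, he'⟩ := hE O₁ O₂ hO₁ hO₂ ⟨a.1, ha, ha'⟩ ⟨b.1, hb, hb'⟩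
  exact ⟨⟨e, hET he⟩, he, he'⟩

/-- The image in `Y` of an irreducible component of the subspace `T` is irreducible and maximal
among the irreducible subsets of `T`. -/
theorem image_val_of_mem_irreducibleComponents {T : Set Y} {Z : Set ↥T}
    (hZ : Z ∈ irreducibleComponents ↥T) :
    IsIrreducible ((Subtype.val : ↥T → Y) '' Z) ∧
      ∀ E : Set Y, IsIrreducible E → E ⊆ T → (Subtype.val : ↥T → Y) '' Z ⊆ E →
        E ⊆ (Subtype.val : ↥T → Y) '' Z := by
  refine ⟨hZ.1.image _ continuous_subtype_val.continuousOn, ?_⟩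
  intro E hE hET hZE
  have hirr : IsIrreducible ((Subtype.val : ↥T → Y) ⁻¹' E) := by
    refine ⟨?_, isPreirreducible_preimage_val hE.2 hET⟩
    obtain ⟨e, he⟩ := hE.1
    exact ⟨⟨e, hET he⟩, he⟩
  have hle : Z ≤ (Subtype.val : ↥T → Y) ⁻¹' E := fun z hz => hZE ⟨z, hz, rfl⟩
  have := hZ.2 hirr hle
  intro e he
  exact ⟨⟨e, hET he⟩, this he, rfl⟩

/-- Irreducible components of a closed subset form a locally finite family, in the presence of an
open continuous surjection from a space that is locally Noetherian. -/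
theorem locallyFinite_irreducibleComponents_of_isOpenMap {U : Type*} [TopologicalSpace U]
    (π : U → Y) (hc : Continuous π) (ho : IsOpenMap π) (hs : Function.Surjective π)
    (hN : ∀ u : U, ∃ W : Set U, IsOpen W ∧ u ∈ W ∧ NoetherianSpace ↥W)
    (T : Set Y) (hT : IsClosed T) :
    LocallyFinite (fun Z : ↥(irreducibleComponents ↥T) =>
      ((↑) : ↥T → Y) '' (Z : Set ↥T)) := by
  classical
  intro y
  obtain ⟨u, rfl⟩ := hs y
  obtain ⟨W, hWo, huW, hWN⟩ := hN u
  refine ⟨π '' W, (ho W hWo).mem_nhds ⟨u, huW, rfl⟩, ?_⟩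
  -- the closed subset of `W` over `T`
  let ρ : ↥W → Y := fun w => π w.1
  have hρ : Continuous ρ := hc.comp continuous_subtype_val
  let s : Closeds ↥W := ⟨ρ ⁻¹' T, hT.preimage hρ⟩
  obtain ⟨S, hSirr, hS⟩ := NoetherianSpace.exists_finset_irreducible s
  let g : Closeds ↥W → Set Y := fun C => closure (ρ '' (C : Set ↥W))
  have hgT : ∀ C ∈ S, g C ⊆ T := by
    intro C hC
    refine closure_minimal ?_ hT
    rintro _ ⟨w, hw, rfl⟩
    have hle : C ≤ s := by
      rw [hS]
      exact Finset.le_sup (f := id) hC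
    exact hle hw
  have hgirr : ∀ C ∈ S, IsIrreducible (g C) := by
    intro C hC
    exact ((hSirr ⟨C, hC⟩).image ρ hρ.continuousOn).closure
  -- every component meeting `π '' W` is one of the `g C`
  have key : ∀ Z : ↥(irreducibleComponents ↥T),
      ((((↑) : ↥T → Y) '' (Z : Set ↥T)) ∩ π '' W).Nonempty →
        ∃ C ∈ S, ((↑) : ↥T → Y) '' (Z : Set ↥T) = g C := by
    intro Z hZne
    obtain ⟨hZirr, hZmax⟩ := image_val_of_mem_irreducibleComponents Z.2
    set Z' : Set Y := ((↑) : ↥T → Y) '' (Z : Set ↥T) with hZ'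
    have hZT : Z' ⊆ T := by
      rintro _ ⟨z, -, rfl⟩
      exact z.2
    have h1 : Z' ∩ π '' W ⊆ ⋃₀ ((S.image g : Finset (Set Y)) : Set (Set Y)) := by
      rintro _ ⟨hzZ, w, hwW, rfl⟩
      have hws : (⟨w, hwW⟩ : ↥W) ∈ (s : Set ↥W) := hZT hzZ
      rw [hS] at hws
      have : (⟨w, hwW⟩ : ↥W) ∈ ⋃ C ∈ S, (C : Set ↥W) := by
        have h2 : ((S.sup id : Closeds ↥W) : Set ↥W) = ⋃ C ∈ S, (C : Set ↥W) := by
          rw [Closeds.coe_finset_sup, Finset.sup_eq_iSup]
          simp
        rw [← h2]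
        exact hws
      simp only [Set.mem_iUnion] at this
      obtain ⟨C, hC, hwC⟩ := this
      refine ⟨g C, ?_, subset_closure ⟨⟨w, hwW⟩, hwC, rfl⟩⟩
      exact Finset.mem_coe.mpr (Finset.mem_image_of_mem g hC)
    have hclosed : IsClosed (⋃₀ ((S.image g : Finset (Set Y)) : Set (Set Y))) := by
      rw [Set.sUnion_eq_biUnion]
      refine Set.Finite.isClosed_biUnion (Finset.finite_toSet _) ?_
      intro z hz
      obtain ⟨C, -, rfl⟩ := Finset.mem_image.mp (Finset.mem_coe.mp hz)
      exact isClosed_closure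
    have h2 : Z' ⊆ ⋃₀ ((S.image g : Finset (Set Y)) : Set (Set Y)) :=
      (subset_closure_inter_of_isPreirreducible_of_isOpen hZirr.2 (ho W hWo) hZne).trans
        (closure_minimal h1 hclosed)
    obtain ⟨z, hz, hZz⟩ := isIrreducible_iff_sUnion_isClosed.mp hZirr (S.image g)
      (by
        intro z hz
        obtain ⟨C, -, rfl⟩ := Finset.mem_image.mp hz
        exact isClosed_closure) h2
    obtain ⟨C, hC, rfl⟩ := Finset.mem_image.mp hz
    exact ⟨C, hC, subset_antisymm hZz (hZmax _ (hgirr C hC) (hgT C hC) hZz)⟩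
  -- conclude by injectivity of `Z ↦ Z'`
  have hinj : Function.Injective (fun Z : ↥(irreducibleComponents ↥T) =>
      ((↑) : ↥T → Y) '' (Z : Set ↥T)) := by
    intro Z₁ Z₂ h
    exact Subtype.ext (Set.image_injective.mpr Subtype.val_injective h)
  refine Set.Finite.subset (((S.image g).finite_toSet).preimage hinj.injOn) ?_
  intro Z hZ
  obtain ⟨C, hC, hZC⟩ := key Z hZ
  show ((↑) : ↥T → Y) '' (Z : Set ↥T) ∈ ((S.image g : Finset (Set Y)) : Set (Set Y))
  rw [hZC]
  exact Finset.mem_coe.mpr (Finset.mem_image_of_mem g hC)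

end Groth.Agent.R2.H89.TopLocFin
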