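import Mathlib

/-!
# Reduced quotients have no embedded primes (helper8)

* `maximalIdeal_eq_bot_of_isReduced`: a reduced Noetherian local ring whose maximal ideal is an
  associated prime of the ring is a field.
* `eq_of_le_of_depth_zero`: for a radical ideal `I` of a Noetherian ring `R` and a prime `q` of
  `R/I` at which `R/I` has depth zero, the preimage of `q` is minimal over `I`.
-/

set_option autoImplicit false
set_option linter.style.haveILetI false
universe u

namespace Groth.Agent.R2.H8.AffCompl

theorem maximalIdeal_eq_bot_of_isReduced {B : Type u} [CommRing B] [IsLocalRing B] [IsReduced B]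
    [IsNoetherianRing B] (h : IsLocalRing.maximalIdeal B ∈ associatedPrimes B B) :
    IsLocalRing.maximalIdeal B = ⊥ := by
  obtain ⟨_, y, hy⟩ := isAssociatedPrime_iff.mp h
  have hmem : ∀ r, r ∈ IsLocalRing.maximalIdeal B ↔ r * y = 0 := by
    intro r
    rw [hy, Submodule.mem_colon_singleton, Submodule.mem_bot, smul_eq_mul]
  by_cases hym : y ∈ IsLocalRing.maximalIdeal B
  · exfalso
    have h1 : y * y = 0 := (hmem y).mp hym
    have hy0 : y = 0 := IsReduced.eq_zero _ ⟨2, by rw [pow_two]; exact h1⟩
    have h2 : (1 : B) ∈ IsLocalRing.maximalIdeal B := (hmem 1).mpr (by rw [hy0, mul_zero])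
    exact (IsLocalRing.maximalIdeal.isMaximal B).ne_top ((Ideal.eq_top_iff_one _).mpr h2)
  · have hu : IsUnit y := IsLocalRing.notMem_maximalIdeal.mp hym
    ext r
    rw [hmem, Ideal.mem_bot]
    constructor
    · intro h
      exact (hu.mul_left_eq_zero).mp h
    · rintro rfl
      exact zero_mul y

theorem le_of_maximalIdeal_localization_eq_bot {Q : Type u} [CommRing Q] (q : Ideal Q) [q.IsPrime]
    (h : IsLocalRing.maximalIdeal (Localization.AtPrime q) = ⊥) (η : Ideal Q) [hη : η.IsPrime]
    (hle : η ≤ q) : q ≤ η := by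
  intro a ha
  have h1 : algebraMap Q (Localization.AtPrime q) a ∈
      IsLocalRing.maximalIdeal (Localization.AtPrime q) :=
    (IsLocalization.AtPrime.to_map_mem_maximal_iff (Localization.AtPrime q) q a).mpr ha
  rw [h, Ideal.mem_bot] at h1
  obtain ⟨s, hs⟩ := (IsLocalization.map_eq_zero_iff q.primeCompl (Localization.AtPrime q) a).mp h1
  have h2 : (s : Q) * a ∈ η := by rw [hs]; exact zero_mem _
  rcases hη.mem_or_mem h2 with h3 | h3
  · exact absurd (hle h3) s.2
  · exact h3

variable {R : Type u} [CommRing R] [IsNoetherianRing R]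

/-- no embedded primes for radical ideals -/
theorem eq_of_le_of_depth_zero (I : Ideal R) (hI : I.IsRadical) (q : Ideal (R ⧸ I)) [q.IsPrime]
    (h : IsLocalRing.maximalIdeal (Localization.AtPrime q) ∈
      associatedPrimes (Localization.AtPrime q) (Localization.AtPrime q))
    (η : Ideal R) [hη : η.IsPrime] (hIη : I ≤ η) (hle : η ≤ q.comap (Ideal.Quotient.mk I)) :
    η = q.comap (Ideal.Quotient.mk I) := by
  haveI : IsReduced (R ⧸ I) := (Ideal.isRadical_iff_quotient_reduced I).mp hI
  have h0 := maximalIdeal_eq_bot_of_isReduced h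
  have hker : RingHom.ker (Ideal.Quotient.mk I) ≤ η := by rwa [Ideal.mk_ker]
  haveI hq : (η.map (Ideal.Quotient.mk I)).IsPrime :=
    Ideal.map_isPrime_of_surjective Ideal.Quotient.mk_surjective hker
  have hcomap : (η.map (Ideal.Quotient.mk I)).comap (Ideal.Quotient.mk I) = η := by
    rw [Ideal.comap_map_of_surjective _ Ideal.Quotient.mk_surjective, ← RingHom.ker_eq_comap_bot,
      Ideal.mk_ker, sup_eq_left.mpr hIη]
  have h1 : η.map (Ideal.Quotient.mk I) ≤ q := Ideal.map_le_iff_le_comap.mpr hle
  have h2 := le_of_maximalIdeal_localization_eq_bot q h0 _ h1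
  apply le_antisymm hle
  rw [← hcomap]
  exact Ideal.comap_mono h2

end Groth.Agent.R2.H8.AffCompl
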