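import Mathlib

/-!
# Effective Cartier ideals from principal stalks (helper8): the algebra

* `exists_spread`: if `I S = (g)` in a localization `S = A_p` into which `A` embeds, with `g` a
  nonzerodivisor, then there are `s ∉ p` and a nonzerodivisor `a ∈ I` with `s I ⊆ (a)`.
* `map_eq_span_of_ufd`: a height one prime generates a principal ideal in a factorial localization.
-/

set_option autoImplicit false
set_option linter.style.haveILetI false
universe u v

namespace Groth.Agent.R2.H8.Cartier

section Spread
variable {A : Type u} [CommRing A] [IsNoetherianRing A] (I p : Ideal A) [p.IsPrime]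
  (S : Type v) [CommRing S] [Algebra A S] [IsLocalization.AtPrime S p]

include p in
theorem exists_spread (hinj : Function.Injective (algebraMap A S)) (g : S)
    (hg : g ∈ nonZeroDivisors S) (hI : I.map (algebraMap A S) = Ideal.span {g}) :
    ∃ s : A, s ∉ p ∧ ∃ a ∈ I, a ∈ nonZeroDivisors A ∧ ∀ b ∈ I, s * b ∈ Ideal.span {a} := by
  classical
  -- replace `g` by the image of an element `a` of `I`
  have hgI : g ∈ I.map (algebraMap A S) := hI ▸ Ideal.mem_span_singleton_self g
  obtain ⟨⟨⟨a, haI⟩, m⟩, hm⟩ := (IsLocalization.mem_map_algebraMap_iff p.primeCompl S).mp hgI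
  simp only at hm
  have hmu : IsUnit (algebraMap A S m) := IsLocalization.map_units S m
  have haS : algebraMap A S a ∈ nonZeroDivisors S := by
    rw [← hm]
    exact mul_mem hg (IsUnit.mem_nonZeroDivisors hmu)
  have haA : a ∈ nonZeroDivisors A := by
    rw [mem_nonZeroDivisors_iff_right]
    intro c hc
    apply hinj
    rw [map_zero]
    have : algebraMap A S c * algebraMap A S a = 0 := by rw [← map_mul, hc, map_zero]
    exact (mem_nonZeroDivisors_iff_right.mp haS) _ this
  have hspan : Ideal.span {g} = Ideal.span {algebraMap A S a} := by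
    rw [← hm]
    exact (Ideal.span_singleton_mul_right_unit hmu g).symm
  -- each element of `I` is a multiple of `a` after multiplying by something outside `p`
  have key : ∀ b ∈ I, ∃ t : A, t ∉ p ∧ t * b ∈ Ideal.span {a} := by
    intro b hb
    have hb' : algebraMap A S b ∈ Ideal.span {algebraMap A S a} := by
      rw [← hspan, ← hI]
      exact Ideal.mem_map_of_mem _ hb
    obtain ⟨c, hc⟩ := Ideal.mem_span_singleton'.mp hb'
    obtain ⟨⟨c', t⟩, hct⟩ := IsLocalization.surj p.primeCompl c
    simp only at hct
    refine ⟨t, t.2, Ideal.mem_span_singleton'.mpr ⟨c', ?_⟩⟩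
    apply hinj
    rw [map_mul, map_mul, ← hct, ← hc]
    ring
  obtain ⟨G, hG⟩ := (isNoetherianRing_iff_ideal_fg A).mp ‹_› I
  have hG' : (G : Set A) ⊆ I := hG ▸ Ideal.subset_span
  choose t ht1 ht2 using key
  refine ⟨G.attach.prod fun x => t x (hG' x.2), ?_, a, haI, haA, ?_⟩
  · intro h
    obtain ⟨x, _, hx⟩ := (Ideal.IsPrime.prod_mem_iff).mp h
    exact ht1 x (hG' x.2) hx
  · intro b hb
    rw [← hG] at hb
    refine Submodule.span_induction
      (p := fun b _ => (G.attach.prod fun x => t x (hG' x.2)) * b ∈ Ideal.span {a}) ?_ ?_ ?_ ?_ hb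
    · intro x hx
      have hdvd : t x (hG' hx) ∣ G.attach.prod fun y => t y (hG' y.2) :=
        Finset.dvd_prod_of_mem (fun y : {y // y ∈ G} => t y (hG' y.2)) (G.mem_attach ⟨x, hx⟩)
      obtain ⟨r, hr⟩ := hdvd
      rw [hr, mul_comm _ r, mul_assoc]
      exact Ideal.mul_mem_left _ _ (ht2 x (hG' hx))
    · simp
    · intro x y _ _ hx hy
      rw [mul_add]
      exact add_mem hx hy
    · intro c x _ hx
      rw [smul_eq_mul, mul_left_comm]
      exact Ideal.mul_mem_left _ _ hx

end Spread

section UFD
variable {A : Type u} [CommRing A] (I p : Ideal A) [I.IsPrime] [p.IsPrime]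
  (S : Type v) [CommRing S] [Algebra A S] [IsLocalization.AtPrime S p]

theorem map_eq_span_of_ufd (hIp : I ≤ p) (hI : I.height = 1) [IsDomain S]
    [UniqueFactorizationMonoid S] :
    ∃ g : S, g ≠ 0 ∧ I.map (algebraMap A S) = Ideal.span {g} := by
  have hdisj : Disjoint (p.primeCompl : Set A) (I : Set A) := by
    rw [Set.disjoint_left]
    intro x hx hxI
    exact hx (hIp hxI)
  haveI hP : (I.map (algebraMap A S)).IsPrime :=
    IsLocalization.isPrime_of_isPrime_disjoint p.primeCompl S I ‹_› hdisj
  have hh : (I.map (algebraMap A S)).height = 1 := by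
    rw [IsLocalization.height_map_of_disjoint p.primeCompl I hdisj, hI]
  obtain ⟨g, hg⟩ := (UniqueFactorizationMonoid.isPrincipal_of_height_eq_one hh).principal
  refine ⟨g, ?_, hg⟩
  rintro rfl
  apply Ideal.ne_bot_of_height_eq_one hh
  rw [hg]
  simp

end UFD

end Groth.Agent.R2.H8.Cartier
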