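import Mathlib
import Groth.Prelude.Def_BlowUp2
import Groth.Agent.R2.H8Cartier

/-!
# Effective Cartier ideals from principal stalks (helper8): spreading out on a scheme

* `exists_cartier_of_germ_injective`, `exists_cartier_of_stalk`: if the stalk of `𝓘` at `x` is
  generated by a nonzerodivisor, then `𝓘` is generated by a nonzerodivisor on an affine
  neighbourhood of `x`.
* `isEffCartier_of_stalk`: the resulting criterion for `BlowUp.IsEffCartierIdeal`.
-/

set_option autoImplicit false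
set_option linter.style.haveILetI false
universe u

open AlgebraicGeometry CategoryTheory TopologicalSpace

namespace Groth.Agent.R2.H8.Cartier

variable {X : Scheme.{u}} [IsLocallyNoetherian X] (𝓘 : X.IdealSheafData)

/-- spreading out on a germ-injective affine open -/
theorem exists_cartier_of_germ_injective (x : X) (U : X.affineOpens) (hx : x ∈ U.1)
    (hinj : Function.Injective (X.presheaf.germ U.1 x hx))
    (g : X.presheaf.stalk x) (hg : g ∈ nonZeroDivisors (X.presheaf.stalk x))
    (hI : (𝓘.ideal U).map (X.presheaf.germ U.1 x hx).hom = Ideal.span {g}) :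
    ∃ V : X.affineOpens, x ∈ V.1 ∧ ∃ f : Γ(X, V.1), f ∈ nonZeroDivisors Γ(X, V.1) ∧
      𝓘.ideal V = Ideal.span {f} := by
  have hU : IsAffineOpen U.1 := U.2
  haveI : IsNoetherianRing Γ(X, U.1) := IsLocallyNoetherian.component_noetherian U
  letI : Algebra Γ(X, U.1) (X.presheaf.stalk x) :=
    TopCat.Presheaf.algebra_section_stalk X.presheaf ⟨x, hx⟩
  haveI := hU.isLocalization_stalk ⟨x, hx⟩
  obtain ⟨s, hs, a, haI, haA, hsa⟩ := exists_spread (𝓘.ideal U)
    (hU.primeIdealOf ⟨x, hx⟩).asIdeal (X.presheaf.stalk x) hinj g hg hI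
  have hxs : x ∈ X.basicOpen s := by
    rw [X.mem_basicOpen s x hx]
    exact IsLocalization.map_units (X.presheaf.stalk x)
      (⟨s, hs⟩ : (hU.primeIdealOf ⟨x, hx⟩).asIdeal.primeCompl)
  letI : Algebra Γ(X, U.1) Γ(X, X.basicOpen s) :=
    (X.presheaf.map (homOfLE (X.basicOpen_le s)).op).hom.toAlgebra
  haveI hloc : IsLocalization.Away s Γ(X, X.basicOpen s) := hU.isLocalization_basicOpen s
  have key : (𝓘.ideal U).map (algebraMap Γ(X, U.1) Γ(X, X.basicOpen s)) =
      Ideal.span {algebraMap Γ(X, U.1) Γ(X, X.basicOpen s) a} := by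
    apply le_antisymm
    · rw [Ideal.map_le_iff_le_comap]
      intro b hb
      rw [Ideal.mem_comap]
      have hsu : IsUnit (algebraMap Γ(X, U.1) Γ(X, X.basicOpen s) s) :=
        IsLocalization.map_units Γ(X, X.basicOpen s)
          (⟨s, Submonoid.mem_powers s⟩ : Submonoid.powers s)
      obtain ⟨c, hc⟩ := Ideal.mem_span_singleton'.mp (hsa b hb)
      have h1 : algebraMap Γ(X, U.1) Γ(X, X.basicOpen s) s *
          algebraMap Γ(X, U.1) Γ(X, X.basicOpen s) b ∈
          Ideal.span {algebraMap Γ(X, U.1) Γ(X, X.basicOpen s) a} := by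
        rw [← map_mul, ← hc, map_mul]
        exact Ideal.mul_mem_left _ _ (Ideal.mem_span_singleton_self _)
      exact (Ideal.unit_mul_mem_iff_mem _ hsu).mp h1
    · rw [Ideal.span_singleton_le_iff_mem]
      exact Ideal.mem_map_of_mem _ haI
  refine ⟨X.affineBasicOpen s, hxs, algebraMap Γ(X, U.1) Γ(X, X.basicOpen s) a, ?_, ?_⟩
  · exact IsLocalization.map_nonZeroDivisors_le (Submonoid.powers s) Γ(X, X.basicOpen s)
      (Submonoid.mem_map_of_mem _ haA)
  · rw [← 𝓘.map_ideal_basicOpen U s]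
    exact key

/-- spreading out from any affine open neighbourhood -/
theorem exists_cartier_of_stalk (x : X) (U : X.affineOpens) (hx : x ∈ U.1)
    (g : X.presheaf.stalk x) (hg : g ∈ nonZeroDivisors (X.presheaf.stalk x))
    (hI : (𝓘.ideal U).map (X.presheaf.germ U.1 x hx).hom = Ideal.span {g}) :
    ∃ V : X.affineOpens, x ∈ V.1 ∧ ∃ f : Γ(X, V.1), f ∈ nonZeroDivisors Γ(X, V.1) ∧
      𝓘.ideal V = Ideal.span {f} := by
  obtain ⟨W, hxW, hW, hWU, hinj⟩ := X.exists_le_and_germ_injective x U.1 hx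
  refine exists_cartier_of_germ_injective 𝓘 x ⟨W, hW⟩ hxW hinj g hg ?_
  rw [← hI, ← 𝓘.map_ideal (U := ⟨W, hW⟩) (V := U) hWU, Ideal.map_map, ← CommRingCat.hom_comp]
  congr 2
  exact X.presheaf.germ_res (homOfLE hWU) x hxW

/-- the stalkwise criterion for effective Cartier ideals on a locally Noetherian scheme -/
theorem isEffCartier_of_stalk
    (h : ∀ x : X, ∃ (U : X.affineOpens) (hx : x ∈ U.1) (g : X.presheaf.stalk x),
      g ∈ nonZeroDivisors (X.presheaf.stalk x) ∧
      (𝓘.ideal U).map (X.presheaf.germ U.1 x hx).hom = Ideal.span {g}) :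
    BlowUp.IsEffCartierIdeal 𝓘 := by
  intro x
  obtain ⟨U, hx, g, hg, hI⟩ := h x
  obtain ⟨V, hxV, f, hf, hV⟩ := exists_cartier_of_stalk 𝓘 x U hx g hg hI
  exact ⟨V, hxV, f, hf, hV⟩

omit [IsLocallyNoetherian X] in
/-- outside the support the stalk of the ideal is the unit ideal -/
theorem map_germ_eq_top_of_notMem_support (x : X) (U : X.affineOpens) (hx : x ∈ U.1)
    (hxs : x ∉ 𝓘.support) :
    (𝓘.ideal U).map (X.presheaf.germ U.1 x hx).hom = Ideal.span {1} := by
  rw [Ideal.span_singleton_one]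
  rw [Scheme.IdealSheafData.mem_support_iff_of_mem hx, Scheme.mem_zeroLocus_iff] at hxs
  push Not at hxs
  obtain ⟨f, hf, hxf⟩ := hxs
  rw [X.mem_basicOpen f x hx] at hxf
  exact Ideal.eq_top_of_isUnit_mem _ (Ideal.mem_map_of_mem _ hf) hxf

end Groth.Agent.R2.H8.Cartier
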