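import Mathlib

/-!
# Ideals of a factorial Noetherian domain whose associated primes have height one are principal
(helper8), and associated primes of quotients under localization.
-/

set_option autoImplicit false
set_option linter.style.haveILetI false
universe u v

namespace Groth.Agent.R2.H8.Cartier

section LemmaP
variable {R : Type u} [CommRing R] [IsDomain R] [IsNoetherianRing R]

/-- the only associated prime of a domain (as a module over itself) is `0` -/
lemma eq_bot_of_mem_associatedPrimes_self (P : Ideal R) (hP : P ∈ associatedPrimes R R) :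
    P = ⊥ := by
  obtain ⟨hPp, x, hx⟩ := (isAssociatedPrime_iff).mp hP
  have hx0 : x ≠ 0 := by
    rintro rfl
    apply hPp.ne_top
    rw [hx]
    ext r
    simp [Submodule.mem_colon_singleton]
  rw [hx]
  ext r
  rw [Submodule.mem_colon_singleton, Submodule.mem_bot, Ideal.mem_bot, smul_eq_mul]
  constructor
  · intro h
    exact (mul_eq_zero.mp h).resolve_right hx0
  · rintro rfl
    exact zero_mul x

variable [UniqueFactorizationMonoid R]

theorem exists_eq_span_singleton_of_assPrimes (J : Ideal R)
    (h : ∀ P ∈ associatedPrimes R (R ⧸ J), P.height = 1) :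
    ∃ g : R, g ≠ 0 ∧ J = Ideal.span {g} := by
  induction J using IsNoetherian.induction with
  | hgt J ih =>
  by_cases hJ : J = ⊤
  · exact ⟨1, one_ne_zero, by rw [hJ, Ideal.span_singleton_one]⟩
  haveI : Nontrivial (R ⧸ J) := Ideal.Quotient.nontrivial_iff.mpr hJ
  obtain ⟨P, hP⟩ := associatedPrimes.nonempty R (R ⧸ J)
  have hP1 := h P hP
  haveI hPp : P.IsPrime := hP.isPrime
  obtain ⟨π, hπ⟩ := (UniqueFactorizationMonoid.isPrincipal_of_height_eq_one hP1).principal
  have hP' : P = Ideal.span {π} := hπ
  have hπ0 : π ≠ 0 := by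
    rintro rfl
    apply Ideal.ne_bot_of_height_eq_one hP1
    rw [hP']
    simp
  have hπu : ¬ IsUnit π := by
    intro hu
    apply hPp.ne_top
    rw [hP']
    exact Ideal.span_singleton_eq_top.mpr hu
  have hJP : J ≤ P := by
    have := hP.annihilator_le
    rwa [Submodule.annihilator_top, Ideal.annihilator_quotient] at this
  set J' : Ideal R := J.colon {π} with hJ'
  have hmem : ∀ r, r ∈ J' ↔ r * π ∈ J := fun r => by
    rw [hJ', Submodule.mem_colon_singleton, smul_eq_mul]
  have hJJ' : J ≤ J' := fun j hj => (hmem j).mpr (Ideal.mul_mem_right _ J hj)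
  have hJ0 : J ≠ ⊥ := by
    rintro rfl
    have e : (R ⧸ (⊥ : Ideal R)) ≃ₗ[R] R := Submodule.quotEquivOfEqBot ⊥ rfl
    rw [LinearEquiv.AssociatedPrimes.eq e] at hP
    exact Ideal.ne_bot_of_height_eq_one hP1 (eq_bot_of_mem_associatedPrimes_self P hP)
  have hne : J ≠ J' := by
    intro heq
    have hle : J ≤ Ideal.span {π} • J := by
      intro j hj
      obtain ⟨r, rfl⟩ := Ideal.mem_span_singleton'.mp (hP' ▸ hJP hj)
      have hr : r ∈ J := heq ▸ (hmem r).mpr hj
      rw [mul_comm]
      exact Submodule.smul_mem_smul (Ideal.mem_span_singleton_self π) hr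
    obtain ⟨r, hr1, hr2⟩ := Submodule.exists_sub_one_mem_and_smul_eq_zero_of_fg_of_le_smul
      (Ideal.span {π}) J (IsNoetherian.noetherian J) hle
    obtain ⟨j, hj, hj0⟩ := Submodule.exists_mem_ne_zero_of_ne_bot hJ0
    have hr0 : r = 0 := by
      have := hr2 j hj
      rw [smul_eq_mul] at this
      exact (mul_eq_zero.mp this).resolve_right hj0
    subst hr0
    apply hπu
    rw [zero_sub, Ideal.neg_mem_iff, Ideal.mem_span_singleton] at hr1
    exact isUnit_of_dvd_one hr1
  have hlt : J < J' := lt_of_le_of_ne hJJ' hne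
  have hass : ∀ Q ∈ associatedPrimes R (R ⧸ J'), Q.height = 1 := by
    intro Q hQ
    apply h
    let φ : (R ⧸ J') →ₗ[R] (R ⧸ J) := Submodule.mapQ J' J (LinearMap.mulLeft R π) (by
      intro r hr
      rw [Submodule.mem_comap, LinearMap.mulLeft_apply, mul_comm]
      exact (hmem r).mp hr)
    have hφ : Function.Injective φ := by
      rw [← LinearMap.ker_eq_bot, LinearMap.ker_eq_bot']
      intro x hx
      obtain ⟨r, rfl⟩ := Submodule.Quotient.mk_surjective _ x
      rw [Submodule.mapQ_apply, Submodule.Quotient.mk_eq_zero, LinearMap.mulLeft_apply] at hx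
      rw [Submodule.Quotient.mk_eq_zero, hmem, mul_comm]
      exact hx
    exact associatedPrimes.subset_of_injective hφ hQ
  obtain ⟨g', hg'0, hg'⟩ := ih J' hlt hass
  refine ⟨π * g', mul_ne_zero hπ0 hg'0, ?_⟩
  apply le_antisymm
  · intro j hj
    obtain ⟨r, rfl⟩ := Ideal.mem_span_singleton'.mp (hP' ▸ hJP hj)
    have hr : r ∈ J' := (hmem r).mpr hj
    rw [hg'] at hr
    obtain ⟨c, rfl⟩ := Ideal.mem_span_singleton'.mp hr
    exact Ideal.mem_span_singleton'.mpr ⟨c, by ring⟩
  · rw [Ideal.span_singleton_le_iff_mem]
    have : g' ∈ J' := hg' ▸ Ideal.mem_span_singleton_self g'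
    rw [mul_comm]
    exact (hmem g').mp this

end LemmaP

section AssLoc
variable {A : Type u} [CommRing A] [IsNoetherianRing A] (I : Ideal A)

/-- an associated prime of `A/I` over `A` gives one over `A/I` -/
lemma mem_associatedPrimes_quotient_of_comap (q : Ideal (A ⧸ I)) [hq : q.IsPrime]
    (h : q.comap (Ideal.Quotient.mk I) ∈ associatedPrimes A (A ⧸ I)) :
    q ∈ associatedPrimes (A ⧸ I) (A ⧸ I) := by
  obtain ⟨_, x, hx⟩ := isAssociatedPrime_iff.mp h
  refine isAssociatedPrime_iff.mpr ⟨hq, x, ?_⟩
  ext r
  obtain ⟨r, rfl⟩ := Ideal.Quotient.mk_surjective r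
  rw [Submodule.mem_colon_singleton, Submodule.mem_bot, ← Ideal.mem_comap, hx,
    Submodule.mem_colon_singleton, Submodule.mem_bot]
  rfl

omit [IsNoetherianRing A] in
/-- an associated prime of a ring gives that the maximal ideal of the localization is associated -/
lemma maximalIdeal_mem_associatedPrimes_localization (q : Ideal A) [q.IsPrime]
    (h : q ∈ associatedPrimes A A) :
    IsLocalRing.maximalIdeal (Localization.AtPrime q) ∈
      associatedPrimes (Localization.AtPrime q) (Localization.AtPrime q) := by
  apply Module.associatedPrimes.mem_associatedPrimes_of_comap_mem_associatedPrimes_of_isLocalizedModule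
    q.primeCompl (Algebra.linearMap A (Localization.AtPrime q))
  have hc : (IsLocalRing.maximalIdeal (Localization.AtPrime q)).comap
      (algebraMap A (Localization.AtPrime q)) = q := Localization.AtPrime.under_maximalIdeal
  rwa [hc]

/-- associated primes of `S/IS` over a localization `S` of `A` come from those of `A/I` -/
lemma comap_mem_associatedPrimes_quotient (p : Ideal A) [p.IsPrime] (S : Type v) [CommRing S]
    [Algebra A S] [IsLocalization.AtPrime S p] (P : Ideal S)
    (hP : P ∈ associatedPrimes S (S ⧸ I.map (algebraMap A S))) :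
    P.comap (algebraMap A S) ∈ associatedPrimes A (A ⧸ I) := by
  let f := Submodule.toLocalizedQuotient' S p.primeCompl (Algebra.linearMap A S) I
  have e : (S ⧸ I.map (algebraMap A S)) ≃ₗ[S]
      (S ⧸ Submodule.localized' S p.primeCompl (Algebra.linearMap A S) I) :=
    Submodule.quotEquivOfEq _ _ (Ideal.localized'_eq_map S p.primeCompl I).symm
  rw [LinearEquiv.AssociatedPrimes.eq e] at hP
  exact Module.associatedPrimes.comap_mem_associatedPrimes_of_mem_associatedPrimes_of_isLocalizedModule_of_fg
    p.primeCompl f P hP ((isNoetherianRing_iff_ideal_fg A).mp ‹_› _)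

end AssLoc

section Transport

/-- "the maximal ideal is an associated prime of the ring" is invariant under ring isomorphisms -/
lemma maximalIdeal_mem_associatedPrimes_of_ringEquiv {S₁ : Type u} {S₂ : Type v} [CommRing S₁]
    [CommRing S₂] [IsLocalRing S₁] [IsLocalRing S₂] [IsNoetherianRing S₁] [IsNoetherianRing S₂]
    (e : S₁ ≃+* S₂) (h : IsLocalRing.maximalIdeal S₁ ∈ associatedPrimes S₁ S₁) :
    IsLocalRing.maximalIdeal S₂ ∈ associatedPrimes S₂ S₂ := by
  obtain ⟨_, x, hx⟩ := isAssociatedPrime_iff.mp h
  refine isAssociatedPrime_iff.mpr ⟨(IsLocalRing.maximalIdeal.isMaximal S₂).isPrime, e x, ?_⟩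
  ext r
  obtain ⟨r, rfl⟩ := e.surjective r
  have h1 : e r ∈ IsLocalRing.maximalIdeal S₂ ↔ r ∈ IsLocalRing.maximalIdeal S₁ := by
    rw [IsLocalRing.mem_maximalIdeal, IsLocalRing.mem_maximalIdeal, mem_nonunits_iff,
      mem_nonunits_iff]
    exact not_congr (MulEquiv.isUnit_map e.toMulEquiv)
  rw [h1, hx, Submodule.mem_colon_singleton, Submodule.mem_colon_singleton, Submodule.mem_bot,
    Submodule.mem_bot, smul_eq_mul, smul_eq_mul, ← map_mul]
  exact (map_eq_zero_iff e e.injective).symm

end Transport

section T
variable {A : Type u} [CommRing A] [IsNoetherianRing A] (I p : Ideal A) [hp : p.IsPrime]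
  (S : Type v) [CommRing S] [Algebra A S] [hS : IsLocalization.AtPrime S p]

include hp hS in
/-- if every prime `q` of `A/I` at which the local ring has depth zero has height one preimage
in `A`, then `I` generates a principal ideal in any factorial localization of `A` -/
theorem map_eq_span_of_assPrimes [IsDomain S] [UniqueFactorizationMonoid S]
    (H : ∀ (q : Ideal (A ⧸ I)) [q.IsPrime],
      IsLocalRing.maximalIdeal (Localization.AtPrime q) ∈
        associatedPrimes (Localization.AtPrime q) (Localization.AtPrime q) →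
      (q.comap (Ideal.Quotient.mk I)).height = 1) :
    ∃ g : S, g ≠ 0 ∧ I.map (algebraMap A S) = Ideal.span {g} := by
  haveI : IsNoetherianRing S := IsLocalization.isNoetherianRing p.primeCompl S inferInstance
  apply exists_eq_span_singleton_of_assPrimes
  intro P hP
  haveI hPp : P.IsPrime := IsAssociatedPrime.isPrime hP
  have h1 := comap_mem_associatedPrimes_quotient I p S P hP
  set p' := P.comap (algebraMap A S) with hp'
  haveI : p'.IsPrime := Ideal.comap_isPrime _ _
  have hIp' : I ≤ p' := by
    have := IsAssociatedPrime.annihilator_le h1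
    rwa [Submodule.annihilator_top, Ideal.annihilator_quotient] at this
  have hker : RingHom.ker (Ideal.Quotient.mk I) ≤ p' := by rwa [Ideal.mk_ker]
  haveI hq : (p'.map (Ideal.Quotient.mk I)).IsPrime :=
    Ideal.map_isPrime_of_surjective Ideal.Quotient.mk_surjective hker
  have hcomap : (p'.map (Ideal.Quotient.mk I)).comap (Ideal.Quotient.mk I) = p' := by
    rw [Ideal.comap_map_of_surjective _ Ideal.Quotient.mk_surjective, ← RingHom.ker_eq_comap_bot,
      Ideal.mk_ker, sup_eq_left.mpr hIp']
  have h2 : p'.map (Ideal.Quotient.mk I) ∈ associatedPrimes (A ⧸ I) (A ⧸ I) :=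
    mem_associatedPrimes_quotient_of_comap I _ (by rw [hcomap]; exact h1)
  have h3 := maximalIdeal_mem_associatedPrimes_localization _ h2
  have h4 := H _ h3
  rw [hcomap] at h4
  have hdisj : Disjoint (p.primeCompl : Set A) (p' : Set A) :=
    ((IsLocalization.isPrime_iff_isPrime_disjoint p.primeCompl S P).mp hPp).2
  rw [← IsLocalization.map_under p.primeCompl S P,
    IsLocalization.height_map_of_disjoint p.primeCompl p' hdisj]
  exact h4

end T

end Groth.Agent.R2.H8.Cartier
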