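import Mathlib
import Groth.Prelude.Def_BlowUp2
import Groth.Agent.R2.H8Cartier2
import Groth.Agent.R2.H8Cartier4
import Groth.Agent.R2.H8AffCompl

/-!
# The complement of a dense open with factorial local rings outside and codimension one boundary
is an effective Cartier divisor (helper8)
-/

set_option autoImplicit false
set_option linter.style.haveILetI false
universe u

open CategoryTheory AlgebraicGeometry TopologicalSpace

namespace Groth.Agent.R2.H8.AffCompl

open Groth.Agent.R2.H8.Cartier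

variable {X : Scheme.{u}} [IsLocallyNoetherian X]

/-- a point outside a dense open whose local ring is a domain has a local ring of positive
dimension -/
theorem maximalIdeal_ne_bot_of_dense (U : X.Opens) (hdense : Dense (U : Set X)) (ξ : X)
    (hξ : ξ ∉ U) [IsDomain (X.presheaf.stalk ξ)] :
    IsLocalRing.maximalIdeal (X.presheaf.stalk ξ) ≠ ⊥ := by
  intro h0
  apply hξ
  obtain ⟨V₁, hξV₁, hV₁, -, hinj⟩ := X.exists_le_and_germ_injective ξ ⊤ trivial
  haveI : IsDomain Γ(X, V₁) := Function.Injective.isDomain (X.presheaf.germ V₁ ξ hξV₁).hom hinj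
  letI := TopCat.Presheaf.algebra_section_stalk X.presheaf ⟨ξ, hξV₁⟩
  haveI := hV₁.isLocalization_stalk ⟨ξ, hξV₁⟩
  have hp : (hV₁.primeIdealOf ⟨ξ, hξV₁⟩).asIdeal = ⊥ := by
    rw [← IsLocalization.AtPrime.under_maximalIdeal (X.presheaf.stalk ξ)
      (hV₁.primeIdealOf ⟨ξ, hξV₁⟩).asIdeal, h0, Ideal.under_def, ← RingHom.ker_eq_comap_bot]
    exact (RingHom.injective_iff_ker_eq_bot _).mp hinj
  obtain ⟨y, hyV₁, hyU⟩ := hdense.inter_open_nonempty V₁ V₁.2 ⟨ξ, hξV₁⟩
  have hle : hV₁.primeIdealOf ⟨ξ, hξV₁⟩ ≤ hV₁.primeIdealOf ⟨y, hyV₁⟩ := by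
    change (hV₁.primeIdealOf ⟨ξ, hξV₁⟩).asIdeal ≤ _
    rw [hp]
    exact bot_le
  have hsp := ((PrimeSpectrum.le_iff_specializes _ _).mp hle).map hV₁.fromSpec.continuous
  rw [hV₁.fromSpec_primeIdealOf, hV₁.fromSpec_primeIdealOf] at hsp
  exact hsp.mem_open U.2 hyU

theorem exists_effCartier_compl (U : X.Opens) (hdense : Dense (U : Set X))
    (hufd : ∀ x : X, x ∉ U →
      IsDomain (X.presheaf.stalk x) ∧ UniqueFactorizationMonoid (X.presheaf.stalk x))
    (hcodim : ∀ ξ : X, ξ ∉ U → (∀ η : X, η ∉ U → η ⤳ ξ → η = ξ) →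
      ringKrullDim (X.presheaf.stalk ξ) ≤ 1) :
    ∃ 𝓘 : X.IdealSheafData, BlowUp.IsEffCartierIdeal 𝓘 ∧
      (𝓘.support : Set X) = (U : Set X)ᶜ := by
  let Z : Closeds X := ⟨(U : Set X)ᶜ, U.2.isClosed_compl⟩
  refine ⟨Scheme.IdealSheafData.vanishingIdeal Z, ?_,
    Scheme.IdealSheafData.coe_support_vanishingIdeal Z⟩
  apply isEffCartier_of_stalk
  intro x
  obtain ⟨V, hV', hxV, -⟩ := (Opens.isBasis_iff_nbhd.mp X.isBasis_affineOpens)
    (show x ∈ (⊤ : X.Opens) from trivial)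
  have hV : IsAffineOpen V := hV'
  by_cases hx : x ∈ U
  · refine ⟨⟨V, hV⟩, hxV, 1, one_mem _, ?_⟩
    apply map_germ_eq_top_of_notMem_support
    intro hxs
    have h1 : x ∈ ((Scheme.IdealSheafData.vanishingIdeal Z).support : Set X) := hxs
    rw [Scheme.IdealSheafData.coe_support_vanishingIdeal] at h1
    exact h1 hx
  · obtain ⟨hdom, hufdx⟩ := hufd x hx
    haveI : IsNoetherianRing Γ(X, V) := IsLocallyNoetherian.component_noetherian ⟨V, hV⟩
    letI := TopCat.Presheaf.algebra_section_stalk X.presheaf ⟨x, hxV⟩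
    haveI := hV.isLocalization_stalk ⟨x, hxV⟩
    have hIeq : (Scheme.IdealSheafData.vanishingIdeal Z).ideal ⟨V, hV⟩ =
        PrimeSpectrum.vanishingIdeal (hV.fromSpec ⁻¹' (Z : Set X)) :=
      Scheme.IdealSheafData.vanishingIdeal_ideal Z ⟨V, hV⟩
    have hIrad : ((Scheme.IdealSheafData.vanishingIdeal Z).ideal ⟨V, hV⟩).IsRadical := by
      rw [hIeq]
      exact PrimeSpectrum.isRadical_vanishingIdeal _
    -- points of `Z ∩ V` are the primes containing `I`
    have hZ : ∀ P : PrimeSpectrum Γ(X, V), hV.fromSpec P ∉ U ↔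
        (Scheme.IdealSheafData.vanishingIdeal Z).ideal ⟨V, hV⟩ ≤ P.asIdeal := by
      intro P
      have h1 : PrimeSpectrum.vanishingIdeal (hV.fromSpec ⁻¹' (Z : Set X)) ≤ P.asIdeal ↔
          P ∈ PrimeSpectrum.zeroLocus
            (PrimeSpectrum.vanishingIdeal (hV.fromSpec ⁻¹' (Z : Set X)) : Set Γ(X, V)) := by
        rw [PrimeSpectrum.mem_zeroLocus, SetLike.coe_subset_coe]
      rw [hIeq, h1, PrimeSpectrum.zeroLocus_vanishingIdeal_eq_closure]
      have hcl : IsClosed (hV.fromSpec ⁻¹' (Z : Set X)) :=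
        Z.isClosed.preimage hV.fromSpec.continuous
      exact ⟨fun h => subset_closure h, fun h => hcl.closure_subset h⟩
    obtain ⟨g, hg0, hg⟩ := map_eq_span_of_assPrimes
      ((Scheme.IdealSheafData.vanishingIdeal Z).ideal ⟨V, hV⟩)
      (hV.primeIdealOf ⟨x, hxV⟩).asIdeal (X.presheaf.stalk x) (by
      intro q _ hdepth
      haveI hqt : (q.comap (Ideal.Quotient.mk
          ((Scheme.IdealSheafData.vanishingIdeal Z).ideal ⟨V, hV⟩))).IsPrime :=
        Ideal.comap_isPrime _ _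
      have hIq : (Scheme.IdealSheafData.vanishingIdeal Z).ideal ⟨V, hV⟩ ≤
          q.comap (Ideal.Quotient.mk ((Scheme.IdealSheafData.vanishingIdeal Z).ideal ⟨V, hV⟩)) := by
        intro a ha
        rw [Ideal.mem_comap, Ideal.Quotient.eq_zero_iff_mem.mpr ha]
        exact zero_mem _
      have hξV : hV.fromSpec (⟨_, hqt⟩ : PrimeSpectrum Γ(X, V)) ∈ V := by
        have h1 : hV.fromSpec (⟨_, hqt⟩ : PrimeSpectrum Γ(X, V)) ∈ hV.fromSpec.opensRange :=
          ⟨_, rfl⟩
        rwa [hV.opensRange_fromSpec] at h1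
      have hξU : hV.fromSpec (⟨_, hqt⟩ : PrimeSpectrum Γ(X, V)) ∉ U := (hZ ⟨_, hqt⟩).mpr hIq
      have hmax : ∀ η : X, η ∉ U → η ⤳ hV.fromSpec (⟨_, hqt⟩ : PrimeSpectrum Γ(X, V)) →
          η = hV.fromSpec (⟨_, hqt⟩ : PrimeSpectrum Γ(X, V)) := by
        intro η hηU hηξ
        have hηV : η ∈ V := hηξ.mem_open V.2 hξV
        have hP : hV.fromSpec (hV.primeIdealOf ⟨η, hηV⟩) = η := hV.fromSpec_primeIdealOf ⟨η, hηV⟩
        have hIP := (hZ (hV.primeIdealOf ⟨η, hηV⟩)).mp (by rw [hP]; exact hηU)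
        have hPQ : hV.primeIdealOf ⟨η, hηV⟩ ≤ (⟨_, hqt⟩ : PrimeSpectrum Γ(X, V)) := by
          rw [PrimeSpectrum.le_iff_specializes]
          apply (hV.fromSpec.isOpenEmbedding.isInducing.specializes_iff).mp
          rw [hP]
          exact hηξ
        have h3 := eq_of_le_of_depth_zero _ hIrad q hdepth (hV.primeIdealOf ⟨η, hηV⟩).asIdeal hIP hPQ
        have hPQ' : hV.primeIdealOf ⟨η, hηV⟩ = (⟨_, hqt⟩ : PrimeSpectrum Γ(X, V)) :=
          PrimeSpectrum.ext h3
        rw [← hP, hPQ']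
      haveI := (hufd _ hξU).1
      haveI := (hufd _ hξU).2
      have h1 := hcodim _ hξU hmax
      have h2 := maximalIdeal_ne_bot_of_dense U hdense _ hξU
      letI := TopCat.Presheaf.algebra_section_stalk X.presheaf
        ⟨hV.fromSpec (⟨_, hqt⟩ : PrimeSpectrum Γ(X, V)), hξV⟩
      haveI : IsLocalization.AtPrime
          (X.presheaf.stalk (hV.fromSpec (⟨_, hqt⟩ : PrimeSpectrum Γ(X, V))))
          (q.comap (Ideal.Quotient.mk ((Scheme.IdealSheafData.vanishingIdeal Z).ideal ⟨V, hV⟩))) :=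
        hV.isLocalization_stalk' ⟨_, hqt⟩ hξV
      have h3 := IsLocalization.AtPrime.ringKrullDim_eq_height
        (q.comap (Ideal.Quotient.mk ((Scheme.IdealSheafData.vanishingIdeal Z).ideal ⟨V, hV⟩)))
        (X.presheaf.stalk (hV.fromSpec (⟨_, hqt⟩ : PrimeSpectrum Γ(X, V))))
      have h4 := IsLocalRing.maximalIdeal_height_eq_ringKrullDim
        (R := X.presheaf.stalk (hV.fromSpec (⟨_, hqt⟩ : PrimeSpectrum Γ(X, V))))
      have h5 : (IsLocalRing.maximalIdeal
          (X.presheaf.stalk (hV.fromSpec (⟨_, hqt⟩ : PrimeSpectrum Γ(X, V))))).height ≠ 0 := by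
        rw [Ne, Ideal.height_eq_zero_iff_eq_bot]
        exact h2
      rw [← h4] at h1 h3
      have h6 : (IsLocalRing.maximalIdeal
          (X.presheaf.stalk (hV.fromSpec (⟨_, hqt⟩ : PrimeSpectrum Γ(X, V))))).height ≤ 1 := by
        exact_mod_cast h1
      have h7 : (IsLocalRing.maximalIdeal
          (X.presheaf.stalk (hV.fromSpec (⟨_, hqt⟩ : PrimeSpectrum Γ(X, V))))).height = 1 :=
        le_antisymm h6 (Order.one_le_iff_ne_zero.mpr h5)
      have h8 : (q.comap (Ideal.Quotient.mk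
          ((Scheme.IdealSheafData.vanishingIdeal Z).ideal ⟨V, hV⟩))).height =
          (IsLocalRing.maximalIdeal
            (X.presheaf.stalk (hV.fromSpec (⟨_, hqt⟩ : PrimeSpectrum Γ(X, V))))).height := by
        exact_mod_cast h3.symm
      rw [h8, h7])
    exact ⟨⟨V, hV⟩, hxV, g, mem_nonZeroDivisors_of_ne_zero hg0, hg⟩

end Groth.Agent.R2.H8.AffCompl
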