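import Mathlib
import Groth.Prelude.Def_MeroSh
import Groth.Prelude.Def_Pic
import Groth.Prelude.Def_CohB1

/-!
# `O_X(D)` with its canonical section, from local equations (helper8)

Mathlib (and the prelude) have no dual / inverse of an invertible module.  For a family of local
equations `g x ∈ O_{X,x}` (nonzerodivisors, locally the germs of one regular section up to units), this
file CONSTRUCTS the invertible module `O_X(D)` in the prelude's `Mero.modOf` model, as the module of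
families `(u_x)` (`u_x ∈ O_{X,x}`, to be thought of as `g_x · t_x` for `t` a section of `O_X(D) ⊂ K_X`)
with `u_y · f_y = g_y · a_y` locally, together with the canonical section `1_D = (g_x)_x`.

* `LocEq X` : the local equation data; `LocEq.invMod E : X.Modules`; `E.one : Γ(invMod E, ⊤)`.
-/

set_option autoImplicit false
set_option linter.style.haveILetI false
universe u

open CategoryTheory AlgebraicGeometry TopologicalSpace Opposite

namespace Groth.Agent.R2.H8.InvMod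

variable {X : Scheme.{u}}

/-- Local equation data of an effective Cartier divisor: a germ `g x` at every point, such that
locally the `g y` are, up to units, the germs of one section whose germs are nonzerodivisors. -/
structure LocEq (X : Scheme.{u}) where
  g : ∀ x : X, X.presheaf.stalk x
  coh : ∀ x : X, ∃ (V : X.Opens) (_ : x ∈ V) (f : Γ(X, V)),
    ∀ y : V, X.presheaf.germ V y.1 y.2 f ∈ nonZeroDivisors (X.presheaf.stalk y.1) ∧
      Associated (g y.1) (X.presheaf.germ V y.1 y.2 f)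

namespace LocEq

variable (E : LocEq X)

/-- `f` is a local equation of `E` on `U`. -/
def IsEq (U : X.Opens) (f : Γ(X, U)) : Prop :=
  ∀ y : U, X.presheaf.germ U y.1 y.2 f ∈ nonZeroDivisors (X.presheaf.stalk y.1) ∧
    Associated (E.g y.1) (X.presheaf.germ U y.1 y.2 f)

theorem IsEq.res {U V : X.Opens} (i : V ⟶ U) {f : Γ(X, U)} (hf : E.IsEq U f) :
    E.IsEq V (X.presheaf.map i.op f) := fun y => by
  have := hf ⟨y.1, i.le y.2⟩
  rwa [TopCat.Presheaf.germ_res_apply]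

theorem g_mem_nonZeroDivisors (x : X) : E.g x ∈ nonZeroDivisors (X.presheaf.stalk x) := by
  obtain ⟨V, hx, f, hf⟩ := E.coh x
  obtain ⟨h1, ⟨w, hw⟩⟩ := hf ⟨x, hx⟩
  have : E.g x * (w : X.presheaf.stalk x) ∈ nonZeroDivisors (X.presheaf.stalk x) := by
    rw [hw]; exact h1
  exact (mul_mem_nonZeroDivisors.mp this).1

/-- the prelocal predicate: `u_y · f_y = g_y · a_y` for one section `a` and one local equation `f`. -/
def pre : TopCat.PrelocalPredicate (fun x : X => (X.presheaf.stalk x : Type u)) where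
  pred {U} u := ∃ (a f : Γ(X, U)), E.IsEq U f ∧
    ∀ y : U, u y * X.presheaf.germ U y.1 y.2 f = E.g y.1 * X.presheaf.germ U y.1 y.2 a
  res {V U} i u := by
    rintro ⟨a, f, hf, h⟩
    refine ⟨X.presheaf.map i.op a, X.presheaf.map i.op f, hf.res E i, fun y => ?_⟩
    dsimp only
    rw [TopCat.Presheaf.germ_res_apply, TopCat.Presheaf.germ_res_apply]
    exact h ⟨y.1, i.le y.2⟩

/-- the local predicate cutting out `O_X(D)`. -/
def loc : TopCat.LocalPredicate (fun x : X => (X.presheaf.stalk x : Type u)) := (E.pre).sheafify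

/-- spreading out a relation between germs -/
theorem exists_spread {x : X} {V V' : X.Opens} (hx : x ∈ V) (hx' : x ∈ V') (f : Γ(X, V))
    (f' : Γ(X, V')) (d₀ : X.presheaf.stalk x)
    (h : X.presheaf.germ V' x hx' f' = d₀ * X.presheaf.germ V x hx f) :
    ∃ (N : X.Opens) (_ : x ∈ N) (i : N ⟶ V) (i' : N ⟶ V') (d : Γ(X, N)),
      X.presheaf.map i'.op f' = d * X.presheaf.map i.op f := by
  obtain ⟨N₀, h0, d0, rfl⟩ := TopCat.Presheaf.exists_germ_eq X.presheaf d₀
  let M : X.Opens := N₀ ⊓ V ⊓ V'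
  have hxM : x ∈ M := ⟨⟨h0, hx⟩, hx'⟩
  let jN : M ⟶ N₀ := homOfLE (inf_le_left.trans inf_le_left)
  let jV : M ⟶ V := homOfLE (inf_le_left.trans inf_le_right)
  let jV' : M ⟶ V' := homOfLE inf_le_right
  have hg : X.presheaf.germ M x hxM (X.presheaf.map jV'.op f') =
      X.presheaf.germ M x hxM (X.presheaf.map jN.op d0 * X.presheaf.map jV.op f) := by
    rw [map_mul, TopCat.Presheaf.germ_res_apply, TopCat.Presheaf.germ_res_apply,
      TopCat.Presheaf.germ_res_apply]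
    exact h
  obtain ⟨W, hxW, iU, iV, hW⟩ := TopCat.Presheaf.germ_eq X.presheaf x hxM hxM _ _ hg
  refine ⟨W, hxW, iU ≫ jV, iU ≫ jV', X.presheaf.map (iU ≫ jN).op d0, ?_⟩
  have e : iU = iV := Subsingleton.elim _ _
  subst e
  rw [map_mul] at hW
  simp only [op_comp, Functor.map_comp, CommRingCat.comp_apply] at hW ⊢
  exact hW

theorem loc_zero (U : X.Opens) : (E.loc).pred (0 : ∀ x : U, (X.presheaf.stalk x.1 : Type u)) :=
  fun x => by
    obtain ⟨V, hxV, f, hf⟩ := E.coh x.1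
    refine ⟨V ⊓ U, ⟨hxV, x.2⟩, homOfLE inf_le_right, 0, X.presheaf.map (homOfLE inf_le_left).op f,
      IsEq.res E _ hf, fun y => ?_⟩
    change (0 : X.presheaf.stalk y.1) * _ = _
    rw [zero_mul, map_zero, mul_zero]

theorem loc_smul (U : X.Opens) (r : Γ(X, U)) (u : ∀ x : U, (X.presheaf.stalk x.1 : Type u))
    (hu : (E.loc).pred u) : (E.loc).pred fun x => X.presheaf.germ U x.1 x.2 r • u x := fun x => by
  obtain ⟨V, hxV, i, a, f, hf, w⟩ := hu x
  refine ⟨V, hxV, i, X.presheaf.map i.op r * a, f, hf, fun y => ?_⟩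
  have w' := w y
  dsimp only at w' ⊢
  rw [smul_eq_mul, mul_assoc, w', map_mul, TopCat.Presheaf.germ_res_apply]
  exact mul_left_comm _ _ _

theorem loc_add (U : X.Opens) (u u' : ∀ x : U, (X.presheaf.stalk x.1 : Type u))
    (hu : (E.loc).pred u) (hu' : (E.loc).pred u') : (E.loc).pred (u + u') := fun x => by
  obtain ⟨V, hxV, i, a, f, hf, w⟩ := hu x
  obtain ⟨V', hxV', i', a', f', hf', w'⟩ := hu' x
  -- `f'_x = d₀ f_x`
  obtain ⟨-, ⟨c, hc⟩⟩ := hf ⟨x.1, hxV⟩
  obtain ⟨-, ⟨c', hc'⟩⟩ := hf' ⟨x.1, hxV'⟩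
  have hrel : X.presheaf.germ V' x.1 hxV' f' =
      ((c⁻¹ * c' : (X.presheaf.stalk x.1)ˣ) : X.presheaf.stalk x.1) * X.presheaf.germ V x.1 hxV f := by
    rw [← hc, ← hc', Units.val_mul]
    have := c.inv_mul
    calc E.g x.1 * ↑c' = E.g x.1 * ↑c' * (↑c⁻¹ * ↑c) := by rw [Units.inv_mul, mul_one]
      _ = _ := by ring
  obtain ⟨N, hxN, j, j', d, hd⟩ := exists_spread hxV hxV' f f' _ hrel
  refine ⟨N, hxN, j ≫ i, d * X.presheaf.map j.op a + X.presheaf.map j'.op a',
    X.presheaf.map j'.op f', IsEq.res E j' hf', fun y => ?_⟩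
  have wy : u ⟨y.1, (j ≫ i).le y.2⟩ * X.presheaf.germ V y.1 (j.le y.2) f =
      E.g y.1 * X.presheaf.germ V y.1 (j.le y.2) a := w ⟨y.1, j.le y.2⟩
  have wy' : u' ⟨y.1, (j ≫ i).le y.2⟩ * X.presheaf.germ V' y.1 (j'.le y.2) f' =
      E.g y.1 * X.presheaf.germ V' y.1 (j'.le y.2) a' := w' ⟨y.1, j'.le y.2⟩
  have e1 : X.presheaf.germ N y.1 y.2 (X.presheaf.map j'.op f') =
      X.presheaf.germ N y.1 y.2 d * X.presheaf.germ V y.1 (j.le y.2) f := by
    rw [hd, map_mul, TopCat.Presheaf.germ_res_apply]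
  have e2 : X.presheaf.germ N y.1 y.2 (X.presheaf.map j'.op f') =
      X.presheaf.germ V' y.1 (j'.le y.2) f' := TopCat.Presheaf.germ_res_apply _ _ _ _ _
  have h1 : u ⟨y.1, (j ≫ i).le y.2⟩ * X.presheaf.germ N y.1 y.2 (X.presheaf.map j'.op f') =
      E.g y.1 * X.presheaf.germ N y.1 y.2 (d * X.presheaf.map j.op a) := by
    rw [e1, map_mul, TopCat.Presheaf.germ_res_apply]
    calc u ⟨y.1, _⟩ * (X.presheaf.germ N y.1 y.2 d * X.presheaf.germ V y.1 (j.le y.2) f)
        = X.presheaf.germ N y.1 y.2 d * (u ⟨y.1, _⟩ * X.presheaf.germ V y.1 (j.le y.2) f) :=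
          mul_left_comm _ _ _
      _ = _ := by rw [wy]; exact mul_left_comm _ _ _
  have h2 : u' ⟨y.1, (j ≫ i).le y.2⟩ * X.presheaf.germ N y.1 y.2 (X.presheaf.map j'.op f') =
      E.g y.1 * X.presheaf.germ N y.1 y.2 (X.presheaf.map j'.op a') := by
    rw [e2, TopCat.Presheaf.germ_res_apply]
    exact wy'
  change (u ⟨y.1, _⟩ + u' ⟨y.1, _⟩) * _ = _
  rw [add_mul, map_add, mul_add, h1, h2]

instance : Mero.IsModPred (E.loc) := ⟨E.loc_zero, E.loc_add, E.loc_smul⟩

/-- the invertible module `O_X(D)` attached to the local equations `E`. -/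
noncomputable def invMod : X.Modules := Mero.modOf (E.loc)

/-- the canonical section `1_D`, over any open: the family `(g_y)`. -/
noncomputable def oneSec (U : X.Opens) : Γ(E.invMod, U) :=
  ⟨fun y => E.g y.1, fun x => by
    obtain ⟨V, hxV, f, hf⟩ := E.coh x.1
    exact ⟨V ⊓ U, ⟨hxV, x.2⟩, homOfLE inf_le_right, X.presheaf.map (homOfLE inf_le_left).op f,
      X.presheaf.map (homOfLE inf_le_left).op f, IsEq.res E _ hf, fun y => rfl⟩⟩

/-- the canonical section as a morphism `O_X ⟶ O_X(D)`. -/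
noncomputable def oneHom : Coh.structureModule X ⟶ E.invMod :=
  (E.invMod).unitHomEquiv.symm
    (PresheafOfModules.sectionsMk (fun V => E.oneSec V.unop) (fun _ _ _ => rfl))

theorem oneHom_app (V : X.Opens) (r : Γ(X, V)) : (E.oneHom).app V r = r • E.oneSec V := rfl

/-- a family of germs which is locally the family of germs of a section is the family of germs of
a section. -/
theorem exists_section_of_germs (W : X.Opens) (ρ : ∀ y : W, X.presheaf.stalk y.1)
    (h : ∀ y : W, ∃ (N : X.Opens) (_ : y.1 ∈ N) (i : N ⟶ W) (c : Γ(X, N)),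
      ∀ z : N, X.presheaf.germ N z.1 z.2 c = ρ ⟨z.1, i.le z.2⟩) :
    ∃ r : Γ(X, W), ∀ y : W, X.presheaf.germ W y.1 y.2 r = ρ y := by
  choose N hN i c hc using h
  have hcov : W ≤ ⨆ y : W, N y := fun y hy => Opens.mem_iSup.2 ⟨⟨y, hy⟩, hN ⟨y, hy⟩⟩
  have hcompat : TopCat.Presheaf.IsCompatible X.presheaf N c := by
    intro y y'
    apply TopCat.Presheaf.section_ext X.sheaf
    intro z hz
    change X.presheaf.germ _ z hz (X.presheaf.map (homOfLE inf_le_left).op (c y)) =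
      X.presheaf.germ _ z hz (X.presheaf.map (homOfLE inf_le_right).op (c y'))
    rw [TopCat.Presheaf.germ_res_apply, TopCat.Presheaf.germ_res_apply]
    exact (hc y ⟨z, hz.1⟩).trans (hc y' ⟨z, hz.2⟩).symm
  obtain ⟨r0, hr0, -⟩ := X.sheaf.existsUnique_gluing' N W (fun y => i y) hcov c hcompat
  let r : Γ(X, W) := r0
  have hr : ∀ y : W, X.presheaf.map (i y).op r = c y := hr0
  refine ⟨r, fun y => ?_⟩
  have h1 := hc y ⟨y.1, hN y⟩
  rw [← hr y, TopCat.Presheaf.germ_res_apply] at h1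
  exact h1

section Frame

variable {V : X.Opens} {f : Γ(X, V)} (hf : E.IsEq V f)

/-- the unit `w_y` with `g_y w_y = f_y`. -/
noncomputable def unitOf (y : V) : (X.presheaf.stalk y.1)ˣ := Classical.choose (hf y).2

theorem g_mul_unitOf (y : V) :
    E.g y.1 * (E.unitOf hf y : X.presheaf.stalk y.1) = X.presheaf.germ V y.1 y.2 f :=
  Classical.choose_spec (hf y).2

/-- the local frame `f⁻¹` of `O_X(D)` on an open where `f` is a local equation. -/
noncomputable def frame (W : X.Opens) (hW : W ≤ V) : Γ(E.invMod, W) :=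
  ⟨fun y => (((E.unitOf hf ⟨y.1, hW y.2⟩)⁻¹ : (X.presheaf.stalk y.1)ˣ) : X.presheaf.stalk y.1),
    fun x => ⟨W, x.2, 𝟙 _, 1, X.presheaf.map (homOfLE hW).op f, IsEq.res E _ hf, fun y => by
      change (((E.unitOf hf ⟨y.1, hW y.2⟩)⁻¹ : (X.presheaf.stalk y.1)ˣ) : X.presheaf.stalk y.1) * _ = _
      rw [TopCat.Presheaf.germ_res_apply, ← E.g_mul_unitOf hf ⟨y.1, hW y.2⟩, map_one, mul_one,
        mul_left_comm, Units.inv_mul, mul_one]⟩⟩

theorem frame_apply (W : X.Opens) (hW : W ≤ V) (y : W) :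
    (E.frame hf W hW).1 y =
      (((E.unitOf hf ⟨y.1, hW y.2⟩)⁻¹ : (X.presheaf.stalk y.1)ˣ) : X.presheaf.stalk y.1) := rfl

/-- every section of `O_X(D)` over `W ≤ V` is a unique multiple of the frame. -/
theorem exists_smul_frame (W : X.Opens) (hW : W ≤ V) (t : Γ(E.invMod, W)) :
    ∃ r : Γ(X, W), ∀ y : W, X.presheaf.germ W y.1 y.2 r =
      t.1 y * (E.unitOf hf ⟨y.1, hW y.2⟩ : X.presheaf.stalk y.1) := by
  apply exists_section_of_germs W (fun y => t.1 y * (E.unitOf hf ⟨y.1, hW y.2⟩ : X.presheaf.stalk y.1))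
  intro y₀
  obtain ⟨N, hN, i, a', f', hf', hw⟩ := t.2 y₀
  -- `f_{y₀} = d₀ f'_{y₀}`
  obtain ⟨-, ⟨c', hc'⟩⟩ := hf' ⟨y₀.1, hN⟩
  have hc := E.g_mul_unitOf hf ⟨y₀.1, hW y₀.2⟩
  have hrel : X.presheaf.germ V y₀.1 (hW y₀.2) f =
      ((c'⁻¹ * E.unitOf hf ⟨y₀.1, hW y₀.2⟩ : (X.presheaf.stalk y₀.1)ˣ) : X.presheaf.stalk y₀.1) *
        X.presheaf.germ N y₀.1 hN f' := by
    rw [← hc, ← hc', Units.val_mul]
    calc E.g y₀.1 * ↑(E.unitOf hf ⟨y₀.1, hW y₀.2⟩)
        = E.g y₀.1 * ↑(E.unitOf hf ⟨y₀.1, hW y₀.2⟩) * (↑c'⁻¹ * ↑c') := by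
          rw [Units.inv_mul, mul_one]
      _ = _ := by ring
  obtain ⟨N', hxN', j, j', d, hd⟩ := exists_spread hN (hW y₀.2) f' f _ hrel
  refine ⟨N', hxN', j ≫ i, d * X.presheaf.map j.op a', fun z => ?_⟩
  have hz : t.1 ⟨z.1, (j ≫ i).le z.2⟩ * X.presheaf.germ N z.1 (j.le z.2) f' =
      E.g z.1 * X.presheaf.germ N z.1 (j.le z.2) a' := hw ⟨z.1, j.le z.2⟩
  have hgw := E.g_mul_unitOf hf ⟨z.1, hW ((j ≫ i).le z.2)⟩
  have e1 : X.presheaf.germ V z.1 (hW ((j ≫ i).le z.2)) f =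
      X.presheaf.germ N' z.1 z.2 d * X.presheaf.germ N z.1 (j.le z.2) f' := by
    have := congrArg (X.presheaf.germ N' z.1 z.2) hd
    rw [map_mul, TopCat.Presheaf.germ_res_apply, TopCat.Presheaf.germ_res_apply] at this
    exact this
  have hnzd := (hf' ⟨z.1, j.le z.2⟩).1
  apply (mul_cancel_right_mem_nonZeroDivisors hnzd).1
  rw [map_mul, TopCat.Presheaf.germ_res_apply]
  calc X.presheaf.germ N' z.1 z.2 d * X.presheaf.germ N z.1 (j.le z.2) a' *
        X.presheaf.germ N z.1 (j.le z.2) f'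
      = X.presheaf.germ N z.1 (j.le z.2) a' *
          (X.presheaf.germ N' z.1 z.2 d * X.presheaf.germ N z.1 (j.le z.2) f') := by ring
    _ = X.presheaf.germ N z.1 (j.le z.2) a' *
          (E.g z.1 * ↑(E.unitOf hf ⟨z.1, hW ((j ≫ i).le z.2)⟩)) := by rw [← e1, hgw]
    _ = (E.g z.1 * X.presheaf.germ N z.1 (j.le z.2) a') *
          ↑(E.unitOf hf ⟨z.1, hW ((j ≫ i).le z.2)⟩) := by ring
    _ = _ := by rw [← hz]; ring

theorem smul_apply (W : X.Opens) (r : Γ(X, W)) (t : Γ(E.invMod, W)) (y : W) :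
    (r • t : Γ(E.invMod, W)).1 y = X.presheaf.germ W y.1 y.2 r * t.1 y := rfl

/-- multiplying the frame is a bijection `Γ(X, W) → Γ(O_X(D), W)`. -/
theorem frame_bijective (W : X.Opens) (hW : W ≤ V) :
    Function.Bijective (fun r : Γ(X, W) => (r • E.frame hf W hW : Γ(E.invMod, W))) := by
  constructor
  · intro r r' hrr'
    apply TopCat.Presheaf.section_ext X.sheaf
    intro y hy
    have h2 := congrArg (fun t : Γ(E.invMod, W) => t.1 ⟨y, hy⟩) hrr'
    change X.presheaf.germ W y hy r * (((E.unitOf hf ⟨y, hW hy⟩)⁻¹ : (X.presheaf.stalk y)ˣ) :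
        X.presheaf.stalk y) = X.presheaf.germ W y hy r' *
        (((E.unitOf hf ⟨y, hW hy⟩)⁻¹ : (X.presheaf.stalk y)ˣ) : X.presheaf.stalk y) at h2
    exact (Units.mul_left_inj _).1 h2
  · intro t
    obtain ⟨r, hr⟩ := E.exists_smul_frame hf W hW t
    refine ⟨r, ?_⟩
    apply Subtype.ext
    funext y
    change X.presheaf.germ W y.1 y.2 r * (((E.unitOf hf ⟨y.1, hW y.2⟩)⁻¹ : (X.presheaf.stalk y.1)ˣ) :
        X.presheaf.stalk y.1) = t.1 y
    rw [hr, mul_assoc, Units.mul_inv, mul_one]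

/-- the canonical section is `f` times the frame. -/
theorem oneSec_eq (W : X.Opens) (hW : W ≤ V) :
    E.oneSec W = (X.presheaf.map (homOfLE hW).op f • E.frame hf W hW : Γ(E.invMod, W)) := by
  apply Subtype.ext
  funext y
  change E.g y.1 = X.presheaf.germ W y.1 y.2 (X.presheaf.map (homOfLE hW).op f) *
    (((E.unitOf hf ⟨y.1, hW y.2⟩)⁻¹ : (X.presheaf.stalk y.1)ˣ) : X.presheaf.stalk y.1)
  rw [TopCat.Presheaf.germ_res_apply, ← E.g_mul_unitOf hf ⟨y.1, hW y.2⟩, mul_assoc, Units.mul_inv,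
    mul_one]

end Frame

/-- `O_X(D)` is invertible. -/
theorem isInvertible_invMod : PicF.IsInvertible E.invMod := by
  intro x
  obtain ⟨U, hxU, f, hf⟩ := E.coh x
  have hf : E.IsEq U f := hf
  refine ⟨U, hxU, ⟨?_⟩⟩
  let L := (E.invMod).restrict U.ι
  let s : L.sections := PresheafOfModules.sectionsMk
    (fun V => (E.frame hf (U.ι ''ᵁ V.unop) (Scheme.Opens.ι_image_le U _) :
      Γ(E.invMod, U.ι ''ᵁ V.unop)))
    (fun V V' i => rfl)
  let φ : Coh.structureModule ↑U ⟶ L := L.unitHomEquiv.symm s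
  have happ : ∀ (V : (↑U : Scheme.{u}).Opens) (r : Γ(↑U, V)),
      φ.app V r = (((U.ι.appIso V).inv r) • (E.frame hf (U.ι ''ᵁ V) (Scheme.Opens.ι_image_le U _)) :
        Γ(E.invMod, U.ι ''ᵁ V)) := by
    intro V r
    rfl
  haveI : IsIso φ := by
    rw [Scheme.Modules.Hom.isIso_iff_isIso_app]
    intro V
    rw [ConcreteCategory.isIso_iff_bijective]
    have hW : U.ι ''ᵁ V ≤ U := Scheme.Opens.ι_image_le U _
    have hb := E.frame_bijective hf (U.ι ''ᵁ V) hW
    have hinv : Function.Bijective (fun r : Γ(↑U, V) => ((U.ι.appIso V).inv r : Γ(X, U.ι ''ᵁ V))) := by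
      refine ⟨fun a b hab => ?_, fun c => ⟨(U.ι.appIso V).hom c, Iso.hom_inv_id_apply _ _⟩⟩
      have h2 := congrArg (U.ι.appIso V).hom hab
      have e : ∀ a : Γ(↑U, V), (U.ι.appIso V).hom ((U.ι.appIso V).inv a) = a :=
        fun a => Iso.inv_hom_id_apply _ _
      exact (e a).symm.trans (h2.trans (e b))
    have hcomp := hb.comp hinv
    have hfun : ⇑(ConcreteCategory.hom (φ.app V)) = (fun r : Γ(X, U.ι ''ᵁ V) =>
        (r • E.frame hf (U.ι ''ᵁ V) hW : Γ(E.invMod, U.ι ''ᵁ V))) ∘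
        (fun r : Γ(↑U, V) => ((U.ι.appIso V).inv r : Γ(X, U.ι ''ᵁ V))) := by
      funext r
      exact happ V r
    rw [hfun]
    exact hcomp
  exact (asIso φ).symm


end LocEq

end Groth.Agent.R2.H8.InvMod
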