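import Mathlib
import Groth.Agent.R2.H8InvMod
import Groth.Agent.Lib.Helper23GenLocus
import Groth.Agent.Lib.Helper23AmpleIso

/-!
# The generating locus of the canonical section of `O_X(D)` (helper8)

* `mem_genLocus_oneHom_iff` : `x ∈ X_{1_D} ↔ g_x` is a unit.
-/

set_option autoImplicit false
set_option linter.style.haveILetI false
universe u

open CategoryTheory AlgebraicGeometry TopologicalSpace Opposite

namespace Groth.Agent.R2.H8.InvMod

open Groth.Agent.Lib.Helper23.Extend Groth.Agent.Lib.Helper23.GenLocus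

variable {X : Scheme.{u}}

namespace LocEq

variable (E : LocEq X)

/-- on an open where `f` is a local equation, `1_D` generates over `W` iff `f|W` is a unit. -/
theorem bijective_oneHom_app_iff {V : X.Opens} {f : Γ(X, V)} (hf : E.IsEq V f) (W : X.Opens)
    (hW : W ≤ V) :
    Function.Bijective ((E.oneHom).app W) ↔ IsUnit (X.presheaf.map (homOfLE hW).op f) := by
  have hb := E.frame_bijective hf W hW
  have key : ∀ r : Γ(X, W), (E.oneHom).app W r =
      ((r * X.presheaf.map (homOfLE hW).op f) • E.frame hf W hW : Γ(E.invMod, W)) := by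
    intro r
    rw [oneHom_app, E.oneSec_eq hf W hW, smul_smul]
  constructor
  · intro h
    obtain ⟨r0, hr⟩ := h.2 (E.frame hf W hW)
    let r : Γ(X, W) := r0
    have hr' : ((r * X.presheaf.map (homOfLE hW).op f) • E.frame hf W hW : Γ(E.invMod, W)) =
        E.frame hf W hW := (key r).symm.trans hr
    have h1 : (r : Γ(X, W)) * X.presheaf.map (homOfLE hW).op f = 1 := by
      apply hb.1
      change ((r : Γ(X, W)) * X.presheaf.map (homOfLE hW).op f) • E.frame hf W hW =
        (1 : Γ(X, W)) • E.frame hf W hW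
      rw [hr', one_smul]
    exact IsUnit.of_mul_eq_one _ (by rw [mul_comm]; exact h1)
  · intro h
    obtain ⟨u, hu⟩ := h
    constructor
    · intro r0 r0' hrr'
      let r : Γ(X, W) := r0
      let r' : Γ(X, W) := r0'
      change r = r'
      have h1 : ((r * X.presheaf.map (homOfLE hW).op f) • E.frame hf W hW : Γ(E.invMod, W)) =
          ((r' * X.presheaf.map (homOfLE hW).op f) • E.frame hf W hW : Γ(E.invMod, W)) :=
        (key r).symm.trans (hrr'.trans (key r'))
      have h2 : (r : Γ(X, W)) * X.presheaf.map (homOfLE hW).op f =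
          (r' : Γ(X, W)) * X.presheaf.map (homOfLE hW).op f := hb.1 h1
      rw [← hu] at h2
      exact (Units.mul_left_inj u).1 h2
    · intro t
      obtain ⟨r₀, hr₀⟩ := hb.2 t
      refine ⟨(r₀ * ((u⁻¹ : (Γ(X, W))ˣ) : Γ(X, W)) : Γ(X, W)), ?_⟩
      refine (key _).trans ?_
      rw [← hu, mul_assoc, Units.inv_mul, mul_one]
      exact hr₀

theorem mem_genLocus_oneHom_iff (x : X) :
    x ∈ CohB1.genLocus E.invMod E.oneHom ↔ IsUnit (E.g x) := by
  rw [mem_genLocus_iff]
  obtain ⟨V, hxV, f, hf⟩ := E.coh x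
  have hf : E.IsEq V f := hf
  have hgx : IsUnit (E.g x) ↔ IsUnit (X.presheaf.germ V x hxV f) := by
    obtain ⟨-, hassoc⟩ := hf ⟨x, hxV⟩
    exact hassoc.isUnit_iff
  constructor
  · rintro ⟨V₀, hxV₀, hiso⟩
    have h1 : IsIso ((E.oneHom).app (V₀ ⊓ V)) := hiso _ inf_le_left
    rw [ConcreteCategory.isIso_iff_bijective, E.bijective_oneHom_app_iff hf _ inf_le_right] at h1
    rw [hgx]
    have hxW : x ∈ V₀ ⊓ V := ⟨hxV₀, hxV⟩
    have h2 : IsUnit (X.presheaf.germ (V₀ ⊓ V) x hxW
        (X.presheaf.map (homOfLE (inf_le_right : V₀ ⊓ V ≤ V)).op f)) :=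
      h1.map (X.presheaf.germ (V₀ ⊓ V) x hxW).hom
    rwa [TopCat.Presheaf.germ_res_apply] at h2
  · intro hu
    rw [hgx] at hu
    refine ⟨X.basicOpen f, (X.mem_basicOpen f x hxV).2 hu, fun W' hW' => ?_⟩
    rw [ConcreteCategory.isIso_iff_bijective,
      E.bijective_oneHom_app_iff hf W' (hW'.trans (X.basicOpen_le f))]
    have h2 : IsUnit (X.presheaf.map (homOfLE hW').op
        (X.presheaf.map (homOfLE (X.basicOpen_le f)).op f)) :=
      (X.toRingedSpace.isUnit_res_basicOpen f).map _
    rw [← ConcreteCategory.comp_apply, ← Functor.map_comp] at h2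
    exact h2

end LocEq

end Groth.Agent.R2.H8.InvMod
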