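import Mathlib
import Groth.Prelude.Def_BlowUp2
import Groth.Agent.R2.H8InvMod2
import Groth.Agent.R2.H8CartExt2
import Groth.Agent.Lib.Helper23TensorUnit

/-!
# `O_X(D)` of an effective Cartier ideal sheaf (helper8)

* `ofCartier 𝓘 h : LocEq X` : the local equations of an effective Cartier ideal sheaf.
* `exists_invertible_genLocus_eq` : for an effective Cartier ideal sheaf `𝓘` there are an invertible
  module `L` and a global section `s` with `X_s = X ∖ Supp 𝓘`.
* `exists_tensorPow_one_genLocus_eq` : the same with `s` a section of `L^{⊗ 1}`.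
-/

set_option autoImplicit false
set_option linter.style.haveILetI false
universe u

open CategoryTheory AlgebraicGeometry TopologicalSpace Opposite

namespace Groth.Agent.R2.H8.InvMod

open Groth.Agent.R2.H8.CartExt Groth.Agent.R2.H8.Cartier

variable {X : Scheme.{u}}

/-- two nonzerodivisors generating the same ideal are associated (no domain hypothesis). -/
theorem associated_of_span_eq {R : Type*} [CommRing R] {a b : R} (ha : a ∈ nonZeroDivisors R)
    (h : Ideal.span {a} = Ideal.span {b}) : Associated a b := by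
  have h1 : a ∈ Ideal.span {b} := h ▸ Ideal.subset_span rfl
  have h2 : b ∈ Ideal.span {a} := h.symm ▸ Ideal.subset_span rfl
  obtain ⟨c, hc⟩ := Ideal.mem_span_singleton'.1 h1
  obtain ⟨d, hd⟩ := Ideal.mem_span_singleton'.1 h2
  -- `c * b = a`, `d * a = b`
  have h3 : a * (c * d) = a * 1 := by
    rw [mul_one]
    calc a * (c * d) = c * (d * a) := by ring
      _ = a := by rw [hd, hc]
  have h4 : c * d = 1 := (mul_cancel_left_mem_nonZeroDivisors ha).1 h3
  have hd' : IsUnit d := IsUnit.of_mul_eq_one _ (by rw [mul_comm]; exact h4)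
  obtain ⟨u, hu⟩ := hd'
  exact ⟨u, by rw [hu, mul_comm]; exact hd⟩

section Choice

variable (𝓘 : X.IdealSheafData) (h : BlowUp.IsEffCartierIdeal 𝓘)

/-- a chosen affine open neighbourhood on which `𝓘` is principal -/
noncomputable def cU (x : X) : X.affineOpens := Classical.choose (h x)

theorem mem_cU (x : X) : x ∈ (cU 𝓘 h x).1 := (Classical.choose_spec (h x)).1

/-- a chosen generator -/
noncomputable def cf (x : X) : Γ(X, (cU 𝓘 h x).1) :=
  Classical.choose (Classical.choose_spec (h x)).2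

theorem cf_mem (x : X) : cf 𝓘 h x ∈ nonZeroDivisors Γ(X, (cU 𝓘 h x).1) :=
  (Classical.choose_spec (Classical.choose_spec (h x)).2).1

theorem cf_span (x : X) : 𝓘.ideal (cU 𝓘 h x) = Ideal.span {cf 𝓘 h x} :=
  (Classical.choose_spec (Classical.choose_spec (h x)).2).2

/-- the local equation data of an effective Cartier ideal sheaf. -/
noncomputable def ofCartier : LocEq X where
  g x := X.presheaf.germ (cU 𝓘 h x).1 x (mem_cU 𝓘 h x) (cf 𝓘 h x)
  coh x := by
    refine ⟨(cU 𝓘 h x).1, mem_cU 𝓘 h x, cf 𝓘 h x, fun y => ?_⟩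
    have hn1 := germ_mem_nonZeroDivisors (cU 𝓘 h x) y.1 y.2 _ (cf_mem 𝓘 h x)
    have hn2 := germ_mem_nonZeroDivisors (cU 𝓘 h y.1) y.1 (mem_cU 𝓘 h y.1) _ (cf_mem 𝓘 h y.1)
    refine ⟨hn1, associated_of_span_eq hn2 ?_⟩
    have e1 := map_germ_eq_span 𝓘 (cU 𝓘 h y.1) (cU 𝓘 h y.1) y.1
      (mem_cU 𝓘 h y.1) (mem_cU 𝓘 h y.1) _ (cf_span 𝓘 h y.1)
    have e2 := map_germ_eq_span 𝓘 (cU 𝓘 h y.1) (cU 𝓘 h x) y.1
      (mem_cU 𝓘 h y.1) y.2 _ (cf_span 𝓘 h x)
    exact e1.symm.trans e2

theorem isUnit_ofCartier_g_iff (x : X) :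
    IsUnit ((ofCartier 𝓘 h).g x) ↔ x ∉ 𝓘.support := by
  have hxU := mem_cU 𝓘 h x
  constructor
  · intro hu hxs
    rw [Scheme.IdealSheafData.mem_support_iff_of_mem hxU, Scheme.mem_zeroLocus_iff] at hxs
    refine hxs (cf 𝓘 h x) ?_ ?_
    · rw [SetLike.mem_coe, cf_span 𝓘 h x]
      exact Ideal.subset_span rfl
    · rw [X.mem_basicOpen _ x hxU]
      exact hu
  · intro hxs
    have e1 := map_germ_eq_top_of_notMem_support 𝓘 x (cU 𝓘 h x) hxU hxs
    have e2 := map_germ_eq_span 𝓘 (cU 𝓘 h x) (cU 𝓘 h x) x hxU hxU _ (cf_span 𝓘 h x)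
    rw [e1, Ideal.span_singleton_one, eq_comm, Ideal.span_singleton_eq_top] at e2
    exact e2

end Choice

/-- for an effective Cartier ideal sheaf `𝓘` there are an invertible module `L = O_X(D)` and a
global section `s = 1_D` with `X_s = X ∖ Supp 𝓘`. -/
theorem exists_invertible_genLocus_eq (𝓘 : X.IdealSheafData) (h : BlowUp.IsEffCartierIdeal 𝓘) :
    ∃ (L : X.Modules) (s : Coh.structureModule X ⟶ L), PicF.IsInvertible L ∧
      (CohB1.genLocus L s : Set X) = (𝓘.support : Set X)ᶜ := by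
  refine ⟨(ofCartier 𝓘 h).invMod, (ofCartier 𝓘 h).oneHom, (ofCartier 𝓘 h).isInvertible_invMod, ?_⟩
  ext x
  rw [SetLike.mem_coe, LocEq.mem_genLocus_oneHom_iff, isUnit_ofCartier_g_iff]
  rfl

/-- the same, with the section a section of the first tensor power. -/
theorem exists_tensorPow_one_genLocus_eq (𝓘 : X.IdealSheafData) (h : BlowUp.IsEffCartierIdeal 𝓘) :
    ∃ (L : X.Modules) (s : Coh.structureModule X ⟶ CohB1.tensorPow L 1), PicF.IsInvertible L ∧
      (CohB1.genLocus (CohB1.tensorPow L 1) s : Set X) = (𝓘.support : Set X)ᶜ := by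
  obtain ⟨L, s, hL, hs⟩ := exists_invertible_genLocus_eq 𝓘 h
  let e : L ≅ CohB1.tensorPow L 1 := (Groth.Agent.Lib.Helper23.TensorUnit.unitTensorIso L).symm
  refine ⟨L, s ≫ e.hom, hL, ?_⟩
  rw [Groth.Agent.Lib.Helper23.AmpleIso.genLocus_comp_iso e s]
  exact hs

end Groth.Agent.R2.H8.InvMod
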