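import Mathlib
import Groth.Prelude.Def_MoreMor
import Groth.Agent.R2.H8InvMod3
import Groth.Agent.S1687

/-!
# Ample families on locally factorial schemes (helper8)

* `exists_dense_isAffineOpen_mem` : every point of a Noetherian scheme lies in a dense affine open.
* `hasAmpleFamily_of_factorial` : a Noetherian scheme with affine diagonal and factorial local rings
  has an ample family of invertible modules (the complement of a dense affine open is the support of
  an effective Cartier divisor `D`, and the affine open is `X_{1_D}`).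
-/

set_option autoImplicit false
set_option linter.style.haveILetI false
universe u

open CategoryTheory AlgebraicGeometry TopologicalSpace Opposite

namespace Groth.Agent.R2.H8.AmpleFam

/-- every point of a Noetherian scheme lies in a dense affine open. -/
theorem exists_dense_isAffineOpen_mem (X : Scheme.{u}) [NoetherianSpace X] (x : X) :
    ∃ U : X.Opens, IsAffineOpen U ∧ x ∈ U ∧ Dense (U : Set X) := by
  have hwf : WellFoundedGT X.Opens := (inferInstance : NoetherianSpace X)
  obtain ⟨U₀, hU₀, hxU₀, -⟩ := exists_isAffineOpen_mem_and_subset (U := (⊤ : X.Opens)) (x := x) trivial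
  obtain ⟨U, ⟨hU, hxU⟩, hmax⟩ := hwf.wf.has_min {U : X.Opens | IsAffineOpen U ∧ x ∈ U}
    ⟨U₀, hU₀, hxU₀⟩
  refine ⟨U, hU, hxU, ?_⟩
  rw [dense_iff_inter_open]
  intro O hO hne
  by_contra hcon
  rw [Set.not_nonempty_iff_eq_empty] at hcon
  obtain ⟨y, hy⟩ := hne
  obtain ⟨W, hW, hyW, hWO⟩ := exists_isAffineOpen_mem_and_subset (U := ⟨O, hO⟩) (x := y) hy
  have hdisj : Disjoint U W := by
    rw [← Opens.coe_disjoint, Set.disjoint_iff_inter_eq_empty]
    apply Set.eq_empty_of_subset_empty
    rintro z ⟨hzU, hzW⟩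
    rw [← hcon]
    exact ⟨hWO hzW, hzU⟩
  have haff : IsAffineOpen (U ⊔ W) := hU.sup_of_disjoint hW hdisj
  have hlt : U < U ⊔ W := by
    refine lt_of_le_of_ne le_sup_left fun h => ?_
    have hyU : y ∈ U := by rw [h]; exact Or.inr hyW
    have : y ∈ (O ∩ (U : Set X)) := ⟨hy, hyU⟩
    rw [hcon] at this
    exact this
  exact hmax (U ⊔ W) ⟨haff, Or.inl hxU⟩ hlt

/-- a Noetherian scheme with affine diagonal and factorial local rings has an ample family. -/
theorem hasAmpleFamily_of_factorial (X : Scheme.{u}) [IsNoetherian X]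
    (hΔ : ∀ V W : X.Opens, IsAffineOpen V → IsAffineOpen W → IsAffineOpen (V ⊓ W))
    (hufd : ∀ x : X, IsDomain (X.presheaf.stalk x) ∧ UniqueFactorizationMonoid (X.presheaf.stalk x)) :
    MoreMor.HasAmpleFamily X := by
  refine ⟨inferInstance, fun x => ?_⟩
  obtain ⟨U, hU, hxU, hdense⟩ := exists_dense_isAffineOpen_mem X x
  obtain ⟨𝓘, hcart, hsupp⟩ := Groth.Agent.S1687.result X hΔ U hU hdense (fun y _ => hufd y)
  obtain ⟨L, s, hL, hs⟩ := Groth.Agent.R2.H8.InvMod.exists_tensorPow_one_genLocus_eq 𝓘 hcart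
  have hgen : CohB1.genLocus (CohB1.tensorPow L 1) s = U := by
    apply SetLike.coe_injective
    rw [hs, hsupp, compl_compl]
  refine ⟨L, 1, s, hL, le_rfl, ?_, ?_⟩
  · rw [hgen]; exact hxU
  · rw [hgen]; exact hU

end Groth.Agent.R2.H8.AmpleFam
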