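import Mathlib
import Groth.Prelude.Def_CurvBase
import Groth.Agent.Lib.Helper23AssAffine
import Groth.Agent.Lib.Helper20ZClos4
import Groth.Agent.Lib.Helper23ModLocal
import Groth.Agent.Lib.Helper2QCoh
import Groth.Agent.R2.H8GlueGeom

/-!
# Associated points detect nonzero sections (helper8)

`X` locally Noetherian, `F` quasi-coherent: a nonzero section of `F` over any open has a nonzero germ at
some associated point of `F`.
-/

set_option autoImplicit false
set_option linter.style.haveILetI false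
universe u

open CategoryTheory AlgebraicGeometry TopologicalSpace Opposite

namespace Groth.Agent.R2.H8.AssPt

open Groth.Agent.R2.H8.GlueGeom Groth.Agent.Lib.Helper2.QCoh Groth.Agent.Lib.Helper23.AssAffine
  Groth.Agent.Lib.Helper20.ZClosLib

variable {X : Scheme.{u}}

theorem primeIdealOf_fromSpec {A : X.Opens} (hA : IsAffineOpen A) (q : PrimeSpectrum Γ(X, A))
    (hz : hA.fromSpec q ∈ A) : hA.primeIdealOf ⟨hA.fromSpec q, hz⟩ = q :=
  hA.fromSpec.isOpenEmbedding.injective (hA.fromSpec_primeIdealOf ⟨hA.fromSpec q, hz⟩)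

/-- affine version. -/
theorem exists_assPoint_germ_ne_zero_affine [IsLocallyNoetherian X] (F : X.Modules)
    [F.IsQuasicoherent] {A : X.Opens} (hA : IsAffineOpen A) (s : Γ(F, A)) (hs : s ≠ 0) :
    ∃ (z : X) (hz : z ∈ A), Curv2.IsAssPoint F z ∧ F.presheaf.germ A z hz s ≠ 0 := by
  have : IsNoetherianRing Γ(X, A) := IsLocallyNoetherian.component_noetherian ⟨A, hA⟩
  obtain ⟨P, hP, hle⟩ := exists_le_isAssociatedPrime_of_isNoetherianRing Γ(X, A) s hs
  have hPprime : P.IsPrime := hP.isPrime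
  let q : PrimeSpectrum Γ(X, A) := ⟨P, hPprime⟩
  have hzA : hA.fromSpec q ∈ A := GlueGeom.fromSpec_mem hA q
  refine ⟨hA.fromSpec q, hzA, ?_, ?_⟩
  · rw [isAssPoint_iff_mem_associatedPrimes hA F _ hzA, primeIdealOf_fromSpec hA q hzA]
    exact hP
  · intro h0
    obtain ⟨t, hzt, hts⟩ := exists_smul_eq_zero_of_germ_eq_zero hA F _ hzA s h0
    rw [fromSpec_mem_basicOpen_iff hA t q] at hzt
    apply hzt
    apply hle
    rw [Submodule.mem_colon_singleton, Submodule.mem_bot]
    exact hts

/-- a nonzero section of a quasi-coherent module has a nonzero germ at some associated point. -/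
theorem exists_assPoint_germ_ne_zero [IsLocallyNoetherian X] (F : X.Modules)
    [F.IsQuasicoherent] {V : X.Opens} (s : Γ(F, V)) (hs : s ≠ 0) :
    ∃ (z : X) (hz : z ∈ V), Curv2.IsAssPoint F z ∧ F.presheaf.germ V z hz s ≠ 0 := by
  have hex : ∃ (y : X) (hy : y ∈ V), F.presheaf.germ V y hy s ≠ 0 := by
    by_contra hcon
    apply hs
    apply eq_zero_of_germ_eq_zero F s
    intro y hy
    by_contra hg
    exact hcon ⟨y, hy, hg⟩
  obtain ⟨y, hy, hgy⟩ := hex
  obtain ⟨_, ⟨A, hA, rfl⟩, hyA, hAV⟩ :=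
    X.isBasis_affineOpens.exists_subset_of_mem_open hy V.isOpen
  have hA : IsAffineOpen A := hA
  have hAV : A ≤ V := hAV
  have hs' : F.presheaf.map (homOfLE hAV).op s ≠ 0 := by
    intro h0
    apply hgy
    rw [← TopCat.Presheaf.germ_res_apply F.presheaf (homOfLE hAV) y hyA s, h0, map_zero]
  obtain ⟨z, hzA, hz, hgz⟩ := exists_assPoint_germ_ne_zero_affine F hA _ hs'
  refine ⟨z, hAV hzA, hz, ?_⟩
  rwa [TopCat.Presheaf.germ_res_apply] at hgz

end Groth.Agent.R2.H8.AssPt
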