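import Mathlib
import Groth.Prelude.Def_BlowUp2
import Groth.Agent.R2.H8Cartier3
import Groth.Agent.R2.H8Cartier4
import Groth.Agent.Lib.Helper4Chart2

/-!
# Effective Cartier ideals: closed subscheme without embedded points whose maximal points have
codimension one in a locally factorial Noetherian scheme (helper8)
-/

set_option autoImplicit false
set_option linter.style.haveILetI false
universe u

open AlgebraicGeometry CategoryTheory TopologicalSpace

namespace Groth.Agent.R2.H8.Cartier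

open Groth.Agent.Lib.Helper4.Chart

variable {X : Scheme.{u}} (𝓘 : X.IdealSheafData)

lemma asIdeal_primeIdealOf_subschemeι (U : X.affineOpens)
    (y : Spec (CommRingCat.of (Γ(X, U.1) ⧸ 𝓘.ideal U))) :
    (U.2.primeIdealOf ⟨𝓘.subschemeι (chart 𝓘 U y), subschemeι_mem 𝓘 U y⟩).asIdeal =
      y.asIdeal.comap (Ideal.Quotient.mk (𝓘.ideal U)) := by
  rw [primeIdealOf_subschemeι]
  rfl

/-- the dimension of the local ring of `X` at a point of the subscheme, as a height -/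
lemma height_comap_eq (U : X.affineOpens)
    (y : Spec (CommRingCat.of (Γ(X, U.1) ⧸ 𝓘.ideal U))) :
    (((y.asIdeal.comap (Ideal.Quotient.mk (𝓘.ideal U))).height : ℕ∞) : WithBot ℕ∞) =
      ringKrullDim (X.presheaf.stalk (𝓘.subschemeι (chart 𝓘 U y))) := by
  have hU : IsAffineOpen U.1 := U.2
  letI := TopCat.Presheaf.algebra_section_stalk X.presheaf
    ⟨𝓘.subschemeι (chart 𝓘 U y), subschemeι_mem 𝓘 U y⟩
  haveI := hU.isLocalization_stalk ⟨𝓘.subschemeι (chart 𝓘 U y), subschemeι_mem 𝓘 U y⟩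
  have h1 := IsLocalization.AtPrime.ringKrullDim_eq_height
    (hU.primeIdealOf ⟨𝓘.subschemeι (chart 𝓘 U y), subschemeι_mem 𝓘 U y⟩).asIdeal
    (X.presheaf.stalk (𝓘.subschemeι (chart 𝓘 U y)))
  rw [asIdeal_primeIdealOf_subschemeι] at h1
  exact h1.symm

section NoEmbedded
variable [IsLocallyNoetherian X]

theorem stalk_principal_of_noEmbedded
    (h1 : ∀ z : ↥𝓘.subscheme,
      IsAssociatedPrime (IsLocalRing.maximalIdeal ↑(𝓘.subscheme.presheaf.stalk z))
        ↑(𝓘.subscheme.presheaf.stalk z) → ∀ z' : ↥𝓘.subscheme, z' ⤳ z → z' = z)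
    (h2 : ∀ z : ↥𝓘.subscheme, (∀ z' : ↥𝓘.subscheme, z' ⤳ z → z' = z) →
      ringKrullDim (X.presheaf.stalk (𝓘.subschemeι z)) = 1)
    (U : X.affineOpens) (y : Spec (CommRingCat.of (Γ(X, U.1) ⧸ 𝓘.ideal U)))
    (hufd : IsDomain (X.presheaf.stalk (𝓘.subschemeι (chart 𝓘 U y))) ∧
      UniqueFactorizationMonoid (X.presheaf.stalk (𝓘.subschemeι (chart 𝓘 U y)))) :
    ∃ g : X.presheaf.stalk (𝓘.subschemeι (chart 𝓘 U y)),
      g ∈ nonZeroDivisors (X.presheaf.stalk (𝓘.subschemeι (chart 𝓘 U y))) ∧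
      (𝓘.ideal U).map (X.presheaf.germ U.1 _ (subschemeι_mem 𝓘 U y)).hom = Ideal.span {g} := by
  have hU : IsAffineOpen U.1 := U.2
  haveI : IsNoetherianRing Γ(X, U.1) := IsLocallyNoetherian.component_noetherian U
  letI := TopCat.Presheaf.algebra_section_stalk X.presheaf
    ⟨𝓘.subschemeι (chart 𝓘 U y), subschemeι_mem 𝓘 U y⟩
  haveI := hU.isLocalization_stalk ⟨𝓘.subschemeι (chart 𝓘 U y), subschemeι_mem 𝓘 U y⟩
  haveI := hufd.1
  haveI := hufd.2
  obtain ⟨g, hg0, hg⟩ := map_eq_span_of_assPrimes (𝓘.ideal U)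
    (hU.primeIdealOf ⟨𝓘.subschemeι (chart 𝓘 U y), subschemeι_mem 𝓘 U y⟩).asIdeal
    (X.presheaf.stalk (𝓘.subschemeι (chart 𝓘 U y))) (by
      intro q hq hass
      let y' : Spec (CommRingCat.of (Γ(X, U.1) ⧸ 𝓘.ideal U)) := ⟨q, hq⟩
      obtain ⟨e1⟩ := nonempty_stalkEquiv (chart 𝓘 U) y'
      have e1' : 𝓘.subscheme.presheaf.stalk (chart 𝓘 U y') ≃+* Localization.AtPrime q := e1
      haveI hN1 : IsNoetherianRing (Localization.AtPrime q) :=
        IsLocalization.isNoetherianRing q.primeCompl _ inferInstance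
      haveI : IsNoetherianRing (𝓘.subscheme.presheaf.stalk (chart 𝓘 U y')) :=
        isNoetherianRing_of_ringEquiv _ e1'.symm
      have hz1 : IsAssociatedPrime
          (IsLocalRing.maximalIdeal ↑(𝓘.subscheme.presheaf.stalk (chart 𝓘 U y')))
          ↑(𝓘.subscheme.presheaf.stalk (chart 𝓘 U y')) :=
        maximalIdeal_mem_associatedPrimes_of_ringEquiv e1'.symm hass
      have hdim := h2 _ (h1 _ hz1)
      have hh := height_comap_eq 𝓘 U y'
      rw [hdim] at hh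
      exact_mod_cast hh)
  exact ⟨g, mem_nonZeroDivisors_of_ne_zero hg0, hg⟩

theorem isEffCartier_of_noEmbedded
    (h1 : ∀ z : ↥𝓘.subscheme,
      IsAssociatedPrime (IsLocalRing.maximalIdeal ↑(𝓘.subscheme.presheaf.stalk z))
        ↑(𝓘.subscheme.presheaf.stalk z) → ∀ z' : ↥𝓘.subscheme, z' ⤳ z → z' = z)
    (h2 : ∀ z : ↥𝓘.subscheme, (∀ z' : ↥𝓘.subscheme, z' ⤳ z → z' = z) →
      ringKrullDim (X.presheaf.stalk (𝓘.subschemeι z)) = 1)
    (h3 : ∀ x : ↥X, x ∈ 𝓘.support →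
      IsDomain (X.presheaf.stalk x) ∧ UniqueFactorizationMonoid (X.presheaf.stalk x)) :
    BlowUp.IsEffCartierIdeal 𝓘 := by
  apply isEffCartier_of_stalk
  intro x
  obtain ⟨U, hU, hxU, -⟩ := (Opens.isBasis_iff_nbhd.mp X.isBasis_affineOpens)
    (show x ∈ (⊤ : X.Opens) from trivial)
  by_cases hx : x ∈ 𝓘.support
  · obtain ⟨y, rfl⟩ := exists_chart_of_mem_support 𝓘 ⟨U, hU⟩ x hxU hx
    obtain ⟨g, hg, hI⟩ := stalk_principal_of_noEmbedded 𝓘 h1 h2 ⟨U, hU⟩ y (h3 _ hx)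
    exact ⟨⟨U, hU⟩, subschemeι_mem 𝓘 ⟨U, hU⟩ y, g, hg, hI⟩
  · exact ⟨⟨U, hU⟩, hxU, 1, one_mem _, map_germ_eq_top_of_notMem_support 𝓘 x ⟨U, hU⟩ hxU hx⟩

end NoEmbedded

end Groth.Agent.R2.H8.Cartier
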