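import Mathlib
import Groth.Agent.Lib.Helper5GlueSemilocal2
import Groth.Agent.R2.H29DimOneB

/-!
# Integral closure of a semilocal one-dimensional Noetherian domain (helper8)

Transport of helper5's results (stated for subrings of a field) to an abstract domain `B` with its
fraction field: the integral closure is a semilocal Dedekind domain, and powers of elements of its
Jacobson radical push any element of the integral closure into `B`.
-/

set_option autoImplicit false
set_option linter.style.haveILetI false
set_option linter.unusedSectionVars false
universe u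

namespace Groth.Agent.R2.H8.Conductor

open Groth.Agent.Lib.Helper5.GlueDimOne Groth.Agent.R2.H29.DimOne

theorem finite_maximalSpectrum_of_ringEquiv {R S : Type*} [CommRing R] [CommRing S] (e : R ≃+* S)
    [Finite (MaximalSpectrum R)] : Finite (MaximalSpectrum S) := by
  let g : MaximalSpectrum S → MaximalSpectrum R := fun m =>
    ⟨m.asIdeal.comap e, Ideal.comap_isMaximal_of_equiv e⟩
  apply Finite.of_injective g
  intro m m' h
  have h1 : m.asIdeal.comap e = m'.asIdeal.comap e :=
    congrArg MaximalSpectrum.asIdeal h
  apply MaximalSpectrum.ext
  have hs : Function.Surjective e := e.surjective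
  rw [← Ideal.map_comap_of_surjective e hs m.asIdeal, h1, Ideal.map_comap_of_surjective e hs]

variable (B : Type u) [CommRing B] [IsDomain B] (K : Type u) [Field K] [Algebra B K]
  [IsFractionRing B K]

theorem isIntegral_range_iff (x : K) : IsIntegral (algebraMap B K).range x ↔ IsIntegral B x := by
  constructor
  · rintro ⟨p, hp, hpx⟩
    refine ⟨p.map ((rangeEquiv B K).symm : (algebraMap B K).range →+* B), hp.map _, ?_⟩
    rw [Polynomial.eval₂_map]
    have : (algebraMap B K).comp ((rangeEquiv B K).symm : (algebraMap B K).range →+* B) =
        algebraMap (algebraMap B K).range K := by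
      ext y
      obtain ⟨b, rfl⟩ := (rangeEquiv B K).surjective y
      simp only [RingHom.comp_apply, RingHom.coe_coe, RingEquiv.symm_apply_apply]
      rfl
    rw [this]
    exact hpx
  · rintro ⟨p, hp, hpx⟩
    refine ⟨p.map ((rangeEquiv B K) : B →+* (algebraMap B K).range), hp.map _, ?_⟩
    rw [Polynomial.eval₂_map]
    have : (algebraMap (algebraMap B K).range K).comp
        ((rangeEquiv B K) : B →+* (algebraMap B K).range) = algebraMap B K := by
      ext y
      rfl
    rw [this]
    exact hpx

/-- the integral closures of `B` and of its image in `K` are the same ring. -/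
noncomputable def closureEquiv :
    integralClosure B K ≃+* integralClosure (algebraMap B K).range K where
  toFun x := ⟨x.1, (isIntegral_range_iff B K x.1).2 x.2⟩
  invFun y := ⟨y.1, (isIntegral_range_iff B K y.1).1 y.2⟩
  left_inv _ := rfl
  right_inv _ := rfl
  map_mul' _ _ := rfl
  map_add' _ _ := rfl

@[simp] theorem closureEquiv_coe (x : integralClosure B K) : ((closureEquiv B K x : _) : K) = x.1 :=
  rfl

variable [IsNoetherianRing B]

include K in
theorem range_instances :
    IsNoetherianRing (algebraMap B K).range ∧ IsFractionRing (algebraMap B K).range K ∧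
      ringKrullDim (algebraMap B K).range = ringKrullDim B :=
  ⟨isNoetherianRing_of_ringEquiv _ (rangeEquiv B K), isFractionRing_range B K,
    (ringKrullDim_eq_of_ringEquiv (rangeEquiv B K)).symm⟩

theorem main (hdim : ringKrullDim B = 1) (hsl : Finite (MaximalSpectrum B)) :
    IsDedekindDomain (integralClosure B K) ∧ Finite (MaximalSpectrum (integralClosure B K)) ∧
      ∀ x : integralClosure B K, x ∈ (⊥ : Ideal (integralClosure B K)).jacobson →
        ∀ y : integralClosure B K, ∃ n : ℕ, (x ^ n * y).1 ∈ (algebraMap B K).range := by
  obtain ⟨hN, hF, hd⟩ := range_instances B K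
  have hdim₀ : ringKrullDim (algebraMap B K).range = 1 := hd.trans hdim
  have hsl₀ : Finite (MaximalSpectrum (algebraMap B K).range) :=
    finite_maximalSpectrum_of_ringEquiv (rangeEquiv B K)
  have hDed₀ : IsDedekindDomain (integralClosure (algebraMap B K).range K) :=
    isDedekindDomain_integralClosure _ hdim₀.le
  have hfin₀ : Finite (IsDedekindDomain.HeightOneSpectrum
      (integralClosure (algebraMap B K).range K)) :=
    finite_heightOneSpectrum_integralClosure _ hdim₀
  have hnf₀ := not_isField_integralClosure (algebraMap B K).range (K := K) hdim₀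
  have hmax₀ : Finite (MaximalSpectrum (integralClosure (algebraMap B K).range K)) :=
    Finite.of_equiv _ (IsDedekindDomain.HeightOneSpectrum.equivMaximalSpectrum hnf₀)
  refine ⟨?_, finite_maximalSpectrum_of_ringEquiv (closureEquiv B K).symm, ?_⟩
  · -- Dedekind: directly
    have hNoeth : IsNoetherianRing (integralClosure B K) :=
      isNoetherianRing_of_ringEquiv _ (closureEquiv B K).symm
    have halg : Algebra.IsAlgebraic B K :=
      (IsFractionRing.comap_isAlgebraic_iff (A := B) (K := K) (C := K)).mpr inferInstance
    have hfrac : IsFractionRing (integralClosure B K) K :=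
      integralClosure.isFractionRing_of_algebraic (A := B) (L := K)
        (fun x h => (IsFractionRing.injective B K) (by rw [h, map_zero]))
    have := dimensionLEOne_of_ringKrullDim_le_one hdim.le
    rw [isDedekindDomain_iff (integralClosure B K) K]
    refine ⟨inferInstance, hNoeth, inferInstance, ?_⟩
    intro x hx
    have : IsIntegral B x := isIntegral_trans x hx
    exact ⟨⟨x, this⟩, rfl⟩
  · intro x hx y
    -- transport to the range
    have hσj : closureEquiv B K x ∈
        Ideal.jacobson (⊥ : Ideal (integralClosure (algebraMap B K).range K)) := by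
      rw [Ideal.mem_jacobson_bot] at hx ⊢
      intro z
      have h1 := (hx ((closureEquiv B K).symm z)).map (closureEquiv B K)
      simpa using h1
    obtain ⟨m, hm1, hm⟩ := exists_pow_mem_of_mem_jacobson_integralClosure
      (algebraMap B K).range hdim₀.le hσj
    have hall : ∀ J : Ideal (integralClosure (algebraMap B K).range K), J.IsMaximal →
        closureEquiv B K x ∈ J := by
      intro J hJ
      rw [Ideal.jacobson, Ideal.mem_sInf] at hσj
      exact hσj ⟨bot_le, hJ⟩
    have hwj := mem_jacobson_of_eq_pow (algebraMap B K).range hall hm1
      ⟨((closureEquiv B K x : _) : K) ^ m, hm⟩ rfl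
    obtain ⟨c, hc0, hcpow⟩ := exists_conductor_pow (algebraMap B K).range
      ((isIntegral_range_iff B K y.1).2 y.2)
    obtain ⟨n, hn⟩ := exists_pow_mem_span hdim₀.le hwj hc0
    rw [Ideal.mem_span_singleton'] at hn
    obtain ⟨b, hb⟩ := hn
    refine ⟨m * n, ?_⟩
    have h1 : ((x ^ (m * n) * y : integralClosure B K) : K) = (b : K) * ((c : K) * y.1 ^ 1) := by
      have h2 := congrArg (fun z : (algebraMap B K).range => (z : K)) hb
      simp only [Subring.coe_mul, Subring.coe_pow] at h2
      rw [pow_one, ← mul_assoc, h2]
      simp [pow_mul]
    rw [h1]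
    exact Subring.mul_mem _ b.2 (hcpow 1)

end Groth.Agent.R2.H8.Conductor
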