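import Mathlib
import Groth.Agent.R2.H8CartInt

/-!
# Effective Cartier divisor inside a closed subscheme, isomorphic off codimension two (helper8)

`exists_effCartier_le` : `X` Noetherian, `𝓩` an ideal sheaf, `𝓓 i` integral effective Cartier ideal
sheaves, `Z'` closed with all maximal points of codimension `≥ 2`, `Supp 𝓩 ⊆ Z' ∪ ⋃ Supp 𝓓 i`.  Then
there is `a : I →₀ ℕ` with `𝓩 ≤ ∏ 𝓓 i ^ a i`, equality on an open `U`, and all maximal points of
`Supp 𝓩 ∖ U` of codimension `≥ 2`.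
-/

set_option autoImplicit false
set_option linter.style.haveILetI false
set_option linter.unusedSectionVars false
universe u

open CategoryTheory AlgebraicGeometry TopologicalSpace IsLocalRing

namespace Groth.Agent.R2.H8.EffCartZ

open Groth.Agent.R2.H8.CartExt Groth.Agent.R2.H8.Cartier Groth.Agent.R2.H8.StalkIdeal
open Groth.Agent.R2.H8.PrimeDiv Groth.Agent.R2.H23.LocFact Groth.Agent.R2.H8.CartInt

variable {X : Scheme.{u}}

/-- in a zero-dimensional local ring of a scheme, generizations are trivial. -/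
theorem eq_of_specializes_of_krullDimLE_zero {y' y : X} (h : y' ⤳ y)
    [Ring.KrullDimLE 0 (X.presheaf.stalk y)] : y' = y := by
  apply eq_of_genPrime_eq_maximalIdeal' h
  exact IsLocalRing.eq_maximalIdeal (Ideal.isMaximal_of_isPrime (genPrime X h))

theorem ringKrullDim_le_one_of_not_two_le {R : Type*} [CommRing R]
    (h : ¬ (2 : WithBot ℕ∞) ≤ ringKrullDim R) : Ring.KrullDimLE 1 R := by
  rw [Ring.krullDimLE_iff]
  rw [not_le] at h
  generalize ringKrullDim R = d at h ⊢
  induction d using WithBot.recBotCoe with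
  | bot => exact bot_le
  | coe n =>
    have h' : n < 2 := by
      have h2 : ((n : ℕ∞) : WithBot ℕ∞) < ((2 : ℕ∞) : WithBot ℕ∞) := h
      exact WithBot.coe_lt_coe.1 h2
    have h1 : n ≤ 1 := by
      have : (2 : ℕ∞) = 1 + 1 := by norm_num
      rw [this] at h'
      exact Order.le_of_lt_add_one h'
    have : ((n : ℕ∞) : WithBot ℕ∞) ≤ ((1 : ℕ∞) : WithBot ℕ∞) := WithBot.coe_le_coe.2 h1
    exact this

section Main

variable [AlgebraicGeometry.IsNoetherian X] (𝓩 : X.IdealSheafData) {I : Type*} (𝓓 : I → X.IdealSheafData)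
  (hD : ∀ i, BlowUp.IsEffCartierIdeal (𝓓 i)) (hDint : ∀ i, IsIntegral (𝓓 i).subscheme)
  (Z' : Set X)
  (hcodim : ∀ z ∈ Z', (∀ y ∈ Z', y ⤳ z → y = z) →
    (2 : WithBot ℕ∞) ≤ ringKrullDim (X.presheaf.stalk z))
  (hcover : (𝓩.support : Set X) ⊆ Z' ∪ ⋃ i, ((𝓓 i).support : Set X))

omit [AlgebraicGeometry.IsNoetherian X] in
include hD hcodim hcover in
/-- points with zero-dimensional local ring are not in the support of `𝓩`. -/
theorem notMem_support_of_krullDimLE_zero (y : X) [Ring.KrullDimLE 0 (X.presheaf.stalk y)] :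
    y ∉ 𝓩.support := by
  intro hy
  rcases hcover hy with hyZ | hyD
  · have h1 := hcodim y hyZ (fun y' _ h => eq_of_specializes_of_krullDimLE_zero h)
    have h2 : ringKrullDim (X.presheaf.stalk y) ≤ ((0 : ℕ) : WithBot ℕ∞) :=
      Ring.krullDimLE_iff.1 inferInstance
    have h3 := h1.trans h2
    exact absurd h3 (by decide)
  · obtain ⟨i, hi⟩ := Set.mem_iUnion.1 hyD
    obtain ⟨f, hf, hspan⟩ := exists_st_eq_span (𝓓 i) (hD i) y
    have hu := isUnit_of_mem_nonZeroDivisors_of_krullDimLE_zero hf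
    have : st (𝓓 i) y = ⊤ := by rw [hspan]; exact Ideal.span_singleton_eq_top.2 hu
    exact (mem_support_iff (𝓓 i) y).1 hi this

omit [AlgebraicGeometry.IsNoetherian X] in
include hD hcodim hcover in
/-- `𝓩` is nowhere zero. -/
theorem st_ne_bot (x : X) : st 𝓩 x ≠ ⊥ := by
  intro hbot
  obtain ⟨q, hq, -⟩ := Ideal.exists_minimalPrimes_le (bot_le : (⊥ : Ideal (X.presheaf.stalk x)) ≤
    maximalIdeal (X.presheaf.stalk x))
  haveI hqp : q.IsPrime := hq.1.1
  have hqmin : q ∈ minimalPrimes (X.presheaf.stalk x) := hq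
  obtain ⟨ζ, hζ, hqζ⟩ := exists_specializes_genPrime_eq X x q
  haveI : Ring.KrullDimLE 0 (X.presheaf.stalk ζ) := by
    rw [Ring.krullDimLE_iff, ringKrullDim_stalk_eq_height X hζ]
    have : (genPrime X hζ).height = 0 := by
      rw [Ideal.height_eq_zero_iff, hqζ]; exact hqmin
    rw [this]; rfl
  have h1 := notMem_support_of_krullDimLE_zero 𝓩 𝓓 hD Z' hcodim hcover ζ
  rw [mem_support_iff, not_not, st_specializes 𝓩 hζ, hbot, Ideal.map_bot] at h1
  exact bot_ne_top h1

/-- the generic point of `𝓓 i`. -/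
noncomputable def etaI (i : I) : X := @eta X (𝓓 i) (hDint i)

include hD hcodim hcover in
/-- at the generic point of `𝓓 i`, `𝓩` is a power of `𝓓 i`. -/
theorem exists_pow (i : I) :
    ∃ a : ℕ, st 𝓩 (etaI 𝓓 hDint i) = st (𝓓 i) (etaI 𝓓 hDint i) ^ a := by
  haveI := hDint i
  obtain ⟨f, -, hspan⟩ := exists_st_eq_span (𝓓 i) (hD i) (eta (𝓓 i))
  have hm : maximalIdeal (X.presheaf.stalk (eta (𝓓 i))) = Ideal.span {f} := by
    rw [← st_eta (𝓓 i)]; exact hspan
  obtain ⟨a, ha⟩ := exists_eq_pow_of_maximalIdeal_eq_span hm (st 𝓩 (eta (𝓓 i)))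
    (st_ne_bot 𝓩 𝓓 hD Z' hcodim hcover _)
  refine ⟨a, ?_⟩
  change st 𝓩 (eta (𝓓 i)) = st (𝓓 i) (eta (𝓓 i)) ^ a
  rw [ha, st_eta (𝓓 i)]

/-- the order of `𝓩` along `𝓓 i`. -/
noncomputable def ordAt (i : I) : ℕ :=
  Classical.choose (exists_pow 𝓩 𝓓 hD hDint Z' hcodim hcover i)

theorem ordAt_spec (i : I) : st 𝓩 (etaI 𝓓 hDint i) =
    st (𝓓 i) (etaI 𝓓 hDint i) ^ ordAt 𝓩 𝓓 hD hDint Z' hcodim hcover i :=
  Classical.choose_spec (exists_pow 𝓩 𝓓 hD hDint Z' hcodim hcover i)

include hD hcodim hcover in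
/-- only finitely many generic points of the `𝓓 i` lie in the support of `𝓩`. -/
theorem finite_eta_mem_support :
    {e : X | e ∈ 𝓩.support ∧ ∃ i, etaI 𝓓 hDint i = e}.Finite := by
  obtain ⟨S, hSfin, hScl, hSirr, hS⟩ :=
    NoetherianSpace.exists_finite_set_isClosed_irreducible (𝓩.support).isClosed
  have hsub : {e : X | e ∈ 𝓩.support ∧ ∃ i, etaI 𝓓 hDint i = e} ⊆
      ⋃ t ∈ S, {c : X | IsGenericPoint c t} := by
    rintro e ⟨he, i, rfl⟩
    have he' : etaI 𝓓 hDint i ∈ ((𝓩.support : Closeds X) : Set X) := he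
    rw [hS] at he'
    obtain ⟨t, ht, het⟩ := he'
    obtain ⟨c, hc⟩ := QuasiSober.sober (hSirr t ht) (hScl t ht)
    have hct : c ∈ t := hc.mem
    have hcs : c ∈ 𝓩.support := by
      change c ∈ ((𝓩.support : Closeds X) : Set X)
      rw [hS]; exact ⟨t, ht, hct⟩
    have hsp : c ⤳ etaI 𝓓 hDint i := hc.specializes het
    haveI := hDint i
    have hdim : Ring.KrullDimLE 1 (X.presheaf.stalk (eta (𝓓 i))) := krullDimLE_one_eta (𝓓 i) (hD i)
    rcases eq_or_krullDimLE_zero_of_specializes hsp hdim with heq | h0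
    · refine Set.mem_biUnion ht ?_
      change IsGenericPoint (etaI 𝓓 hDint i) t
      rw [← heq]; exact hc
    · exact absurd hcs (notMem_support_of_krullDimLE_zero 𝓩 𝓓 hD Z' hcodim hcover c)
  refine (hSfin.biUnion fun t _ => ?_).subset hsub
  apply Set.Subsingleton.finite
  intro c hc c' hc'
  exact IsGenericPoint.eq hc hc'

/-- a canonical index among those with a given generic point. -/
noncomputable def canon (e : X) (h : ∃ j, etaI 𝓓 hDint j = e) : I := Classical.choose h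

theorem eta_canon (e : X) (h : ∃ j, etaI 𝓓 hDint j = e) : etaI 𝓓 hDint (canon 𝓓 hDint e h) = e :=
  Classical.choose_spec h

theorem canon_congr {e e' : X} (he : e = e') (h : ∃ j, etaI 𝓓 hDint j = e)
    (h' : ∃ j, etaI 𝓓 hDint j = e') : canon 𝓓 hDint e h = canon 𝓓 hDint e' h' := by
  subst he; rfl

open Classical in
/-- the multiplicities. -/
noncomputable def mult (i : I) : ℕ :=
  if etaI 𝓓 hDint i ∈ 𝓩.support ∧ canon 𝓓 hDint (etaI 𝓓 hDint i) ⟨i, rfl⟩ = i then
    ordAt 𝓩 𝓓 hD hDint Z' hcodim hcover i else 0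

include hcover in
theorem finite_support_mult :
    (Function.support (mult 𝓩 𝓓 hD hDint Z' hcodim hcover)).Finite := by
  classical
  have hE := finite_eta_mem_support 𝓩 𝓓 hD hDint Z' hcodim hcover
  refine Set.Finite.of_finite_image (f := etaI 𝓓 hDint) (hE.subset ?_) ?_
  · rintro _ ⟨i, hi, rfl⟩
    have hi' : mult 𝓩 𝓓 hD hDint Z' hcodim hcover i ≠ 0 := hi
    unfold mult at hi'
    split_ifs at hi' with hc
    · exact ⟨hc.1, i, rfl⟩
    · exact absurd rfl hi'
  · intro i hi j hj hij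
    have hi' : mult 𝓩 𝓓 hD hDint Z' hcodim hcover i ≠ 0 := hi
    have hj' : mult 𝓩 𝓓 hD hDint Z' hcodim hcover j ≠ 0 := hj
    unfold mult at hi' hj'
    split_ifs at hi' with hci
    · split_ifs at hj' with hcj
      · rw [← hci.2, ← hcj.2]
        exact canon_congr 𝓓 hDint hij _ _
      · exact absurd rfl hj'
    · exact absurd rfl hi'

/-- the multiplicities as a finitely supported function. -/
noncomputable def multF : I →₀ ℕ :=
  Finsupp.ofSupportFinite (mult 𝓩 𝓓 hD hDint Z' hcodim hcover)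
    (finite_support_mult 𝓩 𝓓 hD hDint Z' hcodim hcover)

theorem multF_apply (i : I) : multF 𝓩 𝓓 hD hDint Z' hcodim hcover i =
    mult 𝓩 𝓓 hD hDint Z' hcodim hcover i := rfl

theorem mult_eq_of_ne_zero (i : I) (hi : mult 𝓩 𝓓 hD hDint Z' hcodim hcover i ≠ 0) :
    mult 𝓩 𝓓 hD hDint Z' hcodim hcover i = ordAt 𝓩 𝓓 hD hDint Z' hcodim hcover i ∧
      canon 𝓓 hDint (etaI 𝓓 hDint i) ⟨i, rfl⟩ = i := by
  classical
  unfold mult at hi ⊢
  split_ifs at hi ⊢ with hc
  · exact ⟨rfl, hc.2⟩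
  · exact absurd rfl hi

include hcover in
/-- `𝓩` is contained in the product of the `𝓓 i ^ a i`. -/
theorem le_prod : 𝓩 ≤ (multF 𝓩 𝓓 hD hDint Z' hcodim hcover).prod (fun i n => 𝓓 i ^ n) := by
  classical
  apply le_of_st_le
  intro x
  rw [st_finsupp_prod]
  choose g hg hspan using fun i => exists_st_eq_span (𝓓 i) (hD i) x
  obtain ⟨a, ha⟩ : ∃ a, a = multF 𝓩 𝓓 hD hDint Z' hcodim hcover := ⟨_, rfl⟩
  rw [← ha]
  have hprod : a.prod (fun i n => st (𝓓 i) x ^ n) =
      Ideal.span {∏ i ∈ a.support, g i ^ a i} := by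
    unfold Finsupp.prod
    rw [← Ideal.prod_span_singleton]
    refine Finset.prod_congr rfl fun i _ => ?_
    change st (𝓓 i) x ^ a i = _
    rw [hspan i, Ideal.span_singleton_pow]
  rw [hprod]
  intro h hh
  rw [Ideal.mem_span_singleton]
  apply prod_pow_dvd a.support g (fun i => a i) ?_ ?_ h ?_
  · intro i _
    by_cases hx : x ∈ (𝓓 i).support
    · right
      haveI := hDint i
      exact ⟨hg i, hspan i ▸ st_isPrime (𝓓 i) x hx⟩
    · left
      rw [mem_support_iff, not_not, hspan i] at hx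
      exact Ideal.span_singleton_eq_top.1 hx
  · intro i hi j hj hij hju hmem
    have hxj : x ∈ (𝓓 j).support := by
      rw [mem_support_iff, hspan j]
      intro htop; exact hju (Ideal.span_singleton_eq_top.1 htop)
    have hiu : ¬ IsUnit (g i) := by
      intro hu
      exact hju (Ideal.span_singleton_eq_top.1 (Ideal.eq_top_of_isUnit_mem _ hmem hu))
    have hxi : x ∈ (𝓓 i).support := by
      rw [mem_support_iff, hspan i]
      intro htop; exact hiu (Ideal.span_singleton_eq_top.1 htop)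
    have hPi : (Ideal.span {g i}).IsPrime := by
      haveI := hDint i
      exact hspan i ▸ st_isPrime (𝓓 i) x hxi
    obtain ⟨c, hc⟩ := Ideal.mem_span_singleton.1 hmem
    have hmem2 : g j * c ∈ Ideal.span {g i} := hc ▸ Ideal.subset_span rfl
    rcases hPi.mem_or_mem hmem2 with h1 | h1
    · have heq : Ideal.span {g i} = Ideal.span {g j} :=
        le_antisymm ((Ideal.span_singleton_le_iff_mem _).2 hmem)
          ((Ideal.span_singleton_le_iff_mem _).2 h1)
      have hηeq : etaI 𝓓 hDint i = etaI 𝓓 hDint j := by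
        have e1 := @genPrime_eta X (𝓓 i) (hDint i) x hxi
        have e2 := @genPrime_eta X (𝓓 j) (hDint j) x hxj
        have f1 := fromSpecStalk_genPrime X (@eta_specializes X (𝓓 i) (hDint i) x hxi)
        have f2 := fromSpecStalk_genPrime X (@eta_specializes X (𝓓 j) (hDint j) x hxj)
        have e3 : (⟨genPrime X (@eta_specializes X (𝓓 i) (hDint i) x hxi), inferInstance⟩ :
            PrimeSpectrum (X.presheaf.stalk x)) =
            ⟨genPrime X (@eta_specializes X (𝓓 j) (hDint j) x hxj), inferInstance⟩ := by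
          apply PrimeSpectrum.ext
          change genPrime X _ = genPrime X _
          rw [e1, e2, hspan i, hspan j, heq]
        change @eta X (𝓓 i) (hDint i) = @eta X (𝓓 j) (hDint j)
        rw [← f1, ← f2, e3]
      have hi' := (mult_eq_of_ne_zero 𝓩 𝓓 hD hDint Z' hcodim hcover i
        (by rw [← multF_apply, ← ha]; exact Finsupp.mem_support_iff.1 hi)).2
      have hj' := (mult_eq_of_ne_zero 𝓩 𝓓 hD hDint Z' hcodim hcover j
        (by rw [← multF_apply, ← ha]; exact Finsupp.mem_support_iff.1 hj)).2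
      exact hij (by rw [← hi', ← hj']; exact canon_congr 𝓓 hDint hηeq _ _)
    · obtain ⟨c', rfl⟩ := Ideal.mem_span_singleton.1 h1
      have h2 : g i * 1 = g i * (g j * c') := by
        rw [mul_one]
        calc g i = g j * (g i * c') := hc
          _ = g i * (g j * c') := by ring
      have h3 := (mul_cancel_left_mem_nonZeroDivisors (hg i)).1 h2
      exact hju (IsUnit.of_mul_eq_one _ h3.symm)
  · intro i hi
    by_cases hx : x ∈ (𝓓 i).support
    · haveI := hDint i
      have hle : st 𝓩 (eta (𝓓 i)) ≤ st (𝓓 i) (eta (𝓓 i)) ^ a i := by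
        have h1 := mult_eq_of_ne_zero 𝓩 𝓓 hD hDint Z' hcodim hcover i
          (by rw [← multF_apply, ← ha]; exact Finsupp.mem_support_iff.1 hi)
        rw [ha, multF_apply, h1.1]
        exact (ordAt_spec 𝓩 𝓓 hD hDint Z' hcodim hcover i).le
      have h2 := st_le_pow_of_eta (𝓓 i) (hD i) 𝓩 (a i) hle x hx
      rw [hspan i, Ideal.span_singleton_pow] at h2
      exact Ideal.mem_span_singleton.1 (h2 hh)
    · rw [mem_support_iff, not_not, hspan i] at hx
      exact ((Ideal.span_singleton_eq_top.1 hx).pow _).dvd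

include hcover in
/-- at the points of codimension `≤ 1` the product of the `𝓓 i ^ a i` is contained in `𝓩`. -/
theorem st_prod_le_of_krullDimLE_one (z : X) (hdim : Ring.KrullDimLE 1 (X.presheaf.stalk z)) :
    st ((multF 𝓩 𝓓 hD hDint Z' hcodim hcover).prod (fun i n => 𝓓 i ^ n)) z ≤ st 𝓩 z := by
  classical
  by_cases hzs : z ∈ 𝓩.support
  swap
  · rw [mem_support_iff, not_not] at hzs
    rw [hzs]; exact le_top
  obtain ⟨a, ha⟩ : ∃ a, a = multF 𝓩 𝓓 hD hDint Z' hcodim hcover := ⟨_, rfl⟩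
  rw [← ha]
  rcases hcover hzs with hzZ | hzD
  · exfalso
    by_cases hmax : ∀ y ∈ Z', y ⤳ z → y = z
    · have h1 := hcodim z hzZ hmax
      have h2 : ringKrullDim (X.presheaf.stalk z) ≤ ((1 : ℕ) : WithBot ℕ∞) :=
        Ring.krullDimLE_iff.1 hdim
      exact absurd (h1.trans h2) (by decide)
    · push Not at hmax
      obtain ⟨y, hyZ, hyz, hne⟩ := hmax
      rcases eq_or_krullDimLE_zero_of_specializes hyz hdim with h | h0
      · exact hne h
      · haveI := h0
        have h1 := hcodim y hyZ (fun y' _ h => eq_of_specializes_of_krullDimLE_zero h)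
        have h2 : ringKrullDim (X.presheaf.stalk y) ≤ ((0 : ℕ) : WithBot ℕ∞) :=
          Ring.krullDimLE_iff.1 h0
        exact absurd (h1.trans h2) (by decide)
  · obtain ⟨j, hj⟩ := Set.mem_iUnion.1 hzD
    have hηj : etaI 𝓓 hDint j = z :=
      @eq_eta_of_krullDimLE_one X (𝓓 j) (hDint j) (hD j) z hj hdim
    obtain ⟨i, hi⟩ : ∃ i, i = canon 𝓓 hDint z ⟨j, hηj⟩ := ⟨_, rfl⟩
    have hηi : etaI 𝓓 hDint i = z := hi ▸ eta_canon 𝓓 hDint z ⟨j, hηj⟩
    have h1 : st (a.prod (fun i n => 𝓓 i ^ n)) z ≤ st (𝓓 i) z ^ a i := by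
      rw [st_finsupp_prod]
      by_cases his : i ∈ a.support
      · unfold Finsupp.prod
        exact Ideal.prod_le_inf.trans (Finset.inf_le his)
      · rw [Finsupp.notMem_support_iff.1 his, pow_zero, Ideal.one_eq_top]; exact le_top
    have h2 : a i = ordAt 𝓩 𝓓 hD hDint Z' hcodim hcover i := by
      rw [ha, multF_apply]
      unfold mult
      rw [if_pos]
      refine ⟨hηi ▸ hzs, ?_⟩
      rw [hi]
      exact canon_congr 𝓓 hDint (hi ▸ hηi) _ _
    have h3 := ordAt_spec 𝓩 𝓓 hD hDint Z' hcodim hcover i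
    rw [hηi] at h3
    rw [h2, ← h3] at h1
    exact h1

include hD hDint hcodim hcover in
/-- the main theorem. -/
theorem exists_effCartier_le :
    ∃ a : I →₀ ℕ, 𝓩 ≤ a.prod (fun i n => 𝓓 i ^ n) ∧
      ∃ U : X.Opens, (a.prod (fun i n => 𝓓 i ^ n)).comap U.ι = 𝓩.comap U.ι ∧
        ∀ z ∈ (𝓩.support : Set X) \ (U : Set X),
          (∀ y ∈ (𝓩.support : Set X) \ (U : Set X), y ⤳ z → y = z) →
          (2 : WithBot ℕ∞) ≤ ringKrullDim (X.presheaf.stalk z) := by
  classical
  obtain ⟨a, ha⟩ : ∃ a, a = multF 𝓩 𝓓 hD hDint Z' hcodim hcover := ⟨_, rfl⟩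
  obtain ⟨𝓓tot, hDtot⟩ : ∃ T, T = a.prod (fun i n => 𝓓 i ^ n) := ⟨_, rfl⟩
  have hle : 𝓩 ≤ 𝓓tot := by
    rw [hDtot, ha]; exact le_prod 𝓩 𝓓 hD hDint Z' hcodim hcover
  refine ⟨a, hDtot ▸ hle, ⟨{x | st 𝓓tot x ≤ st 𝓩 x}, isOpen_setOf_st_le 𝓩 𝓓tot⟩, ?_, ?_⟩
  · rw [← hDtot]
    apply comap_ι_eq_of_st_eq
    intro x hx
    exact le_antisymm hx (st_mono hle x)
  · intro z hz _
    by_contra hlt
    have hdim := ringKrullDim_le_one_of_not_two_le hlt
    apply hz.2
    change st 𝓓tot z ≤ st 𝓩 z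
    rw [hDtot, ha]
    exact st_prod_le_of_krullDimLE_one 𝓩 𝓓 hD hDint Z' hcodim hcover z hdim

end Main

end Groth.Agent.R2.H8.EffCartZ
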