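import Mathlib
import Groth.Agent.R2.H8EffCartZ

/-!
# An effective Cartier divisor supported in a union of integral effective Cartier divisors (helper8)

`eq_prod_of_effCartier` : `X` Noetherian, `D` effective Cartier, `Ds i` integral effective Cartier with
`Supp D ⊆ ⋃ Supp Ds i`; then `D = ∏ Ds i ^ a i`.
-/

set_option autoImplicit false
set_option linter.style.haveILetI false
set_option linter.unusedSectionVars false
universe u

open CategoryTheory AlgebraicGeometry TopologicalSpace IsLocalRing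

namespace Groth.Agent.R2.H8.EffCartEq

open Groth.Agent.R2.H8.CartExt Groth.Agent.R2.H8.Cartier Groth.Agent.R2.H8.StalkIdeal
open Groth.Agent.R2.H8.PrimeDiv Groth.Agent.R2.H23.LocFact Groth.Agent.R2.H8.CartInt
open Groth.Agent.R2.H8.EffCartZ

variable {X : Scheme.{u}}

theorem eq_prod_of_effCartier [AlgebraicGeometry.IsNoetherian X] (D : X.IdealSheafData)
    (hD : BlowUp.IsEffCartierIdeal D) {I : Type*} (Ds : I → X.IdealSheafData)
    (hDs : ∀ i, BlowUp.IsEffCartierIdeal (Ds i)) (hint : ∀ i, IsIntegral (Ds i).subscheme)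
    (hsub : (D.support : Set X) ⊆ ⋃ i, ((Ds i).support : Set X)) :
    ∃ a : I →₀ ℕ, D = a.prod (fun i n => Ds i ^ n) := by
  classical
  have hcodim : ∀ z ∈ (∅ : Set X), (∀ y ∈ (∅ : Set X), y ⤳ z → y = z) →
      (2 : WithBot ℕ∞) ≤ ringKrullDim (X.presheaf.stalk z) := fun z hz => absurd hz (Set.notMem_empty z)
  have hcover : (D.support : Set X) ⊆ ∅ ∪ ⋃ i, ((Ds i).support : Set X) :=
    hsub.trans Set.subset_union_right
  obtain ⟨a, ha⟩ : ∃ a, a = multF D Ds hDs hint ∅ hcodim hcover := ⟨_, rfl⟩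
  obtain ⟨T, hT⟩ : ∃ T, T = a.prod (fun i n => Ds i ^ n) := ⟨_, rfl⟩
  have hle : D ≤ T := by rw [hT, ha]; exact le_prod D Ds hDs hint ∅ hcodim hcover
  have h1 : ∀ z : X, Ring.KrullDimLE 1 (X.presheaf.stalk z) → st T z ≤ st D z := by
    intro z hz
    rw [hT, ha]
    exact st_prod_le_of_krullDimLE_one D Ds hDs hint ∅ hcodim hcover z hz
  refine ⟨a, ?_⟩
  rw [← hT]
  refine le_antisymm hle (le_of_st_le ?_)
  by_contra hcon
  push Not at hcon
  -- a bad point of minimal dimension
  have hB : {x : X | ¬ st T x ≤ st D x}.Nonempty := hcon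
  obtain ⟨z, hzB, hzmin⟩ := WellFounded.has_min
    (InvImage.wf (fun z : X => ringKrullDim (X.presheaf.stalk z)) wellFounded_lt) _ hB
  have hzB' : ¬ st T z ≤ st D z := hzB
  have hdim2 : (2 : WithBot ℕ∞) ≤ ringKrullDim (X.presheaf.stalk z) := by
    by_contra hlt
    exact hzB' (h1 z (ringKrullDim_le_one_of_not_two_le hlt))
  -- generators
  obtain ⟨d, hd, hdspan⟩ := exists_st_eq_span D hD z
  choose g hg hgspan using fun i => exists_st_eq_span (Ds i) (hDs i) z
  have hTspan : st T z = Ideal.span {∏ i ∈ a.support, g i ^ a i} := by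
    rw [hT, st_finsupp_prod]
    unfold Finsupp.prod
    rw [← Ideal.prod_span_singleton]
    refine Finset.prod_congr rfl fun i _ => ?_
    change st (Ds i) z ^ a i = _
    rw [hgspan i, Ideal.span_singleton_pow]
  obtain ⟨t, ht⟩ : ∃ t, t = ∏ i ∈ a.support, g i ^ a i := ⟨_, rfl⟩
  rw [← ht] at hTspan
  have htnzd : t ∈ nonZeroDivisors (X.presheaf.stalk z) := by
    rw [ht]
    exact Submonoid.prod_mem _ fun i _ => Submonoid.pow_mem _ (hg i) _
  have hdt : d ∈ Ideal.span {t} := by
    rw [← hTspan]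
    apply st_mono hle z
    rw [hdspan]
    exact Ideal.subset_span rfl
  obtain ⟨c, hc⟩ := Ideal.mem_span_singleton.1 hdt
  have hcu : ¬ IsUnit c := by
    intro hu
    apply hzB'
    rw [hTspan, hdspan, Ideal.span_singleton_le_iff_mem, Ideal.mem_span_singleton]
    obtain ⟨u, rfl⟩ := hu
    exact ⟨↑u⁻¹, by rw [hc, mul_assoc, Units.mul_inv, mul_one]⟩
  have hctop : Ideal.span {c} ≠ ⊤ := fun h => hcu (Ideal.span_singleton_eq_top.1 h)
  obtain ⟨p, hp⟩ := Ideal.nonempty_minimalPrimes hctop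
  haveI hpp : p.IsPrime := hp.1.1
  have hcp : c ∈ p := hp.1.2 (Ideal.subset_span rfl)
  have hht : p.height ≤ 1 :=
    Ideal.height_le_one_of_isPrincipal_of_mem_minimalPrimes (Ideal.span {c}) p hp
  obtain ⟨y, hy, hpy⟩ := exists_specializes_genPrime_eq X z p
  have hdimy : ringKrullDim (X.presheaf.stalk y) < ringKrullDim (X.presheaf.stalk z) := by
    rw [ringKrullDim_stalk_eq_height X hy, hpy]
    have h3 : ((p.height : ℕ∞) : WithBot ℕ∞) ≤ ((1 : ℕ∞) : WithBot ℕ∞) := WithBot.coe_le_coe.2 hht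
    refine lt_of_le_of_lt h3 (lt_of_lt_of_le ?_ hdim2)
    decide
  have hyB : st T y ≤ st D y := by
    by_contra hyB
    exact hzmin y hyB hdimy
  -- at `y`
  rw [st_specializes T hy, st_specializes D hy, hTspan, hdspan, Ideal.map_span, Ideal.map_span,
    Set.image_singleton, Set.image_singleton, Ideal.span_singleton_le_iff_mem,
    Ideal.mem_span_singleton] at hyB
  obtain ⟨u, hu⟩ := hyB
  letI := (X.presheaf.stalkSpecializes hy).hom.toAlgebra
  haveI := isLocalization_genPrime X hy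
  have htnzd' : (X.presheaf.stalkSpecializes hy).hom t ∈ nonZeroDivisors (X.presheaf.stalk y) :=
    IsLocalization.map_nonZeroDivisors_le (genPrime X hy).primeCompl (X.presheaf.stalk y)
      (Submonoid.mem_map_of_mem _ htnzd)
  have h5 : (X.presheaf.stalkSpecializes hy).hom t * 1 =
      (X.presheaf.stalkSpecializes hy).hom t * ((X.presheaf.stalkSpecializes hy).hom c * u) := by
    rw [mul_one, ← mul_assoc, ← map_mul, ← hc]
    exact hu
  have h6 := (mul_cancel_left_mem_nonZeroDivisors htnzd').1 h5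
  have hcunit : IsUnit ((X.presheaf.stalkSpecializes hy).hom c) := IsUnit.of_mul_eq_one _ h6.symm
  have hcmem : (X.presheaf.stalkSpecializes hy).hom c ∈ maximalIdeal (X.presheaf.stalk y) := by
    have : c ∈ genPrime X hy := hpy ▸ hcp
    exact this
  exact (IsLocalRing.mem_maximalIdeal _).1 hcmem hcunit

end Groth.Agent.R2.H8.EffCartEq
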