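import Mathlib
import Groth.Agent.R2.H8InvMod2
import Groth.Agent.Lib.Helper23SecTw10
import Groth.Prelude.Def_Curv2

/-!
# A globally generated invertible module with prescribed generating locus (helper8)

`X` integral, `U` a nonempty open, `f ∈ Γ(X, U)` whose inverse (in the function field) lies in the
maximal ideal of `O_{X,x}` for every `x ∉ U` (`PoleData`).  Then `L = O_X(D)` (`D` = divisor of poles of
`f` outside `U`), built in the `LocEq.invMod` model, is invertible, globally generated by the two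
sections `1` and `f`, and the generating locus of `1` is `U`.
-/

set_option autoImplicit false
set_option linter.style.haveILetI false
universe u

open CategoryTheory AlgebraicGeometry TopologicalSpace Opposite

namespace Groth.Agent.R2.H8.GGInv

open Groth.Agent.R2.H8.InvMod Groth.Agent.Lib.Helper23.GenLocus

variable {X : Scheme.{u}} [IsIntegral X]

/-- `1/f` lies in the maximal ideal of every local ring outside `U`. -/
def PoleData (U : X.Opens) [Nonempty U] (f : Γ(X, U)) : Prop :=
  ∀ x : X, x ∉ U → ∃ t : X.presheaf.stalk x, t ∈ IsLocalRing.maximalIdeal (X.presheaf.stalk x) ∧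
    algebraMap (X.presheaf.stalk x) X.functionField t * X.germToFunctionField U f = 1

variable (U : X.Opens) [Nonempty U] (f : Γ(X, U)) (hf : PoleData U f)

/-- the germ of `1/f` at a point outside `U`. -/
noncomputable def tt (x : X) (hx : x ∉ U) : X.presheaf.stalk x := Classical.choose (hf x hx)

theorem tt_mem (x : X) (hx : x ∉ U) :
    tt U f hf x hx ∈ IsLocalRing.maximalIdeal (X.presheaf.stalk x) :=
  (Classical.choose_spec (hf x hx)).1

theorem tt_mul (x : X) (hx : x ∉ U) :
    algebraMap (X.presheaf.stalk x) X.functionField (tt U f hf x hx) *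
      X.germToFunctionField U f = 1 :=
  (Classical.choose_spec (hf x hx)).2

open Classical in
/-- the local equations of the divisor of poles of `f`. -/
noncomputable def gg (x : X) : X.presheaf.stalk x := if h : x ∈ U then 1 else tt U f hf x h

open Classical in
/-- the germs of the section `f` of `O_X(D)` (multiplied by the local equations). -/
noncomputable def uu (x : X) : X.presheaf.stalk x := if h : x ∈ U then X.presheaf.germ U x h f else 1

theorem algebraMap_injective (z : X) :
    Function.Injective (algebraMap (X.presheaf.stalk z) X.functionField) :=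
  IsFractionRing.injective _ _

/-- spreading out `1/f` around a point outside `U`. -/
theorem exists_nbhd (x : X) (hx : x ∉ U) :
    ∃ (W : X.Opens) (_ : x ∈ W) (t : Γ(X, W)), ∀ (z : X) (hz : z ∈ W),
      X.presheaf.germ W z hz t ∈ nonZeroDivisors (X.presheaf.stalk z) ∧
      (∀ hzU : z ∉ U, X.presheaf.germ W z hz t = tt U f hf z hzU) ∧
      (∀ hzU : z ∈ U, X.presheaf.germ W z hz t * X.presheaf.germ U z hzU f = 1) := by
  obtain ⟨W, hxW, t, ht⟩ := TopCat.Presheaf.exists_germ_eq X.presheaf (tt U f hf x hx)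
  have : Nonempty W := ⟨⟨x, hxW⟩⟩
  have hF : ∀ (z : X) (hz : z ∈ W), algebraMap (X.presheaf.stalk z) X.functionField
      (X.presheaf.germ W z hz t) * X.germToFunctionField U f = 1 := by
    intro z hz
    rw [Scheme.algebraMap_germ_eq_germToFunctionField,
      ← Scheme.algebraMap_germ_eq_germToFunctionField X hxW t, ht]
    exact tt_mul U f hf x hx
  have hF0 : X.germToFunctionField U f ≠ 0 := by
    intro h0
    have := tt_mul U f hf x hx
    rw [h0, mul_zero] at this
    exact zero_ne_one this
  refine ⟨W, hxW, t, fun z hz => ⟨?_, ?_, ?_⟩⟩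
  · apply mem_nonZeroDivisors_of_ne_zero
    intro h0
    have := hF z hz
    rw [h0, map_zero, zero_mul] at this
    exact zero_ne_one this
  · intro hzU
    apply algebraMap_injective z
    have h1 := hF z hz
    have h2 := tt_mul U f hf z hzU
    exact mul_right_cancel₀ hF0 (h1.trans h2.symm)
  · intro hzU
    apply algebraMap_injective z
    rw [map_mul, map_one, Scheme.algebraMap_germ_eq_germToFunctionField X hzU f]
    exact hF z hz

/-- the divisor of poles of `f` outside `U`, as local equation data. -/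
noncomputable def locEq : LocEq X where
  g := gg U f hf
  coh x := by
    by_cases hx : x ∈ U
    · refine ⟨U, hx, 1, fun y => ?_⟩
      rw [map_one]
      refine ⟨one_mem _, ?_⟩
      rw [gg, dif_pos y.2]
    · obtain ⟨W, hxW, t, h⟩ := exists_nbhd U f hf x hx
      refine ⟨W, hxW, t, fun y => ⟨(h y.1 y.2).1, ?_⟩⟩
      by_cases hy : y.1 ∈ U
      · rw [gg, dif_pos hy]
        exact (associated_one_iff_isUnit.2 (.of_mul_eq_one _ ((h y.1 y.2).2.2 hy))).symm
      · rw [gg, dif_neg hy, (h y.1 y.2).2.1 hy]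

theorem locEq_g (x : X) : (locEq U f hf).g x = gg U f hf x := rfl

theorem isEq_of_nbhd {W : X.Opens} {t : Γ(X, W)} (h : ∀ (z : X) (hz : z ∈ W),
      X.presheaf.germ W z hz t ∈ nonZeroDivisors (X.presheaf.stalk z) ∧
      (∀ hzU : z ∉ U, X.presheaf.germ W z hz t = tt U f hf z hzU) ∧
      (∀ hzU : z ∈ U, X.presheaf.germ W z hz t * X.presheaf.germ U z hzU f = 1)) :
    (locEq U f hf).IsEq W t := by
  intro y
  refine ⟨(h y.1 y.2).1, ?_⟩
  rw [locEq_g]
  by_cases hy : y.1 ∈ U
  · rw [gg, dif_pos hy]
    exact (associated_one_iff_isUnit.2 (.of_mul_eq_one _ ((h y.1 y.2).2.2 hy))).symm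
  · rw [gg, dif_neg hy, (h y.1 y.2).2.1 hy]

/-- the key identity `u_z · (1/f)_z = g_z`. -/
theorem uu_mul {W : X.Opens} {t : Γ(X, W)} (h : ∀ (z : X) (hz : z ∈ W),
      X.presheaf.germ W z hz t ∈ nonZeroDivisors (X.presheaf.stalk z) ∧
      (∀ hzU : z ∉ U, X.presheaf.germ W z hz t = tt U f hf z hzU) ∧
      (∀ hzU : z ∈ U, X.presheaf.germ W z hz t * X.presheaf.germ U z hzU f = 1))
    (z : X) (hz : z ∈ W) : uu U f z * X.presheaf.germ W z hz t = gg U f hf z := by
  by_cases hzU : z ∈ U
  · rw [uu, dif_pos hzU, gg, dif_pos hzU, mul_comm]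
    exact (h z hz).2.2 hzU
  · rw [uu, dif_neg hzU, gg, dif_neg hzU, one_mul]
    exact (h z hz).2.1 hzU

theorem genLocus_oneHom : CohB1.genLocus (locEq U f hf).invMod (locEq U f hf).oneHom = U := by
  ext x
  rw [SetLike.mem_coe, SetLike.mem_coe, (locEq U f hf).mem_genLocus_oneHom_iff x, locEq_g]
  by_cases hx : x ∈ U
  · rw [gg, dif_pos hx]
    exact ⟨fun _ => hx, fun _ => isUnit_one⟩
  · rw [gg, dif_neg hx]
    refine ⟨fun hu => ?_, fun h => absurd h hx⟩
    exact absurd hu ((IsLocalRing.mem_maximalIdeal _).1 (tt_mem U f hf x hx))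

/-- the section `f` of `O_X(D)`, over any open. -/
noncomputable def sec2 (V : X.Opens) : Γ((locEq U f hf).invMod, V) :=
  ⟨fun y => uu U f y.1, fun x => by
    by_cases hx : x.1 ∈ U
    · refine ⟨V ⊓ U, ⟨x.2, hx⟩, homOfLE inf_le_left, X.presheaf.map (homOfLE inf_le_right).op f, 1,
        ?_, fun y => ?_⟩
      · intro y
        rw [map_one]
        refine ⟨one_mem _, ?_⟩
        rw [locEq_g, gg, dif_pos (show y.1 ∈ U from y.2.2)]
      · dsimp only
        rw [map_one, mul_one, TopCat.Presheaf.germ_res_apply, locEq_g, gg,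
          dif_pos (show y.1 ∈ U from y.2.2), one_mul]
        exact dif_pos (show y.1 ∈ U from y.2.2)
    · obtain ⟨W, hxW, t, h⟩ := exists_nbhd U f hf x.1 hx
      refine ⟨V ⊓ W, ⟨x.2, hxW⟩, homOfLE inf_le_left, 1, X.presheaf.map (homOfLE inf_le_right).op t,
        LocEq.IsEq.res _ _ (isEq_of_nbhd U f hf h), fun y => ?_⟩
      dsimp only
      rw [map_one, mul_one, TopCat.Presheaf.germ_res_apply, locEq_g]
      exact uu_mul U f hf h y.1 y.2.2⟩

/-- the section `f` as a morphism `O_X ⟶ O_X(D)`. -/
noncomputable def sec2Hom : Coh.structureModule X ⟶ (locEq U f hf).invMod :=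
  ((locEq U f hf).invMod).unitHomEquiv.symm
    (PresheafOfModules.sectionsMk (fun V => sec2 U f hf V.unop) (fun _ _ _ => rfl))

theorem sec2Hom_app (V : X.Opens) (r : Γ(X, V)) :
    (sec2Hom U f hf).app V r = r • sec2 U f hf V := rfl

theorem mem_genLocus_sec2Hom (x : X) (hx : x ∉ U) :
    x ∈ CohB1.genLocus (locEq U f hf).invMod (sec2Hom U f hf) := by
  rw [mem_genLocus_iff]
  obtain ⟨W, hxW, t, h⟩ := exists_nbhd U f hf x hx
  have hEq := isEq_of_nbhd U f hf h
  refine ⟨W, hxW, fun W' hW' => ?_⟩
  rw [ConcreteCategory.isIso_iff_bijective]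
  have hb := (locEq U f hf).frame_bijective hEq W' hW'
  have hsec : sec2 U f hf W' = (locEq U f hf).frame hEq W' hW' := by
    apply Subtype.ext
    funext y
    change uu U f y.1 = ((((locEq U f hf).unitOf hEq ⟨y.1, hW' y.2⟩)⁻¹ :
      (X.presheaf.stalk y.1)ˣ) : X.presheaf.stalk y.1)
    apply Units.eq_inv_of_mul_eq_one_left
    have h1 := (locEq U f hf).g_mul_unitOf hEq ⟨y.1, hW' y.2⟩
    have h2 := uu_mul U f hf h y.1 (hW' y.2)
    have hnz := (locEq U f hf).g_mem_nonZeroDivisors y.1
    apply (mul_cancel_left_mem_nonZeroDivisors hnz).1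
    calc (locEq U f hf).g y.1 * (((locEq U f hf).unitOf hEq ⟨y.1, hW' y.2⟩ :
          X.presheaf.stalk y.1) * uu U f y.1)
        = uu U f y.1 * ((locEq U f hf).g y.1 * ((locEq U f hf).unitOf hEq ⟨y.1, hW' y.2⟩ :
          X.presheaf.stalk y.1)) := by ring
      _ = (locEq U f hf).g y.1 * 1 := by rw [h1, h2, locEq_g, mul_one]
  have hfun : ⇑(ConcreteCategory.hom ((sec2Hom U f hf).app W')) = fun r : Γ(X, W') =>
      (r • (locEq U f hf).frame hEq W' hW' : Γ((locEq U f hf).invMod, W')) := by
    funext r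
    rw [← hsec]
    rfl
  rw [hfun]
  exact hb

include f hf in
theorem exists_of_poleData : ∃ (L : X.Modules) (s : Coh.structureModule X ⟶ L),
    PicF.IsInvertible L ∧ Curv2.IsGloballyGenerated L ∧ CohB1.genLocus L s = U := by
  refine ⟨(locEq U f hf).invMod, (locEq U f hf).oneHom, (locEq U f hf).isInvertible_invMod, ?_,
    genLocus_oneHom U f hf⟩
  apply Groth.Agent.Lib.Helper23.SecTw.isGloballyGenerated_of_forall_mem_genLocus
  intro x
  by_cases hx : x ∈ U
  · refine ⟨(locEq U f hf).oneHom, ?_⟩
    have := genLocus_oneHom U f hf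
    rw [this]
    exact hx
  · exact ⟨sec2Hom U f hf, mem_genLocus_sec2Hom U f hf x hx⟩

end Groth.Agent.R2.H8.GGInv
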