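import Mathlib
import Groth.Prelude.Def_CohB1
import Groth.Agent.Lib.Helper13ProjUPa

/-!
# pn-toolkit P1 (helper8): an affine scheme of finite type over `Spec A` immerses into `P^n_A`

* `exists_immersion_of_surjective`: a surjection `A[T_1..T_n] → B` gives an immersion
  `Spec B → P^n_A` over `Spec A` (through the chart `D₊(T_0)`, onto a closed subscheme of it).
* `exists_immersion_projSpace`: for `B` a finite type `A`-algebra there are `n` and an immersion
  `j : Spec B → P^n_A` with `j ≫ ProjSpace.toSpec n A = Spec.map (algebraMap A B)`.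
-/

set_option autoImplicit false
set_option linter.style.haveILetI false
universe u

open CategoryTheory CategoryTheory.Limits AlgebraicGeometry

namespace Groth.Agent.R2.H8.PnAff

open Groth.Agent.Helper13ProjUP Groth.Agent.Helper13Dehom

variable (A B : Type u) [CommRing A] [CommRing B] [Algebra A B]

theorem exists_immersion_aux (n : ℕ) (f : MvPolynomial (Fin n) A →ₐ[A] B)
    (hf : Function.Surjective f) :
    ∃ j : Spec (CommRingCat.of B) ⟶ Proj (CohB1.polyGrading n A), IsImmersion j ∧
      j ≫ toBase (CohB1.polyGrading n A) = Spec.map (CommRingCat.ofHom (algebraMap A B)) := by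
  let ψ : MvPolynomial (Fin (n + 1)) A →ₐ[A] B :=
    MvPolynomial.aeval (Fin.cons 1 (fun i => f (MvPolynomial.X i)))
  have hX0 : (MvPolynomial.X 0 : MvPolynomial (Fin (n + 1)) A) ∈ CohB1.polyGrading n A 1 :=
    MvPolynomial.isHomogeneous_X A 0
  have hψ0 : (ψ : MvPolynomial (Fin (n + 1)) A →+* B) (MvPolynomial.X 0) = 1 := by
    change ψ (MvPolynomial.X 0) = 1
    simp [ψ]
  obtain ⟨φ, hφ⟩ := exists_dehomLift hX0 (ψ : MvPolynomial (Fin (n + 1)) A →+* B) hψ0
  have hψsurj : Function.Surjective ψ := by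
    intro b
    obtain ⟨p, rfl⟩ := hf b
    refine ⟨MvPolynomial.rename Fin.succ p, ?_⟩
    have h1 : ψ (MvPolynomial.rename Fin.succ p) =
        MvPolynomial.aeval (fun i => f (MvPolynomial.X i)) p := by
      simp only [ψ, MvPolynomial.aeval_rename]
      congr 1
    rw [h1]
    have h2 : (MvPolynomial.aeval (fun i => f (MvPolynomial.X i)) : MvPolynomial (Fin n) A →ₐ[A] B) = f := by
      apply MvPolynomial.algHom_ext
      intro i
      simp
    rw [h2]
  have hφsurj : Function.Surjective φ := fun b => by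
    obtain ⟨a, rfl⟩ := hψsurj b
    exact ⟨dehom hX0 a, hφ a⟩
  have hU := isAffineOpen_basicOpen hX0
  let φ' : Γ(Proj (CohB1.polyGrading n A), Proj.basicOpen (CohB1.polyGrading n A) (MvPolynomial.X 0)) ⟶
      CommRingCat.of B :=
    @CommRingCat.ofHom
      (↑Γ(Proj (CohB1.polyGrading n A), Proj.basicOpen (CohB1.polyGrading n A) (MvPolynomial.X 0))) B _ _ φ
  refine ⟨Spec.map φ' ≫ hU.fromSpec, ?_, ?_⟩
  · haveI : IsClosedImmersion (Spec.map φ') :=
      IsClosedImmersion.spec_of_surjective φ' (by exact hφsurj)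
    infer_instance
  · rw [Category.assoc]
    have h3 := fromSpec_toBase (R := A) hX0
    rw [h3, ← Spec.map_comp]
    congr 1
    ext c
    change φ (dehom hX0 (algebraMap A _ c)) = algebraMap A B c
    rw [hφ]
    exact ψ.commutes c

theorem exists_immersion_of_surjective (n : ℕ) (f : MvPolynomial (Fin n) A →ₐ[A] B)
    (hf : Function.Surjective f) :
    ∃ j : Spec (CommRingCat.of B) ⟶ CohB1.ProjSpace n A, IsImmersion j ∧
      j ≫ CohB1.ProjSpace.toSpec n A = Spec.map (CommRingCat.ofHom (algebraMap A B)) :=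
  exists_immersion_aux A B n f hf

theorem exists_immersion_projSpace [Algebra.FiniteType A B] :
    ∃ (n : ℕ) (j : Spec (CommRingCat.of B) ⟶ CohB1.ProjSpace n A), IsImmersion j ∧
      j ≫ CohB1.ProjSpace.toSpec n A = Spec.map (CommRingCat.ofHom (algebraMap A B)) := by
  obtain ⟨n, f, hf⟩ := Algebra.FiniteType.iff_quotient_mvPolynomial''.mp
    (inferInstance : Algebra.FiniteType A B)
  obtain ⟨j, hj1, hj2⟩ := exists_immersion_of_surjective A B n f hf
  exact ⟨n, j, hj1, hj2⟩

end Groth.Agent.R2.H8.PnAff
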