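import Mathlib
import Groth.Agent.S0300

/-!
# `A[X] ⊗_A E` has injective amplitude `[0, 1]` (helper8), part 1: module-level facts.

* `injective_tensor_of_free`: for `A` Noetherian, `R` a free `A`-module and `E` an injective `A`-module,
  `R ⊗_A E` is an injective `A`-module.
-/

set_option autoImplicit false
set_option linter.style.haveILetI false
universe u

namespace Groth.Agent.R2.H8.PolyInj

open scoped TensorProduct

lemma injective_of_linearEquiv' {R : Type u} [CommRing R] {M N : Type u} [AddCommGroup M]
    [AddCommGroup N] [Module R M] [Module R N] (e : M ≃ₗ[R] N) (h : Module.Injective R M) :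
    Module.Injective R N :=
  (Module.Baer.of_equiv e (Module.Baer.of_injective h)).injective

open Classical in
theorem injective_tensor_of_free (A : Type u) [CommRing A] [IsNoetherianRing A]
    (R : Type u) [AddCommGroup R] [Module A R] [Module.Free A R]
    (E : Type u) [AddCommGroup E] [Module A E] [Module.Injective A E] :
    Module.Injective A (R ⊗[A] E) := by
  let ι := Module.Free.ChooseBasisIndex A R
  let b : Module.Basis ι A R := Module.Free.chooseBasis A R
  have h1 : Module.Injective A (DirectSum ι fun _ => E) :=
    Groth.Agent.S0300.result A (fun _ : ι => E) (fun _ => inferInstance)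
  let e1 : (R ⊗[A] E) ≃ₗ[A] ((ι →₀ A) ⊗[A] E) := TensorProduct.congr b.repr (LinearEquiv.refl A E)
  let e2 : ((ι →₀ A) ⊗[A] E) ≃ₗ[A] (ι →₀ E) := TensorProduct.finsuppScalarLeft A E ι
  let e3 : (ι →₀ E) ≃ₗ[A] (DirectSum ι fun _ => E) := finsuppLEquivDirectSum A E ι
  exact injective_of_linearEquiv' (e1 ≪≫ₗ e2 ≪≫ₗ e3).symm h1

end Groth.Agent.R2.H8.PolyInj
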