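import Mathlib
import Groth.Agent.R2.H8PolyInj

/-!
# `A[X] ⊗_A E` has injective amplitude `[0, 1]` (helper8), part 2: the short exact sequence
`0 → E[x] → Hom_A(A[X], E[x]) → Hom_A(A[X], E[x]) → 0` of `A[X]`-modules.
-/

set_option autoImplicit false
set_option linter.style.haveILetI false
universe u
open CategoryTheory Polynomial
open scoped TensorProduct

namespace Groth.Agent.R2.H8.PolyInj

section
variable (A : Type u) [CommRing A] (E : Type u) [AddCommGroup E] [Module A E]

/-- `E[x]` as an `A[X]`-module -/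
noncomputable abbrev Mx : ModuleCat.{u} A[X] := ModuleCat.of A[X] (A[X] ⊗[A] E)

/-- `E[x]` as an `A`-module -/
noncomputable abbrev Nx : ModuleCat.{u} A :=
  (ModuleCat.restrictScalars (algebraMap A A[X])).obj (Mx A E)

/-- the coinduced module `Hom_A(A[X], E[x])` -/
noncomputable abbrev Qx : ModuleCat.{u} A[X] :=
  (ModuleCat.coextendScalars (algebraMap A A[X])).obj (Nx A E)

/-- `m ↦ (s ↦ s • m)` -/
noncomputable def αx : Mx A E ⟶ Qx A E :=
  (ModuleCat.restrictCoextendScalarsAdj (algebraMap A A[X])).unit.app (Mx A E)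

/-- `φ ↦ (s ↦ φ (s X) - X φ(s))` -/
noncomputable def βx : Qx A E ⟶ Qx A E :=
  (X : A[X]) • 𝟙 (Qx A E) - (ModuleCat.coextendScalars (algebraMap A A[X])).map
    ((ModuleCat.restrictScalars (algebraMap A A[X])).map ((X : A[X]) • 𝟙 (Mx A E)))

/-- view an element of `Nx` in `E[x]` -/
def toEx (n : Nx A E) : A[X] ⊗[A] E := n

/-- view an element of `E[x]` in `Nx` -/
def ofEx (n : A[X] ⊗[A] E) : Nx A E := n

variable {A E}

lemma toEx_injective : Function.Injective (toEx A E) := fun _ _ h => h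

/-- evaluation of an element of the coinduced module at a polynomial -/
noncomputable def ev (φ : Qx A E) (s : A[X]) : A[X] ⊗[A] E := toEx A E (φ s)

lemma ev_αx (y : Mx A E) (s : A[X]) : ev (αx A E y) s = s • (y : A[X] ⊗[A] E) := rfl

lemma ev_βx (φ : Qx A E) (s : A[X]) :
    ev (βx A E φ) s = ev φ (s * X) - (X : A[X]) • ev φ s := rfl

lemma ev_add (φ : Qx A E) (s t : A[X]) : ev φ (s + t) = ev φ s + ev φ t :=
  (ModuleCat.CoextendScalars.equiv (algebraMap A A[X]) (Nx A E) φ).map_add s t

lemma ev_C_mul (φ : Qx A E) (a : A) (s : A[X]) : ev φ (C a * s) = (C a : A[X]) • ev φ s :=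
  (ModuleCat.CoextendScalars.equiv (algebraMap A A[X]) (Nx A E) φ).map_smul a s

lemma ev_zero_left (s : A[X]) : ev (0 : Qx A E) s = 0 := rfl

lemma ev_ext {φ ψ : Qx A E} (h : ∀ s : A[X], ev φ s = ev ψ s) : φ = ψ := by
  apply ModuleCat.CoextendScalars.ext
  apply LinearMap.ext
  intro s
  exact h s

lemma αx_injective : Function.Injective (αx A E) := by
  intro y y' h
  have h1 : ev (αx A E y) 1 = ev (αx A E y') 1 := by rw [h]
  rw [ev_αx, ev_αx, one_smul, one_smul] at h1
  exact h1

lemma αx_βx : αx A E ≫ βx A E = 0 := by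
  apply ModuleCat.hom_ext
  apply LinearMap.ext
  intro y
  apply ev_ext
  intro s
  change ev (βx A E (αx A E y)) s = 0
  rw [ev_βx, ev_αx, ev_αx, mul_comm s X, mul_smul, sub_self]

lemma exact_x (φ : Qx A E) (h : βx A E φ = 0) : ∃ y, αx A E y = φ := by
  have h1 : ∀ s : A[X], ev φ (s * X) = (X : A[X]) • ev φ s := by
    intro s
    have h2 : ev (βx A E φ) s = 0 := by rw [h, ev_zero_left]
    rw [ev_βx] at h2
    exact sub_eq_zero.mp h2
  have h2 : ∀ s : A[X], ev φ s = s • ev φ 1 := by
    intro s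
    induction s using Polynomial.induction_on with
    | C a =>
      have h3 := ev_C_mul φ a 1
      rwa [mul_one] at h3
    | add p q hp hq => rw [ev_add, hp, hq, add_smul]
    | monomial n a ih =>
      rw [pow_succ, ← mul_assoc, h1, ih, ← mul_smul]
      congr 1
      ring
  refine ⟨ev φ 1, ev_ext fun s => ?_⟩
  rw [h2 s]
  rfl

/-- the recursive sequence used to solve `φ (s X) - X φ(s) = ψ(s)` -/
noncomputable def cSeq (ψ : Qx A E) : ℕ → A[X] ⊗[A] E
  | 0 => 0
  | n + 1 => (X : A[X]) • cSeq ψ n + ev ψ (X ^ n)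

/-- the `A`-linear map with `X^n ↦ cSeq ψ n` -/
noncomputable def phi0 (ψ : Qx A E) : A[X] →ₗ[A] A[X] ⊗[A] E :=
  (Polynomial.basisMonomials A).constr A (cSeq ψ)

lemma phi0_monomial (ψ : Qx A E) (n : ℕ) (a : A) :
    phi0 ψ (C a * X ^ n) = a • cSeq ψ n := by
  have h1 : (C a * X ^ n : A[X]) = a • (Polynomial.basisMonomials A) n := by
    rw [Polynomial.coe_basisMonomials, Polynomial.smul_monomial, smul_eq_mul, mul_one,
      Polynomial.C_mul_X_pow_eq_monomial]
  rw [h1, map_smul, phi0, Module.Basis.constr_basis]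

lemma phi0_C_mul (ψ : Qx A E) (a : A) (s : A[X]) :
    phi0 ψ (C a * s) = (C a : A[X]) • phi0 ψ s := by
  rw [Polynomial.C_mul', map_smul, ← Polynomial.algebraMap_eq, algebraMap_smul]

/-- the element of the coinduced module defined by `phi0` -/
noncomputable def liftQ (ψ : Qx A E) : Qx A E :=
  (ModuleCat.CoextendScalars.equiv (algebraMap A A[X]) (Nx A E)).symm
    { toFun := fun s => ofEx A E (phi0 ψ s)
      map_add' := fun s t => (phi0 ψ).map_add s t
      map_smul' := fun a s => phi0_C_mul ψ a s }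

lemma ev_liftQ (ψ : Qx A E) (s : A[X]) : ev (liftQ ψ) s = phi0 ψ s := rfl

lemma βx_liftQ (ψ : Qx A E) : βx A E (liftQ ψ) = ψ := by
  apply ev_ext
  intro s
  rw [ev_βx, ev_liftQ, ev_liftQ]
  induction s using Polynomial.induction_on' with
  | add p q hp hq => rw [add_mul, map_add, map_add, smul_add, ev_add, ← hp, ← hq]; abel
  | monomial n a =>
    rw [← Polynomial.C_mul_X_pow_eq_monomial, mul_assoc, ← pow_succ, phi0_monomial, phi0_monomial,
      cSeq, smul_add, smul_comm (X : A[X]) a, add_sub_cancel_left, ev_C_mul,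
      ← Polynomial.algebraMap_eq, algebraMap_smul]

lemma βx_surjective : Function.Surjective (βx A E) := fun ψ => ⟨liftQ ψ, βx_liftQ ψ⟩

variable (A E) in
/-- the short complex `0 → E[x] → Q → Q → 0` -/
noncomputable def shortComplexX : ShortComplex (ModuleCat.{u} A[X]) :=
  ShortComplex.mk (αx A E) (βx A E) αx_βx

lemma shortExact_x : (shortComplexX A E).ShortExact := by
  haveI : Mono (shortComplexX A E).f := (ModuleCat.mono_iff_injective _).2 αx_injective
  haveI : Epi (shortComplexX A E).g := (ModuleCat.epi_iff_surjective _).2 βx_surjective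
  refine ShortComplex.ShortExact.mk ?_
  rw [ShortComplex.moduleCat_exact_iff]
  intro φ hφ
  exact exact_x φ hφ

end
end Groth.Agent.R2.H8.PolyInj
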