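import Mathlib
import Groth.Agent.R2.H8PolyInj2
import Groth.Agent.S6965
import Groth.Agent.S14388

/-!
# `A[X] ⊗_A E` has injective amplitude `[0, 1]` (helper8), part 3: injective dimension `≤ 1`
and the vanishing of `Hom_{D(A[X])}(N[0], E[x][i])` for `i ∉ [0, 1]`.
-/

set_option autoImplicit false
set_option linter.style.haveILetI false
universe u
open CategoryTheory Polynomial
open scoped TensorProduct
attribute [local instance] HasDerivedCategory.standard

namespace Groth.Agent.R2.H8.PolyInj

open DerivedCategory Groth.Agent.S14388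

section
variable (A : Type u) [CommRing A] [IsNoetherianRing A] (E : Type u) [AddCommGroup E] [Module A E]
  [Module.Injective A E]

/-- the restriction of `E[x]` to `A` is an injective object -/
lemma injective_Nx : Injective (Nx A E) := by
  haveI : Module.Injective A (A[X] ⊗[A] E) := injective_tensor_of_free A A[X] E
  have e : (A[X] ⊗[A] E) ≃ₗ[A] ↑(Nx A E) :=
    { toFun := fun x => x
      invFun := fun x => x
      left_inv := fun _ => rfl
      right_inv := fun _ => rfl
      map_add' := fun _ _ => rfl
      map_smul' := fun a x => by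
        change a • x = (algebraMap A A[X] a) • x
        rw [algebraMap_smul] }
  haveI : Module.Injective A ↑(Nx A E) := injective_of_linearEquiv' e inferInstance
  exact Module.injective_object_of_injective_module A ↑(Nx A E)

/-- the coinduced module is an injective object -/
lemma injective_Qx : Injective (Qx A E) := by
  haveI := injective_Nx A E
  exact (ModuleCat.restrictCoextendScalarsAdj (algebraMap A A[X])).map_injective (Nx A E) inferInstance

/-- `E[x]` has injective dimension `≤ 1` over `A[X]` -/
lemma hasInjectiveDimensionLT_Mx : HasInjectiveDimensionLT (Mx A E) 2 := by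
  haveI := injective_Qx A E
  have hS := shortExact_x (A := A) (E := E)
  have h2 : HasInjectiveDimensionLT (shortComplexX A E).X₂ (1 + 1) := by
    change HasInjectiveDimensionLT (Qx A E) 2
    exact hasInjectiveDimensionLT_of_ge (Qx A E) 1 2 (by omega)
  have h3 : HasInjectiveDimensionLT (shortComplexX A E).X₃ 1 := by
    change HasInjectiveDimensionLT (Qx A E) 1
    infer_instance
  exact hS.hasInjectiveDimensionLT_X₁ 1 h3 h2

end

section
variable {R : Type u} [CommRing R]

/-- `id M ≤ d` kills `Hom(N[0], M[n])` for `n > d` -/
theorem subsingleton_hom_of_id (M N : ModuleCat.{u} R) (d : ℕ)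
    (h : HasInjectiveDimensionLT M (d + 1)) (n : ℤ) (hn : (d : ℤ) < n) :
    Subsingleton ((singleFunctor (ModuleCat.{u} R) 0).obj N ⟶
      (shiftFunctor (DerivedCategory (ModuleCat.{u} R)) n).obj
        ((singleFunctor (ModuleCat.{u} R) 0).obj M)) := by
  obtain ⟨m, rfl⟩ : ∃ m : ℕ, n = m := ⟨n.toNat, (Int.toNat_of_nonneg (by omega)).symm⟩
  have hs : Subsingleton (Abelian.Ext N M m) :=
    HasInjectiveDimensionLT.subsingleton M (d + 1) m (by omega) N
  exact (Abelian.Ext.homEquiv (X := N) (Y := M) (n := m)).symm.subsingleton

/-- `id M ≤ d` gives injective amplitude `[0, d]` -/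
theorem injAmp_of_id (M : Type u) [AddCommGroup M] [Module R M] (d : ℕ)
    (h : HasInjectiveDimensionLT (ModuleCat.of R M) (d + 1)) :
    DRing.HasInjAmplitudeIn R 0 d (Dual.inD R M) := by
  have t := (Groth.Agent.S6965.result R (Dual.inD R M) 0 d).out 0 1
  rw [t]
  intro N _ _ i hi
  rcases hi with hi | hi
  · refine ⟨fun f g => ?_⟩
    have hz : ∀ f : Dual.inD R N ⟶
        (shiftFunctor (DerivedCategory (ModuleCat.{u} R)) i).obj (Dual.inD R M), f = 0 := by
      intro f
      have h1 : ((shiftFunctor (DerivedCategory (ModuleCat.{u} R)) i).obj (Dual.inD R M)).IsGE (-i) :=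
        tt.isGE_shift (Dual.inD R M) 0 i (-i) (by omega)
      exact tt.zero_of_isLE_of_isGE f 0 (-i) (by omega) inferInstance h1
    rw [hz f, hz g]
  · exact subsingleton_hom_of_id (ModuleCat.of R M) (ModuleCat.of R N) d h i (by omega)

end
end Groth.Agent.R2.H8.PolyInj
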