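import Mathlib
import Groth.Agent.Lib.Helper28Hypersurface

/-!
# Serre's condition on an effective Cartier divisor (helper8): the algebra

* `depth_quotient_span_singleton_add_one`: depth drops by one modulo a regular element
* `sk_pred_quotient_local`: `min k (dim R) ≤ depth R` gives `min (k-1) (dim R/x) ≤ depth R/x`
* `sk_pred_localization_quotient`: the same for `(A/(f))_q` against `A_p`.
-/

set_option autoImplicit false
set_option linter.style.haveILetI false
universe u

namespace Groth.Agent.R2.H8.SkDiv

open Groth.Agent.Lib.Helper28 IsLocalRing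
open scoped Pointwise

section Local
variable {R : Type u} [CommRing R] [IsLocalRing R] [IsNoetherianRing R]

/-- depth drops by one modulo a regular element of the maximal ideal -/
theorem depth_quotient_span_singleton_add_one (x : R) (hx : x ∈ maximalIdeal R)
    (hreg : IsSMulRegular R x) [IsLocalRing (R ⧸ Ideal.span {x})] :
    LocCoh.depth (R ⧸ Ideal.span {x}) (R ⧸ Ideal.span {x}) + 1 = LocCoh.depth R R := by
  have hlochom : IsLocalHom (algebraMap R (R ⧸ Ideal.span {x})) :=
    IsLocalHom.of_surjective _ Ideal.Quotient.mk_surjective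
  rw [← depth_eq_depth_of_isLocalHom_of_finite (A := R) (B := R ⧸ Ideal.span {x})
    (M := R ⧸ Ideal.span {x})]
  have hI : (x • (⊤ : Submodule R R)) = Ideal.span {x} := by
    simp [← Submodule.ideal_span_singleton_smul]
  let e : QuotSMulTop x R ≃ₗ[R] (R ⧸ Ideal.span {x}) := Submodule.quotEquivOfEq _ _ hI
  unfold LocCoh.depth
  rw [← idealDepth_congr e]
  refine idealDepth_quotSMulTop_add_one (maximalIdeal R) R ?_ x hx hreg
  intro h
  have h1 : maximalIdeal R = ⊤ := by
    rw [smul_eq_mul, Ideal.mul_top] at h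
    exact h
  exact (maximalIdeal.isMaximal R).ne_top h1

theorem sk_pred_arith (k : ℕ) (D D' : WithBot ℕ∞) (e e' : ℕ∞) (hD : D' + 1 = D) (he : e' + 1 = e)
    (h : min (k : WithBot ℕ∞) D ≤ ((e : ℕ∞) : WithBot ℕ∞)) :
    min ((k - 1 : ℕ) : WithBot ℕ∞) D' ≤ ((e' : ℕ∞) : WithBot ℕ∞) := by
  subst hD he
  rcases k with _ | k
  · simp only [Nat.zero_sub, Nat.cast_zero]
    exact le_trans (min_le_left _ _) (by exact_mod_cast (zero_le : (0 : ℕ∞) ≤ e'))
  · simp only [Nat.add_sub_cancel]
    have h1 : min (k : WithBot ℕ∞) D' + 1 ≤ ((e' : ℕ∞) : WithBot ℕ∞) + 1 := by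
      rw [← min_add_add_right]
      push_cast at h
      exact h
    generalize ha : min (k : WithBot ℕ∞) D' = a at h1 ⊢
    have hak : a ≤ (k : WithBot ℕ∞) := ha ▸ min_le_left _ _
    induction a using WithBot.recBotCoe with
    | bot => exact bot_le
    | coe a =>
      induction e' using ENat.recTopCoe with
      | top => exact WithBot.coe_le_coe.mpr le_top
      | coe n =>
        have hak' : a ≤ (k : ℕ∞) := by exact_mod_cast hak
        lift a to ℕ using (ne_top_of_le_ne_top (ENat.natCast_ne_top k) hak')
        have h2 : (a + 1 : ℕ) ≤ n + 1 := by exact_mod_cast h1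
        exact_mod_cast (Nat.le_of_succ_le_succ h2)

/-- `(S_k)`-type inequality passes to the quotient by a regular element with `k - 1` -/
theorem sk_pred_quotient_local (k : ℕ) (x : R) (hx : x ∈ maximalIdeal R)
    (hreg : IsSMulRegular R x) [IsLocalRing (R ⧸ Ideal.span {x})]
    (h : min (k : WithBot ℕ∞) (ringKrullDim R) ≤ ((LocCoh.depth R R : ℕ∞) : WithBot ℕ∞)) :
    min ((k - 1 : ℕ) : WithBot ℕ∞) (ringKrullDim (R ⧸ Ideal.span {x})) ≤
      ((LocCoh.depth (R ⧸ Ideal.span {x}) (R ⧸ Ideal.span {x}) : ℕ∞) : WithBot ℕ∞) :=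
  sk_pred_arith k _ _ _ _ (ringKrullDim_quotient_span_singleton_succ_eq_ringKrullDim hreg hx)
    (depth_quotient_span_singleton_add_one x hx hreg) h

end Local

section Loc
variable {A : Type u} [CommRing A] [IsNoetherianRing A]

/-- the `(S_k)`-type inequality for `A_p` gives the `(S_{k-1})`-type one for `(A/(f))_q` -/
theorem sk_pred_localization_quotient (k : ℕ) (I : Ideal A) (f : A) (hf : f ∈ nonZeroDivisors A)
    (hI : I = Ideal.span {f}) (q : Ideal (A ⧸ I)) [q.IsPrime]
    (h : min (k : WithBot ℕ∞)
        (ringKrullDim (Localization.AtPrime (q.comap (Ideal.Quotient.mk I)))) ≤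
      ((LocCoh.depth (Localization.AtPrime (q.comap (Ideal.Quotient.mk I)))
        (Localization.AtPrime (q.comap (Ideal.Quotient.mk I))) : ℕ∞) : WithBot ℕ∞)) :
    min ((k - 1 : ℕ) : WithBot ℕ∞) (ringKrullDim (Localization.AtPrime q)) ≤
      ((LocCoh.depth (Localization.AtPrime q) (Localization.AtPrime q) : ℕ∞) : WithBot ℕ∞) := by
  subst hI
  set p : Ideal A := q.comap (Ideal.Quotient.mk (Ideal.span {f})) with hp
  set x : Localization.AtPrime p := algebraMap A (Localization.AtPrime p) f with hx
  have hfp : f ∈ p := by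
    rw [hp, Ideal.mem_comap, Ideal.Quotient.eq_zero_iff_mem.mpr (Ideal.mem_span_singleton_self f)]
    exact q.zero_mem
  have hxm : x ∈ IsLocalRing.maximalIdeal (Localization.AtPrime p) := by
    rw [← Localization.AtPrime.map_eq_maximalIdeal]
    exact Ideal.mem_map_of_mem _ hfp
  have hxreg : IsSMulRegular (Localization.AtPrime p) x := by
    apply Module.Flat.isSMulRegular_of_nonZeroDivisors
    exact IsLocalization.map_nonZeroDivisors_le p.primeCompl (Localization.AtPrime p)
      (Submonoid.mem_map_of_mem _ hf)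
  have hmapI : (Ideal.span ({f} : Set A)).map (algebraMap A (Localization.AtPrime p)) =
      Ideal.span {x} := by
    rw [Ideal.map_span, Set.image_singleton]
  let e1 : Localization.AtPrime q ≃+*
      (Localization.AtPrime p ⧸
        (Ideal.span ({f} : Set A)).map (algebraMap A (Localization.AtPrime p))) :=
    localizationQuotientEquiv (Ideal.span ({f} : Set A)) q
  let e2 : (Localization.AtPrime p ⧸
      (Ideal.span ({f} : Set A)).map (algebraMap A (Localization.AtPrime p))) ≃+*
      (Localization.AtPrime p ⧸ Ideal.span {x}) := Ideal.quotEquivOfEq hmapI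
  let e := e1.trans e2
  have hloc : IsLocalRing (Localization.AtPrime p ⧸ Ideal.span {x}) :=
    e.isLocalRing
  have hq := sk_pred_quotient_local k x hxm hxreg h
  rw [← ringKrullDim_eq_of_ringEquiv e, ← depth_self_eq_of_ringEquiv e] at hq
  exact hq

end Loc

end Groth.Agent.R2.H8.SkDiv
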