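import Groth.Prelude.Def_BlowUp2
import Groth.Prelude.Def_CAlg
import Mathlib
import Groth.Agent.R2.H8SkDiv
import Groth.Agent.Lib.Helper4Chart2

set_option autoImplicit false
set_option linter.style.haveILetI false
universe u
open CategoryTheory CategoryTheory.Limits AlgebraicGeometry TopologicalSpace

namespace Groth.Agent.R2.H8.SkDiv

open Groth.Agent.Lib.Helper28 Groth.Agent.Lib.Helper4.Chart

theorem sk_subscheme (X : Scheme.{u}) [IsLocallyNoetherian X] (k : ℕ)
    (hX : ∀ x : ↥X, min (k : WithBot ℕ∞) (ringKrullDim (X.presheaf.stalk x)) ≤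
      ((LocCoh.depth (X.presheaf.stalk x) (X.presheaf.stalk x) : ℕ∞) : WithBot ℕ∞))
    (𝓘 : X.IdealSheafData) (h𝓘 : BlowUp.IsEffCartierIdeal 𝓘) (d : ↥𝓘.subscheme) :
    min ((k - 1 : ℕ) : WithBot ℕ∞) (ringKrullDim (𝓘.subscheme.presheaf.stalk d)) ≤
      ((LocCoh.depth (𝓘.subscheme.presheaf.stalk d) (𝓘.subscheme.presheaf.stalk d) : ℕ∞) : WithBot ℕ∞) := by
  obtain ⟨U, hxU, f, hf, hIf⟩ := h𝓘 (𝓘.subschemeι d)
  haveI : IsOpenImmersion (𝓘.subschemeCover.f U) := 𝓘.subschemeCover.map_prop U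
  have hd : d ∈ (𝓘.subschemeCover.f U).opensRange := by
    rw [Scheme.IdealSheafData.opensRange_subschemeCover_map]
    exact hxU
  obtain ⟨y, rfl⟩ := hd
  haveI : IsNoetherianRing Γ(X, U.1) := IsLocallyNoetherian.component_noetherian U
  haveI : y.asIdeal.IsPrime := y.isPrime
  obtain ⟨e1⟩ := nonempty_stalkEquiv (𝓘.subschemeCover.f U) y
  let z : Spec Γ(X, U.1) := Spec.map (CommRingCat.ofHom (Ideal.Quotient.mk (𝓘.ideal U))) y
  have hU : IsAffineOpen U.1 := U.2
  have hz : hU.fromSpec z = 𝓘.subschemeι (𝓘.subschemeCover.f U y) := by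
    have h1 := 𝓘.subschemeCover_map_subschemeι U
    rw [Scheme.IdealSheafData.glueDataObjι_ι] at h1
    have h2 := congrArg (fun g => g.base y) h1
    exact h2.symm
  haveI : z.asIdeal.IsPrime := z.isPrime
  obtain ⟨e2⟩ := nonempty_stalkEquiv hU.fromSpec z
  have hX' := hX (hU.fromSpec z)
  let q : Ideal (Γ(X, U.1) ⧸ 𝓘.ideal U) := y.asIdeal
  haveI : q.IsPrime := y.isPrime
  have e1' : 𝓘.subscheme.presheaf.stalk (𝓘.subschemeCover.f U y) ≃+* Localization.AtPrime q := e1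
  haveI hN1 : IsNoetherianRing (Localization.AtPrime q) :=
    IsLocalization.isNoetherianRing q.primeCompl _ inferInstance
  haveI : IsNoetherianRing (𝓘.subscheme.presheaf.stalk (𝓘.subschemeCover.f U y)) :=
    isNoetherianRing_of_ringEquiv _ e1'.symm
  have e2' : X.presheaf.stalk (hU.fromSpec z) ≃+*
      Localization.AtPrime (q.comap (Ideal.Quotient.mk (𝓘.ideal U))) := e2
  rw [ringKrullDim_eq_of_ringEquiv e2', depth_self_eq_of_ringEquiv e2'] at hX'
  rw [ringKrullDim_eq_of_ringEquiv e1', depth_self_eq_of_ringEquiv e1']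
  exact sk_pred_localization_quotient k (𝓘.ideal U) f hf hIf q hX'

end Groth.Agent.R2.H8.SkDiv
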