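import Mathlib
import Groth.Prelude.Def_CurvBase
import Groth.Prelude.Def_CohB1
import Groth.Agent.Lib.Helper20ZClos4
import Groth.Agent.Lib.Helper2QCoh
import Groth.Agent.R2.H8GlueGeom

/-!
# Weakly associated points of quasi-coherent modules (helper8)

* `isWeakAssPoint_of_minimal`: on an affine open `A`, a section `μ` of the quasi-coherent module `F` and
  a prime `q` of `Γ(X, A)` at which `μ` has nonzero germ, minimal among such primes below `q`: the point
  of `q` is weakly associated to `F`.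
* `exists_weakAssPoint_germ_ne_zero`: a nonzero section has a nonzero germ at some weakly associated
  point.
-/

set_option autoImplicit false
set_option linter.style.haveILetI false
universe u

open CategoryTheory AlgebraicGeometry TopologicalSpace Opposite

namespace Groth.Agent.R2.H8.WeakAss

open Groth.Agent.Lib.Helper2.QCoh Groth.Agent.Lib.Helper20.ZClosLib

variable {X : Scheme.{u}}

theorem isWeakAssPoint_of_minimal {A : X.Opens} (hA : IsAffineOpen A) (F : X.Modules)
    [F.IsQuasicoherent] (μ : Γ(F, A)) (q : PrimeSpectrum Γ(X, A)) (hz : hA.fromSpec q ∈ A)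
    (hne : F.presheaf.germ A (hA.fromSpec q) hz μ ≠ 0)
    (hmin : ∀ q' : PrimeSpectrum Γ(X, A), q' ≤ q → ∀ hz' : hA.fromSpec q' ∈ A,
      F.presheaf.germ A (hA.fromSpec q') hz' μ ≠ 0 → q' = q) :
    Curv2.IsWeakAssPoint F (hA.fromSpec q) := by
  refine ⟨F.presheaf.germ A (hA.fromSpec q) hz μ, ?_⟩
  letI alg := X.presheaf.algebra_section_stalk ⟨hA.fromSpec q, hz⟩
  have loc : IsLocalization.AtPrime (X.presheaf.stalk (hA.fromSpec q)) q.asIdeal :=
    hA.isLocalization_stalk' q hz
  have halg : ∀ b : Γ(X, A), algebraMap Γ(X, A) (X.presheaf.stalk (hA.fromSpec q)) b =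
      X.presheaf.germ A (hA.fromSpec q) hz b := fun b => rfl
  have hI : LinearMap.ker (LinearMap.toSpanSingleton (X.presheaf.stalk (hA.fromSpec q))
      (F.presheaf.stalk (hA.fromSpec q)) (F.presheaf.germ A (hA.fromSpec q) hz μ)) ≠ ⊤ := by
    intro h
    apply hne
    have h1 : (1 : X.presheaf.stalk (hA.fromSpec q)) ∈ LinearMap.ker (LinearMap.toSpanSingleton
        (X.presheaf.stalk (hA.fromSpec q)) (F.presheaf.stalk (hA.fromSpec q))
        (F.presheaf.germ A (hA.fromSpec q) hz μ)) := by rw [h]; trivial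
    rw [LinearMap.mem_ker, LinearMap.toSpanSingleton_apply, one_smul] at h1
    exact h1
  apply le_antisymm
  · have h1 := IsLocalRing.le_maximalIdeal hI
    exact (Ideal.radical_mono h1).trans
      (IsLocalRing.maximalIdeal.isMaximal _).isPrime.radical.le
  · rw [Ideal.radical_eq_sInf]
    apply le_sInf
    rintro 𝔭 ⟨hI𝔭, h𝔭⟩
    have h𝔭c : (𝔭.comap (algebraMap Γ(X, A) (X.presheaf.stalk (hA.fromSpec q)))).IsPrime :=
      Ideal.comap_isPrime _ _
    let q' : PrimeSpectrum Γ(X, A) :=
      ⟨𝔭.comap (algebraMap Γ(X, A) (X.presheaf.stalk (hA.fromSpec q))), h𝔭c⟩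
    have hq'le : q' ≤ q := by
      intro b hb
      by_contra hbq
      have hu := (IsLocalization.AtPrime.isUnit_to_map_iff (X.presheaf.stalk (hA.fromSpec q))
        q.asIdeal b).2 hbq
      exact h𝔭.ne_top (Ideal.eq_top_of_isUnit_mem _ hb hu)
    have hz' : hA.fromSpec q' ∈ A := GlueGeom.fromSpec_mem hA q'
    have hne' : F.presheaf.germ A (hA.fromSpec q') hz' μ ≠ 0 := by
      intro h0
      obtain ⟨t, hzt, hts⟩ := exists_smul_eq_zero_of_germ_eq_zero hA F _ hz' μ h0
      rw [GlueGeom.fromSpec_mem_basicOpen_iff hA t q'] at hzt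
      apply hzt
      change algebraMap Γ(X, A) (X.presheaf.stalk (hA.fromSpec q)) t ∈ 𝔭
      apply hI𝔭
      rw [LinearMap.mem_ker, LinearMap.toSpanSingleton_apply, halg, ← germ_smul, hts, map_zero]
    have heq := hmin q' hq'le hz' hne'
    intro a ha
    obtain ⟨b, s, rfl⟩ := IsLocalization.exists_mk'_eq q.asIdeal.primeCompl a
    have hb : b ∈ q.asIdeal :=
      (IsLocalization.AtPrime.mk'_mem_maximal_iff (X.presheaf.stalk (hA.fromSpec q))
        q.asIdeal b s).1 ha
    have hb' : algebraMap Γ(X, A) (X.presheaf.stalk (hA.fromSpec q)) b ∈ 𝔭 := by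
      rw [← heq] at hb
      exact hb
    rw [IsLocalization.mk'_eq_mul_mk'_one]
    exact Ideal.mul_mem_right _ _ hb'

/-- affine version -/
theorem exists_weakAssPoint_germ_ne_zero_affine (F : X.Modules) [F.IsQuasicoherent]
    {A : X.Opens} (hA : IsAffineOpen A) (s : Γ(F, A)) (hs : s ≠ 0) :
    ∃ (z : X) (hz : z ∈ A), Curv2.IsWeakAssPoint F z ∧ F.presheaf.germ A z hz s ≠ 0 := by
  -- a minimal prime over the annihilator of `s`
  let J : Ideal Γ(X, A) := LinearMap.ker (LinearMap.toSpanSingleton Γ(X, A) Γ(F, A) s)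
  have hJ : J ≠ ⊤ := by
    intro h
    apply hs
    have h1 : (1 : Γ(X, A)) ∈ J := by rw [h]; trivial
    rw [LinearMap.mem_ker, LinearMap.toSpanSingleton_apply, one_smul] at h1
    exact h1
  obtain ⟨M, hM, hJM⟩ := Ideal.exists_le_maximal J hJ
  obtain ⟨P, hP, -⟩ := Ideal.exists_minimalPrimes_le (J := M) hJM
  have hPprime : P.IsPrime := hP.1.1
  let q : PrimeSpectrum Γ(X, A) := ⟨P, hPprime⟩
  have hzA : hA.fromSpec q ∈ A := GlueGeom.fromSpec_mem hA q
  -- germs of `s` at primes containing `J`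
  have key : ∀ (q' : PrimeSpectrum Γ(X, A)) (hz' : hA.fromSpec q' ∈ A),
      F.presheaf.germ A (hA.fromSpec q') hz' s ≠ 0 ↔ J ≤ q'.asIdeal := by
    intro q' hz'
    constructor
    · intro hne t ht
      by_contra htq
      apply hne
      have hu : IsUnit (X.presheaf.germ A (hA.fromSpec q') hz' t) := by
        rw [← Scheme.mem_basicOpen X t _ hz', GlueGeom.fromSpec_mem_basicOpen_iff hA t q']
        exact htq
      have h0 : X.presheaf.germ A (hA.fromSpec q') hz' t •
          F.presheaf.germ A (hA.fromSpec q') hz' s = 0 := by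
        rw [← germ_smul]
        have : t • s = 0 := by
          have := ht
          rwa [LinearMap.mem_ker, LinearMap.toSpanSingleton_apply] at this
        rw [this, map_zero]
      exact germ_smul_eq_zero_of_isUnit hu h0
    · intro hle h0
      obtain ⟨t, hzt, hts⟩ := exists_smul_eq_zero_of_germ_eq_zero hA F _ hz' s h0
      rw [GlueGeom.fromSpec_mem_basicOpen_iff hA t q'] at hzt
      apply hzt
      apply hle
      rw [LinearMap.mem_ker, LinearMap.toSpanSingleton_apply]
      exact hts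
  have hne : F.presheaf.germ A (hA.fromSpec q) hzA s ≠ 0 := (key q hzA).2 hP.1.2
  refine ⟨hA.fromSpec q, hzA, ?_, hne⟩
  apply isWeakAssPoint_of_minimal hA F s q hzA hne
  intro q' hq'le hz' hne'
  have h1 : J ≤ q'.asIdeal := (key q' hz').1 hne'
  have h2 : P ≤ q'.asIdeal := hP.2 ⟨q'.isPrime, h1⟩ hq'le
  exact PrimeSpectrum.ext (le_antisymm hq'le h2)

/-- a nonzero section of a quasi-coherent module has a nonzero germ at some weakly associated point. -/
theorem exists_weakAssPoint_germ_ne_zero (F : X.Modules) [F.IsQuasicoherent] {V : X.Opens}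
    (s : Γ(F, V)) (hs : s ≠ 0) :
    ∃ (z : X) (hz : z ∈ V), Curv2.IsWeakAssPoint F z ∧ F.presheaf.germ V z hz s ≠ 0 := by
  have hex : ∃ (y : X) (hy : y ∈ V), F.presheaf.germ V y hy s ≠ 0 := by
    by_contra hcon
    apply hs
    apply eq_zero_of_germ_eq_zero F s
    intro y hy
    by_contra hg
    exact hcon ⟨y, hy, hg⟩
  obtain ⟨y, hy, hgy⟩ := hex
  obtain ⟨_, ⟨A, hA, rfl⟩, hyA, hAV⟩ :=
    X.isBasis_affineOpens.exists_subset_of_mem_open hy V.isOpen
  have hA : IsAffineOpen A := hA
  have hAV : A ≤ V := hAV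
  have hs' : F.presheaf.map (homOfLE hAV).op s ≠ 0 := by
    intro h0
    apply hgy
    rw [← TopCat.Presheaf.germ_res_apply F.presheaf (homOfLE hAV) y hyA s, h0, map_zero]
  obtain ⟨z, hzA, hz, hgz⟩ := exists_weakAssPoint_germ_ne_zero_affine F hA _ hs'
  refine ⟨z, hAV hzA, hz, ?_⟩
  rwa [TopCat.Presheaf.germ_res_apply] at hgz

end Groth.Agent.R2.H8.WeakAss
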