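import Mathlib
import Groth.Prelude.Def_CurvBase
import Groth.Prelude.Def_CohB1
import Groth.Agent.Lib.Helper2QcPush
import Groth.Agent.Lib.Helper2Push
import Groth.Agent.Lib.Helper23QCohLocal
import Groth.Agent.Lib.Helper23AssAffine
import Groth.Agent.R2.H8WeakAss

/-!
# (Weakly) associated points of pushforwards along affine morphisms (helper8)

* `isAssPoint_iff_isWeakAssPoint` : with Mathlib's (radical) definition of associated primes, the two
  prelude notions coincide.
* `exists_weakAss_of_pushforward` : `f` affine, `F` quasi-coherent: `WeakAss(f_* F) ⊆ f(WeakAss F)`.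
* `isWeakAssPoint_pushforward_of_isAssPoint` : `X` locally Noetherian: `f(Ass F) ⊆ WeakAss(f_* F)`.
-/

set_option autoImplicit false
set_option linter.style.haveILetI false
universe u

open CategoryTheory AlgebraicGeometry TopologicalSpace Opposite

namespace Groth.Agent.R2.H8.WeakAssPush

open Groth.Agent.Lib.Helper2.QCoh Groth.Agent.Lib.Helper2.QcPush Groth.Agent.Lib.Helper2.Push
  Groth.Agent.R2.H8.WeakAss

variable {X S : Scheme.{u}}

theorem colon_bot_singleton {R M : Type*} [CommRing R] [AddCommGroup M] [Module R M] (y : M) :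
    (⊥ : Submodule R M).colon {y} = LinearMap.ker (LinearMap.toSpanSingleton R M y) := by
  ext a
  rw [Submodule.mem_colon_singleton, Submodule.mem_bot, LinearMap.mem_ker,
    LinearMap.toSpanSingleton_apply]

theorem isAssPoint_iff_isWeakAssPoint (F : X.Modules) (x : X) :
    Curv2.IsAssPoint F x ↔ Curv2.IsWeakAssPoint F x := by
  constructor
  · rintro ⟨-, y, hy⟩
    exact ⟨y, by rw [← colon_bot_singleton]; exact hy.symm⟩
  · rintro ⟨y, hy⟩
    refine ⟨(IsLocalRing.maximalIdeal.isMaximal _).isPrime, y, ?_⟩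
    rw [colon_bot_singleton]
    exact hy.symm

/-- the germ of a section at a prime is nonzero iff the prime contains the annihilator. -/
theorem germ_ne_zero_iff {A : X.Opens} (hA : IsAffineOpen A) (F : X.Modules) [F.IsQuasicoherent]
    (s : Γ(F, A)) (q' : PrimeSpectrum Γ(X, A)) (hz' : hA.fromSpec q' ∈ A) :
    F.presheaf.germ A (hA.fromSpec q') hz' s ≠ 0 ↔
      LinearMap.ker (LinearMap.toSpanSingleton Γ(X, A) Γ(F, A) s) ≤ q'.asIdeal := by
  constructor
  · intro hne t ht
    by_contra htq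
    apply hne
    have hu : IsUnit (X.presheaf.germ A (hA.fromSpec q') hz' t) := by
      rw [← Scheme.mem_basicOpen X t _ hz', GlueGeom.fromSpec_mem_basicOpen_iff hA t q']
      exact htq
    have h0 : X.presheaf.germ A (hA.fromSpec q') hz' t •
        F.presheaf.germ A (hA.fromSpec q') hz' s = 0 := by
      rw [← germ_smul]
      have : t • s = 0 := by
        have := ht
        rwa [LinearMap.mem_ker, LinearMap.toSpanSingleton_apply] at this
      rw [this, map_zero]
    exact germ_smul_eq_zero_of_isUnit hu h0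
  · intro hle h0
    obtain ⟨t, hzt, hts⟩ := exists_smul_eq_zero_of_germ_eq_zero hA F _ hz' s h0
    rw [GlueGeom.fromSpec_mem_basicOpen_iff hA t q'] at hzt
    apply hzt
    apply hle
    rw [LinearMap.mem_ker, LinearMap.toSpanSingleton_apply]
    exact hts

/-- `WeakAss(f_* F) ⊆ f(WeakAss F)` for an affine morphism. -/
theorem exists_weakAss_of_pushforward (f : X ⟶ S) [IsAffineHom f] (F : X.Modules)
    [F.IsQuasicoherent] (s : S)
    (hs : Curv2.IsWeakAssPoint ((Scheme.Modules.pushforward f).obj F) s) :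
    ∃ x : X, f x = s ∧ Curv2.IsWeakAssPoint F x := by
  classical
  have hG : ((Scheme.Modules.pushforward f).obj F).IsQuasicoherent :=
    Groth.Agent.Lib.Helper23.QCohLocal.isQuasicoherent_pushforward f F
  obtain ⟨n, hn⟩ := hs
  obtain ⟨V', hsV', t, rfl⟩ := TopCat.Presheaf.exists_germ_eq
    ((Scheme.Modules.pushforward f).obj F).presheaf n
  obtain ⟨_, ⟨V, hV, rfl⟩, hsV, hVV'⟩ :=
    S.isBasis_affineOpens.exists_subset_of_mem_open hsV' V'.2
  have hV : IsAffineOpen V := hV
  have hVV'' : V ≤ V' := hVV'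
  have hgm : ((Scheme.Modules.pushforward f).obj F).presheaf.germ V s hsV
      (((Scheme.Modules.pushforward f).obj F).presheaf.map (homOfLE hVV'').op t) =
      ((Scheme.Modules.pushforward f).obj F).presheaf.germ V' s hsV' t :=
    TopCat.Presheaf.germ_res_apply _ (homOfLE hVV'') s hsV t
  rw [← hgm] at hn
  generalize ((Scheme.Modules.pushforward f).obj F).presheaf.map (homOfLE hVV'').op t = m at hn
  obtain ⟨p, hp⟩ : ∃ p : PrimeSpectrum Γ(S, V), hV.fromSpec p = s :=
    ⟨_, hV.fromSpec_primeIdealOf ⟨s, hsV⟩⟩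
  subst hp
  have hU : IsAffineOpen (f ⁻¹ᵁ V) := hV.preimage f
  let μ : Γ(F, f ⁻¹ᵁ V) := m
  -- germ facts on `S`
  have hgne : ((Scheme.Modules.pushforward f).obj F).presheaf.germ V (hV.fromSpec p) hsV m ≠ 0 := by
    intro h0
    have h1 : (1 : S.presheaf.stalk (hV.fromSpec p)) ∈
        IsLocalRing.maximalIdeal (S.presheaf.stalk (hV.fromSpec p)) := by
      rw [← hn]
      apply Ideal.le_radical
      rw [LinearMap.mem_ker, LinearMap.toSpanSingleton_apply, h0, smul_zero]
    exact (Ideal.ne_top_iff_one _).1 (IsLocalRing.maximalIdeal.isMaximal _).ne_top h1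
  have hsmul : ∀ r : Γ(S, V), r • m = 0 ↔ (f.app V r) • μ = 0 := fun r => Iff.rfl
  -- `p` is minimal over the annihilator of `m` in `Γ(S, V)`
  have hmin : p.asIdeal ∈ (Ideal.comap (f.app V).hom (LinearMap.ker (LinearMap.toSpanSingleton
      Γ(X, f ⁻¹ᵁ V) Γ(F, f ⁻¹ᵁ V) μ) : Ideal Γ(X, f ⁻¹ᵁ V))).minimalPrimes := by
    refine ⟨⟨p.isPrime, ?_⟩, ?_⟩
    · intro r hr
      rw [Ideal.mem_comap, LinearMap.mem_ker, LinearMap.toSpanSingleton_apply] at hr
      have hr' : r • m = 0 := (hsmul r).2 hr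
      exact ((germ_ne_zero_iff hV _ m p hsV).1 hgne)
        (by rw [LinearMap.mem_ker, LinearMap.toSpanSingleton_apply]; exact hr')
    · rintro p' ⟨hp'prime, hJp'⟩ hp'le b hb
      letI alg := S.presheaf.algebra_section_stalk ⟨hV.fromSpec p, hsV⟩
      have loc : IsLocalization.AtPrime (S.presheaf.stalk (hV.fromSpec p)) p.asIdeal :=
        hV.isLocalization_stalk' p hsV
      have hbm : S.presheaf.germ V (hV.fromSpec p) hsV b ∈
          IsLocalRing.maximalIdeal (S.presheaf.stalk (hV.fromSpec p)) :=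
        (IsLocalization.AtPrime.to_map_mem_maximal_iff (S.presheaf.stalk (hV.fromSpec p))
          p.asIdeal b).2 hb
      rw [← hn] at hbm
      obtain ⟨k, hk⟩ := hbm
      rw [LinearMap.mem_ker, LinearMap.toSpanSingleton_apply, ← map_pow, ← germ_smul] at hk
      obtain ⟨u, hzu, hu⟩ := exists_smul_eq_zero_of_germ_eq_zero hV _ _ hsV _ hk
      rw [GlueGeom.fromSpec_mem_basicOpen_iff hV u p] at hzu
      have hmem : u * b ^ k ∈ p' := by
        apply hJp'
        rw [Ideal.mem_comap, LinearMap.mem_ker, LinearMap.toSpanSingleton_apply]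
        rw [← hsmul, mul_smul]
        exact hu
      rcases hp'prime.mem_or_mem hmem with h | h
      · exact absurd (hp'le h) hzu
      · exact hp'prime.mem_of_pow_mem k h
  obtain ⟨Q, hQ, hQcomap⟩ := Ideal.exists_minimalPrimes_comap_eq (f.app V).hom p.asIdeal hmin
  have hQprime : Q.IsPrime := hQ.1.1
  let q : PrimeSpectrum Γ(X, f ⁻¹ᵁ V) := ⟨Q, hQprime⟩
  have hzq : hU.fromSpec q ∈ f ⁻¹ᵁ V := GlueGeom.fromSpec_mem hU q
  refine ⟨hU.fromSpec q, ?_, ?_⟩
  · rw [map_fromSpec_le f hV hU le_rfl q]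
    congr 1
    apply PrimeSpectrum.ext
    change Q.comap (f.appLE V (f ⁻¹ᵁ V) le_rfl).hom = p.asIdeal
    rw [← hQcomap, Scheme.Hom.appLE_eq_app]
  · have hne : F.presheaf.germ (f ⁻¹ᵁ V) (hU.fromSpec q) hzq μ ≠ 0 :=
      (germ_ne_zero_iff hU F μ q hzq).2 hQ.1.2
    apply isWeakAssPoint_of_minimal hU F μ q hzq hne
    intro q' hq'le hz' hne'
    have h1 := (germ_ne_zero_iff hU F μ q' hz').1 hne'
    have h2 : Q ≤ q'.asIdeal := hQ.2 ⟨q'.isPrime, h1⟩ hq'le
    exact PrimeSpectrum.ext (le_antisymm hq'le h2)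

/-- `f(Ass F) ⊆ WeakAss(f_* F)` for an affine morphism from a locally Noetherian scheme. -/
theorem isWeakAssPoint_pushforward_of_isAssPoint [IsLocallyNoetherian X] (f : X ⟶ S) [IsAffineHom f]
    (F : X.Modules) [F.IsQuasicoherent] (x : X) (hx : Curv2.IsAssPoint F x) :
    Curv2.IsWeakAssPoint ((Scheme.Modules.pushforward f).obj F) (f x) := by
  classical
  have hG : ((Scheme.Modules.pushforward f).obj F).IsQuasicoherent :=
    Groth.Agent.Lib.Helper23.QCohLocal.isQuasicoherent_pushforward f F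
  obtain ⟨_, ⟨V, hV, rfl⟩, hsV, -⟩ :=
    S.isBasis_affineOpens.exists_subset_of_mem_open (Set.mem_univ (f x)) isOpen_univ
  have hV : IsAffineOpen V := hV
  have hU : IsAffineOpen (f ⁻¹ᵁ V) := hV.preimage f
  have hxU : x ∈ f ⁻¹ᵁ V := hsV
  have : IsNoetherianRing Γ(X, f ⁻¹ᵁ V) :=
    IsLocallyNoetherian.component_noetherian ⟨f ⁻¹ᵁ V, hU⟩
  have hass := (Groth.Agent.Lib.Helper23.AssAffine.isAssPoint_iff_mem_associatedPrimes hU F x hxU).1 hx
  obtain ⟨-, μ, hμ⟩ := (isAssociatedPrime_iff).1 hass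
  rw [colon_bot_singleton] at hμ
  obtain ⟨q, hq⟩ : ∃ q : PrimeSpectrum Γ(X, f ⁻¹ᵁ V), hU.fromSpec q = x :=
    ⟨_, hU.fromSpec_primeIdealOf ⟨x, hxU⟩⟩
  have hqx : hU.primeIdealOf ⟨x, hxU⟩ = q := by
    apply hU.fromSpec.isOpenEmbedding.injective
    rw [hU.fromSpec_primeIdealOf ⟨x, hxU⟩, hq]
  rw [hqx] at hμ
  subst hq
  rw [map_fromSpec_le f hV hU le_rfl q]
  let m : Γ((Scheme.Modules.pushforward f).obj F, V) := μ
  have hsmul : ∀ r : Γ(S, V), r • m = 0 ↔ (f.app V r) • μ = 0 := fun r => Iff.rfl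
  have hann : ∀ r : Γ(S, V), r • m = 0 ↔ r ∈ (q.comap (f.appLE V (f ⁻¹ᵁ V) le_rfl).hom).asIdeal := by
    intro r
    rw [hsmul]
    change _ ↔ (f.appLE V (f ⁻¹ᵁ V) le_rfl).hom r ∈ q.asIdeal
    rw [hμ, LinearMap.mem_ker, LinearMap.toSpanSingleton_apply, Scheme.Hom.appLE_eq_app]
  have hz : hV.fromSpec (q.comap (f.appLE V (f ⁻¹ᵁ V) le_rfl).hom) ∈ V := GlueGeom.fromSpec_mem hV _
  have hne : ((Scheme.Modules.pushforward f).obj F).presheaf.germ V _ hz m ≠ 0 := by
    rw [germ_ne_zero_iff hV _ m _ hz]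
    intro r hr
    rw [LinearMap.mem_ker, LinearMap.toSpanSingleton_apply] at hr
    exact (hann r).1 hr
  apply isWeakAssPoint_of_minimal hV _ m _ hz hne
  intro q' hq'le hz' hne'
  have h1 := (germ_ne_zero_iff hV _ m q' hz').1 hne'
  have h2 : (q.comap (f.appLE V (f ⁻¹ᵁ V) le_rfl).hom).asIdeal ≤ q'.asIdeal := by
    intro r hr
    apply h1
    rw [LinearMap.mem_ker, LinearMap.toSpanSingleton_apply]
    exact (hann r).2 hr
  exact PrimeSpectrum.ext (le_antisymm hq'le h2)

end Groth.Agent.R2.H8.WeakAssPush
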