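import Mathlib

/-!
# Polynomials cutting out finite subgroups of `𝔾_a` and `𝔾_m` over a field (helper90)

Pure algebra used for S15180.  Let `B` be a finite `K`-algebra generated by one element `b`
(a power basis `pb` with `pb.gen = b`) and `P` the minimal polynomial of `b`.
* `aeval_add`: if `P (b ⊗ 1 + 1 ⊗ b) = 0` in `B ⊗ B` then `P` is additive: `P (x + y) = P x + P y`
  in every `K`-algebra.
* `minpoly_eq_X_pow_sub_one`: if `b` is a unit and `P (b ⊗ b) = 0` then `P = X ^ d - 1`.
* `compRingHom_flat`, `compRingHom_comap_surjective`: for `P` monic of positive degree,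
  `Q ↦ Q ∘ P` is a faithfully flat endomorphism of `K[X]`.
-/

set_option autoImplicit false
set_option linter.style.haveILetI false
set_option linter.unusedSectionVars false
open Polynomial TensorProduct

namespace Groth.Agent.R2.H90.AddPoly

section Taylor

variable {K C : Type*} [CommRing K] [CommRing C] [Algebra K C]

omit [Algebra K C] in
theorem hasseDeriv_map' (k : ℕ) (P : K[X]) (f : K →+* C) :
    hasseDeriv k (P.map f) = (hasseDeriv k P).map f := by
  ext n
  rw [hasseDeriv_coeff, coeff_map, coeff_map, hasseDeriv_coeff, map_mul, map_natCast]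

theorem aeval_add_eq_sum (P : K[X]) (x y : C) :
    aeval (x + y) P =
      ∑ k ∈ Finset.range (P.natDegree + 1), aeval x (hasseDeriv k P) * y ^ k := by
  have h1 : aeval (x + y) P = eval y (taylor x (P.map (algebraMap K C))) := by
    rw [taylor_eval, add_comm, aeval_def, eval₂_eq_eval_map]
  have h2 : (taylor x (P.map (algebraMap K C))).natDegree < P.natDegree + 1 := by
    rw [natDegree_taylor]
    exact Nat.lt_succ_of_le natDegree_map_le
  rw [h1, eval_eq_sum_range' h2]
  refine Finset.sum_congr rfl (fun k _ => ?_)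
  rw [taylor_coeff, hasseDeriv_map', aeval_def, eval₂_eq_eval_map]

end Taylor

section PB

variable {K B : Type*} [Field K] [CommRing B] [Algebra K B] (pb : PowerBasis K B)

theorem coord_pow (j : Fin pb.dim) (k : ℕ) (hk : k < pb.dim) :
    pb.basis.coord j (pb.gen ^ k) = if (j : ℕ) = k then 1 else 0 := by
  have h1 : pb.gen ^ k = pb.basis ⟨k, hk⟩ := by rw [pb.basis_eq_pow]
  rw [h1, Module.Basis.coord_apply, Module.Basis.repr_self, Finsupp.single_apply]
  by_cases h : (j : ℕ) = k
  · have : (⟨k, hk⟩ : Fin pb.dim) = j := Fin.ext h.symm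
    rw [if_pos this, if_pos h]
  · have : ¬ (⟨k, hk⟩ : Fin pb.dim) = j := fun e => h (by rw [← e])
    rw [if_neg this, if_neg h]

theorem gen_pow_dim :
    pb.gen ^ pb.dim = - ∑ i ∈ Finset.range pb.dim, (minpoly K pb.gen).coeff i • pb.gen ^ i := by
  have hm : (minpoly K pb.gen).Monic := minpoly.monic pb.isIntegral_gen
  have h1 := hm.as_sum
  rw [pb.natDegree_minpoly] at h1
  have h2 := minpoly.aeval K pb.gen
  rw [h1, map_add, map_pow, aeval_X, map_sum] at h2
  rw [eq_neg_iff_add_eq_zero, ← h2]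
  congr 1
  refine Finset.sum_congr rfl (fun i _ => ?_)
  rw [map_mul, aeval_C, map_pow, aeval_X, Algebra.smul_def]

theorem coord_pow_dim (j : Fin pb.dim) :
    pb.basis.coord j (pb.gen ^ pb.dim) = - (minpoly K pb.gen).coeff j := by
  rw [gen_pow_dim, map_neg, map_sum]
  congr 1
  have : ∀ i ∈ Finset.range pb.dim,
      pb.basis.coord j ((minpoly K pb.gen).coeff i • pb.gen ^ i) =
      if (j : ℕ) = i then (minpoly K pb.gen).coeff i else 0 := by
    intro i hi
    rw [map_smul, coord_pow pb j i (Finset.mem_range.mp hi), smul_eq_mul, mul_ite, mul_one,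
      mul_zero]
  rw [Finset.sum_congr rfl this, Finset.sum_ite_eq, if_pos (Finset.mem_range.mpr j.2)]

/-- the functional `c ⊗ v ↦ coord_j(v) • c`. -/
noncomputable def Lam (j : Fin pb.dim) : B ⊗[K] B →ₗ[K] B :=
  (TensorProduct.rid K B).toLinearMap ∘ₗ LinearMap.lTensor B (pb.basis.coord j)

theorem Lam_tmul (j : Fin pb.dim) (c v : B) : Lam pb j (c ⊗ₜ[K] v) = pb.basis.coord j v • c := by
  simp [Lam]

/-- key extraction: if `Σ_{k ≤ d} c_k ⊗ gen^k = 0` then `c_j = a_j • c_d` for `j < d`. -/
theorem extract (c : ℕ → B)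
    (h : ∑ k ∈ Finset.range (pb.dim + 1), c k ⊗ₜ[K] (pb.gen ^ k) = 0) (j : Fin pb.dim) :
    c j = (minpoly K pb.gen).coeff j • c pb.dim := by
  have h1 := congrArg (Lam pb j) h
  rw [map_zero, map_sum, Finset.sum_range_succ, Lam_tmul, coord_pow_dim] at h1
  have h2 : ∀ k ∈ Finset.range pb.dim, Lam pb j (c k ⊗ₜ[K] (pb.gen ^ k)) =
      if (j : ℕ) = k then c k else 0 := by
    intro k hk
    rw [Lam_tmul, coord_pow pb j k (Finset.mem_range.mp hk), ite_smul, one_smul, zero_smul]
  rw [Finset.sum_congr rfl h2, Finset.sum_ite_eq, if_pos (Finset.mem_range.mpr j.2), neg_smul,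
    ← sub_eq_add_neg, sub_eq_zero] at h1
  exact h1

theorem hasseDeriv_dim : hasseDeriv pb.dim (minpoly K pb.gen) = C 1 := by
  have hm : (minpoly K pb.gen).Monic := minpoly.monic pb.isIntegral_gen
  have := hasseDeriv_natDegree_eq_C (f := minpoly K pb.gen)
  rw [pb.natDegree_minpoly, hm.leadingCoeff] at this
  exact this

theorem expand
    (h : aeval (pb.gen ⊗ₜ[K] (1 : B) + (1 : B) ⊗ₜ[K] pb.gen) (minpoly K pb.gen) = 0) :
    ∑ k ∈ Finset.range (pb.dim + 1),
      (aeval pb.gen (hasseDeriv k (minpoly K pb.gen))) ⊗ₜ[K] (pb.gen ^ k) = 0 := by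
  have hd := pb.natDegree_minpoly
  rw [aeval_add_eq_sum, hd] at h
  have h1 : ∀ k ∈ Finset.range (pb.dim + 1),
      aeval (pb.gen ⊗ₜ[K] (1 : B)) (hasseDeriv k (minpoly K pb.gen)) *
        ((1 : B) ⊗ₜ[K] pb.gen) ^ k =
      (aeval pb.gen (hasseDeriv k (minpoly K pb.gen))) ⊗ₜ[K] (pb.gen ^ k) := by
    intro k _
    have e1 : pb.gen ⊗ₜ[K] (1 : B) =
        (Algebra.TensorProduct.includeLeft : B →ₐ[K] B ⊗[K] B) pb.gen := rfl
    rw [e1, aeval_algHom_apply, Algebra.TensorProduct.includeLeft_apply,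
      Algebra.TensorProduct.tmul_pow, one_pow, Algebra.TensorProduct.tmul_mul_tmul, mul_one,
      one_mul]
  rw [Finset.sum_congr rfl h1] at h
  exact h

theorem hasseDeriv_minpoly_eq_C
    (h : aeval (pb.gen ⊗ₜ[K] (1 : B) + (1 : B) ⊗ₜ[K] pb.gen) (minpoly K pb.gen) = 0)
    (j : ℕ) (hj1 : 1 ≤ j) (hj : j < pb.dim) :
    hasseDeriv j (minpoly K pb.gen) = C ((minpoly K pb.gen).coeff j) := by
  have hd := pb.natDegree_minpoly
  have h2 := extract pb (fun k => aeval pb.gen (hasseDeriv k (minpoly K pb.gen)))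
    (expand pb h) ⟨j, hj⟩
  simp only at h2
  rw [hasseDeriv_dim, aeval_C, map_one] at h2
  have h4 : aeval pb.gen
      (hasseDeriv j (minpoly K pb.gen) - C ((minpoly K pb.gen).coeff j)) = 0 := by
    rw [map_sub, aeval_C, h2, Algebra.algebraMap_eq_smul_one, sub_self]
  have h5 := minpoly.dvd K pb.gen h4
  have h6 : (hasseDeriv j (minpoly K pb.gen) - C ((minpoly K pb.gen).coeff j)).natDegree <
      (minpoly K pb.gen).natDegree := by
    refine lt_of_le_of_lt (natDegree_sub_le _ _) ?_
    rw [natDegree_C, max_eq_left (Nat.zero_le _)]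
    refine lt_of_le_of_lt (natDegree_hasseDeriv_le _ _) ?_
    rw [hd]
    omega
  exact sub_eq_zero.mp (eq_zero_of_dvd_of_natDegree_lt h5 h6)

theorem coeff_zero_eq_zero [Nontrivial B]
    (h : aeval (pb.gen ⊗ₜ[K] (1 : B) + (1 : B) ⊗ₜ[K] pb.gen) (minpoly K pb.gen) = 0) :
    (minpoly K pb.gen).coeff 0 = 0 := by
  have hpos : 0 < pb.dim := pb.dim_pos
  have h2 := extract pb (fun k => aeval pb.gen (hasseDeriv k (minpoly K pb.gen))) (expand pb h)
    ⟨0, hpos⟩
  simp only at h2
  rw [hasseDeriv_dim, aeval_C, map_one, hasseDeriv_zero', minpoly.aeval,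
    ← Algebra.algebraMap_eq_smul_one] at h2
  exact (FaithfulSMul.algebraMap_injective K B) (by rw [← h2, map_zero])

/-- **The minimal polynomial of a generator of a finite subgroup of `𝔾_a` is additive.** -/
theorem aeval_add [Nontrivial B]
    (h : aeval (pb.gen ⊗ₜ[K] (1 : B) + (1 : B) ⊗ₜ[K] pb.gen) (minpoly K pb.gen) = 0)
    {C : Type*} [CommRing C] [Algebra K C] (x y : C) :
    aeval (x + y) (minpoly K pb.gen) =
      aeval x (minpoly K pb.gen) + aeval y (minpoly K pb.gen) := by
  have hm : (minpoly K pb.gen).Monic := minpoly.monic pb.isIntegral_gen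
  have hd := pb.natDegree_minpoly
  have h0 := coeff_zero_eq_zero pb h
  rw [aeval_add_eq_sum, aeval_eq_sum_range (p := minpoly K pb.gen) y, hd]
  have key : ∀ k ∈ Finset.range (pb.dim + 1),
      aeval x (hasseDeriv k (minpoly K pb.gen)) * y ^ k =
      (if k = 0 then aeval x (minpoly K pb.gen) else 0) + (minpoly K pb.gen).coeff k • y ^ k := by
    intro k hk
    have hk' : k ≤ pb.dim := Nat.lt_succ_iff.mp (Finset.mem_range.mp hk)
    by_cases hk0 : k = 0
    · subst hk0
      rw [if_pos rfl, hasseDeriv_zero', pow_zero, mul_one, h0, zero_smul, add_zero]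
    · rw [if_neg hk0, zero_add]
      rcases lt_or_eq_of_le hk' with hlt | heq
      · rw [hasseDeriv_minpoly_eq_C pb h k (Nat.one_le_iff_ne_zero.mpr hk0) hlt, aeval_C,
          Algebra.smul_def]
      · subst heq
        rw [hasseDeriv_dim, aeval_C, map_one, one_mul, ← hd, hm.coeff_natDegree, one_smul]
  rw [Finset.sum_congr rfl key, Finset.sum_add_distrib, Finset.sum_ite_eq',
    if_pos (Finset.mem_range.mpr (Nat.succ_pos _))]

theorem coeff_zero_ne_zero_of_isUnit [Nontrivial B] (hu : IsUnit pb.gen) :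
    (minpoly K pb.gen).coeff 0 ≠ 0 := by
  intro h0
  have hd := pb.natDegree_minpoly
  have h1 := divX_mul_X_add (minpoly K pb.gen)
  rw [h0, C_0, add_zero] at h1
  have h2 := minpoly.aeval K pb.gen
  rw [← h1, map_mul, aeval_X] at h2
  have h3 : aeval pb.gen (divX (minpoly K pb.gen)) = 0 := by
    have := congrArg (· * (hu.unit⁻¹ : Bˣ).val) h2
    simpa [mul_assoc] using this
  have h4 := minpoly.dvd K pb.gen h3
  have h5 : (divX (minpoly K pb.gen)).natDegree < (minpoly K pb.gen).natDegree := by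
    rw [natDegree_divX_eq_natDegree_tsub_one, hd]
    have := pb.dim_pos
    omega
  have h6 := eq_zero_of_dvd_of_natDegree_lt h4 h5
  rw [h6, zero_mul] at h1
  exact minpoly.ne_zero pb.isIntegral_gen h1.symm

theorem gen_pow_dim_eq_one [Nontrivial B] (hu : IsUnit pb.gen)
    (h : aeval (pb.gen ⊗ₜ[K] pb.gen) (minpoly K pb.gen) = 0) : pb.gen ^ pb.dim = 1 := by
  have hm : (minpoly K pb.gen).Monic := minpoly.monic pb.isIntegral_gen
  have hd := pb.natDegree_minpoly
  rw [aeval_eq_sum_range, hd] at h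
  have h1 : ∀ k ∈ Finset.range (pb.dim + 1),
      (minpoly K pb.gen).coeff k • (pb.gen ⊗ₜ[K] pb.gen) ^ k =
      ((minpoly K pb.gen).coeff k • pb.gen ^ k) ⊗ₜ[K] (pb.gen ^ k) := by
    intro k _
    rw [Algebra.TensorProduct.tmul_pow, TensorProduct.smul_tmul']
  rw [Finset.sum_congr rfl h1] at h
  have h2 := extract pb (fun k => (minpoly K pb.gen).coeff k • pb.gen ^ k) h ⟨0, pb.dim_pos⟩
  simp only [pow_zero] at h2
  rw [← hd, hm.coeff_natDegree, one_smul, hd] at h2
  have h3 := coeff_zero_ne_zero_of_isUnit pb hu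
  have h4 := congrArg (fun z => ((minpoly K pb.gen).coeff 0)⁻¹ • z) h2
  simp only [smul_smul, inv_mul_cancel₀ h3, one_smul] at h4
  exact h4.symm

/-- **The minimal polynomial of a generator of a finite subgroup of `𝔾_m` is `X ^ d - 1`.** -/
theorem minpoly_eq_X_pow_sub_one [Nontrivial B] (hu : IsUnit pb.gen)
    (h : aeval (pb.gen ⊗ₜ[K] pb.gen) (minpoly K pb.gen) = 0) :
    minpoly K pb.gen = X ^ pb.dim - 1 := by
  have hm : (minpoly K pb.gen).Monic := minpoly.monic pb.isIntegral_gen
  have hd := pb.natDegree_minpoly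
  have hpos := pb.dim_pos
  have h1 : aeval pb.gen (X ^ pb.dim - 1 : K[X]) = 0 := by
    rw [map_sub, map_pow, aeval_X, map_one, gen_pow_dim_eq_one pb hu h, sub_self]
  have h2 := minpoly.dvd K pb.gen h1
  have h3 : (X ^ pb.dim - 1 : K[X]).Monic := monic_X_pow_sub_C 1 (Nat.pos_iff_ne_zero.mp hpos)
  have h4 : (X ^ pb.dim - 1 : K[X]).natDegree = pb.dim := natDegree_X_pow_sub_C
  exact (eq_of_monic_of_dvd_of_natDegree_le hm h3 h2 (by rw [h4, hd])).symm

end PB

section Comp

variable {K : Type*} [Field K] (P : K[X])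

theorem comp_ne_zero (hP : 0 < P.natDegree) (a : K[X]) (ha : a ≠ 0) : a.comp P ≠ 0 := by
  intro h
  rw [comp_eq_zero_iff] at h
  rcases h with h | ⟨_, h⟩
  · exact ha h
  · rw [h, natDegree_C] at hP
    exact lt_irrefl _ hP

theorem compRingHom_injective (hP : 0 < P.natDegree) : Function.Injective (compRingHom P) := by
  rw [injective_iff_map_eq_zero]
  intro a ha
  by_contra h
  exact comp_ne_zero P hP a h ha

/-- a copy of `K[X]`, to be made a `K[X]`-algebra through `Q ↦ Q ∘ P`. -/
def Tgt (_P : K[X]) : Type _ := K[X]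

noncomputable instance : CommRing (Tgt P) := inferInstanceAs (CommRing K[X])
instance : IsDomain (Tgt P) := inferInstanceAs (IsDomain K[X])
noncomputable instance : Algebra K[X] (Tgt P) := (compRingHom P).toAlgebra

theorem tgt_algebraMap (a : K[X]) : algebraMap K[X] (Tgt P) a = (show K[X] from a.comp P) := rfl

theorem tgt_flat (hP : 0 < P.natDegree) : Module.Flat K[X] (Tgt P) := by
  rw [Module.Flat.flat_iff_torsion_eq_bot_of_isBezout, Submodule.eq_bot_iff]
  intro m hm
  rw [Submodule.mem_torsion_iff] at hm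
  obtain ⟨a, ha⟩ := hm
  have h1 : (show K[X] from (a : K[X]).comp P * (show K[X] from m)) = 0 := ha
  rcases mul_eq_zero.mp h1 with h2 | h2
  · exact absurd h2 (comp_ne_zero P hP a (nonZeroDivisors.ne_zero a.2))
  · exact h2

theorem compRingHom_flat (hP : 0 < P.natDegree) : (compRingHom P).Flat :=
  tgt_flat P hP

theorem tgt_isIntegral (hm : P.Monic) (hP : 0 < P.natDegree) :
    Algebra.IsIntegral K[X] (Tgt P) := by
  have hC : ∀ a : K, IsIntegral K[X] (show Tgt P from (C a : K[X])) := by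
    intro a
    have : (show Tgt P from (C a : K[X])) = algebraMap K[X] (Tgt P) (C a) := by
      rw [tgt_algebraMap, C_comp]
    rw [this]
    exact isIntegral_algebraMap
  have hX : IsIntegral K[X] (show Tgt P from (X : K[X])) := by
    refine ⟨P.map C - C X, ?_, ?_⟩
    · apply Monic.sub_of_left (hm.map C)
      rw [degree_C (X_ne_zero), degree_map]
      exact natDegree_pos_iff_degree_pos.mp hP
    · rw [eval₂_sub, eval₂_C, eval₂_map]
      have h1 : (algebraMap K[X] (Tgt P)).comp C = (C : K →+* K[X]) := by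
        ext a
        · change (C a : K[X]).comp P = C a
          rw [C_comp]
      rw [h1]
      change (eval₂ C X P : K[X]) - (X : K[X]).comp P = 0
      rw [eval₂_C_X, X_comp, sub_self]
  constructor
  intro Q
  change IsIntegral K[X] (show Tgt P from (Q : K[X]))
  induction (show K[X] from Q) using Polynomial.induction_on' with
  | add p q hp hq => exact IsIntegral.add hp hq
  | monomial n a =>
    rw [← C_mul_X_pow_eq_monomial]
    exact IsIntegral.mul (hC a) (IsIntegral.pow hX n)

theorem compRingHom_comap_surjective (hm : P.Monic) (hP : 0 < P.natDegree) :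
    Function.Surjective (PrimeSpectrum.comap (compRingHom P)) := by
  intro p
  haveI := tgt_isIntegral P hm hP
  have hker : RingHom.ker (algebraMap K[X] (Tgt P)) ≤ p.asIdeal := by
    have : RingHom.ker (algebraMap K[X] (Tgt P)) = ⊥ :=
      (RingHom.injective_iff_ker_eq_bot _).mp (compRingHom_injective P hP)
    rw [this]
    exact bot_le
  obtain ⟨Q, -, hQ1, hQ2⟩ := Ideal.exists_ideal_over_prime_of_isIntegral p.asIdeal
    (⊥ : Ideal (Tgt P)) (by rw [← RingHom.ker_eq_comap_bot]; exact hker)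
  refine ⟨⟨Q, hQ1⟩, ?_⟩
  apply PrimeSpectrum.ext
  exact hQ2

end Comp

end Groth.Agent.R2.H90.AddPoly
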