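import Mathlib
import Groth.Prelude.Def_EtBase
import Groth.Prelude.Def_EtGm
import Groth.Prelude.Def_W4c5etcohweilstudentAS
import Groth.Agent.Lib.Helper16SmallEtale

set_option autoImplicit false
universe u

/-!
# The Artin–Schreier map is locally surjective on the small étale site (helper90, for S18415)
-/

namespace Groth.Agent.R2.H90.ArtinSchreier

open AlgebraicGeometry CategoryTheory CategoryTheory.Limits Opposite Polynomial
open Groth.Agent.Lib.Helper16.SmallEtale

section ring

variable {A : Type u} [CommRing A] (p : ℕ) (hp : p.Prime) (h0 : (p : A) = 0) (a : A)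

/-- the Artin–Schreier polynomial -/
noncomputable def asPoly : A[X] := X ^ p - X - C a

include hp in
theorem asPoly_monic : (asPoly p a).Monic := by
  rcases subsingleton_or_nontrivial A with h | h
  · exact Subsingleton.elim _ _
  unfold asPoly
  rw [sub_sub]
  apply monic_X_pow_sub
  have h1 : (X + C a : A[X]).degree ≤ 1 := by
    refine (degree_add_le _ _).trans (max_le degree_X_le ?_)
    exact degree_C_le.trans zero_le_one
  refine lt_of_le_of_lt h1 ?_
  exact_mod_cast hp.one_lt

include h0 in
theorem derivative_asPoly : derivative (asPoly p a) = -1 := by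
  unfold asPoly
  have : (C (p : A) : A[X]) = 0 := by rw [h0, C_0]
  simp only [derivative_sub, derivative_X_pow, derivative_X, derivative_C, sub_zero]
  rw [this, zero_mul, zero_sub]

/-- the standard étale pair `(X^p - X - a, 1)` -/
noncomputable def asPair : StandardEtalePair A where
  f := asPoly p a
  monic_f := asPoly_monic p hp a
  g := 1
  cond := ⟨-1, 0, 0, by rw [derivative_asPoly p h0 a]; simp⟩

theorem asPair_root :
    (asPair p hp h0 a).X ^ p - (asPair p hp h0 a).X = algebraMap A (asPair p hp h0 a).Ring a := by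
  have h := (StandardEtalePair.hasMap_X (P := asPair p hp h0 a)).1
  change aeval _ (asPoly p a) = 0 at h
  unfold asPoly at h
  simp only [map_sub, map_pow, aeval_X, aeval_C] at h
  exact sub_eq_zero.mp h

theorem exists_prime_over (q : PrimeSpectrum A) :
    ∃ Q : PrimeSpectrum (asPair p hp h0 a).Ring,
      Q.comap (algebraMap A (asPair p hp h0 a).Ring) = q := by
  let κ := AlgebraicClosure q.asIdeal.ResidueField
  have hdeg : (asPoly p (algebraMap A κ a)).degree ≠ 0 := by
    have h1 : (X + C (algebraMap A κ a) : κ[X]).degree < ((X : κ[X]) ^ p).degree := by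
      rw [degree_X_pow]
      refine lt_of_le_of_lt ((degree_add_le _ _).trans (max_le degree_X_le
        (degree_C_le.trans zero_le_one))) ?_
      exact_mod_cast hp.one_lt
    unfold asPoly
    rw [sub_sub, degree_sub_eq_left_of_degree_lt h1, degree_X_pow]
    exact_mod_cast hp.ne_zero
  obtain ⟨ρ, hρ⟩ := IsAlgClosed.exists_root _ hdeg
  have hmap : (asPair p hp h0 a).HasMap ρ := by
    refine ⟨?_, ?_⟩
    · change aeval ρ (asPoly p a) = 0
      rw [IsRoot.def] at hρ
      unfold asPoly at hρ ⊢
      simp only [eval_sub, eval_pow, eval_X, eval_C] at hρ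
      simp only [map_sub, map_pow, aeval_X, aeval_C]
      exact hρ
    · change IsUnit (aeval ρ (1 : A[X]))
      rw [map_one]
      exact isUnit_one
  let φ := (asPair p hp h0 a).lift ρ hmap
  refine ⟨⟨RingHom.ker φ.toRingHom, RingHom.ker_isPrime _⟩, ?_⟩
  apply PrimeSpectrum.ext
  change Ideal.comap (algebraMap A (asPair p hp h0 a).Ring) (RingHom.ker φ.toRingHom) = q.asIdeal
  rw [RingHom.comap_ker]
  have h1 : φ.toRingHom.comp (algebraMap A (asPair p hp h0 a).Ring) = algebraMap A κ :=
    φ.comp_algebraMap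
  rw [h1, IsScalarTower.algebraMap_eq A q.asIdeal.ResidueField κ, ← RingHom.comap_ker,
    (RingHom.injective_iff_ker_eq_bot _).mp (algebraMap q.asIdeal.ResidueField κ).injective,
    ← RingHom.ker_eq_comap_bot, Ideal.ker_algebraMap_residueField]

end ring

section site

set_option backward.isDefEq.respectTransparency.types false in
theorem isLocallySurjective (p : ℕ) (hp : p.Prime) {X : Scheme.{u}} (h0 : (p : Γ(X, ⊤)) = 0) :
    Sheaf.IsLocallySurjective (W4c5etcohweilstudent.artinSchreierEndo X p hp h0) := by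
  constructor
  intro U s
  rw [mem_smallEtale_iff]
  intro x
  let 𝒰 := U.left.affineOpenCover
  obtain ⟨x₀, hx₀⟩ := 𝒰.covers x
  let A : CommRingCat.{u} := 𝒰.X (𝒰.idx x)
  let j : Spec A ⟶ U.left := 𝒰.f (𝒰.idx x)
  have hpU : (p : Γ(U.left, ⊤)) = 0 := W4c5etcohweilstudent.natCast_eq_zero_etale p h0 U
  have hpA : (p : A) = 0 := by
    have h1 := congrArg (fun z => (Scheme.ΓSpecIso A).hom (j.appTop z)) hpU
    simpa using h1
  let s' : Γ(U.left, ⊤) := ULift.down s
  let a : A := (Scheme.ΓSpecIso A).hom (j.appTop s')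
  let P := asPair p hp hpA a
  let B : CommRingCat.{u} := CommRingCat.of P.Ring
  let φ : A ⟶ B := CommRingCat.ofHom (algebraMap A P.Ring)
  have hφet : Etale (Spec.map φ) := by
    rw [HasRingHomProperty.Spec_iff (P := @Etale)]
    exact RingHom.etale_algebraMap.mpr inferInstance
  have hUet : Etale U.hom := U.prop
  let g₀ : Spec B ⟶ U.left := Spec.map φ ≫ j
  let W : X.Etale := MorphismProperty.Over.mk ⊤ (g₀ ≫ U.hom) (inferInstance : Etale (g₀ ≫ U.hom))
  let g : W ⟶ U := MorphismProperty.Over.homMk g₀ rfl trivial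
  obtain ⟨Q, hQ⟩ := exists_prime_over p hp hpA a x₀
  refine ⟨W, g, Q, ?_, ?_⟩
  · refine ⟨ULift.up ((Scheme.ΓSpecIso B).inv P.X), ?_⟩
    change ULift.up (((Scheme.ΓSpecIso B).inv P.X) ^ p - (Scheme.ΓSpecIso B).inv P.X) =
      ULift.up (g₀.appTop s')
    congr 1
    apply (ConcreteCategory.bijective_of_isIso (Scheme.ΓSpecIso B).hom).injective
    rw [map_sub, map_pow]
    have e1 : (Scheme.ΓSpecIso B).hom ((Scheme.ΓSpecIso B).inv P.X) = P.X := by
      simp
    rw [e1]
    have e2 : (Scheme.ΓSpecIso B).hom (g₀.appTop s') = φ a := by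
      have h1 : g₀.appTop = j.appTop ≫ (Spec.map φ).appTop := by
        simp [g₀]
      rw [h1]
      have h2 := Scheme.ΓSpecIso_naturality φ
      have h3 := congrArg (fun ψ => ψ.hom (j.appTop s')) h2
      simp only [CommRingCat.hom_comp, RingHom.comp_apply] at h3
      exact h3
    rw [e2]
    exact asPair_root p hp hpA a
  · change j ((Spec.map φ) Q) = x
    rw [← hx₀]
    congr 1

theorem epi_artinSchreier (p : ℕ) (hp : p.Prime) {X : Scheme.{u}} (h0 : (p : Γ(X, ⊤)) = 0) :
    Epi (W4c5etcohweilstudent.artinSchreierEndo X p hp h0) := by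
  have := isLocallySurjective p hp h0
  exact Sheaf.epi_of_isLocallySurjective _

end site

end Groth.Agent.R2.H90.ArtinSchreier
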