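/-
Helper library (helper90): the action of the units of `ZMod p` on a commutative Hopf algebra killed
by `p`, and the eigenspace decomposition of the augmentation ideal.
-/
import Mathlib
import Groth.Prelude.Def_W4c5ffgsreadingcourseOT
import Groth.Agent.Lib.Helper25Killed

set_option autoImplicit false
universe u

namespace Groth.Agent.R2.H90.OortTate

open WithConv SGA3b Groth.Agent.Lib.Helper25.Tors

variable {R : Type u} [CommRing R] {A : Type u} [CommRing A] [HopfAlgebra R A]

lemma powConv_one : powConv R A 1 = AlgHom.id R A := by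
  unfold powConv
  rw [pow_one]

lemma powConv_add_period {p : ℕ} (hp : (WithConv.toConv (AlgHom.id R A)) ^ p = 1) (n : ℕ) :
    powConv R A (n + p) = powConv R A n := by
  unfold powConv
  rw [pow_add, hp, mul_one]

lemma powConv_add_mul_period {p : ℕ} (hp : (WithConv.toConv (AlgHom.id R A)) ^ p = 1) (n k : ℕ) :
    powConv R A (n + p * k) = powConv R A n := by
  induction k with
  | zero => simp
  | succ k ih =>
    rw [Nat.mul_succ, ← add_assoc, powConv_add_period hp, ih]

lemma powConv_mod {p : ℕ} (hp : (WithConv.toConv (AlgHom.id R A)) ^ p = 1) (n : ℕ) :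
    powConv R A (n % p) = powConv R A n := by
  conv_rhs => rw [← Nat.mod_add_div n p]
  exact (powConv_add_mul_period hp _ _).symm

lemma counit_powConv (n : ℕ) (a : A) :
    Coalgebra.counit (R := R) (powConv R A n a) = Coalgebra.counit (R := R) a := by
  have h1 := comp_convPow (Bialgebra.counitAlgHom R A) (toConv (AlgHom.id R A)) n
  have h2 : toConv ((Bialgebra.counitAlgHom R A).comp (toConv (AlgHom.id R A)).ofConv) =
      (1 : WithConv (A →ₐ[R] R)) := by
    rw [AlgHom.convOne_def]
    congr 1
  rw [h2, one_pow] at h1
  have := AlgHom.congr_fun h1 a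
  simpa [powConv, AlgHom.convOne_apply] using this

variable {p : ℕ} [Fact p.Prime]

/-- The action of the units of `ZMod p` on `A` by power maps, when `A` is killed by `p`. -/
noncomputable def unitsAct (hp : (WithConv.toConv (AlgHom.id R A)) ^ p = 1) :
    (ZMod p)ˣ →* Module.End R A where
  toFun m := (powConv R A (m : ZMod p).val).toLinearMap
  map_one' := by
    have : ((1 : (ZMod p)ˣ) : ZMod p).val = 1 := by
      rw [Units.val_one]
      exact ZMod.val_one p
    rw [this, powConv_one]
    rfl
  map_mul' m n := by
    have h1 : ((m * n : (ZMod p)ˣ) : ZMod p).val = ((m : ZMod p).val * (n : ZMod p).val) % p := by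
      rw [Units.val_mul, ZMod.val_mul]
    rw [h1, powConv_mod hp, ← powConv_comp]
    rfl

@[simp]
lemma unitsAct_apply (hp : (WithConv.toConv (AlgHom.id R A)) ^ p = 1) (m : (ZMod p)ˣ) (a : A) :
    unitsAct hp m a = powConv R A (m : ZMod p).val a := rfl

end Groth.Agent.R2.H90.OortTate
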