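import Mathlib
import Groth.Prelude.Def_CartDual2
import Groth.Prelude.Def_W4c5ffgsreadingcourseOT
import Groth.Agent.R2.H90OortTate

set_option autoImplicit false

namespace Groth.Agent.R2.H90.CartDualPow

open TensorProduct CartDual WithConv

universe u

section lin

variable (R : Type u) [CommRing R] (A : Type u) [Ring A] [Bialgebra R A]
  [Module.Finite R A] [Module.Projective R A]

/-- The product of the dual is the transpose of the comultiplication. -/
theorem mul'_apply (y : D R A ⊗[R] D R A) (a : A) :
    (LinearMap.mul' R (D R A) y) a = ev₂ R A y (Coalgebra.comul a) := by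
  induction y using TensorProduct.induction_on with
  | zero => simp
  | tmul x z =>
    rw [LinearMap.mul'_apply, LinearMap.convMul_apply, ev₂_tmul_eq]
    simp only [LinearMap.coe_comp, LinearEquiv.coe_coe, Function.comp_apply]
    generalize (TensorProduct.map x.ofConv z.ofConv) (Coalgebra.comul a) = t
    induction t using TensorProduct.induction_on with
    | zero => simp
    | tmul r s => simp
    | add t t' ht ht' => simp only [map_add, ht, ht']
  | add y y' hy hy' =>
    rw [map_add, map_add, LinearMap.add_apply, ← hy, ← hy']
    rfl

/-- Transposes and `ev₂`, with two different maps. -/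
theorem ev₂_map_transposeLin₂ (f g : A →ₗ[R] A) (y : D R A ⊗[R] D R A) (t : A ⊗[R] A) :
    ev₂ R A (TensorProduct.map (transposeLin R f) (transposeLin R g) y) t =
      ev₂ R A y (TensorProduct.map f g t) := by
  induction y using TensorProduct.induction_on with
  | zero => simp
  | tmul x z =>
    induction t using TensorProduct.induction_on with
    | zero => simp
    | tmul a b => simp
    | add t t' ht ht' => simp only [map_add, ht, ht']
  | add y y' hy hy' => simp only [map_add, LinearMap.add_apply, hy, hy']

/-- Convolution products of transposes are transposes of convolution products. -/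
theorem convMul_transposeLin (f g : A →ₗ[R] A) :
    (toConv (transposeLin R f) * toConv (transposeLin R g) :
      WithConv (D R A →ₗ[R] D R A)).ofConv =
    transposeLin R ((toConv f * toConv g : WithConv (A →ₗ[R] A)).ofConv) := by
  apply LinearMap.ext
  intro φ
  apply WithConv.ext
  apply LinearMap.ext
  intro a
  change ((toConv (transposeLin R f) * toConv (transposeLin R g) :
      WithConv (D R A →ₗ[R] D R A)) φ) a = φ ((toConv f * toConv g : WithConv (A →ₗ[R] A)) a)
  rw [LinearMap.convMul_apply, LinearMap.convMul_apply, mul'_apply]
  change ev₂ R A (TensorProduct.map (transposeLin R f) (transposeLin R g) (Coalgebra.comul φ))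
    (Coalgebra.comul a) = _
  rw [ev₂_map_transposeLin₂, comul_def, ev₂_comul]
  rfl

theorem convOne_transposeLin :
    (1 : WithConv (D R A →ₗ[R] D R A)).ofConv =
      transposeLin R ((1 : WithConv (A →ₗ[R] A)).ofConv) := by
  apply LinearMap.ext
  intro φ
  apply WithConv.ext
  apply LinearMap.ext
  intro a
  change ((1 : WithConv (D R A →ₗ[R] D R A)) φ) a = φ ((1 : WithConv (A →ₗ[R] A)) a)
  rw [LinearMap.convOne_apply, LinearMap.convOne_apply]
  simp [Algebra.algebraMap_eq_smul_one, LinearMap.convOne_apply, mul_comm]

theorem convPow_transposeLin (n : ℕ) :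
    ((toConv (LinearMap.id : D R A →ₗ[R] D R A)) ^ n).ofConv =
      transposeLin R (((toConv (LinearMap.id : A →ₗ[R] A)) ^ n).ofConv) := by
  induction n with
  | zero => rw [pow_zero, pow_zero]; exact convOne_transposeLin R A
  | succ n ih =>
    rw [pow_succ, pow_succ]
    have h1 : (toConv (LinearMap.id : D R A →ₗ[R] D R A)) ^ n =
        toConv (transposeLin R (((toConv (LinearMap.id : A →ₗ[R] A)) ^ n).ofConv)) := by
      rw [← ih, toConv_ofConv]
    have h2 : (toConv (LinearMap.id : D R A →ₗ[R] D R A)) =
        toConv (transposeLin R (LinearMap.id : A →ₗ[R] A)) := by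
      congr 1
    rw [h1, h2, convMul_transposeLin, toConv_ofConv]

end lin

end Groth.Agent.R2.H90.CartDualPow
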