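import Mathlib
import Groth.Prelude.Def_FEt

set_option autoImplicit false
universe u

/-!
# Pullback of a connected finite etale cover along a flat morphism with geometrically irreducible fibres
(helper90, for S18402)
-/

namespace Groth.Agent.R2.H90.ConnPullback

open AlgebraicGeometry CategoryTheory CategoryTheory.Limits

section top

variable {P Z : Type*} [TopologicalSpace P] [TopologicalSpace Z]

theorem isClosed_of_stable {T G : Set Z} (hG : G.Finite) (hdom : ∀ z, ∃ ζ ∈ G, ζ ⤳ z)
    (hgen : StableUnderGeneralization T) (hspec : StableUnderSpecialization T) : IsClosed T := by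
  have h1 : T = ⋃ ζ ∈ G ∩ T, closure {ζ} := by
    ext z
    simp only [Set.mem_iUnion, exists_prop]
    constructor
    · intro hz
      obtain ⟨ζ, hζ, hs⟩ := hdom z
      exact ⟨ζ, ⟨hζ, hgen hs hz⟩, specializes_iff_mem_closure.mp hs⟩
    · rintro ⟨ζ, ⟨-, hζT⟩, hz⟩
      exact hspec (specializes_iff_mem_closure.mpr hz) hζT
  rw [h1]
  exact (hG.subset Set.inter_subset_left).isClosed_biUnion (fun _ _ => isClosed_closure)

theorem preconnectedSpace_of_fibration (q : P → Z) (hsurj : Function.Surjective q)
    (hgen : GeneralizingMap q) (hfib : ∀ z, IsPreconnected (q ⁻¹' {z}))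
    {G : Set Z} (hG : G.Finite) (hdom : ∀ z, ∃ ζ ∈ G, ζ ⤳ z) [PreconnectedSpace Z] :
    PreconnectedSpace P := by
  rw [preconnectedSpace_iff_clopen]
  intro A hA
  have key : ∀ B : Set P, IsClopen B → B = q ⁻¹' (q '' B) := by
    intro B hB
    apply Set.Subset.antisymm (Set.subset_preimage_image q B)
    rintro w ⟨a, ha, hqa⟩
    have := (hfib (q a)).subset_isClopen hB ⟨a, rfl, ha⟩
    exact this hqa.symm
  have hA1 := key A hA
  have hA2 := key Aᶜ hA.compl
  have hcompl : q '' Aᶜ = (q '' A)ᶜ := by
    ext z
    constructor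
    · rintro ⟨w, hw, rfl⟩ ⟨a, ha, hqa⟩
      apply hw
      rw [hA1]
      exact ⟨a, ha, hqa⟩
    · intro hz
      obtain ⟨w, rfl⟩ := hsurj z
      exact ⟨w, fun hw => hz ⟨w, hw, rfl⟩, rfl⟩
  have hgenA : StableUnderGeneralization (q '' A) :=
    hgen.stableUnderGeneralization_image hA.isOpen.stableUnderGeneralization
  have hgenAc : StableUnderGeneralization (q '' A)ᶜ := by
    rw [← hcompl]
    exact hgen.stableUnderGeneralization_image hA.compl.isOpen.stableUnderGeneralization
  have hspecA : StableUnderSpecialization (q '' A) :=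
    stableUnderGeneralization_compl_iff.mp hgenAc
  have hspecAc : StableUnderSpecialization (q '' A)ᶜ :=
    stableUnderSpecialization_compl_iff.mpr hgenA
  have hcl : IsClosed (q '' A) := isClosed_of_stable hG hdom hgenA hspecA
  have hop : IsOpen (q '' A) := by
    rw [← isClosed_compl_iff]
    exact isClosed_of_stable hG hdom hgenAc hspecAc
  rcases isClopen_iff.mp ⟨hcl, hop⟩ with h | h
  · left
    rw [hA1, h, Set.preimage_empty]
  · right
    rw [hA1, h, Set.preimage_univ]

end top

section sch

theorem connectedSpace_pullback {X W : Scheme.{u}} [IrreducibleSpace X] (π : W ⟶ X) [Flat π]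
    [GeometricallyIrreducible π] (Z : FEt.Cat X) [ConnectedSpace Z.left] :
    ConnectedSpace ↥(pullback Z.hom π) := by
  have hZfin : IsFinite Z.hom := Z.prop.1
  have hZet : Etale Z.hom := Z.prop.2
  set q : pullback Z.hom π ⟶ Z.left := pullback.fst Z.hom π with hq
  have hqflat : Flat q := inferInstance
  have hqgi : GeometricallyIrreducible q := inferInstance
  have hqsurj : Function.Surjective q := q.surjective
  have hfib : ∀ z : Z.left, _root_.IsPreconnected (q ⁻¹' {z}) := by
    intro z
    rw [← q.range_fiberι z, ← Set.image_univ]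
    exact ((IrreducibleSpace.isIrreducible_univ _).image _
      (q.fiberι z).continuous.continuousOn).isPreirreducible.isPreconnected
  set η := genericPoint X with hη
  have hG : (Z.hom ⁻¹' {η}).Finite := Z.hom.finite_preimage_singleton η
  have hdom : ∀ z : Z.left, ∃ ζ ∈ Z.hom ⁻¹' {η}, ζ ⤳ z := by
    intro z
    have h1 : η ⤳ Z.hom z := genericPoint_specializes _
    obtain ⟨ζ, hζ, hζη⟩ := (Flat.generalizingMap Z.hom) h1
    exact ⟨ζ, hζη, hζ⟩
  have hpre : PreconnectedSpace ↥(pullback Z.hom π) :=
    preconnectedSpace_of_fibration q hqsurj (Flat.generalizingMap q) hfib hG hdom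
  have hne : Nonempty ↥(pullback Z.hom π) := by
    obtain ⟨z⟩ := (inferInstance : Nonempty Z.left)
    obtain ⟨w, -⟩ := hqsurj z
    exact ⟨w⟩
  exact { toPreconnectedSpace := hpre, toNonempty := hne }

end sch

end Groth.Agent.R2.H90.ConnPullback
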