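/-
Helper library (helper90): functoriality of convolution algebras `WithConv (C →ₗ[R] S)` (precomposition
with coalgebra maps, postcomposition with algebra maps, evaluation at `1`), maps with values in a
submodule (`valuedIn`), and the two projections `A ⊗ A → A` as coalgebra maps.
-/
import Mathlib

set_option autoImplicit false
set_option linter.unusedSectionVars false
universe u

namespace Groth.Agent.R2.H90.ConvFun

open WithConv TensorProduct Coalgebra

variable {R : Type*} [CommRing R]

section prepost

variable {C : Type*} [AddCommGroup C] [Module R C] [Coalgebra R C]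
  {C' : Type*} [AddCommGroup C'] [Module R C'] [Coalgebra R C']
  {S : Type*} [CommRing S] [Algebra R S] {S' : Type*} [CommRing S'] [Algebra R S']

/-- precomposition with a coalgebra map, as an algebra map of convolution algebras -/
noncomputable def preComp (h : C' →ₗc[R] C) :
    WithConv (C →ₗ[R] S) →ₐ[R] WithConv (C' →ₗ[R] S) :=
  AlgHom.ofLinearMap
    ((WithConv.linearEquiv R (C' →ₗ[R] S)).symm.toLinearMap ∘ₗ
      (LinearMap.lcomp R S h.toLinearMap) ∘ₗ (WithConv.linearEquiv R (C →ₗ[R] S)).toLinearMap)
    (by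
      apply WithConv.ext
      apply LinearMap.ext
      intro c
      change (1 : WithConv (C →ₗ[R] S)) (h c) = (1 : WithConv (C' →ₗ[R] S)) c
      rw [LinearMap.convOne_apply, LinearMap.convOne_apply, CoalgHomClass.counit_comp_apply])
    (by
      intro f g
      apply WithConv.ext
      exact LinearMap.convMul_comp_coalgHom_distrib f g h)

@[simp] theorem preComp_apply (h : C' →ₗc[R] C) (f : WithConv (C →ₗ[R] S)) (c : C') :
    preComp h f c = f (h c) := rfl

/-- postcomposition with an algebra map, as an algebra map of convolution algebras -/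
noncomputable def postComp (g : S →ₐ[R] S') :
    WithConv (C →ₗ[R] S) →ₐ[R] WithConv (C →ₗ[R] S') :=
  AlgHom.ofLinearMap
    ((WithConv.linearEquiv R (C →ₗ[R] S')).symm.toLinearMap ∘ₗ
      (LinearMap.compRight R g.toLinearMap) ∘ₗ (WithConv.linearEquiv R (C →ₗ[R] S)).toLinearMap)
    (by
      apply WithConv.ext
      apply LinearMap.ext
      intro c
      change g ((1 : WithConv (C →ₗ[R] S)) c) = (1 : WithConv (C →ₗ[R] S')) c
      rw [LinearMap.convOne_apply, LinearMap.convOne_apply, AlgHom.commutes])
    (by
      intro f f'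
      apply WithConv.ext
      exact LinearMap.algHom_comp_convMul_distrib g f f')

@[simp] theorem postComp_apply (g : S →ₐ[R] S') (f : WithConv (C →ₗ[R] S)) (c : C) :
    postComp g f c = g (f c) := rfl

theorem postComp_preComp (g : S →ₐ[R] S') (h : C' →ₗc[R] C) (f : WithConv (C →ₗ[R] S)) :
    postComp g (preComp h f) = preComp h (postComp g f) := rfl

end prepost

section valued

variable {C : Type*} [AddCommGroup C] [Module R C] [Coalgebra R C]
  {S : Type*} [CommRing S] [Algebra R S]

/-- the maps with values in a given submodule -/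
def valuedIn (N : Submodule R S) : Submodule R (WithConv (C →ₗ[R] S)) where
  carrier := {F | ∀ c, F c ∈ N}
  add_mem' := by
    intro F G hF hG c
    exact N.add_mem (hF c) (hG c)
  zero_mem' := by
    intro c
    exact N.zero_mem
  smul_mem' := by
    intro r F hF c
    exact N.smul_mem r (hF c)

theorem mem_valuedIn {N : Submodule R S} {F : WithConv (C →ₗ[R] S)} :
    F ∈ valuedIn (C := C) N ↔ ∀ c, F c ∈ N := Iff.rfl

theorem valuedIn_mono {N N' : Submodule R S} (h : N ≤ N') :
    valuedIn (C := C) N ≤ valuedIn N' := fun _ hF c => h (hF c)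

theorem mul_mem_valuedIn {N N' : Submodule R S} {F G : WithConv (C →ₗ[R] S)}
    (hF : F ∈ valuedIn N) (hG : G ∈ valuedIn N') : F * G ∈ valuedIn (N * N') := by
  intro c
  rw [(ℛ R c).convMul_apply]
  exact Submodule.sum_mem _ fun i _ => Submodule.mul_mem_mul (hF _) (hG _)

theorem one_mem_valuedIn : (1 : WithConv (C →ₗ[R] S)) ∈ valuedIn (1 : Submodule R S) := by
  intro c
  rw [LinearMap.convOne_apply]
  exact Submodule.algebraMap_mem _

theorem pow_mem_valuedIn {N : Submodule R S} {F : WithConv (C →ₗ[R] S)}
    (hF : F ∈ valuedIn N) (n : ℕ) : F ^ n ∈ valuedIn (N ^ n) := by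
  induction n with
  | zero => rw [pow_zero, pow_zero]; exact one_mem_valuedIn
  | succ n ih => rw [pow_succ, pow_succ]; exact mul_mem_valuedIn ih hF

end valued

section evalOne

variable {A : Type*} [CommRing A] [Bialgebra R A] {S : Type*} [CommRing S] [Algebra R S]

/-- evaluation at `1`, an algebra map from the convolution algebra -/
noncomputable def evalOne : WithConv (A →ₗ[R] S) →ₐ[R] S :=
  AlgHom.ofLinearMap
    ((LinearMap.applyₗ (1 : A)) ∘ₗ (WithConv.linearEquiv R (A →ₗ[R] S)).toLinearMap)
    (by
      change (1 : WithConv (A →ₗ[R] S)) (1 : A) = 1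
      rw [LinearMap.convOne_apply, Bialgebra.counit_one, map_one])
    (by
      intro f g
      change (f * g) (1 : A) = f 1 * g 1
      rw [LinearMap.convMul_apply, Bialgebra.comul_one, Algebra.TensorProduct.one_def,
        TensorProduct.map_tmul, LinearMap.mul'_apply])

@[simp] theorem evalOne_apply (f : WithConv (A →ₗ[R] S)) : evalOne f = f 1 := rfl

end evalOne

section two

variable {A : Type*} [CommRing A] [Bialgebra R A] {S : Type*} [CommRing S] [Algebra R S]

/-- `a ⊗ b ↦ ε b • a` as a coalgebra map -/
noncomputable def p₁ : A ⊗[R] A →ₗc[R] A :=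
  ((Coalgebra.TensorProduct.rid R R A).toCoalgHom).comp
    (Coalgebra.TensorProduct.map (CoalgHom.id R A) (Coalgebra.counitCoalgHom R A))

/-- `a ⊗ b ↦ ε a • b` as a coalgebra map -/
noncomputable def p₂ : A ⊗[R] A →ₗc[R] A :=
  ((Coalgebra.TensorProduct.lid R A).toCoalgHom).comp
    (Coalgebra.TensorProduct.map (Coalgebra.counitCoalgHom R A) (CoalgHom.id R A))

@[simp] theorem p₁_tmul (a b : A) : p₁ (R := R) (a ⊗ₜ[R] b) = counit (R := R) b • a := rfl

@[simp] theorem p₂_tmul (a b : A) : p₂ (R := R) (a ⊗ₜ[R] b) = counit (R := R) a • b := rfl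

theorem sum_counit_right_smul {ι : Type*} {a : A} (𝓡 : Coalgebra.Repr R a ι) :
    ∑ i ∈ 𝓡.index, counit (R := R) (𝓡.right i) • 𝓡.left i = a := by
  have h := congrArg (TensorProduct.lift (LinearMap.lsmul R A).flip) (sum_tmul_counit_eq 𝓡)
  rw [map_sum] at h
  simp only [TensorProduct.lift.tmul, LinearMap.flip_apply, LinearMap.lsmul_apply, one_smul] at h
  exact h

theorem preComp_mul_preComp (f g : WithConv (A →ₗ[R] S)) (a b : A) :
    (preComp (p₁ (R := R)) f * preComp (p₂ (R := R)) g) (a ⊗ₜ[R] b) = f a * g b := by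
  rw [((ℛ R a).tmul (ℛ R b)).convMul_apply]
  simp only [Coalgebra.Repr.tmul_index, Coalgebra.Repr.tmul_left, Coalgebra.Repr.tmul_right,
    preComp_apply, p₁_tmul, p₂_tmul]
  rw [Finset.sum_product]
  have h1 : ∀ i ∈ (ℛ R a).index, ∀ j ∈ (ℛ R b).index,
      f (counit (R := R) ((ℛ R b).left j) • (ℛ R a).left i) *
        g (counit (R := R) ((ℛ R a).right i) • (ℛ R b).right j) =
      f (counit (R := R) ((ℛ R a).right i) • (ℛ R a).left i) *
        g (counit (R := R) ((ℛ R b).left j) • (ℛ R b).right j) := by
    intro i _ j _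
    simp only [map_smul, smul_mul_smul_comm, mul_comm]
  rw [Finset.sum_congr rfl fun i hi => Finset.sum_congr rfl fun j hj => h1 i hi j hj]
  rw [← Finset.sum_mul_sum, ← map_sum, ← map_sum, sum_counit_right_smul, sum_counit_smul]

end two

end Groth.Agent.R2.H90.ConvFun
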