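/-
Helper library (helper90): decomposition of a module modulo `π` at sets of minimal primes,
argument on representatives (for S18365).
-/
import Mathlib

namespace Groth.Agent.R2.H90.Decomp

variable {A M : Type*} [CommRing A] [AddCommGroup M] [Module A M] (π : A)
  {ι : Type*} (𝔓 : ι → Ideal A) [∀ i, (𝔓 i).IsPrime]

/-- elements of `M` whose class mod `π` vanishes at the primes `𝔓 i`, `i ∈ T` -/
def NN (T : Set ι) : Submodule A M where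
  carrier := {m | ∀ i ∈ T, ∃ s : A, s ∉ 𝔓 i ∧ ∃ m' : M, s • m = π • m'}
  add_mem' := by
    intro a b ha hb i hi
    obtain ⟨s, hs, a', ha'⟩ := ha i hi
    obtain ⟨t, ht, b', hb'⟩ := hb i hi
    refine ⟨s * t, fun h => ?_, t • a' + s • b', ?_⟩
    · rcases Ideal.IsPrime.mem_or_mem inferInstance h with h | h
      · exact hs h
      · exact ht h
    · rw [smul_add, mul_comm s t, mul_smul, ha', mul_comm t s, mul_smul, hb', smul_add,
        smul_comm t π, smul_comm s π]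
  zero_mem' := by
    intro i _
    exact ⟨1, fun h => (Ideal.IsPrime.ne_top inferInstance) ((Ideal.eq_top_iff_one _).2 h), 0, by simp⟩
  smul_mem' := by
    intro c a ha i hi
    obtain ⟨s, hs, a', ha'⟩ := ha i hi
    exact ⟨s, hs, c • a', by rw [smul_comm s c, ha', smul_comm c π]⟩

variable {π 𝔓}

lemma mem_NN {T : Set ι} {m : M} :
    m ∈ NN π 𝔓 T ↔ ∀ i ∈ T, ∃ s : A, s ∉ 𝔓 i ∧ ∃ m' : M, s • m = π • m' := Iff.rfl

lemma smul_mem_NN (T : Set ι) (m : M) : π • m ∈ NN π 𝔓 T := by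
  intro i _
  exact ⟨1, fun h => (Ideal.IsPrime.ne_top inferInstance) ((Ideal.eq_top_iff_one _).2 h), m, by simp⟩

lemma NN_anti {T T' : Set ι} (h : T ⊆ T') : NN π 𝔓 T' ≤ (NN π 𝔓 T : Submodule A M) :=
  fun _ hm i hi => hm i (h hi)

lemma mem_NN_union {T T' : Set ι} {m : M} (h : m ∈ NN π 𝔓 T) (h' : m ∈ NN π 𝔓 T') :
    m ∈ NN π 𝔓 (T ∪ T') := by
  intro i hi
  rcases hi with hi | hi
  · exact h i hi
  · exact h' i hi

/-- The core of the argument, on representatives. -/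
theorem core (hπ : ∀ m : M, π • m = 0 → m = 0)
    (htf : ∀ m : M, m ∈ NN π 𝔓 Set.univ → ∃ m' : M, m = π • m')
    (Y Z : Set ι)
    (hY : ∀ m : M, ∃ m₁ : M, m₁ ∈ (NN π 𝔓 Y : Submodule A M) ∧
      ∃ m₂ : M, m₂ ∈ (NN π 𝔓 Yᶜ : Submodule A M) ∧ m = m₁ + m₂)
    (hZ : ∀ n : M, n ∈ (NN π 𝔓 Y : Submodule A M) →
      ∃ a : M, a ∈ (NN π 𝔓 Y : Submodule A M) ∧ ∃ b : M, b ∈ (NN π 𝔓 Y : Submodule A M) ∧ n = a + b ∧
      (∀ i ∈ Z, ∃ s : A, s ∉ 𝔓 i ∧ ∃ n' : M, n' ∈ (NN π 𝔓 Y : Submodule A M) ∧ s • a = π • n') ∧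
      (∀ i ∈ Zᶜ, ∃ s : A, s ∉ 𝔓 i ∧ ∃ n' : M, n' ∈ (NN π 𝔓 Y : Submodule A M) ∧ s • b = π • n'))
    (m : M) : ∃ x : M, x ∈ (NN π 𝔓 Z : Submodule A M) ∧
      ∃ y : M, y ∈ (NN π 𝔓 Zᶜ : Submodule A M) ∧ m = x + y := by
  have hπinj : ∀ a b : M, π • a = π • b → a = b := by
    intro a b h
    have := hπ (a - b) (by rw [smul_sub, h, sub_self])
    exact sub_eq_zero.mp this
  -- weaker consequence of hZ
  have hweak : ∀ (T : Set ι) (a : M),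
      (∀ i ∈ T, ∃ s : A, s ∉ 𝔓 i ∧ ∃ n' : M, n' ∈ (NN π 𝔓 Y : Submodule A M) ∧ s • a = π • n') →
        a ∈ (NN π 𝔓 T : Submodule A M) := by
    intro T a h i hi
    obtain ⟨s, hs, n', _, hn'⟩ := h i hi
    exact ⟨s, hs, n', hn'⟩
  -- key: if `π a' ∈ N'(T)` and `a' ∈ N(Yᶜ)` then `a' ∈ N(T)`
  have hkey : ∀ (T : Set ι) (a' : M), a' ∈ (NN π 𝔓 Yᶜ : Submodule A M) →
      (∀ i ∈ T, ∃ s : A, s ∉ 𝔓 i ∧ ∃ n' : M, n' ∈ (NN π 𝔓 Y : Submodule A M) ∧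
        s • (π • a') = π • n') → a' ∈ (NN π 𝔓 T : Submodule A M) := by
    intro T a' ha' h i hi
    by_cases hiY : i ∈ Y
    · obtain ⟨s, hs, n', hn', hsn⟩ := h i hi
      have h1 : s • a' = n' := hπinj _ _ (by rw [← hsn, smul_comm])
      obtain ⟨t, ht, n'', hn''⟩ := hn' i hiY
      refine ⟨t * s, fun hts => ?_, n'', ?_⟩
      · rcases Ideal.IsPrime.mem_or_mem inferInstance hts with h | h
        · exact ht h
        · exact hs h
      · rw [mul_smul, h1, hn'']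
    · exact ha' i hiY
  obtain ⟨m₁, hm₁, m₂, hm₂, rfl⟩ := hY m
  -- the part in N(Y)
  obtain ⟨a, _, b, _, hab, haZ, hbZ⟩ := hZ m₁ hm₁
  have ha : a ∈ NN π 𝔓 Z := hweak Z a haZ
  have hb : b ∈ NN π 𝔓 Zᶜ := hweak Zᶜ b hbZ
  -- the part in N(Yᶜ)
  have hπm₂ : π • m₂ ∈ NN π 𝔓 Y := smul_mem_NN Y m₂
  obtain ⟨c, hcY, d, hdY, hcd, hcZ, hdZ⟩ := hZ (π • m₂) hπm₂
  have hc : c ∈ NN π 𝔓 Z := hweak Z c hcZ
  have hd : d ∈ NN π 𝔓 Zᶜ := hweak Zᶜ d hdZ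
  have hc' : c ∈ NN π 𝔓 Zᶜ := by
    have : c = π • m₂ - d := by rw [hcd]; abel
    rw [this]
    exact Submodule.sub_mem _ (smul_mem_NN _ _) hd
  have hcuniv : c ∈ NN π 𝔓 Set.univ := by
    have := mem_NN_union hc hc'
    rwa [Set.union_compl_self] at this
  obtain ⟨c₀, hc₀⟩ := htf c hcuniv
  have hduniv : d ∈ NN π 𝔓 Set.univ := by
    have hd' : d ∈ NN π 𝔓 Z := by
      have : d = π • m₂ - c := by rw [hcd]; abel
      rw [this]
      exact Submodule.sub_mem _ (smul_mem_NN _ _) hc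
    have := mem_NN_union hd' hd
    rwa [Set.union_compl_self] at this
  obtain ⟨d₀, hd₀⟩ := htf d hduniv
  have hm₂eq : m₂ = c₀ + d₀ := hπinj _ _ (by rw [smul_add, ← hc₀, ← hd₀, hcd])
  -- split c₀ and d₀ along Y
  obtain ⟨c₁, hc₁, c₂, hc₂, hc₁₂⟩ := hY c₀
  obtain ⟨d₁, hd₁, d₂, hd₂, hd₁₂⟩ := hY d₀
  -- π c₂ still satisfies the Z-condition
  have hc₂Z : c₂ ∈ NN π 𝔓 Z := by
    apply hkey Z c₂ hc₂
    intro i hi
    obtain ⟨s, hs, n', hn', hsn⟩ := hcZ i hi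
    refine ⟨s, hs, n' - s • c₁, Submodule.sub_mem _ hn' (Submodule.smul_mem _ _ hc₁), ?_⟩
    have : π • c₂ = c - π • c₁ := by rw [hc₀, hc₁₂, smul_add]; abel
    rw [this, smul_sub, hsn, smul_sub, smul_comm s π]
  have hd₂Z : d₂ ∈ NN π 𝔓 Zᶜ := by
    apply hkey Zᶜ d₂ hd₂
    intro i hi
    obtain ⟨s, hs, n', hn', hsn⟩ := hdZ i hi
    refine ⟨s, hs, n' - s • d₁, Submodule.sub_mem _ hn' (Submodule.smul_mem _ _ hd₁), ?_⟩
    have : π • d₂ = d - π • d₁ := by rw [hd₀, hd₁₂, smul_add]; abel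
    rw [this, smul_sub, hsn, smul_sub, smul_comm s π]
  -- the rest c₁ + d₁ lies in N(Y) ∩ N(Yᶜ) = π M
  have hrest : c₁ + d₁ ∈ NN π 𝔓 Set.univ := by
    have h1 : c₁ + d₁ ∈ NN π 𝔓 Y := Submodule.add_mem _ hc₁ hd₁
    have h2 : c₁ + d₁ ∈ NN π 𝔓 Yᶜ := by
      have : c₁ + d₁ = m₂ - c₂ - d₂ := by rw [hm₂eq, hc₁₂, hd₁₂]; abel
      rw [this]
      exact Submodule.sub_mem _ (Submodule.sub_mem _ hm₂ hc₂) hd₂
    have := mem_NN_union h1 h2
    rwa [Set.union_compl_self] at this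
  obtain ⟨e, he⟩ := htf _ hrest
  refine ⟨a + c₂ + π • e, ?_, b + d₂, ?_, ?_⟩
  · exact Submodule.add_mem _ (Submodule.add_mem _ ha hc₂Z) (smul_mem_NN _ _)
  · exact Submodule.add_mem _ hb hd₂Z
  · rw [← he, hab, hm₂eq, hc₁₂, hd₁₂]; abel



section Bridge

variable {A : Type*} [CommRing A] (π : A) {ι : Type*} (𝔓 : ι → Ideal A) [∀ i, (𝔓 i).IsPrime]
  (P : Type*) [AddCommGroup P] [Module A P]

lemma mem_span_singleton_smul_top {x : P} :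
    x ∈ Ideal.span {π} • (⊤ : Submodule A P) ↔ ∃ p : P, x = π • p := by
  rw [Submodule.ideal_span_singleton_smul, Submodule.mem_smul_pointwise_iff_exists]
  simp [eq_comm]

lemma mkQ_mem_iInf_ker_iff (T : Set ι) (p : P) :
    (Submodule.mkQ (Ideal.span {π} • (⊤ : Submodule A P)) p) ∈
      (⨅ i ∈ T, LinearMap.ker (LocalizedModule.mkLinearMap (𝔓 i).primeCompl
        (P ⧸ Ideal.span {π} • (⊤ : Submodule A P)))) ↔ p ∈ NN π 𝔓 T := by
  simp only [Submodule.mem_iInf, LinearMap.mem_ker, mem_NN]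
  refine forall₂_congr fun i _ => ?_
  rw [IsLocalizedModule.eq_zero_iff (𝔓 i).primeCompl]
  constructor
  · rintro ⟨s, hs⟩
    refine ⟨s.1, s.2, ?_⟩
    have h1 : Submodule.mkQ (Ideal.span {π} • (⊤ : Submodule A P)) (s.1 • p) = 0 := by
      rw [map_smul]; exact hs
    rw [Submodule.mkQ_apply, Submodule.Quotient.mk_eq_zero] at h1
    exact (mem_span_singleton_smul_top π P).1 h1
  · rintro ⟨s, hs, p', hp'⟩
    refine ⟨⟨s, hs⟩, ?_⟩
    show s • Submodule.mkQ (Ideal.span {π} • (⊤ : Submodule A P)) p = 0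
    rw [← map_smul, Submodule.mkQ_apply, Submodule.Quotient.mk_eq_zero]
    exact (mem_span_singleton_smul_top π P).2 ⟨p', hp'⟩

end Bridge

end Groth.Agent.R2.H90.Decomp
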