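import Mathlib
import Groth.Agent.Lib.Helper4RatMapExt

/-!
Helper library (helper90): sections of proper schemes over Dedekind domains.

* `valuationRing_stalk`: the local rings of `Spec R`, `R` Dedekind, are valuation rings;
* `exists_section_of_genPt`: a `K`-point of a separated `R`-scheme locally of finite type which
  satisfies the existence part of the valuative criterion extends to a section over `Spec R`.
-/

set_option autoImplicit false
universe u
open CategoryTheory AlgebraicGeometry

namespace Groth.Agent.R2.H90.DedekindSection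

/-- a local Dedekind domain is a valuation ring. -/
theorem valuationRing_of_isDedekindDomain_of_isLocalRing (A : Type u) [CommRing A]
    [IsDedekindDomain A] [IsLocalRing A] : ValuationRing A := by
  have hfin : {P : Ideal A | P.IsPrime}.Finite := by
    apply Set.Finite.subset (Set.toFinite {⊥, IsLocalRing.maximalIdeal A})
    intro P hP
    have hP' : P.IsPrime := hP
    by_cases h0 : P = ⊥
    · left; exact h0
    · right
      have hmax : P.IsMaximal := Ring.DimensionLEOne.maximalOfPrime h0 hP'
      exact IsLocalRing.eq_maximalIdeal hmax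
  have : IsPrincipalIdealRing A := IsPrincipalIdealRing.of_finite_primes hfin
  rw [ValuationRing.iff_local_bezout_domain]
  exact ⟨inferInstance, inferInstance⟩

theorem valuationRing_stalk (R : Type u) [CommRing R] [IsDedekindDomain R]
    (x : Spec (CommRingCat.of R)) :
    ValuationRing ((Spec (CommRingCat.of R)).presheaf.stalk x) := by
  have hp : (PrimeSpectrum.asIdeal (R := R) x).IsPrime := PrimeSpectrum.isPrime (R := R) x
  let k : Algebra R ((Spec (CommRingCat.of R)).presheaf.stalk x) :=
    StructureSheaf.stalkAlgebra R x
  have h1 : IsLocalization.AtPrime ((Spec (CommRingCat.of R)).presheaf.stalk x)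
      (PrimeSpectrum.asIdeal (R := R) x) :=
    StructureSheaf.IsLocalization.to_stalk R x
  have h2 : IsDedekindDomain ((Spec (CommRingCat.of R)).presheaf.stalk x) :=
    IsLocalization.isDedekindDomain R
      (Ideal.primeCompl_le_nonZeroDivisors (PrimeSpectrum.asIdeal (R := R) x)) _
  exact valuationRing_of_isDedekindDomain_of_isLocalRing _

lemma lift_aux {R K A : Type u} [CommRing R] [CommRing K] [Algebra R K] [IsFractionRing R K]
    [CommRing A] (hF : IsField A) (g : R →+* A) (hinj : Function.Injective g) :
    ∃ ψ : K →+* A, ψ.comp (algebraMap R K) = g := by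
  have hunit : ∀ y : nonZeroDivisors R, IsUnit (g y) := by
    intro y
    have hne : g y ≠ 0 := by
      intro h0
      have h1 : (y : R) = 0 := hinj (h0.trans (map_zero g).symm)
      have h2 := y.2
      rw [h1] at h2
      have h3 : (1 : R) = 0 := by
        have := (mem_nonZeroDivisors_iff.1 h2).1 1 (by simp)
        exact this
      have h4 : (1 : A) = 0 := by rw [← map_one g, h3, map_zero]
      exact hF.nontrivial.exists_pair_ne.elim fun a ⟨b, hab⟩ => hab (by
        rw [← mul_one a, ← mul_one b, h4, mul_zero, mul_zero])
    obtain ⟨b, hb⟩ := hF.mul_inv_cancel hne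
    exact IsUnit.of_mul_eq_one b hb
  exact ⟨IsLocalization.lift hunit, IsLocalization.lift_comp hunit⟩


/-- the fraction field maps to any stalk of `Spec R` which is a field and into which `R` embeds. -/
lemma exists_stalk_lift (R : Type u) [CommRing R] [IsDomain R] (x : Spec (CommRingCat.of R))
    (hF : IsField ((Spec (CommRingCat.of R)).presheaf.stalk x))
    (hinj : Function.Injective ((Scheme.ΓSpecIso (CommRingCat.of R)).inv ≫
      (Spec (CommRingCat.of R)).presheaf.germ ⊤ x trivial).hom) :
    ∃ ψ : CommRingCat.of (FractionRing R) ⟶ (Spec (CommRingCat.of R)).presheaf.stalk x,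
      CommRingCat.ofHom (algebraMap R (FractionRing R)) ≫ ψ =
        (Scheme.ΓSpecIso (CommRingCat.of R)).inv ≫
          (Spec (CommRingCat.of R)).presheaf.germ ⊤ x trivial := by
  obtain ⟨ψ, hψ⟩ := lift_aux (K := FractionRing R) hF _ hinj
  refine ⟨CommRingCat.ofHom ψ, ?_⟩
  ext r
  exact RingHom.congr_fun hψ r

open Groth.Agent.Lib.Helper4.RatMapExt in
/-- Over a Dedekind domain `R` with fraction field `K`, a `K`-point of a separated `R`-scheme
locally of finite type satisfying the existence part of the valuative criterion extends to a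
section. -/
theorem exists_section_of_genPt (R : Type u) [CommRing R] [IsDedekindDomain R] {Y : Scheme.{u}}
    (q : Y ⟶ Spec (CommRingCat.of R)) [IsSeparated q] [LocallyOfFiniteType q]
    (hval : ValuativeCriterion.Existence q)
    (s : Spec (CommRingCat.of (FractionRing R)) ⟶ Y)
    (hs : s ≫ q = Spec.map (CommRingCat.ofHom (algebraMap R (FractionRing R)))) :
    ∃ σ : Spec (CommRingCat.of R) ⟶ Y, σ ≫ q = 𝟙 _ := by
  have : IsDomain (CommRingCat.of R) := inferInstanceAs (IsDomain R)
  have hint : IsIntegral (Spec (CommRingCat.of R)) := inferInstance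
  have hinj : Function.Injective ((Scheme.ΓSpecIso (CommRingCat.of R)).inv ≫
      (Spec (CommRingCat.of R)).presheaf.germ ⊤ (genericPoint (Spec (CommRingCat.of R))) trivial).hom := by
    have h1 : Function.Injective ((Spec (CommRingCat.of R)).presheaf.germ ⊤
        (genericPoint (Spec (CommRingCat.of R))) trivial).hom :=
      germ_injective_of_isIntegral (Spec (CommRingCat.of R)) (U := ⊤) _ trivial
    have h2 : Function.Injective (Scheme.ΓSpecIso (CommRingCat.of R)).inv.hom :=
      (ConcreteCategory.bijective_of_isIso (Scheme.ΓSpecIso (CommRingCat.of R)).inv).1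
    exact h1.comp h2
  obtain ⟨ψ, hψ⟩ := exists_stalk_lift R (genericPoint (Spec (CommRingCat.of R)))
    (Field.toIsField (Spec (CommRingCat.of R)).functionField) hinj
  have hφ : (Spec.map ψ ≫ s) ≫ q =
      (Spec (CommRingCat.of R)).fromSpecStalk (genericPoint (Spec (CommRingCat.of R))) ≫
        𝟙 (Spec (CommRingCat.of R)) := by
    rw [Category.comp_id, Spec.fromSpecStalk_eq, Category.assoc, hs, ← Spec.map_comp, hψ]
  obtain ⟨U, hηU, f, -, hf⟩ := spread_out_of_isGermInjective' (𝟙 (Spec (CommRingCat.of R))) q
    (Spec.map ψ ≫ s) hφ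
  have hX : ∀ x : Spec (CommRingCat.of R),
      ValuationRing ((Spec (CommRingCat.of R)).presheaf.stalk x) :=
    fun x => valuationRing_stalk R x
  obtain ⟨σ, hσ, -⟩ := exists_extension_of_valuationRing (𝟙 (Spec (CommRingCat.of R))) q hval hX
    U ⟨_, hηU⟩ f hf
  exact ⟨σ, hσ⟩

end Groth.Agent.R2.H90.DedekindSection
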