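/-
Deligne's theorem for commutative cocommutative Hopf algebras (helper90, for the Oort–Tate rows):
a finite locally free commutative group scheme of constant rank `n` is killed by `n`.
Proof: the norm argument, carried out in the convolution rings `C₁ = Hom_R(A, A)` and
`C₂ = Hom_R(A, A ⊗ A)`; `C₂` is free over `C₁`, `Δ = inl * inr`, the shear automorphism moves `inr` to `Δ`.
-/
import Mathlib
import Groth.Agent.Lib.Helper25Killed

set_option autoImplicit false
set_option linter.unusedSectionVars false
universe u v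

open TensorProduct WithConv Coalgebra

namespace Groth.Agent.R2.H90.Deligne

section PostComp

variable {R : Type*} [CommRing R] {A : Type*} [AddCommGroup A] [Module R A] [Coalgebra R A]
  {B B' : Type*} [Ring B] [Algebra R B] [Ring B'] [Algebra R B']

/-- post-composition with an algebra hom is a ring hom of convolution rings -/
noncomputable def postComp (h : B →ₐ[R] B') : WithConv (A →ₗ[R] B) →+* WithConv (A →ₗ[R] B') where
  toFun f := toConv (h.toLinearMap ∘ₗ f.ofConv)
  map_one' := by
    apply WithConv.ext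
    ext a
    simp [LinearMap.convOne_def]
  map_mul' f g := by
    apply WithConv.ext
    exact LinearMap.algHom_comp_convMul_distrib h f g
  map_zero' := by
    apply WithConv.ext
    ext a
    simp
  map_add' f g := by
    apply WithConv.ext
    ext a
    simp

@[simp] lemma postComp_apply (h : B →ₐ[R] B') (f : WithConv (A →ₗ[R] B)) (a : A) :
    postComp h f a = h (f a) := rfl

end PostComp


section Free

variable {R : Type u} [CommRing R] {A : Type u} [CommRing A] [HopfAlgebra R A]
  [Coalgebra.IsCocomm R A] {ι : Type*} [Fintype ι] [DecidableEq ι] (b : Module.Basis ι R A)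

/-- the ring of `A`-valued points, linear version -/
abbrev C₁ (R A : Type u) [CommRing R] [CommRing A] [HopfAlgebra R A] := WithConv (A →ₗ[R] A)
/-- the ring of `A ⊗ A`-valued points, linear version -/
abbrev C₂ (R A : Type u) [CommRing R] [CommRing A] [HopfAlgebra R A] :=
  WithConv (A →ₗ[R] A ⊗[R] A)

/-- the structure map `C₁ → C₂` -/
noncomputable def L : C₁ R A →+* C₂ R A := postComp (Algebra.TensorProduct.includeLeft)

/-- `C₂` as a `C₁`-algebra -/
@[instance_reducible]
noncomputable def algC : Algebra (C₁ R A) (C₂ R A) := (L (R := R) (A := A)).toAlgebra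

attribute [local instance] algC

lemma smul_def' (ψ : C₁ R A) (φ : C₂ R A) : ψ • φ = L ψ * φ := rfl

/-- the `i`-th coordinate projection `A ⊗ A → A` -/
noncomputable def P (i : ι) : A ⊗[R] A →ₗ[R] A :=
  (TensorProduct.rid R A).toLinearMap ∘ₗ LinearMap.lTensor A (b.coord i)

lemma P_tmul (i : ι) (a a' : A) : P b i (a ⊗ₜ a') = b.repr a' i • a := by
  simp [P]

lemma P_mul (i : ι) (a : A) (t : A ⊗[R] A) : P b i ((a ⊗ₜ[R] (1 : A)) * t) = a * P b i t := by
  induction t using TensorProduct.induction_on with
  | zero => simp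
  | tmul x y => simp [P_tmul, Algebra.TensorProduct.tmul_mul_tmul]
  | add x y hx hy => rw [mul_add, map_add, map_add, hx, hy, mul_add]

lemma sum_P_tmul (t : A ⊗[R] A) : ∑ i, P b i t ⊗ₜ[R] b i = t := by
  induction t using TensorProduct.induction_on with
  | zero => simp
  | tmul x y =>
    simp only [P_tmul]
    conv_rhs => rw [← b.sum_repr y, TensorProduct.tmul_sum]
    refine Finset.sum_congr rfl (fun i _ => ?_)
    rw [TensorProduct.smul_tmul]
  | add x y hx hy =>
    simp only [map_add, TensorProduct.add_tmul, Finset.sum_add_distrib, hx, hy]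


/-- coordinates of a point of `C₂` -/
noncomputable def coordFun (φ : C₂ R A) (i : ι) : C₁ R A := toConv (P b i ∘ₗ φ.ofConv)

/-- reconstruction from coordinates -/
noncomputable def recon (c : ι → C₁ R A) : C₂ R A :=
  toConv (∑ i, (TensorProduct.mk R A A).flip (b i) ∘ₗ (c i).ofConv)

lemma recon_apply (c : ι → C₁ R A) (x : A) : recon b c x = ∑ i, (c i x) ⊗ₜ[R] b i := by
  simp [recon, LinearMap.sum_apply]

lemma coordFun_apply (φ : C₂ R A) (i : ι) (x : A) : coordFun b φ i x = P b i (φ x) := rfl

lemma coordFun_smul (ψ : C₁ R A) (φ : C₂ R A) (i : ι) :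
    coordFun b (ψ • φ) i = ψ * coordFun b φ i := by
  apply WithConv.ext
  ext x
  change P b i ((L ψ * φ) x) = (ψ * coordFun b φ i) x
  rw [(ℛ R x).convMul_apply, (ℛ R x).convMul_apply, map_sum]
  refine Finset.sum_congr rfl (fun k _ => ?_)
  change P b i ((ψ ((ℛ R x).left k) ⊗ₜ[R] (1 : A)) * φ ((ℛ R x).right k)) = _
  rw [P_mul]
  rfl

/-- `C₂` is free over `C₁` with coordinates given by a basis of `A`. -/
noncomputable def equivFun : C₂ R A ≃ₗ[C₁ R A] (ι → C₁ R A) where
  toFun φ := coordFun b φ
  invFun c := recon b c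
  map_add' φ φ' := by
    funext i
    apply WithConv.ext
    ext x
    simp [coordFun]
  map_smul' ψ φ := by
    funext i
    simp only [RingHom.id_apply, Pi.smul_apply, smul_eq_mul]
    exact coordFun_smul b ψ φ i
  left_inv φ := by
    apply WithConv.ext
    ext x
    change recon b (coordFun b φ) x = φ x
    rw [recon_apply]
    simp only [coordFun_apply]
    exact sum_P_tmul b (φ x)
  right_inv c := by
    funext i
    apply WithConv.ext
    ext x
    change P b i (recon b c x) = c i x
    rw [recon_apply, map_sum]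
    simp only [P_tmul, Module.Basis.repr_self]
    rw [Finset.sum_eq_single i]
    · simp
    · intro j _ hj
      simp [hj]
    · intro h
      exact absurd (Finset.mem_univ i) h

/-- the basis of `C₂` over `C₁` -/
noncomputable def basisC : Module.Basis ι (C₁ R A) (C₂ R A) := Module.Basis.ofEquivFun (equivFun b)


/-- `inl` as a point -/
noncomputable def inlC : C₂ R A := toConv (Algebra.TensorProduct.includeLeft (R := R) (S := R) (A := A) (B := A)).toLinearMap
/-- `inr` as a point -/
noncomputable def inrC : C₂ R A := toConv (Algebra.TensorProduct.includeRight (R := R) (A := A) (B := A)).toLinearMap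
/-- `Δ` as a point -/
noncomputable def comulC : C₂ R A := toConv (Coalgebra.comul (R := R) (A := A))

lemma inlC_eq : (inlC : C₂ R A) = L (toConv LinearMap.id) := rfl

lemma inrC_eq : (inrC : C₂ R A) = postComp (Algebra.TensorProduct.includeRight) (toConv LinearMap.id) := rfl

lemma comulC_eq : (comulC : C₂ R A) = inlC * inrC := by
  apply WithConv.ext
  ext x
  change Coalgebra.comul (R := R) x = (inlC * inrC : C₂ R A) x
  rw [(ℛ R x).convMul_apply]
  conv_lhs => rw [← (ℛ R x).eq]
  refine Finset.sum_congr rfl (fun k _ => ?_)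
  change _ = ((ℛ R x).left k ⊗ₜ[R] (1 : A)) * ((1 : A) ⊗ₜ[R] (ℛ R x).right k)
  rw [Algebra.TensorProduct.tmul_mul_tmul, mul_one, one_mul]

lemma isUnit_id : IsUnit (toConv (LinearMap.id : A →ₗ[R] A)) :=
  ⟨⟨toConv LinearMap.id, toConv (HopfAlgebra.antipode R (A := A)), LinearMap.id_mul_antipode,
    LinearMap.antipode_mul_id⟩, rfl⟩

lemma isUnit_inrC : IsUnit (inrC : C₂ R A) := by
  rw [inrC_eq]
  exact (isUnit_id).map _

/-- the shear map `a ⊗ a' ↦ (a ⊗ 1) Δ(a')` -/
noncomputable def sh : A ⊗[R] A →ₐ[R] A ⊗[R] A :=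
  Algebra.TensorProduct.lift Algebra.TensorProduct.includeLeft (Bialgebra.comulAlgHom R A)
    (fun _ _ => Commute.all _ _)

/-- the inverse shear map `a ⊗ a' ↦ (a ⊗ 1) (S ⊗ 1)Δ(a')` -/
noncomputable def sh' : A ⊗[R] A →ₐ[R] A ⊗[R] A :=
  Algebra.TensorProduct.lift Algebra.TensorProduct.includeLeft
    ((Algebra.TensorProduct.map (HopfAlgebra.antipodeAlgHom R A) (AlgHom.id R A)).comp
      (Bialgebra.comulAlgHom R A))
    (fun _ _ => Commute.all _ _)

lemma sh_tmul (a a' : A) : sh (R := R) (a ⊗ₜ a') = (a ⊗ₜ[R] (1 : A)) * Coalgebra.comul (R := R) a' := by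
  simp [sh]

lemma sh'_tmul (a a' : A) : sh' (R := R) (a ⊗ₜ a') = (a ⊗ₜ[R] (1 : A)) *
    (TensorProduct.map (HopfAlgebra.antipode R (A := A)) LinearMap.id (Coalgebra.comul (R := R) a')) := by
  simp [sh']
  rfl

/-- `(S ⊗ 1) ∘ Δ` as a point -/
noncomputable def comulC' : C₂ R A :=
  toConv ((TensorProduct.map (HopfAlgebra.antipode R (A := A)) LinearMap.id) ∘ₗ Coalgebra.comul (R := R) (A := A))

lemma comulC'_eq : (comulC' : C₂ R A) = L (toConv (HopfAlgebra.antipode R (A := A))) * inrC := by
  apply WithConv.ext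
  ext x
  change (TensorProduct.map (HopfAlgebra.antipode R (A := A)) LinearMap.id) (Coalgebra.comul (R := R) x) = _
  rw [(ℛ R x).convMul_apply]
  conv_lhs => rw [← (ℛ R x).eq, map_sum]
  refine Finset.sum_congr rfl (fun k _ => ?_)
  change _ = (HopfAlgebra.antipode R ((ℛ R x).left k) ⊗ₜ[R] (1 : A)) * ((1 : A) ⊗ₜ[R] (ℛ R x).right k)
  rw [Algebra.TensorProduct.tmul_mul_tmul, mul_one, one_mul]
  simp

/-- `sh ∘ ((g ⊗ 1) ∘ Δ) = L g * Δ` -/
lemma sh_comp_map_comul (g : C₁ R A) :
    postComp sh (toConv ((TensorProduct.map g.ofConv LinearMap.id) ∘ₗ Coalgebra.comul (R := R) (A := A))) =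
      L g * comulC := by
  apply WithConv.ext
  ext x
  change sh ((TensorProduct.map g.ofConv LinearMap.id) (Coalgebra.comul (R := R) x)) = (L g * comulC : C₂ R A) x
  rw [(ℛ R x).convMul_apply]
  conv_lhs => rw [← (ℛ R x).eq, map_sum, map_sum]
  refine Finset.sum_congr rfl (fun k _ => ?_)
  rw [TensorProduct.map_tmul, sh_tmul]
  rfl

lemma sh'_comp_comul :
    postComp sh' (comulC : C₂ R A) = L (toConv LinearMap.id) * comulC' := by
  apply WithConv.ext
  ext x
  change sh' (Coalgebra.comul (R := R) x) = (L (toConv LinearMap.id) * comulC' : C₂ R A) x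
  rw [(ℛ R x).convMul_apply]
  conv_lhs => rw [← (ℛ R x).eq, map_sum]
  refine Finset.sum_congr rfl (fun k _ => ?_)
  rw [sh'_tmul]
  rfl

lemma sh_comp_sh' : (sh (R := R) (A := A)).comp sh' = AlgHom.id R _ := by
  apply Algebra.TensorProduct.ext
  · ext a
    simp [sh, sh']
  · apply AlgHom.toLinearMap_injective
    have h := sh_comp_map_comul (R := R) (A := A) (toConv (HopfAlgebra.antipode R (A := A)))
    rw [comulC_eq, inlC_eq, ← mul_assoc, ← map_mul, LinearMap.antipode_mul_id, map_one, one_mul] at h
    ext a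
    have h2 := congrArg (fun f : C₂ R A => f a) h
    simp only [postComp_apply] at h2
    change sh (sh' ((1 : A) ⊗ₜ[R] a)) = (1 : A) ⊗ₜ[R] a
    rw [sh'_tmul, ← Algebra.TensorProduct.one_def, one_mul]
    exact h2

lemma sh'_comp_sh : (sh' (R := R) (A := A)).comp sh = AlgHom.id R _ := by
  apply Algebra.TensorProduct.ext
  · ext a
    simp [sh, sh']
  · apply AlgHom.toLinearMap_injective
    have h := sh'_comp_comul (R := R) (A := A)
    rw [comulC'_eq, ← mul_assoc, ← map_mul, LinearMap.id_mul_antipode, map_one, one_mul] at h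
    ext a
    have h2 := congrArg (fun f : C₂ R A => f a) h
    simp only [postComp_apply] at h2
    change sh' (sh ((1 : A) ⊗ₜ[R] a)) = (1 : A) ⊗ₜ[R] a
    rw [sh_tmul, ← Algebra.TensorProduct.one_def, one_mul]
    exact h2


lemma postComp_comp {B B' B'' : Type*} [Ring B] [Algebra R B] [Ring B'] [Algebra R B'] [Ring B'']
    [Algebra R B''] (h : B →ₐ[R] B') (h' : B' →ₐ[R] B'') (f : WithConv (A →ₗ[R] B)) :
    postComp h' (postComp h f) = postComp (h'.comp h) f := rfl

lemma postComp_id {B : Type*} [Ring B] [Algebra R B] (f : WithConv (A →ₗ[R] B)) :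
    postComp (AlgHom.id R B) f = f := rfl

/-- the automorphism of `C₂` over `C₁` induced by the shear map -/
noncomputable def tau : C₂ R A ≃ₐ[C₁ R A] C₂ R A :=
  AlgEquiv.ofAlgHom
    { (postComp sh : C₂ R A →+* C₂ R A) with
      commutes' := fun ψ => by
        apply WithConv.ext
        ext x
        change sh ((ψ x) ⊗ₜ[R] (1 : A)) = (ψ x) ⊗ₜ[R] (1 : A)
        rw [sh_tmul, Bialgebra.comul_one, mul_one] }
    { (postComp sh' : C₂ R A →+* C₂ R A) with
      commutes' := fun ψ => by
        apply WithConv.ext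
        ext x
        change sh' ((ψ x) ⊗ₜ[R] (1 : A)) = (ψ x) ⊗ₜ[R] (1 : A)
        rw [sh'_tmul, Bialgebra.comul_one]
        simp [Algebra.TensorProduct.one_def] }
    (by
      apply AlgHom.ext
      intro f
      change postComp sh (postComp sh' f) = f
      rw [postComp_comp, sh_comp_sh', postComp_id])
    (by
      apply AlgHom.ext
      intro f
      change postComp sh' (postComp sh f) = f
      rw [postComp_comp, sh'_comp_sh, postComp_id])

lemma tau_inrC : tau (inrC : C₂ R A) = comulC := by
  apply WithConv.ext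
  ext x
  change sh ((1 : A) ⊗ₜ[R] x) = Coalgebra.comul (R := R) x
  rw [sh_tmul, ← Algebra.TensorProduct.one_def, one_mul]

include b in
/-- **Deligne's theorem**, free case, linear form: the `n`-th convolution power of the identity of a
commutative cocommutative Hopf algebra which is free of rank `n` is trivial. -/
theorem id_pow_card : (toConv (LinearMap.id : A →ₗ[R] A)) ^ Fintype.card ι = 1 := by
  have hN1 : Algebra.norm (C₁ R A) (inlC : C₂ R A) = (toConv LinearMap.id) ^ Fintype.card ι := by
    rw [inlC_eq]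
    exact Algebra.norm_algebraMap_of_basis (basisC b) _
  have hN2 : Algebra.norm (C₁ R A) (comulC : C₂ R A) = Algebra.norm (C₁ R A) (inrC : C₂ R A) := by
    rw [← tau_inrC, Algebra.norm_eq_of_algEquiv]
  have hN3 : Algebra.norm (C₁ R A) (comulC : C₂ R A) =
      Algebra.norm (C₁ R A) (inlC : C₂ R A) * Algebra.norm (C₁ R A) (inrC : C₂ R A) := by
    rw [comulC_eq, map_mul]
  have hu : IsUnit (Algebra.norm (C₁ R A) (inrC : C₂ R A)) := (isUnit_inrC).map _
  rw [hN2] at hN3
  have : Algebra.norm (C₁ R A) (inlC : C₂ R A) = 1 := by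
    apply hu.mul_right_cancel
    rw [one_mul]
    exact hN3.symm
  rw [← hN1, this]


include b in
/-- **Deligne's theorem**, free case. -/
theorem algHom_id_pow_card : (toConv (AlgHom.id R A)) ^ Fintype.card ι = 1 := by
  apply WithConv.ofConv_injective
  apply AlgHom.toLinearMap_injective
  apply WithConv.toConv_injective
  rw [AlgHom.toLinearMap_convPow]
  exact id_pow_card b

end Free

section Proj

open SGA3b

variable {R : Type u} [CommRing R] {A : Type u} [CommRing A] [HopfAlgebra R A]
  [Coalgebra.IsCocomm R A] [Module.Finite R A] [Module.Projective R A]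

/-- **Deligne's theorem**: a commutative finite locally free group scheme of constant rank `n` is
killed by `n`. -/
theorem algHom_id_pow_rank (n : ℕ) (hrk : ∀ q : PrimeSpectrum R, Module.rankAtStalk A q = n) :
    (toConv (AlgHom.id R A)) ^ n = 1 := by
  have key : ∀ a : A, powConv R A n a = algebraMap R A (Coalgebra.counit (R := R) a) := by
    intro a
    rw [← sub_eq_zero]
    refine Module.eq_zero_of_localization_maximal
      (fun P => Localization.AtPrime P ⊗[R] A)
      (fun P _ => TensorProduct.mk R (Localization.AtPrime P) A 1) _ (fun P hP => ?_)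
    let T := Localization.AtPrime P
    have hfree : Module.Free T (T ⊗[R] A) := Module.free_of_flat_of_isLocalRing
    have hfin : Module.finrank T (T ⊗[R] A) = n := by
      rw [← Module.rankAtStalk_eq_finrank_tensorProduct (R := R) (M := A) ⟨P, hP.isPrime⟩, hrk]
    classical
    have h1 := algHom_id_pow_card (Module.Free.chooseBasis T (T ⊗[R] A))
    rw [← Module.finrank_eq_card_chooseBasisIndex, hfin] at h1
    have h2 : powConv T (T ⊗[R] A) n ((1 : T) ⊗ₜ[R] a) =
        algebraMap T (T ⊗[R] A) (Coalgebra.counit (R := T) ((1 : T) ⊗ₜ[R] a)) := by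
      unfold powConv
      rw [h1]
      rfl
    rw [Groth.Agent.Lib.Helper25.Tors.powConv_baseChange] at h2
    rw [map_sub, sub_eq_zero, TensorProduct.mk_apply, TensorProduct.mk_apply, h2,
      TensorProduct.counit_tmul, Algebra.TensorProduct.algebraMap_apply,
      Algebra.algebraMap_eq_smul_one (Coalgebra.counit (R := R) a), TensorProduct.tmul_smul]
    simp [CommSemiring.counit_apply, TensorProduct.smul_tmul']
  apply WithConv.ofConv_injective
  apply AlgHom.ext
  intro a
  exact key a

end Proj

end Groth.Agent.R2.H90.Deligne
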