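import Mathlib
import Groth.Prelude.Def_NonAbH2

/-!
Helper library (helper90): point-wise arguments for pseudo-torsors under group schemes.

* `exists_act_eq`, `act_left_injective`: simple transitivity of the action on `T`-points;
* `comp_bijective_of_isIso_pullback`: if `g : G ⟶ G'` becomes an isomorphism after base change
  along `j : S' ⟶ S`, then it is bijective on `T`-points for every `T` factoring through `j`;
* `exists_point_of_pushforward`: if moreover `P → P'` is a `g`-equivariant morphism of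
  pseudo-torsors, `P'` has a section and `P ×_S S' → S'` is an effective epimorphism, then `P`
  has a point over `j`.
-/

set_option autoImplicit false
set_option linter.style.haveILetI false
universe u

open CategoryTheory MonoidalCategory CartesianMonoidalCategory MonObj AlgebraicGeometry Limits

namespace Groth.Agent.R2.H90.TorsorPts

section Points

variable {S : Scheme.{u}} {G P : Over S} [GrpObj G] (a : AlgGrp.Action G P)

lemma one_act_point {T : Over S} (q : T ⟶ P) : lift (toUnit T ≫ η[G]) q ≫ a.act = q := by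
  have h1 : lift (toUnit T ≫ η[G]) q = lift (toUnit T) q ≫ (η[G] ▷ P) := by
    apply CartesianMonoidalCategory.hom_ext <;> simp
  rw [h1, Category.assoc, a.one_act]
  simp

/-- In a pseudo-torsor, any two `T`-points differ by a `T`-point of `G`. -/
lemma exists_act_eq (h : NonAbH1.IsPseudoTorsorSch a) {T : Over S} (p q : T ⟶ P) :
    ∃ g : T ⟶ G, lift g q ≫ a.act = p := by
  haveI : IsIso (lift a.act (snd G P)) := h
  refine ⟨lift p q ≫ inv (lift a.act (snd G P)) ≫ fst G P, ?_⟩
  have h0 : inv (lift a.act (snd G P)) ≫ snd G P = snd P P := by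
    rw [IsIso.inv_comp_eq]; simp
  have h2 : inv (lift a.act (snd G P)) ≫ a.act = fst P P := by
    rw [IsIso.inv_comp_eq]; simp
  have h3 : lift (lift p q ≫ inv (lift a.act (snd G P)) ≫ fst G P) q =
      lift p q ≫ inv (lift a.act (snd G P)) := by
    apply CartesianMonoidalCategory.hom_ext
    · simp
    · simp [h0]
  rw [h3, Category.assoc, h2]
  simp

/-- In a pseudo-torsor, the action on `T`-points is free. -/
lemma act_left_injective (h : NonAbH1.IsPseudoTorsorSch a) {T : Over S} (g₁ g₂ : T ⟶ G)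
    (q : T ⟶ P) (e : lift g₁ q ≫ a.act = lift g₂ q ≫ a.act) : g₁ = g₂ := by
  haveI : IsIso (lift a.act (snd G P)) := h
  have h1 : lift g₁ q ≫ lift a.act (snd G P) = lift g₂ q ≫ lift a.act (snd G P) := by
    apply CartesianMonoidalCategory.hom_ext
    · simpa using e
    · simp
  have h2 := (cancel_mono _).1 h1
  simpa using congr($h2 ≫ fst G P)

end Points

/-- If `g : G ⟶ G'` becomes an isomorphism after base change along `j`, it is bijective on
`T`-points for all `T` factoring through `j`. -/
lemma comp_bijective_of_isIso_pullback {S S' : Scheme.{u}} (j : S' ⟶ S) {G G' : Over S}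
    (g : G ⟶ G') (hg : IsIso ((Over.pullback j).map g)) (T₀ : Over S') :
    Function.Bijective (fun h : (Over.map j).obj T₀ ⟶ G => h ≫ g) := by
  have key : (fun h : (Over.map j).obj T₀ ⟶ G => h ≫ g) =
      ((Over.mapPullbackAdj j).homEquiv T₀ G').symm ∘
        (fun k => k ≫ (Over.pullback j).map g) ∘ ((Over.mapPullbackAdj j).homEquiv T₀ G) := by
    funext h
    apply ((Over.mapPullbackAdj j).homEquiv T₀ G').injective
    simp [Adjunction.homEquiv_naturality_right]
  rw [key]
  refine ((Over.mapPullbackAdj j).homEquiv T₀ G').symm.bijective.comp (Function.Bijective.comp ?_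
    ((Over.mapPullbackAdj j).homEquiv T₀ G).bijective)
  exact ⟨fun k₁ k₂ e => (cancel_mono _).1 e, fun k => ⟨k ≫ inv ((Over.pullback j).map g), by simp⟩⟩

/-- Bijectivity on points passes to base change: if `g` is bijective on `(Over.map f).obj T`-points,
its base change along `f` is bijective on `T`-points. -/
lemma pullback_map_comp_bijective {S S' : Scheme.{u}} (f : S' ⟶ S) {G G' : Over S} (g : G ⟶ G')
    (T : Over S') (hb : Function.Bijective (fun k : (Over.map f).obj T ⟶ G => k ≫ g)) :
    Function.Bijective (fun h : T ⟶ (Over.pullback f).obj G => h ≫ (Over.pullback f).map g) := by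
  have key : (fun h : T ⟶ (Over.pullback f).obj G => h ≫ (Over.pullback f).map g) =
      ((Over.mapPullbackAdj f).homEquiv T G') ∘ (fun k => k ≫ g) ∘
        ((Over.mapPullbackAdj f).homEquiv T G).symm := by
    funext h
    simp [Adjunction.homEquiv_naturality_right]
  rw [key]
  exact ((Over.mapPullbackAdj f).homEquiv T G').bijective.comp
    (hb.comp ((Over.mapPullbackAdj f).homEquiv T G).symm.bijective)

section PushBij

variable {S S' : Scheme.{u}} (j : S' ⟶ S) {G G' P P' : Over S} [GrpObj G] [GrpObj G']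
  (g : G ⟶ G') [IsMonHom g]
  (a : AlgGrp.Action G P) (a' : AlgGrp.Action G' P')
  (f : P ⟶ P')

include a a' in
/-- An equivariant morphism of pseudo-torsors along a homomorphism which is bijective on points over
`S'` is injective on `T`-points for all `T` factoring through `S'`. -/
lemma point_ext' (hbij : ∀ T₀ : Over S', Function.Bijective (fun h : (Over.map j).obj T₀ ⟶ G => h ≫ g))
    (hP : NonAbH1.IsPseudoTorsorSch a) (hP' : NonAbH1.IsPseudoTorsorSch a')
    (hf : a.act ≫ f = lift (fst G P ≫ g) (snd G P ≫ f) ≫ a'.act)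
    (T₀ : Over S') (q₁ q₂ : (Over.map j).obj T₀ ⟶ P) (e : q₁ ≫ f = q₂ ≫ f) : q₁ = q₂ := by
  obtain ⟨h, hh⟩ := exists_act_eq a hP q₁ q₂
  have h1 : lift (h ≫ g) (q₂ ≫ f) ≫ a'.act = q₁ ≫ f := by
    rw [← hh, Category.assoc, hf, ← Category.assoc]
    congr 1
    apply CartesianMonoidalCategory.hom_ext <;> simp
  have h2 : lift (toUnit _ ≫ η[G']) (q₂ ≫ f) ≫ a'.act = q₂ ≫ f := one_act_point a' _
  have h3 : h ≫ g = toUnit _ ≫ η[G'] :=
    act_left_injective a' hP' _ _ (q₂ ≫ f) (by rw [h1, h2, e])
  have h4 : (toUnit ((Over.map j).obj T₀) ≫ η[G]) ≫ g = toUnit _ ≫ η[G'] := by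
    rw [Category.assoc, IsMonHom.one_hom]
  have h5 : h = toUnit _ ≫ η[G] :=
    (hbij T₀).1 (h3.trans h4.symm)
  rw [← hh, h5]
  exact one_act_point a q₂

omit [IsMonHom g] in
include a a' in
/-- Lifting a section of `P'` to `T`-points of `P`, for `T` factoring through `S'` on which `P`
has a point. -/
lemma exists_point_over' (hbij : ∀ T₀ : Over S', Function.Bijective (fun h : (Over.map j).obj T₀ ⟶ G => h ≫ g))
    (hP' : NonAbH1.IsPseudoTorsorSch a')
    (hf : a.act ≫ f = lift (fst G P ≫ g) (snd G P ≫ f) ≫ a'.act)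
    (σ' : 𝟙_ (Over S) ⟶ P') (T₀ : Over S') (p : (Over.map j).obj T₀ ⟶ P) :
    ∃ q : (Over.map j).obj T₀ ⟶ P, q ≫ f = toUnit _ ≫ σ' := by
  obtain ⟨g', hg'⟩ := exists_act_eq a' hP' (toUnit _ ≫ σ') (p ≫ f)
  obtain ⟨g₀, hg₀⟩ := (hbij T₀).2 g'
  refine ⟨lift g₀ p ≫ a.act, ?_⟩
  rw [Category.assoc, hf, ← hg', ← Category.assoc]
  congr 1
  apply CartesianMonoidalCategory.hom_ext
  · simpa using hg₀
  · simp

include a a' g f in
/-- If `P → P'` is equivariant along `g : G → G'`, `g` is an isomorphism over `S'`, `P'` has a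
section, and `P ×_S S' → S'` is an effective epimorphism, then `P` has a point over `S' → S`. -/
theorem exists_point_of_pushforward' (hbij : ∀ T₀ : Over S', Function.Bijective (fun h : (Over.map j).obj T₀ ⟶ G => h ≫ g))
    (hP : NonAbH1.IsPseudoTorsorSch a) (hP' : NonAbH1.IsPseudoTorsorSch a')
    (hf : a.act ≫ f = lift (fst G P ≫ g) (snd G P ≫ f) ≫ a'.act)
    (σ' : 𝟙_ (Over S) ⟶ P') [EffectiveEpi (pullback.snd P.hom j)] :
    ∃ z : S' ⟶ P.left, z ≫ P.hom = j := by
  let T₀ : Over S' := Over.mk (pullback.snd P.hom j)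
  let p : (Over.map j).obj T₀ ⟶ P := Over.homMk (pullback.fst P.hom j) pullback.condition
  obtain ⟨q, hq⟩ := exists_point_over' j g a a' f hbij hP' hf σ' T₀ p
  have hqw : q.left ≫ P.hom = pullback.snd P.hom j ≫ j := Over.w q
  have hqf : q.left ≫ f.left = (pullback.snd P.hom j ≫ j) ≫ σ'.left := by
    have := congr(($hq).left)
    simpa [T₀] using this
  have compat : ∀ {Z : Scheme.{u}} (g₁ g₂ : Z ⟶ pullback P.hom j),
      g₁ ≫ pullback.snd P.hom j = g₂ ≫ pullback.snd P.hom j → g₁ ≫ q.left = g₂ ≫ q.left := by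
    intro Z g₁ g₂ e
    let Z₀ : Over S' := Over.mk (g₁ ≫ pullback.snd P.hom j)
    let q₁ : (Over.map j).obj Z₀ ⟶ P := Over.homMk (g₁ ≫ q.left) (by
      simp only [Category.assoc, hqw]; rfl)
    let q₂ : (Over.map j).obj Z₀ ⟶ P := Over.homMk (g₂ ≫ q.left) (by
      simp only [Category.assoc, hqw]
      rw [← Category.assoc, ← e]; rfl)
    have e12 : q₁ ≫ f = q₂ ≫ f := by
      ext
      simp only [Over.comp_left, q₁, q₂, Over.homMk_left, Category.assoc, hqf]
      rw [← Category.assoc, ← Category.assoc, e]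
      simp
    have := point_ext' j g a a' f hbij hP hP' hf Z₀ q₁ q₂ e12
    exact congr(($this).left)
  refine ⟨EffectiveEpi.desc (pullback.snd P.hom j) q.left compat, ?_⟩
  rw [← cancel_epi (pullback.snd P.hom j), ← Category.assoc, EffectiveEpi.fac, hqw]

end PushBij

section Push

variable {S S' : Scheme.{u}} (j : S' ⟶ S) {G G' P P' : Over S} [GrpObj G] [GrpObj G']
  (g : G ⟶ G') [IsMonHom g]
  (a : AlgGrp.Action G P) (a' : AlgGrp.Action G' P')
  (f : P ⟶ P')

include a a' in
/-- An equivariant morphism of pseudo-torsors along a homomorphism which is an isomorphism over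
`S'` is injective on `T`-points for all `T` factoring through `S'`. -/
lemma point_ext (hg : IsIso ((Over.pullback j).map g))
    (hP : NonAbH1.IsPseudoTorsorSch a) (hP' : NonAbH1.IsPseudoTorsorSch a')
    (hf : a.act ≫ f = lift (fst G P ≫ g) (snd G P ≫ f) ≫ a'.act)
    (T₀ : Over S') (q₁ q₂ : (Over.map j).obj T₀ ⟶ P) (e : q₁ ≫ f = q₂ ≫ f) : q₁ = q₂ :=
  point_ext' j g a a' f (comp_bijective_of_isIso_pullback j g hg) hP hP' hf T₀ q₁ q₂ e

omit [IsMonHom g] in
include a a' in
/-- Lifting a section of `P'` to `T`-points of `P`, for `T` factoring through `S'` on which `P`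
has a point. -/
lemma exists_point_over (hg : IsIso ((Over.pullback j).map g))
    (hP' : NonAbH1.IsPseudoTorsorSch a')
    (hf : a.act ≫ f = lift (fst G P ≫ g) (snd G P ≫ f) ≫ a'.act)
    (σ' : 𝟙_ (Over S) ⟶ P') (T₀ : Over S') (p : (Over.map j).obj T₀ ⟶ P) :
    ∃ q : (Over.map j).obj T₀ ⟶ P, q ≫ f = toUnit _ ≫ σ' :=
  exists_point_over' j g a a' f (comp_bijective_of_isIso_pullback j g hg) hP' hf σ' T₀ p

include a a' g f in
/-- If `P → P'` is equivariant along `g : G → G'`, `g` is an isomorphism over `S'`, `P'` has a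
section, and `P ×_S S' → S'` is an effective epimorphism, then `P` has a point over `S' → S`. -/
theorem exists_point_of_pushforward (hg : IsIso ((Over.pullback j).map g))
    (hP : NonAbH1.IsPseudoTorsorSch a) (hP' : NonAbH1.IsPseudoTorsorSch a')
    (hf : a.act ≫ f = lift (fst G P ≫ g) (snd G P ≫ f) ≫ a'.act)
    (σ' : 𝟙_ (Over S) ⟶ P') [EffectiveEpi (pullback.snd P.hom j)] :
    ∃ z : S' ⟶ P.left, z ≫ P.hom = j :=
  exists_point_of_pushforward' j g a a' f (comp_bijective_of_isIso_pullback j g hg) hP hP' hf σ'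

end Push

/-- Every morphism to the spectrum of a field is flat. -/
theorem flat_of_isField {K : CommRingCat.{u}} (hK : IsField K) {Z : Scheme.{u}} (h : Z ⟶ Spec K) :
    Flat h := by
  rw [HasRingHomProperty.iff_of_source_openCover (P := @Flat) Z.affineCover]
  intro i
  have hΓ : IsField Γ(Spec K, ⊤) :=
    (Scheme.ΓSpecIso K).commRingCatIsoToRingEquiv.toMulEquiv.isField hK
  letI := hΓ.toField
  algebraize [((Z.affineCover.f i ≫ h).appTop).hom]
  exact inferInstanceAs (Module.Flat Γ(Spec K, ⊤) Γ(Z.affineCover.X i, ⊤))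

end Groth.Agent.R2.H90.TorsorPts
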