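import Mathlib
import Groth.Agent.S18860
import Groth.Agent.Lib.Helper4FEtNormal
import Groth.Agent.R2.H90TorsorPts

/-!
Helper library (helper90): torsors under finite group schemes over a normal integral base.

* `isFinite_of_torsor`: an fppf torsor under a finite group scheme is finite over the base;
* `section_of_generic_section`: an integral `X`-scheme over a normal integral scheme `X` with a
  point over the generic point has a section;
* `generic_fibre_effectiveEpi`: the generic fibre of a torsor under a finite group scheme is an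
  fpqc cover of the generic point;
* `section_of_pushforward`: if `g : G ⟶ G'` is bijective on points over the generic point of `X`,
  `G` is finite, `P → P'` is `g`-equivariant with `P` a torsor and `P'` a pseudo-torsor with a
  section, then `P` has a section. (No flatness assumptions.)
-/

set_option autoImplicit false
universe u

open CategoryTheory AlgebraicGeometry Limits

namespace Groth.Agent.R2.H90.NormalTorsor

theorem isFinite_of_torsor {X : Scheme.{u}} (G Y : Over X) [GrpObj G] [IsFinite G.hom]
    (a : AlgGrp.Action G Y) (hY : NonAbH1.IsTorsorFor Scheme.fppfPrecoverage a) :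
    IsFinite Y.hom := by
  obtain ⟨hpt, R', hR', hsec⟩ := hY
  exact (Groth.Agent.S18860.result a
    ⟨hpt, R', Scheme.fppfPrecoverage_le_fpqcPrecoverage _ hR', hsec⟩).2.2.1 inferInstance

theorem section_of_generic_section {X : Scheme.{u}} [IsIntegral X] (hX : Pi1.IsNormalScheme X)
    (Y : Over X) [IsIntegralHom Y.hom]
    (hgen : NonAbH1.HasSectionOver Y (X.fromSpecStalk (genericPoint X))) :
    NonAbH1.HasSectionOver Y (𝟙 X) := by
  obtain ⟨s, hs⟩ := hgen
  obtain ⟨φ, hφ, -⟩ := Groth.Agent.Lib.Helper4.FEtNormal.exists_extension hX (𝟙 X) Y.hom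
    (pullback.snd (𝟙 X) (X.fromSpecStalk (genericPoint X)) ≫ s)
    (by rw [Category.assoc, hs, ← pullback.condition])
  exact ⟨φ, hφ⟩

/-- A scheme over `X` which has sections locally for the fppf topology has a point over the generic
point. -/
theorem exists_point_over_genericPoint {X : Scheme.{u}} [IsIntegral X] (P : Over X)
    (hP : NonAbH1.IsLocallyTrivialFor Scheme.fppfPrecoverage P) :
    ∃ y : P.left, P.hom y = genericPoint X := by
  obtain ⟨R', hR', hsec⟩ := hP
  obtain ⟨I, V, φ, rfl⟩ := Presieve.exists_eq_ofArrows R'
  rw [Scheme.fppfPrecoverage, Scheme.ofArrows_mem_precoverage_iff] at hR'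
  obtain ⟨i, v, hv⟩ := hR'.1 (genericPoint X)
  obtain ⟨s, hs⟩ := hsec (φ i) ⟨i⟩
  refine ⟨s v, ?_⟩
  rw [← Scheme.Hom.comp_apply, hs, hv]

/-- The generic fibre of a quasi-compact `X`-scheme with a point over the generic point is an fpqc
cover of the generic point. -/
theorem generic_fibre_effectiveEpi {X : Scheme.{u}} [IsIntegral X] (P : Over X) [QuasiCompact P.hom]
    (hne : ∃ y : P.left, P.hom y = genericPoint X) :
    EffectiveEpi (pullback.snd P.hom (X.fromSpecStalk (genericPoint X))) := by
  set j := X.fromSpecStalk (genericPoint X) with hj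
  have hflat : Flat (pullback.snd P.hom j) :=
    Groth.Agent.R2.H90.TorsorPts.flat_of_isField (Field.toIsField X.functionField) _
  have hsurj : Surjective (pullback.snd P.hom j) := by
    obtain ⟨y, hy⟩ := hne
    have hcl : j (IsLocalRing.closedPoint (X.presheaf.stalk (genericPoint X))) = genericPoint X :=
      Scheme.fromSpecStalk_closedPoint
    obtain ⟨z, -, hz⟩ := Scheme.Pullback.exists_preimage_pullback (f := P.hom) (g := j) y
      (IsLocalRing.closedPoint (X.presheaf.stalk (genericPoint X))) (hy.trans hcl.symm)
    constructor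
    intro w
    have : Subsingleton (Spec (X.presheaf.stalk (genericPoint X))) := by
      show Subsingleton (PrimeSpectrum X.functionField)
      infer_instance
    exact ⟨z, Subsingleton.elim _ _⟩
  have hqc : QuasiCompact (pullback.snd P.hom j) := inferInstance
  infer_instance

open MonoidalCategory CartesianMonoidalCategory in
theorem section_of_pushforward {X : Scheme.{u}} [IsIntegral X] (hX : Pi1.IsNormalScheme X)
    (G G' : Over X) [GrpObj G] [GrpObj G'] [IsFinite G.hom] (g : G ⟶ G') [IsMonHom g]
    (hbij : ∀ T₀ : Over (Spec (X.presheaf.stalk (genericPoint X))), Function.Bijective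
      (fun h : (Over.map (X.fromSpecStalk (genericPoint X))).obj T₀ ⟶ G => h ≫ g))
    (P : Over X) (a : AlgGrp.Action G P) (hP : NonAbH1.IsTorsorFor Scheme.fppfPrecoverage a)
    (P' : Over X) (a' : AlgGrp.Action G' P') (hP' : NonAbH1.IsPseudoTorsorSch a')
    (hpush : NonAbH1.IsPushforwardAlongSch g a a') (htriv : NonAbH1.HasSectionOver P' (𝟙 X)) :
    NonAbH1.HasSectionOver P (𝟙 X) := by
  have hfin : IsFinite P.hom := isFinite_of_torsor G P a hP
  refine section_of_generic_section hX P ?_
  obtain ⟨f, hf⟩ := hpush
  obtain ⟨σ, hσ⟩ := htriv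
  let σ' : 𝟙_ (Over X) ⟶ P' := Over.homMk σ hσ
  have := generic_fibre_effectiveEpi P (exists_point_over_genericPoint P hP.2)
  obtain ⟨z, hz⟩ := Groth.Agent.R2.H90.TorsorPts.exists_point_of_pushforward'
    (X.fromSpecStalk (genericPoint X)) g a a' f hbij hP.1 hP' hf σ'
  exact ⟨z, hz⟩

end Groth.Agent.R2.H90.NormalTorsor
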