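import Mathlib
import Groth.Agent.R2.H90NormalTorsor
import Groth.Agent.R2.H90TorsorPts
import Groth.Prelude.Def_ActBC
import Groth.Agent.Lib.Helper4RatMapExt
import Groth.Agent.Lib.Helper8Grp
import Groth.Agent.Lib.Helper12Descent
import Groth.Agent.Lib.Helper12Torsor
import Groth.Agent.S18860

/-!
Helper library (helper90): torsors under étale group schemes over a field, over a normal integral
base `S` (statements S15873, S15874).

* `dense_preimage_genericPoint`, `map_genericPoint_of_flat`, `eq_genericPoint_of_map_eq`: generic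
  fibres of flat / quasi-finite morphisms;
* `section_of_residue_section`: a generic (residue field valued) section of an integral morphism to
  a normal integral scheme extends;
* `exists_extension_etale_point`: points of an étale `k`-scheme extend from the generic point of a
  normal integral `k`-scheme;
* `exists_integral_open_nhd`: a scheme étale over a normal integral scheme is covered by integral
  opens;
* `Good`, `good_unique`, `exists_good_local`, `exists_good_global`: the element `g'` of `G(E)` with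
  `g' • e = x` on the generic fibre, for a generic point `x` of a torsor `E`;
* `exists_section`: descent of `e ↦ g'(e) • e` along `E → S` gives the section through `x`;
* `main`: sections of torsors under étale `k`-groups over normal integral `S` correspond to points
  over the generic point.
-/

set_option autoImplicit false
set_option linter.style.haveILetI false
universe u
open CategoryTheory AlgebraicGeometry Limits

namespace Groth.Agent.R2.H90.EtTorsor

/-- The generic fibre of a flat morphism to an irreducible scheme is dense. -/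
lemma dense_preimage_genericPoint {T S : Scheme.{u}} (f : T ⟶ S) [Flat f] [IrreducibleSpace S] :
    Dense {ζ : T | f ζ = genericPoint S} := by
  intro ζ
  obtain ⟨ζ', h1, h2⟩ := Flat.generalizingMap f (genericPoint_specializes (f ζ))
  have h3 : ({ζ'} : Set T) ⊆ {ζ : T | f ζ = genericPoint S} := Set.singleton_subset_iff.mpr h2
  exact closure_mono h3 (specializes_iff_mem_closure.mp h1)

/-- points over the generic point factor through its residue field. -/
lemma exists_factor_fromSpecResidueField {T S : Scheme.{u}} (f : T ⟶ S) (ζ : T) (η : S)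
    (h : f ζ = η) :
    ∃ c : Spec (T.residueField ζ) ⟶ Spec (S.residueField η),
      T.fromSpecResidueField ζ ≫ f = c ≫ S.fromSpecResidueField η := by
  subst h
  exact ⟨Spec.map (f.residueFieldMap ζ),
    (Scheme.Hom.SpecMap_residueFieldMap_fromSpecResidueField f ζ).symm⟩

/-- A flat morphism maps the generic point to the generic point. -/
lemma map_genericPoint_of_flat {V S : Scheme.{u}} (f : V ⟶ S) [Flat f] [IrreducibleSpace V]
    [IrreducibleSpace S] : f (genericPoint V) = genericPoint S := by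
  obtain ⟨v', h1, h2⟩ := Flat.generalizingMap f (genericPoint_specializes (f (genericPoint V)))
  have : v' = genericPoint V := (h1.antisymm (genericPoint_specializes v')).eq
  rw [← this, h2]

/-- A locally quasi-finite morphism from an irreducible scheme has only the generic point in the
fibre through the generic point. -/
lemma eq_genericPoint_of_map_eq {V S : Scheme.{u}} (f : V ⟶ S) [LocallyQuasiFinite f]
    [IrreducibleSpace V] (v : V) (h : f v = f (genericPoint V)) : v = genericPoint V := by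
  have hd := Scheme.Hom.isDiscrete_preimage_singleton f (f (genericPoint V))
  rw [isDiscrete_iff_forall_mem_exists_isOpen] at hd
  obtain ⟨O, hO, hOv⟩ := hd v h
  have hvO : v ∈ O := by
    have : v ∈ O ∩ f ⁻¹' {f (genericPoint V)} := by rw [hOv]; rfl
    exact this.1
  have hgO : genericPoint V ∈ O := (genericPoint_specializes v).mem_open hO hvO
  have : genericPoint V ∈ O ∩ f ⁻¹' {f (genericPoint V)} := ⟨hgO, rfl⟩
  rw [hOv] at this
  exact this.symm


lemma isIso_residue {X : Scheme.{u}} (x : X) (hF : IsField (X.presheaf.stalk x)) :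
    IsIso (X.residue x) := by
  rw [ConcreteCategory.isIso_iff_bijective]
  refine ⟨?_, X.residue_surjective x⟩
  letI := hF.toField
  exact RingHom.injective (X.residue x).hom

lemma isIso_SpecMap_residue {X : Scheme.{u}} (x : X) (hF : IsField (X.presheaf.stalk x)) :
    IsIso (Spec.map (X.residue x)) := by
  haveI := isIso_residue x hF
  infer_instance


theorem section_of_generic_section' {X : Scheme.{u}} [IsIntegral X] (hX : Pi1.IsNormalScheme X)
    (Y : Over X) [IsIntegralHom Y.hom]
    (s : Spec (X.presheaf.stalk (genericPoint X)) ⟶ Y.left)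
    (hs : s ≫ Y.hom = X.fromSpecStalk (genericPoint X)) :
    ∃ φ : X ⟶ Y.left, φ ≫ Y.hom = 𝟙 X ∧ X.fromSpecStalk (genericPoint X) ≫ φ = s := by
  obtain ⟨φ, hφ, hφ2⟩ := Groth.Agent.Lib.Helper4.FEtNormal.exists_extension hX (𝟙 X) Y.hom
    (pullback.snd (𝟙 X) (X.fromSpecStalk (genericPoint X)) ≫ s)
    (by rw [Category.assoc, hs, ← pullback.condition])
  refine ⟨φ, hφ, ?_⟩
  have h1 : pullback.fst (𝟙 X) (X.fromSpecStalk (genericPoint X)) =
      pullback.snd (𝟙 X) (X.fromSpecStalk (genericPoint X)) ≫ X.fromSpecStalk (genericPoint X) := by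
    rw [← pullback.condition, Category.comp_id]
  rw [h1, Category.assoc] at hφ2
  exact (cancel_epi _).mp hφ2

theorem section_of_residue_section {X : Scheme.{u}} [IsIntegral X] (hX : Pi1.IsNormalScheme X)
    (Y : Over X) [IsIntegralHom Y.hom]
    (s : Spec (X.residueField (genericPoint X)) ⟶ Y.left)
    (hs : s ≫ Y.hom = X.fromSpecResidueField (genericPoint X)) :
    ∃ φ : X ⟶ Y.left, φ ≫ Y.hom = 𝟙 X ∧ X.fromSpecResidueField (genericPoint X) ≫ φ = s := by
  haveI := isIso_SpecMap_residue (genericPoint X) (Field.toIsField X.functionField)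
  have hdef : X.fromSpecResidueField (genericPoint X) =
      Spec.map (X.residue (genericPoint X)) ≫ X.fromSpecStalk (genericPoint X) := rfl
  obtain ⟨φ, h1, h2⟩ := section_of_generic_section' hX Y
    (inv (Spec.map (X.residue (genericPoint X))) ≫ s)
    (by rw [Category.assoc, hs, hdef, IsIso.inv_hom_id_assoc])
  refine ⟨φ, h1, ?_⟩
  rw [hdef, Category.assoc, h2, IsIso.hom_inv_id_assoc]

theorem locallyQuasiFinite_of_etale {X S : Scheme.{u}} (f : X ⟶ S) [Etale f] :
    LocallyQuasiFinite f := by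
  constructor
  intro U hU V hV e
  have h1 := f.etale_appLE hU hV e
  algebraize [(f.appLE U V e).hom]
  have : Algebra.Etale Γ(S, U) Γ(X, V) := h1
  exact RingHom.quasiFinite_algebraMap.mpr inferInstance

lemma discreteTopology_of_lqf {k : Type u} [Field k] (G : Over (Spec (CommRingCat.of k)))
    [LocallyQuasiFinite G.hom] : DiscreteTopology G.left := by
  have hsub : Subsingleton (Spec (CommRingCat.of k)) := by
    show Subsingleton (PrimeSpectrum k)
    infer_instance
  obtain ⟨pt⟩ : Nonempty (Spec (CommRingCat.of k)) := (inferInstance : Nonempty (PrimeSpectrum k))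
  have h1 := Scheme.Hom.isDiscrete_preimage_singleton G.hom pt
  have h2 : (G.hom ⁻¹' {pt} : Set G.left) = Set.univ := by
    ext x
    simp only [Set.mem_preimage, Set.mem_singleton_iff, Set.mem_univ, iff_true]
    exact Subsingleton.elim _ _
  rw [h2, isDiscrete_univ_iff] at h1
  exact h1

/-- **Extension of points of an étale scheme over a field** from the generic point of a normal
integral scheme. -/
theorem exists_extension_etale_point {k : Type u} [Field k] (G : Over (Spec (CommRingCat.of k)))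
    [Etale G.hom] {V : Scheme.{u}} [IsIntegral V] (hV : Pi1.IsNormalScheme V)
    (v : V ⟶ Spec (CommRingCat.of k))
    (g : Spec (V.residueField (genericPoint V)) ⟶ G.left)
    (hg : g ≫ G.hom = V.fromSpecResidueField (genericPoint V) ≫ v) :
    ∃ g' : V ⟶ G.left, g' ≫ G.hom = v ∧ V.fromSpecResidueField (genericPoint V) ≫ g' = g := by
  haveI : LocallyQuasiFinite G.hom := locallyQuasiFinite_of_etale G.hom
  haveI : DiscreteTopology G.left := discreteTopology_of_lqf G
  let g₀ : G.left := g default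
  let U₀ : G.left.Opens := ⟨{g₀}, isOpen_discrete _⟩
  let h₀ : U₀.toScheme ⟶ Spec (CommRingCat.of k) := U₀.ι ≫ G.hom
  haveI : Etale h₀ := inferInstance
  haveI : Subsingleton U₀.toScheme := by
    constructor
    rintro ⟨a, ha⟩ ⟨b, hb⟩
    exact Subtype.ext ((Set.mem_singleton_iff.mp ha).trans (Set.mem_singleton_iff.mp hb).symm)
  haveI : CompactSpace U₀.toScheme := Finite.compactSpace
  haveI : QuasiCompact h₀ := inferInstance
  haveI : IsLocallyArtinian (Spec (CommRingCat.of k)) := by
    haveI : DiscreteTopology (Spec (CommRingCat.of k)) :=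
      inferInstanceAs (DiscreteTopology (PrimeSpectrum k))
    exact IsLocallyArtinian.of_isLocallyNoetherian_of_discreteTopology
  haveI : LocallyQuasiFinite h₀ := locallyQuasiFinite_of_etale h₀
  haveI : IsFinite h₀ := IsFinite.of_locallyQuasiFinite h₀
  have hrange : Set.range g ⊆ Set.range U₀.ι := by
    rintro _ ⟨z, rfl⟩
    rw [Scheme.Opens.range_ι]
    show g z ∈ ({g₀} : Set G.left)
    rw [Subsingleton.elim z default]
    rfl
  let g₁ : Spec (V.residueField (genericPoint V)) ⟶ U₀.toScheme := IsOpenImmersion.lift U₀.ι g hrange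
  have hg₁ : g₁ ≫ U₀.ι = g := IsOpenImmersion.lift_fac _ _ _
  let Y : Over V := Over.mk (pullback.snd h₀ v)
  haveI : IsIntegralHom Y.hom := by
    show IsIntegralHom (pullback.snd h₀ v)
    infer_instance
  obtain ⟨φ, h1, h2⟩ := section_of_residue_section hV Y
    (pullback.lift g₁ (V.fromSpecResidueField (genericPoint V))
      (by rw [← hg, ← hg₁, Category.assoc]))
    (pullback.lift_snd _ _ _)
  refine ⟨φ ≫ pullback.fst h₀ v ≫ U₀.ι, ?_, ?_⟩
  · have : (pullback.fst h₀ v ≫ U₀.ι) ≫ G.hom = pullback.snd h₀ v ≫ v := by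
      rw [Category.assoc]; exact pullback.condition
    have h1' : φ ≫ pullback.snd h₀ v = 𝟙 V := h1
    rw [Category.assoc, this, reassoc_of% h1']
  · rw [reassoc_of% h2, pullback.lift_fst_assoc, hg₁]



/-- a field-valued point factors through the residue field of its image point. -/
lemma exists_factor_of_apply_eq {V : Scheme.{u}} {K : Type u} [Field K]
    (w : Spec (CommRingCat.of K) ⟶ V) (ξ : V) (h : ∀ z : Spec (CommRingCat.of K), w z = ξ) :
    ∃ d : Spec (CommRingCat.of K) ⟶ Spec (V.residueField ξ), w = d ≫ V.fromSpecResidueField ξ := by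
  obtain rfl := h (IsLocalRing.closedPoint K)
  exact ⟨Spec.map (Scheme.descResidueField (Scheme.stalkClosedPointTo w)),
    (Scheme.descResidueField_stalkClosedPointTo_fromSpecResidueField K V w).symm⟩


section Nhd

open Groth.Agent.Lib.Helper14 Groth.Agent.Lib.Helper4.EtNormalSch

theorem finite_irreducibleComponents_of_lqf_flat {T X : Scheme.{u}} [IrreducibleSpace X]
    (f : T ⟶ X) [LocallyQuasiFinite f] [QuasiCompact f] [Flat f] :
    (irreducibleComponents T).Finite := by
  have hS : (f ⁻¹' {genericPoint X}).Finite := Scheme.Hom.finite_preimage_singleton f _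
  refine (hS.image (fun ξ => closure {ξ})).subset ?_
  intro Z hZ
  obtain ⟨ξ, rfl⟩ := exists_closure_eq_of_mem_irreducibleComponents hZ
  refine ⟨ξ, ?_, rfl⟩
  have hgen : genericPoint X ⤳ f ξ := (genericPoint_spec X).specializes trivial
  obtain ⟨ξ', hξ', hfξ'⟩ := Flat.generalizingMap f hgen
  have := (closure_mem_irreducibleComponents_iff ξ).mp hZ ξ' hξ'
  rw [← this]
  exact hfξ'

/-- A point of a space with finitely many irreducible components lying on exactly one of them has
an irreducible open neighbourhood. -/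
theorem exists_irreducible_open_nhd {Y : Type*} [TopologicalSpace Y]
    (hfin : (irreducibleComponents Y).Finite) (y : Y)
    (huniq : ∀ Z₁ ∈ irreducibleComponents Y, ∀ Z₂ ∈ irreducibleComponents Y,
      y ∈ Z₁ → y ∈ Z₂ → Z₁ = Z₂) :
    ∃ V₀ : TopologicalSpace.Opens Y, y ∈ V₀ ∧ IsIrreducible (V₀ : Set Y) := by
  classical
  set Z := irreducibleComponent y with hZ
  have hZmem : Z ∈ irreducibleComponents Y := irreducibleComponent_mem_irreducibleComponents y
  have hyZ : y ∈ Z := mem_irreducibleComponent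
  let T : Set Y := ⋃ Z' ∈ (irreducibleComponents Y \ {Z}), Z'
  have hT : IsClosed T :=
    Set.Finite.isClosed_biUnion (hfin.subset Set.sdiff_subset) fun s hs =>
      isClosed_of_mem_irreducibleComponents s hs.1
  have hyT : y ∉ T := by
    intro h
    simp only [T, Set.mem_iUnion, exists_prop] at h
    obtain ⟨Z', ⟨hZ'mem, hZ'ne⟩, hyZ'⟩ := h
    exact hZ'ne (huniq Z' hZ'mem Z hZmem hyZ' hyZ)
  have hsub : Tᶜ ⊆ Z := by
    intro p hp
    by_contra hpZ
    apply hp
    simp only [T, Set.mem_iUnion, exists_prop]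
    refine ⟨irreducibleComponent p, ⟨irreducibleComponent_mem_irreducibleComponents p, ?_⟩,
      mem_irreducibleComponent⟩
    intro h
    rw [Set.mem_singleton_iff] at h
    exact hpZ (h ▸ mem_irreducibleComponent)
  refine ⟨⟨Tᶜ, hT.isOpen_compl⟩, hyT, ⟨y, hyT⟩, ?_⟩
  exact (isIrreducible_irreducibleComponent (x := y)).isPreirreducible.open_subset
    hT.isOpen_compl hsub

/-- A scheme étale over a normal integral scheme is covered by integral open subschemes. -/
theorem exists_integral_open_nhd {E S : Scheme.{u}} [IsIntegral S] (hS : Pi1.IsNormalScheme S)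
    (f : E ⟶ S) [Etale f] (y : E) :
    ∃ U : E.Opens, y ∈ U ∧ IsIntegral U.toScheme := by
  have hN := isNormalScheme_of_etale hS f
  haveI : ∀ t : E, _root_.IsReduced (E.presheaf.stalk t) := fun t => by
    haveI := (hN t).1
    infer_instance
  haveI : IsReduced E := isReduced_of_isReduced_stalk E
  obtain ⟨_, ⟨W', hW', rfl⟩, hyW', -⟩ := S.isBasis_affineOpens.exists_subset_of_mem_open
    (Set.mem_univ (f y)) isOpen_univ
  obtain ⟨W, rfl⟩ : ∃ W : S.Opens, W = W' := ⟨W', rfl⟩
  have hW : IsAffineOpen W := hW'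
  have hyW : f y ∈ W := hyW'
  obtain ⟨_, ⟨U₁', hU₁', rfl⟩, hyU₁', hle'⟩ := E.isBasis_affineOpens.exists_subset_of_mem_open
    (show y ∈ (f ⁻¹ᵁ W : Set E) from hyW) (f ⁻¹ᵁ W).isOpen
  obtain ⟨U₁, rfl⟩ : ∃ U₁ : E.Opens, U₁ = U₁' := ⟨U₁', rfl⟩
  have hU₁ : IsAffineOpen U₁ := hU₁'
  have hyU₁ : y ∈ U₁ := hyU₁'
  have hle : U₁ ≤ f ⁻¹ᵁ W := hle'
  haveI : Nonempty W := ⟨⟨f y, hyW⟩⟩
  haveI : IsAffine W.toScheme := hW
  haveI : IsAffine U₁.toScheme := hU₁
  let f₁ : U₁.toScheme ⟶ W.toScheme := f.resLE W U₁ hle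
  haveI : Etale f₁ := inferInstance
  haveI : LocallyQuasiFinite f₁ := locallyQuasiFinite_of_etale f₁
  haveI : QuasiCompact f₁ := inferInstance
  have hfin : (irreducibleComponents U₁.toScheme).Finite :=
    finite_irreducibleComponents_of_lqf_flat f₁
  have hN₁ := isNormalScheme_of_etale hS (U₁.ι ≫ f)
  obtain ⟨V₀, hyV₀, hirr⟩ := exists_irreducible_open_nhd hfin (⟨y, hyU₁⟩ : U₁.toScheme)
    (fun Z₁ h₁ Z₂ h₂ m₁ m₂ => by
      haveI := (hN₁ ⟨y, hyU₁⟩).1
      exact irreducibleComponents_eq_of_mem _ h₁ h₂ m₁ m₂)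
  refine ⟨U₁.ι ''ᵁ V₀, ⟨⟨y, hyU₁⟩, hyV₀, rfl⟩, ?_⟩
  have hirr' : IsIrreducible ((U₁.ι ''ᵁ V₀ : E.Opens) : Set E) := by
    have := hirr.image U₁.ι U₁.ι.continuous.continuousOn
    exact this
  haveI : IrreducibleSpace (U₁.ι ''ᵁ V₀ : E.Opens).toScheme := Subtype.irreducibleSpace hirr'
  exact isIntegral_of_irreducibleSpace_of_isReduced _

end Nhd

section Torsor

open MonoidalCategory CartesianMonoidalCategory MonObj
open Groth.Agent.R2.H90.TorsorPts

variable {k : Type u} [Field k] {G : Over (Spec (CommRingCat.of k))} [GrpObj G]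
  {S : Scheme.{u}} [IsIntegral S] (s : S ⟶ Spec (CommRingCat.of k))
  {E : Over S} (a : AlgGrp.Action (Red.bc s G) E)
  (x : Spec (S.residueField (genericPoint S)) ⟶ E.left)
  (hx : x ≫ E.hom = S.fromSpecResidueField (genericPoint S))

/-- the point `x` pulled back along `c`. -/
noncomputable def xPt {K : Type u} [Field K]
    (c : Spec (CommRingCat.of K) ⟶ Spec (S.residueField (genericPoint S))) :
    Over.mk (c ≫ S.fromSpecResidueField (genericPoint S)) ⟶ E :=
  Over.homMk (c ≫ x) (by rw [Category.assoc, hx]; rfl)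

/-- `g' • e = x` on all field valued points over the generic point. -/
def Good {V : Over S} (e : V ⟶ E) (g' : V ⟶ Red.bc s G) : Prop :=
  ∀ (K : Type u) [Field K] (c : Spec (CommRingCat.of K) ⟶ Spec (S.residueField (genericPoint S)))
    (w : Over.mk (c ≫ S.fromSpecResidueField (genericPoint S)) ⟶ V),
    lift (w ≫ g') (w ≫ e) ≫ a.act = xPt x hx c

lemma Good.comp {V V' : Over S} {e : V ⟶ E} {g' : V ⟶ Red.bc s G} (h : Good s a x hx e g')
    (u : V' ⟶ V) : Good s a x hx (u ≫ e) (u ≫ g') := by
  intro K _ c w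
  have := h K c (w ≫ u)
  rwa [Category.assoc, Category.assoc] at this

lemma good_unique (hpt : NonAbH1.IsPseudoTorsorSch a) [IsSeparated (Red.bc s G).hom]
    {V : Over S} [IsReduced V.left] [Flat V.hom] (e : V ⟶ E) (g₁ g₂ : V ⟶ Red.bc s G)
    (h₁ : Good s a x hx e g₁) (h₂ : Good s a x hx e g₂) : g₁ = g₂ := by
  apply Over.OverMorphism.ext
  refine ext_of_fromSpecResidueField_eq g₁.left g₂.left (Red.bc s G).hom
    {ζ | V.hom ζ = genericPoint S} (dense_preimage_genericPoint V.hom) ?_
    ((Over.w g₁).trans (Over.w g₂).symm)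
  intro ζ hζ
  obtain ⟨c, hc⟩ := exists_factor_fromSpecResidueField V.hom ζ _ hζ
  let w : Over.mk (c ≫ S.fromSpecResidueField (genericPoint S)) ⟶ V :=
    Over.homMk (V.left.fromSpecResidueField ζ) hc
  have e1 := h₁ (V.left.residueField ζ) c w
  have e2 := h₂ (V.left.residueField ζ) c w
  have := act_left_injective a hpt (w ≫ g₁) (w ≫ g₂) (w ≫ e) (e1.trans e2.symm)
  exact congrArg (fun q => q.left) this

open Groth.Agent.Lib.Helper4.EtNormalSch in
/-- local existence of the translating element on an integral open of `E`. -/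
lemma exists_good_local (hpt : NonAbH1.IsPseudoTorsorSch a) (hS : Pi1.IsNormalScheme S)
    [Etale G.hom] [Etale E.hom] (U : E.left.Opens) [IsIntegral U.toScheme] :
    ∃ g' : Over.mk (U.ι ≫ E.hom) ⟶ Red.bc s G,
      Good s a x hx (Over.homMk U.ι rfl : Over.mk (U.ι ≫ E.hom) ⟶ E) g' := by
  set f : U.toScheme ⟶ S := U.ι ≫ E.hom with hf
  haveI : Etale f := inferInstance
  haveI : LocallyQuasiFinite f := locallyQuasiFinite_of_etale f
  set ξ' := genericPoint U.toScheme with hξ'
  have hξ : f ξ' = genericPoint S := map_genericPoint_of_flat f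
  obtain ⟨c₀, hc₀⟩ := exists_factor_fromSpecResidueField f ξ' _ hξ
  let eU : Over.mk f ⟶ E := Over.homMk U.ι rfl
  let w₀ : Over.mk (c₀ ≫ S.fromSpecResidueField (genericPoint S)) ⟶ Over.mk f :=
    Over.homMk (U.toScheme.fromSpecResidueField ξ') hc₀
  obtain ⟨g₀, hg₀⟩ := exists_act_eq a hpt (xPt x hx (K := U.toScheme.residueField ξ') c₀) (w₀ ≫ eU)
  have hVn : Pi1.IsNormalScheme U.toScheme := isNormalScheme_of_etale hS f
  have hw₀g : g₀.left ≫ pullback.snd G.hom s = U.toScheme.fromSpecResidueField ξ' ≫ f :=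
    (Over.w g₀).trans hc₀.symm
  obtain ⟨gk, h1, h2⟩ := exists_extension_etale_point G hVn (f ≫ s)
    (g₀.left ≫ pullback.fst G.hom s)
    (by rw [Category.assoc, pullback.condition, reassoc_of% hw₀g])
  let g' : Over.mk f ⟶ Red.bc s G := Over.homMk (pullback.lift gk f h1) (pullback.lift_snd _ _ _)
  have hw₀g' : w₀ ≫ g' = g₀ := by
    apply Over.OverMorphism.ext
    apply pullback.hom_ext
    · show U.toScheme.fromSpecResidueField ξ' ≫ pullback.lift gk f h1 ≫ pullback.fst G.hom s = _
      rw [pullback.lift_fst, h2]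
    · show U.toScheme.fromSpecResidueField ξ' ≫ pullback.lift gk f h1 ≫ pullback.snd G.hom s = _
      rw [pullback.lift_snd, hw₀g]
  refine ⟨g', ?_⟩
  intro K _ c w
  have hw : w.left ≫ f = c ≫ S.fromSpecResidueField (genericPoint S) := Over.w w
  have hpt' : ∀ z : Spec (CommRingCat.of K), w.left z = ξ' := by
    intro z
    apply eq_genericPoint_of_map_eq f
    rw [← hξ', hξ, ← Scheme.Hom.comp_apply, hw, Scheme.Hom.comp_apply,
      Scheme.fromSpecResidueField_apply]
  obtain ⟨d, hd⟩ := exists_factor_of_apply_eq (V := U.toScheme) w.left ξ' hpt'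
  have hc : c = d ≫ c₀ := by
    rw [← cancel_mono (S.fromSpecResidueField (genericPoint S)), ← hw, hd, Category.assoc,
      Category.assoc, hc₀]
  subst hc
  let dT : Over.mk ((d ≫ c₀) ≫ S.fromSpecResidueField (genericPoint S)) ⟶
      Over.mk (c₀ ≫ S.fromSpecResidueField (genericPoint S)) :=
    Over.homMk d (Category.assoc _ _ _).symm
  have hwd : w = dT ≫ w₀ := Over.OverMorphism.ext hd
  have e1 : (dT ≫ w₀) ≫ g' = dT ≫ (w₀ ≫ g') := Category.assoc _ _ _
  have e2 : (dT ≫ w₀) ≫ (Over.homMk U.ι rfl : Over.mk (U.ι ≫ E.hom) ⟶ E) = dT ≫ (w₀ ≫ eU) :=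
    Category.assoc _ _ _
  have e3 : lift (dT ≫ (w₀ ≫ g')) (dT ≫ (w₀ ≫ eU)) ≫ a.act =
      dT ≫ (lift (w₀ ≫ g') (w₀ ≫ eU) ≫ a.act) := by
    rw [← comp_lift]
    exact Category.assoc _ _ _
  rw [hwd, e1, e2, e3, hw₀g', hg₀]
  apply Over.OverMorphism.ext
  show d ≫ (c₀ ≫ x) = (d ≫ c₀) ≫ x
  exact (Category.assoc d c₀ x).symm

open Groth.Agent.Lib.Helper4.EtNormalSch Groth.Agent.Lib.Helper4.RatMapExt in
/-- global existence of the translating element. -/
lemma exists_good_global (hpt : NonAbH1.IsPseudoTorsorSch a) (hS : Pi1.IsNormalScheme S)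
    [Etale G.hom] [Etale E.hom] [IsSeparated (Red.bc s G).hom] [IsReduced E.left] :
    ∃ g' : E ⟶ Red.bc s G, Good s a x hx (𝟙 E) g' := by
  choose U hyU hint using exists_integral_open_nhd hS E.hom
  have hloc : ∀ y, ∃ g' : Over.mk ((U y).ι ≫ E.hom) ⟶ Red.bc s G,
      Good s a x hx (Over.homMk (U y).ι rfl : Over.mk ((U y).ι ≫ E.hom) ⟶ E) g' := fun y => by
    haveI := hint y
    exact exists_good_local s a x hx hpt hS (U y)
  choose gl hgl using hloc
  have hcover : TopologicalSpace.IsOpenCover U :=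
    eq_top_iff.mpr fun y _ => TopologicalSpace.Opens.mem_iSup.mpr ⟨y, hyU y⟩
  have hcompat : ∀ y y', E.left.homOfLE (inf_le_left : U y ⊓ U y' ≤ U y) ≫ (gl y).left =
      E.left.homOfLE (inf_le_right : U y ⊓ U y' ≤ U y') ≫ (gl y').left := by
    intro y y'
    let VO : Over S := Over.mk ((U y ⊓ U y').ι ≫ E.hom)
    let eO : VO ⟶ E := Over.homMk (U y ⊓ U y').ι rfl
    let u₁ : VO ⟶ Over.mk ((U y).ι ≫ E.hom) :=
      Over.homMk (E.left.homOfLE inf_le_left) (Scheme.homOfLE_ι_assoc _ _ _)
    let u₂ : VO ⟶ Over.mk ((U y').ι ≫ E.hom) :=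
      Over.homMk (E.left.homOfLE inf_le_right) (Scheme.homOfLE_ι_assoc _ _ _)
    have h₁ := (hgl y).comp s a x hx u₁
    have h₂ := (hgl y').comp s a x hx u₂
    have e₁ : u₁ ≫ (Over.homMk (U y).ι rfl : Over.mk ((U y).ι ≫ E.hom) ⟶ E) = eO :=
      Over.OverMorphism.ext (Scheme.homOfLE_ι E.left (inf_le_left : U y ⊓ U y' ≤ U y))
    have e₂ : u₂ ≫ (Over.homMk (U y').ι rfl : Over.mk ((U y').ι ≫ E.hom) ⟶ E) = eO :=
      Over.OverMorphism.ext (Scheme.homOfLE_ι E.left (inf_le_right : U y ⊓ U y' ≤ U y'))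
    rw [e₁] at h₁
    rw [e₂] at h₂
    haveI : IsReduced VO.left := inferInstanceAs (IsReduced (U y ⊓ U y').toScheme)
    haveI : Flat VO.hom := inferInstanceAs (Flat ((U y ⊓ U y').ι ≫ E.hom))
    have := good_unique s a x hx hpt eO (u₁ ≫ gl y) (u₂ ≫ gl y') h₁ h₂
    exact congrArg (fun q => q.left) this
  obtain ⟨kk, hkk⟩ := exists_glue_family U hcover (fun y => (gl y).left) hcompat
  have hk : kk ≫ (Red.bc s G).hom = E.hom := by
    apply (E.left.openCoverOfIsOpenCover U hcover).hom_ext
    intro y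
    show (U y).ι ≫ kk ≫ (Red.bc s G).hom = (U y).ι ≫ E.hom
    rw [reassoc_of% (hkk y)]
    exact Over.w (gl y)
  refine ⟨Over.homMk kk hk, ?_⟩
  intro K _ c w
  set y := w.left (IsLocalRing.closedPoint K) with hy
  have hrange : Set.range w.left ⊆ Set.range (U y).ι := by
    rintro _ ⟨z, rfl⟩
    rw [Scheme.Opens.range_ι]
    haveI : Subsingleton (Spec (CommRingCat.of K)) :=
      inferInstanceAs (Subsingleton (PrimeSpectrum K))
    have : z = (IsLocalRing.closedPoint K : Spec (CommRingCat.of K)) :=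
      @Subsingleton.elim (Spec (CommRingCat.of K)) _ z _
    rw [this]
    exact hyU y
  let w' : Spec (CommRingCat.of K) ⟶ (U y).toScheme := IsOpenImmersion.lift (U y).ι w.left hrange
  have hw' : w' ≫ (U y).ι = w.left := IsOpenImmersion.lift_fac _ _ _
  let wT : Over.mk (c ≫ S.fromSpecResidueField (genericPoint S)) ⟶ Over.mk ((U y).ι ≫ E.hom) :=
    Over.homMk w' (by
      show w' ≫ (U y).ι ≫ E.hom = c ≫ S.fromSpecResidueField (genericPoint S)
      rw [reassoc_of% hw']
      exact Over.w w)
  have h := hgl y K c wT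
  have e₁ : wT ≫ gl y = w ≫ (Over.homMk kk hk : E ⟶ Red.bc s G) := by
    apply Over.OverMorphism.ext
    show w' ≫ (gl y).left = w.left ≫ kk
    rw [← hkk y, reassoc_of% hw']
  have e₂ : wT ≫ (Over.homMk (U y).ι rfl : Over.mk ((U y).ι ≫ E.hom) ⟶ E) = w ≫ 𝟙 E := by
    apply Over.OverMorphism.ext
    show w' ≫ (U y).ι = (w ≫ 𝟙 E).left
    rw [hw', Category.comp_id]
  rw [e₁, e₂] at h
  exact h

lemma isReduced_of_etale_normal {T X : Scheme.{u}} [IsIntegral X] (hX : Pi1.IsNormalScheme X)
    (f : T ⟶ X) [Etale f] : IsReduced T := by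
  have hN := Groth.Agent.Lib.Helper4.EtNormalSch.isNormalScheme_of_etale hX f
  haveI : ∀ t : T, _root_.IsReduced (T.presheaf.stalk t) := fun t => by
    haveI := (hN t).1
    infer_instance
  exact isReduced_of_isReduced_stalk T

include hx in
/-- **Sections of torsors under étale groups over a field extend from the generic point of a
normal integral base.** -/
theorem exists_section (hpt : NonAbH1.IsPseudoTorsorSch a) (hS : Pi1.IsNormalScheme S)
    [Etale G.hom] [Etale E.hom] [IsSeparated E.hom] [Surjective E.hom] :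
    ∃ σ : S ⟶ E.left, σ ≫ E.hom = 𝟙 S ∧ S.fromSpecResidueField (genericPoint S) ≫ σ = x := by
  haveI : DiscreteTopology (Spec (CommRingCat.of k)) :=
    inferInstanceAs (DiscreteTopology (PrimeSpectrum k))
  haveI : IsSeparated G.hom := Groth.Agent.Lib.Helper8.isSeparated_of_discrete G
  haveI : IsSeparated (Red.bc s G).hom := by
    show IsSeparated (pullback.snd G.hom s)
    infer_instance
  haveI : IsReduced E.left := isReduced_of_etale_normal hS E.hom
  obtain ⟨g', hg'⟩ := exists_good_global s a x hx hpt hS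
  let σ' : E ⟶ E := lift g' (𝟙 E) ≫ a.act
  have key : ∀ (K : Type u) [Field K]
      (c : Spec (CommRingCat.of K) ⟶ Spec (S.residueField (genericPoint S)))
      (w : Over.mk (c ≫ S.fromSpecResidueField (genericPoint S)) ⟶ E), w ≫ σ' = xPt x hx c := by
    intro K _ c w
    have h := hg' K c w
    have e : w ≫ σ' = lift (w ≫ g') (w ≫ 𝟙 E) ≫ a.act := by
      show w ≫ lift g' (𝟙 E) ≫ a.act = _
      rw [← comp_lift]
      exact (Category.assoc _ _ _).symm
    rw [e, h]
  have hσ' : σ'.left ≫ E.hom = E.hom := Over.w σ'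
  let p₁ := pullback.fst E.hom E.hom
  let p₂ := pullback.snd E.hom E.hom
  haveI : IsReduced (pullback E.hom E.hom) := isReduced_of_etale_normal hS (p₁ ≫ E.hom)
  have hp : p₁ ≫ σ'.left = p₂ ≫ σ'.left := by
    refine ext_of_fromSpecResidueField_eq (p₁ ≫ σ'.left) (p₂ ≫ σ'.left) E.hom
      {ζ | (p₁ ≫ E.hom) ζ = genericPoint S} (dense_preimage_genericPoint (p₁ ≫ E.hom)) ?_ ?_
    · intro ζ hζ
      obtain ⟨c, hc⟩ := exists_factor_fromSpecResidueField (p₁ ≫ E.hom) ζ _ hζ
      let w₁ : Over.mk (c ≫ S.fromSpecResidueField (genericPoint S)) ⟶ E :=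
        Over.homMk ((pullback E.hom E.hom).fromSpecResidueField ζ ≫ p₁)
          (by rw [Category.assoc]; exact hc)
      let w₂ : Over.mk (c ≫ S.fromSpecResidueField (genericPoint S)) ⟶ E :=
        Over.homMk ((pullback E.hom E.hom).fromSpecResidueField ζ ≫ p₂)
          (by rw [Category.assoc]
              show _ ≫ pullback.snd E.hom E.hom ≫ E.hom = _
              rw [← pullback.condition]; exact hc)
      have h1 := key ((pullback E.hom E.hom).residueField ζ) c w₁
      have h2 := key ((pullback E.hom E.hom).residueField ζ) c w₂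
      have h3 : (w₁ ≫ σ').left = (w₂ ≫ σ').left := congrArg (fun q => q.left) (h1.trans h2.symm)
      rw [← Category.assoc, ← Category.assoc]
      exact h3
    · rw [Category.assoc, Category.assoc, hσ']
      exact pullback.condition
  let σ : S ⟶ E.left := EffectiveEpi.desc E.hom σ'.left (fun {Z} g₁ g₂ h => by
    have e1 : g₁ = pullback.lift g₁ g₂ h ≫ p₁ := (pullback.lift_fst _ _ _).symm
    have e2 : g₂ = pullback.lift g₁ g₂ h ≫ p₂ := (pullback.lift_snd _ _ _).symm
    rw [e1, Category.assoc, hp, ← Category.assoc, ← e2])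
  have hfac : E.hom ≫ σ = σ'.left := EffectiveEpi.fac _ _ _
  refine ⟨σ, ?_, ?_⟩
  · rw [← cancel_epi E.hom, reassoc_of% hfac, hσ', Category.comp_id]
  · let wx : Over.mk (𝟙 _ ≫ S.fromSpecResidueField (genericPoint S)) ⟶ E :=
      Over.homMk x (by rw [hx]; exact (Category.id_comp _).symm)
    have h1 := key (S.residueField (genericPoint S)) (𝟙 _) wx
    have h2 : x ≫ σ'.left = 𝟙 _ ≫ x := congrArg (fun q => q.left) h1
    rw [← hx, Category.assoc, hfac, h2, Category.id_comp]

end Torsor

section Main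

open MonoidalCategory CartesianMonoidalCategory MonObj

/-- torsors under étale separated groups are étale, separated and surjective over the base. -/
lemma torsor_props {S : Scheme.{u}} {G E : Over S} [GrpObj G] (a : AlgGrp.Action G E)
    (ha : NonAbH1.IsTorsorFor Scheme.fppfPrecoverage a) [Etale G.hom] [IsSeparated G.hom] :
    Etale E.hom ∧ IsSeparated E.hom ∧ Surjective E.hom := by
  obtain ⟨hpt, R, hR, hsec⟩ := ha
  have hR' := Scheme.fppfPrecoverage_le_fpqcPrecoverage _ hR
  refine ⟨?_, ?_, ?_⟩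
  · exact (Groth.Agent.S18860.result a ⟨hpt, R, hR', hsec⟩).2.2.2.2 inferInstance
  · exact Groth.Agent.Lib.Helper12.of_mem_fpqcPrecoverage (P := @IsSeparated)
      Groth.Agent.Lib.Helper12.descendsAlong_isSeparated E.hom R hR'
      (fun Y' f hf => Groth.Agent.Lib.Helper12.pullback_snd_of_hasSectionOver
        (P := @IsSeparated) a hpt inferInstance f (hsec f hf))
  · obtain ⟨I, V, φ, rfl⟩ := Presieve.exists_eq_ofArrows R
    rw [Scheme.fppfPrecoverage, Scheme.ofArrows_mem_precoverage_iff] at hR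
    constructor
    intro t
    obtain ⟨i, v, hv⟩ := hR.1 t
    obtain ⟨σ, hσ⟩ := hsec (φ i) ⟨i⟩
    exact ⟨σ v, by rw [← Scheme.Hom.comp_apply, hσ, hv]⟩

theorem main (k : Type u) [Field k]
    (G : Over (Spec (CommRingCat.of k))) [GrpObj G] [Etale G.hom]
    (S : Scheme.{u}) [IsIntegral S] (hS : Pi1.IsNormalScheme S) (s : S ⟶ Spec (CommRingCat.of k))
    (E : NonAbH1.TorsorSch (Red.bc s G) Scheme.fppfPrecoverage) :
    (∀ σ₁ σ₂ : S ⟶ E.X.left, σ₁ ≫ E.X.hom = 𝟙 S → σ₂ ≫ E.X.hom = 𝟙 S →
        S.fromSpecResidueField (genericPoint S) ≫ σ₁ = S.fromSpecResidueField (genericPoint S) ≫ σ₂ → σ₁ = σ₂) ∧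
    (∀ x : Spec (S.residueField (genericPoint S)) ⟶ E.X.left,
        x ≫ E.X.hom = S.fromSpecResidueField (genericPoint S) →
        ∃ σ : S ⟶ E.X.left, σ ≫ E.X.hom = 𝟙 S ∧ S.fromSpecResidueField (genericPoint S) ≫ σ = x) := by
  haveI : DiscreteTopology (Spec (CommRingCat.of k)) :=
    inferInstanceAs (DiscreteTopology (PrimeSpectrum k))
  haveI : IsSeparated G.hom := Groth.Agent.Lib.Helper8.isSeparated_of_discrete G
  haveI : IsSeparated (Red.bc s G).hom := by
    show IsSeparated (pullback.snd G.hom s)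
    infer_instance
  haveI : Etale (Red.bc s G).hom := by
    show Etale (pullback.snd G.hom s)
    infer_instance
  obtain ⟨h1, h2, h3⟩ := torsor_props E.act E.isTorsor
  refine ⟨fun σ₁ σ₂ e₁ e₂ h => ?_, fun x hx => exists_section s E.act x hx E.isTorsor.1 hS⟩
  refine ext_of_fromSpecResidueField_eq σ₁ σ₂ E.X.hom {genericPoint S} ?_ ?_ (e₁.trans e₂.symm)
  · rw [dense_iff_closure_eq]
    exact genericPoint_closure S
  · rintro _ rfl
    exact h

end Main

end Groth.Agent.R2.H90.EtTorsor
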