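import Mathlib
import Groth.Prelude.Def_Red2
import Groth.Prelude.Def_AlgGrp
import Groth.Agent.Lib.Helper27GaGm
import Groth.Agent.Lib.Helper27DiagSub
import Groth.Agent.R2.H55Kummer
import Groth.Agent.R2.H71ASPoints
import Groth.Agent.R2.H90AddPoly

/-!
# Finite subgroup schemes of `𝔾_a` and `𝔾_m` over a field (helper90)

For a field `K` and a finite `K`-group scheme `H` with a monomorphic homomorphism `i : H ⟶ 𝔾_a`
(resp. `𝔾_m`), there is a flat surjective endomorphism of `𝔾_a` (resp. `𝔾_m`) with kernel `i`.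

* `algΓ`, `pullAlg`, `SpecO`, `gInv`, `gHom`, `exists_hom_of_algHom`, `hom_ext_of_appTop`:
  `K`-algebra structure on global functions and points of affine `K`-schemes.
* `Coord`, `adjoin_eq_top`, `pbOf`, `exists_lift`, `isKernel_of_coord`: if `G` has one coordinate
  and `i : H ⟶ G` is a monomorphism from a finite `K`-scheme, the functions on `H` are generated
  by the coordinate, `H` is cut out by its minimal polynomial.
* `ga_hyp`, `gm_hyp`: the subgroup condition in terms of the minimal polynomial.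
* `A1`, `x₀`, `y₀`, `φGa`: `𝔾_a ≅ Spec K[X]` and the endomorphism attached to a polynomial.
* `main_Ga`, `main_Gm`, `transport`.
-/

set_option autoImplicit false
set_option linter.style.haveILetI false
set_option linter.unusedSectionVars false
universe u

open CategoryTheory Limits MonoidalCategory CartesianMonoidalCategory MonObj GrpObj
  AlgebraicGeometry Polynomial TensorProduct

namespace Groth.Agent.R2.H90.GaGmSub

open Groth.Agent.Lib.Helper27.GaGm Groth.Agent.R2.H90.AddPoly Groth.Agent.R2.H55.Kummer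

section Base

variable {K : Type u} [CommRing K]

/-- functions on a `K`-scheme as a `K`-algebra. -/
@[reducible] noncomputable def algΓ (X : Over (Spec (CommRingCat.of K))) : Algebra K Γ(X.left, ⊤) :=
  (fnHom X.hom).toAlgebra

attribute [local instance] algΓ

lemma algebraMap_eq (X : Over (Spec (CommRingCat.of K))) (k : K) :
    algebraMap K Γ(X.left, ⊤) k = fn X.hom k := rfl

lemma appTop_algebraMap {X Y : Over (Spec (CommRingCat.of K))} (g : X ⟶ Y) (k : K) :
    g.left.appTop (algebraMap K Γ(Y.left, ⊤) k) = algebraMap K Γ(X.left, ⊤) k := by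
  rw [algebraMap_eq, algebraMap_eq, ← fn_comp, Over.w]

/-- pull back of functions along a morphism of `K`-schemes, as an algebra map. -/
noncomputable def pullAlg {X Y : Over (Spec (CommRingCat.of K))} (g : X ⟶ Y) :
    Γ(Y.left, ⊤) →ₐ[K] Γ(X.left, ⊤) :=
  { g.left.appTop.hom with
    commutes' := fun k => appTop_algebraMap g k }

@[simp] lemma pullAlg_apply {X Y : Over (Spec (CommRingCat.of K))} (g : X ⟶ Y) (a : Γ(Y.left, ⊤)) :
    pullAlg g a = g.left.appTop a := rfl

/-- `Spec R` as a `K`-scheme. -/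
noncomputable def SpecO (R : Type u) [CommRing R] [Algebra K R] : Over (Spec (CommRingCat.of K)) :=
  Over.mk (Spec.map (CommRingCat.ofHom (algebraMap K R)))

instance (R : Type u) [CommRing R] [Algebra K R] : IsAffine (SpecO (K := K) R).left :=
  inferInstanceAs (IsAffine (Spec (CommRingCat.of R)))

lemma specO_algebraMap (R : Type u) [CommRing R] [Algebra K R] (k : K) :
    algebraMap K Γ((SpecO (K := K) R).left, ⊤) k =
      (Scheme.ΓSpecIso (CommRingCat.of R)).inv (algebraMap K R k) := by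
  rw [algebraMap_eq]
  have h := fn_specMap (𝟙 (Spec (CommRingCat.of R))) (algebraMap K R) k
  rw [Category.id_comp] at h
  exact h

/-- `R → Γ(Spec R)` as an algebra map. -/
noncomputable def gInv (R : Type u) [CommRing R] [Algebra K R] :
    R →ₐ[K] Γ((SpecO (K := K) R).left, ⊤) :=
  { (Scheme.ΓSpecIso (CommRingCat.of R)).inv.hom with
    commutes' := fun k => (specO_algebraMap R k).symm }

/-- `Γ(Spec R) → R` as an algebra map. -/
noncomputable def gHom (R : Type u) [CommRing R] [Algebra K R] :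
    Γ((SpecO (K := K) R).left, ⊤) →ₐ[K] R :=
  { (Scheme.ΓSpecIso (CommRingCat.of R)).hom.hom with
    commutes' := fun k => by
      rw [specO_algebraMap]
      exact congrArg (fun f => f.hom (algebraMap K R k)) (Scheme.ΓSpecIso (CommRingCat.of R)).inv_hom_id }

lemma gHom_gInv (R : Type u) [CommRing R] [Algebra K R] (r : R) : gHom (K := K) R (gInv R r) = r :=
  congrArg (fun f => f.hom r) (Scheme.ΓSpecIso (CommRingCat.of R)).inv_hom_id

lemma gInv_gHom (R : Type u) [CommRing R] [Algebra K R] (a : Γ((SpecO (K := K) R).left, ⊤)) :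
    gInv (K := K) R (gHom R a) = a :=
  congrArg (fun f => f.hom a) (Scheme.ΓSpecIso (CommRingCat.of R)).hom_inv_id

lemma isoSpec_inv_appTop (X : Scheme.{u}) [IsAffine X] :
    X.isoSpec.inv.appTop = (Scheme.ΓSpecIso Γ(X, ⊤)).inv := by
  have h1 : X.isoSpec.hom.appTop = (Scheme.ΓSpecIso Γ(X, ⊤)).hom := Scheme.toSpecΓ_appTop X
  have h2 : X.isoSpec.inv.appTop ≫ X.isoSpec.hom.appTop = 𝟙 _ := by
    rw [← Scheme.Hom.comp_appTop, X.isoSpec.hom_inv_id]
    rfl
  rw [h1] at h2
  exact (Iso.eq_comp_inv _).mpr h2 |>.trans (Category.id_comp _)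

/-- morphisms to an affine `K`-scheme from algebra maps on functions. -/
theorem exists_hom_of_algHom {H T : Over (Spec (CommRingCat.of K))} [IsAffine H.left]
    (ψ : Γ(H.left, ⊤) →ₐ[K] Γ(T.left, ⊤)) :
    ∃ q : T ⟶ H, ∀ a, q.left.appTop a = ψ a := by
  obtain ⟨y, hy⟩ := fn_surj (Y := T.left) (A := Γ(H.left, ⊤)) ψ.toRingHom
  have hq : ∀ a, (y ≫ H.left.isoSpec.inv).appTop a = ψ a := by
    intro a
    rw [Scheme.Hom.comp_appTop, isoSpec_inv_appTop]
    exact hy a
  refine ⟨Over.homMk (y ≫ H.left.isoSpec.inv) ?_, hq⟩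
  apply fn_ext
  intro k
  rw [fn_comp, hq]
  exact ψ.commutes k

lemma hom_ext_of_appTop {H T : Over (Spec (CommRingCat.of K))} [IsAffine H.left]
    (q q' : T ⟶ H) (h : ∀ a, q.left.appTop a = q'.left.appTop a) : q = q' := by
  apply Over.OverMorphism.ext
  apply ext_of_isAffine
  ext a
  exact h a

/-- a coordinate on a `K`-scheme `G`: a natural injection of `G(X)` into the functions on `X`. -/
structure Coord (G : Over (Spec (CommRingCat.of K))) where
  /-- the coordinate function of a point -/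
  c : ∀ X : Over (Spec (CommRingCat.of K)), (X ⟶ G) → Γ(X.left, ⊤)
  inj : ∀ X, Function.Injective (c X)
  nat : ∀ {X Y : Over (Spec (CommRingCat.of K))} (g : X ⟶ Y) (x : Y ⟶ G),
    c X (g ≫ x) = g.left.appTop (c Y x)

/-- the coordinate of `𝔾_a`. -/
noncomputable def gaCoord : Coord (Red.Ga (Spec (CommRingCat.of K))) where
  c _ := Red.gaFn
  inj _ := gaFn_injective
  nat g x := gaFn_comp g x

/-- the coordinate of `𝔾_m`. -/
noncomputable def gmCoord : Coord (Red.Gm (Spec (CommRingCat.of K))) where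
  c _ := Red.gmFn
  inj _ := gmFn_injective
  nat g x := gmFn_comp g x

end Base

section Field

variable {K : Type u} [Field K]

attribute [local instance] algΓ

lemma finite_of_isFinite (H : Over (Spec (CommRingCat.of K))) [IsFinite H.hom] :
    Module.Finite K Γ(H.left, ⊤) := by
  have h1 := Scheme.Hom.finite_appTop H.hom
  have h2 : (fnHom H.hom).Finite := by
    unfold fnHom
    rw [CommRingCat.hom_comp]
    exact RingHom.Finite.comp h1 (RingHom.Finite.of_surjective _
      (ConcreteCategory.bijective_of_isIso (Scheme.ΓSpecIso (CommRingCat.of K)).inv).2)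
  exact h2

lemma isAffine_of_isFinite (H : Over (Spec (CommRingCat.of K))) [IsFinite H.hom] :
    IsAffine H.left :=
  isAffine_of_isAffineHom H.hom

/-- **A finite closed subscheme of a scheme with one coordinate is generated by the coordinate.** -/
theorem adjoin_eq_top {G H : Over (Spec (CommRingCat.of K))} (cd : Coord G) (i : H ⟶ G) [Mono i]
    [IsFinite H.hom] : Algebra.adjoin K {cd.c H i} = ⊤ := by
  have hfin := finite_of_isFinite H
  have haff := isAffine_of_isFinite H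
  set A' := Algebra.adjoin K {cd.c H i} with hA'
  have hb : cd.c H i ∈ A' := Algebra.subset_adjoin (Set.mem_singleton _)
  have hsurj : Function.Surjective (algebraMap A' Γ(H.left, ⊤)) := by
    have h1 := RingHom.surjective_iff_epi_and_finite
      (f := CommRingCat.ofHom (algebraMap A' Γ(H.left, ⊤)))
    refine h1.mpr ⟨⟨fun {Z} g h hgh => ?_⟩, ?_⟩
    · letI : Algebra K Z := (g.hom.comp (algebraMap K Γ(H.left, ⊤))).toAlgebra
      have hgh' : ∀ a : A', g.hom (a : Γ(H.left, ⊤)) = h.hom a :=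
        fun a => congrArg (fun f => f.hom a) hgh
      let ga : Γ(H.left, ⊤) →ₐ[K] Z := { g.hom with commutes' := fun k => rfl }
      let ha : Γ(H.left, ⊤) →ₐ[K] Z :=
        { h.hom with commutes' := fun k => (hgh' (algebraMap K A' k)).symm }
      obtain ⟨qg, hqg⟩ := exists_hom_of_algHom (T := SpecO (K := K) Z) ((gInv Z).comp ga)
      obtain ⟨qh, hqh⟩ := exists_hom_of_algHom (T := SpecO (K := K) Z) ((gInv Z).comp ha)
      have e1 : qg ≫ i = qh ≫ i := by
        apply cd.inj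
        rw [cd.nat, cd.nat, hqg, hqh]
        change gInv Z (g.hom (cd.c H i)) = gInv Z (h.hom (cd.c H i))
        rw [hgh' ⟨_, hb⟩]
      have e2 : qg = qh := (cancel_mono i).mp e1
      ext a
      have h3 := hqg a
      rw [e2, hqh] at h3
      have h4 := congrArg (gHom Z) h3
      rw [AlgHom.comp_apply, AlgHom.comp_apply, gHom_gInv, gHom_gInv] at h4
      exact h4.symm
    · have : Module.Finite A' Γ(H.left, ⊤) := Module.Finite.of_restrictScalars_finite K A' _
      exact RingHom.finite_algebraMap.mpr this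
  rw [eq_top_iff]
  intro x _
  obtain ⟨a, ha⟩ := hsurj x
  rw [← ha]
  exact a.2

lemma nontrivial_of_grp (H : Over (Spec (CommRingCat.of K))) [GrpObj H] :
    Nontrivial Γ(H.left, ⊤) := by
  have h1 : Nontrivial Γ((𝟙_ (Over (Spec (CommRingCat.of K)))).left, ⊤) :=
    RingHom.domain_nontrivial (Scheme.ΓSpecIso (CommRingCat.of K)).hom.hom
  exact RingHom.domain_nontrivial (η[H]).left.appTop.hom

section PB

variable {G H : Over (Spec (CommRingCat.of K))} (cd : Coord G) (i : H ⟶ G) [Mono i]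
  [IsFinite H.hom]

/-- the power basis of the functions on `H` given by the coordinate. -/
noncomputable def pbOf : PowerBasis K Γ(H.left, ⊤) :=
  haveI := finite_of_isFinite H
  PowerBasis.ofAdjoinEqTop (Algebra.IsIntegral.isIntegral _) (adjoin_eq_top cd i)

lemma pbOf_gen : (pbOf cd i).gen = cd.c H i := rfl

omit [Mono i] [IsFinite H.hom] in
lemma aeval_pt {T : Over (Spec (CommRingCat.of K))} (q : T ⟶ H) :
    aeval (cd.c T (q ≫ i)) (minpoly K (cd.c H i)) = 0 := by
  rw [cd.nat, ← pullAlg_apply, aeval_algHom_apply, minpoly.aeval, map_zero]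

lemma exists_lift {X : Over (Spec (CommRingCat.of K))} (x : X ⟶ G)
    (hx : aeval (cd.c X x) (minpoly K (cd.c H i)) = 0) : ∃ q : X ⟶ H, q ≫ i = x := by
  haveI := isAffine_of_isFinite H
  obtain ⟨q, hq⟩ := exists_hom_of_algHom ((pbOf cd i).lift (cd.c X x) hx)
  refine ⟨q, cd.inj _ ?_⟩
  rw [cd.nat, hq]
  exact (pbOf cd i).lift_gen _ _

theorem isKernel_of_coord [GrpObj G] (φ : G ⟶ G)
    (hφ : ∀ (X : Over (Spec (CommRingCat.of K))) (x : X ⟶ G),
      x ≫ φ = 1 ↔ aeval (cd.c X x) (minpoly K (cd.c H i)) = 0) : AlgGrp.IsKernel i φ := by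
  unfold AlgGrp.IsKernel
  refine Groth.Agent.R2.H55.Kummer.isPullback_of_points _ _ _ _ ?_ ?_
  · rw [← Hom.one_def]
    exact (hφ H i).mpr (minpoly.aeval K _)
  · intro T a b hab
    rw [toUnit_unique b (toUnit T), ← Hom.one_def] at hab
    obtain ⟨q, hq⟩ := exists_lift cd i a ((hφ T a).mp hab)
    refine ⟨q, ⟨hq, toUnit_unique _ _⟩, fun c' h1 _ => ?_⟩
    exact (cancel_mono i).mp (h1.trans hq.symm)

end PB

section Tensor

variable (H : Over (Spec (CommRingCat.of K))) [IsFinite H.hom]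

lemma exists_tensor_pts :
    ∃ p₁ p₂ : SpecO (K := K) (Γ(H.left, ⊤) ⊗[K] Γ(H.left, ⊤)) ⟶ H,
      (∀ a, p₁.left.appTop a = gInv _ (a ⊗ₜ[K] (1 : Γ(H.left, ⊤)))) ∧
      (∀ a, p₂.left.appTop a = gInv _ ((1 : Γ(H.left, ⊤)) ⊗ₜ[K] a)) := by
  haveI := isAffine_of_isFinite H
  obtain ⟨p₁, h₁⟩ := exists_hom_of_algHom (H := H)
    (T := SpecO (K := K) (Γ(H.left, ⊤) ⊗[K] Γ(H.left, ⊤)))
    ((gInv _).comp Algebra.TensorProduct.includeLeft)
  obtain ⟨p₂, h₂⟩ := exists_hom_of_algHom (H := H)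
    (T := SpecO (K := K) (Γ(H.left, ⊤) ⊗[K] Γ(H.left, ⊤)))
    ((gInv _).comp Algebra.TensorProduct.includeRight)
  exact ⟨p₁, p₂, h₁, h₂⟩

end Tensor

section Ga

variable {H : Over (Spec (CommRingCat.of K))} [GrpObj H]
  (i : H ⟶ Red.Ga (Spec (CommRingCat.of K))) [IsMonHom i] [Mono i] [IsFinite H.hom]

lemma gaCoord_c {X : Over (Spec (CommRingCat.of K))}
    (x : X ⟶ Red.Ga (Spec (CommRingCat.of K))) : (gaCoord (K := K)).c X x = Red.gaFn x := rfl

omit [Mono i] [IsFinite H.hom] in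
lemma ga_aeval_of_pts {R : Type u} [CommRing R] [Algebra K R] (p₁ p₂ : SpecO (K := K) R ⟶ H)
    (r₁ r₂ : R) (h₁ : Red.gaFn (p₁ ≫ i) = gInv R r₁) (h₂ : Red.gaFn (p₂ ≫ i) = gInv R r₂) :
    aeval (r₁ + r₂) (minpoly K (Red.gaFn i)) = 0 := by
  have e4 : Red.gaFn ((p₁ * p₂) ≫ i) = gInv R (r₁ + r₂) := by
    rw [MonObj.mul_comp _ _ i, gaFn_mul, h₁, h₂, map_add]
  have h := aeval_pt gaCoord i (p₁ * p₂)
  rw [gaCoord_c, gaCoord_c, e4, aeval_algHom_apply] at h
  have h' := congrArg (gHom R) h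
  rw [gHom_gInv, map_zero] at h'
  exact h'

lemma ga_hyp :
    aeval (Red.gaFn i ⊗ₜ[K] (1 : Γ(H.left, ⊤)) + (1 : Γ(H.left, ⊤)) ⊗ₜ[K] Red.gaFn i)
      (minpoly K (Red.gaFn i)) = 0 := by
  obtain ⟨p₁, p₂, h₁, h₂⟩ := exists_tensor_pts H
  refine ga_aeval_of_pts i p₁ p₂ _ _ ?_ ?_
  · rw [gaFn_comp, h₁]
  · rw [gaFn_comp, h₂]

end Ga

section Gm

variable {H : Over (Spec (CommRingCat.of K))} [GrpObj H]
  (i : H ⟶ Red.Gm (Spec (CommRingCat.of K))) [IsMonHom i] [Mono i] [IsFinite H.hom]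

lemma gmCoord_c {X : Over (Spec (CommRingCat.of K))}
    (x : X ⟶ Red.Gm (Spec (CommRingCat.of K))) : (gmCoord (K := K)).c X x = Red.gmFn x := rfl

omit [Mono i] [IsFinite H.hom] in
lemma gm_aeval_of_pts {R : Type u} [CommRing R] [Algebra K R] (p₁ p₂ : SpecO (K := K) R ⟶ H)
    (r₁ r₂ : R) (h₁ : Red.gmFn (p₁ ≫ i) = gInv R r₁) (h₂ : Red.gmFn (p₂ ≫ i) = gInv R r₂) :
    aeval (r₁ * r₂) (minpoly K (Red.gmFn i)) = 0 := by
  have e4 : Red.gmFn ((p₁ * p₂) ≫ i) = gInv R (r₁ * r₂) := by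
    rw [MonObj.mul_comp _ _ i, gmFn_mul, h₁, h₂, map_mul]
  have h := aeval_pt gmCoord i (p₁ * p₂)
  rw [gmCoord_c, gmCoord_c, e4, aeval_algHom_apply] at h
  have h' := congrArg (gHom R) h
  rw [gHom_gInv, map_zero] at h'
  exact h'

lemma gm_hyp :
    aeval (Red.gmFn i ⊗ₜ[K] Red.gmFn i) (minpoly K (Red.gmFn i)) = 0 := by
  obtain ⟨p₁, p₂, h₁, h₂⟩ := exists_tensor_pts H
  have h := gm_aeval_of_pts i p₁ p₂ _ _ (by rw [gmFn_comp, h₁]) (by rw [gmFn_comp, h₂])
  rwa [Algebra.TensorProduct.tmul_mul_tmul, _root_.mul_one, _root_.one_mul] at h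

end Gm

end Field


attribute [local instance] algΓ

variable {K : Type u} [Field K]

theorem main_Gm {H : Over (Spec (CommRingCat.of K))} [GrpObj H]
    (i : H ⟶ Red.Gm (Spec (CommRingCat.of K))) [IsMonHom i] [Mono i] [IsFinite H.hom] :
    ∃ φ : Red.Gm (Spec (CommRingCat.of K)) ⟶ Red.Gm (Spec (CommRingCat.of K)),
      IsMonHom φ ∧ AlgGrp.IsKernel i φ ∧ Flat φ.left ∧ Surjective φ.left := by
  haveI := nontrivial_of_grp H
  have hu : IsUnit (pbOf gmCoord i).gen := gmFn_isUnit i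
  have hmin : minpoly K (Red.gmFn i) = X ^ (pbOf gmCoord i).dim - 1 :=
    minpoly_eq_X_pow_sub_one (pbOf gmCoord i) hu (gm_hyp i)
  haveI : NeZero (pbOf gmCoord i).dim := ⟨(pbOf gmCoord i).dim_pos.ne'⟩
  refine ⟨Red.chi _ ((pbOf gmCoord i).dim : ℤ),
    Groth.Agent.Lib.Helper27DiagSub.isMonHom_DSmap _ _, ?_, flat_chi _ _, surj_chi _ _⟩
  apply isKernel_of_coord gmCoord i
  intro X x
  rw [chi_eq_pow, gmCoord_c, gmCoord_c, hmin, map_sub, map_pow, aeval_X, map_one, sub_eq_zero]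
  constructor
  · intro h
    rw [← gmFn_pow, h, gmFn_one]
  · intro h
    apply gmFn_injective
    rw [gmFn_pow, h, gmFn_one]


section A1

variable (K)

/-- the affine line as a `K`-scheme. -/
noncomputable abbrev A1 : Over (Spec (CommRingCat.of K)) := SpecO (K := K) K[X]

/-- the coordinate function of `𝔾_a`. -/
noncomputable def tGa : Γ((Red.Ga (Spec (CommRingCat.of K))).left, ⊤) :=
  Red.gaFn (𝟙 (Red.Ga (Spec (CommRingCat.of K))))

variable {K}

lemma gaFn_eq_appTop {X : Over (Spec (CommRingCat.of K))}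
    (x : X ⟶ Red.Ga (Spec (CommRingCat.of K))) : Red.gaFn x = x.left.appTop (tGa K) := by
  rw [tGa, ← gaFn_comp, Category.comp_id]

variable (K)

/-- the point `X` of `𝔾_a` with values in the affine line. -/
noncomputable def x₀ : A1 K ⟶ Red.Ga (Spec (CommRingCat.of K)) :=
  (gaEquiv (A1 K)).symm (gInv K[X] X)

lemma gaFn_x₀ : Red.gaFn (x₀ K) = gInv K[X] X := gaFn_gaEquiv_symm _

lemma exists_y₀ : ∃ y : Red.Ga (Spec (CommRingCat.of K)) ⟶ A1 K,
    ∀ a, y.left.appTop a = aeval (tGa K) (gHom K[X] a) :=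
  exists_hom_of_algHom (H := A1 K) ((aeval (tGa K)).comp (gHom K[X]))

/-- the inverse isomorphism. -/
noncomputable def y₀ : Red.Ga (Spec (CommRingCat.of K)) ⟶ A1 K := (exists_y₀ K).choose

lemma y₀_appTop (a : Γ((A1 K).left, ⊤)) :
    (y₀ K).left.appTop a = aeval (tGa K) (gHom K[X] a) := (exists_y₀ K).choose_spec a

lemma y₀_x₀ : y₀ K ≫ x₀ K = 𝟙 _ := by
  apply gaFn_injective
  rw [gaFn_comp, gaFn_x₀, y₀_appTop, gHom_gInv, aeval_X, tGa]

lemma x₀_y₀ : x₀ K ≫ y₀ K = 𝟙 _ := by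
  apply hom_ext_of_appTop
  intro a
  rw [Over.comp_left, Scheme.Hom.comp_appTop, CommRingCat.comp_apply, y₀_appTop, ← pullAlg_apply,
    ← aeval_algHom_apply, pullAlg_apply, ← gaFn_eq_appTop, gaFn_x₀, aeval_algHom_apply, aeval_X_left_apply, gInv_gHom]
  rfl

end A1

section Phi

variable (P : K[X])

/-- the endomorphism `Q ↦ Q ∘ P` of the affine line. -/
noncomputable def φ' : A1 K ⟶ A1 K :=
  Over.homMk (Spec.map (CommRingCat.ofHom (compRingHom P))) (by
    change Spec.map (CommRingCat.ofHom (compRingHom P)) ≫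
      Spec.map (CommRingCat.ofHom (algebraMap K K[X])) = Spec.map (CommRingCat.ofHom (algebraMap K K[X]))
    rw [← Spec.map_comp, ← CommRingCat.ofHom_comp]
    congr 2
    refine RingHom.ext fun a => ?_
    change (C a : K[X]).comp P = C a
    rw [C_comp])

lemma φ'_left : (φ' P).left = Spec.map (CommRingCat.ofHom (compRingHom P)) := rfl

lemma flat_φ' (hP : 0 < P.natDegree) : Flat (φ' P).left := by
  have h : Flat (Spec.map (CommRingCat.ofHom (compRingHom P))) := by
    rw [HasRingHomProperty.Spec_iff (P := @Flat)]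
    exact compRingHom_flat P hP
  exact h

lemma surj_φ' (hm : P.Monic) (hP : 0 < P.natDegree) : Surjective (φ' P).left := by
  have h : Surjective (Spec.map (CommRingCat.ofHom (compRingHom P))) := by
    constructor
    exact compRingHom_comap_surjective P hm hP
  exact h

lemma φ'_appTop (Q : K[X]) : (φ' P).left.appTop (gInv K[X] Q) = gInv K[X] (Q.comp P) := by
  have h := Scheme.ΓSpecIso_inv_naturality (CommRingCat.ofHom (compRingHom P))
  exact (congrArg (fun k => k.hom Q) h).symm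

/-- the endomorphism of `𝔾_a` given by the polynomial `P`. -/
noncomputable def φGa : Red.Ga (Spec (CommRingCat.of K)) ⟶ Red.Ga (Spec (CommRingCat.of K)) :=
  y₀ K ≫ φ' P ≫ x₀ K

lemma gaFn_φGa {X : Over (Spec (CommRingCat.of K))} (x : X ⟶ Red.Ga (Spec (CommRingCat.of K))) :
    Red.gaFn (x ≫ φGa P) = aeval (Red.gaFn x) P := by
  unfold φGa
  rw [← Category.assoc, ← Category.assoc, gaFn_comp, gaFn_x₀, Over.comp_left, Over.comp_left,
    Scheme.Hom.comp_appTop, Scheme.Hom.comp_appTop, CommRingCat.comp_apply, CommRingCat.comp_apply,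
    φ'_appTop, X_comp, y₀_appTop, gHom_gInv, ← pullAlg_apply, ← aeval_algHom_apply, pullAlg_apply,
    ← gaFn_eq_appTop]

lemma flat_φGa (hP : 0 < P.natDegree) : Flat (φGa P).left := by
  haveI := flat_φ' P hP
  haveI : IsIso (y₀ K) := ⟨x₀ K, y₀_x₀ K, x₀_y₀ K⟩
  haveI : IsIso (x₀ K) := ⟨y₀ K, x₀_y₀ K, y₀_x₀ K⟩
  haveI : IsIso (y₀ K).left := (Over.forget _).map_isIso (y₀ K)
  haveI : IsIso (x₀ K).left := (Over.forget _).map_isIso (x₀ K)
  unfold φGa
  rw [Over.comp_left, Over.comp_left]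
  infer_instance

lemma surj_φGa (hm : P.Monic) (hP : 0 < P.natDegree) : Surjective (φGa P).left := by
  haveI := surj_φ' P hm hP
  haveI : IsIso (y₀ K) := ⟨x₀ K, y₀_x₀ K, x₀_y₀ K⟩
  haveI : IsIso (x₀ K) := ⟨y₀ K, x₀_y₀ K, y₀_x₀ K⟩
  haveI : IsIso (y₀ K).left := (Over.forget _).map_isIso (y₀ K)
  haveI : IsIso (x₀ K).left := (Over.forget _).map_isIso (x₀ K)
  unfold φGa
  rw [Over.comp_left, Over.comp_left]
  infer_instance

end Phi

theorem main_Ga {H : Over (Spec (CommRingCat.of K))} [GrpObj H]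
    (i : H ⟶ Red.Ga (Spec (CommRingCat.of K))) [IsMonHom i] [Mono i] [IsFinite H.hom] :
    ∃ φ : Red.Ga (Spec (CommRingCat.of K)) ⟶ Red.Ga (Spec (CommRingCat.of K)),
      IsMonHom φ ∧ AlgGrp.IsKernel i φ ∧ Flat φ.left ∧ Surjective φ.left := by
  haveI := nontrivial_of_grp H
  have hm : (minpoly K (Red.gaFn i)).Monic := minpoly.monic (pbOf gaCoord i).isIntegral_gen
  have hd : 0 < (minpoly K (Red.gaFn i)).natDegree := by
    have h1 := (pbOf gaCoord i).natDegree_minpoly
    have h2 := (pbOf gaCoord i).dim_pos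
    rw [pbOf_gen, gaCoord_c] at h1
    omega
  have hadd := @aeval_add _ _ _ _ _ (pbOf gaCoord i) _ (ga_hyp i)
  refine ⟨φGa (minpoly K (Red.gaFn i)), ?_, ?_, flat_φGa _ hd, surj_φGa _ hm hd⟩
  · apply Groth.Agent.R2.H71.AS.isMonHom_of_points
    intro T x y
    apply gaFn_injective
    rw [gaFn_φGa, gaFn_mul, gaFn_mul, gaFn_φGa, gaFn_φGa]
    exact hadd _ _
  · apply isKernel_of_coord gaCoord i
    intro X x
    rw [gaCoord_c, gaCoord_c]
    constructor
    · intro h
      rw [← gaFn_φGa, h, gaFn_one]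
    · intro h
      apply gaFn_injective
      rw [gaFn_φGa, h, gaFn_one]


theorem transport {S : Scheme.{u}} {G G₀ H : Over S} [GrpObj G] [GrpObj G₀]
    (e : Grp.mk G ≅ Grp.mk G₀) (i : H ⟶ G)
    (h : ∃ φ₀ : G₀ ⟶ G₀, IsMonHom φ₀ ∧ AlgGrp.IsKernel (i ≫ e.hom.hom.hom) φ₀ ∧
      Flat φ₀.left ∧ Surjective φ₀.left) :
    ∃ φ : G ⟶ G, IsMonHom φ ∧ AlgGrp.IsKernel i φ ∧ Flat φ.left ∧ Surjective φ.left := by
  obtain ⟨φ₀, hmon, hker, hflat, hsurj⟩ := h
  have e1 : e.hom.hom.hom ≫ e.inv.hom.hom = 𝟙 G := congrArg (fun f => f.hom.hom) e.hom_inv_id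
  have e2 : e.inv.hom.hom ≫ e.hom.hom.hom = 𝟙 G₀ := congrArg (fun f => f.hom.hom) e.inv_hom_id
  haveI : IsIso e.hom.hom.hom := ⟨e.inv.hom.hom, e1, e2⟩
  haveI : IsIso e.inv.hom.hom := ⟨e.hom.hom.hom, e2, e1⟩
  haveI : IsIso e.hom.hom.hom.left := (Over.forget _).map_isIso e.hom.hom.hom
  haveI : IsIso e.inv.hom.hom.left := (Over.forget _).map_isIso e.inv.hom.hom
  refine ⟨e.hom.hom.hom ≫ φ₀ ≫ e.inv.hom.hom, inferInstance, ?_, ?_, ?_⟩
  · unfold AlgGrp.IsKernel at hker ⊢
    refine Groth.Agent.R2.H55.Kummer.isPullback_of_points _ _ _ _ ?_ ?_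
    · have := hker.w
      rw [Category.assoc] at this
      rw [← Category.assoc, ← Category.assoc, Category.assoc i, this, Category.assoc,
        IsMonHom.one_hom]
    · intro T a b hab
      have hab' : (a ≫ e.hom.hom.hom) ≫ φ₀ = b ≫ η[G₀] := by
        have h1 := congrArg (· ≫ e.hom.hom.hom) hab
        simp only [Category.assoc] at h1
        rw [e2, Category.comp_id, IsMonHom.one_hom] at h1
        rw [Category.assoc]
        exact h1
      refine ⟨hker.lift _ _ hab', ⟨?_, hker.lift_snd _ _ hab'⟩, ?_⟩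
      · have h1 := hker.lift_fst _ _ hab'
        rw [← Category.assoc] at h1
        exact (cancel_mono _).mp h1
      · intro c' h1 h2
        apply hker.hom_ext
        · rw [hker.lift_fst, ← Category.assoc, h1]
        · rw [hker.lift_snd, h2]
  · rw [Over.comp_left, Over.comp_left]
    infer_instance
  · rw [Over.comp_left, Over.comp_left]
    infer_instance


end Groth.Agent.R2.H90.GaGmSub
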