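import Mathlib
import Groth.Agent.R2.H90GaGmSub
import Groth.Agent.R2.H90TorsorPts
import Groth.Agent.R2.H90NormalTorsor

/-!
Helper library (helper90): torsors under finite connected group schemes over a field.

* `mem_range_of_one_tmul_eq`: the equaliser of `L ⇉ L ⊗[K] L` is `K` (field extensions);
* `exists_pow_mem_range`: uniform exponent `n` with `y ^ p ^ n ∈ K` whenever
  `(y ⊗ 1 - 1 ⊗ y) ^ n₀ = 0` (in characteristic zero, `y ∈ K` by separability);
* `exists_ringHom`: the resulting ring map `L → K` restricting to the iterated Frobenius on `K`;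
* `exists_pow_ker_eq_bot`: the augmentation ideal of a finite connected group scheme is nilpotent;
* `pow_sub_eq_zero`: for a pseudo-torsor `X` under such a group and `ψ : Γ(X) → L`, the elements
  `ψ c ⊗ 1 - 1 ⊗ ψ c` are nilpotent of uniformly bounded order;
* `main`: every fppf torsor under a finite connected group scheme over a field `K` acquires a point
  over `K` through a fixed power of the Frobenius.
-/

set_option autoImplicit false
set_option linter.style.haveILetI false
universe u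
open TensorProduct

namespace Groth.Agent.R2.H90.FinConn

section Alg

variable {K L : Type u} [Field K] [Field L] [Algebra K L]

/-- the equaliser of the two maps `L ⇉ L ⊗[K] L` is `K`. -/
lemma mem_range_of_one_tmul_eq (x : L) (H : (1 ⊗ₜ x : L ⊗[K] L) = x ⊗ₜ 1) :
    x ∈ (algebraMap K L).range := by
  classical
  by_cases h' : LinearIndependent K ![1, x]
  · have h := h'.linearIndepOn_id
    let S := h.extend (Set.subset_univ _)
    let a : S := ⟨1, h.subset_extend _ (by simp)⟩
    have ha : Module.Basis.extend h a = 1 := by simp [a]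
    let b : S := ⟨x, h.subset_extend _ (by simp)⟩
    have hb : Module.Basis.extend h b = x := by simp [b]
    by_cases e : a = b
    · obtain rfl : 1 = x := congr_arg Subtype.val e
      exact ⟨1, map_one _⟩
    have := DFunLike.congr_fun
      (DFunLike.congr_arg ((Module.Basis.extend h).tensorProduct (Module.Basis.extend h)).repr H) (a, b)
    simp only [Module.Basis.tensorProduct_repr_tmul_apply, ← ha, ← hb, Module.Basis.repr_self, smul_eq_mul,
      Finsupp.single_apply, e, Ne.symm e, ↓reduceIte, mul_one, mul_zero, one_ne_zero] at this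
  · rw [LinearIndependent.pair_iff] at h'
    simp only [not_forall, not_and, exists_prop] at h'
    obtain ⟨a, b, e, hab⟩ := h'
    have : IsUnit b := by
      rw [isUnit_iff_ne_zero]
      rintro rfl
      rw [zero_smul, ← Algebra.algebraMap_eq_smul_one, add_zero,
        (injective_iff_map_eq_zero' _).mp (algebraMap K L).injective] at e
      cases hab e rfl
    use (-this.unit⁻¹ * a)
    rw [map_mul, ← Algebra.smul_def, Algebra.algebraMap_eq_smul_one, eq_neg_iff_add_eq_zero.mpr e,
      smul_neg, neg_smul, neg_neg, smul_smul, this.val_inv_mul, one_smul]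

/-- char `p`: a nilpotent difference gives a `p^n`-th power in `K`. -/
lemma pow_mem_range_of_prime (p : ℕ) [hp : Fact p.Prime] [CharP K p] (n : ℕ) (y : L)
    (h : ((y ⊗ₜ[K] (1 : L)) - (1 : L) ⊗ₜ[K] y) ^ p ^ n = 0) :
    y ^ p ^ n ∈ (algebraMap K L).range := by
  have : Nontrivial (L ⊗[K] L) := by
    rw [← not_subsingleton_iff_nontrivial, ← rank_zero_iff (R := K), rank_tensorProduct',
      mul_eq_zero, or_self, rank_zero_iff, not_subsingleton_iff_nontrivial]
    infer_instance
  haveI : CharP (L ⊗[K] L) p := charP_of_injective_algebraMap (algebraMap K (L ⊗[K] L)).injective p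
  apply mem_range_of_one_tmul_eq
  rw [sub_pow_char_pow, Algebra.TensorProduct.tmul_pow, one_pow, Algebra.TensorProduct.tmul_pow, one_pow,
    sub_eq_zero] at h
  exact h.symm

/-- char `0` (more generally separable): a nilpotent difference vanishes. -/
lemma mem_range_of_isSeparable [Algebra.IsSeparable K L] [Module.Finite K L] (y : L)
    (h : IsNilpotent ((y ⊗ₜ[K] (1 : L)) - (1 : L) ⊗ₜ[K] y)) :
    y ∈ (algebraMap K L).range := by
  haveI : Algebra.FormallyUnramified K L := Algebra.FormallyUnramified.of_isSeparable K L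
  haveI : IsReduced (L ⊗[K] L) := Algebra.FormallyUnramified.isReduced_of_field L _
  apply mem_range_of_one_tmul_eq
  exact (sub_eq_zero.mp h.eq_zero).symm

/-- uniform exponent. -/
theorem exists_pow_mem_range (p : ℕ) [ExpChar K p] (n₀ : ℕ) :
    ∃ n : ℕ, ∀ (L : Type u) [Field L] [Algebra K L] [Module.Finite K L] (y : L),
      ((y ⊗ₜ[K] (1 : L)) - (1 : L) ⊗ₜ[K] y) ^ n₀ = 0 → y ^ p ^ n ∈ (algebraMap K L).range := by
  cases ‹ExpChar K p› with
  | zero =>
    refine ⟨0, fun L _ _ _ y h => ?_⟩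
    rw [pow_zero, pow_one]
    exact mem_range_of_isSeparable y ⟨n₀, h⟩
  | prime hp =>
    haveI : Fact p.Prime := ⟨hp⟩
    refine ⟨n₀, fun L _ _ _ y h => ?_⟩
    apply pow_mem_range_of_prime p n₀ y
    exact pow_eq_zero_of_le (Nat.lt_pow_self hp.one_lt).le h

/-- the resulting map `L → K`. -/
theorem exists_ringHom (p : ℕ) [ExpChar K p] (n : ℕ)
    (h : ∀ y : L, y ^ p ^ n ∈ (algebraMap K L).range) :
    ∃ φ : L →+* K, φ.comp (algebraMap K L) = iterateFrobenius K p n := by
  haveI : ExpChar L p := expChar_of_injective_algebraMap (algebraMap K L).injective p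
  choose k hk using h
  have hinj := (algebraMap K L).injective
  have hpos : p ^ n ≠ 0 := (pow_pos (expChar_pos K p) n).ne'
  refine ⟨{ toFun := k
            map_one' := hinj (by rw [hk, one_pow, map_one])
            map_mul' := fun a b => hinj (by rw [hk, map_mul, hk, hk, mul_pow])
            map_zero' := hinj (by rw [hk, map_zero, zero_pow hpos])
            map_add' := fun a b => hinj (by rw [hk, map_add, hk, hk, add_pow_expChar_pow]) }, ?_⟩
  ext x
  apply hinj
  simp [hk, iterateFrobenius_def]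

end Alg

open CategoryTheory AlgebraicGeometry MonObj MonoidalCategory CartesianMonoidalCategory
open Groth.Agent.R2.H90.GaGmSub Groth.Agent.R2.H90.TorsorPts

section Geo

variable {K : Type u} [Field K]

attribute [local instance] Groth.Agent.R2.H90.GaGmSub.algΓ

lemma subsingleton_of_finite_connected (G : Over (Spec (CommRingCat.of K))) [IsFinite G.hom]
    [ConnectedSpace G.left] : Subsingleton G.left := by
  have hsub : Subsingleton (Spec (CommRingCat.of K)) := by
    show Subsingleton (PrimeSpectrum K)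
    infer_instance
  obtain ⟨g₀⟩ := (inferInstance : Nonempty G.left)
  have h1 := Scheme.Hom.isDiscrete_preimage_singleton G.hom (G.hom g₀)
  have h2 : (G.hom ⁻¹' {G.hom g₀} : Set G.left) = Set.univ := by
    ext x
    simp only [Set.mem_preimage, Set.mem_singleton_iff, Set.mem_univ, iff_true]
    exact Subsingleton.elim _ _
  rw [h2, isDiscrete_univ_iff] at h1
  exact PreconnectedSpace.trivial_of_discrete

/-- the augmentation ideal of a finite connected group scheme is nilpotent. -/
theorem exists_pow_ker_eq_bot (G : Over (Spec (CommRingCat.of K))) [GrpObj G] [IsFinite G.hom]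
    [ConnectedSpace G.left] :
    ∃ n₀ : ℕ, (RingHom.ker (η[G].left.appTop.hom)) ^ n₀ = ⊥ := by
  haveI := subsingleton_of_finite_connected G
  haveI : IsAffine G.left := isAffine_of_isFinite G
  have hle : RingHom.ker (η[G].left.appTop.hom) ≤ nilradical Γ(G.left, ⊤) := by
    intro a ha
    rw [mem_nilradical, Scheme.isNilpotent_iff_basicOpen_eq_bot]
    have h1 : η[G].left ⁻¹ᵁ (G.left.basicOpen a) = ⊥ := by
      rw [Scheme.Hom.preimage_basicOpen_top]
      rw [RingHom.mem_ker] at ha
      rw [ha]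
      exact Scheme.basicOpen_zero _ _
    rw [← TopologicalSpace.Opens.not_nonempty_iff_eq_bot]
    rintro ⟨x, hx⟩
    obtain ⟨pt⟩ : Nonempty (𝟙_ (Over (Spec (CommRingCat.of K)))).left := by
      show Nonempty (PrimeSpectrum K)
      infer_instance
    have : pt ∈ η[G].left ⁻¹ᵁ (G.left.basicOpen a) := by
      show η[G].left pt ∈ G.left.basicOpen a
      rw [Subsingleton.elim (η[G].left pt) x]
      exact hx
    rw [h1] at this
    exact this
  haveI : Module.Finite K Γ(G.left, ⊤) := finite_of_isFinite G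
  haveI : IsNoetherianRing Γ(G.left, ⊤) := IsNoetherianRing.of_finite K _
  obtain ⟨n₀, hn₀⟩ := IsNoetherianRing.isNilpotent_nilradical Γ(G.left, ⊤)
  refine ⟨n₀, le_bot_iff.mp ?_⟩
  rw [← Ideal.zero_eq_bot, ← hn₀]
  exact Ideal.pow_right_mono hle n₀

/-- every function on `G` is a constant plus an element of the augmentation ideal. -/
lemma exists_sub_mem_ker (G : Over (Spec (CommRingCat.of K))) [GrpObj G] (a : Γ(G.left, ⊤)) :
    ∃ k : K, a - algebraMap K Γ(G.left, ⊤) k ∈ RingHom.ker (η[G].left.appTop.hom) := by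
  refine ⟨(Scheme.ΓSpecIso (CommRingCat.of K)).hom (η[G].left.appTop a), ?_⟩
  rw [RingHom.mem_ker, map_sub, sub_eq_zero]
  have h1 := appTop_algebraMap η[G] ((Scheme.ΓSpecIso (CommRingCat.of K)).hom (η[G].left.appTop a))
  refine Eq.trans ?_ h1.symm
  generalize η[G].left.appTop a = z
  rw [algebraMap_eq]
  have h3 : (𝟙_ (Over (Spec (CommRingCat.of K)))).hom = 𝟙 _ := rfl
  unfold Groth.Agent.Lib.Helper27.GaGm.fn
  rw [h3]
  have h4 : (Scheme.ΓSpecIso (CommRingCat.of K)).inv ((Scheme.ΓSpecIso (CommRingCat.of K)).hom z) = z :=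
    congrArg (fun f => f.hom z) (Scheme.ΓSpecIso (CommRingCat.of K)).hom_inv_id
  rw [h4]
  rfl

/-- two algebra maps out of the functions on `G` which kill the augmentation ideal agree. -/
lemma algHom_apply_eq_of_ker (G : Over (Spec (CommRingCat.of K))) [GrpObj G] {C : Type u} [CommRing C]
    [Algebra K C] (ψ₁ ψ₂ : Γ(G.left, ⊤) →ₐ[K] C)
    (h₁ : ∀ b ∈ RingHom.ker (η[G].left.appTop.hom), ψ₁ b = 0)
    (h₂ : ∀ b ∈ RingHom.ker (η[G].left.appTop.hom), ψ₂ b = 0) (b : Γ(G.left, ⊤)) :
    ψ₁ b = ψ₂ b := by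
  obtain ⟨k, hk⟩ := exists_sub_mem_ker G b
  have e1 := h₁ _ hk
  have e2 := h₂ _ hk
  rw [map_sub, AlgHom.commutes, sub_eq_zero] at e1 e2
  rw [e1, e2]

/-- **Key step.** For a pseudo-torsor `X` under an affine group `G` whose augmentation ideal has
vanishing `n₀`-th power, and any `K`-algebra map `ψ : Γ(X) → L`, the elements
`ψ c ⊗ 1 - 1 ⊗ ψ c` of `L ⊗[K] L` have vanishing `n₀`-th power. -/
theorem pow_sub_eq_zero {G X : Over (Spec (CommRingCat.of K))} [GrpObj G] [IsAffine G.left]
    [IsAffine X.left] (a : AlgGrp.Action G X) (hpt : NonAbH1.IsPseudoTorsorSch a)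
    (n₀ : ℕ) (hn₀ : (RingHom.ker (η[G].left.appTop.hom)) ^ n₀ = ⊥)
    {L : Type u} [CommRing L] [Algebra K L] (ψ : Γ(X.left, ⊤) →ₐ[K] L) (c : Γ(X.left, ⊤)) :
    ((ψ c ⊗ₜ[K] (1 : L)) - (1 : L) ⊗ₜ[K] ψ c) ^ n₀ = 0 := by
  obtain ⟨P₁, hP₁⟩ := exists_hom_of_algHom (H := X) (T := SpecO (K := K) (L ⊗[K] L))
    ((gInv _).comp (Algebra.TensorProduct.includeLeft.comp ψ))
  obtain ⟨P₂, hP₂⟩ := exists_hom_of_algHom (H := X) (T := SpecO (K := K) (L ⊗[K] L))
    ((gInv _).comp (Algebra.TensorProduct.includeRight.comp ψ))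
  obtain ⟨g, hg⟩ := exists_act_eq a hpt P₁ P₂
  let gam : Γ(G.left, ⊤) →ₐ[K] L ⊗[K] L := (gHom _).comp (pullAlg g)
  let J : Ideal (L ⊗[K] L) := Ideal.map gam.toRingHom (RingHom.ker (η[G].left.appTop.hom))
  have hJ : J ^ n₀ = ⊥ := by rw [← Ideal.map_pow, hn₀, Ideal.map_bot]
  obtain ⟨d, hd⟩ := exists_hom_of_algHom (H := SpecO (K := K) (L ⊗[K] L))
    (T := SpecO (K := K) ((L ⊗[K] L) ⧸ J))
    ((gInv ((L ⊗[K] L) ⧸ J)).comp ((Ideal.Quotient.mkₐ K J).comp (gHom _)))
  have hdg : d ≫ g = toUnit _ ≫ η[G] := by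
    apply hom_ext_of_appTop
    intro a'
    refine algHom_apply_eq_of_ker G (pullAlg (d ≫ g)) (pullAlg (toUnit _ ≫ η[G])) ?_ ?_ a'
    · intro b hb
      show (d ≫ g).left.appTop b = 0
      rw [Over.comp_left, Scheme.Hom.comp_appTop]
      show d.left.appTop (g.left.appTop b) = 0
      rw [hd]
      show gInv ((L ⊗[K] L) ⧸ J) (Ideal.Quotient.mk J (gam b)) = 0
      have hmem : gam b ∈ J := Ideal.mem_map_of_mem gam.toRingHom hb
      rw [Ideal.Quotient.eq_zero_iff_mem.mpr hmem, map_zero]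
    · intro b hb
      show (toUnit _ ≫ η[G]).left.appTop b = 0
      rw [Over.comp_left, Scheme.Hom.comp_appTop]
      show (toUnit (SpecO (K := K) ((L ⊗[K] L) ⧸ J))).left.appTop (η[G].left.appTop b) = 0
      rw [RingHom.mem_ker.mp hb, map_zero]
  have hPP : d ≫ P₂ = d ≫ P₁ := by
    have h1 : lift (d ≫ g) (d ≫ P₂) ≫ a.act = d ≫ P₁ := by
      rw [← comp_lift, Category.assoc, hg]
    rw [hdg] at h1
    rw [← h1]
    exact (one_act_point a _).symm
  have hmem : (ψ c ⊗ₜ[K] (1 : L)) - (1 : L) ⊗ₜ[K] ψ c ∈ J := by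
    have h1 : (d ≫ P₂).left.appTop c = (d ≫ P₁).left.appTop c := by rw [hPP]
    rw [Over.comp_left, Scheme.Hom.comp_appTop, Over.comp_left, Scheme.Hom.comp_appTop] at h1
    have h2 : d.left.appTop (P₂.left.appTop c) = d.left.appTop (P₁.left.appTop c) := h1
    rw [hP₁, hP₂, hd, hd] at h2
    have h3 := congrArg (gHom ((L ⊗[K] L) ⧸ J)) h2
    simp only [AlgHom.comp_apply, gHom_gInv] at h3
    rw [← Ideal.Quotient.eq_zero_iff_mem, map_sub, sub_eq_zero]
    exact h3.symm
  have h4 := Ideal.pow_mem_pow hmem n₀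
  rw [hJ] at h4
  exact h4

/-- **Torsors under finite connected group schemes over a field are trivialised by a power of
Frobenius**, uniformly in the torsor. -/
theorem main (K : Type u) [Field K] (p : ℕ) [ExpChar K p] (G : Over (Spec (CommRingCat.of K)))
    [GrpObj G] [IsFinite G.hom] [ConnectedSpace G.left] :
    ∃ n : ℕ, ∀ (X : Over (Spec (CommRingCat.of K))) (a : AlgGrp.Action G X),
      NonAbH1.IsTorsorFor Scheme.fppfPrecoverage a →
      NonAbH1.HasSectionOver X (Spec.map (CommRingCat.ofHom (iterateFrobenius K p n))) := by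
  obtain ⟨n₀, hn₀⟩ := exists_pow_ker_eq_bot G
  obtain ⟨n, hn⟩ := exists_pow_mem_range (K := K) p n₀
  refine ⟨n, fun X a hX => ?_⟩
  haveI : IsFinite X.hom := Groth.Agent.R2.H90.NormalTorsor.isFinite_of_torsor G X a hX
  haveI : IsAffine X.left := isAffine_of_isFinite X
  haveI : IsAffine G.left := isAffine_of_isFinite G
  haveI : Module.Finite K Γ(X.left, ⊤) := finite_of_isFinite X
  haveI : Nonempty X.left := by
    obtain ⟨_, R', hR', hsec⟩ := hX
    obtain ⟨I, V, φ, rfl⟩ := Presieve.exists_eq_ofArrows R'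
    rw [Scheme.fppfPrecoverage, Scheme.ofArrows_mem_precoverage_iff] at hR'
    obtain ⟨pt⟩ : Nonempty (Spec (CommRingCat.of K)) :=
      (inferInstance : Nonempty (PrimeSpectrum K))
    obtain ⟨i, v, hv⟩ := hR'.1 pt
    obtain ⟨s, hs⟩ := hsec (φ i) ⟨i⟩
    exact ⟨s v⟩
  haveI : Nonempty (⊤ : X.left.Opens) := ⟨⟨Classical.arbitrary X.left, trivial⟩⟩
  haveI : Nontrivial Γ(X.left, ⊤) := Scheme.component_nontrivial X.left ⊤
  obtain ⟨m, hm⟩ := Ideal.exists_maximal Γ(X.left, ⊤)
  letI : Field (Γ(X.left, ⊤) ⧸ m) := Ideal.Quotient.field m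
  haveI : Module.Finite K (Γ(X.left, ⊤) ⧸ m) :=
    Module.Finite.of_surjective (Ideal.Quotient.mkₐ K m).toLinearMap Ideal.Quotient.mk_surjective
  have hy : ∀ y : Γ(X.left, ⊤) ⧸ m, y ^ p ^ n ∈ (algebraMap K (Γ(X.left, ⊤) ⧸ m)).range := by
    intro y
    obtain ⟨c, rfl⟩ := Ideal.Quotient.mk_surjective y
    exact hn _ _ (pow_sub_eq_zero a hX.1 n₀ hn₀ (Ideal.Quotient.mkₐ K m) c)
  obtain ⟨φ, hφ⟩ := exists_ringHom p n hy
  obtain ⟨x, -⟩ := exists_hom_of_algHom (H := X) (T := SpecO (K := K) (Γ(X.left, ⊤) ⧸ m))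
    ((gInv _).comp (Ideal.Quotient.mkₐ K m))
  have hw : x.left ≫ X.hom =
      Spec.map (CommRingCat.ofHom (algebraMap K (Γ(X.left, ⊤) ⧸ m))) := Over.w x
  refine ⟨Spec.map (CommRingCat.ofHom φ) ≫ x.left, ?_⟩
  calc (Spec.map (CommRingCat.ofHom φ) ≫ x.left) ≫ X.hom
      = Spec.map (CommRingCat.ofHom φ) ≫ (x.left ≫ X.hom) := Category.assoc _ _ _
    _ = Spec.map (CommRingCat.ofHom φ) ≫
          Spec.map (CommRingCat.ofHom (algebraMap K (Γ(X.left, ⊤) ⧸ m))) :=
        congrArg (Spec.map (CommRingCat.ofHom φ) ≫ ·) hw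
    _ = Spec.map (CommRingCat.ofHom (iterateFrobenius K p n)) := by
        rw [← Spec.map_comp, ← CommRingCat.ofHom_comp, hφ]

end Geo

end Groth.Agent.R2.H90.FinConn
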