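/-
Helper library (helper90): the ideal generated by the `a - σ a` for a finite-order automorphism `σ`
of a Noetherian local `k`-algebra with residue field `k` (order invertible in `k`) is generated by
elements whose classes in the cotangent space are linearly independent.
-/
import Mathlib
open IsLocalRing

namespace Groth.Agent.R2.H90.FixedIdeal

universe u
variable {k : Type u} [Field k] {A : Type u} [CommRing A] [Algebra k A]

/-- the averaging operator -/
noncomputable def avg (σ : A →ₐ[k] A) (n : ℕ) : A →ₗ[k] A :=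
  (n : k)⁻¹ • ∑ i ∈ Finset.range n, (σ ^ i).toLinearMap

lemma avg_apply (σ : A →ₐ[k] A) (n : ℕ) (x : A) :
    avg σ n x = (n : k)⁻¹ • ∑ i ∈ Finset.range n, (σ ^ i) x := by
  simp [avg, LinearMap.sum_apply]

lemma sub_avg (σ : A →ₐ[k] A) (n : ℕ) (hn : (n : k) ≠ 0) (x : A) :
    x - avg σ n x = (n : k)⁻¹ • ∑ i ∈ Finset.range n, (x - (σ ^ i) x) := by
  rw [avg_apply, Finset.sum_sub_distrib, smul_sub, Finset.sum_const, Finset.card_range,
    ← Nat.cast_smul_eq_nsmul k, smul_smul, inv_mul_cancel₀ hn, one_smul]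

lemma pow_apply_eq_iterate (σ : A →ₐ[k] A) (i : ℕ) (x : A) : (σ ^ i) x = (⇑σ)^[i] x := by
  rw [AlgHom.coe_pow]

lemma avg_sub (σ : A →ₐ[k] A) (n : ℕ) (hσ : ∀ a : A, (⇑σ)^[n] a = a) (a : A) :
    avg σ n (a - σ a) = 0 := by
  rw [map_sub, avg_apply, avg_apply, ← smul_sub, ← Finset.sum_sub_distrib]
  have h1 : ∀ i, (σ ^ i) a - (σ ^ i) (σ a) = (σ ^ i) a - (σ ^ (i + 1)) a := by
    intro i
    rw [pow_succ]; rfl
  rw [Finset.sum_congr rfl (fun i _ => h1 i), Finset.sum_range_sub']
  rw [pow_zero, pow_apply_eq_iterate, hσ]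
  simp


section Local
variable [IsLocalRing A]

lemma map_mem_maximalIdeal (σ : A →ₐ[k] A) (n : ℕ) (hn : n ≠ 0) (hσ : ∀ a : A, (⇑σ)^[n] a = a)
    {x : A} (hx : x ∈ maximalIdeal A) : σ x ∈ maximalIdeal A := by
  rw [mem_maximalIdeal, mem_nonunits_iff] at hx ⊢
  intro hu
  apply hx
  have h2 : (σ ^ (n - 1)) (σ x) = x := by
    have : (σ ^ (n - 1)) (σ x) = (σ ^ (n - 1 + 1)) x := by rw [pow_succ]; rfl
    rw [this, Nat.sub_add_cancel (Nat.one_le_iff_ne_zero.mpr hn), pow_apply_eq_iterate, hσ]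
  rw [← h2]
  exact hu.map _

lemma pow_map_mem_maximalIdeal (σ : A →ₐ[k] A) (n : ℕ) (hn : n ≠ 0) (hσ : ∀ a : A, (⇑σ)^[n] a = a)
    (i : ℕ) {x : A} (hx : x ∈ maximalIdeal A) : (σ ^ i) x ∈ maximalIdeal A := by
  induction i with
  | zero => simpa using hx
  | succ i ih =>
    rw [pow_succ']
    exact map_mem_maximalIdeal σ n hn hσ ih

/-- the ideal generated by the `a - σ a` -/
def fixIdeal (σ : A →ₐ[k] A) : Ideal A := Ideal.span (Set.range fun a : A => a - σ a)

lemma sub_pow_mem_fixIdeal (σ : A →ₐ[k] A) (i : ℕ) (x : A) : x - (σ ^ i) x ∈ fixIdeal σ := by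
  induction i with
  | zero => simp
  | succ i ih =>
    have : x - (σ ^ (i + 1)) x = (x - (σ ^ i) x) + ((σ ^ i) x - σ ((σ ^ i) x)) := by
      rw [pow_succ']; simp
    rw [this]
    exact Ideal.add_mem _ ih (Ideal.subset_span ⟨_, rfl⟩)

lemma sub_mem_maximalIdeal (hres : Function.Surjective ⇑(algebraMap k (ResidueField A)))
    (σ : A →ₐ[k] A) (n : ℕ) (hn : n ≠ 0) (hσ : ∀ a : A, (⇑σ)^[n] a = a) (a : A) :
    a - σ a ∈ maximalIdeal A := by
  obtain ⟨c, hc⟩ := hres (residue A a)
  have h1 : a - algebraMap k A c ∈ maximalIdeal A := by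
    rw [← residue_eq_zero_iff, map_sub, ← hc, sub_eq_zero]
    rfl
  have h2 : a - σ a = (a - algebraMap k A c) - σ (a - algebraMap k A c) := by
    rw [map_sub, AlgHom.commutes]; ring
  rw [h2]
  exact Ideal.sub_mem _ h1 (map_mem_maximalIdeal σ n hn hσ h1)

lemma smul_mem_ideal (I : Ideal A) (c : k) {x : A} (hx : x ∈ I) : c • x ∈ I := by
  rw [Algebra.smul_def]
  exact I.mul_mem_left _ hx

lemma sub_avg_mem_fixIdeal (σ : A →ₐ[k] A) (n : ℕ) (hn : (n : k) ≠ 0) (x : A) :
    x - avg σ n x ∈ fixIdeal σ := by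
  rw [sub_avg σ n hn]
  exact smul_mem_ideal _ _ (Ideal.sum_mem _ fun i _ => sub_pow_mem_fixIdeal σ i x)

lemma sub_avg_mul_mem (σ : A →ₐ[k] A) (n : ℕ) (hn : (n : k) ≠ 0) (hσ : ∀ a : A, (⇑σ)^[n] a = a)
    {a b : A} (ha : a ∈ maximalIdeal A) (hb : b ∈ maximalIdeal A) :
    a * b - avg σ n (a * b) ∈ maximalIdeal A * fixIdeal σ := by
  have hn0 : n ≠ 0 := by rintro rfl; simp at hn
  rw [sub_avg σ n hn]
  refine smul_mem_ideal _ _ (Ideal.sum_mem _ fun i _ => ?_)
  have : a * b - (σ ^ i) (a * b) = a * (b - (σ ^ i) b) + (σ ^ i) b * (a - (σ ^ i) a) := by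
    rw [map_mul]; ring
  rw [this]
  exact Ideal.add_mem _ (Ideal.mul_mem_mul ha (sub_pow_mem_fixIdeal σ i b))
    (Ideal.mul_mem_mul (pow_map_mem_maximalIdeal σ n hn0 hσ i hb) (sub_pow_mem_fixIdeal σ i a))

lemma sub_avg_mem_of_mem_sq (σ : A →ₐ[k] A) (n : ℕ) (hn : (n : k) ≠ 0)
    (hσ : ∀ a : A, (⇑σ)^[n] a = a) {y : A} (hy : y ∈ maximalIdeal A ^ 2) :
    y - avg σ n y ∈ maximalIdeal A * fixIdeal σ := by
  rw [pow_two] at hy
  induction hy using Submodule.mul_induction_on' with
  | mem_mul_mem a ha b hb => exact sub_avg_mul_mem σ n hn hσ ha hb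
  | add x _ y _ hx hy =>
    have : x + y - avg σ n (x + y) = (x - avg σ n x) + (y - avg σ n y) := by
      rw [map_add]; ring
    rw [this]
    exact Ideal.add_mem _ hx hy


theorem exists_gens [IsNoetherianRing A]
    (hres : Function.Surjective ⇑(algebraMap k (ResidueField A)))
    (σ : A →ₐ[k] A) (n : ℕ) (hσ : ∀ a : A, (⇑σ)^[n] a = a) (hn : (n : k) ≠ 0) :
    ∃ (m : ℕ) (f : Fin m → ↥(maximalIdeal A)),
      Ideal.span (Set.range fun i : Fin m => (f i : A)) = fixIdeal σ ∧
      LinearIndependent (ResidueField A)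
        (fun i : Fin m => (maximalIdeal A).toCotangent (f i)) := by
  classical
  have hn0 : n ≠ 0 := by rintro rfl; simp at hn
  have h1 : ∀ a, a - σ a ∈ maximalIdeal A := sub_mem_maximalIdeal hres σ n hn0 hσ
  let cl : A → (maximalIdeal A).Cotangent := fun a => (maximalIdeal A).toCotangent ⟨a - σ a, h1 a⟩
  obtain ⟨b, hbt, hbspan, hbli⟩ := exists_linearIndependent (ResidueField A) (Set.range cl)
  have hbfin : b.Finite := hbli.setFinite
  let r := hbfin.toFinset.card
  let eb : Fin r ≃ b := (hbfin.toFinset.equivFin.symm).trans (Equiv.subtypeEquivRight (by simp))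
  have hpre : ∀ j : Fin r, ∃ a : A, cl a = (eb j : (maximalIdeal A).Cotangent) :=
    fun j => hbt (eb j).2
  choose a ha using hpre
  let f : Fin r → ↥(maximalIdeal A) := fun j => ⟨a j - σ (a j), h1 (a j)⟩
  have hf : ∀ j, (maximalIdeal A).toCotangent (f j) = (eb j : (maximalIdeal A).Cotangent) := ha
  refine ⟨r, f, ?_, ?_⟩
  · apply le_antisymm
    · rw [Ideal.span_le]
      rintro _ ⟨j, rfl⟩
      exact Ideal.subset_span ⟨a j, rfl⟩
    · refine Submodule.le_of_le_smul_of_le_jacobson_bot (I := maximalIdeal A)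
        (IsNoetherian.noetherian _) (maximalIdeal_le_jacobson _) ?_
      rw [fixIdeal, Ideal.span_le]
      rintro _ ⟨z, rfl⟩
      -- the class of `z - σ z` lies in the span of the classes of the `f j`
      have hz : cl z ∈ Submodule.span (ResidueField A)
          (Set.range fun j => (maximalIdeal A).toCotangent (f j)) := by
        have h2 : Set.range (fun j => (maximalIdeal A).toCotangent (f j)) = b := by
          ext v
          constructor
          · rintro ⟨j, rfl⟩
            show (maximalIdeal A).toCotangent (f j) ∈ b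
            rw [hf]; exact (eb j).2
          · intro hv
            refine ⟨eb.symm ⟨v, hv⟩, ?_⟩
            show (maximalIdeal A).toCotangent (f (eb.symm ⟨v, hv⟩)) = v
            rw [hf]; simp
        rw [h2, hbspan]
        exact Submodule.subset_span ⟨z, rfl⟩
      obtain ⟨c, hc⟩ := (Submodule.mem_span_range_iff_exists_fun _).1 hz
      choose c' hc' using fun j => hres (c j)
      -- the remainder
      set y : A := (z - σ z) - ∑ j, c' j • (f j : A) with hy
      have hym : y ∈ maximalIdeal A :=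
        Ideal.sub_mem _ (h1 z) (Ideal.sum_mem _ fun j _ => smul_mem_ideal _ _ (f j).2)
      have hy2 : y ∈ maximalIdeal A ^ 2 := by
        rw [← Ideal.toCotangent_eq_zero _ ⟨y, hym⟩]
        have h3 : (⟨y, hym⟩ : maximalIdeal A) =
            ⟨z - σ z, h1 z⟩ - ∑ j, (algebraMap k A (c' j)) • f j := by
          apply Subtype.ext
          simp [hy, Algebra.smul_def]
        rw [h3, map_sub, map_sum, sub_eq_zero]
        rw [show (maximalIdeal A).toCotangent ⟨z - σ z, h1 z⟩ = cl z from rfl, ← hc]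
        refine Finset.sum_congr rfl fun j _ => ?_
        rw [map_smul, ← hc' j]
        rw [IsScalarTower.algebraMap_apply k A (ResidueField A), algebraMap_smul]
      have hey : avg σ n y = 0 := by
        rw [hy, map_sub, map_sum, avg_sub σ n hσ]
        simp only [map_smul]
        have : ∀ j, avg σ n (f j : A) = 0 := fun j => avg_sub σ n hσ (a j)
        simp [this]
      have hy3 : y ∈ maximalIdeal A * fixIdeal σ := by
        have := sub_avg_mem_of_mem_sq σ n hn hσ hy2
        rwa [hey, sub_zero] at this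
      have hzy : z - σ z = ∑ j, c' j • (f j : A) + y := by rw [hy]; ring
      show z - σ z ∈ Ideal.span (Set.range fun i => (f i : A)) ⊔
        maximalIdeal A • Ideal.span (Set.range fun a => a - σ a)
      rw [hzy]
      refine Submodule.add_mem_sup ?_ ?_
      · exact Ideal.sum_mem _ fun j _ => smul_mem_ideal _ _ (Ideal.subset_span ⟨j, rfl⟩)
      · exact hy3
  · have h4 : (fun i : Fin r => (maximalIdeal A).toCotangent (f i)) = Subtype.val ∘ eb := by
      funext j; exact hf j
    rw [h4]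
    exact hbli.comp eb eb.injective

end Local

end Groth.Agent.R2.H90.FixedIdeal
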