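/-
Helper library for S18418 (Fontaine–Laffaille: the glued Frobenius being bijective forces the
`α_i` to be injective with direct-summand image).  Pure algebra over a PID with a surjective
endomorphism `σ` fixing an irreducible element `π` in the Jacobson radical.
-/
import Mathlib

set_option autoImplicit false
universe u v

namespace Groth.Agent.R2.H90.FonLaf

open Module

section Length

variable {R : Type*} [Ring R] (σ : R →+* R) [RingHomSurjective σ]
variable {A B C : Type*} [AddCommGroup A] [Module R A] [AddCommGroup B] [Module R B]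
  [AddCommGroup C] [Module R C]

theorem length_eq_of_bijective (Φ : B →ₛₗ[σ] C) (h : Function.Bijective Φ) :
    Module.length R B = Module.length R C := by
  rw [Module.length, Module.length, WithBot.unbot_inj,
    Order.krullDim_eq_of_orderIso (Submodule.orderIsoMapComapOfBijective Φ h)]

theorem length_eq_ker_add (Φ : B →ₛₗ[σ] C) (h : Function.Surjective Φ) :
    Module.length R B = Module.length R (LinearMap.ker Φ) + Module.length R C := by
  have h1 := Module.length_eq_add_of_exact (LinearMap.ker Φ).subtype (LinearMap.ker Φ).mkQ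
    (Submodule.subtype_injective _) (Submodule.mkQ_surjective _)
    (LinearMap.exact_subtype_mkQ _)
  rw [h1]; congr 1
  refine length_eq_of_bijective σ ((LinearMap.ker Φ).liftQ Φ le_rfl) ⟨?_, ?_⟩
  · rw [← LinearMap.ker_eq_bot]
    exact Submodule.ker_liftQ_eq_bot _ _ _ le_rfl
  · rw [← LinearMap.range_eq_top, Submodule.range_liftQ, LinearMap.range_eq_top]
    exact h

theorem injective_of_length (ι : A →ₗ[R] B) (Φ : B →ₛₗ[σ] C) (hΦ : Function.Surjective Φ)
    (hker : LinearMap.ker Φ ≤ LinearMap.range ι)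
    (hlen : Module.length R B = Module.length R A + Module.length R C)
    (hfin : Module.length R B ≠ ⊤) : Function.Injective ι := by
  have h1 := length_eq_ker_add σ Φ hΦ
  have h2 : Module.length R (LinearMap.ker Φ) ≤ Module.length R (LinearMap.range ι) :=
    Module.length_le_of_injective (Submodule.inclusion hker) (Submodule.inclusion_injective hker)
  have h3 : Module.length R A = Module.length R (LinearMap.ker ι) + Module.length R (LinearMap.range ι) :=
    Module.length_eq_add_of_exact (LinearMap.ker ι).subtype ι.rangeRestrict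
      (Submodule.subtype_injective _) (LinearMap.surjective_rangeRestrict ι) (by
        intro x
        simp only [Submodule.coe_subtype, Set.mem_range, Subtype.exists, LinearMap.mem_ker, exists_prop, exists_eq_right]
        rw [← Submodule.coe_eq_zero (p := LinearMap.range ι)]
        simp)
  have h4 : Module.length R (LinearMap.ker ι) + Module.length R B ≤ Module.length R B := by
    calc Module.length R (LinearMap.ker ι) + Module.length R B
        = Module.length R (LinearMap.ker ι) + (Module.length R (LinearMap.ker Φ) + Module.length R C) := by rw [← h1]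
      _ ≤ Module.length R (LinearMap.ker ι) + (Module.length R (LinearMap.range ι) + Module.length R C) := by gcongr
      _ = Module.length R B := by rw [← add_assoc, ← h3, ← hlen]
  have h5 : Module.length R (LinearMap.ker ι) = 0 := by
    by_contra hne
    have hpos : 0 < Module.length R (LinearMap.ker ι) := pos_iff_ne_zero.mpr hne
    have : Module.length R B < Module.length R (LinearMap.ker ι) + Module.length R B := by
      exact ENat.lt_add_left hfin hpos
    exact absurd h4 (not_le.mpr this)
  rw [Module.length_eq_zero_iff] at h5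
  rw [← LinearMap.ker_eq_bot]
  exact Submodule.subsingleton_iff_eq_bot.mp h5

end Length

section Supp

variable {R : Type u} [Ring R] (M : ℕ → Type v) [∀ i, AddCommGroup (M i)] [∀ i, Module R (M i)]

/-- families supported in `[0, r)`. -/
def S (r : ℕ) : Submodule R (∀ i, M i) where
  carrier := {y | ∀ i, r ≤ i → y i = 0}
  add_mem' := by
    intro a b ha hb i hi
    simp [ha i hi, hb i hi]
  zero_mem' := by intro i _; rfl
  smul_mem' := by
    intro c a ha i hi
    simp [ha i hi]

variable {M}

theorem mem_S {r : ℕ} {y : ∀ i, M i} : y ∈ S (R := R) M r ↔ ∀ i, r ≤ i → y i = 0 := Iff.rfl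

variable (R M)

theorem S_le (r : ℕ) : S (R := R) M r ≤ S M (r + 1) := by
  intro y hy i hi
  exact hy i (by omega)

theorem length_S (r : ℕ) :
    Module.length R (S (R := R) M r) = ∑ i ∈ Finset.range r, Module.length R (M i) := by
  induction r with
  | zero =>
    simp only [Finset.range_zero, Finset.sum_empty]
    rw [Module.length_eq_zero_iff]
    refine ⟨fun a b => ?_⟩
    ext i
    rw [a.2 i (Nat.zero_le _), b.2 i (Nat.zero_le _)]
  | succ r ih =>
    rw [Finset.sum_range_succ, ← ih]
    refine Module.length_eq_add_of_exact (Submodule.inclusion (S_le R M r))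
      ((LinearMap.proj r).comp (S (R := R) M (r + 1)).subtype)
      (Submodule.inclusion_injective _) ?_ ?_
    · intro m
      classical
      refine ⟨⟨Pi.single r m, ?_⟩, by simp⟩
      intro i hi
      rw [Pi.single_eq_of_ne (by omega)]
    · intro y
      constructor
      · intro hy
        refine ⟨⟨y.1, ?_⟩, by ext; rfl⟩
        intro i hi
        rcases Nat.eq_or_lt_of_le hi with h | h
        · subst h; exact hy
        · exact y.2 i h
      · rintro ⟨z, rfl⟩
        exact z.2 r le_rfl

end Supp

section Family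

variable {R : Type u} [CommRing R] (σ : R →+* R) [RingHomSurjective σ] (π : R) (r : ℕ)
  (N : ℕ → Type v) [∀ i, AddCommGroup (N i)] [∀ i, Module R (N i)]
  (α : ∀ i, N (i + 1) →ₗ[R] N i)
  (φ : ∀ i, N i →ₛₗ[σ] N 0)

/-- The hypotheses of the statement, for a general base ring. -/
structure Hyp : Prop where
  surj : ∀ m : N 0, ∃ y : (i : ℕ) → N i, (∀ i, r < i → y i = 0) ∧
      (Finset.range (r + 1)).sum (fun i => φ i (y i)) = m
  ker : ∀ y : (i : ℕ) → N i, (∀ i, r < i → y i = 0) →
      (Finset.range (r + 1)).sum (fun i => φ i (y i)) = 0 →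
        ∃ z : (i : ℕ) → N (i + 1), (∀ i, r ≤ i → z i = 0) ∧
          y 0 = α 0 (z 0) ∧ ∀ i, y (i + 1) = α (i + 1) (z (i + 1)) - π • z i

/-- The map `ι` on all families. -/
def iotaFun (z : ∀ i, N (i + 1)) : ∀ i, N i
  | 0 => α 0 (z 0)
  | i + 1 => α (i + 1) (z (i + 1)) - π • z i

/-- The map `ι` as a linear map. -/
def iota : (∀ i, N (i + 1)) →ₗ[R] (∀ i, N i) where
  toFun := iotaFun π N α
  map_add' := by
    intro a b
    funext j
    cases j with
    | zero => simp [iotaFun]
    | succ i => simp [iotaFun]; abel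
  map_smul' := by
    intro c a
    funext j
    cases j with
    | zero => simp [iotaFun]
    | succ i => simp [iotaFun, smul_sub, smul_comm c π]

theorem iota_mem (z : ∀ i, N (i + 1)) (hz : z ∈ S (R := R) (fun i => N (i + 1)) r) :
    iota π N α z ∈ S (R := R) N (r + 1) := by
  intro j hj
  cases j with
  | zero => omega
  | succ i =>
    change α (i + 1) (z (i + 1)) - π • z i = 0
    rw [hz i (by omega), hz (i + 1) (by omega)]
    simp

/-- The map `Φ` on all families. -/
def Phi : (∀ i, N i) →ₛₗ[σ] N 0 :=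
  ∑ i ∈ Finset.range (r + 1), (φ i).comp (LinearMap.proj (R := R) (φ := N) i)

omit [RingHomSurjective σ] in
theorem Phi_apply (y : ∀ i, N i) :
    Phi σ r N φ y = (Finset.range (r + 1)).sum (fun i => φ i (y i)) := by
  simp [Phi, LinearMap.sum_apply]

variable {σ π r N α φ}

theorem iota_injOn (fl : ∀ i, IsFiniteLength R (N i)) (H : Hyp σ π r N α φ)
    (z : ∀ i, N (i + 1)) (hz : ∀ i, r ≤ i → z i = 0) (h0 : α 0 (z 0) = 0)
    (h1 : ∀ i, α (i + 1) (z (i + 1)) - π • z i = 0) : z = 0 := by
  let A := S (R := R) (fun i => N (i + 1)) r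
  let B := S (R := R) N (r + 1)
  let ι : A →ₗ[R] B := LinearMap.codRestrict B ((iota π N α).comp A.subtype)
    (fun z => iota_mem π r N α z.1 z.2)
  let Φ : B →ₛₗ[σ] N 0 := (Phi σ r N φ).comp B.subtype
  have hlen : ∀ i, Module.length R (N i) ≠ ⊤ := fun i => Module.length_ne_top_iff.mpr (fl i)
  have hinj : Function.Injective ι := by
    refine injective_of_length σ ι Φ ?_ ?_ ?_ ?_
    · intro m
      obtain ⟨y, hy, hym⟩ := H.surj m
      refine ⟨⟨y, fun i hi => hy i hi⟩, ?_⟩
      simp only [Φ, LinearMap.comp_apply, Submodule.subtype_apply, Phi_apply]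
      exact hym
    · intro y hy
      obtain ⟨z, hz, hz0, hz1⟩ := H.ker y.1 (fun i hi => y.2 i hi) (by
        have := LinearMap.mem_ker.mp hy
        simpa only [Φ, LinearMap.comp_apply, Submodule.subtype_apply, Phi_apply] using this)
      refine ⟨⟨z, hz⟩, ?_⟩
      apply Subtype.ext
      funext j
      cases j with
      | zero => exact hz0.symm
      | succ i => exact (hz1 i).symm
    · change Module.length R (S (R := R) N (r + 1)) = Module.length R (S (R := R) (fun i => N (i + 1)) r) + _
      rw [length_S, length_S, Finset.sum_range_succ', add_comm]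
    · change Module.length R (S (R := R) N (r + 1)) ≠ ⊤
      rw [length_S]
      exact ENat.sum_ne_top.mpr (fun i _ => hlen i) 
  have : (⟨z, hz⟩ : A) = 0 := by
    apply hinj
    rw [map_zero]
    apply Subtype.ext
    funext j
    cases j with
    | zero => exact h0
    | succ i => exact h1 i
  exact congrArg Subtype.val this

end Family


section Quot

variable {R : Type u} [CommRing R] (σ : R →+* R) [RingHomSurjective σ] (π : R) (r : ℕ)
  (N : ℕ → Type v) [∀ i, AddCommGroup (N i)] [∀ i, Module R (N i)]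
  (α : ∀ i, N (i + 1) →ₗ[R] N i)
  (φ : ∀ i, N i →ₛₗ[σ] N 0)

/-- `π^n M` -/
def pw (n : ℕ) (M : Type v) [AddCommGroup M] [Module R M] : Submodule R M :=
  LinearMap.range ((π ^ n) • (LinearMap.id : M →ₗ[R] M))

variable {π} in
theorem mem_pw {n : ℕ} {M : Type v} [AddCommGroup M] [Module R M] {x : M} :
    x ∈ pw π n M ↔ ∃ y, π ^ n • y = x := by
  simp [pw]

/-- the quotient family -/
abbrev Nq (n : ℕ) (i : ℕ) : Type v := N i ⧸ pw π n (N i)

/-- `α` on the quotient family -/
def αq (n : ℕ) (i : ℕ) : Nq π N n (i + 1) →ₗ[R] Nq π N n i :=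
  Submodule.mapQ _ _ (α i) (by
    rintro _ ⟨y, rfl⟩
    exact mem_pw.mpr ⟨α i y, by simp⟩)

/-- `φ` on the quotient family -/
def φq (hσ : σ π = π) (n : ℕ) (i : ℕ) : Nq π N n i →ₛₗ[σ] Nq π N n 0 :=
  Submodule.mapQ _ _ (φ i) (by
    rintro _ ⟨y, rfl⟩
    refine mem_pw.mpr ⟨φ i y, ?_⟩
    simp [hσ])

variable {σ π r N α φ}

omit [RingHomSurjective σ] in
theorem hyp_quot (hσ : σ π = π) (H : Hyp σ π r N α φ) (n : ℕ) :
    Hyp σ π r (Nq π N n) (αq π N α n) (φq σ π N φ hσ n) := by
  constructor
  · intro m
    obtain ⟨m, rfl⟩ := Submodule.Quotient.mk_surjective _ m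
    obtain ⟨y, hy, hym⟩ := H.surj m
    refine ⟨fun i => Submodule.Quotient.mk (y i), fun i hi => by show Submodule.Quotient.mk (y i) = 0; rw [hy i hi]; rfl, ?_⟩
    rw [← hym, ← Submodule.mkQ_apply, map_sum]
    rfl
  · intro y' hy' hs
    classical
    have hex : ∀ i, ∃ y : N i, Submodule.Quotient.mk y = y' i ∧ (r < i → y = 0) := by
      intro i
      by_cases hi : r < i
      · exact ⟨0, by rw [hy' i hi]; rfl, fun _ => rfl⟩
      · obtain ⟨y, hy⟩ := Submodule.Quotient.mk_surjective _ (y' i)
        exact ⟨y, hy, fun h => absurd h hi⟩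
    choose y hy hy0 using hex
    have h1 : (Finset.range (r + 1)).sum (fun i => φ i (y i)) ∈ pw π n (N 0) := by
      rw [← Submodule.Quotient.mk_eq_zero, ← hs, ← Submodule.mkQ_apply, map_sum]
      refine Finset.sum_congr rfl (fun i _ => ?_)
      rw [← hy i]
      rfl
    obtain ⟨c, hc⟩ := mem_pw.mp h1
    obtain ⟨b, hb, hbc⟩ := H.surj c
    obtain ⟨z, hz, hz0, hz1⟩ := H.ker (fun i => y i - π ^ n • b i) (fun i hi => by
        simp [hy0 i hi, hb i hi]) (by
      simp only [map_sub, LinearMap.map_smulₛₗ, map_pow, hσ, Finset.sum_sub_distrib,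
        ← Finset.smul_sum, hbc, hc, sub_self])
    have hmk : ∀ i, (Submodule.Quotient.mk (y i - π ^ n • b i) : Nq π N n i) = y' i := by
      intro i
      rw [Submodule.Quotient.mk_sub, hy i, sub_eq_self, Submodule.Quotient.mk_eq_zero]
      exact mem_pw.mpr ⟨_, rfl⟩
    refine ⟨fun i => Submodule.Quotient.mk (z i), fun i hi => by show Submodule.Quotient.mk (z i) = 0; rw [hz i hi]; rfl, ?_, ?_⟩
    · rw [← hmk 0, hz0]
      rfl
    · intro i
      rw [← hmk (i + 1), hz1 i]
      rfl

end Quot


section Pure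

variable {R : Type u} [CommRing R] {σ : R →+* R} [RingHomSurjective σ] {π : R} {r : ℕ}
  {N : ℕ → Type v} [∀ i, AddCommGroup (N i)] [∀ i, Module R (N i)]
  {α : ∀ i, N (i + 1) →ₗ[R] N i}
  {φ : ∀ i, N i →ₛₗ[σ] N 0}

theorem pure (hσ : σ π = π) (fl : ∀ i, IsFiniteLength R (N i)) (H : Hyp σ π r N α φ) (n : ℕ) :
    ∀ j, j < r → ∀ x : N (j + 1), α j x ∈ pw π n (N j) → x ∈ pw π n (N (j + 1)) := by
  induction n with
  | zero =>
    intro j _ x _
    exact mem_pw.mpr ⟨x, by simp⟩
  | succ n ih =>
    intro j hj x hx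
    have hx' : α j x ∈ pw π n (N j) := by
      obtain ⟨b, hb⟩ := mem_pw.mp hx
      exact mem_pw.mpr ⟨π • b, by rw [← hb, pow_succ, mul_smul]⟩
    obtain ⟨x', hx'⟩ := mem_pw.mp (ih j hj x hx')
    classical
    let z : (i : ℕ) → Nq π N (n + 1) (i + 1) := Pi.single j (Submodule.Quotient.mk x)
    have fl' : ∀ i, IsFiniteLength R (Nq π N (n + 1) i) := fun i =>
      (fl i).of_surjective (Submodule.mkQ_surjective _)
    have hzj : z j = Submodule.Quotient.mk x := Pi.single_eq_same _ _
    have hzne : ∀ i, i ≠ j → z i = 0 := fun i hi => Pi.single_eq_of_ne hi _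
    have key := iota_injOn fl' (hyp_quot hσ H (n + 1)) z
      (fun i hi => hzne i (by omega)) ?_ ?_
    · rw [← Submodule.Quotient.mk_eq_zero, ← hzj, key]
      rfl
    · by_cases h : j = 0
      · subst h
        rw [hzj]
        change Submodule.Quotient.mk (α 0 x) = 0
        rw [Submodule.Quotient.mk_eq_zero]
        exact hx
      · rw [hzne 0 (Ne.symm h), map_zero]
    · intro i
      by_cases h : i + 1 = j
      · subst h
        rw [hzj, hzne i (by omega), smul_zero, sub_zero]
        change Submodule.Quotient.mk (α (i + 1) x) = 0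
        rw [Submodule.Quotient.mk_eq_zero]
        exact hx
      · rw [hzne (i + 1) h, map_zero, zero_sub, neg_eq_zero]
        by_cases h2 : i = j
        · subst h2
          rw [hzj, ← Submodule.Quotient.mk_smul, Submodule.Quotient.mk_eq_zero]
          exact mem_pw.mpr ⟨x', by rw [← hx', pow_succ', mul_smul]⟩
        · rw [hzne i h2, smul_zero]

end Pure


section Nak

variable {R : Type u} [CommRing R] {π : R}

theorem exists_pow_smul_eq_zero (hjac : π ∈ Ideal.jacobson (⊥ : Ideal R))
    (M : Type v) [AddCommGroup M] [Module R M] (h : IsFiniteLength R M) :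
    ∃ n : ℕ, ∀ x : M, π ^ n • x = 0 := by
  obtain ⟨hN, hA⟩ := isFiniteLength_iff_isNoetherian_isArtinian.mp h
  let f : ℕ →o (Submodule R M)ᵒᵈ :=
    ⟨fun n => OrderDual.toDual (pw π n M), by
      intro a b hab
      change pw π b M ≤ pw π a M
      intro x hx
      obtain ⟨y, rfl⟩ := mem_pw.mp hx
      refine mem_pw.mpr ⟨π ^ (b - a) • y, ?_⟩
      rw [← mul_smul, ← pow_add, Nat.add_sub_cancel' hab]⟩
  obtain ⟨n, hn⟩ := IsArtinian.monotone_stabilizes f
  have h1 : pw π n M = pw π (n + 1) M := by
    have := hn (n + 1) (Nat.le_succ n)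
    exact OrderDual.toDual.injective this
  have h2 : pw π n M ≤ Ideal.span {π} • pw π n M := by
    intro x hx
    rw [h1] at hx
    obtain ⟨y, rfl⟩ := mem_pw.mp hx
    rw [pow_succ', mul_smul]
    exact Submodule.smul_mem_smul (Ideal.mem_span_singleton_self π) (mem_pw.mpr ⟨y, rfl⟩)
  have h3 : pw π n M = ⊥ :=
    Submodule.eq_bot_of_le_smul_of_le_jacobson_bot (Ideal.span {π}) (pw π n M)
      (IsNoetherian.noetherian _) h2 (by
        rw [Ideal.span_le, Set.singleton_subset_iff]
        exact hjac)
  refine ⟨n, fun x => ?_⟩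
  have : π ^ n • x ∈ pw π n M := mem_pw.mpr ⟨x, rfl⟩
  rw [h3] at this
  exact (Submodule.mem_bot R).mp this

end Nak

section Compl

variable {R : Type u} [CommRing R] [IsDomain R] [IsPrincipalIdealRing R] {π : R}

theorem exists_isCompl_of_pure (hπ : Irreducible π)
    {A B : Type v} [AddCommGroup A] [Module R A] [AddCommGroup B] [Module R B]
    [Module.Finite R B] (f : A →ₗ[R] B)
    (hpure : ∀ (n : ℕ) (x : A), f x ∈ pw π n B → x ∈ pw π n A)
    (htors : ∃ n : ℕ, ∀ b : B, π ^ n • b = 0) :
    ∃ Q : Submodule R B, IsCompl (LinearMap.range f) Q := by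
  classical
  obtain ⟨n0, hn0⟩ := htors
  have hT : Module.IsTorsion' (B ⧸ LinearMap.range f) (Submonoid.powers π) := by
    intro q
    obtain ⟨b, rfl⟩ := Submodule.Quotient.mk_surjective _ q
    refine ⟨⟨π ^ n0, n0, rfl⟩, ?_⟩
    change π ^ n0 • (Submodule.Quotient.mk b : B ⧸ LinearMap.range f) = 0
    rw [← Submodule.Quotient.mk_smul, hn0 b, Submodule.Quotient.mk_zero]
  obtain ⟨d, k, ⟨e⟩⟩ := Module.torsion_by_prime_power_decomposition hπ hT
  -- lifts of the generators
  have hex : ∀ i : Fin d, ∃ y : B, π ^ k i • y = 0 ∧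
      Submodule.Quotient.mk y = e.symm (DirectSum.lof R (Fin d) (fun i => R ⧸ R ∙ π ^ k i) i 1) := by
    intro i
    obtain ⟨b, hb⟩ := Submodule.Quotient.mk_surjective (LinearMap.range f)
      (e.symm (DirectSum.lof R (Fin d) (fun i => R ⧸ R ∙ π ^ k i) i 1))
    have h1 : π ^ k i • b ∈ LinearMap.range f := by
      have : (π ^ k i) • (1 : R ⧸ R ∙ π ^ k i) = 0 := by
        change (π ^ k i) • (Submodule.Quotient.mk (1 : R)) = 0
        rw [← Submodule.Quotient.mk_smul, Submodule.Quotient.mk_eq_zero, smul_eq_mul, mul_one]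
        exact Submodule.mem_span_singleton_self _
      rw [← Submodule.Quotient.mk_eq_zero, Submodule.Quotient.mk_smul, hb, ← LinearEquiv.map_smul,
        ← LinearMap.map_smul, this, map_zero, map_zero]
    obtain ⟨x, hx⟩ := h1
    obtain ⟨a, ha⟩ := mem_pw.mp (hpure (k i) x (mem_pw.mpr ⟨b, hx.symm⟩))
    refine ⟨b - f a, ?_, ?_⟩
    · rw [smul_sub, ← map_smul, ha, hx, sub_self]
    · rw [Submodule.Quotient.mk_sub, hb, sub_eq_self, Submodule.Quotient.mk_eq_zero]
      exact ⟨a, rfl⟩
  choose y hy0 hy using hex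
  let s : (DirectSum (Fin d) fun i => R ⧸ R ∙ π ^ k i) →ₗ[R] B :=
    DirectSum.toModule R (Fin d) B (fun i =>
      Submodule.liftQSpanSingleton (π ^ k i) (LinearMap.toSpanSingleton R B (y i)) (by
        rw [LinearMap.toSpanSingleton_apply]; exact hy0 i))
  have hs : (LinearMap.range f).mkQ.comp s = e.symm.toLinearMap := by
    apply DirectSum.linearMap_ext
    intro i
    apply Submodule.linearMap_qext
    apply LinearMap.ext_ring
    simp only [LinearMap.coe_comp, Function.comp_apply, Submodule.mkQ_apply, s,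
      DirectSum.toModule_lof, LinearEquiv.coe_coe]
    refine Eq.trans ?_ (hy i)
    congr 1
    change ((R ∙ π ^ k i).liftQ (LinearMap.toSpanSingleton R B (y i)) _) (Submodule.Quotient.mk 1) = y i
    rw [Submodule.liftQ_apply, LinearMap.toSpanSingleton_apply, one_smul]
  have hs' : ∀ t, Submodule.Quotient.mk (s t) = e.symm t := fun t => by
    have := LinearMap.congr_fun hs t
    simpa using this
  refine ⟨LinearMap.range s, ?_, ?_⟩
  · rw [Submodule.disjoint_def]
    rintro b hb ⟨t, rfl⟩
    have : e.symm t = 0 := by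
      rw [← hs', Submodule.Quotient.mk_eq_zero]; exact hb
    rw [LinearEquiv.map_eq_zero_iff] at this
    rw [this, map_zero]
  · rw [Submodule.codisjoint_iff_exists_add_eq]
    intro b
    refine ⟨b - s (e (Submodule.Quotient.mk b)), s (e (Submodule.Quotient.mk b)), ?_, ⟨_, rfl⟩, by abel⟩
    rw [← Submodule.Quotient.mk_eq_zero, Submodule.Quotient.mk_sub, hs', LinearEquiv.symm_apply_apply,
      sub_self]

end Compl


section Main

variable {R : Type u} [CommRing R] [IsDomain R] [IsPrincipalIdealRing R] {σ : R →+* R}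
  [RingHomSurjective σ] {π : R} {r : ℕ}
  {N : ℕ → Type v} [∀ i, AddCommGroup (N i)] [∀ i, Module R (N i)]
  {α : ∀ i, N (i + 1) →ₗ[R] N i}
  {φ : ∀ i, N i →ₛₗ[σ] N 0}

theorem main (hπ : Irreducible π) (hjac : π ∈ Ideal.jacobson (⊥ : Ideal R)) (hσ : σ π = π)
    (fl : ∀ i, IsFiniteLength R (N i)) (H : Hyp σ π r N α φ) (i : ℕ) (hi : i < r) :
    Function.Injective (α i) ∧
      ∃ Q : Submodule R (N i), IsCompl (LinearMap.range (α i)) Q := by
  have hp := fun n => pure hσ fl H n i hi
  obtain ⟨n1, hn1⟩ := exists_pow_smul_eq_zero hjac (N (i + 1)) (fl (i + 1))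
  refine ⟨?_, ?_⟩
  · rw [injective_iff_map_eq_zero]
    intro x hx
    obtain ⟨a, ha⟩ := mem_pw.mp (hp n1 x (by rw [hx]; exact zero_mem _))
    rw [← ha, hn1]
  · have : IsNoetherian R (N i) := (isFiniteLength_iff_isNoetherian_isArtinian.mp (fl i)).1
    exact exists_isCompl_of_pure hπ (α i) (fun n x hx => hp n x hx)
      (exists_pow_smul_eq_zero hjac (N i) (fl i))

end Main

section Witt

variable (p : ℕ) [Fact p.Prime] (k : Type u) [Field k] [CharP k p] [PerfectRing k p]

instance ringHomSurjective_frobenius :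
    RingHomSurjective (WittVector.frobenius : WittVector p k →+* WittVector p k) :=
  ⟨(WittVector.frobenius_bijective p k).surjective⟩

theorem witt_main (r : ℕ)
    (N : ℕ → Type v) [∀ i, AddCommGroup (N i)] [∀ i, Module (WittVector p k) (N i)]
    (hfl : ∀ i, IsFiniteLength (WittVector p k) (N i))
    (α : ∀ i, N (i + 1) →ₗ[WittVector p k] N i)
    (φ : ∀ i, N i →ₛₗ[(WittVector.frobenius : WittVector p k →+* WittVector p k)] N 0)
    (H : Hyp (WittVector.frobenius : WittVector p k →+* WittVector p k) (p : WittVector p k) r N α φ)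
    (i : ℕ) (hi : i < r) :
    Function.Injective (α i) ∧
      ∃ Q : Submodule (WittVector p k) (N i), IsCompl (LinearMap.range (α i)) Q := by
  have hπ : Irreducible (p : WittVector p k) := WittVector.irreducible p
  refine main hπ ?_ (map_natCast _ _) hfl H i hi
  rw [IsLocalRing.jacobson_eq_maximalIdeal ⊥ bot_ne_top, IsLocalRing.mem_maximalIdeal]
  exact hπ.not_isUnit

end Witt

end Groth.Agent.R2.H90.FonLaf
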