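import Mathlib
import Groth.Prelude.Def_Frob
import Groth.Agent.Lib.Helper22IdealComap

/-!
# Frobenius-twisted correspondences are contracting (helper90)

`C = C₀ ×_{k₀} Spec K`, `Fr : C ⟶ C` with `Fr ≫ πC₀ = πC₀ ≫ F^N` (`F` the absolute Frobenius of `C₀`) and
`Fr ≫ πK = πK`, `K` perfect.  Then on every affine open `πC₀⁻¹(V₀)` every value of `Fr^#` is a `p^N`-th
power, so every inverse-image ideal `I.comap (j ≫ Fr ≫ c₁)` is locally generated by `p^N`-th powers;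
if it is contained in `√J` it is contained in `(√J)^(p^N)`.
-/

set_option autoImplicit false
universe u

namespace Groth.Agent.R2.H90.FrobContract

open AlgebraicGeometry CategoryTheory CategoryTheory.Limits
open Groth.Agent.Lib.Helper22.IdealComap

/-- ring-level: every value of φ is a p^N-th power -/
theorem exists_pow_eq (p N : ℕ) [Fact p.Prime] {A₀ K' A : Type*} [CommRing A₀] [CommRing K']
    [CommRing A]
    (hp : (p : A) = 0) (φ : A →+* A) (ι₀ : A₀ →+* A) (ι : K' →+* A)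
    (h₀ : ∀ a, φ (ι₀ a) = (ι₀ a) ^ (p ^ N)) (h₁ : ∀ l, φ (ι l) = ι l)
    (hperf : ∀ l : K', ∃ m : K', m ^ (p ^ N) = l)
    (hgen : Subring.closure (Set.range ι₀ ∪ Set.range ι) = ⊤) (x : A) :
    ∃ y : A, φ x = y ^ (p ^ N) := by
  rcases subsingleton_or_nontrivial A with hA | hA
  · exact ⟨0, Subsingleton.elim _ _⟩
  have : CharP A p := (CharP.charP_iff_prime_eq_zero Fact.out).2 hp
  let S : Subring A := (iterateFrobenius A p N).range.comap φ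
  have hS : Subring.closure (Set.range ι₀ ∪ Set.range ι) ≤ S := by
    rw [Subring.closure_le]
    rintro _ (⟨a, rfl⟩ | ⟨l, rfl⟩)
    · exact ⟨ι₀ a, by rw [iterateFrobenius_def, h₀]⟩
    · obtain ⟨m, rfl⟩ := hperf l
      exact ⟨ι m, by rw [iterateFrobenius_def, h₁, map_pow]⟩
  have hx : x ∈ S := hS (hgen ▸ Subring.mem_top x)
  obtain ⟨y, hy⟩ := hx
  exact ⟨y, hy.symm⟩

section
variable {C₀ : Scheme.{u}} (p : ℕ) [Fact p.Prime] [FrobSch.IsCharP C₀ p]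

theorem frobPow_preimage (N : ℕ) (V : C₀.Opens) :
    (End.asHom (End.of (FrobSch.frob C₀ p) ^ N)) ⁻¹ᵁ V = V := by
  induction N with
  | zero => rfl
  | succ n ih =>
    rw [pow_succ, End.mul_def]
    change (FrobSch.frob C₀ p ≫ End.asHom (End.of (FrobSch.frob C₀ p) ^ n)) ⁻¹ᵁ V = V
    rw [Scheme.Hom.comp_preimage, ih]
    rfl

theorem frobPow_apply (N : ℕ) (y : C₀) :
    (End.asHom (End.of (FrobSch.frob C₀ p) ^ N)) y = y := by
  induction N with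
  | zero => rfl
  | succ n ih =>
    rw [pow_succ, End.mul_def]
    change (FrobSch.frob C₀ p ≫ End.asHom (End.of (FrobSch.frob C₀ p) ^ n)) y = y
    rw [Scheme.Hom.comp_apply, FrobSch.frob_apply, ih]

theorem frob_appLE (V : C₀.Opens) (s : Γ(C₀, V)) :
    (FrobSch.frob C₀ p).appLE V V (le_refl _) s = s ^ p := by
  have h1 : (FrobSch.frob C₀ p).appLE V V (le_refl _) = (FrobSch.frob C₀ p).app V :=
    Scheme.Hom.appLE_eq_app _
  rw [h1]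
  exact FrobSch.frob_app C₀ p V s

theorem frobPow_appLE (N : ℕ) (V : C₀.Opens) (h : V ≤ (End.asHom (End.of (FrobSch.frob C₀ p) ^ N)) ⁻¹ᵁ V)
    (s : Γ(C₀, V)) :
    (End.asHom (End.of (FrobSch.frob C₀ p) ^ N)).appLE V V h s
      = s ^ (p ^ N) := by
  induction N with
  | zero =>
    have h1 : (𝟙 C₀ : C₀ ⟶ C₀).appLE V V (le_refl _) = (𝟙 C₀ : C₀ ⟶ C₀).app V :=
      Scheme.Hom.appLE_eq_app _
    change (𝟙 C₀ : C₀ ⟶ C₀).appLE V V _ s = _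
    rw [h1]
    simp
  | succ n ih =>
    have e : End.asHom (End.of (FrobSch.frob C₀ p) ^ (n + 1)) =
        FrobSch.frob C₀ p ≫ End.asHom (End.of (FrobSch.frob C₀ p) ^ n) := by
      rw [pow_succ, End.mul_def]
    have := Scheme.Hom.appLE_comp_appLE (FrobSch.frob C₀ p)
      (End.asHom (End.of (FrobSch.frob C₀ p) ^ n)) V V V (frobPow_preimage p n V).ge (le_refl _)
    rw [Groth.Agent.Lib.Helper22.IdealComap.appLE_congr_hom e, ← this]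
    change (FrobSch.frob C₀ p).appLE V V _ ((End.asHom (End.of (FrobSch.frob C₀ p) ^ n)).appLE V V _ s) = _
    rw [ih, frob_appLE, ← pow_mul, pow_succ]

end

theorem contracting_of_le_radical_pow {W : Scheme.{u}} (L J : W.IdealSheafData) (q d : ℕ)
    (hL : L ≤ J.radical ^ q) (hd : J.radical ^ d ≤ J) (hn : d < q) :
    L ≤ J ∧ L ^ d ≤ J ^ (d + 1) := by
  have hL' : L ≤ J.radical ^ (d + 1) := by
    intro U
    exact (hL U).trans (Ideal.pow_le_pow_right (I := (J.ideal U).radical) hn)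
  constructor
  · intro U
    refine (hL' U).trans (le_trans ?_ (hd U))
    exact Ideal.pow_le_pow_right (I := (J.ideal U).radical) (Nat.le_succ d)
  · intro U
    change (L.ideal U) ^ d ≤ (J.ideal U) ^ (d + 1)
    calc (L.ideal U) ^ d ≤ ((J.ideal U).radical ^ (d + 1)) ^ d := Ideal.pow_right_mono (hL' U) d
      _ = ((J.ideal U).radical ^ d) ^ (d + 1) := by rw [← pow_mul, ← pow_mul, mul_comm]
      _ ≤ (J.ideal U) ^ (d + 1) := Ideal.pow_right_mono (hd U) (d + 1)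

section core
variable {C C₀ : Scheme.{u}} (p : ℕ) [Fact p.Prime]
  {k₀ : Type u} [Field k₀] {K : Type u} [Field K] [Algebra k₀ K]
  {f₀ : C₀ ⟶ Spec (CommRingCat.of k₀)} [FrobSch.IsCharP C₀ p]
  {πC₀ : C ⟶ C₀} {πK : C ⟶ Spec (CommRingCat.of K)}
  (hC : IsPullback πC₀ πK f₀ (Spec.map (CommRingCat.ofHom (algebraMap k₀ K))))
  {N : ℕ} {Fr : C ⟶ C}
  (hFr₀ : Fr ≫ πC₀ = πC₀ ≫ End.asHom (End.of (FrobSch.frob C₀ p) ^ N))
  (hFrK : Fr ≫ πK = πK)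
  (hperf : ∀ l : K, ∃ m : K, m ^ (p ^ N) = l)

include hC in
theorem isAffineHom_fst : IsAffineHom πC₀ :=
  MorphismProperty.of_isPullback hC.flip (inferInstance : IsAffineHom (Spec.map _))

include hFr₀ in
theorem Fr_preimage (V₀ : C₀.Opens) : Fr ⁻¹ᵁ (πC₀ ⁻¹ᵁ V₀) = πC₀ ⁻¹ᵁ V₀ := by
  rw [← Scheme.Hom.comp_preimage, hFr₀, Scheme.Hom.comp_preimage, frobPow_preimage]

include hC hFr₀ hFrK hperf in
theorem exists_pow_eq_Fr (V₀ : C₀.Opens) (hV₀ : IsAffineOpen V₀) (x : Γ(C, πC₀ ⁻¹ᵁ V₀)) :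
    ∃ y : Γ(C, πC₀ ⁻¹ᵁ V₀),
      Fr.appLE (πC₀ ⁻¹ᵁ V₀) (πC₀ ⁻¹ᵁ V₀) (Fr_preimage p hFr₀ V₀).ge x = y ^ (p ^ N) := by
  have hpush := (isIso_pushoutSection_iff hC (US := ⊤) (UT := ⊤) (UX := V₀) (UY := πC₀ ⁻¹ᵁ V₀)
    le_top le_top (by simp)).mp
    (isIso_pushoutSection_of_isAffineOpen hC le_top le_top (by simp) (isAffineOpen_top _)
      (isAffineOpen_top _) hV₀)
  have hgen := CommRingCat.closure_range_union_range_eq_top_of_isPushout hpush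
  have : FrobSch.IsCharP C p := FrobSch.IsCharP.of_hom πC₀ p
  refine exists_pow_eq p N (FrobSch.natCast_eq_zero_app C p _) _ _ _ ?_ ?_ ?_ hgen x
  · intro a
    have e1 : πC₀.appLE V₀ (πC₀ ⁻¹ᵁ V₀) le_rfl ≫
        Fr.appLE (πC₀ ⁻¹ᵁ V₀) (πC₀ ⁻¹ᵁ V₀) (Fr_preimage p hFr₀ V₀).ge =
        (End.asHom (End.of (FrobSch.frob C₀ p) ^ N)).appLE V₀ V₀ (frobPow_preimage p N V₀).ge ≫
          πC₀.appLE V₀ (πC₀ ⁻¹ᵁ V₀) le_rfl := by
      rw [Scheme.Hom.appLE_comp_appLE, Scheme.Hom.appLE_comp_appLE]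
      exact appLE_congr_hom hFr₀ _ _ _
    have e2 := congrArg (fun φ => φ.hom a) e1
    simp only [CommRingCat.hom_comp, RingHom.comp_apply] at e2
    rw [e2, frobPow_appLE, map_pow]
  · intro l
    have hle : πC₀ ⁻¹ᵁ V₀ ≤ πK ⁻¹ᵁ ⊤ := le_top
    have e1 : πK.appLE ⊤ (πC₀ ⁻¹ᵁ V₀) hle ≫
        Fr.appLE (πC₀ ⁻¹ᵁ V₀) (πC₀ ⁻¹ᵁ V₀) (Fr_preimage p hFr₀ V₀).ge =
          πK.appLE ⊤ (πC₀ ⁻¹ᵁ V₀) hle := by
      rw [Scheme.Hom.appLE_comp_appLE]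
      exact appLE_congr_hom hFrK _ _ _
    have e2 := congrArg (fun φ => φ.hom l) e1
    simp only [CommRingCat.hom_comp, RingHom.comp_apply] at e2
    exact e2
  · intro l
    obtain ⟨m, hm⟩ := hperf ((Scheme.ΓSpecIso (CommRingCat.of K)).hom l)
    refine ⟨(Scheme.ΓSpecIso (CommRingCat.of K)).inv m, ?_⟩
    rw [← map_pow]
    erw [hm]
    simp

include hC hFr₀ hFrK hperf in
theorem comap_le_radical_pow {X W : Scheme.{u}} (j : W ⟶ C) (c₁ : C ⟶ X) (I : X.IdealSheafData)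
    (J : W.IdealSheafData) (hsupp : I.comap (j ≫ Fr ≫ c₁) ≤ J.radical) :
    I.comap (j ≫ Fr ≫ c₁) ≤ J.radical ^ (p ^ N) := by
  have := isAffineHom_fst hC
  let ι := {U : W.affineOpens // ∃ V₀ : C₀.affineOpens, U.1 ≤ j ⁻¹ᵁ (πC₀ ⁻¹ᵁ V₀.1)}
  refine Scheme.IdealSheafData.le_of_iSup_eq_top (ι := ι) (fun i => i.1) ?_ ?_
  · rw [eq_top_iff]
    rintro x -
    obtain ⟨_, ⟨V₀, hV₀, rfl⟩, hxV₀, -⟩ := C₀.isBasis_affineOpens.exists_subset_of_mem_open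
      (Set.mem_univ (πC₀ (j x))) isOpen_univ
    obtain ⟨_, ⟨U, hU, rfl⟩, hxU, hUle⟩ := W.isBasis_affineOpens.exists_subset_of_mem_open
      (show x ∈ ((j ⁻¹ᵁ (πC₀ ⁻¹ᵁ V₀) : W.Opens) : Set W) from hxV₀) (j ⁻¹ᵁ (πC₀ ⁻¹ᵁ V₀)).isOpen
    exact TopologicalSpace.Opens.mem_iSup.mpr ⟨⟨⟨U, hU⟩, ⟨V₀, hV₀⟩, hUle⟩, hxU⟩
  · rintro ⟨U, V₀, hUV⟩
    let W₀ : C.affineOpens := ⟨πC₀ ⁻¹ᵁ V₀.1, V₀.2.preimage πC₀⟩
    have hFW : W₀.1 ≤ Fr ⁻¹ᵁ W₀.1 := (Fr_preimage p hFr₀ V₀.1).ge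
    have h1 : (I.comap (j ≫ Fr ≫ c₁)).ideal U =
        (((I.comap c₁).ideal W₀).map (Fr.appLE W₀.1 W₀.1 hFW).hom).map
          (j.appLE W₀.1 U.1 hUV).hom := by
      rw [Scheme.IdealSheafData.comap_comp, Scheme.IdealSheafData.comap_comp,
        ideal_comap_eq_map j _ U W₀ hUV, ideal_comap_eq_map Fr _ W₀ W₀ hFW]
    change (I.comap (j ≫ Fr ≫ c₁)).ideal U ≤ (J.ideal U).radical ^ (p ^ N)
    have hsub : (I.comap (j ≫ Fr ≫ c₁)).ideal U ≤ (J.ideal U).radical := hsupp U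
    rw [h1] at hsub ⊢
    rw [Ideal.map_le_iff_le_comap, Ideal.map_le_iff_le_comap]
    intro m hm
    obtain ⟨y, hy⟩ := exists_pow_eq_Fr p hC hFr₀ hFrK hperf V₀.1 V₀.2 m
    rw [Ideal.mem_comap, Ideal.mem_comap]
    have hmem := hsub (Ideal.mem_map_of_mem _ (Ideal.mem_map_of_mem _ hm))
    erw [hy] at hmem ⊢
    rw [map_pow] at hmem ⊢
    exact Ideal.pow_mem_pow (Ideal.mem_radical_of_pow_mem hmem) _

end core


theorem le_radical_of_support_le {W : Scheme.{u}} {L J : W.IdealSheafData}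
    (h : J.support ≤ L.support) : L ≤ J.radical := by
  rw [← Scheme.IdealSheafData.vanishingIdeal_support]
  exact Scheme.IdealSheafData.le_support_iff_le_vanishingIdeal.mp h

/-- The general contraction statement: for any `j : W ⟶ C`. -/
theorem contracting {C C₀ : Scheme.{u}} (p : ℕ) [Fact p.Prime]
    {k₀ : Type u} [Field k₀] {K : Type u} [Field K] [Algebra k₀ K]
    {f₀ : C₀ ⟶ Spec (CommRingCat.of k₀)} [FrobSch.IsCharP C₀ p]
    {πC₀ : C ⟶ C₀} {πK : C ⟶ Spec (CommRingCat.of K)}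
    (hC : IsPullback πC₀ πK f₀ (Spec.map (CommRingCat.ofHom (algebraMap k₀ K))))
    {N : ℕ} {Fr : C ⟶ C}
    (hFr₀ : Fr ≫ πC₀ = πC₀ ≫ End.asHom (End.of (FrobSch.frob C₀ p) ^ N))
    (hFrK : Fr ≫ πK = πK)
    (hperf : ∀ l : K, ∃ m : K, m ^ (p ^ N) = l)
    {X W : Scheme.{u}} (j : W ⟶ C) (c₁ c₂ : C ⟶ X) (I : X.IdealSheafData) (d : ℕ)
    (hd : (I.comap (j ≫ c₂)).radical ^ d ≤ I.comap (j ≫ c₂)) (hn : d < p ^ N)
    (hsupp : (I.comap (j ≫ c₂)).support ≤ (I.comap (j ≫ Fr ≫ c₁)).support) :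
    I.comap (j ≫ Fr ≫ c₁) ≤ I.comap (j ≫ c₂) ∧
      I.comap (j ≫ Fr ≫ c₁) ^ d ≤ I.comap (j ≫ c₂) ^ (d + 1) :=
  contracting_of_le_radical_pow _ _ (p ^ N) d
    (comap_le_radical_pow p hC hFr₀ hFrK hperf j c₁ I _ (le_radical_of_support_le hsupp)) hd hn

end Groth.Agent.R2.H90.FrobContract
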