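import Mathlib
import Groth.Agent.R2.H90FrobContract

set_option autoImplicit false
universe u

/-!
# Helpers for the local form of the contraction statement (S18397)
-/

namespace Groth.Agent.R2.H90.FrobContractLoc

open AlgebraicGeometry CategoryTheory CategoryTheory.Limits

theorem isClosed_of_subset_of_isDiscrete {X : Type*} [TopologicalSpace X] {F T : Set X}
    (hF : IsClosed F) (hd : IsDiscrete F) (hT : T ⊆ F) : IsClosed T := by
  have := hd.to_subtype
  have h1 : IsClosed ((Subtype.val : F → X) '' ((Subtype.val : F → X) ⁻¹' T)) :=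
    hF.isClosedEmbedding_subtypeVal.isClosedMap _ (isClosed_discrete _)
  rwa [Subtype.image_preimage_coe, Set.inter_eq_right.mpr hT] at h1

theorem comap_pow_iso {R S : Type*} [CommRing R] [CommRing S] (e : R ≃+* S) (I : Ideal S) (n : ℕ) :
    (I ^ n).comap (e : R →+* S) = (I.comap (e : R →+* S)) ^ n := by
  have h : ∀ J : Ideal S, J.comap (e : R →+* S) = J.map (e.symm : S →+* R) := fun J =>
    (Ideal.map_symm (I := J) (f := e)).symm
  rw [h, h, Ideal.map_pow]

theorem comap_radical_of_isOpenImmersion {W C : Scheme.{u}} (J : C.IdealSheafData) (f : W ⟶ C)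
    [IsOpenImmersion f] : (J.comap f).radical = J.radical.comap f := by
  ext U : 2
  rw [Scheme.IdealSheafData.radical_ideal, Scheme.IdealSheafData.ideal_comap_of_isOpenImmersion,
    Scheme.IdealSheafData.ideal_comap_of_isOpenImmersion, Scheme.IdealSheafData.radical_ideal,
    Ideal.comap_radical]

theorem comap_pow_of_isOpenImmersion {W C : Scheme.{u}} (J : C.IdealSheafData) (f : W ⟶ C)
    [IsOpenImmersion f] (n : ℕ) : (J ^ n).comap f = (J.comap f) ^ n := by
  ext U : 2
  change ((J ^ n).comap f).ideal U = ((J.comap f).ideal U) ^ n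
  rw [Scheme.IdealSheafData.ideal_comap_of_isOpenImmersion,
    Scheme.IdealSheafData.ideal_comap_of_isOpenImmersion]
  exact comap_pow_iso (f.appIso U).symm.commRingCatIsoToRingEquiv _ n

end Groth.Agent.R2.H90.FrobContractLoc
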