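import Mathlib
import Groth.Prelude.Def_AlgGrp
import Groth.Agent.Lib.Helper11KerPair

/-!
# Properties of a homomorphism of group schemes versus properties of its kernel (helper90)

Let `q : G ⟶ Q` be a homomorphism of group schemes over `S` with kernel `i : N ⟶ G`.
* `prop_of_kernel`: a property stable under base change passes from `q` to `N ⟶ S`
  (`N ⟶ S` is the base change of `q` along the unit section).
* `prop_of_prop_kernel`: if `q` is an fpqc covering (surjective, flat, quasi-compact), a property
  stable under base change and satisfying fpqc descent passes from `N ⟶ S` to `q` (the kernel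
  pair of `q` is `G × N`, `Helper11KerPair.isPullback_of_isKernel`).
-/

set_option autoImplicit false
set_option linter.style.haveILetI false
universe u
open CategoryTheory CategoryTheory.Limits MonoidalCategory CartesianMonoidalCategory MonObj GrpObj
  AlgebraicGeometry

namespace Groth.Agent.R2.H90.KerDescent

variable {S : Scheme.{u}}

/-- A pullback square of `Over S` is a pullback square of schemes. -/
theorem isPullback_left {A B C D : Over S} {a : A ⟶ B} {b : A ⟶ C} {c : B ⟶ D} {d : C ⟶ D}
    (h : IsPullback a b c d) : IsPullback a.left b.left c.left d.left :=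
  h.map (Over.forget S)

theorem prop_of_kernel (P : MorphismProperty Scheme.{u}) [P.IsStableUnderBaseChange]
    {N G Q : Over S} [GrpObj Q] (i : N ⟶ G) (q : G ⟶ Q) (h : AlgGrp.IsKernel i q)
    (hq : P q.left) : P N.hom := by
  have h1 := isPullback_left h
  have h2 : P (toUnit N).left := P.of_isPullback h1 hq
  rwa [Over.toUnit_left] at h2

theorem prop_of_prop_kernel (P : MorphismProperty Scheme.{u}) [P.IsStableUnderBaseChange]
    [P.DescendsAlong (@Surjective ⊓ @Flat ⊓ @QuasiCompact)]
    {N G Q : Over S} [GrpObj G] [GrpObj Q] (i : N ⟶ G) (q : G ⟶ Q) [IsMonHom q]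
    (h : AlgGrp.IsKernel i q) [Surjective q.left] [Flat q.left] [QuasiCompact q.left]
    (hN : P N.hom) : P q.left := by
  have h1 := isPullback_left (Groth.Agent.Lib.Helper11KerPair.isPullback_of_isKernel i q h)
  have h2 : P (fst G N).left := by
    rw [Over.fst_left]
    exact P.pullback_fst _ _ hN
  exact MorphismProperty.of_isPullback_of_descendsAlong (P := P)
    (Q := (@Surjective ⊓ @Flat ⊓ @QuasiCompact)) h1
    ⟨⟨inferInstance, inferInstance⟩, inferInstance⟩ h2

/-- A morphism with a surjective section is universally injective. -/
theorem universallyInjective_of_section {X Y : Scheme.{u}} (f : X ⟶ Y) (e : Y ⟶ X)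
    (he : e ≫ f = 𝟙 Y) [Surjective e] : UniversallyInjective f := by
  rw [UniversallyInjective.iff_diagonal]
  have hc : (f ≫ e) ≫ f = 𝟙 X ≫ f := by rw [Category.assoc, he, Category.comp_id, Category.id_comp]
  have s : IsPullback (pullback.lift (f ≫ e) (𝟙 X) hc ≫ pullback.snd f f) f f (e ≫ f) := by
    rw [he, pullback.lift_snd]
    exact IsPullback.id_horiz f
  have hleft : IsPullback (pullback.lift (f ≫ e) (𝟙 X) hc) f (pullback.fst f f) e :=
    IsPullback.of_right s (pullback.lift_fst _ _ _) (IsPullback.of_hasPullback f f).flip
  have h1 : Surjective (pullback.lift (f ≫ e) (𝟙 X) hc) :=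
    MorphismProperty.of_isPullback (P := @Surjective) hleft.flip inferInstance
  have h2 : e ≫ pullback.lift (f ≫ e) (𝟙 X) hc = e ≫ pullback.diagonal f := by
    apply pullback.hom_ext
    · rw [Category.assoc, pullback.lift_fst, ← Category.assoc, he, Category.id_comp,
        Category.assoc, pullback.diagonal_fst, Category.comp_id]
    · rw [Category.assoc, pullback.lift_snd, Category.assoc, pullback.diagonal_snd]
  have h3 : Surjective (e ≫ pullback.diagonal f) := by
    rw [← h2]
    infer_instance
  exact Surjective.of_comp (f := e) (g := pullback.diagonal f)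

/-- The unit section of the kernel of a homomorphism. -/
noncomputable def kerUnit {N G Q : Over S} [GrpObj G] [GrpObj Q] (i : N ⟶ G) (q : G ⟶ Q)
    [IsMonHom q] (h : AlgGrp.IsKernel i q) : 𝟙_ (Over S) ⟶ N :=
  h.lift η[G] (𝟙 _) (by rw [IsMonHom.one_hom, Category.id_comp])

/-- A finite scheme over a field with a rational point is connected iff it is universally
injective (radicial) over the field. -/
theorem universallyInjective_iff_connectedSpace (k : Type u) [Field k]
    (N : Over (Spec (CommRingCat.of k)))
    (e : 𝟙_ (Over (Spec (CommRingCat.of k))) ⟶ N) [IsFinite N.hom] :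
    UniversallyInjective N.hom ↔ ConnectedSpace ↥N.left := by
  have he : e.left ≫ N.hom = 𝟙 _ := Over.w e
  haveI : Subsingleton ↥(Spec (CommRingCat.of k)) :=
    inferInstanceAs (Subsingleton (PrimeSpectrum k))
  haveI : Nonempty ↥(Spec (CommRingCat.of k)) :=
    inferInstanceAs (Nonempty (PrimeSpectrum k))
  let pt : ↥(Spec (CommRingCat.of k)) := Classical.arbitrary _
  haveI : Nonempty ↥N.left := ⟨e.left pt⟩
  constructor
  · intro h
    haveI : Subsingleton ↥N.left := N.hom.injective.subsingleton
    exact ConnectedSpace.mk inferInstance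
  · intro h
    have h1 : _root_.IsDiscrete (N.hom ⁻¹' {pt}) :=
      N.hom.isDiscrete_preimage_singleton _
    have h2 : (N.hom ⁻¹' {pt}) = Set.univ := by
      ext x
      simp only [Set.mem_preimage, Set.mem_singleton_iff, Set.mem_univ, iff_true]
      exact Subsingleton.elim _ _
    rw [h2, isDiscrete_univ_iff] at h1
    haveI : Subsingleton ↥N.left := by
      rw [← Set.subsingleton_univ_iff]
      exact (isPreconnected_univ (α := ↥N.left)).subsingleton
    haveI : Surjective e.left := ⟨fun x => ⟨pt, Subsingleton.elim _ _⟩⟩
    exact universallyInjective_of_section N.hom e.left he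

end Groth.Agent.R2.H90.KerDescent
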