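import Mathlib
import Groth.Prelude.Def_AlgGrp
import Groth.Agent.Lib.Helper12Kernel
import Groth.Agent.Lib.Helper12Cart
import Groth.Agent.Lib.Helper11KerPair
import Groth.Agent.Lib.Helper25SurjPts
import Groth.Agent.Lib.Helper25TakeuchiCor

/-!
# Uniqueness of fpqc quotients of group schemes; flatness of surjections of affine groups (helper90)

* `exists_desc`: a homomorphism killing the kernel of an fpqc quotient homomorphism descends.
* `nonempty_iso`: two fpqc quotient homomorphisms `G ⟶ Q₁`, `G ⟶ Q₂` with the same kernel have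
  isomorphic targets (as group schemes).
* `flat_of_surjective`: over a field, a surjective homomorphism of affine group schemes onto a
  reduced one is flat (Takeuchi).
-/

set_option autoImplicit false
set_option linter.style.haveILetI false
set_option linter.unusedSectionVars false
universe u

open CategoryTheory Limits MonoidalCategory CartesianMonoidalCategory MonObj GrpObj
  AlgebraicGeometry

namespace Groth.Agent.R2.H90.QuotUnique

open Groth.Agent.Lib.Helper12 Groth.Agent.Lib.Helper12.Kernel
open Groth.Agent.Lib.Helper25 Groth.Agent.Lib.Helper25.DensePts Groth.Agent.Lib.Helper25.SurjPts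

section Desc

variable {S : Scheme.{u}}

/-- descent of a homomorphism killing the kernel along an fpqc quotient homomorphism. -/
theorem exists_desc {N G Q K : Over S} [GrpObj G] [GrpObj Q] [GrpObj K] (i : N ⟶ G) (q : G ⟶ Q)
    [IsMonHom q] (hq : AlgGrp.IsKernel i q) [Flat q.left] [Surjective q.left] [QuasiCompact q.left]
    (f : G ⟶ K) [IsMonHom f] (hf : i ≫ f = toUnit N ≫ η[K]) :
    ∃ g : Q ⟶ K, q ≫ g = f ∧ IsMonHom g := by
  haveI : Epi q := epi_of_flat_of_surjective_left q
  haveI : Epi (q ⊗ₘ q) := by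
    haveI := epi_whiskerRight G q
    haveI := epi_whiskerLeft Q q
    rw [MonoidalCategory.tensorHom_def]
    infer_instance
  obtain ⟨g, hg, -⟩ := existsUnique_desc_of_desc i q (fun g hg =>
    exists_desc_of_isPullback q (isPullback_act_of_isKernel i q hq) g hg) f hf
  exact ⟨g, hg⟩

/-- two fpqc quotient homomorphisms with the same kernel have isomorphic targets. -/
theorem nonempty_iso {N G Q₁ Q₂ : Over S} [GrpObj G] [GrpObj Q₁] [GrpObj Q₂] (i : N ⟶ G)
    (q₁ : G ⟶ Q₁) (q₂ : G ⟶ Q₂) [IsMonHom q₁] [IsMonHom q₂]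
    (h₁ : AlgGrp.IsKernel i q₁) (h₂ : AlgGrp.IsKernel i q₂)
    [Flat q₁.left] [Surjective q₁.left] [QuasiCompact q₁.left]
    [Flat q₂.left] [Surjective q₂.left] [QuasiCompact q₂.left] :
    Nonempty (Grp.mk Q₁ ≅ Grp.mk Q₂) := by
  obtain ⟨a, ha, hma⟩ := exists_desc i q₁ h₁ q₂ h₂.w
  obtain ⟨b, hb, hmb⟩ := exists_desc i q₂ h₂ q₁ h₁.w
  haveI : Epi q₁ := epi_of_flat_of_surjective_left q₁
  haveI : Epi q₂ := epi_of_flat_of_surjective_left q₂
  have e1 : a ≫ b = 𝟙 Q₁ := by
    rw [← cancel_epi q₁, ← Category.assoc, ha, hb, Category.comp_id]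
  have e2 : b ≫ a = 𝟙 Q₂ := by
    rw [← cancel_epi q₂, ← Category.assoc, hb, ha, Category.comp_id]
  exact ⟨Grp.mkIso ⟨a, b, e1, e2⟩⟩

end Desc

section Flat

variable (k : Type u) [Field k] (G G' : Over (Spec (CommRingCat.of k))) [GrpObj G] [GrpObj G']
  [IsAffine G.left] [IsAffine G'.left] (h : G ⟶ G') [IsMonHom h]

attribute [local instance] instOver instAlgΓ

omit [GrpObj G] [GrpObj G'] [IsMonHom h] in
lemma ψΓ_eq : (ψΓ k G G' h).unop.hom.toRingHom = h.left.appTop.hom := by
  have h1 := spec_map_ψΓ k G G' h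
  have h2 := Scheme.isoSpec_hom_naturality h.left
  have h3 : Spec.map (CommRingCat.ofHom (ψΓ k G G' h).unop.hom.toRingHom) =
      Spec.map h.left.appTop := by
    rw [h1, ← h2, Iso.inv_hom_id_assoc]
  have h4 := Spec.map_injective h3
  exact congrArg CommRingCat.Hom.hom h4

omit [GrpObj G] [GrpObj G'] [IsMonHom h] in
lemma appTop_injective [Surjective h.left] [IsReduced G'.left] :
    Function.Injective h.left.appTop.hom := by
  rw [injective_iff_map_eq_zero]
  intro a ha
  have h1 : h.left ⁻¹ᵁ G'.left.basicOpen a = ⊥ := by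
    rw [Scheme.preimage_basicOpen]
    have : (h.left.app ⊤) a = 0 := ha
    rw [this, Scheme.basicOpen_zero]
  have h2 : G'.left.basicOpen a = ⊥ := by
    ext x
    constructor
    · intro hx
      obtain ⟨y, rfl⟩ := h.left.surjective x
      have : y ∈ h.left ⁻¹ᵁ G'.left.basicOpen a := hx
      rw [h1] at this
      exact this.elim
    · intro hx
      exact hx.elim
  exact (basicOpen_eq_bot_iff a).mp h2

theorem flat_of_surjective [Surjective h.left] [IsReduced G'.left] : Flat h.left := by
  letI := instHopfΓ k G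
  letI := instHopfΓ k G'
  have hinj : Function.Injective (φΓ k G G' h) := by
    have := appTop_injective k G G' h
    rw [← ψΓ_eq] at this
    exact this
  have hff := faithfullyFlat_of_injective (φΓ k G G' h) hinj
  have hfl : (h.left.appTop.hom).Flat := by
    rw [← ψΓ_eq]
    exact hff.flat
  have h2 : Flat (Spec.map h.left.appTop) := by
    rw [HasRingHomProperty.Spec_iff (P := @Flat)]
    exact hfl
  have h3 : h.left = G.left.isoSpec.hom ≫ Spec.map h.left.appTop ≫ G'.left.isoSpec.inv := by
    rw [← Category.assoc, Scheme.isoSpec_hom_naturality, Category.assoc, Iso.hom_inv_id,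
      Category.comp_id]
  rw [h3]
  infer_instance

end Flat


end Groth.Agent.R2.H90.QuotUnique
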