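import Mathlib
import Groth.Prelude.Def_Red2
import Groth.Prelude.Def_AlgGrp
import Groth.Agent.R2.H90GaGmSub
import Groth.Agent.R2.H90QuotUnique
import Groth.Agent.R2.H90KerDescent

/-!
# Isogenies out of `𝔾_a` over a field (helper90)

* `main_Ga'`: variant of `main_Ga` for a finite closed subscheme of `𝔾_a` stable under
  multiplication (no group structure on the source needed).
* `iso_Ga_of_isogeny`: a finite surjective homomorphism `𝔾_a ⟶ H` onto a reduced affine group
  scheme over a field forces `H ≅ 𝔾_a`.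
-/

set_option autoImplicit false
set_option linter.style.haveILetI false
set_option linter.unusedSectionVars false
universe u

open CategoryTheory Limits MonoidalCategory CartesianMonoidalCategory MonObj GrpObj
  AlgebraicGeometry Polynomial TensorProduct

namespace Groth.Agent.R2.H90.GaGmSub

open Groth.Agent.Lib.Helper27.GaGm Groth.Agent.R2.H90.AddPoly Groth.Agent.R2.H55.Kummer

attribute [local instance] algΓ

variable {K : Type u} [Field K]

section GaGen

variable {H : Over (Spec (CommRingCat.of K))}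
  (i : H ⟶ Red.Ga (Spec (CommRingCat.of K))) [Mono i] [IsFinite H.hom]
  (hmul : ∀ (T : Over (Spec (CommRingCat.of K))) (p₁ p₂ : T ⟶ H),
    ∃ m : T ⟶ H, m ≫ i = (p₁ ≫ i) * (p₂ ≫ i))

include hmul in
omit [Mono i] [IsFinite H.hom] in
lemma ga_aeval_of_pts' {R : Type u} [CommRing R] [Algebra K R] (p₁ p₂ : SpecO (K := K) R ⟶ H)
    (r₁ r₂ : R) (h₁ : Red.gaFn (p₁ ≫ i) = gInv R r₁) (h₂ : Red.gaFn (p₂ ≫ i) = gInv R r₂) :
    aeval (r₁ + r₂) (minpoly K (Red.gaFn i)) = 0 := by
  obtain ⟨m, hm⟩ := hmul _ p₁ p₂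
  have e4 : Red.gaFn (m ≫ i) = gInv R (r₁ + r₂) := by
    rw [hm, gaFn_mul, h₁, h₂, map_add]
  have h := aeval_pt gaCoord i m
  rw [gaCoord_c, gaCoord_c, e4, aeval_algHom_apply] at h
  have h' := congrArg (gHom R) h
  rw [gHom_gInv, map_zero] at h'
  exact h'

include hmul in
lemma ga_hyp' :
    aeval (Red.gaFn i ⊗ₜ[K] (1 : Γ(H.left, ⊤)) + (1 : Γ(H.left, ⊤)) ⊗ₜ[K] Red.gaFn i)
      (minpoly K (Red.gaFn i)) = 0 := by
  obtain ⟨p₁, p₂, h₁, h₂⟩ := exists_tensor_pts H
  refine ga_aeval_of_pts' i hmul p₁ p₂ _ _ ?_ ?_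
  · rw [gaFn_comp, h₁]
  · rw [gaFn_comp, h₂]

include hmul in
theorem main_Ga' [Nontrivial Γ(H.left, ⊤)] :
    ∃ φ : Red.Ga (Spec (CommRingCat.of K)) ⟶ Red.Ga (Spec (CommRingCat.of K)),
      IsMonHom φ ∧ AlgGrp.IsKernel i φ ∧ Flat φ.left ∧ Surjective φ.left := by
  have hm : (minpoly K (Red.gaFn i)).Monic := minpoly.monic (pbOf gaCoord i).isIntegral_gen
  have hd : 0 < (minpoly K (Red.gaFn i)).natDegree := by
    have h1 := (pbOf gaCoord i).natDegree_minpoly
    have h2 := (pbOf gaCoord i).dim_pos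
    rw [pbOf_gen, gaCoord_c] at h1
    omega
  have hadd := @aeval_add _ _ _ _ _ (pbOf gaCoord i) _ (ga_hyp' i hmul)
  refine ⟨φGa (minpoly K (Red.gaFn i)), ?_, ?_, flat_φGa _ hd, surj_φGa _ hm hd⟩
  · apply Groth.Agent.R2.H71.AS.isMonHom_of_points
    intro T x y
    apply gaFn_injective
    rw [gaFn_φGa, gaFn_mul, gaFn_mul, gaFn_φGa, gaFn_φGa]
    exact hadd _ _
  · apply isKernel_of_coord gaCoord i
    intro X x
    rw [gaCoord_c, gaCoord_c]
    constructor
    · intro h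
      rw [← gaFn_φGa, h, gaFn_one]
    · intro h
      apply gaFn_injective
      rw [gaFn_φGa, h, gaFn_one]

end GaGen


section Isog

open Groth.Agent.R2.H90.QuotUnique Groth.Agent.R2.H90.KerDescent

theorem iso_Ga_of_isogeny (H : Over (Spec (CommRingCat.of K))) [GrpObj H] [IsAffine H.left]
    [IsReduced H.left]
    (f : Red.Ga (Spec (CommRingCat.of K)) ⟶ H) [IsMonHom f] [IsFinite f.left] [Surjective f.left] :
    Nonempty (Grp.mk H ≅ Grp.mk (Red.Ga (Spec (CommRingCat.of K)))) := by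
  haveI : IsAffine (Red.Ga (Spec (CommRingCat.of K))).left := by
    haveI : IsIso (x₀ K) := ⟨y₀ K, x₀_y₀ K, y₀_x₀ K⟩
    haveI : IsIso (x₀ K).left := (Over.forget _).map_isIso (x₀ K)
    exact IsAffine.of_isIso (inv (x₀ K).left)
  haveI : Flat f.left := flat_of_surjective K _ H f
  -- the kernel
  let N := pullback f η[H]
  let i : N ⟶ Red.Ga (Spec (CommRingCat.of K)) := pullback.fst f η[H]
  have hker : AlgGrp.IsKernel i f := by
    unfold AlgGrp.IsKernel
    have h := IsPullback.of_hasPullback f η[H]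
    rwa [toUnit_unique (pullback.snd f η[H]) (toUnit N)] at h
  haveI : Mono i := ⟨fun a b hab => hker.hom_ext hab (toUnit_unique _ _)⟩
  haveI : IsFinite N.hom := prop_of_kernel @IsFinite i f hker inferInstance
  haveI : Nontrivial Γ(N.left, ⊤) := by
    have h1 : Nontrivial Γ((𝟙_ (Over (Spec (CommRingCat.of K)))).left, ⊤) :=
      RingHom.domain_nontrivial (Scheme.ΓSpecIso (CommRingCat.of K)).hom.hom
    exact RingHom.domain_nontrivial (kerUnit i f hker).left.appTop.hom
  have hone : ∀ {T : Over (Spec (CommRingCat.of K))} (p : T ⟶ N), (p ≫ i) ≫ f = 1 := by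
    intro T p
    rw [Category.assoc, hker.w, ← Category.assoc, toUnit_unique (p ≫ toUnit N) (toUnit T),
      Hom.one_def]
  have hmul : ∀ (T : Over (Spec (CommRingCat.of K))) (p₁ p₂ : T ⟶ N),
      ∃ m : T ⟶ N, m ≫ i = (p₁ ≫ i) * (p₂ ≫ i) := by
    intro T p₁ p₂
    refine ⟨hker.lift ((p₁ ≫ i) * (p₂ ≫ i)) (toUnit T) ?_, hker.lift_fst _ _ _⟩
    rw [MonObj.mul_comp _ _ f, hone, hone, _root_.mul_one, Hom.one_def]
  obtain ⟨φ, hφmon, hφker, hφflat, hφsurj⟩ := main_Ga' i hmul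
  exact nonempty_iso i f φ hker hφker

end Isog

end Groth.Agent.R2.H90.GaGmSub
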