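import Mathlib
import Groth.Prelude.Def_W4bk4git07Quot

set_option autoImplicit false
universe u

/-!
# A geometric quotient is universally open (helper90, for S18504)
-/

namespace Groth.Agent.R2.H90.GeomQuotOpen

open AlgebraicGeometry CategoryTheory CategoryTheory.Limits MonoidalCategory CartesianMonoidalCategory

section core

variable {P X Y : Scheme.{u}} (σ p₂ : P ⟶ X) (φ : X ⟶ Y) (hinv : σ ≫ φ = p₂ ≫ φ)

/-- pair-surjectivity after base change -/
theorem exists_point_of_orbit_surjective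
    (horb : Function.Surjective (pullback.lift σ p₂ hinv : P ⟶ pullback φ φ))
    {X' Y' : Scheme.{u}} {i₁ : X' ⟶ X} {i₂ : Y' ⟶ Y} {f' : X' ⟶ Y'} (hpb : IsPullback f' i₁ i₂ φ)
    (σ' : pullback p₂ i₁ ⟶ X') (hσ'1 : σ' ≫ i₁ = pullback.fst p₂ i₁ ≫ σ)
    (hσ'2 : σ' ≫ f' = pullback.snd p₂ i₁ ≫ f')
    (u w : X') (huw : f' u = f' w) :
    ∃ π : ↥(pullback p₂ i₁), σ' π = u ∧ pullback.snd p₂ i₁ π = w := by
  obtain ⟨z, hz1, hz2⟩ := Scheme.Pullback.exists_preimage_pullback (f := f') (g := f') u w huw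
  let Ψ : P ⟶ pullback φ φ := pullback.lift σ p₂ hinv
  let θ : pullback f' f' ⟶ pullback φ φ :=
    pullback.map f' f' φ φ i₁ i₁ i₂ hpb.w hpb.w
  obtain ⟨π₀, hπ₀⟩ := horb (θ z)
  obtain ⟨ω, hω1, hω2⟩ := Scheme.Pullback.exists_preimage_pullback (f := Ψ) (g := θ) π₀ z hπ₀
  have hcompat : pullback.fst Ψ θ ≫ p₂ = (pullback.snd Ψ θ ≫ pullback.snd f' f') ≫ i₁ := by
    have h1 : p₂ = Ψ ≫ pullback.snd φ φ := (pullback.lift_snd _ _ _).symm
    rw [h1, ← Category.assoc, pullback.condition, Category.assoc, Category.assoc]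
    congr 1
    exact pullback.lift_snd _ _ _
  let m : pullback Ψ θ ⟶ pullback p₂ i₁ :=
    pullback.lift (pullback.fst Ψ θ) (pullback.snd Ψ θ ≫ pullback.snd f' f') hcompat
  have hm1 : m ≫ pullback.fst p₂ i₁ = pullback.fst Ψ θ := pullback.lift_fst _ _ _
  have hm2 : m ≫ pullback.snd p₂ i₁ = pullback.snd Ψ θ ≫ pullback.snd f' f' :=
    pullback.lift_snd _ _ _
  have hmσ : m ≫ σ' = pullback.snd Ψ θ ≫ pullback.fst f' f' := by
    apply hpb.hom_ext
    · rw [Category.assoc, hσ'2, ← Category.assoc, hm2, Category.assoc, Category.assoc,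
        pullback.condition]
    · rw [Category.assoc, hσ'1, ← Category.assoc, hm1, Category.assoc]
      have h1 : σ = Ψ ≫ pullback.fst φ φ := (pullback.lift_fst _ _ _).symm
      rw [h1, ← Category.assoc, pullback.condition, Category.assoc]
      congr 1
      exact pullback.lift_fst _ _ _
  refine ⟨m ω, ?_, ?_⟩
  · rw [← Scheme.Hom.comp_apply, hmσ, Scheme.Hom.comp_apply, hω2, hz1]
  · rw [← Scheme.Hom.comp_apply, hm2, Scheme.Hom.comp_apply, hω2, hz2]

theorem universallyOpen_of_orbit_surjective [UniversallyOpen p₂]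
    (horb : Function.Surjective (pullback.lift σ p₂ hinv : P ⟶ pullback φ φ))
    (hsub : GIT.IsUnivSubmersive φ) : UniversallyOpen φ := by
  rw [UniversallyOpen.eq]
  intro X' Y' i₁ i₂ f' hpb
  have hq : Topology.IsQuotientMap f' := hsub i₁ i₂ f' hpb
  have hw : (pullback.snd p₂ i₁ ≫ f') ≫ i₂ = (pullback.fst p₂ i₁ ≫ σ) ≫ φ := by
    rw [Category.assoc, hpb.w, ← Category.assoc, ← pullback.condition, Category.assoc,
      Category.assoc, hinv]
  let σ' : pullback p₂ i₁ ⟶ X' := hpb.lift (pullback.snd p₂ i₁ ≫ f') (pullback.fst p₂ i₁ ≫ σ) hw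
  have hσ'1 : σ' ≫ i₁ = pullback.fst p₂ i₁ ≫ σ := hpb.lift_snd _ _ _
  have hσ'2 : σ' ≫ f' = pullback.snd p₂ i₁ ≫ f' := hpb.lift_fst _ _ _
  intro U' hU'
  rw [← hq.isOpen_preimage]
  have hset : f' ⁻¹' (f' '' U') = pullback.snd p₂ i₁ '' (σ' ⁻¹' U') := by
    ext w
    constructor
    · rintro ⟨u, hu, huw⟩
      obtain ⟨π, hπ1, hπ2⟩ := exists_point_of_orbit_surjective σ p₂ φ hinv horb hpb σ' hσ'1 hσ'2
        u w huw
      exact ⟨π, by rw [Set.mem_preimage, hπ1]; exact hu, hπ2⟩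
    · rintro ⟨π, hπ, rfl⟩
      refine ⟨σ' π, hπ, ?_⟩
      rw [← Scheme.Hom.comp_apply, ← Scheme.Hom.comp_apply, hσ'2]
  rw [hset]
  exact (pullback.snd p₂ i₁).isOpenMap _ (hU'.preimage σ'.continuous)

end core

section git

open GIT

theorem universallyOpen_of_isGeomQuot (k : Type u) [Field k]
    (G X Y : Over (Spec (CommRingCat.of k))) [GrpObj G] [LocallyOfFiniteType G.hom]
    (a : AlgGrp.Action G X) (φ : X ⟶ Y) (h : GIT.IsGeomQuot a φ) :
    UniversallyOpen φ.left := by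
  have : UniversallyOpen (snd G X).left := by
    change UniversallyOpen (pullback.snd G.hom X.hom)
    infer_instance
  exact universallyOpen_of_orbit_surjective a.act.left (snd G X).left φ.left h.inv.left h.orbit
    h.subm

end git

end Groth.Agent.R2.H90.GeomQuotOpen
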