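import Groth.Agent.R2.H90HopfEtale
import Groth.Agent.Lib.Helper25DensePts
import Groth.Agent.R2.H24UnitSec
import Mathlib

set_option autoImplicit false
set_option linter.style.haveILetI false
universe u

open CategoryTheory CategoryTheory.Limits MonoidalCategory CartesianMonoidalCategory MonObj GrpObj
  AlgebraicGeometry

namespace Groth.Agent.R2.H90.GrpEtale

open Groth.Agent.Lib.Helper25.DensePts

section Field

variable (k : Type u) [Field k] (G : Over (Spec (CommRingCat.of k))) [GrpObj G] [IsFinite G.hom]

theorem etale_of_field (h : ∀ x, (G.hom.finrank x : k) ≠ 0) : Etale G.hom := by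
  haveI : IsAffine G.left := isAffine_of_isAffineHom G.hom
  letI := instHopfΓ k G
  have hom : G.hom = G.left.isoSpec.hom ≫
      Spec.map (CommRingCat.ofHom (algebraMap k Γ(G.left, ⊤))) := hom_eq k G
  have hfin : IsFinite (Spec.map (CommRingCat.ofHom (algebraMap k Γ(G.left, ⊤)))) := by
    have : Spec.map (CommRingCat.ofHom (algebraMap k Γ(G.left, ⊤))) =
        G.left.isoSpec.inv ≫ G.hom := by rw [hom, Iso.inv_hom_id_assoc]
    rw [this]; infer_instance
  have hmf : Module.Finite k Γ(G.left, ⊤) := by
    rw [IsFinite.SpecMap_iff] at hfin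
    exact RingHom.finite_algebraMap.mp hfin
  have hflat : Flat (Spec.map (CommRingCat.ofHom (algebraMap k Γ(G.left, ⊤)))) := by
    rw [Flat.SpecMap_iff]
    exact RingHom.flat_algebraMap_iff.mpr inferInstance
  have hrank : ∀ x, G.hom.finrank x = Module.finrank k Γ(G.left, ⊤) := by
    intro x
    rw [hom, Scheme.Hom.finrank_comp_left_of_isIso]
    have h1 := Scheme.Hom.finrank_SpecMap_algebraMap k Γ(G.left, ⊤) x
    rw [Module.rankAtStalk_eq_finrank_of_free] at h1
    exact h1
  have hx : Nonempty (Spec (CommRingCat.of k)) := inferInstance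
  obtain ⟨x⟩ := hx
  have hA : Algebra.Etale k Γ(G.left, ⊤) :=
    Groth.Agent.R2.H90.HopfEtale.etale_of_finrank_ne_zero (by rw [← hrank x]; exact h x)
  have : Etale (Spec.map (CommRingCat.ofHom (algebraMap k Γ(G.left, ⊤)))) := by
    rw [HasRingHomProperty.Spec_iff (P := @Etale)]
    exact RingHom.etale_algebraMap.mpr hA
  rw [hom]
  infer_instance

end Field

theorem etale_of_fibres {S : Scheme.{u}} (G : Over S) [GrpObj G] [Flat G.hom]
    [LocallyOfFinitePresentation G.hom]
    (hfin : ∀ s, IsFinite (G.hom.fiberToSpecResidueField s))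
    (h : ∀ (s : S) (x : ↥(Spec (S.residueField s))),
      ((G.hom.fiberToSpecResidueField s).finrank x : S.residueField s) ≠ 0) :
    Etale G.hom := by
  have hfib : ∀ s, Etale (G.hom.fiberToSpecResidueField s) := by
    intro s
    haveI : IsFinite (Red.bc (S.fromSpecResidueField s) G).hom := hfin s
    exact etale_of_field (S.residueField s) (Red.bc (S.fromSpecResidueField s) G) (h s)
  haveI : LocallyOfFiniteType ((⊤ : G.left.Opens).ι ≫ G.hom) := inferInstance
  have hun : FormallyUnramified ((⊤ : G.left.Opens).ι ≫ G.hom) :=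
    Groth.Agent.R2.H24.UnitSec.formallyUnramified_of_fibres G.hom ⊤
      (fun s => by haveI := hfib s; infer_instance)
  haveI : FormallyUnramified G.hom := by
    have h1 : FormallyUnramified (G.left.topIso.inv ≫ (⊤ : G.left.Opens).ι ≫ G.hom) :=
      MorphismProperty.comp_mem _ _ _ (inferInstance : FormallyUnramified G.left.topIso.inv) hun
    rwa [Scheme.toIso_inv_ι_assoc] at h1
  exact Etale.of_formallyUnramified_of_flat G.hom

end Groth.Agent.R2.H90.GrpEtale
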