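import Mathlib
import Groth.Prelude.Def_Red

/-!
# Affine group schemes over an affine base and Hopf algebras: power maps (helper90)

Glue between `GrpObj` in `Over (Spec R)` and the Hopf algebra on global sections:
* `unopHom`: for a monoid object `X` of `(CommAlgCat R)ᵒᵖ`, `Hom(Y, X)` is the convolution monoid
  `WithConv (X.unop →ₐ[R] Y.unop)`; `isCocomm_of_hom_comm`.
* `ffHom`: a fully faithful oplax monoidal functor is multiplicative on `Hom(Y, X)` for the
  pulled back monoid structure.
* `XΓ G`, `isoΓ G`, `hom_eq`, `id_pow_eq_one_of_convPow`: if the `n`-th convolution power of the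
  identity of the coordinate ring is trivial then so is the `n`-th power map of `G`; `isCocomm`.
* `finite`, `flat`, `finitePresentation`, `projective`, `rankAtStalk_eq`: module-theoretic
  properties of the coordinate ring of a finite flat lfp group scheme.
* `hom_ext_of_openCover`, `id_pow_eq_one_of_openCover`: reduction to an open cover of the base.
-/

set_option autoImplicit false
set_option linter.style.haveILetI false
universe u v w

open CategoryTheory CategoryTheory.Limits MonoidalCategory CartesianMonoidalCategory MonObj GrpObj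
  AlgebraicGeometry Opposite TensorProduct

namespace Groth.Agent.R2.H90.GrpHopf

section Alg

variable {R : Type u} [CommRing R]

/-- For a monoid object `X` of `(CommAlgCat R)ᵒᵖ`, the monoid `Hom(Y, X)` is the convolution
monoid of algebra maps `X.unop → Y.unop`. -/
noncomputable def unopHom (X Y : (CommAlgCat.{u} R)ᵒᵖ) [MonObj X] :
    (Y ⟶ X) →* WithConv (X.unop →ₐ[R] Y.unop) where
  toFun f := WithConv.toConv f.unop.hom
  map_one' := by
    apply WithConv.ofConv_injective
    rfl
  map_mul' f g := by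
    apply WithConv.ofConv_injective
    apply AlgHom.ext
    intro a
    change _ = (WithConv.toConv f.unop.hom * WithConv.toConv g.unop.hom) a
    rw [AlgHom.convMul_apply]
    rfl

theorem unopHom_injective (X Y : (CommAlgCat.{u} R)ᵒᵖ) [MonObj X] :
    Function.Injective (unopHom X Y) := by
  intro f g h
  have h1 : f.unop.hom = g.unop.hom := congrArg WithConv.ofConv h
  exact Quiver.Hom.unop_inj (CommAlgCat.hom_ext h1)

theorem isCocomm_of_hom_comm (X : (CommAlgCat.{u} R)ᵒᵖ) [MonObj X]
    (h : ∀ (Y : (CommAlgCat.{u} R)ᵒᵖ) (f₁ f₂ : Y ⟶ X), f₁ * f₂ = f₂ * f₁) :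
    Coalgebra.IsCocomm R X.unop := by
  constructor
  have h1 := h (op (CommAlgCat.of R (X.unop ⊗[R] X.unop)))
    (CommAlgCat.ofHom (Algebra.TensorProduct.includeLeft :
      X.unop →ₐ[R] X.unop ⊗[R] X.unop)).op
    (CommAlgCat.ofHom (Algebra.TensorProduct.includeRight :
      X.unop →ₐ[R] X.unop ⊗[R] X.unop)).op
  have h2 := congrArg (unopHom X _) h1
  rw [(unopHom X _).map_mul, (unopHom X _).map_mul] at h2
  apply LinearMap.ext
  intro a
  have h3 : (WithConv.toConv (Algebra.TensorProduct.includeLeft :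
      X.unop →ₐ[R] X.unop ⊗[R] X.unop) * WithConv.toConv (Algebra.TensorProduct.includeRight :
      X.unop →ₐ[R] X.unop ⊗[R] X.unop)) a =
      (WithConv.toConv (Algebra.TensorProduct.includeRight :
      X.unop →ₐ[R] X.unop ⊗[R] X.unop) * WithConv.toConv (Algebra.TensorProduct.includeLeft :
      X.unop →ₐ[R] X.unop ⊗[R] X.unop)) a := congrArg (fun w => w.ofConv a) h2
  rw [AlgHom.convMul_apply, AlgHom.convMul_apply] at h3
  have e1 : ∀ z : X.unop ⊗[R] X.unop, (Algebra.TensorProduct.lift
      (Algebra.TensorProduct.includeLeft : X.unop →ₐ[R] X.unop ⊗[R] X.unop)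
      (Algebra.TensorProduct.includeRight : X.unop →ₐ[R] X.unop ⊗[R] X.unop)
      (fun _ _ => Commute.all _ _)) z = z := by
    intro z
    induction z using TensorProduct.induction_on with
    | zero => simp
    | tmul x y => simp
    | add x y hx hy => rw [map_add, hx, hy]
  have e2 : ∀ z : X.unop ⊗[R] X.unop, (Algebra.TensorProduct.lift
      (Algebra.TensorProduct.includeRight : X.unop →ₐ[R] X.unop ⊗[R] X.unop)
      (Algebra.TensorProduct.includeLeft : X.unop →ₐ[R] X.unop ⊗[R] X.unop)
      (fun _ _ => Commute.all _ _)) z = TensorProduct.comm R _ _ z := by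
    intro z
    induction z using TensorProduct.induction_on with
    | zero => simp
    | tmul x y => simp [mul_comm]
    | add x y hx hy => rw [map_add, map_add, hx, hy]
  rw [e1, e2] at h3
  exact h3.symm

end Alg


section FF

variable {C : Type*} [Category C] [CartesianMonoidalCategory C]
  {D : Type*} [Category D] [CartesianMonoidalCategory D]
  (F : C ⥤ D) [F.OplaxMonoidal] (hF : F.FullyFaithful) (X : C) [MonObj (F.obj X)]

/-- a fully faithful functor is multiplicative on `Hom(Y, X)` for the pulled-back structure. -/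
noncomputable def ffHom (Y : C) :
    letI := hF.monObj X
    (Y ⟶ X) →* (F.obj Y ⟶ F.obj X) :=
  letI := hF.monObj X
  { toFun := F.map
    map_one' := by
      rw [Hom.one_def, Hom.one_def, F.map_comp]
      have h1 : F.map η[X] = Functor.OplaxMonoidal.η F ≫ η[F.obj X] := hF.map_preimage _
      rw [h1, ← Category.assoc]
      congr 1
      exact toUnit_unique _ _
    map_mul' := fun f g => by
      rw [Hom.mul_def, Hom.mul_def, F.map_comp]
      have h1 : F.map μ[X] = Functor.OplaxMonoidal.δ F X X ≫ μ[F.obj X] := hF.map_preimage _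
      rw [h1, ← Category.assoc, Functor.OplaxMonoidal.lift_δ] }

end FF

section Iso

variable {C : Type*} [Category C] [CartesianMonoidalCategory C] {G H : C} [MonObj G] [MonObj H]

theorem id_pow_eq_one_of_iso (e : G ≅ H) [IsMonHom e.hom] (n : ℕ)
    (h : (𝟙 H : H ⟶ H) ^ n = 1) : (𝟙 G : G ⟶ G) ^ n = 1 := by
  have h1 : (𝟙 G : G ⟶ G) = e.hom ≫ (𝟙 H ≫ e.inv) := by simp
  rw [h1, ← MonObj.comp_pow, ← MonObj.pow_comp, h, MonObj.one_comp, MonObj.comp_one]

end Iso

section Affine

variable {R : CommRingCat.{u}} (G : Over (Spec R)) [IsAffine G.left]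

/-- the coordinate ring as an object of `(CommAlgCat R)ᵒᵖ` (a plain `def`, so that instance search
does not see through it). -/
noncomputable def XΓ : (CommAlgCat.{u} R)ᵒᵖ :=
  op (CommAlgCat.of R Γ(G.left, ⊤))

/-- `G ≅ Spec Γ(G)` over `Spec R`. -/
noncomputable def isoΓ : G ≅ (algSpec R).obj (XΓ G) :=
  G.left.isoSpec.asOver (Spec R)

theorem hom_eq : G.hom = G.left.isoSpec.hom ≫
    Spec.map (CommRingCat.ofHom (algebraMap R (XΓ G).unop)) := by
  have := (inferInstance : G.left.isoSpec.hom.IsOver (Spec R))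
  exact this.comp_over.symm

variable [GrpObj G]

noncomputable instance grpSpecΓ : GrpObj ((algSpec R).obj (XΓ G)) := .ofIso (isoΓ G)

noncomputable instance grpXΓ : GrpObj (XΓ G) :=
  (algSpec.fullyFaithful (R := R)).grpObj _

instance : IsMonHom (isoΓ G).hom := isMonHom_ofIso (isoΓ G)

/-- if the `n`-th convolution power of the identity of the coordinate ring is trivial, the
`n`-th power endomorphism of the affine group scheme is trivial. -/
theorem id_pow_eq_one_of_convPow (n : ℕ)
    (h : (WithConv.toConv (AlgHom.id R (XΓ G).unop)) ^ n = 1) :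
    (𝟙 G : G ⟶ G) ^ n = 1 := by
  have h1 : (𝟙 (XΓ G) : XΓ G ⟶ XΓ G) ^ n = 1 := by
    apply unopHom_injective (XΓ G) (XΓ G)
    rw [map_pow, map_one]
    exact h
  have h2 : (𝟙 ((algSpec R).obj (XΓ G)) : (algSpec R).obj (XΓ G) ⟶ (algSpec R).obj (XΓ G)) ^ n
      = 1 := by
    have := congrArg (ffHom (algSpec R) algSpec.fullyFaithful (XΓ G) (XΓ G)) h1
    rw [map_pow, map_one] at this
    simpa [ffHom] using this
  exact id_pow_eq_one_of_iso (isoΓ G) n h2

section Comm

variable [IsCommMonObj G]

theorem hom_mul_comm (Y : (CommAlgCat.{u} R)ᵒᵖ) (f₁ f₂ : Y ⟶ XΓ G) : f₁ * f₂ = f₂ * f₁ := by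
  apply (algSpec R).map_injective
  change ffHom (algSpec R) algSpec.fullyFaithful (XΓ G) Y (f₁ * f₂) =
    ffHom (algSpec R) algSpec.fullyFaithful (XΓ G) Y (f₂ * f₁)
  rw [map_mul, map_mul]
  apply (cancel_mono (isoΓ G).inv).mp
  rw [MonObj.mul_comp, MonObj.mul_comp, mul_comm]

instance isCocomm : Coalgebra.IsCocomm R (XΓ G).unop :=
  isCocomm_of_hom_comm (XΓ G) (hom_mul_comm G)

end Comm

end Affine

section Facts

variable {R : CommRingCat.{u}} (G : Over (Spec R)) [IsAffine G.left]

theorem hom_eq' : G.hom = G.left.isoSpec.hom ≫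
    Spec.map (CommRingCat.ofHom (algebraMap R Γ(G.left, ⊤))) := by
  have := (inferInstance : G.left.isoSpec.hom.IsOver (Spec R))
  exact this.comp_over.symm

theorem specMap_eq : Spec.map (CommRingCat.ofHom (algebraMap R Γ(G.left, ⊤))) =
    G.left.isoSpec.inv ≫ G.hom := by
  rw [hom_eq' G, Iso.inv_hom_id_assoc]

theorem finite' [IsFinite G.hom] : Module.Finite R Γ(G.left, ⊤) := by
  have h1 : IsFinite (Spec.map (CommRingCat.ofHom (algebraMap R Γ(G.left, ⊤)))) := by
    rw [specMap_eq G]; infer_instance
  rw [IsFinite.SpecMap_iff] at h1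
  exact RingHom.finite_algebraMap.mp h1

theorem flat' [Flat G.hom] : Module.Flat R Γ(G.left, ⊤) := by
  have h1 : Flat (Spec.map (CommRingCat.ofHom (algebraMap R Γ(G.left, ⊤)))) := by
    rw [specMap_eq G]; infer_instance
  rw [Flat.SpecMap_iff] at h1
  exact RingHom.flat_algebraMap_iff.mp h1

theorem finitePresentation' [LocallyOfFinitePresentation G.hom] :
    Algebra.FinitePresentation R Γ(G.left, ⊤) := by
  have h1 : LocallyOfFinitePresentation
      (Spec.map (CommRingCat.ofHom (algebraMap R Γ(G.left, ⊤)))) := by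
    rw [specMap_eq G]; infer_instance
  rw [LocallyOfFinitePresentation.SpecMap_iff] at h1
  exact RingHom.finitePresentation_algebraMap.mp h1

theorem projective' [IsFinite G.hom] [Flat G.hom] [LocallyOfFinitePresentation G.hom] :
    Module.Projective R Γ(G.left, ⊤) := by
  haveI := finite' G
  haveI := flat' G
  haveI := finitePresentation' G
  haveI : Module.FinitePresentation R Γ(G.left, ⊤) :=
    Module.FinitePresentation.of_finite_of_finitePresentation R Γ(G.left, ⊤)
  exact Module.Flat.projective_of_finitePresentation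

theorem rankAtStalk_eq' [IsFinite G.hom] [Flat G.hom] (p : PrimeSpectrum R) :
    Module.rankAtStalk (R := R) Γ(G.left, ⊤) p = G.hom.finrank p := by
  haveI := finite' G
  haveI := flat' G
  have hfin : IsFinite (Spec.map (CommRingCat.ofHom (algebraMap R Γ(G.left, ⊤)))) := by
    rw [IsFinite.SpecMap_iff]; exact RingHom.finite_algebraMap.mpr inferInstance
  have hflat : Flat (Spec.map (CommRingCat.ofHom (algebraMap R Γ(G.left, ⊤)))) := by
    rw [Flat.SpecMap_iff]; exact RingHom.flat_algebraMap_iff.mpr inferInstance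
  rw [hom_eq' G, Scheme.Hom.finrank_comp_left_of_isIso]
  exact (Scheme.Hom.finrank_SpecMap_algebraMap R Γ(G.left, ⊤) p).symm

theorem finite [IsFinite G.hom] : Module.Finite R (XΓ G).unop := finite' G

theorem projective [IsFinite G.hom] [Flat G.hom] [LocallyOfFinitePresentation G.hom] :
    Module.Projective R (XΓ G).unop := projective' G

theorem rankAtStalk_eq [IsFinite G.hom] [Flat G.hom] (p : PrimeSpectrum R) :
    Module.rankAtStalk (R := R) (XΓ G).unop p = G.hom.finrank p := rankAtStalk_eq' G p

end Facts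

section Cover

variable {S : Scheme.{u}}

theorem hom_ext_of_openCover (𝒰 : S.OpenCover) {X Y : Over S} {a b : X ⟶ Y}
    (h : ∀ i, (Over.pullback (𝒰.f i)).map a = (Over.pullback (𝒰.f i)).map b) : a = b := by
  apply Over.OverMorphism.ext
  refine Scheme.Cover.hom_ext (𝒰.pullback₁ X.hom) _ _ (fun i => ?_)
  have h1 : ∀ c : X ⟶ Y, pullback.fst X.hom (𝒰.f i) ≫ c.left =
      ((Over.pullback (𝒰.f i)).map c).left ≫ pullback.fst Y.hom (𝒰.f i) := by
    intro c
    simp only [Over.pullback_map_left]
    exact (pullback.lift_fst _ _ _).symm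
  change pullback.fst X.hom (𝒰.f i) ≫ a.left = pullback.fst X.hom (𝒰.f i) ≫ b.left
  rw [h1, h1, h i]

variable (G : Over S) [GrpObj G]

theorem id_pow_eq_one_of_openCover (𝒰 : S.OpenCover) (n : ℕ)
    (h : ∀ i, (𝟙 (Red.bc (𝒰.f i) G) : Red.bc (𝒰.f i) G ⟶ Red.bc (𝒰.f i) G) ^ n = 1) :
    (𝟙 G : G ⟶ G) ^ n = 1 := by
  apply hom_ext_of_openCover 𝒰
  intro i
  have h1 := map_pow ((Over.pullback (𝒰.f i)).homMonoidHom (X := G) (M := G)) (𝟙 G) n
  have h2 := map_one ((Over.pullback (𝒰.f i)).homMonoidHom (X := G) (M := G))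
  simp only [Functor.homMonoidHom_apply] at h1 h2
  rw [h1, h2, CategoryTheory.Functor.map_id]
  exact h i

end Cover

end Groth.Agent.R2.H90.GrpHopf
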