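import Mathlib
import Groth.Prelude.Def_NonAbH2
import Groth.Agent.Lib.Helper4Tors

/-!
Helper library (helper90): the base point of `NonAbH1.H1Sch`.

* `cl_eq_one_iff`: the class of a torsor scheme is the base point iff the torsor has a section.
-/

set_option autoImplicit false
set_option linter.style.haveILetI false
universe u
open CategoryTheory MonoidalCategory CartesianMonoidalCategory MonObj AlgebraicGeometry

namespace Groth.Agent.R2.H90.H1Sch

open Groth.Agent.Lib.Helper4.Tors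

variable {S : Scheme.{u}} {G : Over S} [GrpObj G] (K : Precoverage Scheme.{u})

lemma hasSectionOver_of_equivIso {X X' : Over S} {a : AlgGrp.Action G X} {a' : AlgGrp.Action G X'}
    (e : NonAbH1.EquivIso a a') (h : NonAbH1.HasSectionOver X (𝟙 S)) :
    NonAbH1.HasSectionOver X' (𝟙 S) := by
  obtain ⟨σ, hσ⟩ := h
  refine ⟨σ ≫ e.iso.hom.left, ?_⟩
  rw [Category.assoc, Over.w e.iso.hom, hσ]

lemma hasSectionOver_of_equivIso' {X X' : Over S} {a : AlgGrp.Action G X}
    {a' : AlgGrp.Action G X'}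
    (e : NonAbH1.EquivIso a a') (h : NonAbH1.HasSectionOver X' (𝟙 S)) :
    NonAbH1.HasSectionOver X (𝟙 S) := by
  obtain ⟨σ, hσ⟩ := h
  refine ⟨σ ≫ e.iso.inv.left, ?_⟩
  rw [Category.assoc, Over.w e.iso.inv, hσ]

variable [K.HasIsos]

theorem hasSectionOver_of_cl_eq_one (P : NonAbH1.TorsorSch G K) (h : P.cl = 1) :
    NonAbH1.HasSectionOver P.X (𝟙 S) := by
  have h' : Quot.mk _ P = Quot.mk (fun P Q : NonAbH1.TorsorSch G K =>
      Nonempty (NonAbH1.EquivIso P.act Q.act))
      ⟨G, NonAbH1.trivialAction G, NonAbH1.isTorsorFor_trivialAction G K⟩ := h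
  have hgen := Quot.eqvGen_exact h'
  have key : ∀ Q Q' : NonAbH1.TorsorSch G K,
      Relation.EqvGen (fun P Q : NonAbH1.TorsorSch G K =>
        Nonempty (NonAbH1.EquivIso P.act Q.act)) Q Q' →
      (NonAbH1.HasSectionOver Q.X (𝟙 S) ↔ NonAbH1.HasSectionOver Q'.X (𝟙 S)) := by
    intro Q Q' hQ
    induction hQ with
    | rel _ _ hr =>
      obtain ⟨e⟩ := hr
      exact ⟨hasSectionOver_of_equivIso e, hasSectionOver_of_equivIso' e⟩
    | refl _ => exact Iff.rfl
    | symm _ _ _ ih => exact ih.symm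
    | trans _ _ _ _ _ ih1 ih2 => exact ih1.trans ih2
  exact (key _ _ hgen).mpr ⟨η[G].left, Over.w η[G]⟩

theorem cl_eq_one_of_hasSectionOver (P : NonAbH1.TorsorSch G K)
    (h : NonAbH1.HasSectionOver P.X (𝟙 S)) : P.cl = 1 := by
  obtain ⟨σ, hσ⟩ := h
  let o : 𝟙_ (Over S) ⟶ P.X := Over.homMk σ hσ
  haveI := isIso_orb P.act P.isTorsor.1 o
  have e : NonAbH1.EquivIso (NonAbH1.trivialAction G) P.act :=
    { iso := asIso (orb P.act o), comm := orb_equivariant P.act o }
  exact (Quot.sound (⟨e⟩ : Nonempty (NonAbH1.EquivIso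
    (⟨G, NonAbH1.trivialAction G, NonAbH1.isTorsorFor_trivialAction G K⟩ :
      NonAbH1.TorsorSch G K).act P.act))).symm

theorem cl_eq_one_iff (P : NonAbH1.TorsorSch G K) :
    P.cl = 1 ↔ NonAbH1.HasSectionOver P.X (𝟙 S) :=
  ⟨hasSectionOver_of_cl_eq_one K P, cl_eq_one_of_hasSectionOver K P⟩

end Groth.Agent.R2.H90.H1Sch
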