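import Groth.Agent.Lib.Helper25FinHopf
import Groth.Agent.Lib.Helper25FinEtale
import Mathlib

set_option autoImplicit false
set_option linter.style.haveILetI false
universe u v

namespace Groth.Agent.R2.H90.HopfEtale

open TensorProduct Groth.Agent.Lib.Helper25 Groth.Agent.Lib.Helper25.FinHopf

section AlgClosed

variable {k : Type u} [Field k] [IsAlgClosed k] {A : Type v} [CommRing A] [HopfAlgebra k A]
  [Module.Finite k A]

/-- the unit component of a finite group scheme of invertible order over an algebraically closed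
field is trivial. -/
theorem finrank_unitQuot_eq_one (h : (Module.finrank k A : k) ≠ 0) :
    Module.finrank k (A ⧸ unitIdeal k A) = 1 := by
  haveI : Module.Finite k (A ⧸ unitIdeal k A) :=
    Module.Finite.of_surjective (Ideal.Quotient.mkₐ k _).toLinearMap
      (Ideal.Quotient.mkₐ_surjective k _)
  have hn : Module.finrank k A =
      Nat.card (A →ₐ[k] k) * Module.finrank k (A ⧸ unitIdeal k A) := finrank_eq_card_mul
  obtain ⟨p, hp⟩ := CharP.exists k
  rcases CharP.char_is_prime_or_zero k p with hprime | h0
  · haveI := Fact.mk hprime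
    obtain ⟨r, hr⟩ := finrank_eq_pow_of_nilpotent (k := k) p (surjective_frobenius k p) _
      (A ⧸ unitIdeal k A) isNilpotent_of_counit_unitQuot rfl
    rcases Nat.eq_zero_or_pos r with rfl | hr0
    · simpa using hr
    · exfalso
      apply h
      rw [hn, hr]
      have : (p : k) = 0 := CharP.cast_eq_zero k p
      push_cast
      rw [this, zero_pow hr0.ne', mul_zero]
  · subst h0
    haveI : CharZero k := CharP.charP_to_charZero k
    haveI : Algebra.FiniteType k (A ⧸ unitIdeal k A) := Module.Finite.finiteType _
    haveI : IsReduced (A ⧸ unitIdeal k A) := CartH.isReduced_of_charZero_hopf (k := k)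
    exact finrank_eq_one_of_augI_eq_bot
      (fun x hx => (isNilpotent_of_counit_unitQuot x hx).eq_zero)

theorem ker_pow_finrank_eq (h : (Module.finrank k A : k) ≠ 0) (g : A →ₐ[k] k) :
    (RingHom.ker g) ^ Module.finrank k A = RingHom.ker g := by
  have h1 := finrank_unitQuot_eq_one h
  set I := (RingHom.ker g) ^ Module.finrank k A with hI
  have hle : I ≤ RingHom.ker g := Ideal.pow_le_self (finrank_pos_hopf (k := k) (A := A)).ne'
  refine le_antisymm hle ?_
  have hfr : Module.finrank k (A ⧸ I) = 1 := by
    rw [hI, finrank_quot_ker_pow]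
    exact h1
  have hne : (Ideal.Quotient.mk I (1 : A)) ≠ 0 := by
    intro h0
    rw [Ideal.Quotient.eq_zero_iff_mem] at h0
    have := hle h0
    rw [RingHom.mem_ker, map_one] at this
    exact one_ne_zero this
  intro x hx
  obtain ⟨c, hc⟩ := (finrank_eq_one_iff_of_nonzero' _ hne).mp hfr (Ideal.Quotient.mk I x)
  have h2 : x - c • (1 : A) ∈ I := by
    rw [← Ideal.Quotient.eq_zero_iff_mem, map_sub, ← hc]
    have : Ideal.Quotient.mk I (c • (1 : A)) = c • Ideal.Quotient.mk I (1 : A) := rfl
    rw [this, sub_self]
  have h3 := hle h2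
  rw [RingHom.mem_ker, map_sub, map_smul, map_one, (RingHom.mem_ker).mp hx, zero_sub, neg_eq_zero,
    smul_eq_mul, mul_one] at h3
  rw [h3, zero_smul, sub_zero] at h2
  exact h2

theorem isReduced_of_finrank_ne_zero (h : (Module.finrank k A : k) ≠ 0) : IsReduced A := by
  rw [isReduced_iff]
  intro x hx
  have h1 : x ∈ ⨅ g : A →ₐ[k] k, (RingHom.ker g) ^ Module.finrank k A := by
    rw [Ideal.mem_iInf]
    intro g
    rw [ker_pow_finrank_eq h g, RingHom.mem_ker]
    exact (hx.map g).eq_zero
  rw [iInf_ker_pow_finrank] at h1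
  exact h1

omit [HopfAlgebra k A] in
theorem etale_of_isReduced [Algebra k A] [Module.Finite k A] [IsReduced A] : Algebra.Etale k A := by
  haveI : Finite (A →ₐ[k] k) := Finite.algHom k A k
  exact Algebra.Etale.of_equiv (FinEtale.gelEquiv k A).symm

end AlgClosed

/-- **A finite group scheme of invertible order over a field is étale** (Hopf algebra form). -/
theorem etale_of_finrank_ne_zero {k A : Type u} [Field k] [CommRing A] [HopfAlgebra k A]
    [Module.Finite k A] (h : (Module.finrank k A : k) ≠ 0) : Algebra.Etale k A := by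
  let Ω := AlgebraicClosure k
  have hfr : Module.finrank Ω (Ω ⊗[k] A) = Module.finrank k A := Module.finrank_baseChange
  have h' : (Module.finrank Ω (Ω ⊗[k] A) : Ω) ≠ 0 := by
    rw [hfr]
    intro h0
    apply h
    apply (algebraMap k Ω).injective
    rw [map_natCast, h0, map_zero]
  haveI : IsReduced (Ω ⊗[k] A) := isReduced_of_finrank_ne_zero h'
  haveI : Algebra.Etale Ω (Ω ⊗[k] A) := etale_of_isReduced
  exact Algebra.Etale.of_etale_tensorProduct_of_faithfullyFlat Ω

end Groth.Agent.R2.H90.HopfEtale
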