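import Mathlib
import Groth.Agent.S1964

set_option autoImplicit false

open Polynomial IsLocalRing
open scoped Pointwise

namespace Groth.Agent.R2.H90.Inertia


/-- Lagrange/Euler interpolation: for a finite group `G` acting on `S` with invariants `R`,
`(∏_{h ≠ 1} (s - h • s)) * z ∈ R[s]`. -/
theorem lagrange_mem_adjoin {R S G : Type*} [CommRing R] [CommRing S] [Algebra R S] [Group G]
    [Fintype G] [DecidableEq G] [MulSemiringAction G S] [SMulCommClass G R S]
    [Algebra.IsInvariant R S G] (s z : S) :
    (∏ h ∈ Finset.univ.erase (1 : G), (s - h • s)) * z ∈ Algebra.adjoin R {s} := by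
  classical
  set P : S[X] := ∑ g : G, C (g • z) * ∏ h ∈ Finset.univ.erase g, (X - C (h • s)) with hP
  have hinv : ∀ g' : G, g' • P = P := by
    intro g'
    rw [hP, Finset.smul_sum]
    refine Fintype.sum_bijective (fun g => g' * g) (Group.mulLeft_bijective g') _ _ ?_
    intro g
    rw [smul_mul', smul_C, smul_smul, Finset.smul_prod']
    congr 1
    refine Finset.prod_bij (fun h _ => g' * h) ?_ ?_ ?_ ?_
    · intro h hh
      simp only [Finset.mem_erase, Finset.mem_univ, and_true, ne_eq] at hh ⊢
      simpa using hh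
    · intro a _ b _ hab
      exact mul_left_cancel hab
    · intro b hb
      refine ⟨g'⁻¹ * b, ?_, by simp⟩
      simp only [Finset.mem_erase, Finset.mem_univ, and_true, ne_eq] at hb ⊢
      intro h
      apply hb
      rw [← h]; simp
    · intro h _
      rw [smul_sub, smul_X, smul_C, smul_smul]
  have hcoeff : ∀ i, ∃ r : R, algebraMap R S r = P.coeff i := by
    intro i
    apply Algebra.IsInvariant.isInvariant (G := G)
    intro g
    rw [← Polynomial.coeff_smul, hinv]
  have hlift : P ∈ Polynomial.lifts (algebraMap R S) := by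
    rw [Polynomial.lifts_iff_coeff_lifts]
    intro i
    obtain ⟨r, hr⟩ := hcoeff i
    exact ⟨r, hr⟩
  obtain ⟨Q, hQ⟩ := hlift
  have heval : P.eval s = (∏ h ∈ Finset.univ.erase (1 : G), (s - h • s)) * z := by
    rw [hP, Polynomial.eval_finsetSum, Finset.sum_eq_single (1 : G)]
    · simp [Polynomial.eval_prod, mul_comm]
    · intro g _ hg
      rw [Polynomial.eval_mul, Polynomial.eval_prod]
      rw [Finset.prod_eq_zero (i := (1 : G))]
      · simp
      · simp [Ne.symm hg]
      · simp
    · simp
  rw [← heval, ← hQ, Polynomial.coe_mapRingHom, Polynomial.eval_map_algebraMap]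
  exact Polynomial.aeval_mem_adjoin_singleton R s



theorem henselianLocalRing_of_isAdicComplete (R : Type*) [CommRing R] [IsLocalRing R]
    [IsAdicComplete (IsLocalRing.maximalIdeal R) R] : HenselianLocalRing R :=
  { is_henselian := fun f hf a₀ h₁ h₂ =>
      HenselianRing.is_henselian (I := IsLocalRing.maximalIdeal R) f hf a₀ h₁ (h₂.map _) }

section hom

variable {R S G : Type*} [CommRing R] [CommRing S] [Algebra R S] [Group G] [Finite G]
  [MulSemiringAction G S] [SMulCommClass G R S] [Algebra.IsInvariant R S G]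
  (m : Ideal R) (n : Ideal S) [n.IsPrime] [n.LiesOver m]

omit [Finite G] in
theorem isUnit_smul_iff' (g : G) (x : S) : IsUnit (g • x) ↔ IsUnit x := by
  constructor
  · intro h
    have := h.map (MulSemiringAction.toRingHom G S g⁻¹)
    simpa using this
  · intro h
    exact h.map (MulSemiringAction.toRingHom G S g)

omit [Finite G] in
theorem smul_maximalIdeal_eq [IsLocalRing S] (g : G) :
    g • IsLocalRing.maximalIdeal S = IsLocalRing.maximalIdeal S := by
  ext x
  rw [Ideal.mem_pointwise_smul_iff_inv_smul_mem, IsLocalRing.mem_maximalIdeal,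
    IsLocalRing.mem_maximalIdeal, mem_nonunits_iff, mem_nonunits_iff, isUnit_smul_iff']

theorem exists_hom (hstab : ∀ g : G, g • n = n) :
    ∃ φ : G →* ((S ⧸ n) ≃ₐ[R ⧸ m] (S ⧸ n)), Function.Surjective φ ∧
      φ.ker = n.toAddSubgroup.inertia G ∧
      ∀ g x, φ g (Ideal.Quotient.mk n x) = Ideal.Quotient.mk n (g • x) := by
  let toH : G →* MulAction.stabilizer G n :=
    (MonoidHom.id G).codRestrict (MulAction.stabilizer G n) (fun g => hstab g)
  refine ⟨(Ideal.Quotient.stabilizerHom n m G).comp toH, ?_, ?_, ?_⟩
  · intro σ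
    obtain ⟨h, hh⟩ := Ideal.Quotient.stabilizerHom_surjective G m n σ
    exact ⟨h.1, by rw [← hh]; rfl⟩
  · ext g
    rw [MonoidHom.mem_ker, MonoidHom.comp_apply, ← MonoidHom.mem_ker,
      Ideal.Quotient.ker_stabilizerHom]
    exact (Ideal.coe_mem_inertia (σ := toH g)).symm
  · intro g x
    rfl

theorem card_eq (hstab : ∀ g : G, g • n = n) :
    Nat.card G = Nat.card ((S ⧸ n) ≃ₐ[R ⧸ m] (S ⧸ n)) * Nat.card (n.toAddSubgroup.inertia G) := by
  obtain ⟨φ, hφ, hker, -⟩ := exists_hom m n hstab
  rw [Subgroup.card_eq_card_quotient_mul_card_subgroup φ.ker,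
    Nat.card_congr (QuotientGroup.quotientKerEquivOfSurjective φ hφ).toEquiv, hker]

end hom



section prim

attribute [local instance] Ideal.Quotient.field

/-- A finite field extension has an element with trivial stabilizer under its automorphism
group. -/
theorem exists_trivial_stabilizer (k l : Type*) [Field k] [Field l] [Algebra k l]
    [FiniteDimensional k l] :
    ∃ θ : l, ∀ σ : l ≃ₐ[k] l, σ θ = θ → σ = 1 := by
  have : Finite (l ≃ₐ[k] l) := inferInstance
  obtain ⟨θ, hθ⟩ := Field.exists_primitive_element (FixedPoints.subfield (l ≃ₐ[k] l) l) l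
  refine ⟨θ, fun σ hσ => ?_⟩
  ext x
  have hx : x ∈ IntermediateField.adjoin (FixedPoints.subfield (l ≃ₐ[k] l) l) {θ} := by
    rw [hθ]; trivial
  induction hx using IntermediateField.adjoin_induction with
  | mem y hy =>
    rw [Set.mem_singleton_iff] at hy
    rw [hy]; exact hσ
  | algebraMap y => exact y.2 σ
  | add y z _ _ hy hz => simp only [map_add, hy, hz]
  | inv y _ hy => simp only [map_inv₀, hy]
  | mul y z _ _ hy hz => simp only [map_mul, hy, hz]

end prim


section forward

variable {R S G : Type*} [CommRing R] [CommRing S] [Algebra R S] [IsLocalRing R] [IsLocalRing S]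
  [Module.Finite R S] [Group G] [Finite G]
  [MulSemiringAction G S] [SMulCommClass G R S] [Algebra.IsInvariant R S G]
  (n : Ideal S) [n.IsMaximal] [n.LiesOver (maximalIdeal R)]

attribute [local instance] Ideal.Quotient.field

theorem forward (hI : n.toAddSubgroup.inertia G = ⊥) :
    (maximalIdeal R).map (algebraMap R S) = n ∧
      Module.Finite (R ⧸ maximalIdeal R) (S ⧸ n) ∧
      Algebra.IsSeparable (R ⧸ maximalIdeal R) (S ⧸ n) := by
  classical
  cases nonempty_fintype G
  have hn : n = maximalIdeal S := IsLocalRing.eq_maximalIdeal ‹_›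
  have hstab : ∀ g : G, g • n = n := by rw [hn]; exact smul_maximalIdeal_eq
  obtain ⟨φ, hφs, hker, hφ⟩ := exists_hom (maximalIdeal R) n hstab
  have hφi : Function.Injective φ := by
    rw [← MonoidHom.ker_eq_bot_iff, hker, hI]
  -- finiteness
  have hfin : Module.Finite (R ⧸ maximalIdeal R) (S ⧸ n) := by
    have : Module.Finite R (S ⧸ n) := inferInstance
    exact Module.Finite.of_restrictScalars_finite R _ _
  -- element with trivial stabilizer
  obtain ⟨θ, hθ⟩ := exists_trivial_stabilizer (R ⧸ maximalIdeal R) (S ⧸ n)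
  obtain ⟨s, rfl⟩ := Ideal.Quotient.mk_surjective θ
  set D : S := ∏ h ∈ Finset.univ.erase (1 : G), (s - h • s) with hD
  have hDn : D ∉ n := by
    intro hmem
    rw [hD, Ideal.IsPrime.prod_mem_iff] at hmem
    obtain ⟨h, hh, hmem⟩ := hmem
    have h1 : φ h (Ideal.Quotient.mk n s) = Ideal.Quotient.mk n s := by
      rw [hφ, eq_comm, Ideal.Quotient.eq]; exact hmem
    have := hφi ((hθ _ h1).trans (map_one φ).symm)
    exact (Finset.mem_erase.mp hh).1 this
  have hDu : IsUnit D := by
    rw [hn, IsLocalRing.mem_maximalIdeal, mem_nonunits_iff, not_not] at hDn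
    exact hDn
  have hadj : Algebra.adjoin R {s} = ⊤ := by
    rw [eq_top_iff]
    intro z _
    obtain ⟨u, hu⟩ := hDu
    have := lagrange_mem_adjoin (R := R) (G := G) s (↑u⁻¹ * z)
    rwa [← hD, ← hu, ← mul_assoc, Units.mul_inv, one_mul] at this
  -- the monic lift of the characteristic polynomial
  obtain ⟨F, hF1, hF2, hF3⟩ := Polynomial.lifts_and_natDegree_eq_and_monic
    (Algebra.IsInvariant.charpoly_mem_lifts R S G s) (MulSemiringAction.monic_charpoly G s)
  have hFs : aeval s F = 0 := by
    rw [← eval_map_algebraMap, hF1, MulSemiringAction.eval_charpoly]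
  have hdeg : F.natDegree = Fintype.card G := by
    rw [hF2, MulSemiringAction.charpoly_eq, natDegree_prod_of_monic _ _
      (fun g _ => monic_X_sub_C _)]
    simp
  have hspan : Submodule.span R (Set.range fun i : Fin (Fintype.card G) => s ^ (i : ℕ)) = ⊤ := by
    have h1 := Submodule.span_range_natDegree_eq_adjoin hF3 hFs
    rw [hadj, Algebra.top_toSubmodule, hdeg] at h1
    rw [← h1]
    congr 1
    ext x
    simp only [Set.mem_range, Finset.coe_image, Finset.coe_range, Set.mem_image, Set.mem_Iio]
    constructor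
    · rintro ⟨i, rfl⟩; exact ⟨i, i.2, rfl⟩
    · rintro ⟨i, hi, rfl⟩; exact ⟨⟨i, hi⟩, rfl⟩
  set θ : S ⧸ n := Ideal.Quotient.mk n s with hθdef
  have hmk : ∀ (r : R) (i : ℕ), Ideal.Quotient.mk n (r • s ^ i) =
      (Ideal.Quotient.mk (maximalIdeal R) r) • θ ^ i := by
    intro r i
    rw [Algebra.smul_def, map_mul, map_pow, Algebra.smul_def]
    rfl
  have hspanl : Submodule.span (R ⧸ maximalIdeal R)
      (Set.range fun i : Fin (Fintype.card G) => θ ^ (i : ℕ)) = ⊤ := by
    rw [eq_top_iff]
    intro y _
    obtain ⟨x, rfl⟩ := Ideal.Quotient.mk_surjective y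
    have hx : x ∈ Submodule.span R (Set.range fun i : Fin (Fintype.card G) => s ^ (i : ℕ)) := by
      rw [hspan]; trivial
    obtain ⟨c, rfl⟩ := (Submodule.mem_span_range_iff_exists_fun R).mp hx
    rw [map_sum]
    refine Submodule.sum_mem _ fun i _ => ?_
    rw [hmk]
    exact Submodule.smul_mem _ _ (Submodule.subset_span ⟨i, rfl⟩)
  have hcardAut : Nat.card ((S ⧸ n) ≃ₐ[R ⧸ maximalIdeal R] (S ⧸ n)) = Fintype.card G := by
    rw [← Nat.card_eq_fintype_card]
    exact (Nat.card_congr (Equiv.ofBijective φ ⟨hφi, hφs⟩)).symm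
  have hle1 : Fintype.card G ≤ Module.finrank (R ⧸ maximalIdeal R) (S ⧸ n) := by
    rw [← hcardAut]
    have := AlgEquiv.card_le (F := R ⧸ maximalIdeal R) (K := S ⧸ n)
    rwa [Nat.card_eq_fintype_card]
  have hle2 : Module.finrank (R ⧸ maximalIdeal R) (S ⧸ n) ≤ Fintype.card G := by
    have := finrank_le_of_span_eq_top (R := R ⧸ maximalIdeal R) (M := S ⧸ n) hspanl
    simpa using this
  have hfr : Module.finrank (R ⧸ maximalIdeal R) (S ⧸ n) = Fintype.card G := le_antisymm hle2 hle1
  have hli : LinearIndependent (R ⧸ maximalIdeal R)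
      (fun i : Fin (Fintype.card G) => θ ^ (i : ℕ)) :=
    linearIndependent_of_top_le_span_of_card_eq_finrank hspanl.ge (by simp [hfr])
  refine ⟨?_, hfin, ?_⟩
  · apply le_antisymm
    · rw [Ideal.map_le_iff_le_comap]
      exact (Ideal.LiesOver.over (P := n) (p := maximalIdeal R)).le
    · intro x hx
      have hx' : x ∈ Submodule.span R (Set.range fun i : Fin (Fintype.card G) => s ^ (i : ℕ)) := by
        rw [hspan]; trivial
      obtain ⟨c, rfl⟩ := (Submodule.mem_span_range_iff_exists_fun R).mp hx'
      have h0 : ∑ i, (Ideal.Quotient.mk (maximalIdeal R) (c i)) • θ ^ (i : ℕ) = 0 := by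
        rw [← Ideal.Quotient.eq_zero_iff_mem, map_sum] at hx
        rw [← hx]
        refine Finset.sum_congr rfl fun i _ => ?_
        rw [hmk]
      have hc := Fintype.linearIndependent_iff.mp hli _ h0
      refine Ideal.sum_mem _ fun i _ => ?_
      rw [Algebra.smul_def]
      exact Ideal.mul_mem_right _ _
        (Ideal.mem_map_of_mem _ (Ideal.Quotient.eq_zero_iff_mem.mp (hc i)))
  · have : IsGalois (R ⧸ maximalIdeal R) (S ⧸ n) :=
      IsGalois.of_card_aut_eq_finrank _ _ (by rw [hcardAut, hfr])
    infer_instance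

end forward

section backward

variable {R S G : Type*} [CommRing R] [CommRing S] [IsDomain R] [IsDomain S] [Algebra R S]
  [FaithfulSMul R S] [IsLocalRing R] [IsLocalRing S]
  [Module.Finite R S] [Group G] [Finite G]
  [MulSemiringAction G S] [SMulCommClass G R S] [IsGaloisGroup G R S]
  (n : Ideal S) [n.IsMaximal] [n.LiesOver (maximalIdeal R)]

attribute [local instance] Ideal.Quotient.field FractionRing.liftAlgebra

theorem backward (hmn : (maximalIdeal R).map (algebraMap R S) = n)
    [Module.Finite (R ⧸ maximalIdeal R) (S ⧸ n)]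
    [Algebra.IsSeparable (R ⧸ maximalIdeal R) (S ⧸ n)] :
    n.toAddSubgroup.inertia G = ⊥ := by
  classical
  have hn : n = maximalIdeal S := IsLocalRing.eq_maximalIdeal ‹_›
  have hstab : ∀ g : G, g • n = n := by rw [hn]; exact smul_maximalIdeal_eq
  have hcard := card_eq (maximalIdeal R) n hstab
  have : Normal (R ⧸ maximalIdeal R) (S ⧸ n) := Ideal.Quotient.normal G (maximalIdeal R) n
  have : IsGalois (R ⧸ maximalIdeal R) (S ⧸ n) := ⟨⟩
  rw [IsGalois.card_aut_eq_finrank] at hcard
  -- `finrank K L = card G`
  let _ := IsFractionRing.mulSemiringAction G S (FractionRing S)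
  have hGal : IsGaloisGroup G (FractionRing R) (FractionRing S) := inferInstance
  have hKL : Nat.card G = Module.finrank (FractionRing R) (FractionRing S) :=
    IsGaloisGroup.card_eq_finrank G (FractionRing R) (FractionRing S)
  -- generators
  let b := Module.finBasis (R ⧸ maximalIdeal R) (S ⧸ n)
  choose b' hb' using fun i => Ideal.Quotient.mk_surjective (b i)
  have hspan : Submodule.span R (Set.range b') = ⊤ := by
    rw [← top_le_iff]
    apply Submodule.le_of_le_smul_of_le_jacobson_bot (I := maximalIdeal R)
    · exact Module.finite_def.mp ‹_›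
    · exact (IsLocalRing.jacobson_eq_maximalIdeal ⊥ bot_ne_top).ge
    · rw [Ideal.smul_top_eq_map, hmn]
      intro x _
      have hx : Ideal.Quotient.mk n x ∈ Submodule.span (R ⧸ maximalIdeal R) (Set.range b) := by
        rw [b.span_eq]; trivial
      obtain ⟨c, hc⟩ := (Submodule.mem_span_range_iff_exists_fun _).mp hx
      choose c' hc' using fun i => Ideal.Quotient.mk_surjective (c i)
      have hmem : x - ∑ i, c' i • b' i ∈ n := by
        rw [← Ideal.Quotient.eq_zero_iff_mem, map_sub, map_sum, ← hc, sub_eq_zero]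
        refine Finset.sum_congr rfl fun i _ => ?_
        rw [Algebra.smul_def (c' i), map_mul, hb', ← hc', Algebra.smul_def]
        rfl
      have : x = ∑ i, c' i • b' i + (x - ∑ i, c' i • b' i) := by ring
      rw [this]
      refine Submodule.add_mem_sup ?_ hmem
      exact Submodule.sum_mem _ fun i _ => Submodule.smul_mem _ _ (Submodule.subset_span ⟨i, rfl⟩)
  have hspanL : Submodule.span (FractionRing R)
      (algebraMap S (FractionRing S) '' Set.range b') = ⊤ :=
    span_eq_top_localization_localization (FractionRing R) (nonZeroDivisors R)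
      (FractionRing S) hspan
  have hle : Module.finrank (FractionRing R) (FractionRing S) ≤
      Module.finrank (R ⧸ maximalIdeal R) (S ⧸ n) := by
    rw [← Set.range_comp] at hspanL
    simpa using finrank_le_of_span_eq_top hspanL
  -- conclude
  have hpos : 0 < Module.finrank (R ⧸ maximalIdeal R) (S ⧸ n) := Module.finrank_pos
  have h1 : Nat.card (n.toAddSubgroup.inertia G) ≤ 1 := by
    by_contra h
    rw [not_le] at h
    have : Module.finrank (R ⧸ maximalIdeal R) (S ⧸ n) * 2 ≤
        Module.finrank (R ⧸ maximalIdeal R) (S ⧸ n) * Nat.card (n.toAddSubgroup.inertia G) :=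
      Nat.mul_le_mul_left _ h
    omega
  exact (Subgroup.card_le_one_iff_eq_bot _).mp h1

end backward

section finite

attribute [local instance] FractionRing.liftAlgebra

/-- In the Galois situation over a Noetherian normal domain, the upper ring is a finite module. -/
theorem finite_of_isGaloisGroup (R S G : Type*) [CommRing R] [CommRing S] [IsDomain R]
    [IsDomain S] [IsNoetherianRing R] [IsIntegrallyClosed R] [Algebra R S] [FaithfulSMul R S]
    [IsIntegrallyClosed S] [Group G] [Finite G] [MulSemiringAction G S] [SMulCommClass G R S]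
    [IsGaloisGroup G R S] : Module.Finite R S := by
  have hint : Algebra.IsIntegral R S := Algebra.IsInvariant.isIntegral R S G
  let _ := IsFractionRing.mulSemiringAction G S (FractionRing S)
  have hGal : IsGaloisGroup G (FractionRing R) (FractionRing S) := inferInstance
  have : IsGalois (FractionRing R) (FractionRing S) := hGal.isGalois
  have : FiniteDimensional (FractionRing R) (FractionRing S) := hGal.finiteDimensional
  exact IsIntegralClosure.finite R (FractionRing R) (FractionRing S) S

end finite

end Groth.Agent.R2.H90.Inertia
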