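/-
Helper library for S18384 (helper90): if every infinitesimal neighbourhood of the fibre `p⁻¹(t)` factors
through a closed subscheme `Z = V(I)` of a locally Noetherian scheme `X`, an open neighbourhood of the
fibre factors through `Z` (Krull intersection theorem in the local rings of `X`).
-/
import Mathlib

set_option autoImplicit false
universe u
open CategoryTheory CategoryTheory.Limits AlgebraicGeometry

namespace Groth.Agent.R2.H90.KrullNhd

variable {X : Scheme.{u}}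

/-- If `Spec R' ⟶ Spec Γ(X, V) ⟶ X` factors through the closed subscheme of `I`, the ring map kills
`I(V)`. -/
theorem map_eq_zero_of_factors (I : X.IdealSheafData) {V : X.Opens} (hV : IsAffineOpen V)
    {R' : CommRingCat.{u}}
    (θ : Γ(X, V) ⟶ R') (g : Spec R' ⟶ I.subscheme)
    (hg : g ≫ I.subschemeι = Spec.map θ ≫ hV.fromSpec) (a : Γ(X, V)) (ha : a ∈ I.ideal ⟨V, hV⟩) :
    θ.hom a = 0 := by
  set ψ := Spec.map θ ≫ hV.fromSpec with hψ
  have h1 : I ≤ ψ.ker := by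
    rw [← hg]
    conv_lhs => rw [← I.ker_subschemeι]
    exact Scheme.Hom.le_ker_comp _ _
  have h2 : (ψ.app V).hom a = 0 := Scheme.Hom.ideal_ker_le ψ ⟨V, hV⟩ (h1 ⟨V, hV⟩ ha)
  have e : (⊤ : (Spec R').Opens) ≤ ψ ⁻¹ᵁ V := by
    intro y _
    change ψ y ∈ V
    rw [hψ, Scheme.Hom.comp_apply]
    have := hV.range_fromSpec
    rw [← SetLike.mem_coe, ← this]
    exact ⟨_, rfl⟩
  have h3 : Spec.map (ψ.appLE V ⊤ e) ≫ hV.fromSpec = (isAffineOpen_top (Spec R')).fromSpec ≫ ψ :=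
    IsAffineOpen.SpecMap_appLE_fromSpec ψ hV (isAffineOpen_top _) e
  rw [IsAffineOpen.fromSpec_top, Scheme.isoSpec_Spec_inv] at h3
  have h3' : Spec.map (ψ.appLE V ⊤ e) ≫ hV.fromSpec =
      Spec.map (θ ≫ (Scheme.ΓSpecIso R').inv) ≫ hV.fromSpec := by
    rw [h3, Spec.map_comp, Category.assoc]
  rw [cancel_mono] at h3'
  have h4 := Spec.map_injective h3'
  have h5 : (ψ.appLE V ⊤ e).hom a = 0 := by
    rw [Scheme.Hom.appLE, CommRingCat.comp_apply, h2, map_zero]
  rw [h4] at h5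
  have h6 : (Scheme.ΓSpecIso R').inv.hom (θ.hom a) = 0 := h5
  have := congrArg (Scheme.ΓSpecIso R').hom.hom h6
  simpa using this


/-- Krull intersection: sections of `I` have zero germ at `x` when all infinitesimal
neighbourhoods of `x` factor through the closed subscheme. -/
theorem germ_eq_zero_of_factors [IsLocallyNoetherian X] (I : X.IdealSheafData) (x : X)
    (h : ∀ n : ℕ, ∃ g : Spec (CommRingCat.of (X.presheaf.stalk x ⧸
          IsLocalRing.maximalIdeal (X.presheaf.stalk x) ^ (n + 1))) ⟶ I.subscheme,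
        g ≫ I.subschemeι = Spec.map (CommRingCat.ofHom (Ideal.Quotient.mk
          (IsLocalRing.maximalIdeal (X.presheaf.stalk x) ^ (n + 1)))) ≫ X.fromSpecStalk x)
    {V : X.Opens} (hV : IsAffineOpen V) (hxV : x ∈ V) (a : Γ(X, V)) (ha : a ∈ I.ideal ⟨V, hV⟩) :
    X.presheaf.germ V x hxV a = 0 := by
  have hmem : ∀ n : ℕ, X.presheaf.germ V x hxV a ∈
      IsLocalRing.maximalIdeal (X.presheaf.stalk x) ^ (n + 1) := by
    intro n
    obtain ⟨g, hg⟩ := h n
    rw [← hV.fromSpecStalk_eq_fromSpecStalk hxV, IsAffineOpen.fromSpecStalk, ← Category.assoc,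
      ← Spec.map_comp] at hg
    have := map_eq_zero_of_factors I hV _ g hg a ha
    rw [CommRingCat.hom_comp, RingHom.comp_apply] at this
    exact Ideal.Quotient.eq_zero_iff_mem.mp this
  have hbot := Ideal.iInf_pow_eq_bot_of_isLocalRing (IsLocalRing.maximalIdeal (X.presheaf.stalk x))
    (IsLocalRing.maximalIdeal.isMaximal _).ne_top
  have : X.presheaf.germ V x hxV a ∈ ⨅ i, IsLocalRing.maximalIdeal (X.presheaf.stalk x) ^ i := by
    rw [Ideal.mem_iInf]
    intro i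
    exact Ideal.pow_le_pow_right (Nat.le_succ i) (hmem i)
  rw [hbot] at this
  exact (Ideal.mem_bot).mp this


theorem exists_open_res_eq_zero (V : X.Opens) (x : X) (hx : x ∈ V) (s : Finset Γ(X, V))
    (h : ∀ a ∈ s, X.presheaf.germ V x hx a = 0) :
    ∃ (W : X.Opens) (hW : W ≤ V), x ∈ W ∧ ∀ a ∈ s, X.presheaf.map (homOfLE hW).op a = 0 := by
  classical
  induction s using Finset.induction_on with
  | empty => exact ⟨V, le_rfl, hx, by simp⟩
  | insert b s _ ih =>
    obtain ⟨W, hW, hxW, hWs⟩ := ih (fun a ha => h a (Finset.mem_insert_of_mem ha))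
    have hb : X.presheaf.germ V x hx b = X.presheaf.germ V x hx 0 := by
      rw [h b (Finset.mem_insert_self _ _), map_zero]
    obtain ⟨W', hxW', i1, i2, hW'⟩ := TopCat.Presheaf.germ_eq X.presheaf x hx hx b 0 hb
    rw [map_zero] at hW'
    refine ⟨W ⊓ W', inf_le_left.trans hW, ⟨hxW, hxW'⟩, ?_⟩
    intro a ha
    rcases Finset.mem_insert.mp ha with rfl | ha
    · have : (homOfLE (inf_le_left.trans hW : W ⊓ W' ≤ V)).op =
          i1.op ≫ (homOfLE (inf_le_right : W ⊓ W' ≤ W')).op := rfl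
      rw [this, X.presheaf.map_comp, CommRingCat.comp_apply, hW', map_zero]
    · have : (homOfLE (inf_le_left.trans hW : W ⊓ W' ≤ V)).op =
          (homOfLE hW).op ≫ (homOfLE (inf_le_left : W ⊓ W' ≤ W)).op := rfl
      rw [this, X.presheaf.map_comp, CommRingCat.comp_apply, hWs a ha, map_zero]

theorem exists_affine_ideal_eq_bot [IsLocallyNoetherian X] (I : X.IdealSheafData) (x : X)
    {V : X.Opens} (hV : IsAffineOpen V) (hxV : x ∈ V)
    (h : ∀ a ∈ I.ideal ⟨V, hV⟩, X.presheaf.germ V x hxV a = 0) :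
    ∃ U : X.affineOpens, x ∈ U.1 ∧ I.ideal U = ⊥ := by
  have hN : IsNoetherianRing Γ(X, V) := IsLocallyNoetherian.component_noetherian ⟨V, hV⟩
  obtain ⟨s, hs⟩ := (isNoetherianRing_iff_ideal_fg _).mp hN (I.ideal ⟨V, hV⟩)
  obtain ⟨W, hW, hxW, hWs⟩ := exists_open_res_eq_zero V x hxV s (fun a ha =>
    h a (hs ▸ Ideal.subset_span ha))
  obtain ⟨f, hfW, hxf⟩ := hV.exists_basicOpen_le ⟨x, hxW⟩ hxV
  refine ⟨X.affineBasicOpen (U := ⟨V, hV⟩) f, hxf, ?_⟩
  rw [← I.map_ideal_basicOpen ⟨V, hV⟩ f, ← hs, Ideal.map_span]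
  refine eq_bot_iff.mpr (Ideal.span_le.mpr ?_)
  rintro _ ⟨a, ha, rfl⟩
  refine Ideal.mem_bot.mpr ?_
  have : (homOfLE (X.basicOpen_le f)).op = (homOfLE hW).op ≫ (homOfLE hfW).op := rfl
  rw [this, X.presheaf.map_comp, CommRingCat.hom_comp, RingHom.comp_apply]
  erw [hWs a ha]
  rw [map_zero]
  rfl


theorem le_ker_ι_of_locally_bot (I : X.IdealSheafData) (U : X.Opens)
    (hU : ∀ y ∈ U, ∃ A : X.affineOpens, y ∈ A.1 ∧ I.ideal A = ⊥) : I ≤ U.ι.ker := by
  rw [← Scheme.IdealSheafData.map_bot, Scheme.IdealSheafData.le_map_iff_comap_le]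
  let ι' := {W : U.toScheme.affineOpens // ∃ A : X.affineOpens, U.ι ''ᵁ W.1 ≤ A.1 ∧ I.ideal A = ⊥}
  refine Scheme.IdealSheafData.le_of_iSup_eq_top (ι := ι') (fun W => W.1) ?_ ?_
  · rw [eq_top_iff]
    rintro y -
    obtain ⟨A, hyA, hA⟩ := hU y.1 y.2
    obtain ⟨_, ⟨W, hW, rfl⟩, hyW, hWA⟩ :=
      U.toScheme.isBasis_affineOpens.exists_subset_of_mem_open
        (show y ∈ (U.ι ⁻¹ᵁ A.1 : U.toScheme.Opens) from hyA) (U.ι ⁻¹ᵁ A.1).2
    refine TopologicalSpace.Opens.mem_iSup.mpr ⟨⟨⟨W, hW⟩, A, ?_, hA⟩, hyW⟩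
    rintro _ ⟨z, hz, rfl⟩
    exact hWA hz
  · rintro ⟨W, A, hWA, hA⟩
    rw [Scheme.IdealSheafData.ideal_comap_of_isOpenImmersion]
    have : I.ideal ⟨U.ι ''ᵁ W.1, W.2.image_of_isOpenImmersion U.ι⟩ = ⊥ := by
      rw [← I.map_ideal (U := ⟨U.ι ''ᵁ W.1, W.2.image_of_isOpenImmersion U.ι⟩) (V := A) hWA, hA,
        Ideal.map_bot]
    rw [this]
    intro a ha
    have h1 : (U.ι.appIso W.1).inv.hom a = 0 := ha
    have h2 := congrArg (U.ι.appIso W.1).hom.hom h1
    rw [← RingHom.comp_apply, ← CommRingCat.hom_comp, Iso.inv_hom_id, map_zero] at h2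
    exact h2


theorem pow_le_comap_pow {X S : Scheme.{u}} (p : X ⟶ S) (x : X) (n : ℕ) :
    IsLocalRing.maximalIdeal (S.presheaf.stalk (p x)) ^ n ≤
      (IsLocalRing.maximalIdeal (X.presheaf.stalk x) ^ n).comap (p.stalkMap x).hom := by
  have h1 : IsLocalRing.maximalIdeal (S.presheaf.stalk (p x)) ≤
      (IsLocalRing.maximalIdeal (X.presheaf.stalk x)).comap (p.stalkMap x).hom :=
    ((IsLocalRing.local_hom_TFAE (p.stalkMap x).hom).out 0 3).mp (by infer_instance)
  exact (Ideal.pow_right_mono h1 n).trans (Ideal.le_comap_pow _ _)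

theorem factors_of_fibre {X S : Scheme.{u}} (p : X ⟶ S) (x : X) (I : X.IdealSheafData) (n : ℕ)
    (g : pullback p (Spec.map (CommRingCat.ofHom (Ideal.Quotient.mk
        (IsLocalRing.maximalIdeal ↑(S.presheaf.stalk (p x)) ^ (n + 1)))) ≫
          S.fromSpecStalk (p x)) ⟶ I.subscheme)
    (hg : g ≫ I.subschemeι = pullback.fst p _) :
    ∃ g' : Spec (CommRingCat.of (X.presheaf.stalk x ⧸
          IsLocalRing.maximalIdeal (X.presheaf.stalk x) ^ (n + 1))) ⟶ I.subscheme,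
        g' ≫ I.subschemeι = Spec.map (CommRingCat.ofHom (Ideal.Quotient.mk
          (IsLocalRing.maximalIdeal (X.presheaf.stalk x) ^ (n + 1)))) ≫ X.fromSpecStalk x := by
  let β : CommRingCat.of (S.presheaf.stalk (p x) ⧸
        IsLocalRing.maximalIdeal (S.presheaf.stalk (p x)) ^ (n + 1)) ⟶
      CommRingCat.of (X.presheaf.stalk x ⧸
        IsLocalRing.maximalIdeal (X.presheaf.stalk x) ^ (n + 1)) :=
    CommRingCat.ofHom (Ideal.quotientMap _ (p.stalkMap x).hom (pow_le_comap_pow p x (n + 1)))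
  have hβ : CommRingCat.ofHom (Ideal.Quotient.mk
        (IsLocalRing.maximalIdeal ↑(S.presheaf.stalk (p x)) ^ (n + 1))) ≫ β =
      p.stalkMap x ≫ CommRingCat.ofHom (Ideal.Quotient.mk
        (IsLocalRing.maximalIdeal (X.presheaf.stalk x) ^ (n + 1))) := by
    ext a
    rfl
  have compat : (Spec.map (CommRingCat.ofHom (Ideal.Quotient.mk
        (IsLocalRing.maximalIdeal (X.presheaf.stalk x) ^ (n + 1)))) ≫ X.fromSpecStalk x) ≫ p =
      Spec.map β ≫ (Spec.map (CommRingCat.ofHom (Ideal.Quotient.mk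
        (IsLocalRing.maximalIdeal ↑(S.presheaf.stalk (p x)) ^ (n + 1)))) ≫
          S.fromSpecStalk (p x)) := by
    rw [Category.assoc, ← Scheme.SpecMap_stalkMap_fromSpecStalk, ← Spec.map_comp_assoc,
      ← Category.assoc, ← Spec.map_comp, hβ]
    rfl
  refine ⟨pullback.lift _ _ compat ≫ g, ?_⟩
  rw [Category.assoc, hg, pullback.lift_fst]


theorem main {X S : Scheme.{u}} [IsLocallyNoetherian X] (p : X ⟶ S) (t : S)
    (I : X.IdealSheafData)
    (h : ∀ n : ℕ, ∃ g : pullback p (Spec.map (CommRingCat.ofHom (Ideal.Quotient.mk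
        (IsLocalRing.maximalIdeal ↑(S.presheaf.stalk t) ^ (n + 1)))) ≫ S.fromSpecStalk t) ⟶
          I.subscheme, g ≫ I.subschemeι = pullback.fst p _) :
    ∃ U : X.Opens, (∀ x : X, p.base x = t → x ∈ U) ∧
      ∃ g : (U : Scheme.{u}) ⟶ I.subscheme, g ≫ I.subschemeι = U.ι := by
  have key : ∀ x : X, p.base x = t → ∃ A : X.affineOpens, x ∈ A.1 ∧ I.ideal A = ⊥ := by
    intro x hx
    subst hx
    obtain ⟨_, ⟨V, hV, rfl⟩, hxV, -⟩ :=
      X.isBasis_affineOpens.exists_subset_of_mem_open (Set.mem_univ x) isOpen_univ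
    apply exists_affine_ideal_eq_bot I x hV hxV
    intro a ha
    refine germ_eq_zero_of_factors I x (fun n => ?_) hV hxV a ha
    obtain ⟨g, hg⟩ := h n
    exact factors_of_fibre p x I n g hg
  choose A hxA hA using key
  refine ⟨⨆ (x : X) (hx : p.base x = t), (A x hx).1, ?_, ?_⟩
  · intro x hx
    simp only [TopologicalSpace.Opens.mem_iSup]
    exact ⟨x, hx, hxA x hx⟩
  · have hle : I ≤ (Scheme.Opens.ι (⨆ (x : X) (hx : p.base x = t), (A x hx).1)).ker :=
      le_ker_ι_of_locally_bot I _ (by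
        intro y hy
        simp only [TopologicalSpace.Opens.mem_iSup] at hy
        obtain ⟨x, hx, hyx⟩ := hy
        exact ⟨A x hx, hyx, hA x hx⟩)
    exact ⟨IsClosedImmersion.lift I.subschemeι (Scheme.Opens.ι _)
      (by rw [I.ker_subschemeι]; exact hle), IsClosedImmersion.lift_fac _ _ _⟩

end Groth.Agent.R2.H90.KrullNhd
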