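import Mathlib
import Groth.Prelude.Def_LefPen

set_option autoImplicit false
universe u

/-!
# Tuples of points imposing independent conditions on forms of degree d (helper90, for S18464)
-/

namespace Groth.Agent.R2.H90.LefPenGen

open MvPolynomial

section
variable (k : Type u) [Field k] (r d m : ℕ)

/-- dimension of the space of forms -/
theorem finrank_form :
    Module.finrank k (LefPen.Form r k d) = Nat.choose (r + d) d := by
  classical
  change Module.finrank k ↥(homogeneousSubmodule (Fin (r + 1)) k d) = _
  rw [homogeneousSubmodule_eq_finsupp_supported]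
  have e := AddMonoidAlgebra.supportedEquivFinsupp (R := k) (S := k)
    {e : Fin (r + 1) →₀ ℕ | e.degree = d}
  rw [e.finrank_eq]
  let eq1 : Sym (Fin (r + 1)) d ≃ {e : Fin (r + 1) →₀ ℕ | e.degree = d} :=
    (Sym.equivNatSum (Fin (r + 1)) d).trans (Equiv.subtypeEquivRight (fun P => by
      simp only [Finsupp.sum, Set.mem_ofPred_eq]
      rfl))
  let _ : Fintype {e : Fin (r + 1) →₀ ℕ | e.degree = d} := Fintype.ofEquiv _ eq1
  rw [Module.finrank_finsupp_self, ← Fintype.card_congr eq1, Sym.card_sym_eq_choose]
  simp only [Fintype.card_fin]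
  have : r + 1 + d - 1 = r + d := by omega
  rw [this]

instance : Module.Finite k (LefPen.Form r k d) := by
  change Module.Finite k ↥(homogeneousSubmodule (Fin (r + 1)) k d)
  exact Module.Finite.iff_fg.mpr (homogeneousSubmodule_fg _ _ _)

/-- evaluation of forms at a vector -/
noncomputable def ev (y : Fin (r + 1) → k) : LefPen.Form r k d →ₗ[k] k :=
  (aeval y : MvPolynomial (Fin (r + 1)) k →ₐ[k] k).toLinearMap ∘ₗ
    (homogeneousSubmodule (Fin (r + 1)) k d).subtype

@[simp] theorem ev_apply (y : Fin (r + 1) → k) (G : LefPen.Form r k d) :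
    ev k r d y G = aeval y G.1 := rfl

/-- evaluation at an `m`-tuple -/
noncomputable def evAll (x : Fin m → (Fin (r + 1) → k)) : LefPen.Form r k d →ₗ[k] (Fin m → k) :=
  LinearMap.pi (fun i => ev k r d (x i))

@[simp] theorem evAll_apply (x : Fin m → (Fin (r + 1) → k)) (G : LefPen.Form r k d) (i : Fin m) :
    evAll k r d m x G i = aeval (x i) G.1 := rfl

/-- the set in question -/
def goodSet : Set (Fin m → (Fin (r + 1) → k)) :=
  {x | ∀ G : LefPen.Form r k d, (∀ i : Fin m, MvPolynomial.aeval (x i) G.1 = 0) → G = 0}

theorem mem_goodSet_iff (x : Fin m → (Fin (r + 1) → k)) :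
    x ∈ goodSet k r d m ↔ LinearMap.ker (evAll k r d m x) = ⊥ := by
  rw [LinearMap.ker_eq_bot']
  constructor
  · intro h G hG
    exact h G (fun i => congrFun hG i)
  · intro h G hG
    exact h G (funext hG)

/-- the subalgebra of polynomial functions -/
abbrev polyFun (V : Type u) [AddCommGroup V] [Module k V] : Subalgebra k (V → k) :=
  Algebra.adjoin k (Set.range (fun l : Module.Dual k V => (l : V → k)))

theorem coord_mem (i : Fin m) (a : Fin (r + 1)) :
    (fun x : Fin m → (Fin (r + 1) → k) => x i a) ∈ polyFun k (Fin m → (Fin (r + 1) → k)) := by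
  refine Algebra.subset_adjoin ⟨(LinearMap.proj a) ∘ₗ (LinearMap.proj i), ?_⟩
  rfl

theorem aeval_mem (i : Fin m) (G : MvPolynomial (Fin (r + 1)) k) :
    (fun x : Fin m → (Fin (r + 1) → k) => aeval (x i) G) ∈
      polyFun k (Fin m → (Fin (r + 1) → k)) := by
  induction G using MvPolynomial.induction_on with
  | C c =>
    have : (fun x : Fin m → (Fin (r + 1) → k) => aeval (x i) (C c : MvPolynomial (Fin (r + 1)) k)) =
        algebraMap k _ c := by
      funext x
      simp
    rw [this]
    exact Subalgebra.algebraMap_mem _ _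
  | add p q hp hq =>
    have : (fun x : Fin m → (Fin (r + 1) → k) => aeval (x i) (p + q)) =
        (fun x => aeval (x i) p) + (fun x => aeval (x i) q) := by
      funext x
      simp
    rw [this]
    exact Subalgebra.add_mem _ hp hq
  | mul_X p a hp =>
    have : (fun x : Fin m → (Fin (r + 1) → k) => aeval (x i) (p * X a)) =
        (fun x => aeval (x i) p) * (fun x => x i a) := by
      funext x
      simp
    rw [this]
    exact Subalgebra.mul_mem _ hp (coord_mem k r m i a)

theorem det_mem {V : Type u} [AddCommGroup V] [Module k V] {ι : Type*} [Fintype ι] [DecidableEq ι]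
    (M : V → Matrix ι ι k) (hM : ∀ i j, (fun w => M w i j) ∈ polyFun k V) :
    (fun w => (M w).det) ∈ polyFun k V := by
  let M' : Matrix ι ι (polyFun k V) := fun i j => ⟨fun w => M w i j, hM i j⟩
  have h1 : (fun w => (M w).det) = ((polyFun k V).val (M'.det) : V → k) := by
    funext w
    have h2 : ((polyFun k V).val (M'.det) : V → k) w =
        (Pi.evalRingHom (fun _ : V => k) w) (((polyFun k V).val : _ →+* (V → k)) M'.det) := rfl
    rw [h2, RingHom.map_det, RingHom.map_det]
    rfl
  rw [h1]
  exact (M'.det).2

theorem isZOpen_goodSet : LefPen.IsZOpen k (goodSet k r d m) := by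
  classical
  intro x hx
  rw [mem_goodSet_iff] at hx
  obtain ⟨L, hL⟩ := LinearMap.exists_leftInverse_of_injective (evAll k r d m x) hx
  let b := Module.finBasis k (LefPen.Form r k d)
  let M : (Fin m → (Fin (r + 1) → k)) → Matrix _ _ k :=
    fun w => LinearMap.toMatrix b b (L ∘ₗ evAll k r d m w)
  refine ⟨fun w => (M w).det, det_mem k M ?_, ?_, ?_⟩
  · intro i j
    have h1 : (fun w => M w i j) = ∑ l : Fin m, (fun w : Fin m → (Fin (r + 1) → k) =>
        aeval (w l) (b j).1) * algebraMap k _ (b.repr (L (Pi.single l 1)) i) := by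
      funext w
      have h2 : evAll k r d m w (b j) =
          ∑ l, (aeval (w l) (b j).1) • (Pi.single l 1 : Fin m → k) := by
        funext l'
        simp [Finset.sum_apply, Pi.single_apply]
      simp only [M, LinearMap.toMatrix_apply, LinearMap.comp_apply]
      rw [h2, map_sum, map_sum, Finsupp.coe_finsetSum, Finset.sum_apply, Finset.sum_apply]
      refine Finset.sum_congr rfl (fun l _ => ?_)
      rw [map_smul, map_smul, Finsupp.smul_apply, smul_eq_mul, Pi.mul_apply]
      rfl
    rw [h1]
    refine Subalgebra.sum_mem _ (fun l _ => Subalgebra.mul_mem _ (aeval_mem k r m l _) ?_)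
    exact Subalgebra.algebraMap_mem _ _
  · have : M x = 1 := by
      simp only [M]
      rw [hL]
      exact LinearMap.toMatrix_id b
    change (M x).det ≠ 0
    rw [this, Matrix.det_one]
    exact one_ne_zero
  · intro w hw
    change (M w).det ≠ 0 at hw
    simp only [M] at hw
    rw [LinearMap.det_toMatrix] at hw
    rw [mem_goodSet_iff]
    have hinj : Function.Injective (L ∘ₗ evAll k r d m w) :=
      (LinearMap.equivOfDetNeZero _ hw).injective
    rw [← LinearMap.ker_eq_bot] at hinj
    exact le_bot_iff.mp (hinj ▸ LinearMap.ker_le_ker_comp _ _)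

theorem goodSet_nonempty [Infinite k] (hm : Nat.choose (r + d) d ≤ m) :
    (goodSet k r d m).Nonempty := by
  classical
  let s : Set (Module.Dual k (LefPen.Form r k d)) := Set.range (ev k r d)
  have hspan : Submodule.span k s = ⊤ := by
    have h0 : (Submodule.span k s).dualCoannihilator = ⊥ := by
      rw [eq_bot_iff]
      intro G hG
      rw [Submodule.mem_dualCoannihilator] at hG
      have h1 : ∀ y : Fin (r + 1) → k, aeval y G.1 = 0 := fun y =>
        hG (ev k r d y) (Submodule.subset_span ⟨y, rfl⟩)
      have h2 : G.1 = 0 := MvPolynomial.funext (fun y => by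
        rw [map_zero, ← h1 y, MvPolynomial.aeval_eq_eval])
      exact (Submodule.mem_bot k).mpr (Subtype.ext h2)
    have h3 := Subspace.dualCoannihilator_dualAnnihilator_eq (W := Submodule.span k s)
    rw [h0, Submodule.dualAnnihilator_bot] at h3
    exact h3.symm
  obtain ⟨f, hf1, hf2, -⟩ := Submodule.exists_fun_fin_finrank_span_eq k s
  have hN' : Module.finrank k (Submodule.span k s) ≤ m := by
    refine (Submodule.finrank_le _).trans ?_
    rw [Subspace.dual_finrank_eq, finrank_form]
    exact hm
  choose y hy using hf1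
  refine ⟨fun l => if h : (l : ℕ) < Module.finrank k (Submodule.span k s) then y ⟨l, h⟩ else 0, ?_⟩
  intro G hG
  have h1 : ∀ i, f i G = 0 := by
    intro i
    have h4 := hG ⟨i, lt_of_lt_of_le i.2 hN'⟩
    simp only [Fin.is_lt, dite_true, Fin.eta] at h4
    rw [← hy i]
    exact h4
  have h2 : ∀ φ : Module.Dual k (LefPen.Form r k d), φ G = 0 := by
    intro φ
    have h5 : φ ∈ Submodule.span k (Set.range f) := by
      rw [hf2, hspan]; trivial
    induction h5 using Submodule.span_induction with
    | mem φ hφ =>
      obtain ⟨i, rfl⟩ := hφ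
      exact h1 i
    | zero => rfl
    | add φ ψ _ _ h6 h7 => rw [LinearMap.add_apply, h6, h7, add_zero]
    | smul c φ _ h6 => rw [LinearMap.smul_apply, h6, smul_zero]
  exact (Module.forall_dual_apply_eq_zero_iff k G).mp h2

end

end Groth.Agent.R2.H90.LefPenGen
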