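import Mathlib
import Groth.Prelude.Def_W4c5spincurvestfNode

set_option autoImplicit false

open SpinCurv MvPowerSeries Finsupp

namespace Groth.Agent.R2.H90.NodeMF

universe u
variable {R : Type u} [CommRing R]

/-- the exponent `x^a y^b` -/
noncomputable def ab (a b : ℕ) : Fin 2 →₀ ℕ := single 0 a + single 1 b

@[simp] lemma ab_zero (a b : ℕ) : ab a b 0 = a := by simp [ab]
@[simp] lemma ab_one (a b : ℕ) : ab a b 1 = b := by simp [ab]

lemma eq_ab (d : Fin 2 →₀ ℕ) : d = ab (d 0) (d 1) := by
  ext i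
  fin_cases i <;> simp

lemma ab_inj {a b a' b' : ℕ} (h : ab a b = ab a' b') : a = a' ∧ b = b' := by
  constructor
  · simpa using DFunLike.congr_fun h 0
  · simpa using DFunLike.congr_fun h 1

theorem coeff_XY_mul (G : MvPowerSeries (Fin 2) R) (d : Fin 2 →₀ ℕ) :
    coeff d (X 0 * X 1 * G) =
      if 1 ≤ d 0 ∧ 1 ≤ d 1 then coeff (d - ab 1 1) G else 0 := by
  rw [X_def, X_def, monomial_mul_monomial, coeff_monomial_mul, one_mul, one_mul]
  have : (single (0 : Fin 2) 1 + single (1 : Fin 2) 1 ≤ d) ↔ (1 ≤ d 0 ∧ 1 ≤ d 1) := by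
    rw [Finsupp.le_def]
    constructor
    · intro h
      exact ⟨by simpa using h 0, by simpa using h 1⟩
    · rintro ⟨h0, h1⟩ i
      fin_cases i
      · simpa using h0
      · simpa using h1
  simp only [this, ab]

theorem coeff_XY_mul_succ (G : MvPowerSeries (Fin 2) R) (a b : ℕ) :
    coeff (ab (a + 1) (b + 1)) (X 0 * X 1 * G) = coeff (ab a b) G := by
  have : ab (a + 1) (b + 1) - ab 1 1 = ab a b := by
    ext i
    fin_cases i <;> simp
  rw [coeff_XY_mul, if_pos (by simp), this]

/-- `xy - π` is a non-zero-divisor when `π` lies in an ideal for which `R` is separated. -/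
theorem eq_zero_of_mul_eq_zero (I : Ideal R) [IsHausdorff I R] (π : R) (hπ : π ∈ I)
    (G : MvPowerSeries (Fin 2) R) (h : (X 0 * X 1 - C π) * G = 0) : G = 0 := by
  have step : ∀ a b, coeff (ab a b) G = π * coeff (ab (a + 1) (b + 1)) G := by
    intro a b
    have := congrArg (coeff (ab (a + 1) (b + 1))) h
    rw [sub_mul, map_sub, coeff_XY_mul_succ, coeff_C_mul, map_zero, sub_eq_zero] at this
    exact this
  have iter : ∀ n a b, coeff (ab a b) G = π ^ n * coeff (ab (a + n) (b + n)) G := by
    intro n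
    induction n with
    | zero => intro a b; simp
    | succ n ih =>
      intro a b
      rw [step a b, ih (a + 1) (b + 1), pow_succ', mul_assoc,
        show a + 1 + n = a + (n + 1) by omega, show b + 1 + n = b + (n + 1) by omega]
  ext d
  change coeff d G = 0
  rw [eq_ab d]
  apply IsHausdorff.haus' (I := I)
  intro n
  rw [SModEq.zero, iter n, ← smul_eq_mul]
  exact Submodule.smul_mem_smul (Ideal.pow_mem_pow hπ n) Submodule.mem_top


lemma algebraMap_eq_mk (π r : R) :
    algebraMap R (NodeRing R π) r = Ideal.Quotient.mk _ (C r : MvPowerSeries (Fin 2) R) := rfl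

lemma x_mul_y (π : R) : NodeRing.x R π * NodeRing.y R π = algebraMap R (NodeRing R π) π := by
  rw [algebraMap_eq_mk, ← map_mul, Ideal.Quotient.eq]
  exact Ideal.subset_span rfl

theorem ker_eq (I : Ideal R) [IsHausdorff I R] (p q : R) (hpq : p * q ∈ I) :
    LinearMap.ker (Matrix.mulVecLin (nodeAlpha R p q)) =
      Submodule.span (NodeRing R (p * q))
        {![algebraMap R (NodeRing R (p * q)) p, -NodeRing.x R (p * q)],
         ![NodeRing.y R (p * q), -algebraMap R (NodeRing R (p * q)) q]} := by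
  have hxy : NodeRing.x R (p * q) * NodeRing.y R (p * q) =
      algebraMap R (NodeRing R (p * q)) p * algebraMap R (NodeRing R (p * q)) q := by
    rw [x_mul_y, map_mul]
  apply le_antisymm
  · intro v hv
    rw [LinearMap.mem_ker, Matrix.mulVecLin_apply] at hv
    obtain ⟨a', ha'⟩ := Ideal.Quotient.mk_surjective (v 0)
    obtain ⟨b', hb'⟩ := Ideal.Quotient.mk_surjective (v 1)
    have h0 := congrFun hv 0
    have h1 := congrFun hv 1
    simp only [nodeAlpha, Matrix.mulVec, dotProduct, Fin.sum_univ_two, Matrix.of_apply,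
      Matrix.cons_val_zero, Matrix.cons_val_one, Pi.zero_apply, ← ha', ← hb', algebraMap_eq_mk,
      ← map_mul, ← map_add] at h0 h1
    rw [Ideal.Quotient.eq_zero_iff_mem, Ideal.mem_span_singleton'] at h0 h1
    obtain ⟨u₁, hu₁⟩ := h0
    obtain ⟨u₂, hu₂⟩ := h1
    have ea : a' = X 1 * u₁ - C p * u₂ := by
      rw [← sub_eq_zero]
      apply eq_zero_of_mul_eq_zero I (p * q) hpq
      have : (X 0 * X 1 - C (p * q)) * (a' - (X 1 * u₁ - C p * u₂)) =
          X 1 * (X 0 * a' + C p * b' - u₁ * (X 0 * X 1 - C (p * q))) -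
            C p * (C q * a' + X 1 * b' - u₂ * (X 0 * X 1 - C (p * q))) := by
        rw [map_mul]; ring
      rw [this, hu₁, hu₂]; ring
    have eb : b' = X 0 * u₂ - C q * u₁ := by
      rw [← sub_eq_zero]
      apply eq_zero_of_mul_eq_zero I (p * q) hpq
      have : (X 0 * X 1 - C (p * q)) * (b' - (X 0 * u₂ - C q * u₁)) =
          X 0 * (C q * a' + X 1 * b' - u₂ * (X 0 * X 1 - C (p * q))) -
            C q * (X 0 * a' + C p * b' - u₁ * (X 0 * X 1 - C (p * q))) := by
        rw [map_mul]; ring
      rw [this, hu₁, hu₂]; ring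
    rw [Submodule.mem_span_pair]
    refine ⟨-(Ideal.Quotient.mk _ u₂), Ideal.Quotient.mk _ u₁, ?_⟩
    ext i
    fin_cases i
    · change -(Ideal.Quotient.mk _ u₂) * (Ideal.Quotient.mk _ (C p)) +
        Ideal.Quotient.mk _ u₁ * Ideal.Quotient.mk _ (X 1) = v 0
      rw [← ha', ea, map_sub, (Ideal.Quotient.mk _).map_mul (X 1) u₁,
        (Ideal.Quotient.mk _).map_mul (C p) u₂]
      ring
    · change -(Ideal.Quotient.mk _ u₂) * (-Ideal.Quotient.mk _ (X 0)) +
        Ideal.Quotient.mk _ u₁ * (-Ideal.Quotient.mk _ (C q)) = v 1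
      rw [← hb', eb, map_sub, (Ideal.Quotient.mk _).map_mul (X 0) u₂,
        (Ideal.Quotient.mk _).map_mul (C q) u₁]
      ring
  · rw [Submodule.span_le]
    rintro v (rfl | rfl)
    · rw [SetLike.mem_coe, LinearMap.mem_ker, Matrix.mulVecLin_apply]
      ext i
      fin_cases i
      · simp only [nodeAlpha, Matrix.mulVec, dotProduct, Fin.sum_univ_two, Fin.zero_eta,
          Matrix.of_apply, Matrix.cons_val_zero, Matrix.cons_val_one, Pi.zero_apply]
        ring
      · simp only [nodeAlpha, Matrix.mulVec, dotProduct, Fin.sum_univ_two, Fin.mk_one,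
          Matrix.of_apply, Matrix.cons_val_zero, Matrix.cons_val_one, Pi.zero_apply]
        linear_combination (-1 : NodeRing R (p * q)) * hxy
    · rw [SetLike.mem_coe, LinearMap.mem_ker, Matrix.mulVecLin_apply]
      ext i
      fin_cases i
      · simp only [nodeAlpha, Matrix.mulVec, dotProduct, Fin.sum_univ_two, Fin.zero_eta,
          Matrix.of_apply, Matrix.cons_val_zero, Matrix.cons_val_one, Pi.zero_apply]
        linear_combination hxy
      · simp only [nodeAlpha, Matrix.mulVec, dotProduct, Fin.sum_univ_two, Fin.mk_one,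
          Matrix.of_apply, Matrix.cons_val_zero, Matrix.cons_val_one, Pi.zero_apply]
        ring

end Groth.Agent.R2.H90.NodeMF
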