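import Mathlib
import Groth.Prelude.Def_W4c5spincurvestfNode
import Groth.Agent.R2.H90NodeMF

set_option autoImplicit false

open SpinCurv MvPowerSeries Finsupp

namespace Groth.Agent.R2.H90.NodeNF

open Groth.Agent.R2.H90.NodeMF

universe u
variable {R : Type u} [CommRing R]

section Sum

variable (I : Ideal R) (π : R)

lemma partial_sum_sub_mem (hπ : π ∈ I) (c : ℕ → R) (m k : ℕ) :
    ∑ n ∈ Finset.range (m + k), π ^ n * c n - ∑ n ∈ Finset.range m, π ^ n * c n ∈ I ^ m := by
  rw [Finset.sum_range_add, add_sub_cancel_left]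
  refine Ideal.sum_mem _ (fun x _ => ?_)
  rw [pow_add, mul_assoc]
  exact Ideal.mul_mem_right _ _ (Ideal.pow_mem_pow hπ m)

variable [IsAdicComplete I R]

theorem exists_sum (hπ : π ∈ I) (c : ℕ → R) :
    ∃ L : R, ∀ N, ∑ n ∈ Finset.range N, π ^ n * c n ≡ L [SMOD (I ^ N • ⊤ : Submodule R R)] := by
  apply IsPrecomplete.prec' (I := I)
  intro m n hmn
  obtain ⟨k, rfl⟩ := Nat.exists_eq_add_of_le hmn
  rw [SModEq.comm, SModEq.sub_mem, smul_eq_mul, Ideal.mul_top]
  exact partial_sum_sub_mem I π hπ c m k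

/-- the sum `∑ πⁿ cₙ` -/
noncomputable def L (hπ : π ∈ I) (c : ℕ → R) : R := (exists_sum I π hπ c).choose

theorem L_spec (hπ : π ∈ I) (c : ℕ → R) (N : ℕ) :
    ∑ n ∈ Finset.range N, π ^ n * c n - L I π hπ c ∈ I ^ N := by
  have := (exists_sum I π hπ c).choose_spec N
  rw [SModEq.sub_mem, smul_eq_mul, Ideal.mul_top] at this
  exact this

theorem L_succ (hπ : π ∈ I) (c : ℕ → R) :
    L I π hπ c = c 0 + π * L I π hπ (fun n => c (n + 1)) := by
  rw [← sub_eq_zero]
  apply IsHausdorff.haus' (I := I)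
  intro N
  rw [SModEq.zero, smul_eq_mul, Ideal.mul_top]
  have h1 := L_spec I π hπ c (N + 1)
  have h2 := L_spec I π hπ (fun n => c (n + 1)) N
  have h3 : ∑ n ∈ Finset.range (N + 1), π ^ n * c n =
      c 0 + π * ∑ n ∈ Finset.range N, π ^ n * c (n + 1) := by
    rw [Finset.sum_range_succ', Finset.mul_sum, add_comm]
    simp only [pow_zero, one_mul, pow_succ]
    congr 1
    refine Finset.sum_congr rfl (fun n _ => ?_)
    ring
  have : L I π hπ c - (c 0 + π * L I π hπ (fun n => c (n + 1))) =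
      π * (∑ n ∈ Finset.range N, π ^ n * c (n + 1) - L I π hπ (fun n => c (n + 1))) -
      (∑ n ∈ Finset.range (N + 1), π ^ n * c n - L I π hπ c) := by
    rw [h3]; ring
  rw [this]
  exact Ideal.sub_mem _ (Ideal.mul_mem_left _ _ h2) (Ideal.pow_le_pow_right (Nat.le_succ N) h1)

end Sum


section Coeff

lemma ab_eq_single_zero (a : ℕ) : ab a 0 = single 0 a := by simp [ab]
lemma ab_eq_single_one (b : ℕ) : ab 0 b = single 1 b := by simp [ab]

theorem coeff_toMv_single (i : Fin 2) (f : PowerSeries R) (n : ℕ) :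
    coeff (single i n) (PowerSeries.toMvPowerSeries i f) = PowerSeries.coeff n f := by
  have := coeff_embDomain_rename (R := R) (Function.Embedding.punit i) f (single () n)
  rw [Finsupp.embDomain_single] at this
  exact this

theorem coeff_toMv_of_ne (i j : Fin 2) (hij : j ≠ i) (f : PowerSeries R) (d : Fin 2 →₀ ℕ)
    (hd : d j ≠ 0) : coeff d (PowerSeries.toMvPowerSeries i f) = 0 := by
  apply coeff_rename_eq_zero
  rintro ⟨x, rfl⟩
  apply hd
  rw [Finsupp.unique_single x, Finsupp.mapDomain_single, Finsupp.single_apply, if_neg (Ne.symm hij)]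

end Coeff


section NF

/-- A series is pure if no mixed monomials occur. -/
def IsPure (F : MvPowerSeries (Fin 2) R) : Prop := ∀ a b, coeff (ab (a + 1) (b + 1)) F = 0

theorem exists_of_isPure (F : MvPowerSeries (Fin 2) R) (hF : IsPure F) :
    ∃ f g : PowerSeries R,
      F = PowerSeries.toMvPowerSeries 0 f + PowerSeries.toMvPowerSeries 1 g := by
  refine ⟨PowerSeries.mk (fun a => coeff (ab a 0) F),
    PowerSeries.mk (fun b => if b = 0 then 0 else coeff (ab 0 b) F), ?_⟩
  ext d
  rw [eq_ab d, map_add]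
  generalize d 0 = a
  generalize d 1 = b
  rcases Nat.eq_zero_or_eq_succ_pred b with hb | hb
  · subst hb
    rcases Nat.eq_zero_or_eq_succ_pred a with ha | ha
    · subst ha
      rw [ab_eq_single_zero, coeff_toMv_single, PowerSeries.coeff_mk, ← ab_eq_single_zero,
        show ab 0 0 = single (1 : Fin 2) 0 by simp [ab], coeff_toMv_single, PowerSeries.coeff_mk,
        if_pos rfl, add_zero]
    · rw [coeff_toMv_of_ne 1 0 (by decide) _ (ab a 0) (by rw [ab_zero]; omega), add_zero,
        ab_eq_single_zero, coeff_toMv_single, PowerSeries.coeff_mk, ab_eq_single_zero]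
  · rcases Nat.eq_zero_or_eq_succ_pred a with ha | ha
    · subst ha
      rw [coeff_toMv_of_ne 0 1 (by decide) _ (ab 0 b) (by rw [ab_one]; omega), zero_add,
        ab_eq_single_one, coeff_toMv_single, PowerSeries.coeff_mk, if_neg (by omega),
        ab_eq_single_one]
    · rw [coeff_toMv_of_ne 0 1 (by decide) _ (ab a b) (by rw [ab_one]; omega),
        coeff_toMv_of_ne 1 0 (by decide) _ (ab a b) (by rw [ab_zero]; omega), add_zero,
        ha, hb]
      exact hF _ _

variable (I : Ideal R) [IsAdicComplete I R] (π : R)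

theorem exists_normal_form (hπ : π ∈ I) (F : MvPowerSeries (Fin 2) R) :
    ∃ (f g : PowerSeries R) (G : MvPowerSeries (Fin 2) R),
      F = PowerSeries.toMvPowerSeries 0 f + PowerSeries.toMvPowerSeries 1 g +
        (X 0 * X 1 - C π) * G := by
  let G : MvPowerSeries (Fin 2) R :=
    fun d => L I π hπ (fun n => coeff (ab (d 0 + n + 1) (d 1 + n + 1)) F)
  have hG : ∀ a b, coeff (ab a b) G =
      coeff (ab (a + 1) (b + 1)) F + π * coeff (ab (a + 1) (b + 1)) G := by
    intro a b
    change L I π hπ (fun n => coeff (ab (ab a b 0 + n + 1) (ab a b 1 + n + 1)) F) =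
      coeff (ab (a + 1) (b + 1)) F +
        π * L I π hπ (fun n => coeff (ab (ab (a + 1) (b + 1) 0 + n + 1)
          (ab (a + 1) (b + 1) 1 + n + 1)) F)
    rw [L_succ]
    simp only [ab_zero, ab_one, add_zero]
    congr 3
    funext n
    rw [show a + (n + 1) + 1 = a + 1 + n + 1 by omega, show b + (n + 1) + 1 = b + 1 + n + 1 by omega]
  have hpure : IsPure (F - (X 0 * X 1 - C π) * G) := by
    intro a b
    rw [map_sub, sub_mul, map_sub, coeff_XY_mul_succ, coeff_C_mul, hG a b]
    ring
  obtain ⟨f, g, hfg⟩ := exists_of_isPure _ hpure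
  exact ⟨f, g, G, by rw [← hfg]; ring⟩

end NF


section Uniq

theorem coeff_X0_mul_succ (F : MvPowerSeries (Fin 2) R) (a b : ℕ) :
    coeff (ab (a + 1) b) (X 0 * F) = coeff (ab a b) F := by
  have : ab (a + 1) b - single 0 1 = ab a b := by
    ext i
    fin_cases i <;> simp
  rw [X_def, coeff_monomial_mul, if_pos, one_mul, this]
  rw [Finsupp.le_def]
  intro i
  fin_cases i <;> simp

theorem coeff_X0_mul_zero (F : MvPowerSeries (Fin 2) R) (b : ℕ) :
    coeff (ab 0 b) (X 0 * F) = 0 := by
  rw [X_def, coeff_monomial_mul, if_neg]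
  rw [Finsupp.le_def]
  intro h
  simpa using h 0

theorem coeff_X1_mul_succ (F : MvPowerSeries (Fin 2) R) (a b : ℕ) :
    coeff (ab a (b + 1)) (X 1 * F) = coeff (ab a b) F := by
  have : ab a (b + 1) - single 1 1 = ab a b := by
    ext i
    fin_cases i <;> simp
  rw [X_def, coeff_monomial_mul, if_pos, one_mul, this]
  rw [Finsupp.le_def]
  intro i
  fin_cases i <;> simp

theorem coeff_toMv0 (f : PowerSeries R) (a b : ℕ) :
    coeff (ab a b) (PowerSeries.toMvPowerSeries 0 f) = if b = 0 then PowerSeries.coeff a f else 0 := by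
  split_ifs with hb
  · subst hb
    rw [ab_eq_single_zero, coeff_toMv_single]
  · exact coeff_toMv_of_ne 0 1 (by decide) f _ (by rw [ab_one]; exact hb)

theorem coeff_toMv1 (g : PowerSeries R) (a b : ℕ) :
    coeff (ab a b) (PowerSeries.toMvPowerSeries 1 g) = if a = 0 then PowerSeries.coeff b g else 0 := by
  split_ifs with ha
  · subst ha
    rw [ab_eq_single_one, coeff_toMv_single]
  · exact coeff_toMv_of_ne 1 0 (by decide) g _ (by rw [ab_zero]; exact ha)

variable (I : Ideal R) [IsHausdorff I R] (π : R)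

theorem eq_zero_of_isPure_of_mem (hπ : π ∈ I) (F : MvPowerSeries (Fin 2) R) (hF : IsPure F)
    (hmem : F ∈ Ideal.span {(X 0 * X 1 - C π : MvPowerSeries (Fin 2) R)}) : F = 0 := by
  obtain ⟨G, rfl⟩ := Ideal.mem_span_singleton'.mp hmem
  have step : ∀ a b, coeff (ab a b) G = π * coeff (ab (a + 1) (b + 1)) G := by
    intro a b
    have := hF a b
    rw [mul_comm, sub_mul, map_sub, coeff_XY_mul_succ, coeff_C_mul, sub_eq_zero] at this
    exact this
  have iter : ∀ n a b, coeff (ab a b) G = π ^ n * coeff (ab (a + n) (b + n)) G := by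
    intro n
    induction n with
    | zero => intro a b; simp
    | succ n ih =>
      intro a b
      rw [step a b, ih (a + 1) (b + 1), pow_succ', mul_assoc,
        show a + 1 + n = a + (n + 1) by omega, show b + 1 + n = b + (n + 1) by omega]
  have hG : G = 0 := by
    ext d
    change coeff d G = 0
    rw [eq_ab d]
    apply IsHausdorff.haus' (I := I)
    intro n
    rw [SModEq.zero, iter n, ← smul_eq_mul]
    exact Submodule.smul_mem_smul (Ideal.pow_mem_pow hπ n) Submodule.mem_top
  rw [hG, zero_mul]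

end Uniq


section Final

variable (p q : R)

lemma mulVec_zero (a b : NodeRing R (p * q)) :
    Matrix.mulVec (nodeAlpha R p q) ![a, b] 0 =
      NodeRing.x R (p * q) * a + algebraMap R (NodeRing R (p * q)) p * b := by
  simp [nodeAlpha, Matrix.mulVec, dotProduct, Fin.sum_univ_two]

lemma mulVec_one (a b : NodeRing R (p * q)) :
    Matrix.mulVec (nodeAlpha R p q) ![a, b] 1 =
      algebraMap R (NodeRing R (p * q)) q * a + NodeRing.y R (p * q) * b := by
  simp [nodeAlpha, Matrix.mulVec, dotProduct, Fin.sum_univ_two]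

/-- first component upstairs -/
noncomputable def T0 (f g : PowerSeries R) : MvPowerSeries (Fin 2) R :=
  X 0 * PowerSeries.toMvPowerSeries 0 f + C p * PowerSeries.toMvPowerSeries 1 g

/-- second component upstairs -/
noncomputable def T1 (f g : PowerSeries R) : MvPowerSeries (Fin 2) R :=
  C q * PowerSeries.toMvPowerSeries 0 f + X 1 * PowerSeries.toMvPowerSeries 1 g

lemma T0_sub (f g f' g' : PowerSeries R) : T0 p f g - T0 p f' g' = T0 p (f - f') (g - g') := by
  simp only [T0, map_sub]; ring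

lemma T1_sub (f g f' g' : PowerSeries R) : T1 q f g - T1 q f' g' = T1 q (f - f') (g - g') := by
  simp only [T1, map_sub]; ring

lemma isPure_T0 (f g : PowerSeries R) : IsPure (T0 p f g) := by
  intro a b
  rw [T0, map_add, coeff_X0_mul_succ, coeff_C_mul, coeff_toMv0, coeff_toMv1, if_neg (by omega),
    if_neg (by omega), mul_zero, add_zero]

lemma isPure_T1 (f g : PowerSeries R) : IsPure (T1 q f g) := by
  intro a b
  rw [T1, map_add, coeff_X1_mul_succ, coeff_C_mul, coeff_toMv0, coeff_toMv1, if_neg (by omega),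
    if_neg (by omega), mul_zero, add_zero]

lemma eq_zero_of_T0 (f g : PowerSeries R) (h : T0 p f g = 0) : f = 0 := by
  ext a
  have := congrArg (coeff (ab (a + 1) 0)) h
  rw [T0, map_add, coeff_X0_mul_succ, coeff_C_mul, coeff_toMv0, coeff_toMv1, if_pos rfl,
    if_neg (by omega), mul_zero, add_zero, map_zero] at this
  rw [this, map_zero]

lemma eq_zero_of_T1 (f g : PowerSeries R) (h : T1 q f g = 0) : g = 0 := by
  ext b
  have := congrArg (coeff (ab 0 (b + 1))) h
  rw [T1, map_add, coeff_X1_mul_succ, coeff_C_mul, coeff_toMv0, coeff_toMv1, if_pos rfl,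
    if_neg (by omega), mul_zero, zero_add, map_zero] at this
  rw [this, map_zero]

lemma mk_T0 (f g : PowerSeries R) :
    Matrix.mulVec (nodeAlpha R p q) ![NodeRing.ofX R (p * q) f, NodeRing.ofY R (p * q) g] 0 =
      Ideal.Quotient.mk _ (T0 p f g) := by
  rw [mulVec_zero, T0, map_add, (Ideal.Quotient.mk _).map_mul (X 0), (Ideal.Quotient.mk _).map_mul (C p)]
  rfl

lemma mk_T1 (f g : PowerSeries R) :
    Matrix.mulVec (nodeAlpha R p q) ![NodeRing.ofX R (p * q) f, NodeRing.ofY R (p * q) g] 1 =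
      Ideal.Quotient.mk _ (T1 q f g) := by
  rw [mulVec_one, T1, map_add, (Ideal.Quotient.mk _).map_mul (C q), (Ideal.Quotient.mk _).map_mul (X 1)]
  rfl

variable (I : Ideal R) [IsAdicComplete I R]

theorem injective (hpq : p * q ∈ I) :
    Function.Injective (fun fg : PowerSeries R × PowerSeries R =>
        Matrix.mulVec (nodeAlpha R p q)
          ![NodeRing.ofX R (p * q) fg.1, NodeRing.ofY R (p * q) fg.2]) := by
  rintro ⟨f, g⟩ ⟨f', g'⟩ h
  have h0 := congrFun h 0
  have h1 := congrFun h 1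
  simp only [mk_T0, mk_T1] at h0 h1
  rw [Ideal.Quotient.eq, T0_sub] at h0
  rw [Ideal.Quotient.eq, T1_sub] at h1
  have e0 := eq_zero_of_T0 p _ _ (eq_zero_of_isPure_of_mem I (p * q) hpq _ (isPure_T0 p _ _) h0)
  have e1 := eq_zero_of_T1 q _ _ (eq_zero_of_isPure_of_mem I (p * q) hpq _ (isPure_T1 q _ _) h1)
  rw [sub_eq_zero] at e0 e1
  rw [e0, e1]

end Final


section Range

variable (p q : R) (I : Ideal R) [IsAdicComplete I R]

lemma ofX_add (f g : PowerSeries R) (π : R) :
    NodeRing.ofX R π (f + g) = NodeRing.ofX R π f + NodeRing.ofX R π g := by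
  simp only [NodeRing.ofX, map_add]

lemma ofY_add (f g : PowerSeries R) (π : R) :
    NodeRing.ofY R π (f + g) = NodeRing.ofY R π f + NodeRing.ofY R π g := by
  simp only [NodeRing.ofY, map_add]

lemma ofX_C_mul (c : R) (f : PowerSeries R) (π : R) :
    NodeRing.ofX R π (PowerSeries.C c * f) = algebraMap R (NodeRing R π) c * NodeRing.ofX R π f := by
  simp only [NodeRing.ofX, map_mul, PowerSeries.toMvPowerSeries_C]
  rfl

lemma ofY_C_mul (c : R) (f : PowerSeries R) (π : R) :
    NodeRing.ofY R π (PowerSeries.C c * f) = algebraMap R (NodeRing R π) c * NodeRing.ofY R π f := by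
  simp only [NodeRing.ofY, map_mul, PowerSeries.toMvPowerSeries_C]
  rfl

lemma ofX_C (c : R) (π : R) :
    NodeRing.ofX R π (PowerSeries.C c) = algebraMap R (NodeRing R π) c := by
  simp only [NodeRing.ofX, PowerSeries.toMvPowerSeries_C]
  rfl

lemma ofY_C (c : R) (π : R) :
    NodeRing.ofY R π (PowerSeries.C c) = algebraMap R (NodeRing R π) c := by
  simp only [NodeRing.ofY, PowerSeries.toMvPowerSeries_C]
  rfl

lemma ofX_X_mul (f : PowerSeries R) (π : R) :
    NodeRing.ofX R π (PowerSeries.X * f) = NodeRing.x R π * NodeRing.ofX R π f := by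
  simp only [NodeRing.ofX, map_mul, PowerSeries.toMvPowerSeries_X]

lemma ofY_X_mul (f : PowerSeries R) (π : R) :
    NodeRing.ofY R π (PowerSeries.X * f) = NodeRing.y R π * NodeRing.ofY R π f := by
  simp only [NodeRing.ofY, map_mul, PowerSeries.toMvPowerSeries_X]

theorem exists_nf (π : R) (hπ : π ∈ I) (a : NodeRing R π) :
    ∃ f g : PowerSeries R, a = NodeRing.ofX R π f + NodeRing.ofY R π g := by
  obtain ⟨a', rfl⟩ := Ideal.Quotient.mk_surjective a
  obtain ⟨f, g, G, h⟩ := exists_normal_form I π hπ a'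
  refine ⟨f, g, ?_⟩
  rw [h, map_add, map_add]
  have : (Ideal.Quotient.mk (Ideal.span {(X 0 * X 1 - C π : MvPowerSeries (Fin 2) R)}))
      ((X 0 * X 1 - C π) * G) = 0 := by
    rw [Ideal.Quotient.eq_zero_iff_mem]
    exact Ideal.mul_mem_right _ _ (Ideal.subset_span rfl)
  rw [this, add_zero]

theorem exists_nfX (π : R) (hπ : π ∈ I) (a : NodeRing R π) :
    ∃ f g : PowerSeries R, a = NodeRing.ofX R π f + NodeRing.y R π * NodeRing.ofY R π g := by
  obtain ⟨f, g, rfl⟩ := exists_nf I π hπ a
  refine ⟨f + PowerSeries.C (PowerSeries.constantCoeff g),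
    PowerSeries.mk fun n => PowerSeries.coeff (n + 1) g, ?_⟩
  conv_lhs => rw [PowerSeries.eq_X_mul_shift_add_const g]
  rw [ofY_add, ofY_X_mul, ofY_C, ofX_add, ofX_C]
  ring

theorem exists_nfY (π : R) (hπ : π ∈ I) (a : NodeRing R π) :
    ∃ f g : PowerSeries R, a = NodeRing.ofY R π g + NodeRing.x R π * NodeRing.ofX R π f := by
  obtain ⟨f, g, rfl⟩ := exists_nf I π hπ a
  refine ⟨PowerSeries.mk fun n => PowerSeries.coeff (n + 1) f,
    g + PowerSeries.C (PowerSeries.constantCoeff f), ?_⟩
  conv_lhs => rw [PowerSeries.eq_X_mul_shift_add_const f]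
  rw [ofX_add, ofX_X_mul, ofX_C, ofY_add, ofY_C]
  ring

theorem range_eq (hpq : p * q ∈ I) :
    Set.range (fun fg : PowerSeries R × PowerSeries R =>
        Matrix.mulVec (nodeAlpha R p q)
          ![NodeRing.ofX R (p * q) fg.1, NodeRing.ofY R (p * q) fg.2]) =
      Set.range (Matrix.mulVec (nodeAlpha R p q)) := by
  apply Set.Subset.antisymm
  · rintro _ ⟨fg, rfl⟩
    exact ⟨_, rfl⟩
  · rintro _ ⟨v, rfl⟩
    have hv : v = ![v 0, v 1] := by
      ext i
      fin_cases i <;> rfl
    obtain ⟨a₁, a₂, ha⟩ := exists_nfX I (p * q) hpq (v 0)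
    obtain ⟨b₂, b₁, hb⟩ := exists_nfY I (p * q) hpq (v 1)
    have hxy : NodeRing.x R (p * q) * NodeRing.y R (p * q) =
        algebraMap R (NodeRing R (p * q)) p * algebraMap R (NodeRing R (p * q)) q := by
      rw [x_mul_y, map_mul]
    refine ⟨(a₁ + PowerSeries.C p * b₂, b₁ + PowerSeries.C q * a₂), ?_⟩
    rw [hv]
    ext i
    fin_cases i
    · change Matrix.mulVec (nodeAlpha R p q) ![_, _] 0 = Matrix.mulVec (nodeAlpha R p q) ![_, _] 0
      rw [mulVec_zero, mulVec_zero, ha, hb, ofX_add, ofY_add, ofX_C_mul, ofY_C_mul]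
      linear_combination (-(NodeRing.ofY R (p * q) a₂)) * hxy
    · change Matrix.mulVec (nodeAlpha R p q) ![_, _] 1 = Matrix.mulVec (nodeAlpha R p q) ![_, _] 1
      rw [mulVec_one, mulVec_one, ha, hb, ofX_add, ofY_add, ofX_C_mul, ofY_C_mul]
      linear_combination (-(NodeRing.ofX R (p * q) b₂)) * hxy

end Range

end Groth.Agent.R2.H90.NodeNF
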