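import Mathlib
import Groth.Prelude.Def_W4c5spincurvestfNode

set_option autoImplicit false

open SpinCurv MvPowerSeries Finsupp

namespace Groth.Agent.R2.H90.NodeQuot

universe u
variable (k : Type u) [Field k] (u v : ℕ)

theorem coeff_X_pow_mul' (s : Fin 2) (n : ℕ) (G : MvPowerSeries (Fin 2) k) (d : Fin 2 →₀ ℕ) :
    coeff d (X s ^ n * G) = if n ≤ d s then coeff (d - single s n) G else 0 := by
  rw [X_pow_eq, coeff_monomial_mul, one_mul]
  simp only [single_le_iff]

theorem coeff_XY_mul (G : MvPowerSeries (Fin 2) k) (d : Fin 2 →₀ ℕ) :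
    coeff d (X 0 * X 1 * G) =
      if 1 ≤ d 0 ∧ 1 ≤ d 1 then coeff (d - (single 0 1 + single 1 1)) G else 0 := by
  rw [X_def, X_def, monomial_mul_monomial, coeff_monomial_mul, one_mul, one_mul]
  have : (single (0 : Fin 2) 1 + single (1 : Fin 2) 1 ≤ d) ↔ (1 ≤ d 0 ∧ 1 ≤ d 1) := by
    rw [Finsupp.le_def]
    constructor
    · intro h
      exact ⟨by simpa using h 0, by simpa using h 1⟩
    · rintro ⟨h0, h1⟩ i
      fin_cases i
      · simpa using h0
      · simpa using h1
  simp only [this]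

/-- A finitely supported exponent on `Fin 2` with second entry zero. -/
theorem eq_single_zero (d : Fin 2 →₀ ℕ) (h : d 1 = 0) : d = single 0 (d 0) := by
  ext i
  fin_cases i
  · simp
  · simp [h]

theorem eq_single_one (d : Fin 2 →₀ ℕ) (h : d 0 = 0) : d = single 1 (d 1) := by
  ext i
  fin_cases i
  · simp [h]
  · simp

/-- The coefficient map onto the expected basis. -/
noncomputable def psi : MvPowerSeries (Fin 2) k →ₗ[k] (Fin u → k) × (Fin (v - 1) → k) :=
  LinearMap.prod (LinearMap.pi fun a => coeff (R := k) (single (0 : Fin 2) (a : ℕ)))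
    (LinearMap.pi fun b => coeff (R := k) (single (1 : Fin 2) ((b : ℕ) + 1)))

theorem psi_eq_zero_iff (F : MvPowerSeries (Fin 2) k) :
    psi k u v F = 0 ↔ (∀ a < u, coeff (single (0 : Fin 2) a) F = 0) ∧
      (∀ b, 1 ≤ b → b < v → coeff (single (1 : Fin 2) b) F = 0) := by
  constructor
  · intro h
    have h1 : ∀ a : Fin u, coeff (single (0 : Fin 2) (a : ℕ)) F = 0 :=
      fun a => congrFun (congrArg Prod.fst h) a
    have h2 : ∀ b : Fin (v - 1), coeff (single (1 : Fin 2) ((b : ℕ) + 1)) F = 0 :=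
      fun b => congrFun (congrArg Prod.snd h) b
    refine ⟨fun a ha => h1 ⟨a, ha⟩, fun b hb1 hbv => ?_⟩
    have := h2 ⟨b - 1, by omega⟩
    have e : b - 1 + 1 = b := by omega
    simp only [e] at this
    exact this
  · rintro ⟨h1, h2⟩
    exact Prod.ext (funext fun a => h1 a a.2)
      (funext fun b => h2 _ (by omega) (by have := b.2; omega))

theorem psi_of_mem (hu : 1 ≤ u) (hv : 1 ≤ v) (w : k) (F : MvPowerSeries (Fin 2) k)
    (hF : F ∈ Ideal.span {(X 0 * X 1 - C 0 : MvPowerSeries (Fin 2) k)} ⊔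
      Ideal.span {(X 0 ^ u : MvPowerSeries (Fin 2) k), C w * X 1 ^ v}) :
    psi k u v F = 0 := by
  obtain ⟨F1, hF1, F2, hF2, rfl⟩ := Submodule.mem_sup.mp hF
  obtain ⟨a, rfl⟩ := Ideal.mem_span_singleton'.mp hF1
  obtain ⟨b, c, rfl⟩ := Ideal.mem_span_pair.mp hF2
  have e1 : a * (X 0 * X 1 - C 0 : MvPowerSeries (Fin 2) k) = X 0 * X 1 * a := by
    rw [map_zero, sub_zero, mul_comm]
  have e2 : b * (X 0 ^ u : MvPowerSeries (Fin 2) k) = X 0 ^ u * b := mul_comm _ _
  have e3 : c * (C w * X 1 ^ v : MvPowerSeries (Fin 2) k) = X 1 ^ v * (c * C w) := by ring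
  rw [e1, e2, e3, psi_eq_zero_iff]
  constructor
  · intro a' ha'
    rw [map_add, map_add, coeff_XY_mul, coeff_X_pow_mul', coeff_X_pow_mul']
    have h1 : ¬ (1 ≤ (single (0 : Fin 2) a') 0 ∧ 1 ≤ (single (0 : Fin 2) a') 1) := by simp
    have h2 : ¬ (u ≤ (single (0 : Fin 2) a') 0) := by simp; omega
    have h3 : ¬ (v ≤ (single (0 : Fin 2) a') 1) := by simp; omega
    rw [if_neg h1, if_neg h2, if_neg h3]
    simp
  · intro b' hb1 hb2
    rw [map_add, map_add, coeff_XY_mul, coeff_X_pow_mul', coeff_X_pow_mul']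
    have h1 : ¬ (1 ≤ (single (1 : Fin 2) b') 0 ∧ 1 ≤ (single (1 : Fin 2) b') 1) := by simp
    have h2 : ¬ (u ≤ (single (1 : Fin 2) b') 0) := by simp; omega
    have h3 : ¬ (v ≤ (single (1 : Fin 2) b') 1) := by simp; omega
    rw [if_neg h1, if_neg h2, if_neg h3]
    simp

theorem mem_of_psi (hu : 1 ≤ u) (hv : 1 ≤ v) (w : k) (hw : w ≠ 0) (F : MvPowerSeries (Fin 2) k)
    (hF : psi k u v F = 0) :
    F ∈ Ideal.span {(X 0 * X 1 - C 0 : MvPowerSeries (Fin 2) k)} ⊔
      Ideal.span {(X 0 ^ u : MvPowerSeries (Fin 2) k), C w * X 1 ^ v} := by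
  rw [psi_eq_zero_iff] at hF
  obtain ⟨hF1, hF2⟩ := hF
  let G3 : MvPowerSeries (Fin 2) k := fun d => coeff (d + (single 0 1 + single 1 1)) F
  let G1 : MvPowerSeries (Fin 2) k := fun d => if d 1 = 0 then coeff (d + single 0 u) F else 0
  let G2 : MvPowerSeries (Fin 2) k := fun d => if d 0 = 0 then coeff (d + single 1 v) F else 0
  have hG3 : ∀ d, coeff d G3 = coeff (d + (single 0 1 + single 1 1)) F := fun d => rfl
  have hG1 : ∀ d, coeff d G1 = if d 1 = 0 then coeff (d + single 0 u) F else 0 := fun d => rfl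
  have hG2 : ∀ d, coeff d G2 = if d 0 = 0 then coeff (d + single 1 v) F else 0 := fun d => rfl
  have key : F = X 0 * X 1 * G3 + (X 0 ^ u * G1 + X 1 ^ v * G2) := by
    ext d
    rw [map_add, map_add, coeff_XY_mul, coeff_X_pow_mul', coeff_X_pow_mul', hG3, hG1, hG2]
    by_cases h0 : 1 ≤ d 0
    · by_cases h1 : 1 ≤ d 1
      · have e : d - (single 0 1 + single 1 1) + (single 0 1 + single 1 1) = d := by
          apply tsub_add_cancel_of_le
          rw [Finsupp.le_def]
          intro i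
          fin_cases i
          · simpa using h0
          · simpa using h1
        rw [if_pos ⟨h0, h1⟩, e]
        have n1 : ¬ ((d - single (0 : Fin 2) u) 1 = 0) := by simp; omega
        have n2 : ¬ ((d - single (1 : Fin 2) v) 0 = 0) := by simp; omega
        simp only [n1, n2, if_false, ite_self, add_zero]
      · have hd1 : d 1 = 0 := by omega
        rw [if_neg (by omega)]
        have n3 : ¬ (v ≤ d 1) := by omega
        rw [if_neg n3, zero_add, add_zero]
        by_cases hud : u ≤ d 0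
        · rw [if_pos hud]
          have n1 : (d - single (0 : Fin 2) u) 1 = 0 := by simp [hd1]
          rw [if_pos n1]
          rw [tsub_add_cancel_of_le (single_le_iff.mpr hud)]
        · rw [if_neg hud]
          rw [eq_single_zero d hd1]
          exact hF1 _ (by omega)
    · have hd0 : d 0 = 0 := by omega
      rw [if_neg (by omega)]
      have n2 : ¬ (u ≤ d 0) := by omega
      rw [if_neg n2, zero_add, zero_add]
      by_cases hvd : v ≤ d 1
      · rw [if_pos hvd]
        have n1 : (d - single (1 : Fin 2) v) 0 = 0 := by simp [hd0]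
        rw [if_pos n1]
        rw [tsub_add_cancel_of_le (single_le_iff.mpr hvd)]
      · rw [if_neg hvd]
        rw [eq_single_one d hd0]
        by_cases hd1 : 1 ≤ d 1
        · exact hF2 _ hd1 (by omega)
        · have : d 1 = 0 := by omega
          rw [this]
          have := hF1 0 (by omega)
          rw [Finsupp.single_zero] at this ⊢
          exact this
  rw [key]
  refine Submodule.add_mem_sup ?_ ?_
  · rw [Ideal.mem_span_singleton']
    exact ⟨G3, by rw [map_zero, sub_zero, mul_comm]⟩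
  · rw [Ideal.mem_span_pair]
    refine ⟨G1, G2 * C w⁻¹, ?_⟩
    have : (C w⁻¹ * C w : MvPowerSeries (Fin 2) k) = 1 := by
      rw [← map_mul, inv_mul_cancel₀ hw, map_one]
    linear_combination (G2 * X 1 ^ v) * this

theorem psi_surjective : Function.Surjective (psi k u v) := by
  rintro ⟨α, β⟩
  let F : MvPowerSeries (Fin 2) k := fun d =>
    if d 1 = 0 then (if h : d 0 < u then α ⟨d 0, h⟩ else 0)
    else if d 0 = 0 then (if h : d 1 - 1 < v - 1 then β ⟨d 1 - 1, h⟩ else 0) else 0
  have hF : ∀ d, coeff d F = if d 1 = 0 then (if h : d 0 < u then α ⟨d 0, h⟩ else 0)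
    else if d 0 = 0 then (if h : d 1 - 1 < v - 1 then β ⟨d 1 - 1, h⟩ else 0) else 0 :=
    fun d => rfl
  refine ⟨F, Prod.ext (funext fun a => ?_) (funext fun b => ?_)⟩
  · change coeff (single (0 : Fin 2) (a : ℕ)) F = α a
    rw [hF]
    have h1 : (single (0 : Fin 2) (a : ℕ)) 1 = 0 := by simp
    have h0 : (single (0 : Fin 2) (a : ℕ)) 0 = a := by simp
    rw [if_pos h1]
    simp only [h0, a.2, dif_pos, Fin.eta]
  · change coeff (single (1 : Fin 2) ((b : ℕ) + 1)) F = β b
    rw [hF]
    have h1 : (single (1 : Fin 2) ((b : ℕ) + 1)) 1 = b + 1 := by simp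
    have h0 : (single (1 : Fin 2) ((b : ℕ) + 1)) 0 = 0 := by simp
    rw [if_neg (by rw [h1]; omega), if_pos h0]
    simp only [h1, Nat.add_sub_cancel, b.2, dif_pos, Fin.eta]

theorem finrank_eq (hu : 1 ≤ u) (hv : 1 ≤ v) (w : k) (hw : w ≠ 0) :
    Module.finrank k (NodeRing k 0 ⧸
      Ideal.span {NodeRing.x k 0 ^ u, algebraMap k (NodeRing k 0) w * NodeRing.y k 0 ^ v}) =
      u + v - 1 := by
  set I : Ideal (MvPowerSeries (Fin 2) k) :=
    Ideal.span {(X 0 * X 1 - C 0 : MvPowerSeries (Fin 2) k)} with hI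
  set J' : Ideal (NodeRing k 0) :=
    Ideal.span {NodeRing.x k 0 ^ u, algebraMap k (NodeRing k 0) w * NodeRing.y k 0 ^ v} with hJ'
  let π : MvPowerSeries (Fin 2) k →ₗ[k] NodeRing k 0 ⧸ J' :=
    (Ideal.Quotient.mkₐ k J').toLinearMap.comp (Ideal.Quotient.mkₐ k I).toLinearMap
  have hπ : Function.Surjective π :=
    (Ideal.Quotient.mkₐ_surjective k J').comp (Ideal.Quotient.mkₐ_surjective k I)
  have hJmap : J' = Ideal.map (Ideal.Quotient.mk I)
      (Ideal.span {(X 0 ^ u : MvPowerSeries (Fin 2) k), C w * X 1 ^ v}) := by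
    rw [Ideal.map_span, Set.image_pair, map_pow, map_mul, map_pow]
    rfl
  have hker : LinearMap.ker π = LinearMap.ker (psi k u v) := by
    ext F
    rw [LinearMap.mem_ker, LinearMap.mem_ker]
    have h1 : π F = 0 ↔ Ideal.Quotient.mk I F ∈ J' := by
      change Ideal.Quotient.mk J' (Ideal.Quotient.mk I F) = 0 ↔ _
      exact Ideal.Quotient.eq_zero_iff_mem
    rw [h1, hJmap, ← Ideal.mem_comap, Ideal.comap_map_of_surjective _ Ideal.Quotient.mk_surjective,
      ← RingHom.ker_eq_comap_bot, Ideal.mk_ker, sup_comm]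
    exact ⟨psi_of_mem k u v hu hv w F, mem_of_psi k u v hu hv w hw F⟩
  have e := (π.quotKerEquivOfSurjective hπ).symm.trans
    ((Submodule.quotEquivOfEq _ _ hker).trans
      ((psi k u v).quotKerEquivOfSurjective (psi_surjective k u v)))
  rw [e.finrank_eq, Module.finrank_prod, Module.finrank_fin_fun, Module.finrank_fin_fun]
  omega

end Groth.Agent.R2.H90.NodeQuot
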