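import Mathlib
import Groth.Prelude.Def_CartDual2
import Groth.Prelude.Def_W4c5ffgsreadingcourseOT
import Groth.Agent.R2.H90OortTate
import Groth.Agent.R2.H90CartDualPow

set_option autoImplicit false

namespace Groth.Agent.R2.H90.OortTateDual

open TensorProduct CartDual WithConv _root_.OortTate
open _root_.Groth.Agent.R2.H90.OortTate

universe u

section general

variable {p : ℕ} [Fact p.Prime] {R : Type u} [CommRing R] (u : R)
  (hu : u * ((p - 1 : ℕ) : R) = 1) (χ : (ZMod p)ˣ →* Rˣ)
  {A : Type u} [CommRing A] [HopfAlgebra R A]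
  (hp : (WithConv.toConv (AlgHom.id R A)) ^ p = 1)

theorem mem_eigenAug_iff (i : ℕ) (f : A) : f ∈ eigenAug R A p χ i ↔
    Coalgebra.counit (R := R) f = 0 ∧
      ∀ m : (ZMod p)ˣ, SGA3b.powConv R A (m : ZMod p).val f = ((χ m : Rˣ) : R) ^ i • f := by
  simp only [eigenAug, Submodule.mem_inf, LinearMap.mem_ker, Submodule.mem_iInf,
    Module.End.mem_eigenspace_iff]
  rfl

theorem proj_apply (i : ℕ) (f : A) : proj R A p u χ i f =
    u • ∑ m : (ZMod p)ˣ, ((χ m⁻¹ : Rˣ) : R) ^ i • SGA3b.powConv R A (m : ZMod p).val f := by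
  simp only [proj, LinearMap.smul_apply, LinearMap.sum_apply]
  rfl

theorem chi_inv_mul (m : (ZMod p)ˣ) (i : ℕ) :
    ((χ m⁻¹ : Rˣ) : R) ^ i * ((χ m : Rˣ) : R) ^ i = 1 := by
  rw [← mul_pow, ← Units.val_mul, ← map_mul, inv_mul_cancel, map_one, Units.val_one, one_pow]

include hu in
/-- The averaging operator fixes the eigen-submodule. -/
theorem proj_of_mem (i : ℕ) (f : A) (hf : f ∈ eigenAug R A p χ i) : proj R A p u χ i f = f := by
  rw [proj_apply]
  have h2 : ∀ m : (ZMod p)ˣ,
      ((χ m⁻¹ : Rˣ) : R) ^ i • SGA3b.powConv R A (m : ZMod p).val f = f := by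
    intro m
    rw [((mem_eigenAug_iff χ i f).1 hf).2 m, smul_smul, chi_inv_mul, one_smul]
  rw [Finset.sum_congr rfl (fun m _ => h2 m), Finset.sum_const, Finset.card_univ,
    ZMod.card_units p, ← Nat.cast_smul_eq_nsmul R, smul_smul, hu, one_smul]

include hp in
theorem powConv_powConv (m m' : (ZMod p)ˣ) (f : A) :
    SGA3b.powConv R A (m' : ZMod p).val (SGA3b.powConv R A (m : ZMod p).val f) =
      SGA3b.powConv R A ((m' * m : (ZMod p)ˣ) : ZMod p).val f := by
  have := LinearMap.congr_fun (map_mul (unitsAct (R := R) (A := A) (p := p) hp) m' m) f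
  exact this.symm

include hp in
/-- The averaging operator is an eigen-operator. -/
theorem powConv_proj (i : ℕ) (m' : (ZMod p)ˣ) (f : A) :
    SGA3b.powConv R A (m' : ZMod p).val (proj R A p u χ i f) =
      ((χ m' : Rˣ) : R) ^ i • proj R A p u χ i f := by
  rw [proj_apply, map_smul, map_sum, Finset.smul_sum, Finset.smul_sum, Finset.smul_sum]
  rw [← Equiv.sum_comp (Equiv.mulLeft m') (fun m => ((χ m' : Rˣ) : R) ^ i • u •
    ((χ m⁻¹ : Rˣ) : R) ^ i • SGA3b.powConv R A (m : ZMod p).val f)]
  refine Finset.sum_congr rfl fun m _ => ?_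
  simp only [Equiv.coe_mulLeft, map_smul]
  rw [powConv_powConv hp, smul_smul, smul_smul, smul_smul]
  congr 1
  have h4 : ((χ (m' * m)⁻¹ : Rˣ) : R) ^ i =
      ((χ m'⁻¹ : Rˣ) : R) ^ i * ((χ m⁻¹ : Rˣ) : R) ^ i := by
    rw [mul_inv, map_mul, Units.val_mul, mul_pow]
  rw [h4]
  have h5 := chi_inv_mul χ m' i
  calc u * ((χ m⁻¹ : Rˣ) : R) ^ i
      = (((χ m'⁻¹ : Rˣ) : R) ^ i * ((χ m' : Rˣ) : R) ^ i) * (u * ((χ m⁻¹ : Rˣ) : R) ^ i) := by
        rw [h5, one_mul]
    _ = ((χ m' : Rˣ) : R) ^ i * u * (((χ m'⁻¹ : Rˣ) : R) ^ i * ((χ m⁻¹ : Rˣ) : R) ^ i) := by ring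

include hp in
/-- The averaging operator commutes with the power maps. -/
theorem proj_powConv (i : ℕ) (m' : (ZMod p)ˣ) (f : A) :
    proj R A p u χ i (SGA3b.powConv R A (m' : ZMod p).val f) =
      SGA3b.powConv R A (m' : ZMod p).val (proj R A p u χ i f) := by
  rw [proj_apply, proj_apply, map_smul, map_sum]
  congr 1
  refine Finset.sum_congr rfl fun m _ => ?_
  rw [map_smul, powConv_powConv hp, powConv_powConv hp, mul_comm]

include hp in
/-- The averaging operator maps the augmentation ideal into the eigen-submodule. -/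
theorem proj_mem (i : ℕ) (f : A) (hf : Coalgebra.counit (R := R) f = 0) :
    proj R A p u χ i f ∈ eigenAug R A p χ i := by
  rw [mem_eigenAug_iff]
  refine ⟨?_, fun m => powConv_proj u χ hp i m f⟩
  rw [proj_apply, map_smul, map_sum]
  have : ∀ m : (ZMod p)ˣ, Coalgebra.counit (R := R)
      (((χ m⁻¹ : Rˣ) : R) ^ i • SGA3b.powConv R A (m : ZMod p).val f) = 0 := by
    intro m
    rw [map_smul, counit_powConv, hf, smul_zero]
  rw [Finset.sum_congr rfl (fun m _ => this m), Finset.sum_const_zero, smul_zero]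

end general

section dual

variable {p : ℕ} [Fact p.Prime] {R : Type u} [CommRing R] (u : R)
  (hu : u * ((p - 1 : ℕ) : R) = 1) (χ : (ZMod p)ˣ →* Rˣ)
  {A : Type u} [CommRing A] [HopfAlgebra R A] [Coalgebra.IsCocomm R A]
  [Module.Finite R A] [Module.Projective R A]
  (hp : (WithConv.toConv (AlgHom.id R A)) ^ p = 1)

theorem powConv_toLinearMap {B : Type u} [CommRing B] [HopfAlgebra R B] (n : ℕ) :
    (SGA3b.powConv R B n).toLinearMap =
      ((toConv (LinearMap.id : B →ₗ[R] B)) ^ n).ofConv := by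
  have := AlgHom.toLinearMap_convPow (toConv (AlgHom.id R B)) n
  unfold SGA3b.powConv
  have h : (toConv (AlgHom.id R B) ^ n).ofConv.toLinearMap =
      (toConv (toConv (AlgHom.id R B)).ofConv.toLinearMap ^ n).ofConv := by
    rw [← this, ofConv_toConv]
  rw [h]
  rfl

/-- The power maps of the dual are the transposes of the power maps. -/
theorem powConv_dual_apply (n : ℕ) (ψ : D R A) (a : A) :
    (SGA3b.powConv R (D R A) n ψ) a = ψ (SGA3b.powConv R A n a) := by
  have h1 := powConv_toLinearMap (R := R) (B := D R A) n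
  have h2 := powConv_toLinearMap (R := R) (B := A) n
  have h3 := Groth.Agent.R2.H90.CartDualPow.convPow_transposeLin R A n
  have : (SGA3b.powConv R (D R A) n).toLinearMap =
      transposeLin R (SGA3b.powConv R A n).toLinearMap := by
    rw [h1, h2, h3]
  have := LinearMap.congr_fun this ψ
  exact congrArg (fun x : D R A => x a) this

theorem mem_eigenAug_dual_iff (i : ℕ) (ψ : D R A) : ψ ∈ eigenAug R (D R A) p χ i ↔
    ψ 1 = 0 ∧ ∀ (m : (ZMod p)ˣ) (a : A),
      ψ (SGA3b.powConv R A (m : ZMod p).val a) = ((χ m : Rˣ) : R) ^ i * ψ a := by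
  rw [mem_eigenAug_iff]
  refine and_congr Iff.rfl (forall_congr' fun m => ?_)
  constructor
  · intro h a
    rw [← powConv_dual_apply, h]
    rfl
  · intro h
    apply WithConv.ext
    apply LinearMap.ext
    intro a
    change (SGA3b.powConv R (D R A) (m : ZMod p).val ψ) a = (((χ m : Rˣ) : R) ^ i • ψ) a
    rw [powConv_dual_apply, h]
    rfl

end dual

section main

variable {p : ℕ} [Fact p.Prime] {R : Type u} [CommRing R] (u : R)
  (hu : u * ((p - 1 : ℕ) : R) = 1) (χ : (ZMod p)ˣ →* Rˣ)
  {A : Type u} [CommRing A] [HopfAlgebra R A] [Coalgebra.IsCocomm R A]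
  [Module.Finite R A] [Module.Projective R A]
  (hp : (WithConv.toConv (AlgHom.id R A)) ^ p = 1)

omit [Coalgebra.IsCocomm R A] [Module.Finite R A] [Module.Projective R A] in
theorem counit_sub (a : A) :
    Coalgebra.counit (R := R) (a - Coalgebra.counit (R := R) a • (1 : A)) = 0 := by
  rw [map_sub, map_smul, Bialgebra.counit_one, smul_eq_mul, mul_one, sub_self]

include hu in
theorem dual_apply_proj (i : ℕ) (ψ : D R A) (hψ : ψ ∈ eigenAug R (D R A) p χ i) (b : A) :
    ψ (proj R A p u χ i b) = ψ b := by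
  obtain ⟨-, h2⟩ := (mem_eigenAug_dual_iff χ i ψ).1 hψ
  rw [proj_apply, coe_apply, map_smul, map_sum]
  have : ∀ m : (ZMod p)ˣ,
      ψ.ofConv (((χ m⁻¹ : Rˣ) : R) ^ i • SGA3b.powConv R A (m : ZMod p).val b) = ψ b := by
    intro m
    rw [map_smul, ← coe_apply, h2, smul_eq_mul, ← mul_assoc, chi_inv_mul, one_mul]
  rw [Finset.sum_congr rfl (fun m _ => this m), Finset.sum_const, Finset.card_univ,
    ZMod.card_units p, ← Nat.cast_smul_eq_nsmul R, smul_smul, hu, one_smul]

include hu in
theorem dual_apply_eq (i : ℕ) (ψ : D R A) (hψ : ψ ∈ eigenAug R (D R A) p χ i) (a : A) :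
    ψ a = ψ (proj R A p u χ i (a - Coalgebra.counit (R := R) a • (1 : A))) := by
  obtain ⟨h1, -⟩ := (mem_eigenAug_dual_iff χ i ψ).1 hψ
  have h1' : ψ.ofConv 1 = 0 := h1
  rw [dual_apply_proj u hu χ i ψ hψ, coe_apply, coe_apply, map_sub, map_smul, h1',
    smul_zero, sub_zero]

include hu hp in
theorem dual_restrict_bijective (i : ℕ) :
    Function.Bijective (fun f : eigenAug R (D R A) p χ i =>
      ((toDual R A) (f : D R A)).comp (eigenAug R A p χ i).subtype) := by
  constructor
  · intro ψ ψ' h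
    apply Subtype.ext
    apply WithConv.ext
    apply LinearMap.ext
    intro a
    change (ψ : D R A) a = (ψ' : D R A) a
    rw [dual_apply_eq u hu χ i ψ ψ.2 a, dual_apply_eq u hu χ i ψ' ψ'.2 a]
    have hmem := proj_mem u χ hp i _ (counit_sub (R := R) a)
    exact LinearMap.congr_fun h ⟨_, hmem⟩
  · intro g
    -- the retraction onto the eigen-submodule
    let c : A →ₗ[R] A := LinearMap.id - (LinearMap.toSpanSingleton R A 1).comp
      (Coalgebra.counit (R := R) (A := A))
    have hc : ∀ a, c a = a - Coalgebra.counit (R := R) a • (1 : A) := fun a => rfl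
    let PI : A →ₗ[R] eigenAug R A p χ i :=
      LinearMap.codRestrict _ ((proj R A p u χ i).comp c) (fun a => by
        rw [LinearMap.comp_apply, hc]
        exact proj_mem u χ hp i _ (counit_sub (R := R) a))
    have hPI : ∀ a, ((PI a : eigenAug R A p χ i) : A) =
        proj R A p u χ i (a - Coalgebra.counit (R := R) a • (1 : A)) := fun a => rfl
    let ψ : D R A := toConv (g.comp PI)
    have hψa : ∀ a, ψ a = g (PI a) := fun a => rfl
    have hψ : ψ ∈ eigenAug R (D R A) p χ i := by
      rw [mem_eigenAug_dual_iff]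
      constructor
      · rw [hψa]
        have : PI 1 = 0 := by
          apply Subtype.ext
          rw [hPI, Bialgebra.counit_one, one_smul, sub_self, map_zero]
          rfl
        rw [this, map_zero]
      · intro m a
        rw [hψa, hψa]
        have : PI (SGA3b.powConv R A (m : ZMod p).val a) = ((χ m : Rˣ) : R) ^ i • PI a := by
          apply Subtype.ext
          rw [hPI, Submodule.coe_smul, hPI, counit_powConv]
          have e : SGA3b.powConv R A (m : ZMod p).val a - Coalgebra.counit (R := R) a • (1 : A) =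
              SGA3b.powConv R A (m : ZMod p).val (a - Coalgebra.counit (R := R) a • (1 : A)) := by
            rw [map_sub, map_smul, map_one]
          rw [e, proj_powConv u χ hp, powConv_proj u χ hp]
        rw [this, map_smul, smul_eq_mul]
    refine ⟨⟨ψ, hψ⟩, ?_⟩
    apply LinearMap.ext
    intro b
    change ψ (b : A) = g b
    rw [hψa]
    congr 1
    apply Subtype.ext
    rw [hPI]
    have hb := ((mem_eigenAug_iff χ i (b : A)).1 b.2).1
    rw [hb, zero_smul, sub_zero]
    exact proj_of_mem u hu χ i _ b.2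

end main

end Groth.Agent.R2.H90.OortTateDual
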