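/-
Helper library (helper90): over a field, every eigen-submodule of the augmentation ideal of a nontrivial
finite commutative group scheme killed by `p` is nonzero (Oort–Tate; used for the rank-one statement).
Case A: a field-valued point different from the neutral element (Dedekind independence of characters).
Case B: a tangent vector at the neutral element (invariant derivation, Leibniz formula).
-/
import Mathlib
import Groth.Prelude.Def_W4c5ffgsreadingcourseOT
import Groth.Agent.R2.H90OortTateDual
import Groth.Agent.R2.H90OTGen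

set_option autoImplicit false
universe u

namespace Groth.Agent.R2.H90.OTField

open WithConv _root_.OortTate SGA3b Groth.Agent.Lib.Helper25.Tors TensorProduct
open Groth.Agent.R2.H90.OortTate Groth.Agent.R2.H90.OortTateDual

section deriv

variable {k : Type u} [CommRing k] {A : Type u} [CommRing A] [HopfAlgebra k A]

/-- `a ⊗ b ↦ w b • a` -/
noncomputable def Rw (w : A →ₗ[k] k) : A ⊗[k] A →ₗ[k] A :=
  (TensorProduct.rid k A).toLinearMap ∘ₗ LinearMap.lTensor A w

/-- `a ⊗ b ↦ w a • b` -/
noncomputable def Lw (w : A →ₗ[k] k) : A ⊗[k] A →ₗ[k] A :=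
  (TensorProduct.lid k A).toLinearMap ∘ₗ LinearMap.rTensor A w

@[simp] theorem Rw_tmul (w : A →ₗ[k] k) (a b : A) : Rw w (a ⊗ₜ[k] b) = w b • a := by
  simp [Rw]

@[simp] theorem Lw_tmul (w : A →ₗ[k] k) (a b : A) : Lw w (a ⊗ₜ[k] b) = w a • b := by
  simp [Lw]

theorem Rw_counit_comul (a : A) :
    Rw (Coalgebra.counit (R := k) (A := A)) (Coalgebra.comul (R := k) a) = a := by
  simp [Rw]

theorem Lw_counit_comul (a : A) :
    Lw (Coalgebra.counit (R := k) (A := A)) (Coalgebra.comul (R := k) a) = a := by
  simp [Lw]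

variable (v : A →ₗ[k] k)
  (hv : ∀ x y : A, v (x * y) = Coalgebra.counit (R := k) x * v y + v x * Coalgebra.counit (R := k) y)

include hv in
theorem Rw_mul (z w : A ⊗[k] A) :
    Rw v (z * w) = Rw (Coalgebra.counit (R := k) (A := A)) z * Rw v w +
      Rw v z * Rw (Coalgebra.counit (R := k) (A := A)) w := by
  induction z using TensorProduct.induction_on with
  | zero => simp
  | add z z' hz hz' => simp only [add_mul, map_add, hz, hz']; ring
  | tmul a b =>
    induction w using TensorProduct.induction_on with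
    | zero => simp
    | add w w' hw hw' => simp only [mul_add, map_add, hw, hw']; ring
    | tmul c d =>
      simp only [Algebra.TensorProduct.tmul_mul_tmul, Rw_tmul, hv, add_smul, mul_smul,
        smul_mul_smul_comm]

/-- the invariant derivation attached to a tangent vector -/
noncomputable def Dv : A →ₗ[k] A := Rw v ∘ₗ Coalgebra.comul (R := k) (A := A)

include hv in
theorem Dv_mul (a b : A) : Dv v (a * b) = a * Dv v b + Dv v a * b := by
  simp only [Dv, LinearMap.comp_apply, Bialgebra.comul_mul, Rw_mul v hv, Rw_counit_comul]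

theorem counit_Rw (z : A ⊗[k] A) :
    Coalgebra.counit (R := k) (Rw v z) = v (Lw (Coalgebra.counit (R := k) (A := A)) z) := by
  induction z using TensorProduct.induction_on with
  | zero => simp
  | add z z' hz hz' => simp only [map_add, hz, hz']
  | tmul a b => simp [mul_comm]

theorem counit_Dv (a : A) : Coalgebra.counit (R := k) (Dv v a) = v a := by
  simp only [Dv, LinearMap.comp_apply, counit_Rw, Lw_counit_comul]

include hv in
theorem v_lift (f : A →ₐ[k] A) (hf : ∀ a, Coalgebra.counit (R := k) (f a) = Coalgebra.counit (R := k) a)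
    (z : A ⊗[k] A) :
    v (Algebra.TensorProduct.lift f (AlgHom.id k A) (fun _ _ => Commute.all _ _) z) =
      v (Lw (Coalgebra.counit (R := k) (A := A)) z) +
        v (f (Rw (Coalgebra.counit (R := k) (A := A)) z)) := by
  induction z using TensorProduct.induction_on with
  | zero => simp
  | add z z' hz hz' => simp only [map_add, hz, hz']; ring
  | tmul a b =>
    simp only [Algebra.TensorProduct.lift_tmul, AlgHom.id_apply, hv, hf, Lw_tmul, Rw_tmul, map_smul,
      smul_eq_mul]
    ring

include hv in
theorem v_powConv (n : ℕ) (a : A) : v (powConv k A n a) = (n : k) * v a := by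
  induction n with
  | zero =>
    have h1 : v 1 = 0 := by
      have := hv 1 1
      simp only [mul_one, Bialgebra.counit_one, one_mul] at this
      linear_combination -this
    have : powConv k A 0 a = algebraMap k A (Coalgebra.counit (R := k) a) := by
      simp [powConv, AlgHom.convOne_apply]
    rw [this, Algebra.algebraMap_eq_smul_one, map_smul, h1]
    simp
  | succ n ih =>
    have h1 : powConv k A (n + 1) a =
        Algebra.TensorProduct.lift (powConv k A n) (AlgHom.id k A) (fun _ _ => Commute.all _ _)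
          (Coalgebra.comul (R := k) a) := by
      unfold powConv
      rw [pow_succ, AlgHom.convMul_apply]
    rw [h1, v_lift v hv _ (fun a => counit_powConv n a), Lw_counit_comul, Rw_counit_comul, ih]
    rw [Nat.cast_succ, add_mul, one_mul, add_comm]

include hv in
theorem Dv_comp_mul :
    Dv v ∘ₗ LinearMap.mul' k A =
      LinearMap.mul' k A ∘ₗ ((Dv v).rTensor A + (Dv v).lTensor A) := by
  apply TensorProduct.ext'
  intro a b
  simp [Dv_mul v hv, add_comm]

include hv in
theorem Dv_pow_comp_mul (j : ℕ) :
    (Dv v ^ j) ∘ₗ LinearMap.mul' k A =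
      LinearMap.mul' k A ∘ₗ (((Dv v).rTensor A + (Dv v).lTensor A) ^ j) := by
  induction j with
  | zero => rfl
  | succ j ih =>
    rw [pow_succ, pow_succ, Module.End.mul_eq_comp, Module.End.mul_eq_comp, LinearMap.comp_assoc,
      Dv_comp_mul v hv, ← LinearMap.comp_assoc, ih, LinearMap.comp_assoc]

include hv in
theorem Dv_pow_mul (j : ℕ) (a b : A) :
    (Dv v ^ j) (a * b) =
      ∑ m ∈ Finset.range (j + 1), (j.choose m) • ((Dv v ^ m) a * (Dv v ^ (j - m)) b) := by
  have hc : Commute ((Dv v).rTensor A) ((Dv v).lTensor A) := by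
    change _ * _ = _ * _
    rw [Module.End.mul_eq_comp, Module.End.mul_eq_comp, LinearMap.rTensor_comp_lTensor,
      LinearMap.lTensor_comp_rTensor]
  have h1 := LinearMap.congr_fun (Dv_pow_comp_mul v hv j) (a ⊗ₜ[k] b)
  rw [LinearMap.comp_apply, LinearMap.mul'_apply, LinearMap.comp_apply, hc.add_pow] at h1
  rw [h1, LinearMap.sum_apply, map_sum]
  refine Finset.sum_congr rfl fun m _ => ?_
  rw [LinearMap.rTensor_pow, LinearMap.lTensor_pow]
  simp only [Module.End.mul_apply, Module.End.natCast_apply]
  rw [map_nsmul, map_nsmul, map_nsmul, LinearMap.lTensor_tmul, LinearMap.rTensor_tmul,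
    LinearMap.mul'_apply]

include hv in
theorem counit_Dv_pow_pow_of_lt (t : A) (ht : Coalgebra.counit (R := k) t = 0) :
    ∀ (n l : ℕ), l < n → Coalgebra.counit (R := k) ((Dv v ^ l) (t ^ n)) = 0 := by
  intro n
  induction n with
  | zero => intro l hl; omega
  | succ n ih =>
    intro l hl
    rw [pow_succ, Dv_pow_mul v hv, map_sum]
    apply Finset.sum_eq_zero
    intro m hm
    rw [map_nsmul, Bialgebra.counit_mul]
    by_cases hmn : m < n
    · rw [ih m hmn, zero_mul, smul_zero]
    · have : l - m = 0 := by have := Finset.mem_range.1 hm; omega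
      rw [this, pow_zero, Module.End.one_apply, ht, mul_zero, smul_zero]

include hv in
theorem counit_Dv_pow_pow (t : A) (ht : Coalgebra.counit (R := k) t = 0) (j : ℕ) :
    Coalgebra.counit (R := k) ((Dv v ^ j) (t ^ j)) = (j.factorial : k) * v t ^ j := by
  induction j with
  | zero => simp
  | succ j ih =>
    rw [pow_succ t, Dv_pow_mul v hv, map_sum, Finset.sum_eq_single j]
    · have : j + 1 - j = 1 := by omega
      rw [map_nsmul, Bialgebra.counit_mul, ih, this, pow_one, counit_Dv, Nat.choose_succ_self_right,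
        Nat.factorial_succ, nsmul_eq_mul]
      push_cast
      ring
    · intro m hm hmj
      rw [map_nsmul, Bialgebra.counit_mul]
      by_cases hlt : m < j
      · rw [counit_Dv_pow_pow_of_lt v hv t ht j m hlt, zero_mul, smul_zero]
      · have : j + 1 - m = 0 := by have := Finset.mem_range.1 hm; omega
        rw [this, pow_zero, Module.End.one_apply, ht, mul_zero, smul_zero]
    · intro h
      exact absurd (Finset.mem_range.2 (by omega)) h

end deriv

section caseB

variable {p : ℕ} [Fact p.Prime] {k : Type u} [Field k] (u : k)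
  (hu : u * ((p - 1 : ℕ) : k) = 1) (χ : (ZMod p)ˣ →* kˣ)
  (hχp : ∀ m : (ZMod p)ˣ, ((χ m : kˣ) : k) - (((m : ZMod p).val : ℕ) : k) ∈
    Ideal.span ({(p : k)} : Set k))
  {A : Type u} [CommRing A] [HopfAlgebra k A]
  (hp : (WithConv.toConv (AlgHom.id k A)) ^ p = 1)

/-- existence of a tangent vector not vanishing at `t ∉ I²` -/
theorem exists_tangent (t : A) (ht : Coalgebra.counit (R := k) t = 0)
    (ht2 : t ∉ (RingHom.ker (Bialgebra.counitAlgHom k A)) ^ 2) :
    ∃ v : A →ₗ[k] k, v t = 1 ∧ ∀ x y : A, v (x * y) =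
      Coalgebra.counit (R := k) x * v y + v x * Coalgebra.counit (R := k) y := by
  set I := RingHom.ker (Bialgebra.counitAlgHom k A) with hI
  have hImem : ∀ x : A, x ∈ I ↔ Coalgebra.counit (R := k) x = 0 := fun x => Iff.rfl
  let W : Submodule k A := Submodule.span k {(1 : A)} ⊔ (I ^ 2).restrictScalars k
  have htW : t ∉ W := by
    intro h
    obtain ⟨y, hy, z, hz, hyz⟩ := Submodule.mem_sup.1 h
    obtain ⟨c, rfl⟩ := Submodule.mem_span_singleton.1 hy
    have hz' : z ∈ I ^ 2 := hz
    have hzI : z ∈ I := Ideal.pow_le_self two_ne_zero hz'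
    have h0 := congrArg (Coalgebra.counit (R := k)) hyz
    rw [map_add, map_smul, Bialgebra.counit_one, (hImem z).1 hzI, ht, add_zero, smul_eq_mul,
      mul_one] at h0
    rw [h0, zero_smul, zero_add] at hyz
    exact ht2 (hyz ▸ hz')
  obtain ⟨f, hft, hfW⟩ := Submodule.exists_dual_map_eq_bot_of_notMem htW inferInstance
  have hfW' : ∀ w ∈ W, f w = 0 := by
    intro w hw
    have : f w ∈ W.map f := Submodule.mem_map_of_mem hw
    rw [hfW] at this
    exact (Submodule.mem_bot k).1 this
  let v : A →ₗ[k] k := (f t)⁻¹ • f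
  have hv1 : v 1 = 0 := by
    have : f 1 = 0 := hfW' 1 (Submodule.mem_sup_left (Submodule.mem_span_singleton_self 1))
    simp [v, this]
  have hvI : ∀ x y : A, x ∈ I → y ∈ I → v (x * y) = 0 := by
    intro x y hx hy
    have h1 : x * y ∈ I ^ 2 := by
      rw [sq]
      exact Ideal.mul_mem_mul hx hy
    have : f (x * y) = 0 := hfW' _ (Submodule.mem_sup_right h1)
    simp [v, this]
  refine ⟨v, by simp [v, hft], fun x y => ?_⟩
  have hx0 : x - Coalgebra.counit (R := k) x • (1 : A) ∈ I := (hImem _).2 (counit_sub x)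
  have hy0 : y - Coalgebra.counit (R := k) y • (1 : A) ∈ I := (hImem _).2 (counit_sub y)
  have h1 := hvI _ _ hx0 hy0
  have e : x * y = (x - Coalgebra.counit (R := k) x • (1 : A)) *
      (y - Coalgebra.counit (R := k) y • (1 : A)) + Coalgebra.counit (R := k) x • y +
      Coalgebra.counit (R := k) y • x -
      (Coalgebra.counit (R := k) x * Coalgebra.counit (R := k) y) • (1 : A) := by
    simp only [Algebra.smul_def, mul_one, map_mul]
    ring
  rw [e, map_sub, map_add, map_add, h1, map_smul, map_smul, map_smul, hv1]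
  simp only [smul_eq_mul]
  ring

include hu hχp hp in
/-- Case B: if the augmentation ideal is not idempotent, every eigen-submodule is nonzero. -/
theorem caseB (t : A) (ht : Coalgebra.counit (R := k) t = 0)
    (ht2 : t ∉ (RingHom.ker (Bialgebra.counitAlgHom k A)) ^ 2) (j : ℕ) (hjp : j < p) :
    eigenAug k A p χ j ≠ ⊥ := by
  obtain ⟨v, hvt, hv⟩ := exists_tangent t ht ht2
  -- `p = 0` in `k`
  have hp0 : (p : k) = 0 := by
    have h1 := v_powConv v hv p t
    have h2 : powConv k A p t = algebraMap k A (Coalgebra.counit (R := k) t) := by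
      unfold powConv
      rw [hp]
      rfl
    have hv1 : v 1 = 0 := by
      have := hv 1 1
      simp only [mul_one, Bialgebra.counit_one, one_mul] at this
      linear_combination -this
    rw [h2, ht, map_zero, map_zero, hvt, mul_one] at h1
    exact h1.symm
  have hchar : CharP k p := (CharP.charP_iff_prime_eq_zero Fact.out).2 hp0
  have hχm : ∀ m : (ZMod p)ˣ, ((χ m : kˣ) : k) = (((m : ZMod p).val : ℕ) : k) := by
    intro m
    have := hχp m
    rw [hp0, Ideal.span_singleton_eq_bot.2 rfl, Ideal.mem_bot, sub_eq_zero] at this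
    exact this
  -- the eigenvector
  set t' := proj k A p u χ 1 t with ht'
  have ht'mem : t' ∈ eigenAug k A p χ 1 := proj_mem u χ hp 1 t ht
  have hvt' : v t' = 1 := by
    rw [ht', proj_apply, map_smul, map_sum]
    have : ∀ m : (ZMod p)ˣ, v (((χ m⁻¹ : kˣ) : k) ^ 1 • powConv k A (m : ZMod p).val t) = 1 := by
      intro m
      rw [map_smul, v_powConv v hv, hvt, mul_one, ← hχm, smul_eq_mul]
      have := chi_inv_mul χ m 1
      rwa [pow_one (((χ m : kˣ) : k))] at this
    rw [Finset.sum_congr rfl (fun m _ => this m), Finset.sum_const, Finset.card_univ,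
      ZMod.card_units p, smul_eq_mul, nsmul_eq_mul, mul_one]
    exact hu
  obtain ⟨hε', heig'⟩ := (mem_eigenAug_iff χ 1 t').1 ht'mem
  have hpow_ne : t' ^ j ≠ 0 := by
    intro h0
    have h1 := counit_Dv_pow_pow v hv t' hε' j
    rw [h0, map_zero, map_zero, hvt', one_pow, mul_one] at h1
    have h2 : (p : ℕ) ∣ j.factorial := (CharP.cast_eq_zero_iff k p _).1 h1.symm
    have h3 := ((Fact.out : p.Prime).dvd_factorial).1 h2
    omega
  by_cases hj0 : j = 0
  · -- `j = 0`: use `t' ^ (p - 1)`
    subst hj0
    have hp1 : p - 1 < p := Nat.sub_lt (Fact.out : p.Prime).pos one_pos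
    have hpow_ne' : t' ^ (p - 1) ≠ 0 := by
      intro h0
      have h1 := counit_Dv_pow_pow v hv t' hε' (p - 1)
      rw [h0, map_zero, map_zero, hvt', one_pow, mul_one] at h1
      have h2 : (p : ℕ) ∣ (p - 1).factorial := (CharP.cast_eq_zero_iff k p _).1 h1.symm
      have h3 := ((Fact.out : p.Prime).dvd_factorial).1 h2
      omega
    intro hbot
    apply hpow_ne'
    have hmem : t' ^ (p - 1) ∈ eigenAug k A p χ 0 := by
      rw [mem_eigenAug_iff]
      refine ⟨?_, fun m => ?_⟩
      · have hne : p - 1 ≠ 0 := by have := (Fact.out : p.Prime).two_le; omega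
        change Bialgebra.counitAlgHom k A (t' ^ (p - 1)) = 0
        rw [map_pow]
        change (Coalgebra.counit (R := k) t') ^ (p - 1) = 0
        rw [hε', zero_pow hne]
      · rw [map_pow, heig' m, smul_pow, pow_one, pow_zero, one_smul,
          Groth.Agent.R2.H90.OTGen.chi_pow_card, one_smul]
    rw [hbot] at hmem
    exact (Submodule.mem_bot k).1 hmem
  · intro hbot
    apply hpow_ne
    have hmem : t' ^ j ∈ eigenAug k A p χ j := by
      rw [mem_eigenAug_iff]
      refine ⟨?_, fun m => ?_⟩
      · change Bialgebra.counitAlgHom k A (t' ^ j) = 0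
        rw [map_pow]
        change (Coalgebra.counit (R := k) t') ^ j = 0
        rw [hε', zero_pow hj0]
      · rw [map_pow, heig' m, smul_pow, pow_one]
    rw [hbot] at hmem
    exact (Submodule.mem_bot k).1 hmem

end caseB

section caseA

variable {p : ℕ} [Fact p.Prime] {k : Type u} [Field k] (u : k)
  (hu : u * ((p - 1 : ℕ) : k) = 1) (χ : (ZMod p)ˣ →* kˣ)
  {A : Type u} [CommRing A] [HopfAlgebra k A]
  (hp : (WithConv.toConv (AlgHom.id k A)) ^ p = 1)

include hu hp in
/-- Case A: a point of `G` with values in a field, different from the neutral element, forces every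
eigen-submodule to be nonzero. -/
theorem caseA (K : Type u) [Field K] [Algebra k K] (g : A →ₐ[k] K)
    (hg : g ≠ (Algebra.ofId k K).comp (Bialgebra.counitAlgHom k A)) (i : ℕ) :
    eigenAug k A p χ i ≠ ⊥ := by
  classical
  intro hbot
  have hrel : ∀ a : A, proj k A p u χ i (a - Coalgebra.counit (R := k) a • (1 : A)) = 0 := by
    intro a
    have := proj_mem u χ hp i _ (counit_sub (R := k) a)
    rw [hbot] at this
    exact (Submodule.mem_bot k).1 this
  set G : WithConv (A →ₐ[k] K) := toConv g with hG
  have hcomp : ∀ n : ℕ, g.comp (powConv k A n) = (G ^ n).ofConv := by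
    intro n
    have := comp_convPow g (toConv (AlgHom.id k A)) n
    simpa [powConv] using this
  have hGp : G ^ p = 1 := by
    apply ofConv_injective
    rw [← hcomp, powConv, hp]
    ext a
    simp [AlgHom.convOne_apply]
  have hG1 : G ≠ 1 := by
    intro h
    apply hg
    have := congrArg ofConv h
    simpa [hG, AlgHom.convOne_def] using this
  have hord : orderOf G = p := orderOf_eq_prime hGp hG1
  have hinj : Function.Injective (fun a : ZMod p => (G ^ a.val).ofConv) := by
    intro a b hab
    have h1 : G ^ a.val = G ^ b.val := ofConv_injective hab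
    have h2 := pow_injOn_Iio_orderOf (x := G) (by rw [hord]; exact Set.mem_Iio.2 (ZMod.val_lt a))
      (by rw [hord]; exact Set.mem_Iio.2 (ZMod.val_lt b)) h1
    exact ZMod.val_injective p h2
  have hv : LinearIndependent K (fun a : ZMod p => ((G ^ a.val).ofConv).toLinearMap) :=
    (linearIndependent_toLinearMap k A K).comp _ hinj
  -- the coefficients
  let c : (ZMod p)ˣ → K := fun m => algebraMap k K (u * ((χ m⁻¹ : kˣ) : k) ^ i)
  let d : ZMod p → K := fun a => if h : a = 0 then - ∑ m : (ZMod p)ˣ, c m else c (Units.mk0 a h)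
  have hsum : ∑ a : ZMod p, d a • ((G ^ a.val).ofConv).toLinearMap = 0 := by
    rw [Groth.Agent.R2.H90.OTGen.sum_zmod_eq]
    apply LinearMap.ext
    intro a
    have h1 := congrArg g (hrel a)
    rw [map_zero, proj_apply, map_smul, map_sum] at h1
    simp only [LinearMap.add_apply, LinearMap.smul_apply, LinearMap.sum_apply,
      LinearMap.zero_apply, AlgHom.toLinearMap_apply]
    have hd0 : d 0 = - ∑ m : (ZMod p)ˣ, c m := by simp [d]
    have hdm : ∀ m : (ZMod p)ˣ, d (m : ZMod p) = c m := by
      intro m
      have : (m : ZMod p) ≠ 0 := m.ne_zero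
      simp only [d, dif_neg this]
      congr 1
      exact Units.ext rfl
    rw [hd0, ZMod.val_zero, pow_zero]
    simp only [hdm]
    have h0 : (1 : WithConv (A →ₐ[k] K)).ofConv a = algebraMap k K (Coalgebra.counit (R := k) a) :=
      rfl
    rw [h0]
    have h2 : ∀ m : (ZMod p)ˣ, g (((χ m⁻¹ : kˣ) : k) ^ i •
        powConv k A (m : ZMod p).val (a - Coalgebra.counit (R := k) a • (1 : A))) =
        algebraMap k K (((χ m⁻¹ : kˣ) : k) ^ i) * ((G ^ (m : ZMod p).val).ofConv a -
          algebraMap k K (Coalgebra.counit (R := k) a)) := by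
      intro m
      rw [map_smul, map_sub, map_smul, map_one, map_sub, map_smul, map_one, Algebra.smul_def,
        ← AlgHom.comp_apply, hcomp, Algebra.smul_def (Coalgebra.counit (R := k) a) (1 : K), mul_one]
    rw [Finset.sum_congr rfl (fun m _ => h2 m), Algebra.smul_def, Finset.mul_sum] at h1
    rw [← h1, neg_smul, Finset.sum_smul, ← Finset.sum_neg_distrib, ← Finset.sum_add_distrib]
    refine Finset.sum_congr rfl fun m _ => ?_
    simp only [c, map_mul, smul_eq_mul]
    ring
  have hd := (Fintype.linearIndependent_iff.1 hv) d hsum 1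
  have hd1 : d 1 = algebraMap k K u := by
    have h1 : (1 : ZMod p) ≠ 0 := one_ne_zero
    simp only [d, dif_neg h1, c]
    have : (Units.mk0 (1 : ZMod p) h1) = 1 := Units.ext rfl
    rw [this, inv_one, map_one, Units.val_one, one_pow, mul_one]
  rw [hd1] at hd
  have hu0 : u = 0 := (algebraMap k K).injective (by rw [hd, map_zero])
  rw [hu0, zero_mul] at hu
  exact zero_ne_one hu

end caseA

section main

variable {p : ℕ} [Fact p.Prime] {k : Type u} [Field k] (u : k)
  (hu : u * ((p - 1 : ℕ) : k) = 1) (χ : (ZMod p)ˣ →* kˣ)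
  (hχp : ∀ m : (ZMod p)ˣ, ((χ m : kˣ) : k) - (((m : ZMod p).val : ℕ) : k) ∈
    Ideal.span ({(p : k)} : Set k))
  {A : Type u} [CommRing A] [HopfAlgebra k A]
  (hp : (WithConv.toConv (AlgHom.id k A)) ^ p = 1)

include hu hχp hp in
/-- Over a field, every eigen-submodule of a nontrivial finite group scheme killed by `p` is
nonzero. -/
theorem eigenAug_ne_bot [Module.Finite k A]
    (hne : ∃ a : A, Coalgebra.counit (R := k) a = 0 ∧ a ≠ 0) (j : ℕ) (hjp : j < p) :
    eigenAug k A p χ j ≠ ⊥ := by
  set I := RingHom.ker (Bialgebra.counitAlgHom k A) with hI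
  have hImem : ∀ x : A, x ∈ I ↔ Coalgebra.counit (R := k) x = 0 := fun x => Iff.rfl
  by_cases hcase : ∃ t : A, Coalgebra.counit (R := k) t = 0 ∧ t ∉ I ^ 2
  · obtain ⟨t, ht, ht2⟩ := hcase
    exact caseB u hu χ hχp hp t ht ht2 j hjp
  · push Not at hcase
    have hle : I ≤ I ^ 2 := fun x hx => hcase x ((hImem x).1 hx)
    have hidem : IsIdempotentElem I := by
      change I * I = I
      rw [← sq]
      exact le_antisymm (Ideal.pow_le_self two_ne_zero) hle
    have hnoeth : IsNoetherianRing A := isNoetherian_of_tower k (inferInstance : IsNoetherian k A)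
    obtain ⟨e, he, hIe⟩ := (Ideal.isIdempotentElem_iff_of_fg I (IsNoetherian.noetherian I)).1 hidem
    have heI : e ∈ I := by rw [hIe]; exact Ideal.mem_span_singleton_self e
    have he0 : e ≠ 0 := by
      rintro rfl
      obtain ⟨a, ha, ha0⟩ := hne
      apply ha0
      have : a ∈ I := (hImem a).2 ha
      rw [hIe, Ideal.mem_span_singleton] at this
      simpa using this
    have hnu : ¬ IsUnit (1 - e) := by
      intro hunit
      apply he0
      have h1 : e * (1 - e) = 0 := by
        have := he.eq
        rw [mul_sub, mul_one, this, sub_self]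
      exact (hunit.mul_left_eq_zero).1 h1
    obtain ⟨𝔪, hmax, hle𝔪⟩ := Ideal.exists_le_maximal (Ideal.span {1 - e})
      (by rwa [Ne, Ideal.span_singleton_eq_top])
    have h1e : 1 - e ∈ 𝔪 := hle𝔪 (Ideal.mem_span_singleton_self _)
    let _ : Field (A ⧸ 𝔪) := Ideal.Quotient.field 𝔪
    refine caseA u hu χ hp (A ⧸ 𝔪) (Ideal.Quotient.mkₐ k 𝔪) ?_ j
    intro hg
    have h2 := AlgHom.congr_fun hg e
    have h3 : (Ideal.Quotient.mkₐ k 𝔪) e = 1 := by
      have : (Ideal.Quotient.mkₐ k 𝔪) (1 - e) = 0 := by
        rw [Ideal.Quotient.mkₐ_eq_mk]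
        exact Ideal.Quotient.eq_zero_iff_mem.2 h1e
      rw [map_sub, map_one, sub_eq_zero] at this
      exact this.symm
    rw [h3, AlgHom.comp_apply] at h2
    have h4 : (Bialgebra.counitAlgHom k A) e = 0 := (hImem e).1 heI
    rw [h4, map_zero] at h2
    exact one_ne_zero h2

end main

end Groth.Agent.R2.H90.OTField
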