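import Mathlib
import Groth.Prelude.Def_W4c5ffgsreadingcourseOT
import Groth.Agent.Lib.Helper25Torsion
import Groth.Agent.R2.H90OortTateDual

set_option autoImplicit false
set_option linter.unusedSectionVars false
universe u

/-!
# The elements `y_i` of Oort–Tate in the group algebra of `ℤ/p` (helper90, for S18473)

`A = R[ℤ/p]`, `e a` the basis elements, `y_i = u Σ_m χ(m)^{-i} (e m - 1)`.
* basics of `A`: `e`, `coef`, `eq_sum_e`, `eq_sum_units_of_counit_eq_zero`, explicit `ygen_eq`;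
* character sums: `geom_chi`, matrices `Mm`, `Nm` with `Nm_mul_Mm`, `Mm_mul_Nm`, `sum_chi_inv_pow`;
* basis: `e_sub_one_eq`, `span_ygen`, `linearIndependent_ygen`;
* eigen-structure: `IsEig`, `isEig_ygen`, `IsEig.mul`, `IsEig.pow`, `IsEig.eq_smul`;
* `ygen_zero_mul`, `ygen_mul_ygen`, `dvd_pow_of_pow_eq` (the constant `w_{p-1}` divides `p^(p-2)`).
-/

namespace Groth.Agent.R2.H90.OTGen

open _root_.OortTate SGA3b Groth.Agent.Lib.Helper25.Tors

section basics

variable (R : Type u) [CommRing R] (p : ℕ) [Fact p.Prime]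

/-- the group algebra -/
abbrev A := MonoidAlgebra R (Multiplicative (ZMod p))

/-- the basis element attached to `a : ZMod p` -/
noncomputable def e (a : ZMod p) : A R p := MonoidAlgebra.of R _ (Multiplicative.ofAdd a)

variable {R p}

theorem e_def (a : ZMod p) : e R p a = MonoidAlgebra.single (Multiplicative.ofAdd a) 1 := rfl

@[simp] theorem e_zero : e R p 0 = 1 := rfl

theorem e_add (a b : ZMod p) : e R p (a + b) = e R p a * e R p b := by
  unfold e
  rw [ofAdd_add, map_mul]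

theorem e_pow (a : ZMod p) (n : ℕ) : e R p a ^ n = e R p (n • a) := by
  unfold e
  rw [← map_pow, ← ofAdd_nsmul]

theorem muT_eq : muT R p = e R p 1 := rfl

theorem counit_e (a : ZMod p) : Coalgebra.counit (R := R) (e R p a) = 1 := by
  have hgl := MonoidAlgebra.isGroupLikeElem_of (R := R) (A := R) (Multiplicative.ofAdd a)
  exact hgl.counit_eq_one

/-- coefficient functional -/
noncomputable def coef (a : ZMod p) : A R p →ₗ[R] R :=
  Finsupp.lapply (Multiplicative.ofAdd a) ∘ₗ (MonoidAlgebra.coeffLinearEquiv R).toLinearMap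

theorem coef_apply (a : ZMod p) (x : A R p) : coef a x = x.coeff (Multiplicative.ofAdd a) := rfl

theorem coef_single (a : ZMod p) (g : Multiplicative (ZMod p)) (r : R) :
    coef a (MonoidAlgebra.single g r : A R p) = if g = Multiplicative.ofAdd a then r else 0 := by
  classical
  rw [coef_apply, MonoidAlgebra.coeff_single, Finsupp.single_apply]

theorem coef_e (a b : ZMod p) : coef a (e R p b) = if b = a then 1 else 0 := by
  rw [e_def, coef_single]
  simp only [Multiplicative.ofAdd.injective.eq_iff]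

theorem eq_sum_e (x : A R p) : x = ∑ a : ZMod p, coef a x • e R p a := by
  classical
  induction x using MonoidAlgebra.induction_linear with
  | zero => simp
  | add f g hf hg =>
    conv_lhs => rw [hf, hg]
    rw [← Finset.sum_add_distrib]
    refine Finset.sum_congr rfl (fun a _ => ?_)
    rw [map_add, add_smul]
  | single g r =>
    rw [Finset.sum_eq_single (Multiplicative.toAdd g)]
    · rw [coef_single, if_pos (by simp), e_def, MonoidAlgebra.smul_single, smul_eq_mul, mul_one]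
      simp
    · intro b _ hb
      rw [coef_single, if_neg, zero_smul]
      intro h
      apply hb
      rw [h]
      simp
    · intro h
      exact absurd (Finset.mem_univ _) h

theorem counit_eq_sum (x : A R p) : Coalgebra.counit (R := R) x = ∑ a : ZMod p, coef a x := by
  conv_lhs => rw [eq_sum_e x]
  rw [map_sum]
  refine Finset.sum_congr rfl (fun a _ => ?_)
  rw [map_smul, counit_e, smul_eq_mul, mul_one]

theorem powConv_e (n : ℕ) (a : ZMod p) : powConv R (A R p) n (e R p a) = e R p (n • a) := by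
  have hgl := MonoidAlgebra.isGroupLikeElem_of (R := R) (A := R) (Multiplicative.ofAdd a)
  rw [← e_pow]
  exact powConv_groupLike n hgl.comul_eq_tmul_self hgl.counit_eq_one

theorem powConv_one' (n : ℕ) : powConv R (A R p) n (1 : A R p) = 1 := map_one _

theorem sum_zmod_eq {M : Type*} [AddCommMonoid M] (f : ZMod p → M) :
    ∑ a : ZMod p, f a = f 0 + ∑ m : (ZMod p)ˣ, f (m : ZMod p) := by
  classical
  rw [← Finset.add_sum_erase Finset.univ f (Finset.mem_univ (0 : ZMod p))]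
  congr 1
  rw [Finset.sum_subtype (Finset.univ.erase (0 : ZMod p)) (p := fun a => a ≠ 0) (by simp) f]
  exact (Fintype.sum_equiv unitsEquivNeZero _ _ (fun m => rfl)).symm

theorem eq_sum_units_of_counit_eq_zero (x : A R p) (hx : Coalgebra.counit (R := R) x = 0) :
    x = ∑ m : (ZMod p)ˣ, coef (m : ZMod p) x • (e R p m - 1) := by
  have h1 : x = ∑ a : ZMod p, coef a x • (e R p a - 1) := by
    conv_lhs => rw [eq_sum_e x]
    have h2 : ∑ a : ZMod p, coef a x • (e R p a - 1) =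
        ∑ a : ZMod p, coef a x • e R p a - (∑ a : ZMod p, coef a x) • (1 : A R p) := by
      rw [Finset.sum_smul, ← Finset.sum_sub_distrib]
      refine Finset.sum_congr rfl (fun a _ => ?_)
      rw [smul_sub]
    rw [h2, ← counit_eq_sum, hx, zero_smul, sub_zero]
  rw [sum_zmod_eq] at h1
  rw [e_zero, sub_self, smul_zero, zero_add] at h1
  exact h1

theorem ygen_eq (u : R) (χ : (ZMod p)ˣ →* Rˣ) (i : ℕ) :
    ygen R p u χ i = u • ∑ m : (ZMod p)ˣ, ((χ m⁻¹ : Rˣ) : R) ^ i • (e R p m - 1) := by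
  unfold ygen proj
  simp only [LinearMap.smul_apply, LinearMap.sum_apply]
  congr 1
  refine Finset.sum_congr rfl (fun m _ => ?_)
  congr 1
  change powConv R (A R p) (m : ZMod p).val (muT R p - 1) = _
  rw [map_sub, map_one, muT_eq, powConv_e]
  congr 2
  rw [nsmul_eq_mul, mul_one, ZMod.natCast_zmod_val]

end basics

section chars

variable {R : Type u} [CommRing R] {p : ℕ} [Fact p.Prime] (u : R)
  (hu : u * ((p - 1 : ℕ) : R) = 1) (χ : (ZMod p)ˣ →* Rˣ)
  (hχ : ∀ m : (ZMod p)ˣ, m ≠ 1 → IsUnit ((χ m : R) - 1))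

theorem chi_pow_card (m : (ZMod p)ˣ) : ((χ m : Rˣ) : R) ^ (p - 1) = 1 := by
  rw [← Units.val_pow_eq_pow_val, ← map_pow, ZMod.units_pow_card_sub_one_eq_one, map_one,
    Units.val_one]

theorem chi_inv_mul' (m : (ZMod p)ˣ) (i : ℕ) :
    ((χ m⁻¹ : Rˣ) : R) ^ i * ((χ m : Rˣ) : R) ^ i = 1 := by
  rw [← mul_pow, ← Units.val_mul, ← map_mul, inv_mul_cancel, map_one, Units.val_one, one_pow]

include hχ in
theorem geom_chi (a : (ZMod p)ˣ) (ha : a ≠ 1) :
    ∑ i ∈ Finset.range (p - 1), ((χ a : Rˣ) : R) ^ i = 0 := by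
  have h := geom_sum_mul ((χ a : Rˣ) : R) (p - 1)
  rw [chi_pow_card, sub_self] at h
  exact (hχ a ha).mul_left_eq_zero.mp h

/-- the matrix of the `y_i` in terms of the `e m - 1` -/
noncomputable def Mm : Matrix (Fin (p - 1)) (ZMod p)ˣ R := fun i m => u * ((χ m⁻¹ : Rˣ) : R) ^ (i : ℕ)

/-- its inverse -/
noncomputable def Nm : Matrix (ZMod p)ˣ (Fin (p - 1)) R := fun m i => ((χ m : Rˣ) : R) ^ (i : ℕ)

include hu hχ in
theorem Nm_mul_Mm : Nm χ * Mm u χ = 1 := by
  ext m m'
  rw [Matrix.mul_apply, Matrix.one_apply]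
  simp only [Nm, Mm]
  have h1 : ∀ i : Fin (p - 1), ((χ m : Rˣ) : R) ^ (i : ℕ) * (u * ((χ m'⁻¹ : Rˣ) : R) ^ (i : ℕ)) =
      u * ((χ (m * m'⁻¹) : Rˣ) : R) ^ (i : ℕ) := by
    intro i
    rw [map_mul, Units.val_mul, mul_pow]
    ring
  rw [Finset.sum_congr rfl (fun i _ => h1 i), ← Finset.mul_sum,
    Fin.sum_univ_eq_sum_range (fun i => ((χ (m * m'⁻¹) : Rˣ) : R) ^ i) (p - 1)]
  split_ifs with h
  · subst h
    rw [mul_inv_cancel, map_one, Units.val_one]
    simp only [one_pow, Finset.sum_const, Finset.card_range, nsmul_eq_mul, mul_one]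
    exact hu
  · rw [geom_chi χ hχ, mul_zero]
    intro h'
    exact h (mul_inv_eq_one.mp h')

include hu hχ in
theorem Mm_mul_Nm : Mm u χ * Nm χ = 1 := by
  have e : Fintype.card (ZMod p)ˣ = Fintype.card (Fin (p - 1)) := by
    rw [ZMod.card_units, Fintype.card_fin]
  exact (Matrix.mul_eq_one_comm_of_equiv (Fintype.equivOfCardEq e)).mp (Nm_mul_Mm u hu χ hχ)

include hu hχ in
/-- second orthogonality -/
theorem sum_chi_inv_pow (i : ℕ) (hi1 : 1 ≤ i) (hi2 : i < p - 1) :
    ∑ m : (ZMod p)ˣ, ((χ m⁻¹ : Rˣ) : R) ^ i = 0 := by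
  have h0 : 0 < p - 1 := by omega
  have h := congrFun (congrFun (Mm_mul_Nm u hu χ hχ) ⟨i, hi2⟩) ⟨0, h0⟩
  rw [Matrix.mul_apply, Matrix.one_apply, if_neg (by
    intro h'
    have := congrArg Fin.val h'
    simp at this
    omega)] at h
  simp only [Mm, Nm, pow_zero, mul_one] at h
  rw [← Finset.mul_sum] at h
  have h2 := congrArg (fun z => ((p - 1 : ℕ) : R) * z) h
  simp only [mul_zero] at h2
  rw [← mul_assoc, mul_comm _ u, hu, one_mul] at h2
  exact h2

end chars


section basis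

variable {R : Type u} [CommRing R] {p : ℕ} [Fact p.Prime] (u : R)
  (hu : u * ((p - 1 : ℕ) : R) = 1) (χ : (ZMod p)ˣ →* Rˣ)
  (hχ : ∀ m : (ZMod p)ˣ, m ≠ 1 → IsUnit ((χ m : R) - 1))

theorem ygen_eq_sum_Mm (i : Fin (p - 1)) :
    ygen R p u χ (i : ℕ) = ∑ m : (ZMod p)ˣ, Mm u χ i m • (e R p m - 1) := by
  rw [ygen_eq, Finset.smul_sum]
  refine Finset.sum_congr rfl (fun m _ => ?_)
  rw [smul_smul]
  rfl

theorem counit_ygen (i : ℕ) : Coalgebra.counit (R := R) (ygen R p u χ i) = 0 := by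
  rw [ygen_eq, map_smul, map_sum]
  have : ∀ m : (ZMod p)ˣ, Coalgebra.counit (R := R)
      (((χ m⁻¹ : Rˣ) : R) ^ i • (e R p (m : ZMod p) - 1)) = 0 := by
    intro m
    rw [map_smul, map_sub, counit_e]
    have : Coalgebra.counit (R := R) (1 : A R p) = 1 := by
      rw [← e_zero, counit_e]
    rw [this, sub_self, smul_zero]
  rw [Finset.sum_congr rfl (fun m _ => this m), Finset.sum_const_zero, smul_zero]

include hu hχ in
theorem e_sub_one_eq (m : (ZMod p)ˣ) :
    e R p (m : ZMod p) - 1 = ∑ i : Fin (p - 1), Nm χ m i • ygen R p u χ (i : ℕ) := by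
  have h1 : ∑ i : Fin (p - 1), Nm χ m i • ygen R p u χ (i : ℕ) =
      ∑ m' : (ZMod p)ˣ, (Nm χ * Mm u χ) m m' • (e R p (m' : ZMod p) - 1) := by
    simp only [ygen_eq_sum_Mm, Finset.smul_sum, smul_smul, Matrix.mul_apply, Finset.sum_smul]
    exact Finset.sum_comm
  rw [h1, Nm_mul_Mm u hu χ hχ]
  simp [Matrix.one_apply]

include hu hχ in
theorem span_ygen :
    Submodule.span R (Set.range (fun i : Fin (p - 1) => ygen R p u χ (i : ℕ))) =
      LinearMap.ker (Bialgebra.counitAlgHom R (A R p)).toLinearMap := by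
  apply le_antisymm
  · rw [Submodule.span_le]
    rintro _ ⟨i, rfl⟩
    exact counit_ygen u χ i
  · intro x hx
    have hx' : Coalgebra.counit (R := R) x = 0 := hx
    rw [eq_sum_units_of_counit_eq_zero x hx']
    refine Submodule.sum_mem _ (fun m _ => Submodule.smul_mem _ _ ?_)
    rw [e_sub_one_eq u hu χ hχ m]
    exact Submodule.sum_mem _ (fun i _ => Submodule.smul_mem _ _ (Submodule.subset_span ⟨i, rfl⟩))

theorem coef_one (m : (ZMod p)ˣ) : coef (m : ZMod p) (1 : A R p) = 0 := by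
  rw [← e_zero, coef_e, if_neg]
  exact fun h => m.ne_zero h.symm

theorem coef_ygen (i : Fin (p - 1)) (m : (ZMod p)ˣ) :
    coef (m : ZMod p) (ygen R p u χ (i : ℕ)) = Mm u χ i m := by
  classical
  rw [ygen_eq_sum_Mm, map_sum, Finset.sum_eq_single m]
  · rw [map_smul, map_sub, coef_e, if_pos rfl, coef_one, sub_zero, smul_eq_mul, mul_one]
  · intro m' _ hm'
    rw [map_smul, map_sub, coef_e, coef_one, if_neg, sub_zero, smul_zero]
    exact fun h => hm' (Units.ext h)
  · intro h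
    exact absurd (Finset.mem_univ _) h

include hu hχ in
theorem linearIndependent_ygen :
    LinearIndependent R (fun i : Fin (p - 1) => ygen R p u χ (i : ℕ)) := by
  rw [Fintype.linearIndependent_iff]
  intro g hg
  have h1 : Matrix.vecMul g (Mm u χ) = 0 := by
    funext m
    have h2 := congrArg (coef (m : ZMod p)) hg
    rw [map_sum, map_zero] at h2
    simp only [map_smul, coef_ygen, smul_eq_mul] at h2
    exact h2
  have h3 : g = Matrix.vecMul (Matrix.vecMul g (Mm u χ)) (Nm χ) := by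
    rw [Matrix.vecMul_vecMul, Mm_mul_Nm u hu χ hχ, Matrix.vecMul_one]
  rw [h1, Matrix.zero_vecMul] at h3
  intro i
  rw [h3]
  rfl

end basis

section eigen

variable {R : Type u} [CommRing R] {p : ℕ} [Fact p.Prime] (u : R)
  (hu : u * ((p - 1 : ℕ) : R) = 1) (χ : (ZMod p)ˣ →* Rˣ)
  (hχ : ∀ m : (ZMod p)ˣ, m ≠ 1 → IsUnit ((χ m : R) - 1))

theorem hpA : (WithConv.toConv (AlgHom.id R (A R p))) ^ p = 1 := by
  apply WithConv.ofConv_injective
  apply AlgHom.ext
  intro y
  change powConv R (A R p) p y = algebraMap R _ (Coalgebra.counit (R := R) y)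
  rw [counit_eq_sum, Algebra.algebraMap_eq_smul_one, Finset.sum_smul]
  conv_lhs => rw [eq_sum_e y]
  rw [map_sum]
  refine Finset.sum_congr rfl (fun a _ => ?_)
  rw [map_smul, powConv_e, nsmul_eq_mul, ZMod.natCast_self, zero_mul, e_zero]

theorem powConv_unit_e (m : (ZMod p)ˣ) (a : ZMod p) :
    powConv R (A R p) (m : ZMod p).val (e R p a) = e R p ((m : ZMod p) * a) := by
  rw [powConv_e, nsmul_eq_mul, ZMod.natCast_zmod_val]

theorem coef_powConv (m : (ZMod p)ˣ) (a : ZMod p) (x : A R p) :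
    coef ((m : ZMod p) * a) (powConv R (A R p) (m : ZMod p).val x) = coef a x := by
  classical
  conv_lhs => rw [eq_sum_e x]
  rw [map_sum, map_sum, Finset.sum_eq_single a]
  · rw [map_smul, map_smul, powConv_unit_e, coef_e, if_pos rfl, smul_eq_mul, mul_one]
  · intro b _ hb
    rw [map_smul, map_smul, powConv_unit_e, coef_e, if_neg, smul_zero]
    intro h
    exact hb (m.isUnit.mul_right_injective h)
  · intro h
    exact absurd (Finset.mem_univ _) h

/-- eigen-elements of the augmentation ideal -/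
def IsEig (i : ℕ) (x : A R p) : Prop :=
  Coalgebra.counit (R := R) x = 0 ∧
    ∀ m : (ZMod p)ˣ, powConv R (A R p) (m : ZMod p).val x = ((χ m : Rˣ) : R) ^ i • x

theorem isEig_ygen (i : ℕ) : IsEig χ i (ygen R p u χ i) :=
  ⟨counit_ygen u χ i, fun m => Groth.Agent.R2.H90.OortTateDual.powConv_proj u χ hpA i m _⟩

theorem IsEig.mul {i j : ℕ} {x y : A R p} (hx : IsEig χ i x) (hy : IsEig χ j y) :
    IsEig χ (i + j) (x * y) := by
  refine ⟨?_, fun m => ?_⟩
  · have : Coalgebra.counit (R := R) (x * y) =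
        Coalgebra.counit (R := R) x * Coalgebra.counit (R := R) y :=
      map_mul (Bialgebra.counitAlgHom R (A R p)) x y
    rw [this, hx.1, zero_mul]
  · rw [map_mul, hx.2 m, hy.2 m, smul_mul_smul_comm, pow_add]

theorem IsEig.pow {i : ℕ} {x : A R p} (hx : IsEig χ i x) (n : ℕ) :
    IsEig χ ((n + 1) * i) (x ^ (n + 1)) := by
  induction n with
  | zero => simpa using hx
  | succ n ih =>
    rw [pow_succ, add_mul (n + 1) 1 i, one_mul]
    exact ih.mul χ hx

theorem IsEig.add_period {i : ℕ} {x : A R p} (hx : IsEig χ (i + (p - 1)) x) : IsEig χ i x := by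
  refine ⟨hx.1, fun m => ?_⟩
  rw [hx.2 m, pow_add, chi_pow_card, mul_one]

theorem ygen_add_period (i : ℕ) : ygen R p u χ (i + (p - 1)) = ygen R p u χ i := by
  rw [ygen_eq, ygen_eq]
  congr 1
  refine Finset.sum_congr rfl (fun m _ => ?_)
  rw [pow_add, chi_pow_card, mul_one]

include hu in
theorem IsEig.eq_smul {i : ℕ} {x : A R p} (hx : IsEig χ i x) :
    x = (coef 1 x * ((p - 1 : ℕ) : R)) • ygen R p u χ i := by
  have h1 : ∀ m : (ZMod p)ˣ, coef (m : ZMod p) x = ((χ m⁻¹ : Rˣ) : R) ^ i * coef 1 x := by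
    intro m
    have h2 := coef_powConv m 1 x
    rw [hx.2 m, map_smul, mul_one, smul_eq_mul] at h2
    rw [← h2, ← mul_assoc, chi_inv_mul', one_mul]
  conv_lhs => rw [eq_sum_units_of_counit_eq_zero x hx.1]
  rw [ygen_eq, smul_smul, mul_assoc, mul_comm _ u, hu, mul_one, Finset.smul_sum]
  refine Finset.sum_congr rfl (fun m _ => ?_)
  rw [h1 m, smul_smul, mul_comm]

end eigen

section partA

variable {R : Type u} [CommRing R] {p : ℕ} [Fact p.Prime] (u : R)
  (hu : u * ((p - 1 : ℕ) : R) = 1) (χ : (ZMod p)ˣ →* Rˣ)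
  (hχ : ∀ m : (ZMod p)ˣ, m ≠ 1 → IsUnit ((χ m : R) - 1))

/-- the norm element -/
noncomputable def normElt (R : Type u) [CommRing R] (p : ℕ) [Fact p.Prime] : A R p :=
  ∑ a : ZMod p, e R p a

theorem normElt_mul (x : A R p) :
    normElt R p * x = Coalgebra.counit (R := R) x • normElt R p := by
  conv_lhs => rw [eq_sum_e x]
  rw [counit_eq_sum, Finset.mul_sum, Finset.sum_smul]
  refine Finset.sum_congr rfl (fun b _ => ?_)
  rw [mul_smul_comm]
  congr 1
  unfold normElt
  rw [Finset.sum_mul]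
  simp only [← e_add]
  exact Fintype.sum_equiv (Equiv.addRight b) _ _ (fun a => rfl)

theorem ygen_zero_eq : ygen R p u χ 0 = u • (normElt R p - (p : A R p)) := by
  rw [ygen_eq]
  congr 1
  simp only [pow_zero, one_smul]
  have h := sum_zmod_eq (fun a : ZMod p => e R p a - 1)
  simp only [e_zero, sub_self, zero_add] at h
  rw [← h, Finset.sum_sub_distrib]
  unfold normElt
  simp

theorem ygen_zero_mul (x : A R p) (hx : Coalgebra.counit (R := R) x = 0) :
    ygen R p u χ 0 * x = (-(u * (p : R))) • x := by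
  rw [ygen_zero_eq, smul_mul_assoc, sub_mul, normElt_mul, hx, zero_smul, zero_sub, smul_neg,
    neg_smul, mul_smul]
  congr 2
  rw [Nat.cast_smul_eq_nsmul, nsmul_eq_mul]

theorem ygen_zero_pow (n : ℕ) :
    ygen R p u χ 0 ^ (n + 1) = (-(u * (p : R))) ^ n • ygen R p u χ 0 := by
  induction n with
  | zero => simp
  | succ n ih =>
    rw [pow_succ, ih, smul_mul_assoc, ← pow_two, pow_two,
      ygen_zero_mul u χ _ (counit_ygen u χ 0), smul_smul, ← pow_succ]

include hu hχ in
theorem ygen_eq' (j : ℕ) (hj1 : 1 ≤ j) (hj2 : j < p - 1) :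
    ygen R p u χ j = u • ∑ m : (ZMod p)ˣ, ((χ m⁻¹ : Rˣ) : R) ^ j • e R p m := by
  rw [ygen_eq]
  congr 1
  have h1 : ∑ m : (ZMod p)ˣ, ((χ m⁻¹ : Rˣ) : R) ^ j • (e R p (m : ZMod p) - 1) =
      ∑ m : (ZMod p)ˣ, ((χ m⁻¹ : Rˣ) : R) ^ j • e R p (m : ZMod p) -
        (∑ m : (ZMod p)ˣ, ((χ m⁻¹ : Rˣ) : R) ^ j) • (1 : A R p) := by
    rw [Finset.sum_smul, ← Finset.sum_sub_distrib]
    refine Finset.sum_congr rfl (fun m _ => ?_)
    rw [smul_sub]
  rw [h1, sum_chi_inv_pow u hu χ hχ j hj1 hj2, zero_smul, sub_zero]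

include hu in
theorem coef_zero_ygen_zero : coef 0 (ygen R p u χ 0) = -1 := by
  classical
  rw [ygen_zero_eq, map_smul, map_sub]
  have h1 : coef 0 (normElt R p) = 1 := by
    unfold normElt
    rw [map_sum, Finset.sum_eq_single (0 : ZMod p)]
    · rw [coef_e, if_pos rfl]
    · intro b _ hb
      rw [coef_e, if_neg hb]
    · intro h
      exact absurd (Finset.mem_univ _) h
  have h2 : coef 0 ((p : ℕ) : A R p) = (p : R) := by
    have : ((p : ℕ) : A R p) = (p : R) • e R p 0 := by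
      rw [e_zero, Nat.cast_smul_eq_nsmul, nsmul_eq_mul, mul_one]
    rw [this, map_smul, coef_e, if_pos rfl, smul_eq_mul, mul_one]
  rw [h1, h2, smul_eq_mul]
  have hp1 : ((p - 1 : ℕ) : R) = (p : R) - 1 := by
    rw [Nat.cast_sub (Fact.out : p.Prime).one_le, Nat.cast_one]
  rw [hp1] at hu
  linear_combination -hu

include hu hχ in
theorem coef_zero_ygen_mul (j k : ℕ) (hj : 1 ≤ j) (hk : 1 ≤ k) (hjk : j + k = p - 1) :
    coef 0 (ygen R p u χ j * ygen R p u χ k) = u * ((χ (-1 : (ZMod p)ˣ)⁻¹ : Rˣ) : R) ^ k := by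
  classical
  rw [ygen_eq' u hu χ hχ j hj (by omega), ygen_eq' u hu χ hχ k hk (by omega)]
  rw [smul_mul_smul_comm, map_smul, Finset.sum_mul, map_sum]
  have h1 : ∀ m : (ZMod p)ˣ, coef 0 ((((χ m⁻¹ : Rˣ) : R) ^ j • e R p (m : ZMod p)) *
      ∑ m' : (ZMod p)ˣ, ((χ m'⁻¹ : Rˣ) : R) ^ k • e R p (m' : ZMod p)) =
      ((χ (-1 : (ZMod p)ˣ)⁻¹ : Rˣ) : R) ^ k := by
    intro m
    rw [Finset.mul_sum, map_sum, Finset.sum_eq_single ((-1 : (ZMod p)ˣ) * m)]
    · rw [smul_mul_smul_comm, map_smul, ← e_add, coef_e, if_pos (by simp), smul_eq_mul, mul_one]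
      rw [mul_inv, map_mul, Units.val_mul, mul_pow, mul_comm (((χ (-1 : (ZMod p)ˣ)⁻¹ : Rˣ) : R) ^ k),
        ← mul_assoc, ← pow_add, hjk, chi_pow_card, one_mul]
    · intro m' _ hm'
      rw [smul_mul_smul_comm, map_smul, ← e_add, coef_e, if_neg, smul_zero]
      intro h
      apply hm'
      apply Units.ext
      rw [Units.val_mul, Units.val_neg, Units.val_one, neg_one_mul]
      exact (eq_neg_of_add_eq_zero_right h)
    · intro h
      exact absurd (Finset.mem_univ _) h
  rw [Finset.sum_congr rfl (fun m _ => h1 m), Finset.sum_const, Finset.card_univ,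
    ZMod.card_units, smul_eq_mul, nsmul_eq_mul, ← mul_assoc, mul_assoc u u, hu, mul_one]

include hu hχ in
theorem ygen_mul_ygen (j k : ℕ) (hj : 1 ≤ j) (hk : 1 ≤ k) (hjk : j + k = p - 1) :
    ygen R p u χ j * ygen R p u χ k =
      (-(u * ((χ (-1 : (ZMod p)ˣ)⁻¹ : Rˣ) : R) ^ k)) • ygen R p u χ 0 := by
  have h1 : IsEig χ 0 (ygen R p u χ j * ygen R p u χ k) := by
    apply IsEig.add_period
    rw [zero_add, ← hjk]
    exact (isEig_ygen u χ j).mul χ (isEig_ygen u χ k)
  have h2 := h1.eq_smul u hu χ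
  set d := coef 1 (ygen R p u χ j * ygen R p u χ k) * ((p - 1 : ℕ) : R) with hd
  have h3 := congrArg (coef 0) h2
  rw [coef_zero_ygen_mul u hu χ hχ j k hj hk hjk, map_smul, coef_zero_ygen_zero u hu χ,
    smul_eq_mul, mul_neg, mul_one] at h3
  rw [h2, h3, neg_neg]

include hu hχ in
theorem smul_ygen_injective (i : ℕ) (hi : i < p - 1) {c c' : R}
    (h : c • ygen R p u χ i = c' • ygen R p u χ i) : c = c' := by
  classical
  have hli := linearIndependent_ygen u hu χ hχ
  rw [Fintype.linearIndependent_iff] at hli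
  have h1 := hli (Pi.single ⟨i, hi⟩ (c - c')) (by
    rw [Finset.sum_eq_single ⟨i, hi⟩]
    · rw [Pi.single_eq_same, sub_smul, h, sub_self]
    · intro b _ hb
      rw [Pi.single_eq_of_ne hb, zero_smul]
    · intro h'
      exact absurd (Finset.mem_univ _) h') ⟨i, hi⟩
  rw [Pi.single_eq_same] at h1
  exact sub_eq_zero.mp h1

theorem IsEig.of_mul_period {n : ℕ} {x : A R p} (hx : IsEig χ (n * (p - 1)) x) : IsEig χ 0 x := by
  refine ⟨hx.1, fun m => ?_⟩
  rw [hx.2 m, mul_comm, pow_mul, chi_pow_card, one_pow, pow_zero]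

include hu hχ in
theorem dvd_pow_of_pow_eq (hp3 : 3 ≤ p) (w : R)
    (hw : ygen R p u χ 1 ^ (p - 1) = w • ygen R p u χ 0) : w ∣ (p : R) ^ (p - 2) := by
  have hk1 : 1 ≤ p - 2 := by omega
  have h1k : 1 + (p - 2) = p - 1 := by omega
  have hp1 : p - 1 = (p - 2) + 1 := by omega
  have h0 : 0 < p - 1 := by omega
  set d : R := -(u * ((χ (-1 : (ZMod p)ˣ)⁻¹ : Rˣ) : R) ^ (p - 2)) with hd
  have hprod : ygen R p u χ 1 * ygen R p u χ (p - 2) = d • ygen R p u χ 0 :=
    ygen_mul_ygen u hu χ hχ 1 (p - 2) le_rfl hk1 h1k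
  have huu : IsUnit u := IsUnit.of_mul_eq_one _ hu
  have hdu : IsUnit d := by
    rw [hd]
    exact (huu.mul ((χ (-1 : (ZMod p)ˣ)⁻¹).isUnit.pow _)).neg
  have heig : IsEig χ 0 (ygen R p u χ (p - 2) ^ (p - 1)) := by
    have h := (isEig_ygen u χ (p - 2)).pow χ (p - 2)
    rw [← hp1, mul_comm] at h
    exact h.of_mul_period χ
  have hr := heig.eq_smul u hu χ
  set r := coef 1 (ygen R p u χ (p - 2) ^ (p - 1)) * ((p - 1 : ℕ) : R) with hrdef
  have e1 : (ygen R p u χ 1 * ygen R p u χ (p - 2)) ^ (p - 1) =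
      (d ^ (p - 1) * (-(u * (p : R))) ^ (p - 2)) • ygen R p u χ 0 := by
    rw [hprod, smul_pow]
    conv_lhs => rw [hp1, ygen_zero_pow, ← hp1]
    rw [smul_smul]
  have e2 : (ygen R p u χ 1 * ygen R p u χ (p - 2)) ^ (p - 1) =
      (w * r * (-(u * (p : R)))) • ygen R p u χ 0 := by
    rw [mul_pow, hw, hr, smul_mul_smul_comm, ← pow_two]
    have := ygen_zero_pow u χ 1
    rw [pow_one] at this
    rw [this, smul_smul]
  have e3 := smul_ygen_injective u hu χ hχ 0 h0 (e1.symm.trans e2)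
  have e4 : w * (r * (-(u * (p : R)))) = (d ^ (p - 1) * (-u) ^ (p - 2)) * (p : R) ^ (p - 2) := by
    rw [← mul_assoc, ← e3, neg_mul_eq_neg_mul, mul_pow, mul_assoc]
  have hv : IsUnit (d ^ (p - 1) * (-u) ^ (p - 2)) := (hdu.pow _).mul (huu.neg.pow _)
  have h5 : w ∣ (d ^ (p - 1) * (-u) ^ (p - 2)) * (p : R) ^ (p - 2) := ⟨_, e4.symm⟩
  exact (hv.dvd_mul_left).mp h5

end partA

end Groth.Agent.R2.H90.OTGen
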