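import Mathlib
import Groth.Agent.R2.H90OTGen

set_option autoImplicit false
set_option linter.unusedSectionVars false
universe u

/-!
# Oort–Tate generators, part 2 (helper90, for S18473)

Base change of the group algebra of `ℤ/p`, the characteristic `p` analysis (`y_1 = (T - 1) · unit`),
the constant `w_{p-1}` is a unit, `R[y_1] = R[ℤ/p]`, and `y_1 ^ p = w • y_1` for a unique `w`.
-/

namespace Groth.Agent.R2.H90.OTGenP

open _root_.OortTate SGA3b Groth.Agent.R2.H90.OTGen

section baseChange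

variable {R S : Type u} [CommRing R] [CommRing S] {p : ℕ} [Fact p.Prime] (f : R →+* S)

/-- base change of group algebras -/
noncomputable def bc : A R p →+* A S p := MonoidAlgebra.mapRingHom (Multiplicative (ZMod p)) f

theorem bc_e (a : ZMod p) : bc f (e R p a) = e S p a := by
  unfold bc
  rw [e_def, MonoidAlgebra.mapRingHom_single, map_one, ← e_def]

theorem bc_smul (r : R) (x : A R p) : bc f (r • x) = f r • bc f x := by
  have h1 : r • x = MonoidAlgebra.single 1 r * x := by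
    rw [Algebra.smul_def]
    rfl
  have h2 : f r • bc f x = MonoidAlgebra.single 1 (f r) * bc f x := by
    rw [Algebra.smul_def]
    rfl
  rw [h1, h2, map_mul]
  unfold bc
  rw [MonoidAlgebra.mapRingHom_single]

theorem bc_ygen (u : R) (χ : (ZMod p)ˣ →* Rˣ) (i : ℕ) :
    bc f (ygen R p u χ i) = ygen S p (f u) ((Units.map (f : R →* S)).comp χ) i := by
  rw [ygen_eq, ygen_eq, bc_smul, map_sum]
  congr 1
  refine Finset.sum_congr rfl (fun m _ => ?_)
  rw [bc_smul, map_sub, map_one, bc_e, map_pow]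
  rfl

end baseChange

section charp

variable {S : Type u} [CommRing S] {p : ℕ} [Fact p.Prime]

theorem coef_mul_e (a b : ZMod p) (x : A S p) : coef a (x * e S p b) = coef (a - b) x := by
  classical
  conv_lhs => rw [eq_sum_e x]
  rw [Finset.sum_mul, map_sum, Finset.sum_eq_single (a - b)]
  · rw [smul_mul_assoc, map_smul, ← e_add, coef_e, if_pos (by ring), smul_eq_mul, mul_one]
  · intro c _ hc
    rw [smul_mul_assoc, map_smul, ← e_add, coef_e, if_neg, smul_zero]
    intro h
    apply hc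
    rw [← h]
    ring
  · intro h
    exact absurd (Finset.mem_univ _) h

/-- `t = T - 1` -/
noncomputable def tt (S : Type u) [CommRing S] (p : ℕ) [Fact p.Prime] : A S p := e S p 1 - 1

theorem coef_tt_pow (n : ℕ) (hn : n < p) :
    coef ((n : ℕ) : ZMod p) (tt S p ^ n) = 1 ∧
      ∀ j : ℕ, n < j → j < p → coef ((j : ℕ) : ZMod p) (tt S p ^ n) = 0 := by
  induction n with
  | zero =>
    refine ⟨?_, fun j hj hjp => ?_⟩
    · rw [pow_zero, Nat.cast_zero, ← e_zero, coef_e, if_pos rfl]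
    · rw [pow_zero, ← e_zero, coef_e, if_neg]
      intro h
      have h2 := congrArg ZMod.val h
      rw [ZMod.val_zero, ZMod.val_natCast, Nat.mod_eq_of_lt hjp] at h2
      omega
  | succ n ih =>
    obtain ⟨ih1, ih2⟩ := ih (by omega)
    have hstep : ∀ a : ZMod p, coef a (tt S p ^ (n + 1)) =
        coef (a - 1) (tt S p ^ n) - coef a (tt S p ^ n) := by
      intro a
      rw [pow_succ, tt, mul_sub, mul_one, map_sub, coef_mul_e]
    refine ⟨?_, fun j hj hjp => ?_⟩
    · rw [hstep, Nat.cast_succ, add_sub_cancel_right, ih1, ← Nat.cast_succ,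
        ih2 (n + 1) (by omega) hn, sub_zero]
    · rw [hstep]
      obtain ⟨j', rfl⟩ : ∃ j', j = j' + 1 := ⟨j - 1, by omega⟩
      rw [Nat.cast_succ, add_sub_cancel_right, ih2 j' (by omega) (by omega), ← Nat.cast_succ,
        ih2 (j' + 1) (by omega) hjp, sub_zero]

theorem tt_pow_ne_zero [Nontrivial S] (n : ℕ) (hn : n < p) : tt S p ^ n ≠ 0 := by
  intro h
  have := (coef_tt_pow (S := S) n hn).1
  rw [h, map_zero] at this
  exact zero_ne_one this

/-- geometric sums -/
noncomputable def gg (S : Type u) [CommRing S] (p : ℕ) [Fact p.Prime] (n : ℕ) : A S p :=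
  ∑ l ∈ Finset.range n, e S p 1 ^ l

theorem tt_mul_gg (n : ℕ) : tt S p * gg S p n = e S p ((n : ℕ) : ZMod p) - 1 := by
  unfold tt gg
  rw [mul_geom_sum, e_pow, nsmul_eq_mul, mul_one]

theorem counit_gg (n : ℕ) : Coalgebra.counit (R := S) (gg S p n) = (n : S) := by
  unfold gg
  rw [map_sum]
  have : ∀ l ∈ Finset.range n, Coalgebra.counit (R := S) (e S p 1 ^ l) = 1 := by
    intro l _
    rw [e_pow, counit_e]
  rw [Finset.sum_congr rfl this]
  simp

theorem e_unit_sub_one (m : (ZMod p)ˣ) :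
    e S p (m : ZMod p) - 1 = tt S p * gg S p (m : ZMod p).val := by
  rw [tt_mul_gg, ZMod.natCast_zmod_val]

theorem algebraMap_injective : Function.Injective (algebraMap S (A S p)) := by
  intro s s' h
  have h2 := congrArg (coef (0 : ZMod p)) h
  rw [Algebra.algebraMap_eq_smul_one, Algebra.algebraMap_eq_smul_one, map_smul, map_smul,
    ← e_zero, coef_e, if_pos rfl, smul_eq_mul, smul_eq_mul, mul_one, mul_one] at h2
  exact h2

theorem tt_pow_p [CharP S p] : tt S p ^ p = 0 := by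
  have : CharP (A S p) p := charP_of_injective_algebraMap algebraMap_injective p
  unfold tt
  rw [sub_pow_char, one_pow, e_pow, nsmul_eq_mul, mul_one, ZMod.natCast_self, e_zero, sub_self]

theorem exists_eq_tt_mul (x : A S p) (hx : Coalgebra.counit (R := S) x = 0) :
    ∃ z : A S p, x = tt S p * z := by
  refine ⟨∑ m : (ZMod p)ˣ, coef (m : ZMod p) x • gg S p (m : ZMod p).val, ?_⟩
  conv_lhs => rw [eq_sum_units_of_counit_eq_zero x hx]
  rw [Finset.mul_sum]
  refine Finset.sum_congr rfl (fun m _ => ?_)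
  rw [e_unit_sub_one, mul_smul_comm]

theorem isNilpotent_of_counit_eq_zero [CharP S p] (x : A S p)
    (hx : Coalgebra.counit (R := S) x = 0) : IsNilpotent x := by
  obtain ⟨z, rfl⟩ := exists_eq_tt_mul x hx
  exact ⟨p, by rw [mul_pow, tt_pow_p, zero_mul]⟩

theorem ygen_one_pow_ne_zero [Nontrivial S] [CharP S p] (u : S)
    (hu : u * ((p - 1 : ℕ) : S) = 1) (χ : (ZMod p)ˣ →* Sˣ)
    (hχ : ∀ m : (ZMod p)ˣ, ((χ m : Sˣ) : S) = (((m : ZMod p).val : ℕ) : S)) (n : ℕ) (hn : n < p) :
    ygen S p u χ 1 ^ n ≠ 0 := by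
  set v : A S p := u • ∑ m : (ZMod p)ˣ, ((χ m⁻¹ : Sˣ) : S) • gg S p (m : ZMod p).val with hv
  have h1 : ygen S p u χ 1 = tt S p * v := by
    rw [ygen_eq, hv, mul_smul_comm, Finset.mul_sum]
    congr 1
    refine Finset.sum_congr rfl (fun m _ => ?_)
    rw [pow_one, e_unit_sub_one, mul_smul_comm]
  have h2 : Coalgebra.counit (R := S) v = 1 := by
    rw [hv, map_smul, map_sum]
    have h3 : ∀ m : (ZMod p)ˣ, Coalgebra.counit (R := S)
        (((χ m⁻¹ : Sˣ) : S) • gg S p (m : ZMod p).val) = 1 := by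
      intro m
      rw [map_smul, counit_gg, hχ, smul_eq_mul, ZMod.natCast_val, ZMod.natCast_val]
      have h4 := map_mul (ZMod.castHom (dvd_refl p) S) ((m⁻¹ : (ZMod p)ˣ) : ZMod p) (m : ZMod p)
      rw [← Units.val_mul, inv_mul_cancel, Units.val_one, map_one] at h4
      exact h4.symm
    rw [Finset.sum_congr rfl (fun m _ => h3 m), Finset.sum_const, Finset.card_univ,
      ZMod.card_units, smul_eq_mul, nsmul_eq_mul, mul_one]
    exact hu
  have h5 : IsUnit v := by
    have h6 : IsNilpotent (v - 1) := by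
      apply isNilpotent_of_counit_eq_zero
      have : Coalgebra.counit (R := S) (1 : A S p) = 1 := by rw [← e_zero, counit_e]
      rw [map_sub, h2, this, sub_self]
    have := h6.isUnit_add_one
    rwa [sub_add_cancel] at this
  intro h
  rw [h1, mul_pow] at h
  have h7 := (h5.pow n).mul_left_eq_zero.mp h
  exact tt_pow_ne_zero n hn h7

end charp

section main

variable {R : Type u} [CommRing R] {p : ℕ} [Fact p.Prime] (u : R)
  (hu : u * ((p - 1 : ℕ) : R) = 1) (χ : (ZMod p)ˣ →* Rˣ)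
  (hχ : ∀ m : (ZMod p)ˣ, m ≠ 1 → IsUnit ((χ m : R) - 1))
  (hχp : ∀ m : (ZMod p)ˣ, ((χ m : Rˣ) : R) - (((m : ZMod p).val : ℕ) : R) ∈
    Ideal.span ({(p : R)} : Set R))

include hu hχp in
theorem isCoprime_of_pow_eq (w : R)
    (hw : ygen R p u χ 1 ^ (p - 1) = w • ygen R p u χ 0) : IsCoprime w (p : R) := by
  by_contra hcop
  set 𝔞 : Ideal R := Ideal.span {w, (p : R)} with h𝔞
  have hne : 𝔞 ≠ ⊤ := by
    intro htop
    have h1 : (1 : R) ∈ 𝔞 := htop ▸ Submodule.mem_top
    rw [h𝔞, Ideal.mem_span_pair] at h1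
    obtain ⟨a, b, hab⟩ := h1
    exact hcop ⟨a, b, hab⟩
  have hnt : Nontrivial (R ⧸ 𝔞) := Ideal.Quotient.nontrivial_iff.mpr hne
  set f : R →+* R ⧸ 𝔞 := Ideal.Quotient.mk 𝔞 with hf
  have hfw : f w = 0 := Ideal.Quotient.eq_zero_iff_mem.mpr (Ideal.subset_span (by simp))
  have hfp : f (p : R) = 0 := Ideal.Quotient.eq_zero_iff_mem.mpr (Ideal.subset_span (by simp))
  have hp0 : ((p : ℕ) : R ⧸ 𝔞) = 0 := by rw [← map_natCast f, hfp]
  have hchar : CharP (R ⧸ 𝔞) p := (CharP.charP_iff_prime_eq_zero Fact.out).2 hp0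
  have hle : Ideal.span ({(p : R)} : Set R) ≤ 𝔞 := Ideal.span_mono (by simp)
  have hχ' : ∀ m : (ZMod p)ˣ, ((((Units.map (f : R →* R ⧸ 𝔞)).comp χ) m : (R ⧸ 𝔞)ˣ) : R ⧸ 𝔞) =
      (((m : ZMod p).val : ℕ) : R ⧸ 𝔞) := by
    intro m
    have h1 := Ideal.Quotient.eq_zero_iff_mem.mpr (hle (hχp m))
    rw [map_sub, sub_eq_zero, map_natCast] at h1
    exact h1
  have hu' : f u * ((p - 1 : ℕ) : R ⧸ 𝔞) = 1 := by
    rw [← map_natCast f, ← map_mul, hu, map_one]
  have h1 := ygen_one_pow_ne_zero (f u) hu' _ hχ' (p - 1)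
    (Nat.sub_lt (Fact.out : p.Prime).pos one_pos)
  apply h1
  rw [← bc_ygen, ← map_pow, hw, bc_smul, hfw, zero_smul]

include hu hχ hχp in
theorem isUnit_of_pow_eq (hp3 : 3 ≤ p) (w : R)
    (hw : ygen R p u χ 1 ^ (p - 1) = w • ygen R p u χ 0) : IsUnit w := by
  have h1 := dvd_pow_of_pow_eq u hu χ hχ hp3 w hw
  have h2 := (isCoprime_of_pow_eq u hu χ hχp w hw).pow_right (n := p - 2)
  exact h2.isUnit_of_dvd' (dvd_refl w) h1

theorem mem_of_smul_eq {B : Subalgebra R (A R p)} {x y : A R p} {c : R} (hc : IsUnit c)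
    (hx : x ∈ B) (h : x = c • y) : y ∈ B := by
  have : y = (↑(hc.unit⁻¹) : R) • x := by
    rw [h, smul_smul, IsUnit.val_inv_mul, one_smul]
  rw [this]
  exact B.smul_mem hx _

include hu hχ hχp in
theorem ygen_mem_adjoin (i : ℕ) (hi : i < p - 1) :
    ygen R p u χ i ∈ Algebra.adjoin R ({ygen R p u χ 1} : Set (A R p)) := by
  set B := Algebra.adjoin R ({ygen R p u χ 1} : Set (A R p)) with hB
  have hy1 : ygen R p u χ 1 ∈ B := Algebra.subset_adjoin rfl
  have hp2 : 2 ≤ p := (Fact.out : p.Prime).two_le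
  rcases (show p = 2 ∨ 3 ≤ p by omega) with hp | hp3
  · have hi0 : i = 0 := by omega
    have h1 : p - 1 = 1 := by omega
    have h2 := ygen_add_period u χ 0
    rw [h1] at h2
    rw [hi0, ← h2]
    exact hy1
  · -- the constant w_{p-1}
    have hp1 : p - 1 = (p - 2) + 1 := by omega
    have heig0 : IsEig χ 0 (ygen R p u χ 1 ^ (p - 1)) := by
      have h := (isEig_ygen u χ 1).pow χ (p - 2)
      rw [← hp1, mul_comm] at h
      exact h.of_mul_period χ
    have hw := heig0.eq_smul u hu χ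
    set w := coef 1 (ygen R p u χ 1 ^ (p - 1)) * ((p - 1 : ℕ) : R) with hwdef
    have hwu : IsUnit w := isUnit_of_pow_eq u hu χ hχ hχp hp3 w hw
    have h0 : 0 < p - 1 := by omega
    rcases Nat.eq_zero_or_pos i with hi0 | hipos
    · rw [hi0]
      exact mem_of_smul_eq hwu (B.pow_mem hy1 _) hw
    · -- 1 ≤ i ≤ p - 2
      have hj1 : i = (i - 1) + 1 := by omega
      have heigj : IsEig χ i (ygen R p u χ 1 ^ i) := by
        have h := (isEig_ygen u χ 1).pow χ (i - 1)
        rw [← hj1, mul_one] at h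
        exact h
      have hwj := heigj.eq_smul u hu χ
      set wj := coef 1 (ygen R p u χ 1 ^ i) * ((p - 1 : ℕ) : R) with hwjdef
      have hk1 : p - 1 - i = (p - 1 - i - 1) + 1 := by omega
      have heigk : IsEig χ (p - 1 - i) (ygen R p u χ 1 ^ (p - 1 - i)) := by
        have h := (isEig_ygen u χ 1).pow χ (p - 1 - i - 1)
        rw [← hk1, mul_one] at h
        exact h
      have hwk := heigk.eq_smul u hu χ
      set wk := coef 1 (ygen R p u χ 1 ^ (p - 1 - i)) * ((p - 1 : ℕ) : R) with hwkdef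
      have hprod := ygen_mul_ygen u hu χ hχ i (p - 1 - i) hipos (by omega) (by omega)
      set d : R := -(u * ((χ (-1 : (ZMod p)ˣ)⁻¹ : Rˣ) : R) ^ (p - 1 - i)) with hd
      have e1 : ygen R p u χ 1 ^ (p - 1) = (wj * wk * d) • ygen R p u χ 0 := by
        have : p - 1 = i + (p - 1 - i) := by omega
        conv_lhs => rw [this, pow_add, hwj, hwk, smul_mul_smul_comm, hprod, smul_smul]
      have e2 : w = wj * wk * d := smul_ygen_injective u hu χ hχ 0 h0 (hw.symm.trans e1)
      have hwju : IsUnit wj := by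
        rw [e2, mul_assoc] at hwu
        exact isUnit_of_mul_isUnit_left hwu
      exact mem_of_smul_eq hwju (B.pow_mem hy1 _) hwj

include hu hχ hχp in
theorem adjoin_ygen_one : Algebra.adjoin R ({ygen R p u χ 1} : Set (A R p)) = ⊤ := by
  set B := Algebra.adjoin R ({ygen R p u χ 1} : Set (A R p)) with hB
  have h1 : ∀ m : (ZMod p)ˣ, e R p (m : ZMod p) ∈ B := by
    intro m
    have h2 : e R p (m : ZMod p) - 1 ∈ B := by
      rw [e_sub_one_eq u hu χ hχ m]
      exact B.sum_mem (fun i _ => B.smul_mem (ygen_mem_adjoin u hu χ hχ hχp i i.2) _)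
    have := B.add_mem h2 B.one_mem
    rwa [sub_add_cancel] at this
  have h3 : ∀ a : ZMod p, e R p a ∈ B := by
    intro a
    by_cases ha : a = 0
    · rw [ha, e_zero]
      exact B.one_mem
    · exact h1 (Units.mk0 a ha)
  rw [eq_top_iff]
  intro x _
  rw [eq_sum_e x]
  exact B.sum_mem (fun a _ => B.smul_mem (h3 a) _)

include hu hχ in
theorem existsUnique_pow_eq :
    ∃! w : R, ygen R p u χ 1 ^ p = w • ygen R p u χ 1 := by
  have hp2 : 2 ≤ p := (Fact.out : p.Prime).two_le
  have hpp : p = (p - 1) + 1 := by omega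
  have heig : IsEig χ 1 (ygen R p u χ 1 ^ p) := by
    have h := (isEig_ygen u χ 1).pow χ (p - 1)
    rw [← hpp, mul_one] at h
    apply IsEig.add_period
    rw [add_comm, ← hpp]
    exact h
  obtain ⟨c, hw⟩ : ∃ c : R, ygen R p u χ 1 ^ p = c • ygen R p u χ 1 := ⟨_, heig.eq_smul u hu χ⟩
  refine ⟨c, hw, fun w' hw' => ?_⟩
  -- uniqueness
  have h2 : w' • ygen R p u χ 1 = c • ygen R p u χ 1 := hw'.symm.trans hw
  rcases (show p = 2 ∨ 3 ≤ p by omega) with hp | hp3
  · have h1 : p - 1 = 1 := by omega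
    have h3 := ygen_add_period u χ 0
    rw [h1, zero_add] at h3
    rw [h3] at h2
    exact smul_ygen_injective u hu χ hχ 0 (by omega) h2
  · exact smul_ygen_injective u hu χ hχ 1 (by omega) h2

end main

end Groth.Agent.R2.H90.OTGenP
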