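/-
Helper library (helper90): the group algebra `R[ℤ/p]` for the Oort–Tate classification: it is
`R[Y]/(Y^p - w Y)` with `Y ↦ y_1` (`exists_liftY`), a character sum, and the shape of the
comultiplication of `y_1` (`comul_ygen_mem`).
-/
import Mathlib
import Groth.Prelude.Def_W4c5ffgsreadingcourseOT
import Groth.Agent.R2.H90OTGen
import Groth.Agent.R2.H90OTGenP

set_option autoImplicit false
set_option linter.unusedSectionVars false
universe u

namespace Groth.Agent.R2.H90.OTGroupAlg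

open _root_.OortTate SGA3b Polynomial
open Groth.Agent.R2.H90.OTGen Groth.Agent.R2.H90.OTGenP

section lift

variable {R : Type u} [CommRing R] {p : ℕ} [Fact p.Prime] (u : R)
  (hu : u * ((p - 1 : ℕ) : R) = 1) (χ : (ZMod p)ˣ →* Rˣ)
  (hχ : ∀ m : (ZMod p)ˣ, m ≠ 1 → IsUnit ((χ m : R) - 1))
  (hχp : ∀ m : (ZMod p)ˣ, ((χ m : Rˣ) : R) - (((m : ZMod p).val : ℕ) : R) ∈
    Ideal.span ({(p : R)} : Set R))

/-- the polynomial `X^p - w X` -/
noncomputable def fw (p : ℕ) (w : R) : R[X] := X ^ p - C w * X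

theorem fw_monic [Nontrivial R] (w : R) : (fw p w).Monic := by
  have hp2 : 2 ≤ p := (Fact.out : p.Prime).two_le
  unfold fw
  apply monic_X_pow_sub
  calc (C w * X).degree ≤ (C w).degree + (X : R[X]).degree := degree_mul_le _ _
    _ ≤ 0 + 1 := add_le_add degree_C_le degree_X_le
    _ = ((1 : ℕ) : WithBot ℕ) := by simp
    _ < ((p : ℕ) : WithBot ℕ) := by
      apply Nat.cast_lt.2
      omega

theorem fw_natDegree [Nontrivial R] (w : R) : (fw p w).natDegree = p := by
  have hp2 : 2 ≤ p := (Fact.out : p.Prime).two_le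
  unfold fw
  rw [natDegree_sub_eq_left_of_natDegree_lt, natDegree_X_pow]
  rw [natDegree_X_pow]
  calc (C w * X).natDegree ≤ (C w).natDegree + (X : R[X]).natDegree := natDegree_mul_le
    _ ≤ 0 + 1 := add_le_add (natDegree_C w).le natDegree_X_le
    _ < p := by omega

include hu hχ hχp in
/-- The group algebra of `ℤ/p` is `R[Y]/(Y^p - w Y)`, `Y ↦ y_1`: maps out of it. -/
theorem exists_liftY (w : R) (hw : ygen R p u χ 1 ^ p = w • ygen R p u χ 1)
    (S : Type*) [CommRing S] [Algebra R S] (s : S) (hs : s ^ p = w • s) :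
    ∃ Φ : A R p →ₐ[R] S, Φ (ygen R p u χ 1) = s := by
  rcases subsingleton_or_nontrivial R with hR | hR
  · have : Subsingleton S := by
      refine ⟨fun a b => ?_⟩
      rw [← one_smul R a, ← one_smul R b, Subsingleton.elim (1 : R) 0, zero_smul, zero_smul]
    exact ⟨(Algebra.ofId R S).comp (Bialgebra.counitAlgHom R (A R p)), Subsingleton.elim _ _⟩
  have hmonic := fw_monic (p := p) w
  have hroot : eval₂ (↑(Algebra.ofId R (A R p)) : R →+* A R p) (ygen R p u χ 1) (fw p w) = 0 := by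
    unfold fw
    rw [eval₂_sub, eval₂_pow, eval₂_X, eval₂_mul, eval₂_C, eval₂_X, hw]
    simp [Algebra.smul_def]
  let g : AdjoinRoot (fw p w) →ₐ[R] A R p :=
    AdjoinRoot.liftAlgHom (fw p w) (Algebra.ofId R (A R p)) (ygen R p u χ 1) hroot
  have hg : g (AdjoinRoot.root (fw p w)) = ygen R p u χ 1 := AdjoinRoot.liftAlgHom_root _ _ _ _
  have hsurj : Function.Surjective g := by
    rw [← AlgHom.range_eq_top, eq_top_iff, ← adjoin_ygen_one u hu χ hχ hχp]
    apply Algebra.adjoin_le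
    rintro _ rfl
    exact ⟨_, hg⟩
  have hfree : Module.Free R (AdjoinRoot (fw p w)) :=
    Module.Free.of_basis (AdjoinRoot.powerBasis' hmonic).basis
  have hfin : Module.Finite R (AdjoinRoot (fw p w)) :=
    Module.Finite.of_basis (AdjoinRoot.powerBasis' hmonic).basis
  have hrk1 : Module.finrank R (AdjoinRoot (fw p w)) = p := by
    rw [(AdjoinRoot.powerBasis' hmonic).finrank, AdjoinRoot.powerBasis'_dim, fw_natDegree]
  have hrk2 : Module.finrank R (A R p) = p := by
    rw [Module.finrank_eq_card_basis (MonoidAlgebra.basis _ R)]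
    simp
  obtain ⟨i, hi⟩ := (finrank_le_iff_exists_linearMap (R := R)
    (M := AdjoinRoot (fw p w)) (M' := A R p)).1 (by rw [hrk1, hrk2])
  have hinj : Function.Injective g :=
    OrzechProperty.injective_of_surjective_of_injective i g.toLinearMap hi hsurj
  let e : AdjoinRoot (fw p w) ≃ₐ[R] A R p := AlgEquiv.ofBijective g ⟨hinj, hsurj⟩
  have hroot' : eval₂ (↑(Algebra.ofId R S) : R →+* S) s (fw p w) = 0 := by
    unfold fw
    rw [eval₂_sub, eval₂_pow, eval₂_X, eval₂_mul, eval₂_C, eval₂_X, hs]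
    simp [Algebra.smul_def]
  let g' : AdjoinRoot (fw p w) →ₐ[R] S :=
    AdjoinRoot.liftAlgHom (fw p w) (Algebra.ofId R S) s hroot'
  refine ⟨g'.comp e.symm.toAlgHom, ?_⟩
  have : e.symm (ygen R p u χ 1) = AdjoinRoot.root (fw p w) := by
    rw [AlgEquiv.symm_apply_eq]
    exact hg.symm
  rw [AlgHom.comp_apply]
  change g' (e.symm (ygen R p u χ 1)) = s
  rw [this]
  exact AdjoinRoot.liftAlgHom_root _ _ _ _

end lift

section charsum

variable {R : Type u} [CommRing R] {p : ℕ} [Fact p.Prime] (χ : (ZMod p)ˣ →* Rˣ)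
  (hχ : ∀ m : (ZMod p)ˣ, m ≠ 1 → IsUnit ((χ m : R) - 1))

include hχ in
theorem sum_chi_pow_eq_zero (n : ℕ) (hn1 : 1 ≤ n) (hn : n % (p - 1) ≠ 1 % (p - 1)) :
    ∑ m : (ZMod p)ˣ, ((χ m⁻¹ : Rˣ) : R) * ((χ m : Rˣ) : R) ^ n = 0 := by
  have h1 : ∀ m : (ZMod p)ˣ, ((χ m⁻¹ : Rˣ) : R) * ((χ m : Rˣ) : R) ^ n =
      ((χ (m ^ (n - 1)) : Rˣ) : R) := by
    intro m
    have hn' : n = (n - 1) + 1 := by omega
    conv_lhs => rw [hn', pow_succ]
    rw [map_pow, Units.val_pow_eq_pow_val, mul_comm, mul_assoc, ← Units.val_mul, ← map_mul,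
      mul_inv_cancel, map_one, Units.val_one, mul_one]
  rw [Finset.sum_congr rfl (fun m _ => h1 m)]
  obtain ⟨g, hg⟩ := IsCyclic.exists_generator (α := (ZMod p)ˣ)
  have hord : orderOf g = p - 1 := by
    rw [orderOf_eq_card_of_forall_mem_zpowers hg, Nat.card_eq_fintype_card, ZMod.card_units]
  have hgn : g ^ (n - 1) ≠ 1 := by
    intro h
    have hd : p - 1 ∣ n - 1 := by
      rw [← hord]
      exact orderOf_dvd_of_pow_eq_one h
    apply hn
    have := (Nat.modEq_iff_dvd' hn1).2 hd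
    exact this.symm
  set S := ∑ m : (ZMod p)ˣ, ((χ (m ^ (n - 1)) : Rˣ) : R) with hS
  have h2 : ((χ (g ^ (n - 1)) : Rˣ) : R) * S = S := by
    rw [hS, Finset.mul_sum]
    rw [← Equiv.sum_comp (Equiv.mulLeft g) (fun m => ((χ (m ^ (n - 1)) : Rˣ) : R))]
    refine Finset.sum_congr rfl fun m _ => ?_
    rw [Equiv.coe_mulLeft, mul_pow, map_mul, Units.val_mul]
  have h3 : (((χ (g ^ (n - 1)) : Rˣ) : R) - 1) * S = 0 := by
    rw [sub_mul, h2, one_mul, sub_self]
  exact (hχ _ hgn).mul_right_eq_zero.mp h3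

end charsum

section comul

open TensorProduct

variable {R : Type u} [CommRing R] {p : ℕ} [Fact p.Prime] (u : R)
  (hu : u * ((p - 1 : ℕ) : R) = 1) (χ : (ZMod p)ˣ →* Rˣ)
  (hχ : ∀ m : (ZMod p)ˣ, m ≠ 1 → IsUnit ((χ m : R) - 1))
  (hχp : ∀ m : (ZMod p)ˣ, ((χ m : Rˣ) : R) - (((m : ZMod p).val : ℕ) : R) ∈
    Ideal.span ({(p : R)} : Set R))

theorem comul_e (a : ZMod p) :
    Coalgebra.comul (R := R) (e R p a) = e R p a ⊗ₜ[R] e R p a :=
  (MonoidAlgebra.isGroupLikeElem_of (R := R) (A := R) (Multiplicative.ofAdd a)).comul_eq_tmul_self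

/-- admissible monomials in `y_1 ⊗ 1`, `1 ⊗ y_1` -/
def Qset : Set (A R p ⊗[R] A R p) :=
  {z | ∃ i j : ℕ, (i + j) % (p - 1) = 1 % (p - 1) ∧ 0 < i + j ∧
    z = (ygen R p u χ 1 ^ i) ⊗ₜ[R] (ygen R p u χ 1 ^ j)}

include hu hχ hχp in
theorem mem_span_pow (a : A R p) :
    a ∈ Submodule.span R (Set.range fun i : ℕ => (ygen R p u χ 1 ^ i : A R p)) := by
  have h1 : a ∈ Algebra.adjoin R ({ygen R p u χ 1} : Set (A R p)) := by
    rw [adjoin_ygen_one u hu χ hχ hχp]
    exact Algebra.mem_top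
  rw [Algebra.adjoin_singleton_eq_range_aeval] at h1
  obtain ⟨f, rfl⟩ := h1
  change Polynomial.aeval (ygen R p u χ 1) f ∈ _
  rw [Polynomial.aeval_eq_sum_range]
  exact Submodule.sum_mem _ fun i _ => Submodule.smul_mem _ _ (Submodule.subset_span ⟨i, rfl⟩)

include hu hχ hχp in
theorem tmul_mem_span_pow (z : A R p ⊗[R] A R p) :
    z ∈ Submodule.span R (Set.range fun ij : ℕ × ℕ =>
      ((ygen R p u χ 1 ^ ij.1 : A R p) ⊗ₜ[R] (ygen R p u χ 1 ^ ij.2 : A R p) :
        A R p ⊗[R] A R p)) := by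
  induction z using TensorProduct.induction_on with
  | zero => exact Submodule.zero_mem _
  | add x y hx hy => exact Submodule.add_mem _ hx hy
  | tmul a b =>
    have ha := mem_span_pow u hu χ hχ hχp a
    have hb := mem_span_pow u hu χ hχ hχp b
    induction ha using Submodule.span_induction with
    | zero => rw [TensorProduct.zero_tmul]; exact Submodule.zero_mem _
    | add x y _ _ hx hy => rw [TensorProduct.add_tmul]; exact Submodule.add_mem _ hx hy
    | smul r x _ hx => rw [← TensorProduct.smul_tmul']; exact Submodule.smul_mem _ _ hx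
    | mem x hx =>
      obtain ⟨i, rfl⟩ := hx
      induction hb using Submodule.span_induction with
      | zero => rw [TensorProduct.tmul_zero]; exact Submodule.zero_mem _
      | add x y _ _ hx hy => rw [TensorProduct.tmul_add]; exact Submodule.add_mem _ hx hy
      | smul r x _ hx => rw [TensorProduct.tmul_smul]; exact Submodule.smul_mem _ _ hx
      | mem x hx =>
        obtain ⟨j, rfl⟩ := hx
        exact Submodule.subset_span ⟨(i, j), rfl⟩

/-- the operator `[m] ⊗ [m]` -/
noncomputable def Tm (m : (ZMod p)ˣ) : A R p ⊗[R] A R p →ₗ[R] A R p ⊗[R] A R p :=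
  TensorProduct.map (powConv R (A R p) (m : ZMod p).val).toLinearMap
    (powConv R (A R p) (m : ZMod p).val).toLinearMap

theorem Tm_comul (m : (ZMod p)ˣ) (b : A R p) :
    Tm m (Coalgebra.comul (R := R) b) =
      Coalgebra.comul (R := R) (powConv R (A R p) (m : ZMod p).val b) := by
  conv_lhs => rw [eq_sum_e b]
  conv_rhs => rw [eq_sum_e b]
  simp only [map_sum, map_smul, comul_e, Tm, TensorProduct.map_tmul, AlgHom.toLinearMap_apply,
    powConv_e]

/-- the averaging operator on `B ⊗ B` -/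
noncomputable def Pm : A R p ⊗[R] A R p →ₗ[R] A R p ⊗[R] A R p :=
  u • ∑ m : (ZMod p)ˣ, ((χ m⁻¹ : Rˣ) : R) • Tm m

/-- the projection onto `R • (1 ⊗ 1)` -/
noncomputable def Em : A R p ⊗[R] A R p →ₗ[R] A R p ⊗[R] A R p :=
  TensorProduct.map (Algebra.linearMap R (A R p) ∘ₗ Coalgebra.counit (R := R) (A := A R p))
    (Algebra.linearMap R (A R p) ∘ₗ Coalgebra.counit (R := R) (A := A R p))

include hu in
theorem Pm_comul_ygen :
    Pm u χ (Coalgebra.comul (R := R) (ygen R p u χ 1)) = Coalgebra.comul (R := R) (ygen R p u χ 1) := by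
  have h1 : proj R (A R p) p u χ 1 (ygen R p u χ 1) = ygen R p u χ 1 := by
    apply Groth.Agent.R2.H90.OortTateDual.proj_of_mem u hu χ 1
    rw [Groth.Agent.R2.H90.OortTateDual.mem_eigenAug_iff]
    exact isEig_ygen u χ 1
  conv_rhs => rw [← h1, Groth.Agent.R2.H90.OortTateDual.proj_apply]
  simp only [Pm, LinearMap.smul_apply, LinearMap.sum_apply, Tm_comul, map_smul, map_sum, pow_one]

theorem Em_comul_ygen : Em (Coalgebra.comul (R := R) (ygen R p u χ 1)) = 0 := by
  rw [ygen_eq]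
  simp only [map_smul, map_sum, map_sub]
  have : ∀ m : (ZMod p)ˣ, Em (Coalgebra.comul (R := R) (e R p (m : ZMod p))) -
      Em (Coalgebra.comul (R := R) (1 : A R p)) = 0 := by
    intro m
    rw [← e_zero, comul_e, comul_e]
    simp [Em, counit_e]
  simp only [this, smul_zero, Finset.sum_const_zero]

theorem Em_tmul (a b : A R p) :
    Em (a ⊗ₜ[R] b) = (algebraMap R (A R p) (Coalgebra.counit (R := R) a)) ⊗ₜ[R]
      (algebraMap R (A R p) (Coalgebra.counit (R := R) b)) := rfl

theorem Tm_pow_tmul_pow (m : (ZMod p)ˣ) (i j : ℕ) :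
    Tm m ((ygen R p u χ 1 ^ i) ⊗ₜ[R] (ygen R p u χ 1 ^ j)) =
      (((χ m : Rˣ) : R) ^ (i + j)) • ((ygen R p u χ 1 ^ i) ⊗ₜ[R] (ygen R p u χ 1 ^ j)) := by
  have h := (isEig_ygen u χ 1).2 m
  rw [pow_one] at h
  simp only [Tm, TensorProduct.map_tmul, AlgHom.toLinearMap_apply, map_pow, h, _root_.smul_pow,
    TensorProduct.smul_tmul_smul, pow_add]

include hu hχ hχp in
/-- The comultiplication of `y_1` is a combination of monomials `y_1^i ⊗ y_1^j` with
`i + j ≡ 1 mod (p - 1)`, `i + j > 0`. -/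
theorem comul_ygen_mem :
    Coalgebra.comul (R := R) (ygen R p u χ 1) ∈ Submodule.span R (Qset u χ) := by
  set W : A R p ⊗[R] A R p →ₗ[R] A R p ⊗[R] A R p := Pm u χ ∘ₗ (LinearMap.id - Em) with hW
  have h1 : W (Coalgebra.comul (R := R) (ygen R p u χ 1)) =
      Coalgebra.comul (R := R) (ygen R p u χ 1) := by
    rw [hW, LinearMap.comp_apply, LinearMap.sub_apply, LinearMap.id_apply, Em_comul_ygen, sub_zero,
      Pm_comul_ygen u hu χ]
  rw [← h1]
  have h2 := tmul_mem_span_pow u hu χ hχ hχp (Coalgebra.comul (R := R) (ygen R p u χ 1))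
  suffices key : ∀ z ∈ Submodule.span R (Set.range fun ij : ℕ × ℕ =>
      ((ygen R p u χ 1 ^ ij.1 : A R p) ⊗ₜ[R] (ygen R p u χ 1 ^ ij.2 : A R p) :
        A R p ⊗[R] A R p)), W z ∈ Submodule.span R (Qset u χ) from key _ h2
  intro z hz
  induction hz using Submodule.span_induction with
  | zero => rw [map_zero]; exact Submodule.zero_mem _
  | add x y _ _ hx hy => rw [map_add]; exact Submodule.add_mem _ hx hy
  | smul r x _ hx => rw [map_smul]; exact Submodule.smul_mem _ _ hx
  | mem x hx =>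
    obtain ⟨⟨i, j⟩, rfl⟩ := hx
    simp only
    by_cases h0 : i + j = 0
    · have hi : i = 0 := by omega
      have hj : j = 0 := by omega
      subst hi hj
      have : ((LinearMap.id - Em : A R p ⊗[R] A R p →ₗ[R] A R p ⊗[R] A R p))
          (((ygen R p u χ 1 ^ 0 : A R p)) ⊗ₜ[R] (ygen R p u χ 1 ^ 0 : A R p)) = 0 := by
        rw [pow_zero, LinearMap.sub_apply, LinearMap.id_apply, ← e_zero, Em_tmul, counit_e, map_one,
          e_zero, sub_self]
      rw [hW, LinearMap.comp_apply, this, map_zero]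
      exact Submodule.zero_mem _
    · have hE : Em ((ygen R p u χ 1 ^ i) ⊗ₜ[R] (ygen R p u χ 1 ^ j)) = 0 := by
        have hc : ∀ n : ℕ, n ≠ 0 → Coalgebra.counit (R := R) (ygen R p u χ 1 ^ n) = 0 := by
          intro n hn
          change Bialgebra.counitAlgHom R (A R p) (ygen R p u χ 1 ^ n) = 0
          rw [map_pow]
          change (Coalgebra.counit (R := R) (ygen R p u χ 1)) ^ n = 0
          rw [counit_ygen, zero_pow hn]
        by_cases hi : i = 0
        · have hj : j ≠ 0 := by omega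
          rw [Em_tmul, hc j hj, map_zero, TensorProduct.tmul_zero]
        · rw [Em_tmul, hc i hi, map_zero, TensorProduct.zero_tmul]
      rw [hW, LinearMap.comp_apply, LinearMap.sub_apply, LinearMap.id_apply, hE, sub_zero]
      simp only [Pm, LinearMap.smul_apply, LinearMap.sum_apply, Tm_pow_tmul_pow, smul_smul]
      rw [← Finset.sum_smul]
      by_cases hmod : (i + j) % (p - 1) = 1 % (p - 1)
      · apply Submodule.smul_mem
        apply Submodule.smul_mem
        exact Submodule.subset_span ⟨i, j, hmod, by omega, rfl⟩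
      · rw [sum_chi_pow_eq_zero χ hχ (i + j) (by omega) hmod, zero_smul, smul_zero]
        exact Submodule.zero_mem _

end comul

end Groth.Agent.R2.H90.OTGroupAlg
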