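/-
Helper library (helper90): the eigen-submodules of the augmentation ideal of a group scheme of order `p`
(Oort–Tate) are finite projective of rank one: projector `pi`, base change of `proj`/`pi`, count over a
field, `rankAtStalk_eigenAug`.
-/
import Mathlib
import Groth.Prelude.Def_W4c5ffgsreadingcourseOT
import Groth.Agent.R2.H90OortTateDual
import Groth.Agent.R2.H90OTGen
import Groth.Agent.R2.H90OTField
import Groth.Agent.S18468

set_option autoImplicit false
set_option linter.unusedSectionVars false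
universe u

namespace Groth.Agent.R2.H90.OTRank

open WithConv _root_.OortTate SGA3b Groth.Agent.Lib.Helper25.Tors TensorProduct
open Groth.Agent.R2.H90.OortTate Groth.Agent.R2.H90.OortTateDual

section projector

variable {p : ℕ} [Fact p.Prime] {R : Type u} [CommRing R] (u : R)
  (hu : u * ((p - 1 : ℕ) : R) = 1) (χ : (ZMod p)ˣ →* Rˣ)
  {A : Type u} [CommRing A] [HopfAlgebra R A]
  (hp : (WithConv.toConv (AlgHom.id R A)) ^ p = 1)

/-- the projector onto the `i`-th eigen-submodule of the augmentation ideal -/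
noncomputable def pi (i : ℕ) : A →ₗ[R] A :=
  proj R A p u χ i ∘ₗ (LinearMap.id - (Algebra.linearMap R A) ∘ₗ (Coalgebra.counit (R := R) (A := A)))

theorem pi_apply (i : ℕ) (a : A) :
    pi u χ i a = proj R A p u χ i (a - Coalgebra.counit (R := R) a • (1 : A)) := by
  simp [pi, Algebra.algebraMap_eq_smul_one]

include hp in
theorem pi_mem (i : ℕ) (a : A) : pi u χ i a ∈ eigenAug R A p χ i := by
  rw [pi_apply]
  exact proj_mem u χ hp i _ (counit_sub (R := R) a)

include hu in
theorem pi_of_mem (i : ℕ) (a : A) (ha : a ∈ eigenAug R A p χ i) : pi u χ i a = a := by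
  rw [pi_apply, ((mem_eigenAug_iff χ i a).1 ha).1, zero_smul, sub_zero]
  exact proj_of_mem u hu χ i a ha

include hu hp in
theorem range_pi (i : ℕ) : LinearMap.range (pi (A := A) u χ i) = eigenAug R A p χ i := by
  apply le_antisymm
  · rintro _ ⟨a, rfl⟩
    exact pi_mem u χ hp i a
  · intro a ha
    exact ⟨a, pi_of_mem u hu χ i a ha⟩

/-- the projector, corestricted -/
noncomputable def piR (i : ℕ) : A →ₗ[R] eigenAug R A p χ i :=
  LinearMap.codRestrict _ (pi u χ i) (fun a => pi_mem u χ hp i a)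

theorem subtype_piR (i : ℕ) (a : A) :
    ((piR u χ hp i a : eigenAug R A p χ i) : A) = pi u χ i a := by
  unfold piR
  rw [LinearMap.codRestrict_apply]

include hu in
theorem piR_comp_subtype (i : ℕ) :
    piR u χ hp i ∘ₗ (eigenAug R A p χ i).subtype = LinearMap.id := by
  apply LinearMap.ext
  intro a
  apply Subtype.ext
  rw [LinearMap.comp_apply, subtype_piR, Submodule.subtype_apply, LinearMap.id_apply]
  have h := pi_of_mem (p := p) u hu χ i (a : A) a.2
  exact h

include hu hp in
theorem finite_eigenAug [Module.Finite R A] (i : ℕ) : Module.Finite R (eigenAug R A p χ i) :=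
  Module.Finite.of_surjective (piR u χ hp i) (fun x => ⟨x, by
    have := LinearMap.congr_fun (piR_comp_subtype u hu χ hp i) x
    simpa using this⟩)

include hu hp in
theorem projective_eigenAug [Module.Projective R A] (i : ℕ) :
    Module.Projective R (eigenAug R A p χ i) :=
  Module.Projective.of_split (eigenAug R A p χ i).subtype (piR u χ hp i)
    (piR_comp_subtype u hu χ hp i)

theorem eigenAug_add_period (i : ℕ) : eigenAug R A p χ (i + (p - 1)) = eigenAug R A p χ i := by
  ext a
  rw [mem_eigenAug_iff, mem_eigenAug_iff]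
  simp only [pow_add, Groth.Agent.R2.H90.OTGen.chi_pow_card, mul_one]

end projector

section bc

variable {p : ℕ} [Fact p.Prime] {R : Type u} [CommRing R] (u : R)
  (hu : u * ((p - 1 : ℕ) : R) = 1) (χ : (ZMod p)ˣ →* Rˣ)
  {A : Type u} [CommRing A] [HopfAlgebra R A]
  (hp : (WithConv.toConv (AlgHom.id R A)) ^ p = 1)
  (T : Type u) [CommRing T] [Algebra R T]

/-- base change of the character -/
noncomputable def chiT : (ZMod p)ˣ →* Tˣ := (Units.map (algebraMap R T : R →* T)).comp χ

theorem chiT_apply (m : (ZMod p)ˣ) : ((chiT χ T m : Tˣ) : T) = algebraMap R T ((χ m : Rˣ) : R) := rfl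

include hu in
theorem hu_T : algebraMap R T u * ((p - 1 : ℕ) : T) = 1 := by
  rw [← map_natCast (algebraMap R T), ← map_mul, hu, map_one]

theorem hχ_T (hχ : ∀ m : (ZMod p)ˣ, m ≠ 1 → IsUnit (((χ m : Rˣ) : R) - 1)) :
    ∀ m : (ZMod p)ˣ, m ≠ 1 → IsUnit (((chiT χ T m : Tˣ) : T) - 1) := by
  intro m hm
  have := (hχ m hm).map (algebraMap R T)
  simpa [chiT_apply] using this

theorem hχp_T (hχp : ∀ m : (ZMod p)ˣ, ((χ m : Rˣ) : R) - (((m : ZMod p).val : ℕ) : R) ∈
      Ideal.span ({(p : R)} : Set R)) :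
    ∀ m : (ZMod p)ˣ, ((chiT χ T m : Tˣ) : T) - (((m : ZMod p).val : ℕ) : T) ∈
      Ideal.span ({(p : T)} : Set T) := by
  intro m
  obtain ⟨r, hr⟩ := Ideal.mem_span_singleton'.1 (hχp m)
  rw [Ideal.mem_span_singleton']
  refine ⟨algebraMap R T r, ?_⟩
  rw [chiT_apply, ← map_natCast (algebraMap R T), ← map_natCast (algebraMap R T), ← map_mul, hr,
    map_sub]

include hp in
theorem hp_T : (WithConv.toConv (AlgHom.id T (T ⊗[R] A))) ^ p = 1 := by
  have hk : IsKilled R A p := by
    intro a
    unfold powConv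
    rw [hp]
    rfl
  have hkT := hk.baseChange T
  apply ofConv_injective
  apply AlgHom.ext
  intro z
  exact hkT z

theorem algebraMap_smul_tmul (r : R) (t : T) (a : A) :
    algebraMap R T r • (t ⊗ₜ[R] a) = t ⊗ₜ[R] (r • a) := by
  rw [algebraMap_smul, TensorProduct.tmul_smul]

theorem proj_baseChange (i : ℕ) (t : T) (a : A) :
    proj T (T ⊗[R] A) p (algebraMap R T u) (chiT χ T) i (t ⊗ₜ[R] a) =
      t ⊗ₜ[R] proj R A p u χ i a := by
  rw [proj_apply, proj_apply, ← algebraMap_smul_tmul, TensorProduct.tmul_sum]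
  congr 1
  refine Finset.sum_congr rfl fun m _ => ?_
  rw [powConv_baseChange, chiT_apply, ← map_pow, algebraMap_smul_tmul]

theorem pi_baseChange (i : ℕ) (z : T ⊗[R] A) :
    pi (algebraMap R T u) (chiT χ T) i z = (pi u χ i).baseChange T z := by
  induction z using TensorProduct.induction_on with
  | zero => simp
  | add x y hx hy => rw [map_add, map_add, hx, hy]
  | tmul t a =>
    rw [LinearMap.baseChange_tmul, pi_apply, pi_apply, ← proj_baseChange]
    congr 1
    rw [TensorProduct.counit_tmul, TensorProduct.tmul_sub, TensorProduct.tmul_smul]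
    congr 1
    simp [Algebra.TensorProduct.one_def, Algebra.smul_def]

end bc

section count

open Module in
theorem finrank_iSup_of_iSupIndep {K : Type*} [Field K] {M : Type*} [AddCommGroup M] [Module K M]
    [Module.Finite K M] {ι : Type*} [Fintype ι] (V : ι → Submodule K M) (h : iSupIndep V) :
    finrank K (⨆ i, V i : Submodule K M) = ∑ i, finrank K (V i) := by
  classical
  have hinj := h.dfinsupp_lsum_injective
  rw [Submodule.iSup_eq_range_dfinsupp_lsum, LinearMap.finrank_range_of_inj hinj]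
  exact Module.finrank_directSum (R := K) (fun i => V i)

variable {p : ℕ} [Fact p.Prime] {K : Type u} [Field K] (u : K)
  (hu : u * ((p - 1 : ℕ) : K) = 1) (χ : (ZMod p)ˣ →* Kˣ)
  (hχ : ∀ m : (ZMod p)ˣ, m ≠ 1 → IsUnit (((χ m : Kˣ) : K) - 1))
  (hχp : ∀ m : (ZMod p)ˣ, ((χ m : Kˣ) : K) - (((m : ZMod p).val : ℕ) : K) ∈
    Ideal.span ({(p : K)} : Set K))
  {B : Type u} [CommRing B] [HopfAlgebra K B] [Module.Finite K B]
  (hp : (WithConv.toConv (AlgHom.id K B)) ^ p = 1)

include hu hχ hχp hp in
/-- Over a field, the eigen-submodules of a group scheme of order `p` are lines. -/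
theorem finrank_eigenAug_field (hB : Module.finrank K B = p) (i : Fin (p - 1)) :
    Module.finrank K (eigenAug K B p χ (i : ℕ)) = 1 := by
  obtain ⟨hind, hsup, -⟩ := Groth.Agent.S18468.result p K u hu χ hχ B hp
  have hp2 : 2 ≤ p := (Fact.out : p.Prime).two_le
  set ε := (Bialgebra.counitAlgHom K B).toLinearMap with hε
  have hsurj : LinearMap.range ε = ⊤ := by
    rw [LinearMap.range_eq_top]
    intro c
    exact ⟨algebraMap K B c, by simp [hε]⟩
  have hker : Module.finrank K (LinearMap.ker ε) = p - 1 := by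
    have h1 := LinearMap.finrank_range_add_finrank_ker ε
    rw [hsurj, finrank_top, Module.finrank_self, hB] at h1
    omega
  have hsum : ∑ i : Fin (p - 1), Module.finrank K (eigenAug K B p χ (i : ℕ)) = p - 1 := by
    rw [← finrank_iSup_of_iSupIndep _ hind, hsup, hker]
  have hne : ∃ a : B, Coalgebra.counit (R := K) a = 0 ∧ a ≠ 0 := by
    have h1 : LinearMap.ker ε ≠ ⊥ := by
      intro h
      rw [h, finrank_bot] at hker
      omega
    obtain ⟨a, ha, ha0⟩ := (Submodule.ne_bot_iff _).1 h1
    exact ⟨a, ha, ha0⟩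
  have hpos : ∀ i : Fin (p - 1), 1 ≤ Module.finrank K (eigenAug K B p χ (i : ℕ)) := by
    intro i
    rw [Submodule.one_le_finrank_iff]
    exact Groth.Agent.R2.H90.OTField.eigenAug_ne_bot u hu χ hχp hp hne (i : ℕ) (by omega)
  have h2 : ∑ _i : Fin (p - 1), 1 = ∑ i : Fin (p - 1), Module.finrank K (eigenAug K B p χ (i : ℕ)) := by
    rw [hsum]
    simp
  exact ((Finset.sum_eq_sum_iff_of_le (fun i _ => hpos i)).1 h2 i (Finset.mem_univ i)).symm

end count

section rank

variable {p : ℕ} [Fact p.Prime] {R : Type u} [CommRing R] (u : R)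
  (hu : u * ((p - 1 : ℕ) : R) = 1) (χ : (ZMod p)ˣ →* Rˣ)
  (hχ : ∀ m : (ZMod p)ˣ, m ≠ 1 → IsUnit (((χ m : Rˣ) : R) - 1))
  (hχp : ∀ m : (ZMod p)ˣ, ((χ m : Rˣ) : R) - (((m : ZMod p).val : ℕ) : R) ∈
    Ideal.span ({(p : R)} : Set R))
  {A : Type u} [CommRing A] [HopfAlgebra R A] [Module.Finite R A] [Module.Projective R A]
  (hp : (WithConv.toConv (AlgHom.id R A)) ^ p = 1)

include hu hp in
theorem finrank_baseChange_eigenAug (K : Type u) [Field K] [Algebra R K] (i : ℕ) :
    Module.finrank K (K ⊗[R] eigenAug R A p χ i) =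
      Module.finrank K (eigenAug K (K ⊗[R] A) p (chiT χ K) i) := by
  set ιK := (eigenAug R A p χ i).subtype.baseChange K with hιK
  set πK := (piR u χ hp i).baseChange K with hπK
  have h1 : πK ∘ₗ ιK = LinearMap.id := by
    rw [hιK, hπK, ← LinearMap.baseChange_comp, piR_comp_subtype u hu χ hp i, LinearMap.baseChange_id]
  have hinj : Function.Injective ιK := LinearMap.injective_of_comp_eq_id _ _ h1
  have hsurj : Function.Surjective πK := LinearMap.surjective_of_comp_eq_id _ _ h1
  have h2 : pi (algebraMap R K u) (chiT χ K) i = ιK ∘ₗ πK := by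
    apply LinearMap.ext
    intro z
    rw [pi_baseChange, hιK, hπK, ← LinearMap.baseChange_comp]
    congr 2
  have hrange : LinearMap.range ιK = eigenAug K (K ⊗[R] A) p (chiT χ K) i := by
    rw [← range_pi (algebraMap R K u) (hu_T u hu K) (chiT χ K) (hp_T hp K) i, h2,
      LinearMap.range_comp_of_range_eq_top _ (LinearMap.range_eq_top.2 hsurj)]
  rw [← hrange, LinearMap.finrank_range_of_inj hinj]

include hu hχ hχp hp in
theorem rankAtStalk_eigenAug (hrk : ∀ q : PrimeSpectrum R, Module.rankAtStalk A q = p)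
    (i : Fin (p - 1)) (q : PrimeSpectrum R) :
    Module.rankAtStalk (R := R) (eigenAug R A p χ (i : ℕ)) q = 1 := by
  have := finite_eigenAug u hu χ hp (A := A) (i : ℕ)
  have := projective_eigenAug u hu χ hp (A := A) (i : ℕ)
  rw [Module.rankAtStalk_eq]
  change Module.finrank q.asIdeal.ResidueField
    (q.asIdeal.ResidueField ⊗[R] eigenAug R A p χ (i : ℕ)) = 1
  rw [finrank_baseChange_eigenAug u hu χ hp q.asIdeal.ResidueField (i : ℕ)]
  refine finrank_eigenAug_field (algebraMap R q.asIdeal.ResidueField u)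
    (hu_T u hu _) (chiT χ q.asIdeal.ResidueField) (hχ_T χ _ hχ) (hχp_T χ _ hχp) (hp_T hp _) ?_ i
  have := Module.rankAtStalk_eq (M := A) q
  rw [hrk q] at this
  exact this.symm

include hu hχ hχp hp in
theorem rankAtStalk_eigenAug_one (hrk : ∀ q : PrimeSpectrum R, Module.rankAtStalk A q = p)
    (q : PrimeSpectrum R) :
    Module.rankAtStalk (R := R) (eigenAug R A p χ 1) q = 1 := by
  have hp2 : 2 ≤ p := (Fact.out : p.Prime).two_le
  by_cases h2 : p = 2
  · have h0 : 0 < p - 1 := by omega
    have e : eigenAug R A p χ 1 = eigenAug R A p χ ((⟨0, h0⟩ : Fin (p - 1)) : ℕ) := by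
      have := eigenAug_add_period (A := A) χ 0
      have h3 : 0 + (p - 1) = 1 := by omega
      rw [h3] at this
      exact this
    rw [Module.rankAtStalk_eq_of_equiv (LinearEquiv.ofEq _ _ e)]
    exact rankAtStalk_eigenAug u hu χ hχ hχp hp hrk ⟨0, h0⟩ q
  · have h1 : 1 < p - 1 := by omega
    exact rankAtStalk_eigenAug u hu χ hχ hχp hp hrk ⟨1, h1⟩ q

end rank

end Groth.Agent.R2.H90.OTRank
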