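/-
Helper library (helper90): the Oort–Tate reconstruction of an algebra map `Θ : A → A'` from a linear map
`θ` on `I_1(A)` multiplicative on `p`-fold products: `PhiA` (`R[ℤ/p] → End(A)`, convolution), the graph
trick (`N1`, `Xi`, `eq_of_fst_eq`), `F1 = F2` (multiplicativity criterion), `exists_Phi`, `props`,
`endo_eq_id`.
-/
import Mathlib
import Groth.Prelude.Def_W4c5ffgsreadingcourseOT
import Groth.Agent.R2.H90OortTateDual
import Groth.Agent.R2.H90OTGen
import Groth.Agent.R2.H90OTGenP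
import Groth.Agent.R2.H90OTRank
import Groth.Agent.R2.H90OTGroupAlg
import Groth.Agent.R2.H90ConvFun

set_option autoImplicit false
set_option linter.unusedSectionVars false
universe u

namespace Groth.Agent.R2.H90.OTTheta

open WithConv _root_.OortTate SGA3b TensorProduct
open Groth.Agent.R2.H90.OortTate Groth.Agent.R2.H90.OortTateDual Groth.Agent.R2.H90.OTRank
open Groth.Agent.R2.H90.OTGroupAlg
open Groth.Agent.R2.H90.ConvFun

section PhiA

variable {p : ℕ} [Fact p.Prime] {R : Type u} [CommRing R] (u : R)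
  (hu : u * ((p - 1 : ℕ) : R) = 1) (χ : (ZMod p)ˣ →* Rˣ)
  {A : Type u} [CommRing A] [HopfAlgebra R A]
  (hp : (WithConv.toConv (AlgHom.id R A)) ^ p = 1)

include hp in
theorem linId_pow : (toConv (LinearMap.id : A →ₗ[R] A)) ^ p = 1 := by
  have h := AlgHom.toLinearMap_convPow (toConv (AlgHom.id R A)) p
  rw [hp] at h
  exact h.symm

/-- `k ↦ [k]`, from `ℤ/p` to the convolution ring -/
noncomputable def powHom : Multiplicative (ZMod p) →* WithConv (A →ₗ[R] A) where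
  toFun k := (toConv (LinearMap.id : A →ₗ[R] A)) ^ (Multiplicative.toAdd k).val
  map_one' := by simp
  map_mul' a b := by
    rw [toAdd_mul, ZMod.val_add, ← pow_add]
    exact (pow_eq_pow_mod _ (linId_pow hp)).symm

/-- the algebra map `R[ℤ/p] → End(A)` (convolution), `T ↦ id` -/
noncomputable def PhiA : OTGen.A R p →ₐ[R] WithConv (A →ₗ[R] A) :=
  MonoidAlgebra.lift R (WithConv (A →ₗ[R] A)) (Multiplicative (ZMod p)) (powHom hp)

theorem PhiA_e (a : ZMod p) :
    PhiA hp (OTGen.e R p a) = (toConv (LinearMap.id : A →ₗ[R] A)) ^ a.val := by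
  unfold PhiA OTGen.e
  rw [MonoidAlgebra.lift_of]
  rfl

theorem PhiA_e_apply (a : ZMod p) (x : A) :
    PhiA hp (OTGen.e R p a) x = powConv R A a.val x := by
  rw [PhiA_e]
  have := powConv_toLinearMap (R := R) (B := A) a.val
  exact (LinearMap.congr_fun this x).symm

theorem PhiA_muT : PhiA hp (muT R p) = toConv (LinearMap.id : A →ₗ[R] A) := by
  rw [OTGen.muT_eq, PhiA_e, ZMod.val_one, pow_one]

theorem PhiA_ygen (i : ℕ) : PhiA hp (ygen R p u χ i) = toConv (pi u χ i) := by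
  apply WithConv.ext
  apply LinearMap.ext
  intro x
  change PhiA hp (ygen R p u χ i) x = pi u χ i x
  rw [OTGen.ygen_eq, pi_apply, proj_apply]
  simp only [map_smul, map_sum, map_sub, map_one]
  simp only [ofConv_smul, ofConv_sum, ofConv_sub, LinearMap.smul_apply, LinearMap.sum_apply,
    LinearMap.sub_apply]
  congr 1
  refine Finset.sum_congr rfl fun m _ => ?_
  congr 1
  have h1 : (PhiA hp (OTGen.e R p (m : ZMod p))).ofConv x = powConv R A (m : ZMod p).val x :=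
    PhiA_e_apply hp _ x
  have h2 : (1 : WithConv (A →ₗ[R] A)).ofConv x = Coalgebra.counit (R := R) x • (1 : A) := by
    change (1 : WithConv (A →ₗ[R] A)) x = _
    rw [LinearMap.convOne_apply, Algebra.algebraMap_eq_smul_one]
  rw [h1, h2]

end PhiA

section construction

variable {p : ℕ} [Fact p.Prime] {R : Type u} [CommRing R] (u : R)
  (hu : u * ((p - 1 : ℕ) : R) = 1) (χ : (ZMod p)ˣ →* Rˣ)
  (hχ : ∀ m : (ZMod p)ˣ, m ≠ 1 → IsUnit ((χ m : R) - 1))
  (hχp : ∀ m : (ZMod p)ˣ, ((χ m : Rˣ) : R) - (((m : ZMod p).val : ℕ) : R) ∈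
    Ideal.span ({(p : R)} : Set R))
  {A : Type u} [CommRing A] [HopfAlgebra R A] [Coalgebra.IsCocomm R A]
  (hp : (WithConv.toConv (AlgHom.id R A)) ^ p = 1)
  {A' : Type u} [CommRing A'] [Algebra R A']
  (θ : eigenAug R A p χ 1 →ₗ[R] A')

/-- products of `p` elements of `I_1` are in `I_1` -/
theorem prod_mem_eigenAug (f : Fin p → eigenAug R A p χ 1) :
    ∏ i, (f i : A) ∈ eigenAug R A p χ 1 := by
  rw [mem_eigenAug_iff]
  have hp0 : 0 < p := (Fact.out : p.Prime).pos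
  refine ⟨?_, fun m => ?_⟩
  · change Bialgebra.counitAlgHom R A (∏ i, (f i : A)) = 0
    rw [map_prod]
    apply Finset.prod_eq_zero (Finset.mem_univ (⟨0, hp0⟩ : Fin p))
    exact ((mem_eigenAug_iff χ 1 _).1 (f ⟨0, hp0⟩).2).1
  · rw [map_prod]
    have h1 : ∀ i : Fin p, powConv R A (m : ZMod p).val (f i : A) =
        ((χ m : Rˣ) : R) • (f i : A) := by
      intro i
      have := ((mem_eigenAug_iff χ 1 _).1 (f i).2).2 m
      rwa [pow_one] at this
    rw [Finset.prod_congr rfl (fun i _ => h1 i), Finset.prod_smul, Finset.prod_const,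
      Finset.card_univ, Fintype.card_fin, pow_one]
    congr 1
    have e : ((χ m : Rˣ) : R) ^ p = ((χ m : Rˣ) : R) ^ (p - 1) * ((χ m : Rˣ) : R) := by
      rw [← pow_succ, Nat.sub_add_cancel hp0]
    rw [e, OTGen.chi_pow_card, one_mul]

/-- the extension of `θ` by zero on the complement of `I_1` -/
noncomputable def thetaHat : A →ₗ[R] A' := θ ∘ₗ piR u χ hp 1

/-- the graph of `θ` -/
noncomputable def N1 : Submodule R (A × A') :=
  LinearMap.range ((eigenAug R A p χ 1).subtype.prod θ)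

/-- `(π_1, θ π_1)` -/
noncomputable def Xi : WithConv (A →ₗ[R] A × A') :=
  toConv ((pi u χ 1).prod (thetaHat u χ hp θ))

theorem Xi_apply (a : A) : Xi u χ hp θ a = (pi u χ 1 a, thetaHat u χ hp θ a) := rfl

theorem Xi_mem : Xi u χ hp θ ∈ valuedIn (N1 χ θ) := by
  intro a
  exact ⟨piR u χ hp 1 a, rfl⟩

include hu in
theorem snd_eq_of_mem {C : Type*} [AddCommGroup C] [Module R C] [Coalgebra R C]
    {F : WithConv (C →ₗ[R] A × A')} (hF : F ∈ valuedIn (N1 χ θ)) (c : C) :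
    (F c).2 = thetaHat u χ hp θ (F c).1 := by
  obtain ⟨m, hm⟩ := hF c
  rw [← hm]
  change θ m = θ (piR u χ hp 1 (m : A))
  congr 1
  have := LinearMap.congr_fun (piR_comp_subtype u hu χ hp 1) m
  exact this.symm

include hu hp in
theorem eq_of_fst_eq {C : Type*} [AddCommGroup C] [Module R C] [Coalgebra R C]
    {F G : WithConv (C →ₗ[R] A × A')} (hF : F ∈ valuedIn (N1 χ θ)) (hG : G ∈ valuedIn (N1 χ θ))
    (h : postComp (AlgHom.fst R A A') F = postComp (AlgHom.fst R A A') G) : F = G := by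
  apply WithConv.ext
  apply LinearMap.ext
  intro c
  have h1 : (F c).1 = (G c).1 := by
    have := congrArg (fun H : WithConv (C →ₗ[R] A) => H c) h
    exact this
  apply Prod.ext h1
  rw [snd_eq_of_mem u hu χ hp θ hF, snd_eq_of_mem u hu χ hp θ hG, h1]

end construction

section construction2

variable {p : ℕ} [Fact p.Prime] {R : Type u} [CommRing R] (u : R)
  (hu : u * ((p - 1 : ℕ) : R) = 1) (χ : (ZMod p)ˣ →* Rˣ)
  (hχ : ∀ m : (ZMod p)ˣ, m ≠ 1 → IsUnit ((χ m : R) - 1))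
  (hχp : ∀ m : (ZMod p)ˣ, ((χ m : Rˣ) : R) - (((m : ZMod p).val : ℕ) : R) ∈
    Ideal.span ({(p : R)} : Set R))
  {A : Type u} [CommRing A] [HopfAlgebra R A] [Coalgebra.IsCocomm R A]
  (hp : (WithConv.toConv (AlgHom.id R A)) ^ p = 1)
  {A' : Type u} [CommRing A'] [Algebra R A']
  (θ : eigenAug R A p χ 1 →ₗ[R] A')
  (Hmul : ∀ (f : Fin p → eigenAug R A p χ 1) (g : eigenAug R A p χ 1),
    (g : A) = ∏ i, (f i : A) → θ g = ∏ i, θ (f i))

include Hmul in
theorem N1_pow : (N1 χ θ) ^ p ≤ N1 χ θ := by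
  rw [Submodule.pow_eq_span_pow_set, Submodule.span_le]
  intro x hx
  obtain ⟨f, rfl⟩ := Set.mem_pow.1 hx
  have hf : ∀ i : Fin p, ∃ m : eigenAug R A p χ 1, ((m : A), θ m) = (f i : A × A') := by
    intro i
    obtain ⟨m, hm⟩ := (f i).2
    exact ⟨m, hm⟩
  choose m hm using hf
  rw [List.prod_ofFn]
  have h1 : ∏ i, (f i : A × A') = (∏ i, (m i : A), ∏ i, θ (m i)) := by
    apply Prod.ext
    · rw [Prod.fst_prod]
      exact Finset.prod_congr rfl fun i _ => by rw [← hm i]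
    · rw [Prod.snd_prod]
      exact Finset.prod_congr rfl fun i _ => by rw [← hm i]
  rw [h1]
  refine ⟨⟨∏ i, (m i : A), prod_mem_eigenAug χ m⟩, ?_⟩
  apply Prod.ext
  · rfl
  · exact Hmul m ⟨_, prod_mem_eigenAug χ m⟩ rfl

include Hmul in
theorem N1_pow' : ∀ n : ℕ, n % (p - 1) = 1 % (p - 1) → 0 < n → (N1 χ θ) ^ n ≤ N1 χ θ := by
  have hp2 : 2 ≤ p := (Fact.out : p.Prime).two_le
  intro n
  induction n using Nat.strong_induction_on with
  | _ n ih =>
    intro hn hn0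
    by_cases h1 : n = 1
    · rw [h1, pow_one]
    · have hd : p - 1 ∣ n - 1 := (Nat.modEq_iff_dvd' hn0).1 (show 1 ≡ n [MOD p - 1] from hn.symm)
      have hge : p - 1 ≤ n - 1 := Nat.le_of_dvd (by omega) hd
      have e : n = (n - p) + p := by omega
      have hlt : n - p + 1 < n := by omega
      have hmod : (n - p + 1) % (p - 1) = 1 % (p - 1) := by
        obtain ⟨k, hk⟩ := hd
        have hk0 : 0 < k := by
          rcases Nat.eq_zero_or_pos k with h | h
          · rw [h, mul_zero] at hk; omega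
          · exact h
        have e2 : n - p + 1 = 1 + (p - 1) * (k - 1) := by
          have : (p - 1) * k = (p - 1) * (k - 1) + (p - 1) := by
            conv_lhs => rw [show k = (k - 1) + 1 by omega, mul_add, mul_one]
          omega
        rw [e2, Nat.add_mul_mod_self_left]
      calc (N1 χ θ) ^ n = (N1 χ θ) ^ (n - p) * (N1 χ θ) ^ p := by rw [← pow_add, ← e]
        _ ≤ (N1 χ θ) ^ (n - p) * N1 χ θ := mul_le_mul' le_rfl (N1_pow χ θ Hmul)
        _ = (N1 χ θ) ^ (n - p + 1) := by rw [pow_succ]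
        _ ≤ N1 χ θ := ih _ hlt hmod (by omega)

include hu hχ Hmul in
theorem Xi_pow (w : R) (hw : ygen R p u χ 1 ^ p = w • ygen R p u χ 1) :
    (Xi u χ hp θ) ^ p = w • Xi u χ hp θ := by
  have hp2 : 2 ≤ p := (Fact.out : p.Prime).two_le
  have h1 : (Xi u χ hp θ) ^ p ∈ valuedIn (N1 χ θ) :=
    valuedIn_mono (N1_pow χ θ Hmul) (pow_mem_valuedIn (Xi_mem u χ hp θ) p)
  have h2 : w • Xi u χ hp θ ∈ valuedIn (N1 χ θ) := Submodule.smul_mem _ _ (Xi_mem u χ hp θ)
  apply eq_of_fst_eq u hu χ hp θ h1 h2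
  have h3 : postComp (AlgHom.fst R A A') (Xi u χ hp θ) = toConv (pi u χ 1) := rfl
  rw [map_pow, map_smul, h3, ← PhiA_ygen u χ hp 1, ← map_pow, hw, map_smul]

end construction2


section F12

variable {p : ℕ} [Fact p.Prime] {R : Type u} [CommRing R]
  {A : Type u} [CommRing A] [HopfAlgebra R A] [Coalgebra.IsCocomm R A]
  {S : Type*} [CommRing S] [Algebra R S] {S' : Type*} [CommRing S'] [Algebra R S']

/-- `Φ ↦ μ^* ∘ Φ` -/
noncomputable def F1 (Φ : OTGen.A R p →ₐ[R] WithConv (A →ₗ[R] S)) :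
    OTGen.A R p →ₐ[R] WithConv (A ⊗[R] A →ₗ[R] S) :=
  (preComp (Bialgebra.mulCoalgHom R A)).comp Φ

/-- `Φ ↦ (p₁^* Φ ⊗ p₂^* Φ) ∘ Δ` -/
noncomputable def F2 (Φ : OTGen.A R p →ₐ[R] WithConv (A →ₗ[R] S)) :
    OTGen.A R p →ₐ[R] WithConv (A ⊗[R] A →ₗ[R] S) :=
  (Algebra.TensorProduct.lift ((preComp (p₁ (R := R) (A := A))).comp Φ)
    ((preComp (p₂ (R := R) (A := A))).comp Φ) (fun _ _ => Commute.all _ _)).comp
    (Bialgebra.comulAlgHom R (OTGen.A R p))

theorem postComp_F1 (g : S →ₐ[R] S') (Φ : OTGen.A R p →ₐ[R] WithConv (A →ₗ[R] S)) :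
    (postComp g).comp (F1 Φ) = F1 ((postComp g).comp Φ) := rfl

theorem postComp_F2 (g : S →ₐ[R] S') (Φ : OTGen.A R p →ₐ[R] WithConv (A →ₗ[R] S)) :
    (postComp g).comp (F2 Φ) = F2 ((postComp g).comp Φ) := by
  unfold F2
  rw [← AlgHom.comp_assoc]
  congr 1
  apply Algebra.TensorProduct.ext'
  intro a b
  simp only [AlgHom.comp_apply, Algebra.TensorProduct.lift_tmul, map_mul, postComp_preComp]

theorem F1_apply (Φ : OTGen.A R p →ₐ[R] WithConv (A →ₗ[R] S)) (b : OTGen.A R p) (a a' : A) :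
    F1 Φ b (a ⊗ₜ[R] a') = Φ b (a * a') := rfl

theorem F2_muT (Φ : OTGen.A R p →ₐ[R] WithConv (A →ₗ[R] S)) (a a' : A) :
    F2 Φ (muT R p) (a ⊗ₜ[R] a') = Φ (muT R p) a * Φ (muT R p) a' := by
  unfold F2
  rw [AlgHom.comp_apply, Bialgebra.comulAlgHom_apply, OTGen.muT_eq, comul_e,
    Algebra.TensorProduct.lift_tmul, AlgHom.comp_apply, AlgHom.comp_apply, preComp_mul_preComp]

theorem mul_of_F1_eq_F2 (Φ : OTGen.A R p →ₐ[R] WithConv (A →ₗ[R] S)) (h : F1 Φ = F2 Φ) (a a' : A) :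
    Φ (muT R p) (a * a') = Φ (muT R p) a * Φ (muT R p) a' := by
  rw [← F1_apply, h, F2_muT]

end F12

section F12A

variable {p : ℕ} [Fact p.Prime] {R : Type u} [CommRing R]
  {A : Type u} [CommRing A] [HopfAlgebra R A] [Coalgebra.IsCocomm R A]
  (hp : (WithConv.toConv (AlgHom.id R A)) ^ p = 1)

theorem single_eq_muT_pow (k : Multiplicative (ZMod p)) :
    (MonoidAlgebra.single k (1 : R) : OTGen.A R p) = (muT R p) ^ (Multiplicative.toAdd k).val := by
  rw [OTGen.muT_eq, OTGen.e_pow, nsmul_eq_mul, mul_one, ZMod.natCast_zmod_val]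
  rfl

theorem algHom_ext_muT {S : Type*} [Semiring S] [Algebra R S] {φ₁ φ₂ : OTGen.A R p →ₐ[R] S}
    (h : φ₁ (muT R p) = φ₂ (muT R p)) : φ₁ = φ₂ := by
  apply MonoidAlgebra.algHom_ext
  · intro k
    rw [single_eq_muT_pow, map_pow, map_pow, h]
  · exact Subsingleton.elim _ _

theorem F1_PhiA : F1 (PhiA hp) = F2 (PhiA hp) := by
  apply algHom_ext_muT
  apply WithConv.ext
  apply TensorProduct.ext'
  intro a a'
  change F1 (PhiA hp) (muT R p) (a ⊗ₜ[R] a') = F2 (PhiA hp) (muT R p) (a ⊗ₜ[R] a')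
  rw [F1_apply, F2_muT, PhiA_muT]
  rfl

end F12A

section main

variable {p : ℕ} [Fact p.Prime] {R : Type u} [CommRing R] (u : R)
  (hu : u * ((p - 1 : ℕ) : R) = 1) (χ : (ZMod p)ˣ →* Rˣ)
  (hχ : ∀ m : (ZMod p)ˣ, m ≠ 1 → IsUnit ((χ m : R) - 1))
  (hχp : ∀ m : (ZMod p)ˣ, ((χ m : Rˣ) : R) - (((m : ZMod p).val : ℕ) : R) ∈
    Ideal.span ({(p : R)} : Set R))
  {A : Type u} [CommRing A] [HopfAlgebra R A] [Coalgebra.IsCocomm R A]
  (hp : (WithConv.toConv (AlgHom.id R A)) ^ p = 1)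
  {A' : Type u} [CommRing A'] [Algebra R A']
  (θ : eigenAug R A p χ 1 →ₗ[R] A')
  (Hmul : ∀ (f : Fin p → eigenAug R A p χ 1) (g : eigenAug R A p χ 1),
    (g : A) = ∏ i, (f i : A) → θ g = ∏ i, θ (f i))

include hu hχ hχp in
theorem algHom_ext_ygen {S : Type*} [Semiring S] [Algebra R S] {φ₁ φ₂ : OTGen.A R p →ₐ[R] S}
    (h : φ₁ (ygen R p u χ 1) = φ₂ (ygen R p u χ 1)) : φ₁ = φ₂ :=
  AlgHom.ext_of_adjoin_eq_top (OTGenP.adjoin_ygen_one u hu χ hχ hχp) (by rintro _ rfl; exact h)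

theorem preComp_mem_valuedIn {C C' : Type*} [AddCommGroup C] [Module R C] [Coalgebra R C]
    [AddCommGroup C'] [Module R C'] [Coalgebra R C'] {S : Type*} [CommRing S] [Algebra R S]
    (h : C' →ₗc[R] C) {N : Submodule R S} {F : WithConv (C →ₗ[R] S)} (hF : F ∈ valuedIn N) :
    preComp h F ∈ valuedIn N := fun c => hF (h c)

variable (ΦX : OTGen.A R p →ₐ[R] WithConv (A →ₗ[R] A × A'))
  (hΦX : ΦX (ygen R p u χ 1) = Xi u χ hp θ)

include hu hχ hχp hΦX in
theorem fst_comp_PhiX : (postComp (AlgHom.fst R A A')).comp ΦX = PhiA hp := by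
  apply algHom_ext_ygen u hu χ hχ hχp
  rw [AlgHom.comp_apply, hΦX, PhiA_ygen]
  rfl

include hu hχ hχp hΦX Hmul in
theorem F2_mem : F2 ΦX (ygen R p u χ 1) ∈ valuedIn (N1 χ θ) := by
  unfold F2
  rw [AlgHom.comp_apply, Bialgebra.comulAlgHom_apply]
  have hmem := comul_ygen_mem u hu χ hχ hχp
  generalize Coalgebra.comul (R := R) (ygen R p u χ 1) = z at hmem
  induction hmem using Submodule.span_induction with
  | zero => rw [map_zero]; exact Submodule.zero_mem _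
  | add x y _ _ hx hy => rw [map_add]; exact Submodule.add_mem _ hx hy
  | smul r x _ hx => rw [map_smul]; exact Submodule.smul_mem _ _ hx
  | mem x hx =>
    obtain ⟨i, j, hmod, hpos, rfl⟩ := hx
    rw [Algebra.TensorProduct.lift_tmul, map_pow, map_pow, AlgHom.comp_apply, AlgHom.comp_apply,
      hΦX]
    have h1 := pow_mem_valuedIn (preComp_mem_valuedIn (p₁ (R := R) (A := A)) (Xi_mem u χ hp θ)) i
    have h2 := pow_mem_valuedIn (preComp_mem_valuedIn (p₂ (R := R) (A := A)) (Xi_mem u χ hp θ)) j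
    have h3 := mul_mem_valuedIn h1 h2
    rw [← pow_add] at h3
    exact valuedIn_mono (N1_pow' χ θ Hmul (i + j) hmod hpos) h3

include hu hχ hχp hΦX Hmul in
theorem F1_PhiX : F1 ΦX = F2 ΦX := by
  apply algHom_ext_ygen u hu χ hχ hχp
  have h1 : F1 ΦX (ygen R p u χ 1) ∈ valuedIn (N1 χ θ) := by
    change preComp (Bialgebra.mulCoalgHom R A) (ΦX (ygen R p u χ 1)) ∈ _
    rw [hΦX]
    exact preComp_mem_valuedIn _ (Xi_mem u χ hp θ)
  apply eq_of_fst_eq u hu χ hp θ h1 (F2_mem u hu χ hχ hχp hp θ Hmul ΦX hΦX)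
  have e1 : postComp (AlgHom.fst R A A') (F1 ΦX (ygen R p u χ 1)) =
      ((postComp (AlgHom.fst R A A')).comp (F1 ΦX)) (ygen R p u χ 1) := rfl
  have e2 : postComp (AlgHom.fst R A A') (F2 ΦX (ygen R p u χ 1)) =
      ((postComp (AlgHom.fst R A A')).comp (F2 ΦX)) (ygen R p u χ 1) := rfl
  rw [e1, e2, postComp_F1, postComp_F2, fst_comp_PhiX u hu χ hχ hχp hp θ ΦX hΦX, F1_PhiA]

include hu hχ hχp Hmul in
theorem exists_PhiX :
    ∃ ΦX : OTGen.A R p →ₐ[R] WithConv (A →ₗ[R] A × A'), ΦX (ygen R p u χ 1) = Xi u χ hp θ := by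
  obtain ⟨w, hw, -⟩ := OTGenP.existsUnique_pow_eq u hu χ hχ
  exact exists_liftY u hu χ hχ hχp w hw _ (Xi u χ hp θ) (Xi_pow u hu χ hχ hp θ Hmul w hw)

include hu hχ hχp Hmul in
theorem exists_Phi :
    ∃ Φ' : OTGen.A R p →ₐ[R] WithConv (A →ₗ[R] A'),
      Φ' (ygen R p u χ 1) = toConv (thetaHat u χ hp θ) := by
  obtain ⟨ΦX, hΦX⟩ := exists_PhiX u hu χ hχ hχp hp θ Hmul
  refine ⟨(postComp (AlgHom.snd R A A')).comp ΦX, ?_⟩
  rw [AlgHom.comp_apply, hΦX]
  rfl

include hu hχ hχp Hmul in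
/-- The properties of the map `Θ = Φ'(T)` attached to `θ`: it is multiplicative, unital, and extends
`θ`. -/
theorem props (Φ' : OTGen.A R p →ₐ[R] WithConv (A →ₗ[R] A'))
    (hΦ' : Φ' (ygen R p u χ 1) = toConv (thetaHat u χ hp θ)) :
    (∀ a a' : A, Φ' (muT R p) (a * a') = Φ' (muT R p) a * Φ' (muT R p) a') ∧
      Φ' (muT R p) (1 : A) = 1 ∧
      ∀ x : eigenAug R A p χ 1, Φ' (muT R p) (x : A) = θ x := by
  obtain ⟨ΦX, hΦX⟩ := exists_PhiX u hu χ hχ hχp hp θ Hmul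
  have hΦ : Φ' = (postComp (AlgHom.snd R A A')).comp ΦX := by
    apply algHom_ext_ygen u hu χ hχ hχp
    rw [hΦ', AlgHom.comp_apply, hΦX]
    rfl
  have hmul : ∀ a a' : A, Φ' (muT R p) (a * a') = Φ' (muT R p) a * Φ' (muT R p) a' := by
    apply mul_of_F1_eq_F2
    rw [hΦ, ← postComp_F1, ← postComp_F2, F1_PhiX u hu χ hχ hχp hp θ Hmul ΦX hΦX]
  have hpiR1 : piR u χ hp 1 (1 : A) = 0 := by
    apply Subtype.ext
    rw [subtype_piR, pi_apply, Bialgebra.counit_one, one_smul, sub_self, map_zero]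
    rfl
  have hone : Φ' (muT R p) (1 : A) = 1 := by
    have h1 : (evalOne (R := R) (A := A) (S := A')).comp Φ' =
        (Algebra.ofId R A').comp (Bialgebra.counitAlgHom R (OTGen.A R p)) := by
      apply algHom_ext_ygen u hu χ hχ hχp
      rw [AlgHom.comp_apply, hΦ', AlgHom.comp_apply, evalOne_apply]
      change thetaHat u χ hp θ 1 = algebraMap R A' (Coalgebra.counit (R := R) (ygen R p u χ 1))
      rw [OTGen.counit_ygen, map_zero]
      change θ (piR u χ hp 1 1) = 0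
      rw [hpiR1, map_zero]
    have h2 := AlgHom.congr_fun h1 (muT R p)
    rw [AlgHom.comp_apply, evalOne_apply, AlgHom.comp_apply] at h2
    rw [h2, OTGen.muT_eq]
    change algebraMap R A' (Coalgebra.counit (R := R) (OTGen.e R p 1)) = 1
    rw [OTGen.counit_e, map_one]
  refine ⟨hmul, hone, fun x => ?_⟩
  let Θ : A →ₐ[R] A' := AlgHom.ofLinearMap (Φ' (muT R p)).ofConv hone hmul
  have h3 : (postComp Θ).comp (PhiA hp) = Φ' := by
    apply algHom_ext_muT
    rw [AlgHom.comp_apply, PhiA_muT]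
    rfl
  have h4 := AlgHom.congr_fun h3 (ygen R p u χ 1)
  rw [AlgHom.comp_apply, PhiA_ygen, hΦ'] at h4
  have h5 := congrArg (fun F : WithConv (A →ₗ[R] A') => F (x : A)) h4
  have h6 : pi u χ 1 (x : A) = x := pi_of_mem (p := p) u hu χ 1 (x : A) x.2
  have h7 : piR u χ hp 1 (x : A) = x := by
    apply Subtype.ext
    rw [subtype_piR]
    exact h6
  change Θ (pi u χ 1 (x : A)) = θ (piR u χ hp 1 (x : A)) at h5
  rw [h6, h7] at h5
  exact h5

include hu hχ hχp hp in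
/-- An algebra endomorphism fixing `I_1` pointwise is the identity. -/
theorem endo_eq_id (Ψ : A →ₐ[R] A) (h : ∀ x : eigenAug R A p χ 1, Ψ (x : A) = x) :
    Ψ = AlgHom.id R A := by
  have h1 : (postComp Ψ).comp (PhiA hp) = PhiA hp := by
    apply algHom_ext_ygen u hu χ hχ hχp
    rw [AlgHom.comp_apply, PhiA_ygen]
    apply WithConv.ext
    apply LinearMap.ext
    intro a
    change Ψ (pi u χ 1 a) = pi u χ 1 a
    exact h ⟨_, pi_mem u χ hp 1 a⟩
  have h2 := AlgHom.congr_fun h1 (muT R p)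
  rw [AlgHom.comp_apply, PhiA_muT] at h2
  apply AlgHom.ext
  intro a
  have h3 := congrArg (fun F : WithConv (A →ₗ[R] A) => F a) h2
  exact h3

end main

end Groth.Agent.R2.H90.OTTheta
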