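/-
Helper library (helper90): the duality half of the Oort–Tate injectivity argument. Transposition as an
algebra map of convolution algebras (`tau`), `hp_dual`, `pi_dual_apply`, the dual map `thetaD`, and
`exists_bialgHom` (a linear map `I_1(A) → I_1(A')` compatible with `p`-fold products on both sides extends
to a bialgebra map), `nonempty_bialgEquiv`.
-/
import Mathlib
import Groth.Prelude.Def_CartDual2
import Groth.Agent.R2.H90CartDualPow
import Groth.Agent.R2.H90OTTheta
import Groth.Agent.R2.H90OTPair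

set_option autoImplicit false
set_option linter.unusedSectionVars false
universe u

namespace Groth.Agent.R2.H90.OTThetaDual

open WithConv TensorProduct CartDual _root_.OortTate SGA3b
open Groth.Agent.R2.H90.CartDualPow
open Groth.Agent.R2.H90.OortTate Groth.Agent.R2.H90.OortTateDual Groth.Agent.R2.H90.OTRank
open Groth.Agent.R2.H90.OTTheta Groth.Agent.R2.H90.OTPair

section tau

variable (R : Type u) [CommRing R] (A : Type u) [Ring A] [Bialgebra R A]
  [Module.Finite R A] [Module.Projective R A]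
  (A' : Type u) [Ring A'] [Bialgebra R A'] [Module.Finite R A'] [Module.Projective R A']

variable {A A'} in
/-- Transposes and `ev₂`, with two different maps between two bialgebras. -/
theorem ev₂_map_transposeLin₂' (f g : A →ₗ[R] A') (y : D R A' ⊗[R] D R A') (t : A ⊗[R] A) :
    ev₂ R A (TensorProduct.map (transposeLin R f) (transposeLin R g) y) t =
      ev₂ R A' y (TensorProduct.map f g t) := by
  induction y using TensorProduct.induction_on with
  | zero => simp
  | tmul x z =>
    induction t using TensorProduct.induction_on with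
    | zero => simp
    | tmul a b => simp
    | add t t' ht ht' => simp only [map_add, ht, ht']
  | add y y' hy hy' => simp only [map_add, LinearMap.add_apply, hy, hy']

variable {A A'} in
theorem convMul_transposeLin' (f g : A →ₗ[R] A') :
    (toConv (transposeLin R f) * toConv (transposeLin R g) :
      WithConv (D R A' →ₗ[R] D R A)).ofConv =
    transposeLin R ((toConv f * toConv g : WithConv (A →ₗ[R] A')).ofConv) := by
  apply LinearMap.ext
  intro φ
  apply WithConv.ext
  apply LinearMap.ext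
  intro a
  change ((toConv (transposeLin R f) * toConv (transposeLin R g) :
      WithConv (D R A' →ₗ[R] D R A)) φ) a = φ ((toConv f * toConv g : WithConv (A →ₗ[R] A')) a)
  rw [LinearMap.convMul_apply, LinearMap.convMul_apply, mul'_apply]
  change ev₂ R A (TensorProduct.map (transposeLin R f) (transposeLin R g) (Coalgebra.comul φ))
    (Coalgebra.comul a) = _
  rw [ev₂_map_transposeLin₂', comul_def, ev₂_comul]
  rfl

theorem convOne_transposeLin' :
    (1 : WithConv (D R A' →ₗ[R] D R A)).ofConv =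
      transposeLin R ((1 : WithConv (A →ₗ[R] A')).ofConv) := by
  apply LinearMap.ext
  intro φ
  apply WithConv.ext
  apply LinearMap.ext
  intro a
  change ((1 : WithConv (D R A' →ₗ[R] D R A)) φ) a = φ ((1 : WithConv (A →ₗ[R] A')) a)
  rw [LinearMap.convOne_apply, LinearMap.convOne_apply]
  simp [Algebra.algebraMap_eq_smul_one, LinearMap.convOne_apply, mul_comm]

/-- transposition, as a linear map of convolution algebras -/
noncomputable def tauLin : WithConv (A →ₗ[R] A') →ₗ[R] WithConv (D R A' →ₗ[R] D R A) where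
  toFun f := toConv (transposeLin R f.ofConv)
  map_add' f g := by
    apply WithConv.ext
    apply LinearMap.ext
    intro φ
    apply WithConv.ext
    apply LinearMap.ext
    intro a
    change φ ((f + g) a) = φ (f a) + φ (g a)
    rw [← map_add]
    rfl
  map_smul' r f := by
    apply WithConv.ext
    apply LinearMap.ext
    intro φ
    apply WithConv.ext
    apply LinearMap.ext
    intro a
    change φ ((r • f) a) = r • φ (f a)
    rw [← map_smul]
    rfl

/-- transposition, as an algebra map of convolution algebras -/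
noncomputable def tau : WithConv (A →ₗ[R] A') →ₐ[R] WithConv (D R A' →ₗ[R] D R A) :=
  AlgHom.ofLinearMap (tauLin R A A')
    (by
      apply WithConv.ext
      exact (convOne_transposeLin' R A A').symm)
    (by
      intro f g
      apply WithConv.ext
      exact (convMul_transposeLin' R f.ofConv g.ofConv).symm)

variable {A A'} in
theorem tau_apply (f : WithConv (A →ₗ[R] A')) : tau R A A' f = toConv (transposeLin R f.ofConv) := rfl

variable {A A'} in
theorem tau_apply_apply (f : WithConv (A →ₗ[R] A')) (φ : D R A') (a : A) :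
    (tau R A A' f φ) a = φ (f a) := rfl

end tau

section dualdata

variable {p : ℕ} [Fact p.Prime] {R : Type u} [CommRing R] (u : R)
  (hu : u * ((p - 1 : ℕ) : R) = 1) (χ : (ZMod p)ˣ →* Rˣ)
  {A : Type u} [CommRing A] [HopfAlgebra R A] [Coalgebra.IsCocomm R A]
  [Module.Finite R A] [Module.Projective R A]
  (hp : (WithConv.toConv (AlgHom.id R A)) ^ p = 1)

include hp in
theorem hp_dual : (WithConv.toConv (AlgHom.id R (D R A))) ^ p = 1 := by
  apply ofConv_injective
  apply AlgHom.ext
  intro ψ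
  apply WithConv.ext
  apply LinearMap.ext
  intro a
  change (powConv R (D R A) p ψ) a = ((1 : WithConv (D R A →ₐ[R] D R A)).ofConv ψ) a
  rw [powConv_dual_apply]
  have h1 : powConv R A p a = algebraMap R A (Coalgebra.counit (R := R) a) := by
    unfold powConv
    rw [hp]
    rfl
  rw [h1]
  have h2 : (1 : WithConv (D R A →ₐ[R] D R A)).ofConv ψ =
      algebraMap R (D R A) (Coalgebra.counit (R := R) ψ) := rfl
  rw [h2, Algebra.algebraMap_eq_smul_one, Algebra.algebraMap_eq_smul_one]
  simp [coe_apply, LinearMap.convOne_apply, mul_comm]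

theorem pi_dual_apply (i : ℕ) (d : D R A) (a : A) :
    (pi u χ i d) a = d (pi u χ i a) := by
  rw [pi_apply, pi_apply, proj_apply, proj_apply]
  simp only [ofConv_smul, ofConv_sum, LinearMap.smul_apply, LinearMap.sum_apply, map_smul, map_sum]
  congr 1
  refine Finset.sum_congr rfl fun m _ => ?_
  congr 1
  rw [← coe_apply, powConv_dual_apply, map_sub, map_smul, map_one]
  simp only [coe_apply, ofConv_sub, ofConv_smul, LinearMap.sub_apply, LinearMap.smul_apply, map_sub,
    map_smul]
  have h1 : (ofConv (1 : D R A)) (powConv R A (m : ZMod p).val a) = Coalgebra.counit (R := R) a := by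
    change (1 : WithConv (A →ₗ[R] R)) _ = _
    rw [LinearMap.convOne_apply, counit_powConv]
    rfl
  rw [h1, coalgebra_counit_apply, coe_apply, smul_eq_mul, smul_eq_mul, mul_comm]

theorem transposeLin_pi (i : ℕ) : transposeLin R (pi (A := A) u χ i) = pi u χ i := by
  apply LinearMap.ext
  intro d
  apply WithConv.ext
  apply LinearMap.ext
  intro a
  exact (pi_dual_apply u χ i d a).symm

end dualdata

section main

variable {p : ℕ} [Fact p.Prime] {R : Type u} [CommRing R] (u : R)
  (hu : u * ((p - 1 : ℕ) : R) = 1) (χ : (ZMod p)ˣ →* Rˣ)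
  (hχ : ∀ m : (ZMod p)ˣ, m ≠ 1 → IsUnit ((χ m : R) - 1))
  (hχp : ∀ m : (ZMod p)ˣ, ((χ m : Rˣ) : R) - (((m : ZMod p).val : ℕ) : R) ∈
    Ideal.span ({(p : R)} : Set R))
  {A : Type u} [CommRing A] [HopfAlgebra R A] [Coalgebra.IsCocomm R A]
  [Module.Finite R A] [Module.Projective R A]
  (hp : (WithConv.toConv (AlgHom.id R A)) ^ p = 1)
  {A' : Type u} [CommRing A'] [HopfAlgebra R A'] [Coalgebra.IsCocomm R A']
  [Module.Finite R A'] [Module.Projective R A']
  (hp' : (WithConv.toConv (AlgHom.id R A')) ^ p = 1)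
  (θ₀ : eigenAug R A p χ 1 →ₗ[R] eigenAug R A' p χ 1)

/-- `θ` as a map to `A'` -/
noncomputable def thetaA : eigenAug R A p χ 1 →ₗ[R] A' := (eigenAug R A' p χ 1).subtype ∘ₗ θ₀

theorem thetaA_apply (x : eigenAug R A p χ 1) : thetaA χ θ₀ x = ((θ₀ x : eigenAug R A' p χ 1) : A') := rfl

theorem thetaHat_mem (a : A) : thetaHat u χ hp (thetaA χ θ₀) a ∈ eigenAug R A' p χ 1 :=
  (θ₀ (piR u χ hp 1 a)).2

include hu in
theorem pi_thetaHat (a : A) :
    pi u χ 1 (thetaHat u χ hp (thetaA χ θ₀) a) = thetaHat u χ hp (thetaA χ θ₀) a :=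
  pi_of_mem (p := p) u hu χ 1 (thetaHat u χ hp (thetaA χ θ₀) a) (thetaHat_mem u χ hp θ₀ a)

include hu in
theorem piR_of_mem (x : eigenAug R A p χ 1) : piR u χ hp 1 (x : A) = x := by
  apply Subtype.ext
  rw [subtype_piR]
  exact pi_of_mem (p := p) u hu χ 1 (x : A) x.2

include hu in
theorem thetaHat_of_mem (x : eigenAug R A p χ 1) :
    thetaHat u χ hp (thetaA χ θ₀) (x : A) = ((θ₀ x : eigenAug R A' p χ 1) : A') := by
  change thetaA χ θ₀ (piR u χ hp 1 (x : A)) = _
  rw [piR_of_mem u hu χ hp x]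
  rfl

include hu in
theorem thetaHat_pi (a : A) :
    thetaHat u χ hp (thetaA χ θ₀) (pi u χ 1 a) = thetaHat u χ hp (thetaA χ θ₀) a := by
  have h := thetaHat_of_mem u hu χ hp θ₀ (piR u χ hp 1 a)
  rw [subtype_piR] at h
  rw [h]
  rfl

/-- the dual map `θ^∨` on `I_1(A'^D)` -/
noncomputable def thetaD : eigenAug R (D R A') p χ 1 →ₗ[R] D R A :=
  transposeLin R (thetaHat u χ hp (thetaA χ θ₀)) ∘ₗ (eigenAug R (D R A') p χ 1).subtype

theorem thetaD_apply (d : eigenAug R (D R A') p χ 1) (a : A) :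
    (thetaD u χ hp θ₀ d) a = (d : D R A') (thetaHat u χ hp (thetaA χ θ₀) a) := rfl

include hu in
theorem thetaHat_thetaD :
    thetaHat (A := D R A') (A' := D R A) u χ (hp_dual (A := A') hp') (thetaD u χ hp θ₀) =
      transposeLin R (thetaHat u χ hp (thetaA χ θ₀)) := by
  apply LinearMap.ext
  intro d
  apply WithConv.ext
  apply LinearMap.ext
  intro a
  change (thetaD u χ hp θ₀ (piR u χ (hp_dual (A := A') hp') 1 d)) a =
    d (thetaHat u χ hp (thetaA χ θ₀) a)
  rw [thetaD_apply, subtype_piR, pi_dual_apply, pi_thetaHat u hu χ hp θ₀]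

include hu in
theorem thetaD_mem (d : eigenAug R (D R A') p χ 1) :
    thetaD u χ hp θ₀ d ∈ eigenAug R (D R A) p χ 1 := by
  have h : thetaD u χ hp θ₀ d = transposeLin R (pi u χ 1) (thetaD u χ hp θ₀ d) := by
    apply WithConv.ext
    apply LinearMap.ext
    intro a
    change (thetaD u χ hp θ₀ d) a = (thetaD u χ hp θ₀ d) (pi u χ 1 a)
    rw [thetaD_apply, thetaD_apply, thetaHat_pi u hu χ hp θ₀]
  rw [h]
  exact transpose_pi_mem u χ hp 1 _

variable
  (hθD : ∀ (φ : Fin p → eigenAug R (D R A) p χ 1) (φ' : Fin p → eigenAug R (D R A') p χ 1)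
      (ψ : eigenAug R (D R A) p χ 1) (ψ' : eigenAug R (D R A') p χ 1),
      (∀ i, ∀ x : eigenAug R A p χ 1,
        toDual R A (φ i : D R A) (x : A) =
          toDual R A' (φ' i : D R A') ((θ₀ x : eigenAug R A' p χ 1) : A')) →
      (ψ : D R A) = ∏ i, (φ i : D R A) →
      (ψ' : D R A') = ∏ i, (φ' i : D R A') →
      ∀ x : eigenAug R A p χ 1,
        toDual R A (ψ : D R A) (x : A) =
          toDual R A' (ψ' : D R A') ((θ₀ x : eigenAug R A' p χ 1) : A'))

include hu hθD in
theorem thetaD_mul (f : Fin p → eigenAug R (D R A') p χ 1) (g : eigenAug R (D R A') p χ 1)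
    (hg : (g : D R A') = ∏ i, (f i : D R A')) :
    thetaD u χ hp θ₀ g = ∏ i, thetaD u χ hp θ₀ (f i) := by
  let φ : Fin p → eigenAug R (D R A) p χ 1 := fun i =>
    ⟨thetaD u χ hp θ₀ (f i), thetaD_mem u hu χ hp θ₀ (f i)⟩
  let ψ : eigenAug R (D R A) p χ 1 := ⟨∏ i, (φ i : D R A), prod_mem_eigenAug χ φ⟩
  have h1 := hθD φ f ψ g (fun i x => by
    change (thetaD u χ hp θ₀ (f i)) (x : A) = (f i : D R A') ((θ₀ x : eigenAug R A' p χ 1) : A')
    rw [thetaD_apply, thetaHat_of_mem u hu χ hp θ₀]) rfl hg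
  apply WithConv.ext
  apply LinearMap.ext
  intro a
  change (thetaD u χ hp θ₀ g) a = (ψ : D R A) a
  rw [← dual_comp_pi u hu χ 1 (ψ : D R A) ψ.2 a, thetaD_apply, ← thetaHat_pi u hu χ hp θ₀ a]
  have h2 := h1 (piR u χ hp 1 a)
  rw [subtype_piR] at h2
  have h3 : thetaHat u χ hp (thetaA χ θ₀) (pi u χ 1 a) =
      ((θ₀ (piR u χ hp 1 a) : eigenAug R A' p χ 1) : A') := by
    rw [thetaHat_pi u hu χ hp θ₀]
    rfl
  rw [h3]
  exact h2.symm


variable (hθ : ∀ (f : Fin p → eigenAug R A p χ 1) (g : eigenAug R A p χ 1),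
      (g : A) = ∏ i, (f i : A) →
        ((θ₀ g : eigenAug R A' p χ 1) : A') = ∏ i, ((θ₀ (f i) : eigenAug R A' p χ 1) : A'))

include hu hχ hχp hp hp' hθ hθD in
theorem exists_bialgHom : ∃ Θ : A →ₐc[R] A',
    ∀ x : eigenAug R A p χ 1, Θ (x : A) = ((θ₀ x : eigenAug R A' p χ 1) : A') := by
  have Hmul : ∀ (f : Fin p → eigenAug R A p χ 1) (g : eigenAug R A p χ 1),
      (g : A) = ∏ i, (f i : A) → thetaA χ θ₀ g = ∏ i, thetaA χ θ₀ (f i) := hθ
  obtain ⟨Φ', hΦ'⟩ := exists_Phi u hu χ hχ hχp hp (thetaA χ θ₀) Hmul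
  obtain ⟨hmul, hone, hext⟩ := props u hu χ hχ hχp hp (thetaA χ θ₀) Hmul Φ' hΦ'
  let Θ : A →ₐ[R] A' := AlgHom.ofLinearMap (Φ' (muT R p)).ofConv hone hmul
  have HmulD := thetaD_mul u hu χ hp θ₀ hθD
  let Φ'' : OTGen.A R p →ₐ[R] WithConv (D R A' →ₗ[R] D R A) := (tau R A A').comp Φ'
  have hΦ'' : Φ'' (ygen R p u χ 1) =
      toConv (thetaHat (A := D R A') (A' := D R A) u χ (hp_dual (A := A') hp')
        (thetaD u χ hp θ₀)) := by
    rw [thetaHat_thetaD u hu χ hp hp' θ₀]
    change tau R A A' (Φ' (ygen R p u χ 1)) = _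
    rw [hΦ']
    rfl
  obtain ⟨hmulD, honeD, -⟩ := props (A := D R A') (A' := D R A) u hu χ hχ hχp
    (hp_dual (A := A') hp') (thetaD u χ hp θ₀) HmulD Φ'' hΦ''
  have hT : ∀ (d : D R A') (a : A), (Φ'' (muT R p) d) a = d (Θ a) := fun d a => rfl
  -- counit
  have hcounit : ∀ a : A, Coalgebra.counit (R := R) (Θ a) = Coalgebra.counit (R := R) a := by
    intro a
    have h1 := congrArg (fun d : D R A => d a) honeD
    simp only [hT] at h1
    rw [LinearMap.convOne_apply, LinearMap.convOne_apply] at h1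
    exact h1
  have hcomul : ∀ a : A, TensorProduct.map Θ.toLinearMap Θ.toLinearMap
      (Coalgebra.comul (R := R) a) = Coalgebra.comul (R := R) (Θ a) := by
    intro a
    have key : ∀ y : D R A' ⊗[R] D R A',
        ev₂ R A' y (TensorProduct.map Θ.toLinearMap Θ.toLinearMap (Coalgebra.comul (R := R) a)) =
          ev₂ R A' y (Coalgebra.comul (R := R) (Θ a)) := by
      intro y
      rw [← ev₂_map_transposeLin₂', ← mul'_apply, ← mul'_apply]
      induction y using TensorProduct.induction_on with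
      | zero => simp
      | tmul d d' =>
        rw [TensorProduct.map_tmul, LinearMap.mul'_apply, LinearMap.mul'_apply]
        exact (congrArg (fun e : D R A => e a) (hmulD d d')).symm
      | add y y' hy hy' =>
        rw [map_add, map_add, map_add]
        change (LinearMap.mul' R (D R A) _) a + (LinearMap.mul' R (D R A) _) a =
          (LinearMap.mul' R (D R A') y) (Θ a) + (LinearMap.mul' R (D R A') y') (Θ a)
        rw [hy, hy']
    rw [← sub_eq_zero]
    apply (Module.forall_dual_apply_eq_zero_iff R _).1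
    intro f
    obtain ⟨y, rfl⟩ := (ev₂ R A').surjective f
    rw [map_sub, key, sub_self]
  refine ⟨BialgHom.ofAlgHom Θ ?_ ?_, ?_⟩
  · apply AlgHom.ext
    intro a
    exact hcounit a
  · apply AlgHom.ext
    intro a
    exact hcomul a
  · intro x
    exact hext x

end main

section equiv

variable {p : ℕ} [Fact p.Prime] {R : Type u} [CommRing R] (u : R)
  (hu : u * ((p - 1 : ℕ) : R) = 1) (χ : (ZMod p)ˣ →* Rˣ)
  (hχ : ∀ m : (ZMod p)ˣ, m ≠ 1 → IsUnit ((χ m : R) - 1))
  (hχp : ∀ m : (ZMod p)ˣ, ((χ m : Rˣ) : R) - (((m : ZMod p).val : ℕ) : R) ∈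
    Ideal.span ({(p : R)} : Set R))
  {A : Type u} [CommRing A] [HopfAlgebra R A] [Coalgebra.IsCocomm R A]
  [Module.Finite R A] [Module.Projective R A]
  (hp : (WithConv.toConv (AlgHom.id R A)) ^ p = 1)
  {A' : Type u} [CommRing A'] [HopfAlgebra R A'] [Coalgebra.IsCocomm R A']
  [Module.Finite R A'] [Module.Projective R A']
  (hp' : (WithConv.toConv (AlgHom.id R A')) ^ p = 1)
  (θ : eigenAug R A p χ 1 ≃ₗ[R] eigenAug R A' p χ 1)
  (hθ : ∀ (f : Fin p → eigenAug R A p χ 1) (g : eigenAug R A p χ 1),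
      (g : A) = ∏ i, (f i : A) →
        ((θ g : eigenAug R A' p χ 1) : A') = ∏ i, ((θ (f i) : eigenAug R A' p χ 1) : A'))
  (hθD : ∀ (φ : Fin p → eigenAug R (D R A) p χ 1) (φ' : Fin p → eigenAug R (D R A') p χ 1)
      (ψ : eigenAug R (D R A) p χ 1) (ψ' : eigenAug R (D R A') p χ 1),
      (∀ i, ∀ x : eigenAug R A p χ 1,
        toDual R A (φ i : D R A) (x : A) =
          toDual R A' (φ' i : D R A') ((θ x : eigenAug R A' p χ 1) : A')) →
      (ψ : D R A) = ∏ i, (φ i : D R A) →
      (ψ' : D R A') = ∏ i, (φ' i : D R A') →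
      ∀ x : eigenAug R A p χ 1,
        toDual R A (ψ : D R A) (x : A) =
          toDual R A' (ψ' : D R A') ((θ x : eigenAug R A' p χ 1) : A'))

include hu hχ hχp hp hp' hθ hθD in
/-- Injectivity of the Oort–Tate classification: an isomorphism `I_1(A) ≃ I_1(A')` compatible with the
`p`-fold products on both sides comes from an isomorphism of bialgebras. -/
theorem nonempty_bialgEquiv : Nonempty (A ≃ₐc[R] A') := by
  obtain ⟨Θ, hΘ⟩ := exists_bialgHom u hu χ hχ hχp hp hp' θ.toLinearMap hθD hθ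
  have hθ' : ∀ (f : Fin p → eigenAug R A' p χ 1) (g : eigenAug R A' p χ 1),
      (g : A') = ∏ i, (f i : A') →
        ((θ.symm g : eigenAug R A p χ 1) : A) = ∏ i, ((θ.symm (f i) : eigenAug R A p χ 1) : A) := by
    intro f g hg
    have h1 := hθ (fun i => θ.symm (f i)) ⟨_, prod_mem_eigenAug χ (fun i => θ.symm (f i))⟩ rfl
    simp only [LinearEquiv.apply_symm_apply] at h1
    rw [← hg] at h1
    have h2 : θ ⟨_, prod_mem_eigenAug χ (fun i => θ.symm (f i))⟩ = g := Subtype.ext h1
    rw [← h2, LinearEquiv.symm_apply_apply]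
  have hθD' : ∀ (φ : Fin p → eigenAug R (D R A') p χ 1) (φ' : Fin p → eigenAug R (D R A) p χ 1)
      (ψ : eigenAug R (D R A') p χ 1) (ψ' : eigenAug R (D R A) p χ 1),
      (∀ i, ∀ x : eigenAug R A' p χ 1,
        toDual R A' (φ i : D R A') (x : A') =
          toDual R A (φ' i : D R A) ((θ.symm x : eigenAug R A p χ 1) : A)) →
      (ψ : D R A') = ∏ i, (φ i : D R A') →
      (ψ' : D R A) = ∏ i, (φ' i : D R A) →
      ∀ x : eigenAug R A' p χ 1,
        toDual R A' (ψ : D R A') (x : A') =
          toDual R A (ψ' : D R A) ((θ.symm x : eigenAug R A p χ 1) : A) := by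
    intro φ φ' ψ ψ' h hψ hψ' x
    have h1 := hθD φ' φ ψ' ψ (fun i y => by
      have := h i (θ y)
      rw [LinearEquiv.symm_apply_apply] at this
      exact this.symm) hψ' hψ (θ.symm x)
    rw [LinearEquiv.apply_symm_apply] at h1
    exact h1.symm
  obtain ⟨Θ', hΘ'⟩ := exists_bialgHom u hu χ hχ hχp hp' hp θ.symm.toLinearMap hθD' hθ'
  have e1 : (Θ' : A' →ₐ[R] A).comp (Θ : A →ₐ[R] A') = AlgHom.id R A := by
    apply endo_eq_id u hu χ hχ hχp hp
    intro x
    change Θ' (Θ (x : A)) = x
    rw [hΘ]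
    change Θ' ((θ x : eigenAug R A' p χ 1) : A') = x
    rw [hΘ']
    change ((θ.symm (θ x) : eigenAug R A p χ 1) : A) = x
    rw [LinearEquiv.symm_apply_apply]
  have e2 : (Θ : A →ₐ[R] A').comp (Θ' : A' →ₐ[R] A) = AlgHom.id R A' := by
    apply endo_eq_id u hu χ hχ hχp hp'
    intro x
    change Θ (Θ' (x : A')) = x
    rw [hΘ']
    change Θ ((θ.symm x : eigenAug R A p χ 1) : A) = x
    rw [hΘ]
    change ((θ (θ.symm x) : eigenAug R A' p χ 1) : A') = x
    rw [LinearEquiv.apply_symm_apply]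
  refine ⟨BialgEquiv.ofBialgHom Θ Θ' ?_ ?_⟩
  · apply BialgHom.ext
    intro a
    exact AlgHom.congr_fun e2 a
  · apply BialgHom.ext
    intro a
    exact AlgHom.congr_fun e1 a

end equiv

end Groth.Agent.R2.H90.OTThetaDual
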