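/-
Helper library (helper90): Oort–Tate injectivity in the free case. From generators `x, ξ, x', ξ'` of the
four rank-one eigen-submodules with `ξ(x) = ξ'(x') = 1` and a unit relating the structure constants, build
the linear isomorphism `θ : I_1(A) ≃ I_1(A')`, check both compatibilities, and conclude with
`OTThetaDual.nonempty_bialgEquiv`.
-/
import Mathlib
import Groth.Prelude.Def_CartDual2
import Groth.Agent.R2.H90OTThetaDual

set_option autoImplicit false
set_option linter.unusedSectionVars false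
universe u

namespace Groth.Agent.R2.H90.OTFree

open WithConv TensorProduct CartDual _root_.OortTate SGA3b
open Groth.Agent.R2.H90.OortTate Groth.Agent.R2.H90.OortTateDual Groth.Agent.R2.H90.OTRank
open Groth.Agent.R2.H90.OTTheta Groth.Agent.R2.H90.OTPair Groth.Agent.R2.H90.OTThetaDual

section coord

variable {p : ℕ} [Fact p.Prime] {R : Type u} [CommRing R] (χ : (ZMod p)ˣ →* Rˣ)
  {A : Type u} [CommRing A] [HopfAlgebra R A] [Coalgebra.IsCocomm R A]
  [Module.Finite R A] [Module.Projective R A]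
  (x : A) (hx : Submodule.span R {x} = eigenAug R A p χ 1)
  (ξ : D R A) (hξ : Submodule.span R {ξ} = eigenAug R (D R A) p χ 1)
  (hxξ : toDual R A ξ x = 1)

include hx in
theorem x_mem : x ∈ eigenAug R A p χ 1 := by
  rw [← hx]
  exact Submodule.mem_span_singleton_self x

include hξ in
theorem xi_mem : ξ ∈ eigenAug R (D R A) p χ 1 := by
  rw [← hξ]
  exact Submodule.mem_span_singleton_self ξ

include hx hxξ in
theorem coord (y : A) (hy : y ∈ eigenAug R A p χ 1) : y = (toDual R A ξ y) • x := by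
  rw [← hx] at hy
  obtain ⟨r, rfl⟩ := Submodule.mem_span_singleton.1 hy
  rw [map_smul, hxξ, smul_eq_mul, mul_one]

include hξ hxξ in
theorem coordD (d : D R A) (hd : d ∈ eigenAug R (D R A) p χ 1) : d = (toDual R A d x) • ξ := by
  rw [← hξ] at hd
  obtain ⟨r, rfl⟩ := Submodule.mem_span_singleton.1 hd
  rw [map_smul, LinearMap.smul_apply, hxξ, smul_eq_mul, mul_one]

end coord

section theta

variable {p : ℕ} [Fact p.Prime] {R : Type u} [CommRing R] (χ : (ZMod p)ˣ →* Rˣ)
  {A : Type u} [CommRing A] [HopfAlgebra R A] [Coalgebra.IsCocomm R A]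
  [Module.Finite R A] [Module.Projective R A]
  {A' : Type u} [CommRing A'] [HopfAlgebra R A'] [Coalgebra.IsCocomm R A']
  [Module.Finite R A'] [Module.Projective R A']
  (ξ : D R A) (x' : A') (hx' : Submodule.span R {x'} = eigenAug R A' p χ 1)

/-- `y ↦ (c ξ(y)) x'` -/
noncomputable def thetaLin (c : R) : eigenAug R A p χ 1 →ₗ[R] eigenAug R A' p χ 1 :=
  (LinearMap.toSpanSingleton R (eigenAug R A' p χ 1) ⟨x', x_mem χ x' hx'⟩) ∘ₗ
    (c • ((toDual R A ξ) ∘ₗ (eigenAug R A p χ 1).subtype))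

theorem thetaLin_apply (c : R) (y : eigenAug R A p χ 1) :
    ((thetaLin χ ξ x' hx' c y : eigenAug R A' p χ 1) : A') = (c * toDual R A ξ (y : A)) • x' := rfl

end theta

section main

variable {p : ℕ} [Fact p.Prime] {R : Type u} [CommRing R] (u : R)
  (hu : u * ((p - 1 : ℕ) : R) = 1) (χ : (ZMod p)ˣ →* Rˣ)
  (hχ : ∀ m : (ZMod p)ˣ, m ≠ 1 → IsUnit ((χ m : R) - 1))
  (hχp : ∀ m : (ZMod p)ˣ, ((χ m : Rˣ) : R) - (((m : ZMod p).val : ℕ) : R) ∈
    Ideal.span ({(p : R)} : Set R))
  {A : Type u} [CommRing A] [HopfAlgebra R A] [Coalgebra.IsCocomm R A]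
  [Module.Finite R A] [Module.Projective R A]
  (hp : (WithConv.toConv (AlgHom.id R A)) ^ p = 1)
  {A' : Type u} [CommRing A'] [HopfAlgebra R A'] [Coalgebra.IsCocomm R A']
  [Module.Finite R A'] [Module.Projective R A']
  (hp' : (WithConv.toConv (AlgHom.id R A')) ^ p = 1)
  (x : A) (hx : Submodule.span R {x} = eigenAug R A p χ 1)
  (ξ : D R A) (hξ : Submodule.span R {ξ} = eigenAug R (D R A) p χ 1)
  (hxξ : toDual R A ξ x = 1)
  (x' : A') (hx' : Submodule.span R {x'} = eigenAug R A' p χ 1)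
  (ξ' : D R A') (hξ' : Submodule.span R {ξ'} = eigenAug R (D R A') p χ 1)
  (hxξ' : toDual R A' ξ' x' = 1)
  (α β α' β' : R) (hα : x ^ p = α • x) (hβ : ξ ^ p = β • ξ) (hα' : x' ^ p = α' • x')
  (hβ' : ξ' ^ p = β' • ξ')
  (c c' : R) (hcc' : c' * c = 1) (hαc : α = c ^ (p - 1) * α') (hβc : β' = c ^ (p - 1) * β)

include hx hxξ hx' hxξ' hcc' in
theorem thetaLin_inv (y : eigenAug R A p χ 1) :
    thetaLin χ ξ' x hx c' (thetaLin χ ξ x' hx' c y) = y := by
  apply Subtype.ext
  rw [thetaLin_apply, thetaLin_apply, map_smul, hxξ', smul_eq_mul, mul_one, ← mul_assoc, hcc',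
    one_mul]
  exact (coord χ x hx ξ hxξ (y : A) y.2).symm

include hx hxξ hx' hα hα' hαc in
theorem thetaLin_mul (f : Fin p → eigenAug R A p χ 1) (g : eigenAug R A p χ 1)
    (hg : (g : A) = ∏ i, (f i : A)) :
    ((thetaLin χ ξ x' hx' c g : eigenAug R A' p χ 1) : A') =
      ∏ i, ((thetaLin χ ξ x' hx' c (f i) : eigenAug R A' p χ 1) : A') := by
  have hp0 : 0 < p := (Fact.out : p.Prime).pos
  have h1 : ∀ i, (f i : A) = (toDual R A ξ (f i : A)) • x := fun i =>
    coord χ x hx ξ hxξ (f i : A) (f i).2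
  have h2 : (g : A) = ((∏ i, toDual R A ξ (f i : A)) * α) • x := by
    rw [hg, Finset.prod_congr rfl (fun i _ => h1 i), Finset.prod_smul, Finset.prod_const,
      Finset.card_univ, Fintype.card_fin, hα, smul_smul]
  simp only [thetaLin_apply]
  rw [Finset.prod_smul, Finset.prod_const, Finset.card_univ, Fintype.card_fin, hα', smul_smul]
  congr 1
  conv_lhs => rw [h2, map_smul, hxξ, smul_eq_mul, mul_one]
  rw [Finset.prod_mul_distrib, Finset.prod_const, Finset.card_univ, Fintype.card_fin, hαc]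
  have e : c ^ p = c * c ^ (p - 1) := by
    rw [← pow_succ', Nat.sub_add_cancel hp0]
  rw [e]
  ring

include hx hxξ hξ hx' hxξ' hξ' hβ hβ' hβc in
theorem thetaLin_mulD (φ : Fin p → eigenAug R (D R A) p χ 1)
    (φ' : Fin p → eigenAug R (D R A') p χ 1)
    (ψ : eigenAug R (D R A) p χ 1) (ψ' : eigenAug R (D R A') p χ 1)
    (H : ∀ i, ∀ y : eigenAug R A p χ 1,
      toDual R A (φ i : D R A) (y : A) =
        toDual R A' (φ' i : D R A') ((thetaLin χ ξ x' hx' c y : eigenAug R A' p χ 1) : A'))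
    (hψ : (ψ : D R A) = ∏ i, (φ i : D R A))
    (hψ' : (ψ' : D R A') = ∏ i, (φ' i : D R A'))
    (y : eigenAug R A p χ 1) :
    toDual R A (ψ : D R A) (y : A) =
      toDual R A' (ψ' : D R A') ((thetaLin χ ξ x' hx' c y : eigenAug R A' p χ 1) : A') := by
  have hp0 : 0 < p := (Fact.out : p.Prime).pos
  have h1 : ∀ i, (φ i : D R A) = (toDual R A (φ i : D R A) x) • ξ := fun i =>
    coordD χ x ξ hξ hxξ (φ i : D R A) (φ i).2
  have h1' : ∀ i, (φ' i : D R A') = (toDual R A' (φ' i : D R A') x') • ξ' := fun i =>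
    coordD χ x' ξ' hξ' hxξ' (φ' i : D R A') (φ' i).2
  have h3 : ∀ i, toDual R A (φ i : D R A) x = c * toDual R A' (φ' i : D R A') x' := by
    intro i
    have := H i ⟨x, x_mem χ x hx⟩
    rw [thetaLin_apply, map_smul, smul_eq_mul] at this
    change toDual R A (φ i : D R A) x = _ at this
    rw [this]
    change (c * toDual R A ξ x) * _ = _
    rw [hxξ, mul_one]
  have h2 : (ψ : D R A) = ((∏ i, toDual R A (φ i : D R A) x) * β) • ξ := by
    rw [hψ, Finset.prod_congr rfl (fun i _ => h1 i), Finset.prod_smul, Finset.prod_const,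
      Finset.card_univ, Fintype.card_fin, hβ, smul_smul]
  have h2' : (ψ' : D R A') = ((∏ i, toDual R A' (φ' i : D R A') x') * β') • ξ' := by
    rw [hψ', Finset.prod_congr rfl (fun i _ => h1' i), Finset.prod_smul, Finset.prod_const,
      Finset.card_univ, Fintype.card_fin, hβ', smul_smul]
  rw [h2, h2', thetaLin_apply]
  simp only [map_smul, LinearMap.smul_apply, smul_eq_mul]
  rw [hxξ', Finset.prod_congr rfl (fun i _ => h3 i), Finset.prod_mul_distrib,
    Finset.prod_const, Finset.card_univ, Fintype.card_fin, hβc]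
  have e : c ^ p = c * c ^ (p - 1) := by
    rw [← pow_succ', Nat.sub_add_cancel hp0]
  rw [e]
  ring

include hu hχ hχp hp hp' hx hξ hxξ hx' hξ' hxξ' hα hβ hα' hβ' hαc hβc hcc' in
theorem nonempty_bialgEquiv_of_generators (hcc : c * c' = 1) : Nonempty (A ≃ₐc[R] A') := by
  let θ : eigenAug R A p χ 1 ≃ₗ[R] eigenAug R A' p χ 1 :=
    LinearEquiv.ofLinearMap (thetaLin χ ξ x' hx' c) (thetaLin χ ξ' x hx c')
      (LinearMap.ext fun y => thetaLin_inv χ x' hx' ξ' hxξ' x hx ξ hxξ c' c hcc y)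
      (LinearMap.ext fun y => thetaLin_inv χ x hx ξ hxξ x' hx' ξ' hxξ' c c' hcc' y)
  have hθ : ∀ y, θ y = thetaLin χ ξ x' hx' c y := fun y => rfl
  refine nonempty_bialgEquiv u hu χ hχ hχp hp hp' θ ?_ ?_
  · intro f g hg
    simp only [hθ]
    exact thetaLin_mul χ x hx ξ hxξ x' hx' α α' hα hα' c hαc f g hg
  · intro φ φ' ψ ψ' H hψ hψ' y
    simp only [hθ] at H ⊢
    exact thetaLin_mulD χ x hx ξ hξ hxξ x' hx' ξ' hξ' hxξ' β β' hβ hβ' c hβc φ φ' ψ ψ' H hψ hψ' y

end main

end Groth.Agent.R2.H90.OTFree
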