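/-
Helper library (helper90): finite projective modules of constant rank one: endomorphisms are scalars,
and the module is faithful.
-/
import Mathlib

set_option autoImplicit false
universe u v

namespace Groth.Agent.R2.H90.RankOne

open Module

variable {R : Type u} [CommRing R] {M : Type v} [AddCommGroup M] [Module R M]
  [Module.Finite R M] [Module.Projective R M]

/-- local generator of a rank one projective module -/
theorem exists_local_gen (h1 : ∀ q : PrimeSpectrum R, Module.rankAtStalk M q = 1) (P : Ideal R)
    [hP : P.IsPrime] :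
    ∃ e : LocalizedModule P.primeCompl M,
      (∀ z : LocalizedModule P.primeCompl M, ∃ a : Localization.AtPrime P, z = a • e) ∧
      (∀ a : Localization.AtPrime P, a • e = 0 → a = 0) := by
  have hfree : Module.Free (Localization.AtPrime P) (LocalizedModule P.primeCompl M) :=
    Module.free_of_flat_of_isLocalRing
  have hr : Module.finrank (Localization.AtPrime P) (LocalizedModule P.primeCompl M) = 1 :=
    h1 ⟨P, hP⟩
  let b := Module.basisUnique (R := Localization.AtPrime P) (M := LocalizedModule P.primeCompl M)
    Unit hr
  refine ⟨b default, fun z => ⟨b.repr z default, ?_⟩, fun a ha => ?_⟩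
  · conv_lhs => rw [← b.sum_repr z]
    simp
  · have := congrArg (fun w => b.repr w default) ha
    simpa using this

theorem apply_smul_comm (h1 : ∀ q : PrimeSpectrum R, Module.rankAtStalk M q = 1)
    (φ : M →ₗ[R] R) (x y : M) : φ x • y = φ y • x := by
  refine Module.eq_of_localization_maximal (R := R) (M := M)
    (fun (P : Ideal R) _ => LocalizedModule P.primeCompl M)
    (fun (P : Ideal R) _ => LocalizedModule.mkLinearMap P.primeCompl M) _ _ ?_
  intro P hP
  obtain ⟨e, he, -⟩ := exists_local_gen h1 P
  set f := LocalizedModule.mkLinearMap P.primeCompl M with hf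
  let φP : LocalizedModule P.primeCompl M →ₗ[Localization.AtPrime P] Localization.AtPrime P :=
    (IsLocalizedModule.map P.primeCompl f (Algebra.linearMap R (Localization.AtPrime P)) φ
      ).extendScalarsOfIsLocalization P.primeCompl (Localization.AtPrime P)
  have hφP : ∀ z : M, φP (f z) = algebraMap R (Localization.AtPrime P) (φ z) := by
    intro z
    simp [φP, IsLocalizedModule.map_apply]
  obtain ⟨a, ha⟩ := he (f x)
  obtain ⟨b, hb⟩ := he (f y)
  rw [map_smul, map_smul, ← algebraMap_smul (Localization.AtPrime P) (φ x),
    ← algebraMap_smul (Localization.AtPrime P) (φ y), ← hφP, ← hφP, ha, hb, map_smul, map_smul,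
    smul_smul, smul_smul, smul_eq_mul, smul_eq_mul]
  congr 1
  ring

theorem exists_smul_eq (h1 : ∀ q : PrimeSpectrum R, Module.rankAtStalk M q = 1)
    (F : M →ₗ[R] M) : ∃ r : R, ∀ x, F x = r • x := by
  obtain ⟨n, f, g, -, -, hfg⟩ := Module.Finite.exists_comp_eq_id_of_projective R M
  have hrec : ∀ y : M, y = ∑ k : Fin n, g y k • f (Pi.single k 1) := by
    intro y
    conv_lhs => rw [← LinearMap.id_apply (R := R) y, ← hfg, LinearMap.comp_apply]
    conv_lhs => rw [← Finset.univ_sum_single (g y)]
    rw [map_sum]
    refine Finset.sum_congr rfl fun k _ => ?_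
    rw [← map_smul]
    congr 1
    ext j
    simp [Pi.single_apply]
  refine ⟨∑ k : Fin n, g (F (f (Pi.single k 1))) k, fun y => ?_⟩
  rw [Finset.sum_smul]
  conv_lhs => rw [hrec (F y)]
  refine Finset.sum_congr rfl fun k _ => ?_
  exact (apply_smul_comm h1 ((LinearMap.proj k).comp (g.comp F)) (f (Pi.single k 1)) y).symm

theorem eq_zero_of_smul (h1 : ∀ q : PrimeSpectrum R, Module.rankAtStalk M q = 1)
    (r : R) (hr : ∀ x : M, r • x = 0) : r = 0 := by
  apply eq_zero_of_localization
  intro J hJ
  obtain ⟨e, -, he⟩ := exists_local_gen h1 J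
  apply he
  rw [algebraMap_smul]
  induction e using LocalizedModule.induction_on with
  | h m s => rw [LocalizedModule.smul'_mk, hr, LocalizedModule.zero_mk]

end Groth.Agent.R2.H90.RankOne
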