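/-
Helper library (helper90): the map `A ⊗ A^D → End_R(A)`, `a ⊗ d ↦ (x ↦ d x • a)`, as a monoid map to the
convolution ring; the image of the Oort–Tate element `y_1` under the Cartier pairing is the projector onto
`I_1(A)`; `main` = statement S18477 given that `A` is killed by `p`.
-/
import Mathlib
import Groth.Prelude.Def_CartDual2
import Groth.Prelude.Def_W4c5ffgsreadingcourseOT
import Groth.Agent.R2.H90OortTateDual
import Groth.Agent.R2.H90OTGen
import Groth.Agent.R2.H90OTRank
import Groth.Agent.R2.H90RankOne
import Groth.Agent.R2.H90Deligne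

set_option autoImplicit false
set_option linter.unusedSectionVars false
universe u

namespace Groth.Agent.R2.H90.OTPair

open WithConv _root_.OortTate SGA3b TensorProduct CartDual
open Groth.Agent.R2.H90.OortTate Groth.Agent.R2.H90.OortTateDual Groth.Agent.R2.H90.OTRank

section Psi

variable {R : Type u} [CommRing R] {A : Type u} [CommRing A] [HopfAlgebra R A]

instance instLeftDistribClassTensor' : LeftDistribClass (A ⊗[R] D R A) := by
  let _ : Semiring (A ⊗[R] D R A) := inferInstance
  infer_instance

instance instRightDistribClassTensor' : RightDistribClass (A ⊗[R] D R A) := by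
  let _ : Semiring (A ⊗[R] D R A) := inferInstance
  infer_instance

noncomputable instance instMulZeroClassTensor' : MulZeroClass (A ⊗[R] D R A) := by
  let _ : Semiring (A ⊗[R] D R A) := inferInstance
  infer_instance

/-- `a ⊗ d ↦ (x ↦ d x • a)` -/
noncomputable def Psi : A ⊗[R] D R A →ₗ[R] (A →ₗ[R] A) :=
  dualTensorHom R A A ∘ₗ (TensorProduct.comm R A (Module.Dual R A)).toLinearMap ∘ₗ
    LinearMap.lTensor A (toDual R A).toLinearMap

@[simp] theorem Psi_tmul (a : A) (d : D R A) (x : A) : Psi (a ⊗ₜ[R] d) x = d x • a := by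
  simp [Psi]

theorem Psi_tmul_eq (a : A) (d : D R A) :
    Psi (a ⊗ₜ[R] d) = (LinearMap.toSpanSingleton R A a) ∘ₗ d.ofConv := by
  apply LinearMap.ext
  intro x
  simp

theorem Psi_injective [Module.Finite R A] [Module.Projective R A] :
    Function.Injective (Psi (R := R) (A := A)) := by
  have h1 : Function.Injective (dualTensorHom R A A) := (dualTensorHom_bijective (R := R)).1
  have h2 : Function.Injective (LinearMap.lTensor A (toDual R A).toLinearMap) :=
    ((toDual R A).lTensor A).injective
  exact h1.comp ((TensorProduct.comm R A (Module.Dual R A)).injective.comp h2)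

theorem rid_lTensor_eval (z : A ⊗[R] D R A) (a : A) :
    TensorProduct.rid R A (LinearMap.lTensor A ((Module.Dual.eval R A a) ∘ₗ
      (toDual R A).toLinearMap) z) = Psi z a := by
  induction z using TensorProduct.induction_on with
  | zero => simp
  | add x y hx hy => simp only [map_add, hx, hy, LinearMap.add_apply]
  | tmul a' d => simp [coe_apply]

theorem Psi_one : toConv (Psi (1 : A ⊗[R] D R A)) = 1 := by
  rw [Algebra.TensorProduct.one_def]
  apply WithConv.ext
  apply LinearMap.ext
  intro x
  simp [Psi_tmul, LinearMap.convOne_def, Algebra.algebraMap_eq_smul_one]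

theorem Psi_mul (z w : A ⊗[R] D R A) : toConv (Psi (z * w)) = toConv (Psi z) * toConv (Psi w) := by
  induction z using TensorProduct.induction_on with
  | zero => simp
  | add z z' hz hz' => simp only [add_mul, map_add, toConv_add, hz, hz']
  | tmul a d =>
    induction w using TensorProduct.induction_on with
    | zero => simp
    | add w w' hw hw' => simp only [mul_add, map_add, toConv_add, hw, hw']
    | tmul a' d' =>
      have key : LinearMap.toSpanSingleton R A (a * a') ∘ₗ LinearMap.mul' R R =
          LinearMap.mul' R A ∘ₗ TensorProduct.map (LinearMap.toSpanSingleton R A a)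
            (LinearMap.toSpanSingleton R A a') := by
        apply TensorProduct.ext'
        intro r s
        simp only [LinearMap.comp_apply, LinearMap.mul'_apply, TensorProduct.map_tmul,
          LinearMap.toSpanSingleton_apply, smul_mul_smul_comm]
      rw [Algebra.TensorProduct.tmul_mul_tmul, Psi_tmul_eq, Psi_tmul_eq, Psi_tmul_eq,
        LinearMap.convMul_def]
      congr 1
      rw [ofConv_toConv, ofConv_toConv, TensorProduct.map_comp]
      rw [← LinearMap.comp_assoc, key]
      simp only [LinearMap.comp_assoc]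

/-- `Psi` as a monoid homomorphism into the convolution ring -/
noncomputable def PsiHom : A ⊗[R] D R A →* WithConv (A →ₗ[R] A) where
  toFun z := toConv (Psi z)
  map_one' := Psi_one
  map_mul' := Psi_mul

theorem Psi_pow (z : A ⊗[R] D R A) (n : ℕ) : toConv (Psi (z ^ n)) = (toConv (Psi z)) ^ n :=
  map_pow PsiHom z n

/-- naturality -/
theorem Psi_map (f g : A →ₗ[R] A) (z : A ⊗[R] D R A) :
    Psi (TensorProduct.map f (transposeLin R g) z) = f ∘ₗ Psi z ∘ₗ g := by
  induction z using TensorProduct.induction_on with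
  | zero => simp
  | add x y hx hy => simp only [map_add, hx, hy, LinearMap.add_comp, LinearMap.comp_add]
  | tmul a d =>
    apply LinearMap.ext
    intro x
    simp [transposeLin, coe_apply]

end Psi

section main

variable {p : ℕ} [Fact p.Prime] {R : Type u} [CommRing R] (u : R)
  (hu : u * ((p - 1 : ℕ) : R) = 1) (χ : (ZMod p)ˣ →* Rˣ)
  {A : Type u} [CommRing A] [HopfAlgebra R A] [Coalgebra.IsCocomm R A]
  [Module.Finite R A] [Module.Projective R A]
  (hp : (WithConv.toConv (AlgHom.id R A)) ^ p = 1)

theorem pi_one (i : ℕ) : pi (A := A) u χ i 1 = 0 := by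
  rw [pi_apply, Bialgebra.counit_one, one_smul, sub_self, map_zero]

include hp in
theorem pi_powConv (i : ℕ) (m : (ZMod p)ˣ) (a : A) :
    pi u χ i (powConv R A (m : ZMod p).val a) = ((χ m : Rˣ) : R) ^ i • pi u χ i a := by
  have e : powConv R A (m : ZMod p).val a - Coalgebra.counit (R := R) a • (1 : A) =
      powConv R A (m : ZMod p).val (a - Coalgebra.counit (R := R) a • (1 : A)) := by
    rw [map_sub, map_smul, map_one]
  rw [pi_apply, counit_powConv, e, proj_powConv u χ hp, ← pi_apply]
  exact ((mem_eigenAug_iff χ i _).1 (pi_mem u χ hp i a)).2 m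

include hp in
/-- `d ∘ π_i` lies in the eigen-submodule of the dual -/
theorem transpose_pi_mem (i : ℕ) (d : D R A) :
    transposeLin R (pi u χ i) d ∈ eigenAug R (D R A) p χ i := by
  rw [mem_eigenAug_dual_iff]
  refine ⟨?_, fun m a => ?_⟩
  · rw [transposeLin_apply, pi_one, coe_apply, map_zero]
  · rw [transposeLin_apply, transposeLin_apply, pi_powConv u χ hp, coe_apply, map_smul, smul_eq_mul]

include hu in
theorem dual_comp_pi (i : ℕ) (d : D R A) (hd : d ∈ eigenAug R (D R A) p χ i) (x : A) :
    d (pi u χ i x) = d x := by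
  rw [pi_apply]
  exact (dual_apply_eq u hu χ i d hd x).symm

variable (δ : A ⊗[R] D R A)
  (hδ : ∀ a : A, TensorProduct.rid R A
      (LinearMap.lTensor A ((Module.Dual.eval R A a) ∘ₗ (toDual R A).toLinearMap) δ) = a)
  (ϕ : MonoidAlgebra R (Multiplicative (ZMod p)) →ₐ[R] A ⊗[R] D R A)
  (hϕ : ϕ (muT R p) = δ)

include hδ in
theorem Psi_delta : Psi δ = LinearMap.id := by
  apply LinearMap.ext
  intro a
  rw [← rid_lTensor_eval, hδ, LinearMap.id_apply]

theorem phi_one : ϕ 1 = 1 := ϕ.toRingHom.map_one

theorem phi_pow (x : MonoidAlgebra R (Multiplicative (ZMod p))) (n : ℕ) : ϕ (x ^ n) = ϕ x ^ n := by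
  induction n with
  | zero => rw [pow_zero, pow_zero]; exact phi_one ϕ
  | succ n ih =>
    rw [pow_succ, pow_succ, ← ih]
    exact ϕ.toRingHom.map_mul _ _

include hδ hϕ in
theorem Psi_phi_e (m : (ZMod p)ˣ) :
    Psi (ϕ (Groth.Agent.R2.H90.OTGen.e R p (m : ZMod p))) =
      (powConv R A (m : ZMod p).val).toLinearMap := by
  have h1 : Groth.Agent.R2.H90.OTGen.e R p (m : ZMod p) = (muT R p) ^ (m : ZMod p).val := by
    rw [Groth.Agent.R2.H90.OTGen.muT_eq, Groth.Agent.R2.H90.OTGen.e_pow, nsmul_eq_mul, mul_one,
      ZMod.natCast_zmod_val]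
  rw [h1, phi_pow, hϕ, powConv_toLinearMap]
  have := Psi_pow δ (m : ZMod p).val
  rw [Psi_delta δ hδ] at this
  exact congrArg ofConv this

include hδ hϕ in
theorem Psi_phi_ygen : Psi (ϕ (ygen R p u χ 1)) = pi u χ 1 := by
  rw [Groth.Agent.R2.H90.OTGen.ygen_eq]
  simp only [map_smul, map_sum, map_sub, phi_one, Psi_phi_e δ hδ ϕ hϕ]
  have h1 : Psi (1 : A ⊗[R] D R A) = Algebra.linearMap R A ∘ₗ Coalgebra.counit (R := R) (A := A) := by
    have := Psi_one (R := R) (A := A)
    rw [LinearMap.convOne_def] at this
    exact congrArg ofConv this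
  rw [h1]
  apply LinearMap.ext
  intro a
  rw [pi_apply, proj_apply]
  simp only [LinearMap.smul_apply, LinearMap.sum_apply, LinearMap.sub_apply, LinearMap.comp_apply,
    AlgHom.toLinearMap_apply, Algebra.linearMap_apply, map_sub, map_smul, map_one,
    Algebra.algebraMap_eq_smul_one]

include hu hp hδ hϕ in
theorem main
    (hχ : ∀ m : (ZMod p)ˣ, m ≠ 1 → IsUnit (((χ m : Rˣ) : R) - 1))
    (hχp : ∀ m : (ZMod p)ˣ, ((χ m : Rˣ) : R) - (((m : ZMod p).val : ℕ) : R) ∈
      Ideal.span ({(p : R)} : Set R))
    (hrk : ∀ q : PrimeSpectrum R, Module.rankAtStalk A q = p) :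
    Submodule.span R {ϕ (ygen R p u χ 1)} =
        LinearMap.range (TensorProduct.map (eigenAug R A p χ 1).subtype
          (eigenAug R (D R A) p χ 1).subtype) ∧
      ∀ r : R, r • ϕ (ygen R p u χ 1) = 0 → r = 0 := by
  set ω := ϕ (ygen R p u χ 1) with hωdef
  have hω : Psi ω = pi u χ 1 := Psi_phi_ygen u χ δ hδ ϕ hϕ
  have hfin := finite_eigenAug u hu χ hp (A := A) 1
  have hproj := projective_eigenAug u hu χ hp (A := A) 1
  have hrk1 : ∀ q : PrimeSpectrum R, Module.rankAtStalk (R := R) (eigenAug R A p χ 1) q = 1 :=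
    rankAtStalk_eigenAug_one u hu χ hχ hχp hp hrk
  have hidem : ∀ x : A, pi u χ 1 (pi u χ 1 x) = pi u χ 1 x := fun x =>
    pi_of_mem u hu χ 1 _ (pi_mem u χ hp 1 x)
  constructor
  · apply le_antisymm
    · rw [Submodule.span_singleton_le_iff_mem]
      have h1 : TensorProduct.map (pi u χ 1) (transposeLin R (pi u χ 1)) ω = ω := by
        apply Psi_injective
        rw [Psi_map, hω]
        apply LinearMap.ext
        intro x
        simp only [LinearMap.comp_apply, hidem]
      let πD : D R A →ₗ[R] eigenAug R (D R A) p χ 1 :=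
        LinearMap.codRestrict _ (transposeLin R (pi u χ 1)) (transpose_pi_mem u χ hp 1)
      have h2 : TensorProduct.map (pi u χ 1) (transposeLin R (pi u χ 1)) =
          TensorProduct.map (eigenAug R A p χ 1).subtype (eigenAug R (D R A) p χ 1).subtype ∘ₗ
            TensorProduct.map (piR u χ hp 1) πD := by
        rw [← TensorProduct.map_comp]
        congr 1
      rw [← h1, h2]
      exact ⟨_, rfl⟩
    · rintro _ ⟨z, rfl⟩
      induction z using TensorProduct.induction_on with
      | zero => simp
      | add x y hx hy =>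
        rw [map_add]
        exact Submodule.add_mem _ hx hy
      | tmul a d =>
        rw [TensorProduct.map_tmul, Submodule.subtype_apply, Submodule.subtype_apply]
        let F : eigenAug R A p χ 1 →ₗ[R] eigenAug R A p χ 1 :=
          (LinearMap.toSpanSingleton R _ a) ∘ₗ (d : D R A).ofConv ∘ₗ (eigenAug R A p χ 1).subtype
        obtain ⟨r, hr⟩ := Groth.Agent.R2.H90.RankOne.exists_smul_eq hrk1 F
        rw [Submodule.mem_span_singleton]
        refine ⟨r, ?_⟩
        apply Psi_injective
        rw [map_smul, hω]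
        apply LinearMap.ext
        intro x
        rw [Psi_tmul, LinearMap.smul_apply]
        have h3 := congrArg Subtype.val (hr (piR u χ hp 1 x))
        rw [Submodule.coe_smul, subtype_piR] at h3
        rw [← h3]
        have h4 : ((F (piR u χ hp 1 x) : eigenAug R A p χ 1) : A) =
            ((d : D R A) (pi u χ 1 x)) • (a : A) := rfl
        rw [h4, dual_comp_pi u hu χ 1 (d : D R A) d.2]
  · intro r hr
    apply Groth.Agent.R2.H90.RankOne.eq_zero_of_smul hrk1 r
    intro x
    have h1 := congrArg Psi hr
    rw [map_smul, hω, map_zero] at h1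
    have h2 := LinearMap.congr_fun h1 (x : A)
    have h5 := pi_of_mem (p := p) u hu χ 1 (x : A) x.2
    rw [LinearMap.smul_apply, h5] at h2
    apply Subtype.ext
    rw [Submodule.coe_smul]
    exact h2

end main

end Groth.Agent.R2.H90.OTPair
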