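/-
Helper library (helper90): Oort–Tate, powers of `I_1`: `y_1^t = w_t y_t` with `w_t` a unit
(`exists_unit_pow_eq`), `I_1^t = I_t` for `1 ≤ t ≤ p - 1` (`pow_eigenAug_eq`), periodicity of the
eigen-submodules and their rank for every index.
-/
import Mathlib
import Groth.Prelude.Def_W4c5ffgsreadingcourseOT
import Groth.Agent.R2.H90OTGen
import Groth.Agent.R2.H90OTGenP
import Groth.Agent.R2.H90OTRank
import Groth.Agent.R2.H90OTTheta

set_option autoImplicit false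
set_option linter.unusedSectionVars false
universe u

namespace Groth.Agent.R2.H90.OTPow

open WithConv _root_.OortTate SGA3b TensorProduct
open Groth.Agent.R2.H90.OortTate Groth.Agent.R2.H90.OortTateDual Groth.Agent.R2.H90.OTRank
open Groth.Agent.R2.H90.OTTheta Groth.Agent.R2.H90.ConvFun

section units

open Groth.Agent.R2.H90.OTGen Groth.Agent.R2.H90.OTGenP

variable {p : ℕ} [Fact p.Prime] {R : Type u} [CommRing R] (u : R)
  (hu : u * ((p - 1 : ℕ) : R) = 1) (χ : (ZMod p)ˣ →* Rˣ)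
  (hχ : ∀ m : (ZMod p)ˣ, m ≠ 1 → IsUnit ((χ m : R) - 1))
  (hχp : ∀ m : (ZMod p)ˣ, ((χ m : Rˣ) : R) - (((m : ZMod p).val : ℕ) : R) ∈
    Ideal.span ({(p : R)} : Set R))

include hu hχ hχp in
/-- `y_1^t = w_t y_t` with `w_t` a unit, for `1 ≤ t ≤ p - 1` -/
theorem exists_unit_pow_eq (t : ℕ) (ht1 : 1 ≤ t) (ht2 : t ≤ p - 1) :
    ∃ w : R, IsUnit w ∧ ygen R p u χ 1 ^ t = w • ygen R p u χ t := by
  have hp2 : 2 ≤ p := (Fact.out : p.Prime).two_le
  by_cases h1 : t = 1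
  · exact ⟨1, isUnit_one, by rw [h1, pow_one, one_smul]⟩
  have hp3 : 3 ≤ p := by omega
  have hp1 : p - 1 = (p - 2) + 1 := by omega
  have heig0 : IsEig χ 0 (ygen R p u χ 1 ^ (p - 1)) := by
    have h := (isEig_ygen u χ 1).pow χ (p - 2)
    rw [← hp1, mul_comm] at h
    exact h.of_mul_period χ
  have hw := heig0.eq_smul u hu χ
  set w := coef 1 (ygen R p u χ 1 ^ (p - 1)) * ((p - 1 : ℕ) : R) with hwdef
  have hwu : IsUnit w := isUnit_of_pow_eq u hu χ hχ hχp hp3 w hw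
  have h0 : 0 < p - 1 := by omega
  by_cases htp : t = p - 1
  · refine ⟨w, hwu, ?_⟩
    rw [htp, hw]
    have := ygen_add_period u χ 0
    rw [zero_add] at this
    rw [this]
  · -- 1 ≤ t ≤ p - 2
    have hipos : 0 < t := by omega
    have hj1 : t = (t - 1) + 1 := by omega
    have heigj : IsEig χ t (ygen R p u χ 1 ^ t) := by
      have h := (isEig_ygen u χ 1).pow χ (t - 1)
      rw [← hj1, mul_one] at h
      exact h
    have hwj := heigj.eq_smul u hu χ
    set wj := coef 1 (ygen R p u χ 1 ^ t) * ((p - 1 : ℕ) : R) with hwjdef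
    have hk1 : p - 1 - t = (p - 1 - t - 1) + 1 := by omega
    have heigk : IsEig χ (p - 1 - t) (ygen R p u χ 1 ^ (p - 1 - t)) := by
      have h := (isEig_ygen u χ 1).pow χ (p - 1 - t - 1)
      rw [← hk1, mul_one] at h
      exact h
    have hwk := heigk.eq_smul u hu χ
    set wk := coef 1 (ygen R p u χ 1 ^ (p - 1 - t)) * ((p - 1 : ℕ) : R) with hwkdef
    have hprod := ygen_mul_ygen u hu χ hχ t (p - 1 - t) hipos (by omega) (by omega)
    set d : R := -(u * ((χ (-1 : (ZMod p)ˣ)⁻¹ : Rˣ) : R) ^ (p - 1 - t)) with hd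
    have e1 : ygen R p u χ 1 ^ (p - 1) = (wj * wk * d) • ygen R p u χ 0 := by
      have : p - 1 = t + (p - 1 - t) := by omega
      conv_lhs => rw [this, pow_add, hwj, hwk, smul_mul_smul_comm, hprod, smul_smul]
    have e2 : w = wj * wk * d := smul_ygen_injective u hu χ hχ 0 h0 (hw.symm.trans e1)
    have hwju : IsUnit wj := by
      rw [e2, mul_assoc] at hwu
      exact isUnit_of_mul_isUnit_left hwu
    exact ⟨wj, hwju, hwj⟩

end units


section pow

variable {p : ℕ} [Fact p.Prime] {R : Type u} [CommRing R] (u : R)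
  (hu : u * ((p - 1 : ℕ) : R) = 1) (χ : (ZMod p)ˣ →* Rˣ)
  (hχ : ∀ m : (ZMod p)ˣ, m ≠ 1 → IsUnit ((χ m : R) - 1))
  (hχp : ∀ m : (ZMod p)ˣ, ((χ m : Rˣ) : R) - (((m : ZMod p).val : ℕ) : R) ∈
    Ideal.span ({(p : R)} : Set R))
  {A : Type u} [CommRing A] [HopfAlgebra R A]
  (hp : (WithConv.toConv (AlgHom.id R A)) ^ p = 1)

theorem eigenAug_add_mul_period (i n : ℕ) :
    eigenAug R A p χ (i + n * (p - 1)) = eigenAug R A p χ i := by
  induction n with
  | zero => simp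
  | succ n ih =>
    rw [Nat.succ_mul, ← add_assoc, eigenAug_add_period, ih]

theorem eigenAug_mod (i : ℕ) : eigenAug R A p χ i = eigenAug R A p χ (i % (p - 1)) := by
  conv_lhs => rw [← Nat.mod_add_div i (p - 1), mul_comm]
  exact eigenAug_add_mul_period χ _ _

theorem mul_mem_eigenAug {i j : ℕ} {a b : A} (ha : a ∈ eigenAug R A p χ i)
    (hb : b ∈ eigenAug R A p χ j) : a * b ∈ eigenAug R A p χ (i + j) := by
  rw [mem_eigenAug_iff] at ha hb ⊢
  refine ⟨?_, fun m => ?_⟩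
  · change Bialgebra.counitAlgHom R A (a * b) = 0
    rw [map_mul]
    change Coalgebra.counit (R := R) a * _ = 0
    rw [ha.1, zero_mul]
  · rw [map_mul, ha.2 m, hb.2 m, smul_mul_smul_comm, pow_add]

theorem pow_le_eigenAug (t : ℕ) (ht : 1 ≤ t) :
    (eigenAug R A p χ 1) ^ t ≤ eigenAug R A p χ t := by
  induction t with
  | zero => omega
  | succ t ih =>
    rcases Nat.eq_zero_or_pos t with h0 | hpos
    · rw [h0, zero_add, pow_one]
    · rw [pow_succ]
      refine Submodule.mul_le.2 fun a ha b hb => ?_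
      exact mul_mem_eigenAug χ (ih hpos ha) hb

include hu hχ hχp hp in
theorem eigenAug_le_pow (t : ℕ) (ht1 : 1 ≤ t) (ht2 : t ≤ p - 1) :
    eigenAug R A p χ t ≤ (eigenAug R A p χ 1) ^ t := by
  obtain ⟨w, hwu, hw⟩ := exists_unit_pow_eq u hu χ hχ hχp t ht1 ht2
  intro a ha
  have h1 : (toConv (pi u χ 1) : WithConv (A →ₗ[R] A)) ^ t = w • toConv (pi u χ t) := by
    rw [← PhiA_ygen u χ hp 1, ← map_pow, hw, map_smul, PhiA_ygen]
  have h2 : (toConv (pi u χ 1) : WithConv (A →ₗ[R] A)) ^ t ∈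
      valuedIn ((eigenAug R A p χ 1) ^ t) :=
    pow_mem_valuedIn (fun c => pi_mem u χ hp 1 c) t
  have h3 := h2 a
  rw [h1] at h3
  have h4 : (w • toConv (pi u χ t) : WithConv (A →ₗ[R] A)) a = w • a := by
    change w • pi u χ t a = w • a
    rw [pi_of_mem (p := p) u hu χ t a ha]
  rw [h4] at h3
  have h5 : a = (↑(hwu.unit⁻¹) : R) • (w • a) := by
    rw [smul_smul, IsUnit.val_inv_mul, one_smul]
  rw [h5]
  exact Submodule.smul_mem _ _ h3

include hu hχ hχp hp in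
/-- `I_1^t = I_t` for `1 ≤ t ≤ p - 1` -/
theorem pow_eigenAug_eq (t : ℕ) (ht1 : 1 ≤ t) (ht2 : t ≤ p - 1) :
    (eigenAug R A p χ 1) ^ t = eigenAug R A p χ t :=
  le_antisymm (pow_le_eigenAug χ t ht1) (eigenAug_le_pow u hu χ hχ hχp hp t ht1 ht2)

end pow

section rk

variable {p : ℕ} [Fact p.Prime] {R : Type u} [CommRing R] (u : R)
  (hu : u * ((p - 1 : ℕ) : R) = 1) (χ : (ZMod p)ˣ →* Rˣ)
  (hχ : ∀ m : (ZMod p)ˣ, m ≠ 1 → IsUnit ((χ m : R) - 1))
  (hχp : ∀ m : (ZMod p)ˣ, ((χ m : Rˣ) : R) - (((m : ZMod p).val : ℕ) : R) ∈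
    Ideal.span ({(p : R)} : Set R))
  {A : Type u} [CommRing A] [HopfAlgebra R A] [Module.Finite R A] [Module.Projective R A]
  (hp : (WithConv.toConv (AlgHom.id R A)) ^ p = 1)

include hu hχ hχp hp in
theorem rankAtStalk_eigenAug_nat (hrk : ∀ q : PrimeSpectrum R, Module.rankAtStalk A q = p)
    (i : ℕ) (q : PrimeSpectrum R) :
    Module.rankAtStalk (R := R) (eigenAug R A p χ i) q = 1 := by
  have hp2 : 2 ≤ p := (Fact.out : p.Prime).two_le
  have hlt : i % (p - 1) < p - 1 := Nat.mod_lt _ (by omega)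
  have e : eigenAug R A p χ i = eigenAug R A p χ ((⟨i % (p - 1), hlt⟩ : Fin (p - 1)) : ℕ) :=
    eigenAug_mod χ i
  rw [Module.rankAtStalk_eq_of_equiv (LinearEquiv.ofEq _ _ e)]
  exact rankAtStalk_eigenAug u hu χ hχ hχp hp hrk ⟨i % (p - 1), hlt⟩ q

end rk

end Groth.Agent.R2.H90.OTPow
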