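/-
Helper library (helper90): Oort–Tate, the presentation `A = T(I_1)/(x_1 ⋯ x_p - (x_1⋯x_p))`. The tensor algebra
of a rank one projective module is commutative; independence of `R·1, I_1, …, I_{p-1}`; the canonical map
`LL : T(I_1) → A` is surjective, injective in each degree `≤ p - 1` (rank count), and every tensor is congruent
modulo the relations to one of degree `< p`.
-/
import Mathlib
import Groth.Prelude.Def_W4c5ffgsreadingcourseOT
import Groth.Agent.R2.H90RankOne
import Groth.Agent.R2.H90OTPow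
import Groth.Agent.R2.H90OTPair
import Groth.Agent.S18468

set_option autoImplicit false
set_option linter.unusedSectionVars false
set_option linter.style.haveILetI false
universe u

namespace Groth.Agent.R2.H90.OTTensor

open WithConv _root_.OortTate SGA3b TensorProduct
open Groth.Agent.R2.H90.OortTate Groth.Agent.R2.H90.OortTateDual Groth.Agent.R2.H90.OTRank
open Groth.Agent.R2.H90.OTTheta Groth.Agent.R2.H90.ConvFun Groth.Agent.R2.H90.OTPow

section comm

variable {R : Type u} [CommRing R] {M : Type u} [AddCommGroup M] [Module R M]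
  [Module.Finite R M] [Module.Projective R M]
  (h1 : ∀ q : PrimeSpectrum R, Module.rankAtStalk M q = 1)

include h1 in
theorem ι_mul_comm (x y : M) :
    TensorAlgebra.ι R x * TensorAlgebra.ι R y = TensorAlgebra.ι R y * TensorAlgebra.ι R x := by
  obtain ⟨n, f, g, -, -, hfg⟩ := Module.Finite.exists_comp_eq_id_of_projective R M
  have hrec : ∀ y : M, y = ∑ k : Fin n, g y k • f (Pi.single k 1) := by
    intro y
    conv_lhs => rw [← LinearMap.id_apply (R := R) y, ← hfg, LinearMap.comp_apply]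
    conv_lhs => rw [← Finset.univ_sum_single (g y)]
    rw [map_sum]
    refine Finset.sum_congr rfl fun k _ => ?_
    rw [← map_smul]
    congr 1
    ext j
    simp [Pi.single_apply]
  have key : ∀ k : Fin n, g y k • x = g x k • y := fun k =>
    Groth.Agent.R2.H90.RankOne.apply_smul_comm h1 ((LinearMap.proj k).comp g) y x
  conv_lhs => rw [hrec y, map_sum, Finset.mul_sum]
  conv_rhs => rw [hrec x, map_sum, Finset.mul_sum]
  refine Finset.sum_congr rfl fun k _ => ?_
  rw [map_smul, map_smul, mul_smul_comm, mul_smul_comm, ← smul_mul_assoc, ← smul_mul_assoc,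
    ← map_smul, ← map_smul, key k]

include h1 in
theorem tensorAlgebra_mul_comm (a b : TensorAlgebra R M) : a * b = b * a := by
  induction a using TensorAlgebra.induction generalizing b with
  | algebraMap r => exact Algebra.commutes r b
  | ι x =>
    induction b using TensorAlgebra.induction with
    | algebraMap r => exact (Algebra.commutes r _).symm
    | ι y => exact ι_mul_comm h1 x y
    | mul b c hb hc => rw [← mul_assoc, hb, mul_assoc, hc, mul_assoc]
    | add b c hb hc => rw [mul_add, add_mul, hb, hc]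
  | mul a a' ha ha' => rw [mul_assoc, ha' b, ← mul_assoc, ha b, mul_assoc]
  | add a a' ha ha' => rw [add_mul, mul_add, ha b, ha' b]

end comm


section indep

variable {p : ℕ} [Fact p.Prime] {R : Type u} [CommRing R] (u : R)
  (hu : u * ((p - 1 : ℕ) : R) = 1) (χ : (ZMod p)ˣ →* Rˣ)
  (hχ : ∀ m : (ZMod p)ˣ, m ≠ 1 → IsUnit ((χ m : R) - 1))
  {A : Type u} [CommRing A] [HopfAlgebra R A]
  (hp : (WithConv.toConv (AlgHom.id R A)) ^ p = 1)

include hu hχ in
/-- orthogonality of the projectors -/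
theorem pi_of_mem_ne (n m : ℕ) (hn1 : 1 ≤ n) (hn2 : n ≤ p - 1) (hm1 : 1 ≤ m) (hm2 : m ≤ p - 1)
    (hnm : n ≠ m) (a : A) (ha : a ∈ eigenAug R A p χ m) : pi u χ n a = 0 := by
  obtain ⟨h1, h2⟩ := (mem_eigenAug_iff χ m a).1 ha
  rw [pi_apply, h1, zero_smul, sub_zero, proj_apply]
  have h3 : ∀ x : (ZMod p)ˣ, ((χ x⁻¹ : Rˣ) : R) ^ n • powConv R A (x : ZMod p).val a =
      (((χ x⁻¹ : Rˣ) : R) ^ n * ((χ x : Rˣ) : R) ^ m) • a := by
    intro x
    rw [h2 x, smul_smul]
  rw [Finset.sum_congr rfl (fun x _ => h3 x), ← Finset.sum_smul]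
  have hinv : ∀ x : (ZMod p)ˣ, ((χ x⁻¹ : Rˣ) : R) * ((χ x : Rˣ) : R) = 1 := by
    intro x
    rw [← Units.val_mul, ← map_mul, inv_mul_cancel, map_one, Units.val_one]
  have key : ∑ x : (ZMod p)ˣ, ((χ x⁻¹ : Rˣ) : R) ^ n * ((χ x : Rˣ) : R) ^ m = 0 := by
    rcases lt_or_gt_of_ne hnm with hlt | hgt
    · -- n < m : χ(x)^(m-n) = χ(x⁻¹)^(p-1-(m-n))
      have h4 : ∀ x : (ZMod p)ˣ, ((χ x⁻¹ : Rˣ) : R) ^ n * ((χ x : Rˣ) : R) ^ m =
          ((χ x⁻¹ : Rˣ) : R) ^ (p - 1 - (m - n)) := by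
        intro x
        have e1 : m = n + (m - n) := by omega
        have e2 : ((χ x⁻¹ : Rˣ) : R) ^ (p - 1 - (m - n)) * ((χ x⁻¹ : Rˣ) : R) ^ (m - n) = 1 := by
          rw [← pow_add, Nat.sub_add_cancel (by omega)]
          exact Groth.Agent.R2.H90.OTGen.chi_pow_card χ x⁻¹
        calc ((χ x⁻¹ : Rˣ) : R) ^ n * ((χ x : Rˣ) : R) ^ m
            = (((χ x⁻¹ : Rˣ) : R) * ((χ x : Rˣ) : R)) ^ n * ((χ x : Rˣ) : R) ^ (m - n) := by
              conv_lhs => rw [e1, pow_add]
              rw [mul_pow]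
              ring
          _ = ((χ x : Rˣ) : R) ^ (m - n) := by rw [hinv, one_pow, one_mul]
          _ = (((χ x⁻¹ : Rˣ) : R) ^ (p - 1 - (m - n)) * ((χ x⁻¹ : Rˣ) : R) ^ (m - n)) *
                ((χ x : Rˣ) : R) ^ (m - n) := by rw [e2, one_mul]
          _ = ((χ x⁻¹ : Rˣ) : R) ^ (p - 1 - (m - n)) *
                (((χ x⁻¹ : Rˣ) : R) * ((χ x : Rˣ) : R)) ^ (m - n) := by
              rw [mul_pow]
              ring
          _ = ((χ x⁻¹ : Rˣ) : R) ^ (p - 1 - (m - n)) := by rw [hinv, one_pow, mul_one]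
      rw [Finset.sum_congr rfl (fun x _ => h4 x)]
      exact Groth.Agent.R2.H90.OTGen.sum_chi_inv_pow u hu χ hχ _ (by omega) (by omega)
    · -- m < n
      have h4 : ∀ x : (ZMod p)ˣ, ((χ x⁻¹ : Rˣ) : R) ^ n * ((χ x : Rˣ) : R) ^ m =
          ((χ x⁻¹ : Rˣ) : R) ^ (n - m) := by
        intro x
        have e1 : n = (n - m) + m := by omega
        conv_lhs => rw [e1, pow_add, mul_assoc, ← mul_pow, hinv, one_pow, mul_one]
      rw [Finset.sum_congr rfl (fun x _ => h4 x)]
      exact Groth.Agent.R2.H90.OTGen.sum_chi_inv_pow u hu χ hχ _ (by omega) (by omega)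
  rw [key, zero_smul, smul_zero]

include hu hχ in
/-- independence of `R·1, I_1, …, I_{p-1}` -/
theorem eq_zero_of_sum_eq_zero (a : ℕ → A) (h0 : a 0 ∈ (1 : Submodule R A))
    (ha : ∀ n, 1 ≤ n → n ≤ p - 1 → a n ∈ eigenAug R A p χ n)
    (hsum : ∑ n ∈ Finset.range p, a n = 0) : ∀ n, n < p → a n = 0 := by
  have hp2 : 2 ≤ p := (Fact.out : p.Prime).two_le
  have hpos : ∀ n, 1 ≤ n → n < p → a n = 0 := by
    intro n hn1 hn2
    have h1 := congrArg (pi u χ n) hsum
    rw [map_sum, map_zero] at h1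
    rw [Finset.sum_eq_single n] at h1
    · rw [pi_of_mem (p := p) u hu χ n (a n) (ha n hn1 (by omega))] at h1
      exact h1
    · intro m hm hmn
      rw [Finset.mem_range] at hm
      rcases Nat.eq_zero_or_pos m with h0' | hmpos
      · rw [h0']
        obtain ⟨r, hr⟩ := Submodule.mem_one.1 h0
        have hpi1 : pi (A := A) u χ n 1 = 0 := by
          rw [pi_apply, Bialgebra.counit_one, one_smul, sub_self, map_zero]
        rw [← hr, Algebra.algebraMap_eq_smul_one, map_smul, hpi1, smul_zero]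
      · exact pi_of_mem_ne u hu χ hχ n m hn1 (by omega) hmpos (by omega) (Ne.symm hmn) (a m)
          (ha m hmpos (by omega))
    · intro h
      exact absurd (Finset.mem_range.2 hn2) h
  intro n hn
  rcases Nat.eq_zero_or_pos n with h0' | hnpos
  · rw [h0']
    have h2 : ∑ n ∈ Finset.range p, a n = a 0 := by
      rw [Finset.sum_eq_single 0]
      · intro m hm hm0
        exact hpos m (by omega) (Finset.mem_range.1 hm)
      · intro h
        exact absurd (Finset.mem_range.2 (by omega)) h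
    rw [← h2, hsum]
  · exact hpos n hnpos hn

end indep


section main

variable {p : ℕ} [Fact p.Prime] {R : Type u} [CommRing R] (u : R)
  (hu : u * ((p - 1 : ℕ) : R) = 1) (χ : (ZMod p)ˣ →* Rˣ)
  (hχ : ∀ m : (ZMod p)ˣ, m ≠ 1 → IsUnit ((χ m : R) - 1))
  (hχp : ∀ m : (ZMod p)ˣ, ((χ m : Rˣ) : R) - (((m : ZMod p).val : ℕ) : R) ∈
    Ideal.span ({(p : R)} : Set R))
  (A : Type u) [CommRing A] [HopfAlgebra R A]
  (hp : (WithConv.toConv (AlgHom.id R A)) ^ p = 1)

/-- the canonical map from the tensor algebra of `I_1` -/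
noncomputable abbrev LL : TensorAlgebra R (eigenAug R A p χ 1) →ₐ[R] A :=
  TensorAlgebra.lift R (eigenAug R A p χ 1).subtype

/-- the degree `n` part of the tensor algebra -/
noncomputable def Tn (n : ℕ) : Submodule R (TensorAlgebra R (eigenAug R A p χ 1)) :=
  (LinearMap.range (TensorAlgebra.ι R (M := eigenAug R A p χ 1))) ^ n

theorem LL_ι (x : eigenAug R A p χ 1) : LL χ A (TensorAlgebra.ι R x) = x :=
  TensorAlgebra.lift_ι_apply _ x

theorem map_Tn (n : ℕ) :
    Submodule.map (LL χ A).toLinearMap (Tn χ A n) = (eigenAug R A p χ 1) ^ n := by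
  unfold Tn
  rw [Submodule.map_pow]
  congr 1
  rw [← LinearMap.range_comp, TensorAlgebra.ι_comp_lift, Submodule.range_subtype]

theorem LL_mem (n : ℕ) (z : TensorAlgebra R (eigenAug R A p χ 1)) (hz : z ∈ Tn χ A n) :
    LL χ A z ∈ (eigenAug R A p χ 1) ^ n := by
  rw [← map_Tn]
  exact Submodule.mem_map_of_mem hz

theorem pow_le_range (n : ℕ) :
    (eigenAug R A p χ 1) ^ n ≤ LinearMap.range (LL χ A).toLinearMap := by
  rw [← map_Tn]
  exact LinearMap.map_le_range

include hu hχ hχp hp in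
theorem LL_surjective : Function.Surjective (LL χ A) := by
  have hp2 : 2 ≤ p := (Fact.out : p.Prime).two_le
  obtain ⟨-, hsup, -⟩ := Groth.Agent.S18468.result p R u hu χ hχ A hp
  have hI : ∀ i : Fin (p - 1), eigenAug R A p χ (i : ℕ) ≤ LinearMap.range (LL χ A).toLinearMap := by
    intro i
    rcases Nat.eq_zero_or_pos (i : ℕ) with h0 | hpos
    · have e := eigenAug_add_period (A := A) χ 0
      rw [zero_add] at e
      rw [h0, ← e, ← pow_eigenAug_eq u hu χ hχ hχp hp (p - 1) (by omega) le_rfl]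
      exact pow_le_range χ A _
    · rw [← pow_eigenAug_eq u hu χ hχ hχp hp (i : ℕ) hpos (by omega)]
      exact pow_le_range χ A _
  have hker : LinearMap.ker (Bialgebra.counitAlgHom R A).toLinearMap ≤
      LinearMap.range (LL χ A).toLinearMap := by
    rw [← hsup]
    exact iSup_le hI
  intro a
  have h1 : a - algebraMap R A (Coalgebra.counit (R := R) a) ∈
      LinearMap.ker (Bialgebra.counitAlgHom R A).toLinearMap := by
    rw [LinearMap.mem_ker]
    change Bialgebra.counitAlgHom R A _ = 0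
    rw [map_sub, AlgHom.commutes]
    simp
  obtain ⟨z, hz⟩ := hker h1
  refine ⟨z + algebraMap R _ (Coalgebra.counit (R := R) a), ?_⟩
  rw [map_add, AlgHom.commutes]
  change (LL χ A) z = _ at hz
  rw [hz, sub_add_cancel]

end main


section inj

variable {p : ℕ} [Fact p.Prime] {R : Type u} [CommRing R] (u : R)
  (hu : u * ((p - 1 : ℕ) : R) = 1) (χ : (ZMod p)ˣ →* Rˣ)
  (hχ : ∀ m : (ZMod p)ˣ, m ≠ 1 → IsUnit ((χ m : R) - 1))
  (hχp : ∀ m : (ZMod p)ˣ, ((χ m : Rˣ) : R) - (((m : ZMod p).val : ℕ) : R) ∈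
    Ideal.span ({(p : R)} : Set R))
  (A : Type u) [CommRing A] [HopfAlgebra R A] [Module.Finite R A] [Module.Projective R A]
  (hp : (WithConv.toConv (AlgHom.id R A)) ^ p = 1)
  (hrk : ∀ q : PrimeSpectrum R, Module.rankAtStalk A q = p)

theorem injOn_Tn_zero (z : TensorAlgebra R (eigenAug R A p χ 1)) (hz : z ∈ Tn χ A 0)
    (h : LL χ A z = 0) : z = 0 := by
  unfold Tn at hz
  rw [pow_zero] at hz
  obtain ⟨r, rfl⟩ := Submodule.mem_one.1 hz
  rw [AlgHom.commutes] at h
  have h1 := congrArg (Bialgebra.counitAlgHom R A) h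
  rw [AlgHom.commutes, map_zero] at h1
  have h2 : r = 0 := h1
  rw [h2, map_zero]

theorem injOn_Tn_one (z : TensorAlgebra R (eigenAug R A p χ 1)) (hz : z ∈ Tn χ A 1)
    (h : LL χ A z = 0) : z = 0 := by
  unfold Tn at hz
  rw [pow_one] at hz
  obtain ⟨x, rfl⟩ := hz
  rw [LL_ι] at h
  have : x = 0 := Subtype.ext h
  rw [this, map_zero]

include hu hχ hχp hp hrk in
theorem injOn_Tn_succ (n : ℕ) (hn1 : 1 ≤ n) (hn2 : n + 1 ≤ p - 1)
    (IH : ∀ z ∈ Tn χ A n, LL χ A z = 0 → z = 0) :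
    ∀ z ∈ Tn χ A (n + 1), LL χ A z = 0 → z = 0 := by
  haveI := finite_eigenAug u hu χ hp (A := A) 1
  haveI := projective_eigenAug u hu χ hp (A := A) 1
  haveI := finite_eigenAug u hu χ hp (A := A) n
  haveI := projective_eigenAug u hu χ hp (A := A) n
  haveI := finite_eigenAug u hu χ hp (A := A) (n + 1)
  haveI := projective_eigenAug u hu χ hp (A := A) (n + 1)
  have hIn : (eigenAug R A p χ 1) ^ n = eigenAug R A p χ n :=
    pow_eigenAug_eq u hu χ hχ hχp hp n hn1 (by omega)
  have hIn1 : (eigenAug R A p χ 1) ^ (n + 1) = eigenAug R A p χ (n + 1) :=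
    pow_eigenAug_eq u hu χ hχ hχp hp (n + 1) (by omega) hn2
  -- the restriction of `LL` to degree `n`
  let Ln : ↥(Tn χ A n) →ₗ[R] ↥(eigenAug R A p χ n) :=
    LinearMap.codRestrict _ ((LL χ A).toLinearMap ∘ₗ (Tn χ A n).subtype) (fun z => by
      rw [← hIn]
      exact LL_mem χ A n z z.2)
  have hLn : Function.Injective Ln := by
    rw [← LinearMap.ker_eq_bot, LinearMap.ker_eq_bot']
    intro z hz
    apply Subtype.ext
    apply IH z z.2
    exact congrArg Subtype.val hz
  have hlam : Function.Injective (LinearMap.lTensor (eigenAug R A p χ 1) Ln) :=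
    Module.Flat.lTensor_preserves_injective_linearMap Ln hLn
  -- the multiplication map `I_1 ⊗ I_n → A`
  let mm : (eigenAug R A p χ 1) ⊗[R] (eigenAug R A p χ n) →ₗ[R] A :=
    TensorProduct.lift ((LinearMap.mul R A).domRestrict₁₂ (eigenAug R A p χ 1) (eigenAug R A p χ n))
  have hmm : ∀ (x : eigenAug R A p χ 1) (y : eigenAug R A p χ n),
      mm (x ⊗ₜ[R] y) = (x : A) * (y : A) := fun x y => rfl
  have hmem : ∀ w, mm w ∈ eigenAug R A p χ (n + 1) := by
    intro w
    induction w using TensorProduct.induction_on with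
    | zero => rw [map_zero]; exact Submodule.zero_mem _
    | add x y hx hy => rw [map_add]; exact Submodule.add_mem _ hx hy
    | tmul x y =>
      rw [hmm, add_comm]
      exact mul_mem_eigenAug χ x.2 y.2
  let mm' : (eigenAug R A p χ 1) ⊗[R] (eigenAug R A p χ n) →ₗ[R] ↥(eigenAug R A p χ (n + 1)) :=
    LinearMap.codRestrict _ mm hmem
  have hsurj : Function.Surjective mm' := by
    intro a
    have ha : (a : A) ∈ (eigenAug R A p χ 1) * (eigenAug R A p χ n) := by
      rw [← hIn, ← pow_succ', hIn1]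
      exact a.2
    have key : ∀ b ∈ (eigenAug R A p χ 1) * (eigenAug R A p χ n), ∃ w, mm w = b := by
      intro b hb
      refine Submodule.mul_induction_on hb ?_ ?_
      · intro x hx y hy
        exact ⟨(⟨x, hx⟩ : eigenAug R A p χ 1) ⊗ₜ[R] (⟨y, hy⟩ : eigenAug R A p χ n), rfl⟩
      · intro x y hx hy
        obtain ⟨w, rfl⟩ := hx
        obtain ⟨w', rfl⟩ := hy
        exact ⟨w + w', map_add _ _ _⟩
    obtain ⟨w, hw⟩ := key _ ha
    exact ⟨w, Subtype.ext hw⟩
  have hbij : Function.Bijective mm' := by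
    refine Module.bijective_of_surjective_of_rankAtStalk_eq (R := R)
      (M := (eigenAug R A p χ 1) ⊗[R] (eigenAug R A p χ n)) (N := ↥(eigenAug R A p χ (n + 1)))
      (φ := mm') hsurj (fun m hm => ?_)
    rw [Module.rankAtStalk_tensorProduct, Pi.mul_apply,
      rankAtStalk_eigenAug_nat u hu χ hχ hχp hp hrk 1, rankAtStalk_eigenAug_nat u hu χ hχ hχp hp hrk n,
      rankAtStalk_eigenAug_nat u hu χ hχ hχp hp hrk (n + 1)]
  have hmminj : Function.Injective mm := by
    intro w w' h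
    apply hbij.1
    exact Subtype.ext h
  -- the multiplication map `I_1 ⊗ T_n → T`
  let mu : (eigenAug R A p χ 1) ⊗[R] ↥(Tn χ A n) →ₗ[R] TensorAlgebra R (eigenAug R A p χ 1) :=
    TensorProduct.lift (((LinearMap.mul R (TensorAlgebra R (eigenAug R A p χ 1))).comp
      (TensorAlgebra.ι R)).compl₂ (Tn χ A n).subtype)
  have hmu : ∀ (x : eigenAug R A p χ 1) (t : ↥(Tn χ A n)),
      mu (x ⊗ₜ[R] t) = TensorAlgebra.ι R x * (t : TensorAlgebra R (eigenAug R A p χ 1)) :=
    fun x t => rfl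
  have hcomm : ∀ w, LL χ A (mu w) = mm (LinearMap.lTensor (eigenAug R A p χ 1) Ln w) := by
    intro w
    induction w using TensorProduct.induction_on with
    | zero => simp
    | add x y hx hy => rw [map_add, map_add, map_add, map_add, hx, hy]
    | tmul x t =>
      rw [hmu, map_mul, LL_ι, LinearMap.lTensor_tmul, hmm]
      rfl
  have hrange : Tn χ A (n + 1) ≤ LinearMap.range mu := by
    unfold Tn
    rw [pow_succ']
    rw [Submodule.mul_le]
    rintro a ⟨x, rfl⟩ b hb
    exact ⟨x ⊗ₜ[R] ⟨b, hb⟩, rfl⟩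
  intro z hz h
  obtain ⟨w, rfl⟩ := hrange hz
  rw [hcomm] at h
  have h1 : LinearMap.lTensor (eigenAug R A p χ 1) Ln w = 0 := hmminj (by rw [h, map_zero])
  have h2 : w = 0 := hlam (by rw [h1, map_zero])
  rw [h2, map_zero]

include hu hχ hχp hp hrk in
theorem injOn_Tn (n : ℕ) (hn : n ≤ p - 1) :
    ∀ z ∈ Tn χ A n, LL χ A z = 0 → z = 0 := by
  induction n with
  | zero => exact fun z hz h => injOn_Tn_zero χ A z hz h
  | succ n ih =>
    rcases Nat.eq_zero_or_pos n with h0 | hpos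
    · rw [h0, zero_add]
      exact fun z hz h => injOn_Tn_one χ A z hz h
    · exact injOn_Tn_succ u hu χ hχ hχp A hp hrk n hpos hn (ih (by omega))

end inj


section kernel

variable {p : ℕ} [Fact p.Prime] {R : Type u} [CommRing R] (u : R)
  (hu : u * ((p - 1 : ℕ) : R) = 1) (χ : (ZMod p)ˣ →* Rˣ)
  (hχ : ∀ m : (ZMod p)ˣ, m ≠ 1 → IsUnit ((χ m : R) - 1))
  (hχp : ∀ m : (ZMod p)ˣ, ((χ m : Rˣ) : R) - (((m : ZMod p).val : ℕ) : R) ∈
    Ideal.span ({(p : R)} : Set R))
  (A : Type u) [CommRing A] [HopfAlgebra R A] [Coalgebra.IsCocomm R A]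
  [Module.Finite R A] [Module.Projective R A]
  (hp : (WithConv.toConv (AlgHom.id R A)) ^ p = 1)
  (hrk : ∀ q : PrimeSpectrum R, Module.rankAtStalk A q = p)

/-- the relations `ι(x_1)⋯ι(x_p) - ι(x_1⋯x_p)` -/
def relSet : Set (TensorAlgebra R (eigenAug R A p χ 1)) :=
  {x | ∃ (f : Fin p → eigenAug R A p χ 1) (g : eigenAug R A p χ 1),
    (g : A) = ∏ i, (f i : A) ∧
    x = (List.ofFn fun i => TensorAlgebra.ι R (f i)).prod - TensorAlgebra.ι R g}

theorem span_le_ker : Ideal.span (relSet χ A) ≤ RingHom.ker (LL χ A) := by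
  rw [Ideal.span_le]
  rintro x ⟨f, g, hg, rfl⟩
  rw [SetLike.mem_coe, RingHom.mem_ker, map_sub, LL_ι, map_list_prod, List.map_ofFn, List.prod_ofFn,
    hg, sub_eq_zero]
  refine Finset.prod_congr rfl fun i _ => ?_
  exact LL_ι χ A (f i)

/-- the relations ideal, as an `R`-submodule -/
noncomputable def JJ : Submodule R (TensorAlgebra R (eigenAug R A p χ 1)) :=
  (Ideal.span (relSet χ A)).restrictScalars R

theorem mem_JJ (z : TensorAlgebra R (eigenAug R A p χ 1)) :
    z ∈ JJ χ A ↔ z ∈ Ideal.span (relSet χ A) := Iff.rfl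

include hu hp hrk hχ hχp in
theorem JJ_mul_le (N : Submodule R (TensorAlgebra R (eigenAug R A p χ 1))) :
    JJ χ A * N ≤ JJ χ A := by
  haveI := finite_eigenAug u hu χ hp (A := A) 1
  haveI := projective_eigenAug u hu χ hp (A := A) 1
  rw [Submodule.mul_le]
  intro a ha b _
  rw [mem_JJ] at ha ⊢
  rw [tensorAlgebra_mul_comm (rankAtStalk_eigenAug_nat u hu χ hχ hχp hp hrk 1) a b]
  exact Ideal.mul_mem_left _ b ha

theorem Tn_p_le : Tn χ A p ≤ JJ χ A ⊔ Tn χ A 1 := by
  unfold Tn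
  rw [Submodule.pow_eq_span_pow_set, Submodule.span_le]
  intro x hx
  obtain ⟨f, rfl⟩ := Set.mem_pow.1 hx
  have hf : ∀ i : Fin p, ∃ m : eigenAug R A p χ 1,
      TensorAlgebra.ι R m = (f i : TensorAlgebra R (eigenAug R A p χ 1)) := fun i => (f i).2
  choose m hm using hf
  have h1 : (List.ofFn fun i => (f i : TensorAlgebra R (eigenAug R A p χ 1))) =
      List.ofFn fun i => TensorAlgebra.ι R (m i) := by
    congr 1
    funext i
    exact (hm i).symm
  rw [h1]
  set g : eigenAug R A p χ 1 := ⟨∏ i, (m i : A), prod_mem_eigenAug χ m⟩ with hg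
  have h2 : (List.ofFn fun i => TensorAlgebra.ι R (m i)).prod =
      ((List.ofFn fun i => TensorAlgebra.ι R (m i)).prod - TensorAlgebra.ι R g) +
        TensorAlgebra.ι R g := by
    rw [sub_add_cancel]
  rw [SetLike.mem_coe, h2]
  apply Submodule.add_mem
  · apply Submodule.mem_sup_left
    rw [mem_JJ]
    exact Ideal.subset_span ⟨m, g, rfl, rfl⟩
  · apply Submodule.mem_sup_right
    rw [pow_one]
    exact ⟨g, rfl⟩

include hu hp hrk hχ hχp in
theorem Tn_le (n : ℕ) : Tn χ A n ≤ JJ χ A ⊔ ⨆ k ∈ Finset.range p, Tn χ A k := by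
  have hp2 : 2 ≤ p := (Fact.out : p.Prime).two_le
  induction n using Nat.strong_induction_on with
  | _ n ih =>
    rcases lt_or_ge n p with hlt | hge
    · exact le_sup_of_le_right (le_biSup (fun k => Tn χ A k) (Finset.mem_range.2 hlt))
    · have e : Tn χ A n = Tn χ A p * Tn χ A (n - p) := by
        unfold Tn
        rw [← pow_add, Nat.add_sub_cancel' hge]
      rw [e]
      calc Tn χ A p * Tn χ A (n - p) ≤ (JJ χ A ⊔ Tn χ A 1) * Tn χ A (n - p) :=
            mul_le_mul' (Tn_p_le χ A) le_rfl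
        _ = JJ χ A * Tn χ A (n - p) ⊔ Tn χ A 1 * Tn χ A (n - p) := Submodule.sup_mul _ _ _
        _ ≤ JJ χ A ⊔ ⨆ k ∈ Finset.range p, Tn χ A k := by
          apply sup_le
          · exact le_sup_of_le_left (JJ_mul_le u hu χ hχ hχp A hp hrk _)
          · have e2 : Tn χ A 1 * Tn χ A (n - p) = Tn χ A (1 + (n - p)) := by
              unfold Tn
              rw [pow_add]
            rw [e2]
            exact ih _ (by omega)

theorem iSup_Tn : (⨆ n, Tn χ A n) = ⊤ := by
  rw [eq_top_iff]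
  intro z hz
  clear hz
  induction z using TensorAlgebra.induction with
  | algebraMap r =>
    apply Submodule.mem_iSup_of_mem 0
    unfold Tn
    rw [pow_zero]
    exact Submodule.mem_one.2 ⟨r, rfl⟩
  | ι x =>
    apply Submodule.mem_iSup_of_mem 1
    unfold Tn
    rw [pow_one]
    exact ⟨x, rfl⟩
  | mul a b ha hb =>
    have h1 : a * b ∈ (⨆ n, Tn χ A n) * (⨆ n, Tn χ A n) := Submodule.mul_mem_mul ha hb
    have h2 : (⨆ n, Tn χ A n) * (⨆ n, Tn χ A n) ≤ ⨆ n, Tn χ A n := by
      rw [Submodule.iSup_mul]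
      apply iSup_le
      intro i
      rw [Submodule.mul_iSup]
      apply iSup_le
      intro j
      have e : Tn χ A i * Tn χ A j = Tn χ A (i + j) := by
        unfold Tn
        rw [pow_add]
      rw [e]
      exact le_iSup (fun n => Tn χ A n) (i + j)
    exact h2 h1
  | add a b ha hb => exact Submodule.add_mem _ ha hb

include hu hp hrk hχ hχp in
theorem ker_le_span : RingHom.ker (LL χ A) ≤ Ideal.span (relSet χ A) := by
  have hp2 : 2 ≤ p := (Fact.out : p.Prime).two_le
  intro z hz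
  rw [RingHom.mem_ker] at hz
  have hW : z ∈ JJ χ A ⊔ ⨆ k ∈ Finset.range p, Tn χ A k := by
    have h1 : z ∈ ⨆ n, Tn χ A n := by rw [iSup_Tn]; trivial
    have h2 : (⨆ n, Tn χ A n) ≤ JJ χ A ⊔ ⨆ k ∈ Finset.range p, Tn χ A k :=
      iSup_le (Tn_le u hu χ hχ hχp A hp hrk)
    exact h2 h1
  obtain ⟨j, hj, t, ht, rfl⟩ := Submodule.mem_sup.1 hW
  obtain ⟨μ, hμ⟩ := (Submodule.mem_iSup_finset_iff_exists_sum _ _).1 ht
  have hj0 : LL χ A j = 0 := span_le_ker χ A ((mem_JJ χ A j).1 hj)
  rw [map_add, hj0, zero_add, ← hμ, map_sum] at hz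
  have hzero := eq_zero_of_sum_eq_zero u hu χ hχ (fun n => LL χ A (μ n : _))
    (by
      have := LL_mem χ A 0 _ (μ 0).2
      rwa [pow_zero] at this)
    (fun n hn1 hn2 => by
      have := LL_mem χ A n _ (μ n).2
      rwa [pow_eigenAug_eq u hu χ hχ hχp hp n hn1 hn2] at this)
    hz
  have hμ0 : ∀ n ∈ Finset.range p, (μ n : TensorAlgebra R (eigenAug R A p χ 1)) = 0 := by
    intro n hn
    rw [Finset.mem_range] at hn
    exact injOn_Tn u hu χ hχ hχp A hp hrk n (by omega) _ (μ n).2 (hzero n hn)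
  rw [← hμ, Finset.sum_eq_zero hμ0, add_zero]
  exact (mem_JJ χ A j).1 hj

end kernel

end Groth.Agent.R2.H90.OTTensor
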