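import Mathlib
import Groth.Prelude.Def_W4c5spincurvestfNode

set_option autoImplicit false

open SpinCurv LaurentPolynomial

namespace Groth.Agent.R2.H90.PolyNode

universe u
variable (R : Type u) [CommRing R] (c : R)

/-- The defining relation `x * y = c` in `R[x, y]/(xy - c)`. -/
theorem x_mul_y : PolyNodeRing.x R c * PolyNodeRing.y R c = algebraMap R (PolyNodeRing R c) c := by
  have h : (Ideal.Quotient.mk (Ideal.span {(MvPolynomial.X 0 * MvPolynomial.X 1 -
      MvPolynomial.C c : MvPolynomial (Fin 2) R)}))
      (MvPolynomial.X 0 * MvPolynomial.X 1 - MvPolynomial.C c) = 0 :=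
    Ideal.Quotient.eq_zero_iff_mem.mpr (Ideal.subset_span rfl)
  rw [map_sub, sub_eq_zero, map_mul] at h
  exact h

theorem y_mul_x : PolyNodeRing.y R c * PolyNodeRing.x R c = algebraMap R (PolyNodeRing R c) c := by
  rw [mul_comm, x_mul_y]

theorem aeval_eq_zero_of_mem {B : Type*} [CommRing B] [Algebra R B] (a b : B)
    (h : a * b = algebraMap R B c) (z : MvPolynomial (Fin 2) R)
    (hz : z ∈ Ideal.span {(MvPolynomial.X 0 * MvPolynomial.X 1 -
        MvPolynomial.C c : MvPolynomial (Fin 2) R)}) :
    MvPolynomial.aeval (R := R) ![a, b] z = 0 := by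
  have hle : Ideal.span {(MvPolynomial.X 0 * MvPolynomial.X 1 -
      MvPolynomial.C c : MvPolynomial (Fin 2) R)} ≤
      RingHom.ker (MvPolynomial.aeval (R := R) ![a, b]) := by
    rw [Ideal.span_le]
    rintro _ rfl
    simp [RingHom.mem_ker, h]
  exact RingHom.mem_ker.mp (hle hz)

/-- The algebra map out of `R[x, y]/(xy - c)` determined by `a * b = c`. -/
noncomputable def lift {B : Type*} [CommRing B] [Algebra R B] (a b : B)
    (h : a * b = algebraMap R B c) : PolyNodeRing R c →ₐ[R] B :=
  Ideal.Quotient.liftₐ _ (MvPolynomial.aeval ![a, b]) (aeval_eq_zero_of_mem R c a b h)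

variable {R c}

@[simp] theorem lift_x {B : Type*} [CommRing B] [Algebra R B] (a b : B)
    (h : a * b = algebraMap R B c) : lift R c a b h (PolyNodeRing.x R c) = a := by
  have := AlgHom.congr_fun (Ideal.Quotient.liftₐ_comp (R₁ := R) (Ideal.span
    {(MvPolynomial.X 0 * MvPolynomial.X 1 - MvPolynomial.C c : MvPolynomial (Fin 2) R)})
    (MvPolynomial.aeval (R := R) ![a, b])
    (aeval_eq_zero_of_mem R c a b h)) (MvPolynomial.X 0)
  exact this.trans (by simp)

@[simp] theorem lift_y {B : Type*} [CommRing B] [Algebra R B] (a b : B)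
    (h : a * b = algebraMap R B c) : lift R c a b h (PolyNodeRing.y R c) = b := by
  have := AlgHom.congr_fun (Ideal.Quotient.liftₐ_comp (R₁ := R) (Ideal.span
    {(MvPolynomial.X 0 * MvPolynomial.X 1 - MvPolynomial.C c : MvPolynomial (Fin 2) R)})
    (MvPolynomial.aeval (R := R) ![a, b])
    (aeval_eq_zero_of_mem R c a b h)) (MvPolynomial.X 1)
  exact this.trans (by simp)

theorem algHom_ext {B : Type*} [CommRing B] [Algebra R B] (f g : PolyNodeRing R c →ₐ[R] B)
    (hx : f (PolyNodeRing.x R c) = g (PolyNodeRing.x R c))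
    (hy : f (PolyNodeRing.y R c) = g (PolyNodeRing.y R c)) : f = g := by
  apply Ideal.Quotient.algHom_ext
  apply MvPolynomial.algHom_ext
  intro i
  fin_cases i
  · exact hx
  · exact hy

variable (R c)

/-- The monomials `x ^ j` (`j ≥ 0`) and `y ^ (-j)` (`j < 0`). -/
noncomputable def mono (j : ℤ) : PolyNodeRing R c :=
  PolyNodeRing.x R c ^ j.toNat * PolyNodeRing.y R c ^ (-j).toNat

theorem mono_zero : mono R c 0 = 1 := by simp [mono]

theorem mono_of_nonneg {j : ℤ} (hj : 0 ≤ j) : mono R c j = PolyNodeRing.x R c ^ j.toNat := by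
  have : (-j).toNat = 0 := by omega
  rw [mono, this, pow_zero, mul_one]

theorem mono_of_nonpos {j : ℤ} (hj : j ≤ 0) : mono R c j = PolyNodeRing.y R c ^ (-j).toNat := by
  have : j.toNat = 0 := by omega
  rw [mono, this, pow_zero, one_mul]

/-- Image of a monomial under an algebra map with `x ↦ T a`-like values. -/
theorem map_mono {B : Type*} [CommRing B] [Algebra R B] (f : PolyNodeRing R c →ₐ[R] B) (j : ℤ) :
    f (mono R c j) = f (PolyNodeRing.x R c) ^ j.toNat * f (PolyNodeRing.y R c) ^ (-j).toNat := by
  rw [mono, map_mul, map_pow, map_pow]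

theorem C_mul_T_pow (a : R) (m : ℤ) (k : ℕ) :
    (C a * T m : LaurentPolynomial R) ^ k = C (a ^ k) * T (k * m) := by
  rw [mul_pow, T_pow, map_pow]

/-- `x ↦ T`, `y ↦ c T⁻¹`. -/
noncomputable def phi1 : PolyNodeRing R c →ₐ[R] LaurentPolynomial R :=
  lift R c (T 1) (C c * T (-1)) (by
    rw [mul_comm, mul_assoc, ← T_add, C_eq_algebraMap]
    norm_num)

/-- `x ↦ c T⁻¹`, `y ↦ T`. -/
noncomputable def phi2 : PolyNodeRing R c →ₐ[R] LaurentPolynomial R :=
  lift R c (C c * T (-1)) (T 1) (by
    rw [mul_assoc, ← T_add, C_eq_algebraMap]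
    norm_num)

theorem phi1_mono (j : ℤ) : phi1 R c (mono R c j) = C (c ^ (-j).toNat) * T j := by
  rw [map_mono, phi1, lift_x, lift_y, C_mul_T_pow, T_pow, mul_left_comm, ← T_add]
  congr 2
  omega

theorem phi2_mono (j : ℤ) : phi2 R c (mono R c j) = C (c ^ j.toNat) * T (-j) := by
  rw [map_mono, phi2, lift_x, lift_y, C_mul_T_pow, T_pow, mul_assoc, ← T_add]
  congr 2
  omega

theorem coeff_C_mul_T (a : R) (n j : ℤ) :
    (C a * T n : LaurentPolynomial R).coeff j = if n = j then a else 0 := by
  rw [← single_eq_C_mul_T, AddMonoidAlgebra.coeff_single, Finsupp.single_apply]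

/-- The `j`-th coordinate functional. -/
noncomputable def coord (j : ℤ) : PolyNodeRing R c →ₗ[R] R :=
  if 0 ≤ j then
    (Finsupp.lapply j).comp ((AddMonoidAlgebra.coeffLinearEquiv R).toLinearMap.comp
      (phi1 R c).toLinearMap)
  else
    (Finsupp.lapply (-j)).comp ((AddMonoidAlgebra.coeffLinearEquiv R).toLinearMap.comp
      (phi2 R c).toLinearMap)

theorem coord_of_nonneg {j : ℤ} (hj : 0 ≤ j) (g : PolyNodeRing R c) :
    coord R c j g = (phi1 R c g).coeff j := by
  simp [coord, hj]

theorem coord_of_neg {j : ℤ} (hj : j < 0) (g : PolyNodeRing R c) :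
    coord R c j g = (phi2 R c g).coeff (-j) := by
  simp [coord, not_le.mpr hj]

theorem coord_mono (i j : ℤ) : coord R c j (mono R c i) = if i = j then 1 else 0 := by
  by_cases hj : 0 ≤ j
  · rw [coord_of_nonneg R c hj, phi1_mono, coeff_C_mul_T]
    split_ifs with h
    · subst h
      have : (-i).toNat = 0 := by omega
      rw [this, pow_zero]
    · rfl
  · rw [not_le] at hj
    rw [coord_of_neg R c hj, phi2_mono, coeff_C_mul_T]
    by_cases h : i = j
    · subst h
      have : i.toNat = 0 := by omega
      rw [if_pos rfl, if_pos rfl, this, pow_zero]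
    · rw [if_neg h, if_neg (by omega)]

theorem x_mul_mono (j : ℤ) :
    PolyNodeRing.x R c * mono R c j = (if 0 ≤ j then 1 else c) • mono R c (j + 1) := by
  by_cases hj : 0 ≤ j
  · rw [if_pos hj, one_smul, mono_of_nonneg R c hj, mono_of_nonneg R c (by omega : 0 ≤ j + 1),
      ← pow_succ']
    congr 1
    omega
  · rw [if_neg hj, mono_of_nonpos R c (by omega : j ≤ 0), mono_of_nonpos R c (by omega : j + 1 ≤ 0)]
    obtain ⟨k, hk⟩ : ∃ k : ℕ, (-j).toNat = k + 1 := ⟨(-j).toNat - 1, by omega⟩
    have hk' : (-(j + 1)).toNat = k := by omega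
    rw [hk, hk', pow_succ', ← mul_assoc, x_mul_y]
    exact (Algebra.smul_def _ _).symm

theorem y_mul_mono (j : ℤ) :
    PolyNodeRing.y R c * mono R c j = (if j ≤ 0 then 1 else c) • mono R c (j - 1) := by
  by_cases hj : j ≤ 0
  · rw [if_pos hj, one_smul, mono_of_nonpos R c hj, mono_of_nonpos R c (by omega : j - 1 ≤ 0),
      ← pow_succ']
    congr 1
    omega
  · rw [if_neg hj, mono_of_nonneg R c (by omega : 0 ≤ j), mono_of_nonneg R c (by omega : 0 ≤ j - 1)]
    obtain ⟨k, hk⟩ : ∃ k : ℕ, j.toNat = k + 1 := ⟨j.toNat - 1, by omega⟩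
    have hk' : (j - 1).toNat = k := by omega
    rw [hk, hk', pow_succ', ← mul_assoc, y_mul_x]
    exact (Algebra.smul_def _ _).symm

theorem span_mono : Submodule.span R (Set.range (mono R c)) = ⊤ := by
  rw [eq_top_iff]
  rintro g -
  obtain ⟨f, rfl⟩ := Ideal.Quotient.mk_surjective g
  induction f using MvPolynomial.induction_on with
  | C a =>
    have : (Ideal.Quotient.mk _ (MvPolynomial.C a) : PolyNodeRing R c) = a • mono R c 0 := by
      rw [mono_zero]
      exact ((Algebra.smul_def a (1 : PolyNodeRing R c)).trans (mul_one _)).symm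
    rw [this]
    exact Submodule.smul_mem _ _ (Submodule.subset_span ⟨0, rfl⟩)
  | add f g hf hg =>
    rw [map_add]; exact Submodule.add_mem _ hf hg
  | mul_X f i hf =>
    rw [map_mul]
    -- the span is stable under multiplication by `x` and `y`
    have key : ∀ (v : PolyNodeRing R c), (∀ j, v * mono R c j ∈
        Submodule.span R (Set.range (mono R c))) → ∀ g ∈ Submodule.span R (Set.range (mono R c)),
        g * v ∈ Submodule.span R (Set.range (mono R c)) := by
      intro v hv g hg
      induction hg using Submodule.span_induction with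
      | mem z hz =>
        obtain ⟨j, rfl⟩ := hz
        rw [mul_comm (mono R c j) v]; exact hv j
      | zero => rw [zero_mul]; exact Submodule.zero_mem _
      | add a b _ _ ha hb => rw [add_mul]; exact Submodule.add_mem _ ha hb
      | smul r a _ ha => rw [smul_mul_assoc]; exact Submodule.smul_mem _ _ ha
    fin_cases i
    · refine key _ (fun j => ?_) _ hf
      change PolyNodeRing.x R c * mono R c j ∈ _
      rw [x_mul_mono]
      exact Submodule.smul_mem _ _ (Submodule.subset_span ⟨_, rfl⟩)
    · refine key _ (fun j => ?_) _ hf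
      change PolyNodeRing.y R c * mono R c j ∈ _
      rw [y_mul_mono]
      exact Submodule.smul_mem _ _ (Submodule.subset_span ⟨_, rfl⟩)

theorem linearIndependent_mono : LinearIndependent R (mono R c) := by
  rw [linearIndependent_iff]
  intro l hl
  ext j
  have := congrArg (coord R c j) hl
  rw [Finsupp.linearCombination_apply, map_finsuppSum, map_zero] at this
  simp only [map_smul, coord_mono, smul_eq_mul, mul_ite, mul_one, mul_zero] at this
  rw [Finsupp.sum_ite_eq'] at this
  simpa using this

/-- The monomial basis of `R[x, y]/(xy - c)`. -/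
noncomputable def basis : Module.Basis ℤ R (PolyNodeRing R c) :=
  Module.Basis.mk (linearIndependent_mono R c) (span_mono R c).ge

@[simp] theorem basis_apply (j : ℤ) : basis R c j = mono R c j := by
  simp [basis]

theorem basis_repr_apply (g : PolyNodeRing R c) (j : ℤ) :
    (basis R c).repr g j = coord R c j g := by
  have h : (basis R c).coord j = coord R c j := by
    apply (basis R c).ext
    intro i
    rw [Module.Basis.coord_apply, Module.Basis.repr_self, basis_apply, coord_mono,
      Finsupp.single_apply]
  rw [← h, Module.Basis.coord_apply]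

theorem ext_coord {g h : PolyNodeRing R c} (H : ∀ j, coord R c j g = coord R c j h) : g = h := by
  apply (basis R c).ext_elem
  intro j
  rw [basis_repr_apply, basis_repr_apply, H]

/-- Two linear maps agreeing on all monomials agree. -/
theorem lhom_ext {M : Type*} [AddCommMonoid M] [Module R M] {f g : PolyNodeRing R c →ₗ[R] M}
    (H : ∀ j, f (mono R c j) = g (mono R c j)) : f = g := by
  apply (basis R c).ext
  intro j
  rw [basis_apply, H]

theorem coord_y_mul (j : ℤ) (g : PolyNodeRing R c) :
    coord R c j (PolyNodeRing.y R c * g) = (if j + 1 ≤ 0 then 1 else c) * coord R c (j + 1) g := by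
  have h : (coord R c j).comp (LinearMap.mulLeft R (PolyNodeRing.y R c)) =
      (if j + 1 ≤ 0 then 1 else c) • coord R c (j + 1) := by
    apply lhom_ext
    intro i
    rw [LinearMap.comp_apply, LinearMap.mulLeft_apply, y_mul_mono, map_smul, coord_mono,
      LinearMap.smul_apply, coord_mono]
    by_cases hi : i = j + 1
    · subst hi
      simp
    · have hi' : ¬ (i - 1 = j) := by omega
      simp [hi, hi']
  have := LinearMap.congr_fun h g
  simp only [LinearMap.comp_apply, LinearMap.mulLeft_apply, LinearMap.smul_apply,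
    smul_eq_mul] at this
  exact this

theorem coord_x_mul (j : ℤ) (g : PolyNodeRing R c) :
    coord R c j (PolyNodeRing.x R c * g) = (if 0 ≤ j - 1 then 1 else c) * coord R c (j - 1) g := by
  have h : (coord R c j).comp (LinearMap.mulLeft R (PolyNodeRing.x R c)) =
      (if 0 ≤ j - 1 then 1 else c) • coord R c (j - 1) := by
    apply lhom_ext
    intro i
    rw [LinearMap.comp_apply, LinearMap.mulLeft_apply, x_mul_mono, map_smul, coord_mono,
      LinearMap.smul_apply, coord_mono]
    by_cases hi : i = j - 1
    · subst hi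
      simp
    · have hi' : ¬ (i + 1 = j) := by omega
      simp [hi, hi']
  have := LinearMap.congr_fun h g
  simp only [LinearMap.comp_apply, LinearMap.mulLeft_apply, LinearMap.smul_apply,
    smul_eq_mul] at this
  exact this

theorem phi1_coeff (g : PolyNodeRing R c) (j : ℤ) :
    (phi1 R c g).coeff j = c ^ (-j).toNat * coord R c j g := by
  have h : (Finsupp.lapply j).comp ((AddMonoidAlgebra.coeffLinearEquiv R).toLinearMap.comp
      (phi1 R c).toLinearMap) = (c ^ (-j).toNat) • coord R c j := by
    apply lhom_ext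
    intro i
    simp only [LinearMap.comp_apply, AlgHom.toLinearMap_apply, LinearEquiv.coe_coe,
      LinearMap.smul_apply, coord_mono, phi1_mono]
    change (C (c ^ (-i).toNat) * T i : LaurentPolynomial R).coeff j = _
    rw [coeff_C_mul_T]
    by_cases hi : i = j
    · subst hi; simp
    · simp [hi]
  have := LinearMap.congr_fun h g
  simpa using this

/-- `x ↦ T⁻¹`, `y ↦ c T`. -/
noncomputable def phiInv : PolyNodeRing R c →ₐ[R] LaurentPolynomial R :=
  (LaurentPolynomial.invert (R := R)).toAlgHom.comp (phi1 R c)

theorem phiInv_x : phiInv R c (PolyNodeRing.x R c) = T (-1) := by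
  simp [phiInv, phi1]

theorem phiInv_y : phiInv R c (PolyNodeRing.y R c) = C c * T 1 := by
  simp [phiInv, phi1]

theorem phiInv_coeff (g : PolyNodeRing R c) (j : ℤ) :
    (phiInv R c g).coeff j = c ^ j.toNat * coord R c (-j) g := by
  change (invert (phi1 R c g)).coeff j = _
  rw [invert_apply, phi1_coeff, neg_neg]

theorem coeff_T_mul (n j : ℤ) (F : LaurentPolynomial R) :
    (T n * F).coeff j = F.coeff (j - n) := by
  rw [T, AddMonoidAlgebra.coeff_single_mul_apply, one_mul]
  congr 1
  ring

theorem eq_phi1 (f : PolyNodeRing R c →ₐ[R] LaurentPolynomial R)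
    (hx : f (PolyNodeRing.x R c) = T 1) (hy : f (PolyNodeRing.y R c) = C c * T (-1)) :
    f = phi1 R c :=
  algHom_ext _ _ (by rw [hx, phi1, lift_x]) (by rw [hy, phi1, lift_y])

theorem eq_phiInv (f : PolyNodeRing R c →ₐ[R] LaurentPolynomial R)
    (hx : f (PolyNodeRing.x R c) = T (-1)) (hy : f (PolyNodeRing.y R c) = C c * T 1) :
    f = phiInv R c :=
  algHom_ext _ _ (by rw [hx, phiInv_x]) (by rw [hy, phiInv_y])

section twist

variable (p q : R) (n : ℤ)

/-- The generating family of the module of sections of `O(n)`. -/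
noncomputable def secGen (j : ℤ) : PolyNodeRing R q × PolyNodeRing R p :=
  (p ^ (j - n).toNat • mono R q j, q ^ (-j).toNat • mono R p (n - j))

/-- The parametrisation of sections of `O(n)`. -/
noncomputable def secMap : (ℤ →₀ R) →ₗ[R] PolyNodeRing R q × PolyNodeRing R p :=
  Finsupp.linearCombination R (secGen R p q n)

theorem coord_fst_secMap (h : ℤ →₀ R) (j : ℤ) :
    coord R q j (secMap R p q n h).1 = p ^ (j - n).toNat * h j := by
  have H : (coord R q j).comp ((LinearMap.fst R _ _).comp (secMap R p q n)) =
      (p ^ (j - n).toNat) • Finsupp.lapply j := by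
    apply Finsupp.lhom_ext
    intro i a
    simp only [LinearMap.comp_apply, secMap, Finsupp.linearCombination_single, secGen,
      LinearMap.fst_apply, map_smul, coord_mono, LinearMap.smul_apply,
      Finsupp.lapply_apply, Finsupp.single_apply, smul_eq_mul]
    by_cases hi : i = j
    · subst hi; simp; ring
    · simp [hi]
  have := LinearMap.congr_fun H h
  simpa using this

theorem coord_snd_secMap (h : ℤ →₀ R) (j : ℤ) :
    coord R p (n - j) (secMap R p q n h).2 = q ^ (-j).toNat * h j := by
  have H : (coord R p (n - j)).comp ((LinearMap.snd R _ _).comp (secMap R p q n)) =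
      (q ^ (-j).toNat) • Finsupp.lapply j := by
    apply Finsupp.lhom_ext
    intro i a
    simp only [LinearMap.comp_apply, secMap, Finsupp.linearCombination_single, secGen,
      LinearMap.snd_apply, map_smul, coord_mono, LinearMap.smul_apply,
      Finsupp.lapply_apply, Finsupp.single_apply, smul_eq_mul]
    by_cases hi : i = j
    · subst hi; simp; ring
    · have : ¬ (n - i = n - j) := by omega
      simp [hi, this]
  have := LinearMap.congr_fun H h
  simpa using this

/-- The compatibility condition in coordinates. -/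
theorem glue_iff (g : PolyNodeRing R q) (f : PolyNodeRing R p) :
    phi1 R q g = T n * phiInv R p f ↔
      ∀ j : ℤ, q ^ (-j).toNat * coord R q j g = p ^ (j - n).toNat * coord R p (n - j) f := by
  rw [LaurentPolynomial.ext_iff]
  refine forall_congr' fun j => ?_
  rw [phi1_coeff, coeff_T_mul, phiInv_coeff, show -(j - n) = n - j by omega]

theorem secMap_injective (hn : -1 ≤ n) : Function.Injective (secMap R p q n) := by
  rw [injective_iff_map_eq_zero]
  intro h hh
  ext j
  by_cases hj : j ≤ n
  · have := coord_fst_secMap R p q n h j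
    rw [hh, show (j - n).toNat = 0 by omega, pow_zero, one_mul] at this
    rw [← this]; simp
  · have := coord_snd_secMap R p q n h j
    rw [hh, show (-j).toNat = 0 by omega, pow_zero, one_mul] at this
    rw [← this]; simp

theorem range_secMap (hn : -1 ≤ n) (g : PolyNodeRing R q) (f : PolyNodeRing R p) :
    (g, f) ∈ LinearMap.range (secMap R p q n) ↔ phi1 R q g = T n * phiInv R p f := by
  classical
  rw [glue_iff]
  constructor
  · rintro ⟨h, hh⟩ j
    have h1 := coord_fst_secMap R p q n h j
    have h2 := coord_snd_secMap R p q n h j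
    rw [hh] at h1 h2
    simp only at h1 h2
    rw [h1, h2]; ring
  · intro H
    let h : ℤ →₀ R := Finsupp.onFinset
      (((basis R q).repr g).support ∪ (((basis R p).repr f).support.image (fun i => n - i)))
      (fun j => if j ≤ n then coord R q j g else coord R p (n - j) f) (by
        intro j hj
        by_cases hjn : j ≤ n
        · rw [if_pos hjn] at hj
          apply Finset.mem_union_left
          rw [Finsupp.mem_support_iff, basis_repr_apply]; exact hj
        · rw [if_neg hjn] at hj
          apply Finset.mem_union_right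
          rw [Finset.mem_image]
          refine ⟨n - j, ?_, by omega⟩
          rw [Finsupp.mem_support_iff, basis_repr_apply]; exact hj)
    have hh : ∀ j, h j = if j ≤ n then coord R q j g else coord R p (n - j) f := fun j => rfl
    refine ⟨h, Prod.ext ?_ ?_⟩
    · apply ext_coord
      intro j
      rw [coord_fst_secMap, hh]
      by_cases hjn : j ≤ n
      · rw [if_pos hjn, show (j - n).toNat = 0 by omega, pow_zero, one_mul]
      · rw [if_neg hjn, ← H j, show (-j).toNat = 0 by omega, pow_zero, one_mul]
    · apply ext_coord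
      intro i
      obtain ⟨j, rfl⟩ : ∃ j, i = n - j := ⟨n - i, by omega⟩
      rw [coord_snd_secMap, hh]
      by_cases hjn : j ≤ n
      · rw [if_pos hjn, H j, show (j - n).toNat = 0 by omega, pow_zero, one_mul]
      · rw [if_neg hjn, show (-j).toNat = 0 by omega, pow_zero, one_mul]

theorem free_ker (gU : PolyNodeRing R q →ₐ[R] LaurentPolynomial R)
    (hgUs : gU (PolyNodeRing.x R q) = T 1)
    (hgUy : gU (PolyNodeRing.y R q) = C q * T (-1))
    (gV : PolyNodeRing R p →ₐ[R] LaurentPolynomial R)
    (hgVt : gV (PolyNodeRing.x R p) = T (-1))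
    (hgVx : gV (PolyNodeRing.y R p) = C p * T 1) (hn : -1 ≤ n) :
    Module.Free R (LinearMap.ker
      (gU.toLinearMap.comp (LinearMap.fst R (PolyNodeRing R q) (PolyNodeRing R p)) -
        (LinearMap.mulLeft R (T n)).comp
          (gV.toLinearMap.comp (LinearMap.snd R (PolyNodeRing R q) (PolyNodeRing R p))))) := by
  obtain rfl := eq_phi1 R q gU hgUs hgUy
  obtain rfl := eq_phiInv R p gV hgVt hgVx
  have hrange : LinearMap.range (secMap R p q n) = LinearMap.ker
      ((phi1 R q).toLinearMap.comp (LinearMap.fst R (PolyNodeRing R q) (PolyNodeRing R p)) -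
        (LinearMap.mulLeft R (T n)).comp
          ((phiInv R p).toLinearMap.comp
            (LinearMap.snd R (PolyNodeRing R q) (PolyNodeRing R p)))) := by
    ext ⟨g, f⟩
    rw [range_secMap R p q n hn, LinearMap.mem_ker]
    simp [sub_eq_zero]
  rw [← hrange]
  exact Module.Free.of_equiv (LinearEquiv.ofInjective _ (secMap_injective R p q n hn))

end twist

end Groth.Agent.R2.H90.PolyNode
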