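import Mathlib
import Groth.Agent.R2.H90PolyNode

set_option autoImplicit false

open SpinCurv LaurentPolynomial

namespace Groth.Agent.R2.H90.PolyNodeSec

open Groth.Agent.R2.H90.PolyNode

universe u
variable (R : Type u) [CommRing R] (p q : R) (n : ℕ)
  (rU : PolyNodeRing R (p * q) →ₐ[R] PolyNodeRing R q)
  (rV : PolyNodeRing R (p * q) →ₐ[R] PolyNodeRing R p)

/-- The map `(F_0, …, F_n) ↦ (Σ F_i|_U s^{n-i}, Σ F_i|_V t^i)` as an `R`-linear map. -/
noncomputable def xi : (Fin (n + 1) → PolyNodeRing R (p * q)) →ₗ[R]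
    PolyNodeRing R q × PolyNodeRing R p :=
  LinearMap.prod
    (∑ i : Fin (n + 1), (LinearMap.mulRight R (PolyNodeRing.x R q ^ (n - (i : ℕ)))).comp
      (rU.toLinearMap.comp (LinearMap.proj i)))
    (∑ i : Fin (n + 1), (LinearMap.mulRight R (PolyNodeRing.x R p ^ (i : ℕ))).comp
      (rV.toLinearMap.comp (LinearMap.proj i)))

theorem xi_apply (F : Fin (n + 1) → PolyNodeRing R (p * q)) :
    xi R p q n rU rV F =
      (∑ i : Fin (n + 1), rU (F i) * PolyNodeRing.x R q ^ (n - (i : ℕ)),
       ∑ i : Fin (n + 1), rV (F i) * PolyNodeRing.x R p ^ (i : ℕ)) := by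
  simp [xi]

theorem xi_smul (a : PolyNodeRing R (p * q)) (F : Fin (n + 1) → PolyNodeRing R (p * q)) :
    xi R p q n rU rV (a • F) =
      (rU a * (xi R p q n rU rV F).1, rV a * (xi R p q n rU rV F).2) := by
  rw [xi_apply, xi_apply]
  simp only [Pi.smul_apply, smul_eq_mul, map_mul, Finset.mul_sum, mul_assoc]

theorem xi_single (i : Fin (n + 1)) (a : PolyNodeRing R (p * q)) :
    xi R p q n rU rV (Pi.single i a) =
      (rU a * PolyNodeRing.x R q ^ (n - (i : ℕ)), rV a * PolyNodeRing.x R p ^ (i : ℕ)) := by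
  classical
  rw [xi_apply]
  congr 1
  · rw [Finset.sum_eq_single i]
    · simp
    · intro j _ hj; simp [Pi.single_eq_of_ne hj]
    · simp
  · rw [Finset.sum_eq_single i]
    · simp
    · intro j _ hj; simp [Pi.single_eq_of_ne hj]
    · simp

section gens

variable (hrUx : rU (PolyNodeRing.x R (p * q)) = algebraMap R _ p * PolyNodeRing.x R q)
  (hrUy : rU (PolyNodeRing.y R (p * q)) = PolyNodeRing.y R q)
  (hrVx : rV (PolyNodeRing.x R (p * q)) = PolyNodeRing.y R p)
  (hrVy : rV (PolyNodeRing.y R (p * q)) = algebraMap R _ q * PolyNodeRing.x R p)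

/-- The normal-form generators. -/
noncomputable def gen (j : ℤ) : Fin (n + 1) → PolyNodeRing R (p * q) :=
  if (n : ℤ) ≤ j then Pi.single 0 (PolyNodeRing.x R (p * q) ^ (j - n).toNat)
  else if 0 ≤ j then Pi.single (Fin.ofNat (n + 1) ((n : ℤ) - j).toNat) 1
  else Pi.single (Fin.last n) (PolyNodeRing.y R (p * q) ^ (-j).toNat)

theorem aux_pow {B : Type*} [CommRing B] [Algebra R B] (c : R) (z : B) (k m l : ℕ)
    (h : k + m = l) : (algebraMap R B c * z) ^ k * z ^ m = c ^ k • z ^ l := by
  subst h
  rw [mul_pow, ← map_pow, mul_assoc, ← pow_add, Algebra.smul_def]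

include hrUx hrUy hrVx hrVy in
theorem xi_gen (j : ℤ) : xi R p q n rU rV (gen R p q n j) = secGen R p q (n : ℤ) j := by
  unfold gen secGen
  by_cases h1 : (n : ℤ) ≤ j
  · rw [if_pos h1, xi_single, map_pow, map_pow, hrUx, hrVx]
    have e1 : (-j).toNat = 0 := by omega
    rw [e1, pow_zero, one_smul, mono_of_nonneg R q (by omega : 0 ≤ j),
      mono_of_nonpos R p (by omega : (n : ℤ) - j ≤ 0)]
    refine Prod.ext ?_ ?_
    · exact aux_pow R p _ _ _ _ (by simp only [Fin.val_zero]; omega)
    · change PolyNodeRing.y R p ^ (j - ↑n).toNat * PolyNodeRing.x R p ^ ((0 : Fin (n + 1)) : ℕ) = _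
      rw [Fin.val_zero, pow_zero, mul_one]
      congr 1
      omega
  · rw [if_neg h1]
    by_cases h2 : 0 ≤ j
    · rw [if_pos h2, xi_single, map_one, map_one, one_mul, one_mul]
      have e1 : (-j).toNat = 0 := by omega
      have e2 : (j - n).toNat = 0 := by omega
      rw [e1, e2, pow_zero, pow_zero, one_smul, one_smul, mono_of_nonneg R q h2,
        mono_of_nonneg R p (by omega : 0 ≤ (n : ℤ) - j)]
      have e3 : ((Fin.ofNat (n + 1) ((n : ℤ) - j).toNat : Fin (n + 1)) : ℕ) =
          ((n : ℤ) - j).toNat := by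
        rw [Fin.val_ofNat]
        exact Nat.mod_eq_of_lt (by omega)
      rw [e3]
      refine Prod.ext ?_ ?_
      · change PolyNodeRing.x R q ^ (n - (↑n - j).toNat) = PolyNodeRing.x R q ^ j.toNat
        congr 1
        omega
      · rfl
    · rw [if_neg h2, xi_single, map_pow, map_pow, hrUy, hrVy]
      have e2 : (j - n).toNat = 0 := by omega
      rw [e2, pow_zero, one_smul, mono_of_nonpos R q (by omega : j ≤ 0),
        mono_of_nonneg R p (by omega : 0 ≤ (n : ℤ) - j)]
      refine Prod.ext ?_ ?_
      · change PolyNodeRing.y R q ^ (-j).toNat * PolyNodeRing.x R q ^ (n - ((Fin.last n : Fin (n + 1)) : ℕ)) = _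
        rw [Fin.val_last, Nat.sub_self, pow_zero, mul_one]
      · exact aux_pow R q _ _ _ _ (by simp only [Fin.val_last]; omega)

/-- The parametrisation by normal forms. -/
noncomputable def sigma : (ℤ →₀ R) →ₗ[R] (Fin (n + 1) → PolyNodeRing R (p * q)) :=
  Finsupp.linearCombination R (gen R p q n)

include hrUx hrUy hrVx hrVy in
theorem xi_comp_sigma :
    (xi R p q n rU rV).comp (sigma R p q n) = secMap R p q (n : ℤ) := by
  apply Finsupp.lhom_ext
  intro j a
  simp only [LinearMap.comp_apply, sigma, secMap, Finsupp.linearCombination_single, map_smul]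
  rw [xi_gen R p q n rU rV hrUx hrUy hrVx hrVy]

end gens

section rel

/-- The relation vectors `p e_i - x e_{i+1}` and `y e_i - q e_{i+1}`. -/
noncomputable def relSet : Set (Fin (n + 1) → PolyNodeRing R (p * q)) :=
  Set.range (fun i : Fin n =>
      (Pi.single (Fin.castSucc i) (algebraMap R (PolyNodeRing R (p * q)) p) -
        Pi.single (Fin.succ i) (PolyNodeRing.x R (p * q)) :
          Fin (n + 1) → PolyNodeRing R (p * q))) ∪
    Set.range (fun i : Fin n =>
      (Pi.single (Fin.castSucc i) (PolyNodeRing.y R (p * q)) -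
        Pi.single (Fin.succ i) (algebraMap R (PolyNodeRing R (p * q)) q) :
          Fin (n + 1) → PolyNodeRing R (p * q)))

/-- The submodule of relations. -/
noncomputable def relMod : Submodule (PolyNodeRing R (p * q)) (Fin (n + 1) → PolyNodeRing R (p * q)) :=
  Submodule.span (PolyNodeRing R (p * q)) (relSet R p q n)

/-- Everything that is a normal form plus a relation. -/
noncomputable def W : Submodule R (Fin (n + 1) → PolyNodeRing R (p * q)) :=
  LinearMap.range (sigma R p q n) ⊔ (relMod R p q n).restrictScalars R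

theorem gen_mem_W (j : ℤ) : gen R p q n j ∈ W R p q n := by
  apply Submodule.mem_sup_left
  exact ⟨Finsupp.single j 1, by simp [sigma]⟩

theorem single_one_eq_gen (i : Fin (n + 1)) :
    (Pi.single i 1 : Fin (n + 1) → PolyNodeRing R (p * q)) = gen R p q n ((n : ℤ) - (i : ℕ)) := by
  unfold gen
  by_cases hi : (i : ℕ) = 0
  · have : i = 0 := Fin.ext hi
    subst this
    rw [if_pos (by simp)]
    simp
  · rw [if_neg (by omega), if_pos (by have := i.2; omega)]
    congr 1
    apply Fin.ext
    rw [Fin.val_ofNat]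
    have : ((n : ℤ) - ((n : ℤ) - (i : ℕ))).toNat = (i : ℕ) := by omega
    rw [this]
    exact (Nat.mod_eq_of_lt i.2).symm

theorem single_x_mem (i : ℕ) : ∀ (hi : i < n + 1) (a : ℕ),
    (Pi.single (⟨i, hi⟩ : Fin (n + 1)) (PolyNodeRing.x R (p * q) ^ a) :
      Fin (n + 1) → PolyNodeRing R (p * q)) ∈ W R p q n := by
  induction i with
  | zero =>
    intro hi a
    have : (Pi.single (⟨0, hi⟩ : Fin (n + 1)) (PolyNodeRing.x R (p * q) ^ a) :
        Fin (n + 1) → PolyNodeRing R (p * q)) = gen R p q n ((n : ℤ) + a) := by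
      unfold gen
      rw [if_pos (by omega)]
      have : ((n : ℤ) + a - n).toNat = a := by omega
      rw [this]
      rfl
    rw [this]
    exact gen_mem_W R p q n _
  | succ i ih =>
    intro hi a
    cases a with
    | zero =>
      rw [pow_zero, single_one_eq_gen]
      exact gen_mem_W R p q n _
    | succ a =>
      have hi' : i < n := by omega
      have key : (Pi.single (⟨i + 1, hi⟩ : Fin (n + 1)) (PolyNodeRing.x R (p * q) ^ (a + 1)) :
          Fin (n + 1) → PolyNodeRing R (p * q)) =
          (Pi.single (⟨i, by omega⟩ : Fin (n + 1))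
            (algebraMap R (PolyNodeRing R (p * q)) p * PolyNodeRing.x R (p * q) ^ a) :
            Fin (n + 1) → PolyNodeRing R (p * q)) -
          (PolyNodeRing.x R (p * q) ^ a) •
            ((Pi.single (Fin.castSucc (⟨i, hi'⟩ : Fin n))
                (algebraMap R (PolyNodeRing R (p * q)) p) -
              Pi.single (Fin.succ (⟨i, hi'⟩ : Fin n)) (PolyNodeRing.x R (p * q)) :
                Fin (n + 1) → PolyNodeRing R (p * q))) := by
        rw [smul_sub, ← Pi.single_smul, ← Pi.single_smul, smul_eq_mul,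
          smul_eq_mul, ← pow_succ, mul_comm (PolyNodeRing.x R (p * q) ^ a)
            (algebraMap R (PolyNodeRing R (p * q)) p)]
        have e1 : (Fin.castSucc (⟨i, hi'⟩ : Fin n) : Fin (n + 1)) = ⟨i, by omega⟩ := rfl
        have e2 : (Fin.succ (⟨i, hi'⟩ : Fin n) : Fin (n + 1)) = ⟨i + 1, hi⟩ := rfl
        rw [e1, e2]
        abel
      rw [key]
      have hsm : (Pi.single (⟨i, by omega⟩ : Fin (n + 1))
            (algebraMap R (PolyNodeRing R (p * q)) p * PolyNodeRing.x R (p * q) ^ a) :
            Fin (n + 1) → PolyNodeRing R (p * q)) =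
          p • (Pi.single (⟨i, by omega⟩ : Fin (n + 1)) (PolyNodeRing.x R (p * q) ^ a) :
            Fin (n + 1) → PolyNodeRing R (p * q)) := by
        rw [← Pi.single_smul]
        congr 1
        exact (Algebra.smul_def _ _).symm
      rw [hsm]
      refine Submodule.sub_mem _ (Submodule.smul_mem _ _ (ih _ _)) ?_
      apply Submodule.mem_sup_right
      refine Submodule.smul_mem (relMod R p q n) _ (Submodule.subset_span ?_)
      exact Or.inl ⟨⟨i, hi'⟩, rfl⟩

theorem single_y_mem (k : ℕ) : ∀ (i : Fin (n + 1)), n - (i : ℕ) = k → ∀ (b : ℕ),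
    (Pi.single i (PolyNodeRing.y R (p * q) ^ b) :
      Fin (n + 1) → PolyNodeRing R (p * q)) ∈ W R p q n := by
  induction k with
  | zero =>
    intro i hi b
    have hil : i = Fin.last n := by
      apply Fin.ext
      have := i.2
      simp only [Fin.val_last]
      omega
    subst hil
    cases b with
    | zero =>
      rw [pow_zero, single_one_eq_gen]
      exact gen_mem_W R p q n _
    | succ b =>
      have : (Pi.single (Fin.last n) (PolyNodeRing.y R (p * q) ^ (b + 1)) :
          Fin (n + 1) → PolyNodeRing R (p * q)) = gen R p q n (-((b : ℤ) + 1)) := by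
        unfold gen
        rw [if_neg (by omega), if_neg (by omega)]
        have : (-(-((b : ℤ) + 1))).toNat = b + 1 := by omega
        rw [this]
      rw [this]
      exact gen_mem_W R p q n _
  | succ k ih =>
    intro i hi b
    cases b with
    | zero =>
      rw [pow_zero, single_one_eq_gen]
      exact gen_mem_W R p q n _
    | succ b =>
      have hi' : (i : ℕ) < n := by omega
      have key : (Pi.single i (PolyNodeRing.y R (p * q) ^ (b + 1)) :
          Fin (n + 1) → PolyNodeRing R (p * q)) =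
          (Pi.single (⟨(i : ℕ) + 1, by omega⟩ : Fin (n + 1))
            (algebraMap R (PolyNodeRing R (p * q)) q * PolyNodeRing.y R (p * q) ^ b) :
            Fin (n + 1) → PolyNodeRing R (p * q)) +
          (PolyNodeRing.y R (p * q) ^ b) •
            ((Pi.single (Fin.castSucc (⟨(i : ℕ), hi'⟩ : Fin n)) (PolyNodeRing.y R (p * q)) -
              Pi.single (Fin.succ (⟨(i : ℕ), hi'⟩ : Fin n))
                (algebraMap R (PolyNodeRing R (p * q)) q) :
                Fin (n + 1) → PolyNodeRing R (p * q))) := by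
        rw [smul_sub, ← Pi.single_smul, ← Pi.single_smul, smul_eq_mul,
          smul_eq_mul, ← pow_succ, mul_comm (PolyNodeRing.y R (p * q) ^ b)
            (algebraMap R (PolyNodeRing R (p * q)) q)]
        have e1 : (Fin.castSucc (⟨(i : ℕ), hi'⟩ : Fin n) : Fin (n + 1)) = i := rfl
        have e2 : (Fin.succ (⟨(i : ℕ), hi'⟩ : Fin n) : Fin (n + 1)) = ⟨(i : ℕ) + 1, by omega⟩ :=
          rfl
        rw [e1, e2]
        abel
      rw [key]
      have hsm : (Pi.single (⟨(i : ℕ) + 1, by omega⟩ : Fin (n + 1))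
            (algebraMap R (PolyNodeRing R (p * q)) q * PolyNodeRing.y R (p * q) ^ b) :
            Fin (n + 1) → PolyNodeRing R (p * q)) =
          q • (Pi.single (⟨(i : ℕ) + 1, by omega⟩ : Fin (n + 1)) (PolyNodeRing.y R (p * q) ^ b) :
            Fin (n + 1) → PolyNodeRing R (p * q)) := by
        rw [← Pi.single_smul]
        congr 1
        exact (Algebra.smul_def _ _).symm
      rw [hsm]
      refine Submodule.add_mem _ (Submodule.smul_mem _ _ (ih _ (by simp only; omega) _)) ?_
      apply Submodule.mem_sup_right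
      refine Submodule.smul_mem (relMod R p q n) _ (Submodule.subset_span ?_)
      exact Or.inr ⟨⟨(i : ℕ), hi'⟩, rfl⟩

theorem mem_W (F : Fin (n + 1) → PolyNodeRing R (p * q)) : F ∈ W R p q n := by
  classical
  have hsingle : ∀ (i : Fin (n + 1)) (a : PolyNodeRing R (p * q)),
      (Pi.single i a : Fin (n + 1) → PolyNodeRing R (p * q)) ∈ W R p q n := by
    intro i a
    have ha : a ∈ Submodule.span R (Set.range (mono R (p * q))) := by
      rw [span_mono]; trivial
    induction ha using Submodule.span_induction with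
    | mem z hz =>
      obtain ⟨j, rfl⟩ := hz
      by_cases hj : 0 ≤ j
      · rw [mono_of_nonneg R (p * q) hj]
        exact single_x_mem R p q n i i.2 _
      · rw [mono_of_nonpos R (p * q) (by omega)]
        exact single_y_mem R p q n _ i rfl _
    | zero => rw [Pi.single_zero]; exact Submodule.zero_mem _
    | add a b _ _ ha hb => rw [Pi.single_add]; exact Submodule.add_mem _ ha hb
    | smul r a _ ha => rw [Pi.single_smul]; exact Submodule.smul_mem _ _ ha
  have : F = ∑ i, Pi.single i (F i) := by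
    ext j
    simp [Finset.sum_apply, Pi.single_apply]
  rw [this]
  exact Submodule.sum_mem _ fun i _ => hsingle i (F i)

end rel

section main

variable (hrUx : rU (PolyNodeRing.x R (p * q)) = algebraMap R _ p * PolyNodeRing.x R q)
  (hrUy : rU (PolyNodeRing.y R (p * q)) = PolyNodeRing.y R q)
  (hrVx : rV (PolyNodeRing.x R (p * q)) = PolyNodeRing.y R p)
  (hrVy : rV (PolyNodeRing.y R (p * q)) = algebraMap R _ q * PolyNodeRing.x R p)

include hrUx hrUy hrVx hrVy in
theorem xi_eq_zero_of_mem_relMod (F : Fin (n + 1) → PolyNodeRing R (p * q))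
    (hF : F ∈ relMod R p q n) : xi R p q n rU rV F = 0 := by
  unfold relMod at hF
  induction hF using Submodule.span_induction with
  | mem z hz =>
    rcases hz with ⟨i, rfl⟩ | ⟨i, rfl⟩
    · rw [map_sub, xi_single, xi_single, hrUx, hrVx, AlgHom.commutes, AlgHom.commutes]
      have e1 : n - ((Fin.castSucc i : Fin (n + 1)) : ℕ) = (n - ((i : ℕ) + 1)) + 1 := by
        have := i.2
        simp only [Fin.val_castSucc]
        omega
      have e1' : n - ((Fin.succ i : Fin (n + 1)) : ℕ) = n - ((i : ℕ) + 1) := by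
        simp only [Fin.val_succ]
      have e2 : ((Fin.succ i : Fin (n + 1)) : ℕ) = (i : ℕ) + 1 := by simp
      have e2' : ((Fin.castSucc i : Fin (n + 1)) : ℕ) = (i : ℕ) := by simp
      rw [e1, e1', e2, e2', pow_succ, pow_succ]
      refine Prod.ext ?_ ?_
      · simp only [Prod.fst_sub, Prod.fst_zero]
        ring
      · simp only [Prod.snd_sub, Prod.snd_zero]
        have := y_mul_x R p
        linear_combination (-(PolyNodeRing.x R p ^ (i : ℕ))) * this
    · rw [map_sub, xi_single, xi_single, hrUy, hrVy, AlgHom.commutes, AlgHom.commutes]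
      have e1 : n - ((Fin.castSucc i : Fin (n + 1)) : ℕ) = (n - ((i : ℕ) + 1)) + 1 := by
        have := i.2
        simp only [Fin.val_castSucc]
        omega
      have e1' : n - ((Fin.succ i : Fin (n + 1)) : ℕ) = n - ((i : ℕ) + 1) := by
        simp only [Fin.val_succ]
      have e2 : ((Fin.succ i : Fin (n + 1)) : ℕ) = (i : ℕ) + 1 := by simp
      have e2' : ((Fin.castSucc i : Fin (n + 1)) : ℕ) = (i : ℕ) := by simp
      rw [e1, e1', e2, e2', pow_succ, pow_succ]
      refine Prod.ext ?_ ?_
      · simp only [Prod.fst_sub, Prod.fst_zero]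
        have := y_mul_x R q
        linear_combination (PolyNodeRing.x R q ^ (n - ((i : ℕ) + 1))) * this
      · simp only [Prod.snd_sub, Prod.snd_zero]
        ring
  | zero => exact map_zero _
  | add a b _ _ ha hb => rw [map_add, ha, hb, add_zero]
  | smul a b _ hb => rw [xi_smul, hb]; simp

include hrUx hrUy hrVx hrVy in
theorem exists_decomp (F : Fin (n + 1) → PolyNodeRing R (p * q)) :
    ∃ (h : ℤ →₀ R) (ν : Fin (n + 1) → PolyNodeRing R (p * q)), ν ∈ relMod R p q n ∧
      F = sigma R p q n h + ν ∧ xi R p q n rU rV F = secMap R p q (n : ℤ) h := by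
  have hF := mem_W R p q n F
  unfold W at hF
  obtain ⟨a, ⟨h, rfl⟩, ν, hν, rfl⟩ := Submodule.mem_sup.mp hF
  refine ⟨h, ν, hν, rfl, ?_⟩
  rw [map_add, xi_eq_zero_of_mem_relMod R p q n rU rV hrUx hrUy hrVx hrVy ν hν, add_zero,
    ← xi_comp_sigma R p q n rU rV hrUx hrUy hrVx hrVy]
  rfl

include hrUx hrUy hrVx hrVy in
theorem range_xi :
    Set.range (xi R p q n rU rV) =
      {gf : PolyNodeRing R q × PolyNodeRing R p |
        phi1 R q gf.1 = T (n : ℤ) * phiInv R p gf.2} := by
  ext ⟨g, f⟩
  rw [Set.mem_ofPred_eq, ← range_secMap R p q (n : ℤ) (by omega)]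
  constructor
  · rintro ⟨F, hF⟩
    obtain ⟨h, ν, -, -, hxi⟩ := exists_decomp R p q n rU rV hrUx hrUy hrVx hrVy F
    exact ⟨h, by rw [← hxi, hF]⟩
  · rintro ⟨h, hh⟩
    refine ⟨sigma R p q n h, ?_⟩
    rw [← hh, ← xi_comp_sigma R p q n rU rV hrUx hrUy hrVx hrVy]
    rfl

include hrUx hrUy hrVx hrVy in
theorem ker_xi :
    {F : Fin (n + 1) → PolyNodeRing R (p * q) | xi R p q n rU rV F = 0} =
      (relMod R p q n : Set (Fin (n + 1) → PolyNodeRing R (p * q))) := by
  ext F
  rw [Set.mem_ofPred_eq, SetLike.mem_coe]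
  constructor
  · intro hF
    obtain ⟨h, ν, hν, hdec, hxi⟩ := exists_decomp R p q n rU rV hrUx hrUy hrVx hrVy F
    rw [hF] at hxi
    have h0 : h = 0 := by
      apply secMap_injective R p q (n : ℤ) (by omega)
      rw [← hxi, map_zero]
    rw [hdec, h0, map_zero, zero_add]
    exact hν
  · exact xi_eq_zero_of_mem_relMod R p q n rU rV hrUx hrUy hrVx hrVy F

end main

end Groth.Agent.R2.H90.PolyNodeSec
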