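import Mathlib
import Groth.Prelude.Def_SekSuwa2
import Groth.Agent.Lib.Helper24GKFree
import Groth.Agent.Lib.Helper24FlatTF

/-!
Helper library (helper90): points of the Sekiguchi–Suwa group schemes `G_{λ,N}` and `μ_N` with
values in schemes on which `λ` is invertible.

* `AK_hom_ext`, `exists_AK_hom`, `zmod_hom_ext`: the algebra;
* `ofRingHom`, `Phi_ofRingHom`, `Phi_comp'`: morphisms to affine schemes and ring maps;
* `comp_alphaN_bijective`: `α^{λ,N} : G_{λ,N} → μ_N` is bijective on `W`-points when `λ` is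
  invertible on `W`;
* `isUnit_Phi_generic`: a non-zero-divisor of `R` is invertible on every scheme over the generic
  point of an integral scheme flat over `Spec R`.
-/

set_option autoImplicit false
set_option linter.style.haveILetI false
universe u
open CategoryTheory AlgebraicGeometry SekSuwa

namespace Groth.Agent.R2.H90.SekSuwaPts

open Groth.Agent.Lib.Helper24GKFree

section Alg

variable {R : Type u} [CommRing R] {lam : R} {N : ℕ} {h : DivCond lam N}
  {B : Type u} [CommRing B] [Algebra R B]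

theorem AK_u_mul_inv : (1 + lam • (AK.t : AK R lam N h)) * AK.inv = 1 := by
  have := congrArg (AK.mkHom R lam N h) (A.u_mul_inv (R := R) (lam := lam))
  rw [map_mul, map_one, A.u, map_add, map_one, map_smul] at this
  exact this

/-- `R`-algebra maps out of `AK` to an algebra in which `lam` is invertible are determined by the
image of `1 + lam t`. -/
theorem AK_hom_ext (hu : IsUnit (algebraMap R B lam)) (F F' : AK R lam N h →ₐ[R] B)
    (e : F (1 + lam • AK.t) = F' (1 + lam • AK.t)) : F = F' := by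
  have ht : F AK.t = F' AK.t := by
    have h1 : algebraMap R B lam * (F AK.t - F' AK.t) = 0 := by
      have e' := e
      rw [map_add, map_add, map_one, map_one, map_smul, map_smul, Algebra.smul_def,
        Algebra.smul_def] at e'
      linear_combination e'
    exact sub_eq_zero.1 ((hu.mul_right_eq_zero).1 h1)
  apply AK.algHom_ext ht
  have ef := congrArg F (AK_u_mul_inv (R := R) (lam := lam) (N := N) (h := h))
  have eg := congrArg F' (AK_u_mul_inv (R := R) (lam := lam) (N := N) (h := h))
  rw [map_mul, map_one] at ef eg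
  rw [e] at ef
  calc F AK.inv = F AK.inv * (F' (1 + lam • AK.t) * F' AK.inv) := by rw [eg, mul_one]
    _ = (F' (1 + lam • AK.t) * F AK.inv) * F' AK.inv := by ring
    _ = _ := by rw [ef, one_mul]

/-- Every `N`-th root of unity in an `R`-algebra in which `lam` is invertible is the image of
`1 + lam t` under an algebra map from `AK`. -/
theorem exists_AK_hom (hN : 0 < N) (hu : IsUnit (algebraMap R B lam)) (σ : B) (hσ : σ ^ N = 1) :
    ∃ F : AK R lam N h →ₐ[R] B, F (1 + lam • AK.t) = σ := by
  obtain ⟨μ, hμ⟩ := hu.exists_right_inv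
  set b := μ * (σ - 1) with hb0
  have hb1 : 1 + algebraMap R B lam * b = σ := by
    rw [hb0, ← mul_assoc, hμ, one_mul]; ring
  have hb : Polynomial.aeval b (psiPoly lam N h) = 0 := by
    have h1 := aeval_psiPoly h b
    rw [hb1, hσ, sub_self] at h1
    have hu' : IsUnit (algebraMap R B (lam ^ N)) := by rw [map_pow]; exact hu.pow N
    exact (hu'.mul_right_eq_zero).1 h1
  let F₀ : AdjoinRoot (psiPoly lam N h) →ₐ[R] B :=
    AdjoinRoot.liftAlgHom (psiPoly lam N h) (Algebra.ofId R B) b (by
      rw [← hb, Polynomial.aeval_def]; rfl)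
  refine ⟨F₀.comp (equivAdj hN h).toAlgHom, ?_⟩
  have h2 : (F₀.comp (equivAdj hN h).toAlgHom) AK.t = b := by
    rw [AlgHom.comp_apply]
    have : (equivAdj hN h).toAlgHom (AK.t : AK R lam N h) = AdjoinRoot.root (psiPoly lam N h) :=
      toAdj_t hN h
    rw [this]
    exact AdjoinRoot.liftAlgHom_root _ _ _ _
  rw [map_add, map_one, map_smul, h2, Algebra.smul_def, hb1]

/-- Algebra maps from the group algebra of `ℤ/N` agree if they agree on the generator. -/
theorem zmod_hom_ext [NeZero N] (χ χ' : MonoidAlgebra R (Multiplicative (ZMod N)) →ₐ[R] B)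
    (e : χ (MonoidAlgebra.single (Multiplicative.ofAdd (1 : ZMod N)) 1) =
      χ' (MonoidAlgebra.single (Multiplicative.ofAdd (1 : ZMod N)) 1)) : χ = χ' := by
  apply (MonoidAlgebra.lift R B (Multiplicative (ZMod N))).symm.injective
  refine MonoidHom.ext fun m => ?_
  have hm : m = (Multiplicative.ofAdd (1 : ZMod N)) ^ (ZMod.val (Multiplicative.toAdd m)) := by
    rw [← ofAdd_nsmul]
    simp
  simp only [MonoidAlgebra.lift_symm_apply]
  rw [hm]
  have h1 : (MonoidAlgebra.single ((Multiplicative.ofAdd (1 : ZMod N)) ^ (ZMod.val (Multiplicative.toAdd m))) (1 : R)) =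
      (MonoidAlgebra.single (Multiplicative.ofAdd (1 : ZMod N)) (1 : R)) ^ (ZMod.val (Multiplicative.toAdd m)) := by
    rw [MonoidAlgebra.single_pow, one_pow]
  rw [h1, map_pow, map_pow, e]

theorem single_one_pow [NeZero N] :
    (MonoidAlgebra.single (Multiplicative.ofAdd (1 : ZMod N)) (1 : R)) ^ N = 1 := by
  rw [MonoidAlgebra.single_pow, one_pow, ← ofAdd_nsmul]
  simp
  rfl

end Alg

section Sch

open Groth.Agent.Lib.Helper24FlatTF

/-- The morphism to `Spec A` attached to a ring map `A → Γ(X, ⊤)`. -/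
noncomputable def ofRingHom {X : Scheme.{u}} {A : Type u} [CommRing A] (F : A →+* Γ(X, ⊤)) :
    X ⟶ Spec (CommRingCat.of A) :=
  X.toSpecΓ ≫ Spec.map (CommRingCat.ofHom F)

theorem Phi_ofRingHom {X : Scheme.{u}} {A : Type u} [CommRing A] (F : A →+* Γ(X, ⊤)) :
    Phi (ofRingHom F) = F := by
  have h1 : Phi (X := X) (R := Γ(X, ⊤)) X.toSpecΓ = RingHom.id _ := by
    unfold Phi
    rw [Scheme.toSpecΓ_appTop]
    ext x
    exact congrArg (fun f => f.hom x) (Scheme.ΓSpecIso Γ(X, ⊤)).inv_hom_id
  unfold ofRingHom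
  rw [Phi_comp (X := X) (R := A) (S := Γ(X, ⊤)) X.toSpecΓ F, h1, RingHom.id_comp]

theorem Phi_comp' {X Y : Scheme.{u}} {R : Type u} [CommRing R] (a : Y ⟶ X)
    (q : X ⟶ Spec (CommRingCat.of R)) : Phi (a ≫ q) = a.appTop.hom.comp (Phi q) := by
  unfold Phi
  rw [Scheme.Hom.comp_appTop]
  rfl

variable (R : Type u) [CommRing R] (lam : R) (N : ℕ) (h : DivCond lam N)

/-- The ring map underlying `α^{λ,N}`. -/
noncomputable abbrev alphaRing : MonoidAlgebra R (Multiplicative (ZMod N)) →+* AK R lam N h :=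
  ((alphaNHom R lam N h : _ →ₐc[R] AK R lam N h) :
    MonoidAlgebra R (Multiplicative (ZMod N)) →+* AK R lam N h)

theorem alphaRing_single_one :
    alphaRing R lam N h (MonoidAlgebra.single (Multiplicative.ofAdd (1 : ZMod N)) 1) =
      1 + lam • AK.t := alphaNHom_single_one R lam N h

variable {R lam N h}

/-- injectivity of `α^{λ,N}` on points where `lam` is invertible (scheme level). -/
theorem alphaN_inj_sch {Wl : Scheme.{u}} (w : Wl ⟶ Spec (CommRingCat.of R))
    (hu : IsUnit (Phi w lam))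
    (k₁ k₂ : Wl ⟶ Spec (CommRingCat.of (AK R lam N h)))
    (hk₁ : k₁ ≫ Spec.map (CommRingCat.ofHom (algebraMap R (AK R lam N h))) = w)
    (hk₂ : k₂ ≫ Spec.map (CommRingCat.ofHom (algebraMap R (AK R lam N h))) = w)
    (e : k₁ ≫ Spec.map (CommRingCat.ofHom (alphaRing R lam N h)) =
      k₂ ≫ Spec.map (CommRingCat.ofHom (alphaRing R lam N h))) : k₁ = k₂ := by
  letI : Algebra R Γ(Wl, ⊤) := (Phi w).toAlgebra
  have hu' : IsUnit (algebraMap R Γ(Wl, ⊤) lam) := hu
  have h1 : (Phi k₁).comp (algebraMap R (AK R lam N h)) = Phi w := by rw [← Phi_comp, hk₁]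
  have h2 : (Phi k₂).comp (algebraMap R (AK R lam N h)) = Phi w := by rw [← Phi_comp, hk₂]
  let F₁ : AK R lam N h →ₐ[R] Γ(Wl, ⊤) :=
    { Phi k₁ with commutes' := fun r => RingHom.congr_fun h1 r }
  let F₂ : AK R lam N h →ₐ[R] Γ(Wl, ⊤) :=
    { Phi k₂ with commutes' := fun r => RingHom.congr_fun h2 r }
  have e12 : F₁ = F₂ := by
    apply AK_hom_ext hu'
    have e1 := congrArg Phi e
    rw [Phi_comp, Phi_comp] at e1
    have e2 := RingHom.congr_fun e1 (MonoidAlgebra.single (Multiplicative.ofAdd (1 : ZMod N)) 1)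
    rw [RingHom.comp_apply, RingHom.comp_apply, alphaRing_single_one] at e2
    exact e2
  apply Phi_injective
  exact congrArg (fun F : AK R lam N h →ₐ[R] Γ(Wl, ⊤) => (F : AK R lam N h →+* Γ(Wl, ⊤))) e12

/-- surjectivity of `α^{λ,N}` on points where `lam` is invertible (scheme level). -/
theorem alphaN_surj_sch (hN : 0 < N) {Wl : Scheme.{u}} (w : Wl ⟶ Spec (CommRingCat.of R))
    (hu : IsUnit (Phi w lam))
    (d : Wl ⟶ Spec (CommRingCat.of (MonoidAlgebra R (Multiplicative (ZMod N)))))
    (hd : d ≫ Spec.map (CommRingCat.ofHom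
      (algebraMap R (MonoidAlgebra R (Multiplicative (ZMod N))))) = w) :
    ∃ k : Wl ⟶ Spec (CommRingCat.of (AK R lam N h)),
      k ≫ Spec.map (CommRingCat.ofHom (algebraMap R (AK R lam N h))) = w ∧
      k ≫ Spec.map (CommRingCat.ofHom (alphaRing R lam N h)) = d := by
  haveI : NeZero N := ⟨hN.ne'⟩
  letI : Algebra R Γ(Wl, ⊤) := (Phi w).toAlgebra
  have hu' : IsUnit (algebraMap R Γ(Wl, ⊤) lam) := hu
  have h1 : (Phi d).comp (algebraMap R (MonoidAlgebra R (Multiplicative (ZMod N)))) = Phi w := by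
    rw [← Phi_comp, hd]
  let χ : MonoidAlgebra R (Multiplicative (ZMod N)) →ₐ[R] Γ(Wl, ⊤) :=
    { Phi d with commutes' := fun r => RingHom.congr_fun h1 r }
  obtain ⟨F, hF⟩ := exists_AK_hom (h := h) hN hu'
    (χ (MonoidAlgebra.single (Multiplicative.ofAdd (1 : ZMod N)) 1))
    (by rw [← map_pow, single_one_pow, map_one])
  refine ⟨ofRingHom (F : AK R lam N h →+* Γ(Wl, ⊤)), ?_, ?_⟩
  · apply Phi_injective
    rw [Phi_comp, Phi_ofRingHom]
    ext r
    exact F.commutes r
  · apply Phi_injective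
    rw [Phi_comp, Phi_ofRingHom]
    have e3 : F.comp ((alphaNHom R lam N h : _ →ₐc[R] AK R lam N h) :
        MonoidAlgebra R (Multiplicative (ZMod N)) →ₐ[R] AK R lam N h) = χ := by
      apply zmod_hom_ext
      rw [AlgHom.comp_apply]
      have : ((alphaNHom R lam N h : _ →ₐc[R] AK R lam N h) :
        MonoidAlgebra R (Multiplicative (ZMod N)) →ₐ[R] AK R lam N h)
          (MonoidAlgebra.single (Multiplicative.ofAdd (1 : ZMod N)) 1) = 1 + lam • AK.t :=
        alphaNHom_single_one R lam N h
      rw [this]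
      exact hF
    exact congrArg (fun G : MonoidAlgebra R (Multiplicative (ZMod N)) →ₐ[R] Γ(Wl, ⊤) =>
      (G : MonoidAlgebra R (Multiplicative (ZMod N)) →+* Γ(Wl, ⊤))) e3

variable (R lam N h)

/-- On points with values in `R`-schemes on which `lam` is invertible, `α^{λ,N}` is bijective. -/
theorem comp_alphaN_bijective (hN : 0 < N) (W : Over (Spec (CommRingCat.of R)))
    (hu : IsUnit (Phi W.hom lam)) :
    Function.Bijective (fun k : W ⟶ GK R lam N h => k ≫ alphaN R lam N h) := by
  constructor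
  · intro k₁ k₂ e
    apply Over.OverMorphism.ext
    exact alphaN_inj_sch (h := h) W.hom hu k₁.left k₂.left (Over.w k₁) (Over.w k₂)
      (congrArg (fun k => Over.Hom.left k) e)
  · intro d
    obtain ⟨k, hk1, hk2⟩ := alphaN_surj_sch (h := h) hN W.hom hu d.left (Over.w d)
    exact ⟨Over.homMk k hk1, Over.OverMorphism.ext hk2⟩

end Sch

section Generic

open Groth.Agent.Lib.Helper24FlatTF

theorem fromSpecStalk_appTop_injective {X : Scheme.{u}} [IsIntegral X] (x : X) :
    Function.Injective (X.fromSpecStalk x).appTop.hom := by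
  rw [Scheme.fromSpecStalk_appTop]
  have h1 : Function.Injective (X.presheaf.germ ⊤ x trivial).hom :=
    germ_injective_of_isIntegral X (U := ⊤) x trivial
  simp only [CommRingCat.hom_comp, RingHom.coe_comp]
  refine Function.Injective.comp (Function.Injective.comp ?_ ?_) h1
  · have key : ∀ (Z : Scheme.{u}) (U V : Z.Opens) (i : U ⟶ V) (_ : V ≤ U),
        Function.Injective (Z.presheaf.map i.op).hom := by
      intro Z U V i hVU
      have h3 : IsIso i := ⟨⟨homOfLE hVU, Subsingleton.elim _ _, Subsingleton.elim _ _⟩⟩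
      have h4 : IsIso i.op := inferInstance
      have h5 : IsIso (Z.presheaf.map i.op) := Functor.map_isIso _ _
      exact (ConcreteCategory.bijective_of_isIso _).1
    exact key _ _ _ _ (le_of_eq rfl)
  · exact (ConcreteCategory.bijective_of_isIso (Scheme.ΓSpecIso (X.presheaf.stalk x)).inv).1

theorem Phi_ne_zero {X : Scheme.{u}} [IsIntegral X] {R : Type u} [CommRing R]
    (f : X ⟶ Spec (CommRingCat.of R)) [Flat f] (lam : R) (hlam : lam ∈ nonZeroDivisors R) :
    Phi f lam ≠ 0 := by
  intro h0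
  have : (1 : Γ(X, ⊤)) = 0 := torsionFree f lam hlam 1 (by rw [h0, zero_mul])
  exact one_ne_zero this

theorem isUnit_Phi_generic {X : Scheme.{u}} [IsIntegral X] {R : Type u} [CommRing R]
    (f : X ⟶ Spec (CommRingCat.of R)) [Flat f] (lam : R) (hlam : lam ∈ nonZeroDivisors R)
    (T₀ : Over (Spec (X.presheaf.stalk (genericPoint X)))) :
    IsUnit (Phi ((T₀.hom ≫ X.fromSpecStalk (genericPoint X)) ≫ f) lam) := by
  rw [Category.assoc, Phi_comp', Phi_comp', RingHom.comp_apply, RingHom.comp_apply]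
  apply IsUnit.map
  have hΓ : IsField Γ(Spec (X.presheaf.stalk (genericPoint X)), ⊤) :=
    (Scheme.ΓSpecIso (X.presheaf.stalk (genericPoint X))).commRingCatIsoToRingEquiv.toMulEquiv.isField
      (Field.toIsField X.functionField)
  letI := hΓ.toField
  rw [isUnit_iff_ne_zero]
  intro h0
  apply Phi_ne_zero f lam hlam
  apply fromSpecStalk_appTop_injective (genericPoint X)
  rw [h0, map_zero]

end Generic

end Groth.Agent.R2.H90.SekSuwaPts
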