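/-
Helper library (helper90): **Theorem 1 of Oort–Tate** over an arbitrary base: a commutative Hopf algebra which
is finite projective of prime rank `p` over a commutative ring is cocommutative
(`isCocomm_of_rank_prime`). Over an algebraically closed field this is helper25's
`Prime.isCocomm_of_finrank_prime`; here: base change of functionals (`beta`), a Nakayama lifting lemma
(`isCocomm_of_sep`: if the convolution powers of a functional on the special fibre separate points, the dual
algebra is monogenic, hence commutative), the infinitesimal case (`sep_of_isLocalRing`), the case of a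
nontrivial point (`sep_of_point`), the local case (passing to the localization of `A` at a maximal ideal not
over the unit section) and localization.
-/
import Mathlib
import Groth.Prelude.Def_CartDual2
import Groth.Agent.Lib.Helper25Prime
import Groth.Agent.Lib.Helper25MultRigid
import Groth.Agent.S15897
import Groth.Agent.R2.H23TorsHopf

set_option autoImplicit false
set_option linter.unusedSectionVars false
set_option linter.style.haveILetI false
universe u v w

namespace Groth.Agent.R2.H90.Thm1

open WithConv TensorProduct CartDual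
open Groth.Agent.Lib.Helper25

section beta

variable {R : Type u} [CommRing R] (S : Type w) [CommRing S] [Algebra R S]
  {A : Type v} [CommRing A] [Bialgebra R A]

/-- base change of functionals -/
noncomputable def beta (F : A →ₗ[R] R) : S ⊗[R] A →ₗ[S] S :=
  (TensorProduct.AlgebraTensorModule.rid R S S).toLinearMap ∘ₗ (LinearMap.baseChange S F)

@[simp] theorem beta_tmul (F : A →ₗ[R] R) (s : S) (a : A) :
    beta S F (s ⊗ₜ[R] a) = F a • s := by
  simp [beta]

theorem beta_add (F G : A →ₗ[R] R) : beta S (F + G) = beta S F + beta S G := by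
  apply TensorProduct.AlgebraTensorModule.ext
  intro s a
  simp [add_smul]

theorem beta_smul (r : R) (F : A →ₗ[R] R) : beta S (r • F) = algebraMap R S r • beta S F := by
  apply TensorProduct.AlgebraTensorModule.ext
  intro s a
  simp [Algebra.smul_def, mul_assoc]

theorem beta_zero : beta S (0 : A →ₗ[R] R) = 0 := by
  apply TensorProduct.AlgebraTensorModule.ext
  intro s a
  simp

theorem beta_sub (F G : A →ₗ[R] R) : beta S (F - G) = beta S F - beta S G := by
  apply TensorProduct.AlgebraTensorModule.ext
  intro s a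
  simp [sub_smul]

theorem beta_sum {ι : Type*} (t : Finset ι) (F : ι → (A →ₗ[R] R)) :
    beta S (∑ i ∈ t, F i) = ∑ i ∈ t, beta S (F i) := by
  classical
  induction t using Finset.induction_on with
  | empty => simp [beta_zero]
  | insert i t hi ih => rw [Finset.sum_insert hi, Finset.sum_insert hi, beta_add, ih]

theorem beta_one : toConv (beta S (1 : WithConv (A →ₗ[R] R)).ofConv) =
    (1 : WithConv (S ⊗[R] A →ₗ[S] S)) := by
  apply WithConv.ext
  apply TensorProduct.AlgebraTensorModule.ext
  intro s a
  change beta S (1 : WithConv (A →ₗ[R] R)).ofConv (s ⊗ₜ[R] a) =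
    (1 : WithConv (S ⊗[R] A →ₗ[S] S)) (s ⊗ₜ[R] a)
  rw [beta_tmul, LinearMap.convOne_apply]
  change (1 : WithConv (A →ₗ[R] R)) a • s = _
  rw [LinearMap.convOne_apply]
  simp [Algebra.smul_def, mul_comm]

theorem beta_mul (F G : WithConv (A →ₗ[R] R)) :
    toConv (beta S (F * G).ofConv) = toConv (beta S F.ofConv) * toConv (beta S G.ofConv) := by
  apply WithConv.ext
  apply TensorProduct.AlgebraTensorModule.ext
  intro s a
  change beta S (F * G).ofConv (s ⊗ₜ[R] a) =
    (toConv (beta S F.ofConv) * toConv (beta S G.ofConv)) (s ⊗ₜ[R] a)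
  have hs : s ⊗ₜ[R] a = s • ((1 : S) ⊗ₜ[R] a) := by
    rw [TensorProduct.smul_tmul', smul_eq_mul, mul_one]
  rw [hs, map_smul]
  have h2 : (toConv (beta S F.ofConv) * toConv (beta S G.ofConv)) (s • ((1 : S) ⊗ₜ[R] a)) =
      s • (toConv (beta S F.ofConv) * toConv (beta S G.ofConv)) ((1 : S) ⊗ₜ[R] a) :=
    map_smul (toConv (beta S F.ofConv) * toConv (beta S G.ofConv)).ofConv s _
  rw [h2]
  congr 1
  rw [beta_tmul]
  change (F * G) a • (1 : S) =
    (toConv (beta S F.ofConv) * toConv (beta S G.ofConv)) ((1 : S) ⊗ₜ[R] a)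
  rw [LinearMap.convMul_apply, LinearMap.convMul_apply, comul_one_tmul]
  generalize Coalgebra.comul (R := R) a = z
  induction z using TensorProduct.induction_on with
  | zero => simp
  | add x y hx hy => simp only [map_add, add_smul, hx, hy]
  | tmul x y =>
    rw [bcMap2_tmul]
    simp [Algebra.smul_def, mul_comm]

theorem beta_pow (F : WithConv (A →ₗ[R] R)) (n : ℕ) :
    toConv (beta S (F ^ n).ofConv) = (toConv (beta S F.ofConv)) ^ n := by
  induction n with
  | zero => rw [pow_zero, pow_zero, beta_one]
  | succ n ih => rw [pow_succ, pow_succ, beta_mul, ih]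

end beta


section lifting

variable {R : Type u} [CommRing R] [IsLocalRing R]
  {A : Type v} [CommRing A] [HopfAlgebra R A] [Module.Finite R A] [Module.Projective R A]

local notation "kk" => IsLocalRing.ResidueField R

theorem exists_lift (ξ : kk ⊗[R] A →ₗ[kk] kk) : ∃ φ : A →ₗ[R] R, beta kk φ = ξ := by
  let ξ₀ : A →ₗ[R] kk := (ξ.restrictScalars R) ∘ₗ (TensorProduct.mk R kk A 1)
  obtain ⟨φ, hφ⟩ := Module.projective_lifting_property (Algebra.linearMap R kk) ξ₀
    IsLocalRing.residue_surjective
  refine ⟨φ, ?_⟩
  apply TensorProduct.AlgebraTensorModule.ext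
  intro s a
  rw [beta_tmul]
  have h1 := LinearMap.congr_fun hφ a
  have h2 : algebraMap R kk (φ a) = ξ ((1 : kk) ⊗ₜ[R] a) := h1
  have hs : s ⊗ₜ[R] a = s • ((1 : kk) ⊗ₜ[R] a) := by
    rw [TensorProduct.smul_tmul', smul_eq_mul, mul_one]
  rw [hs, map_smul, ← h2, Algebra.smul_def, smul_eq_mul, mul_comm]

theorem apply_mem_of_beta_eq_zero (ψ : A →ₗ[R] R) (h : beta kk ψ = 0) (a : A) :
    ψ a ∈ IsLocalRing.maximalIdeal R := by
  have h1 := LinearMap.congr_fun h ((1 : kk) ⊗ₜ[R] a)
  rw [beta_tmul, LinearMap.zero_apply, Algebra.smul_def, mul_one] at h1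
  exact (IsLocalRing.residue_eq_zero_iff _).1 h1

theorem mem_smul_top_of_beta_eq_zero (ψ : A →ₗ[R] R) (h : beta kk ψ = 0) :
    (toConv ψ : D R A) ∈ (IsLocalRing.maximalIdeal R) • (⊤ : Submodule R (D R A)) := by
  obtain ⟨n, f, g, -, -, hfg⟩ := Module.Finite.exists_comp_eq_id_of_projective R A
  have hrec : ∀ y : A, y = ∑ j : Fin n, g y j • f (Pi.single j 1) := by
    intro y
    conv_lhs => rw [← LinearMap.id_apply (R := R) y, ← hfg, LinearMap.comp_apply]
    conv_lhs => rw [← Finset.univ_sum_single (g y)]
    rw [map_sum]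
    refine Finset.sum_congr rfl fun j _ => ?_
    rw [← map_smul]
    congr 1
    ext i
    simp [Pi.single_apply]
  have h1 : (toConv ψ : D R A) =
      ∑ j : Fin n, ψ (f (Pi.single j 1)) • (toConv ((LinearMap.proj j) ∘ₗ g) : D R A) := by
    apply WithConv.ext
    apply LinearMap.ext
    intro a
    rw [ofConv_toConv, ofConv_sum, LinearMap.sum_apply]
    conv_lhs => rw [hrec a, map_sum]
    refine Finset.sum_congr rfl fun j _ => ?_
    rw [map_smul, ofConv_smul, LinearMap.smul_apply, ofConv_toConv]
    simp [mul_comm]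
  rw [h1]
  exact Submodule.sum_mem _ fun j _ =>
    Submodule.smul_mem_smul (apply_mem_of_beta_eq_zero ψ h _) Submodule.mem_top

theorem span_pow_eq_top (ξ : kk ⊗[R] A →ₗ[kk] kk) (n : ℕ)
    (hsep : ∀ v : kk ⊗[R] A, (∀ i : Fin n, ((toConv ξ) ^ (i : ℕ)) v = 0) → v = 0)
    (φ : A →ₗ[R] R) (hφ : beta kk φ = ξ) :
    Submodule.span R (Set.range (fun i : Fin n => (toConv φ : D R A) ^ (i : ℕ))) = ⊤ := by
  set N := Submodule.span R (Set.range (fun i : Fin n => (toConv φ : D R A) ^ (i : ℕ))) with hN
  apply le_antisymm le_top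
  apply Submodule.le_of_le_smul_of_le_jacobson_bot (I := IsLocalRing.maximalIdeal R)
    Module.Finite.fg_top (IsLocalRing.maximalIdeal_le_jacobson ⊥)
  intro ψ _
  -- the separating family
  let f : Fin n → Module.Dual kk (kk ⊗[R] A) :=
    fun i => beta kk ((toConv φ : D R A) ^ (i : ℕ)).ofConv
  have hf : ∀ i, toConv (f i) = (toConv ξ) ^ (i : ℕ) := by
    intro i
    change toConv (beta kk ((toConv φ : WithConv (A →ₗ[R] R)) ^ (i : ℕ)).ofConv) = _
    rw [beta_pow, ofConv_toConv, hφ]
  have hspan := Groth.Agent.Lib.Helper25.Prime.span_eq_top_of_separating f (fun v hv =>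
    hsep v (fun i => by
      have := hv i
      rw [← hf i]
      exact this))
  have hmem : beta kk ψ.ofConv ∈ Submodule.span kk (Set.range f) := by
    rw [hspan]
    trivial
  obtain ⟨c, hc⟩ := (Submodule.mem_span_range_iff_exists_fun kk).1 hmem
  have hr : ∀ i, ∃ r : R, algebraMap R kk r = c i := fun i => IsLocalRing.residue_surjective (c i)
  choose r hr using hr
  set ψ' : A →ₗ[R] R := ψ.ofConv - ∑ i, r i • ((toConv φ : D R A) ^ (i : ℕ)).ofConv with hψ'
  have hβ : beta kk ψ' = 0 := by
    rw [hψ', beta_sub, beta_sum, ← hc, sub_eq_zero]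
    refine Finset.sum_congr rfl fun i _ => ?_
    rw [beta_smul, hr]
  have h1 := mem_smul_top_of_beta_eq_zero ψ' hβ
  have h2 : ψ = (∑ i, r i • (toConv φ : D R A) ^ (i : ℕ)) + toConv ψ' := by
    apply WithConv.ext
    rw [ofConv_add, ofConv_toConv, hψ', ofConv_sum]
    simp only [ofConv_smul]
    abel
  rw [h2]
  apply Submodule.add_mem
  · apply Submodule.mem_sup_left
    exact Submodule.sum_mem _ fun i _ => Submodule.smul_mem _ _ (Submodule.subset_span ⟨i, rfl⟩)
  · exact Submodule.mem_sup_right h1

/-- Lifting lemma: if the convolution powers of a functional on the special fibre separate points, the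
Hopf algebra is cocommutative. -/
theorem isCocomm_of_sep (ξ : kk ⊗[R] A →ₗ[kk] kk) (n : ℕ)
    (hsep : ∀ v : kk ⊗[R] A, (∀ i : Fin n, ((toConv ξ) ^ (i : ℕ)) v = 0) → v = 0) :
    Coalgebra.IsCocomm R A := by
  obtain ⟨φ, hφ⟩ := exists_lift ξ
  have hspan := span_pow_eq_top ξ n hsep φ hφ
  apply Groth.Agent.S15897.result R A
  have key : ∀ (y : D R A), (∀ i : Fin n, (toConv φ : D R A) ^ (i : ℕ) * y =
      y * (toConv φ : D R A) ^ (i : ℕ)) → ∀ x : D R A, x * y = y * x := by
    intro y hy x
    have hx : x ∈ Submodule.span R (Set.range (fun i : Fin n => (toConv φ : D R A) ^ (i : ℕ))) := by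
      rw [hspan]
      trivial
    induction hx using Submodule.span_induction with
    | mem z hz =>
      obtain ⟨i, rfl⟩ := hz
      exact hy i
    | zero => simp
    | add z w _ _ hz hw => rw [add_mul, mul_add, hz, hw]
    | smul c z _ hz => rw [smul_mul_assoc, mul_smul_comm, hz]
  intro x y
  apply key
  intro i
  symm
  apply key
  intro j
  exact pow_mul_comm _ _ _

end lifting


section betaAlg

variable {R : Type u} [CommRing R] (S : Type w) [CommRing S] [Algebra R S]
  {A : Type v} [CommRing A] [Bialgebra R A]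

theorem beta_map_mul (F : A →ₗ[R] R) (hF : ∀ a b, F (a * b) = F a * F b) (x y : S ⊗[R] A) :
    beta S F (x * y) = beta S F x * beta S F y := by
  induction x using TensorProduct.induction_on with
  | zero => simp
  | add x x' hx hx' => rw [add_mul, map_add, map_add, hx, hx', add_mul]
  | tmul s a =>
    induction y using TensorProduct.induction_on with
    | zero => simp
    | add y y' hy hy' => rw [mul_add, map_add, map_add, hy, hy', mul_add]
    | tmul t b =>
      rw [Algebra.TensorProduct.tmul_mul_tmul, beta_tmul, beta_tmul, beta_tmul, hF]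
      simp only [Algebra.smul_def, map_mul]
      ring

theorem beta_map_one (F : A →ₗ[R] R) (hF : F 1 = 1) : beta S F (1 : S ⊗[R] A) = 1 := by
  rw [Algebra.TensorProduct.one_def, beta_tmul, hF, one_smul]

/-- base change of a point -/
noncomputable def betaAlg (g : A →ₐ[R] R) : S ⊗[R] A →ₐ[S] S :=
  AlgHom.ofLinearMap (beta S g.toLinearMap) (beta_map_one S _ (map_one g))
    (beta_map_mul S _ (fun a b => map_mul g a b))

theorem betaAlg_toLinearMap (g : A →ₐ[R] R) : (betaAlg S g).toLinearMap = beta S g.toLinearMap := rfl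

theorem beta_counit : beta S (Coalgebra.counit (R := R) (A := A)) =
    Coalgebra.counit (R := S) (A := S ⊗[R] A) := by
  apply TensorProduct.AlgebraTensorModule.ext
  intro s a
  rw [beta_tmul, TensorProduct.counit_tmul]
  rfl

theorem betaAlg_counit : betaAlg S (Bialgebra.counitAlgHom R A) = Bialgebra.counitAlgHom S (S ⊗[R] A) := by
  apply AlgHom.toLinearMap_injective
  rw [betaAlg_toLinearMap]
  exact beta_counit S

theorem beta_injective (hS : Function.Injective (algebraMap R S)) (F G : A →ₗ[R] R)
    (h : beta S F = beta S G) : F = G := by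
  apply LinearMap.ext
  intro a
  have h1 := LinearMap.congr_fun h ((1 : S) ⊗ₜ[R] a)
  rw [beta_tmul, beta_tmul, Algebra.smul_def, Algebra.smul_def, mul_one, mul_one] at h1
  exact hS h1

end betaAlg

section field

variable {k : Type u} [Field k] {B : Type v} [CommRing B] [HopfAlgebra k B] [Module.Finite k B]

/-- in the nilpotent case all points agree with the counit -/
theorem point_eq_counit_of_nilpotent
    (hnil : ∀ x : B, Coalgebra.counit (R := k) x = 0 → IsNilpotent x) (g : B →ₐ[k] k) :
    g = Bialgebra.counitAlgHom k B := by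
  apply AlgHom.ext
  intro x
  have h1 : Coalgebra.counit (R := k) (x - algebraMap k B (Coalgebra.counit (R := k) x)) = 0 := by
    rw [map_sub]
    change _ - Bialgebra.counitAlgHom k B (algebraMap k B _) = 0
    rw [AlgHom.commutes]
    simp
  have h2 : IsNilpotent (g (x - algebraMap k B (Coalgebra.counit (R := k) x))) := (hnil _ h1).map g
  have h3 := h2.eq_zero
  rw [map_sub, AlgHom.commutes, sub_eq_zero] at h3
  rw [h3]
  simp

variable {p : ℕ} (hp : p.Prime) (hB : Module.finrank k B = p)

include hp hB in
theorem card_points_of_ne (g : B →ₐ[k] k) (hg : g ≠ Bialgebra.counitAlgHom k B) :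
    Nat.card (AlgebraicClosure k ⊗[k] B →ₐ[AlgebraicClosure k] AlgebraicClosure k) = p := by
  have hC : Module.finrank (AlgebraicClosure k) (AlgebraicClosure k ⊗[k] B) = p := by
    rw [Module.finrank_baseChange, hB]
  rcases Groth.Agent.Lib.Helper25.Prime.card_points_or_nilpotent hp hC with h | ⟨-, hnil⟩
  · exact h
  · exfalso
    apply hg
    have h1 := point_eq_counit_of_nilpotent hnil (betaAlg (AlgebraicClosure k) g)
    rw [← betaAlg_counit] at h1
    apply AlgHom.toLinearMap_injective
    apply beta_injective (AlgebraicClosure k) (algebraMap k (AlgebraicClosure k)).injective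
    have h2 := congrArg AlgHom.toLinearMap h1
    exact h2

end field


section field2

variable {k : Type u} [Field k] {B : Type v} [CommRing B] [HopfAlgebra k B] [Module.Finite k B]
  {p : ℕ} (hp : p.Prime) (hB : Module.finrank k B = p)

include hp hB in
/-- a point different from the unit section: its convolution powers separate the points of `B` -/
theorem sep_of_point (g : B →ₐ[k] k) (hg : g ≠ Bialgebra.counitAlgHom k B) :
    ∀ v : B, (∀ i : Fin p, ((toConv g.toLinearMap) ^ (i : ℕ)) v = 0) → v = 0 := by
  classical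
  haveI : Fact p.Prime := ⟨hp⟩
  set K := AlgebraicClosure k with hK
  have hcard := card_points_of_ne hp hB g hg
  set gK : WithConv (K ⊗[k] B →ₐ[K] K) := toConv (betaAlg K g) with hgK
  have hgK1 : gK ≠ 1 := by
    intro h
    apply hg
    have h1 : betaAlg K g = betaAlg K (Bialgebra.counitAlgHom k B) := by
      rw [betaAlg_counit]
      exact congrArg ofConv h
    apply AlgHom.toLinearMap_injective
    apply beta_injective K (algebraMap k K).injective
    exact congrArg AlgHom.toLinearMap h1
  have hcard' : Nat.card (WithConv (K ⊗[k] B →ₐ[K] K)) = p := by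
    rw [← hcard]
    exact Nat.card_congr (WithConv.equiv _)
  have hord : orderOf gK = p := by
    apply orderOf_eq_prime
    · rw [← hcard']
      exact pow_card_eq_one'
    · exact hgK1
  -- the powers of g
  let h : Fin p → (B →ₐ[k] k) := fun i => ((toConv g) ^ (i : ℕ)).ofConv
  have hlin : ∀ i : Fin p, toConv (h i).toLinearMap = (toConv g.toLinearMap) ^ (i : ℕ) := by
    intro i
    exact AlgHom.toLinearMap_convPow (toConv g) i
  have hinj : Function.Injective h := by
    intro i j hij
    have h1 : (toConv g.toLinearMap) ^ (i : ℕ) = (toConv g.toLinearMap) ^ (j : ℕ) := by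
      rw [← hlin, ← hlin, hij]
    have h2 : (toConv (beta K g.toLinearMap)) ^ (i : ℕ) = (toConv (beta K g.toLinearMap)) ^ (j : ℕ) := by
      have e := beta_pow K (toConv g.toLinearMap) (i : ℕ)
      have e' := beta_pow K (toConv g.toLinearMap) (j : ℕ)
      rw [ofConv_toConv] at e e'
      rw [← e, ← e', h1]
    have h3 : gK ^ (i : ℕ) = gK ^ (j : ℕ) := by
      apply ofConv_injective
      apply AlgHom.toLinearMap_injective
      apply toConv_injective
      rw [AlgHom.toLinearMap_convPow, AlgHom.toLinearMap_convPow]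
      exact h2
    have h4 := pow_injOn_Iio_orderOf (x := gK) (by rw [hord]; exact i.2) (by rw [hord]; exact j.2) h3
    exact Fin.ext h4
  have hli : LinearIndependent k (fun i : Fin p => (h i).toLinearMap) :=
    (linearIndependent_toLinearMap k B k).comp h hinj
  have hspan : Submodule.span k (Set.range (fun i : Fin p => (h i).toLinearMap)) = ⊤ := by
    apply hli.span_eq_top_of_card_eq_finrank'
    rw [Fintype.card_fin, ← hB]
    exact (Subspace.dual_finrank_eq (K := k) (V := B)).symm
  intro v hv
  rw [← Module.forall_dual_apply_eq_zero_iff k v]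
  intro φ
  have hφ : φ ∈ Submodule.span k (Set.range (fun i : Fin p => (h i).toLinearMap)) := by
    rw [hspan]; trivial
  induction hφ using Submodule.span_induction with
  | mem ψ hψ =>
    obtain ⟨i, rfl⟩ := hψ
    have := hv i
    rw [← hlin] at this
    exact this
  | zero => rfl
  | add φ ψ _ _ h1 h2 => rw [LinearMap.add_apply, h1, h2, add_zero]
  | smul c φ _ h1 => rw [LinearMap.smul_apply, h1, smul_zero]

end field2


section field3

variable {k : Type u} [Field k] {B : Type v} [CommRing B] [HopfAlgebra k B] [Module.Finite k B]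
  {p : ℕ} (hp : p.Prime) (hB : Module.finrank k B = p)

theorem phi_eq_pow (ξ : B →ₗ[k] k) (n : ℕ) :
    toConv (Groth.Agent.Lib.Helper25.Prime.phi ξ n) = (toConv ξ) ^ n := by
  induction n with
  | zero =>
    rw [pow_zero]
    apply WithConv.ext
    apply LinearMap.ext
    intro a
    change Coalgebra.counit (R := k) a = (1 : WithConv (B →ₗ[k] k)) a
    rw [LinearMap.convOne_apply]
    rfl
  | succ n ih =>
    rw [pow_succ, ← ih, Groth.Agent.Lib.Helper25.Prime.phi_succ]
    rfl

theorem algHom_baseChange_ext {K : Type w} [Field K] [Algebra k K]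
    (g g' : K ⊗[k] B →ₐ[K] K) (h : ∀ b : B, g ((1 : K) ⊗ₜ[k] b) = g' ((1 : K) ⊗ₜ[k] b)) : g = g' := by
  apply AlgHom.ext
  intro z
  induction z using TensorProduct.induction_on with
  | zero => simp
  | add x y hx hy => rw [map_add, map_add, hx, hy]
  | tmul c b =>
    have hs : c ⊗ₜ[k] b = c • ((1 : K) ⊗ₜ[k] b) := by
      rw [TensorProduct.smul_tmul', smul_eq_mul, mul_one]
    rw [hs, map_smul, map_smul, h]

include hp hB in
/-- the infinitesimal case: a functional whose convolution powers separate points -/
theorem sep_of_isLocalRing [IsLocalRing B] :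
    ∃ ξ : B →ₗ[k] k, ∀ v : B, (∀ i : Fin p, ((toConv ξ) ^ (i : ℕ)) v = 0) → v = 0 := by
  haveI : Fact p.Prime := ⟨hp⟩
  have hnil : ∀ x : B, Coalgebra.counit (R := k) x = 0 → IsNilpotent x := by
    intro x hx
    have hsurj : Function.Surjective (Bialgebra.counitAlgHom k B) := fun c =>
      ⟨algebraMap k B c, by rw [AlgHom.commutes]; rfl⟩
    have hmax : (RingHom.ker (Bialgebra.counitAlgHom k B)).IsMaximal :=
      RingHom.ker_isMaximal_of_surjective _ hsurj
    have h1 : x ∈ IsLocalRing.maximalIdeal B := by
      rw [← IsLocalRing.eq_maximalIdeal hmax]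
      exact hx
    haveI : IsArtinianRing B := IsArtinianRing.of_finite k B
    rw [← IsLocalRing.jacobson_eq_maximalIdeal (⊥ : Ideal B) bot_ne_top] at h1
    obtain ⟨n, hn⟩ := IsArtinianRing.isNilpotent_jacobson_bot (R := B)
    refine ⟨n, ?_⟩
    have h2 := Ideal.pow_mem_pow h1 n
    rw [hn] at h2
    exact h2
  set K := AlgebraicClosure k with hK
  have hC : Module.finrank K (K ⊗[k] B) = p := by
    rw [Module.finrank_baseChange, hB]
  have hchar : CharP k p := by
    rcases Groth.Agent.Lib.Helper25.Prime.card_points_or_nilpotent hp hC with h | ⟨hchar, -⟩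
    · exfalso
      have hsub : Subsingleton (K ⊗[k] B →ₐ[K] K) := by
        constructor
        intro g g'
        have key : ∀ (g : K ⊗[k] B →ₐ[K] K) (b : B),
            g ((1 : K) ⊗ₜ[k] b) = algebraMap k K (Coalgebra.counit (R := k) b) := by
          intro g b
          have h1 : Coalgebra.counit (R := k)
              (b - algebraMap k B (Coalgebra.counit (R := k) b)) = 0 := by
            rw [map_sub]
            change _ - Bialgebra.counitAlgHom k B (algebraMap k B _) = 0
            rw [AlgHom.commutes]
            simp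
          have h2 : IsNilpotent ((1 : K) ⊗ₜ[k] (b - algebraMap k B (Coalgebra.counit (R := k) b))) :=
            (hnil _ h1).map (Algebra.TensorProduct.includeRight : B →ₐ[k] K ⊗[k] B)
          have h3 := (h2.map g).eq_zero
          rw [TensorProduct.tmul_sub, map_sub, sub_eq_zero] at h3
          rw [h3, Algebra.algebraMap_eq_smul_one, TensorProduct.tmul_smul,
            ← Algebra.TensorProduct.one_def, ← algebraMap_smul K, map_smul, map_one, smul_eq_mul,
            mul_one]
        exact algHom_baseChange_ext g g' (fun b => by rw [key g b, key g' b])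
      have h5 : Nat.card (K ⊗[k] B →ₐ[K] K) ≤ 1 := Finite.card_le_one_iff_subsingleton.2 hsub
      rw [h] at h5
      exact absurd hp.one_lt (by omega)
    · exact (RingHom.charP_iff (algebraMap k K) (algebraMap k K).injective p).2 hchar
  haveI := hchar
  obtain ⟨x, ξ, hξ, hx, hξx⟩ := Groth.Agent.Lib.Helper25.Prime.exists_local_data p hnil hB
  refine ⟨ξ, fun v hv => Groth.Agent.Lib.Helper25.Prime.eq_zero_of_phi p hξ hx hξx hB v (fun n => ?_)⟩
  have h1 := hv n
  rw [← phi_eq_pow] at h1
  exact h1

end field3


section localCase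

variable {R : Type u} [CommRing R] [IsLocalRing R]
  {A : Type v} [CommRing A] [HopfAlgebra R A] [Module.Finite R A] [Module.Projective R A]
  {p : ℕ} (hp : p.Prime) (hrk : Module.finrank R A = p)

include hp hrk in
/-- the case where `A` has a maximal ideal `n` not over the unit section: pass to `A_n` -/
theorem isCocomm_of_maximal_ne (n : Ideal A) (hn : n.IsMaximal) (a : A) (han : a ∈ n)
    (ha : Coalgebra.counit (R := R) a ∉ IsLocalRing.maximalIdeal R)
    (hmn : (IsLocalRing.maximalIdeal R).map (algebraMap R A) ≤ n) : Coalgebra.IsCocomm R A := by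
  haveI : Module.Free R A := Module.free_of_flat_of_isLocalRing
  haveI : n.IsPrime := hn.isPrime
  set R' := Localization.AtPrime n with hR'
  haveI : Module.Flat R R' := Module.Flat.trans R A R'
  haveI : IsLocalHom (algebraMap R R') := by
    constructor
    intro r hr
    by_contra hnu
    have h1 : r ∈ IsLocalRing.maximalIdeal R := (IsLocalRing.mem_maximalIdeal r).2 hnu
    have h2 : algebraMap R A r ∈ n := hmn (Ideal.mem_map_of_mem _ h1)
    have h3 : algebraMap A R' (algebraMap R A r) ∈ IsLocalRing.maximalIdeal R' :=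
      (IsLocalization.AtPrime.to_map_mem_maximal_iff R' n _).2 h2
    rw [← IsScalarTower.algebraMap_apply] at h3
    exact ((IsLocalRing.mem_maximalIdeal _).1 h3) hr
  haveI : Module.FaithfullyFlat R R' := Module.FaithfullyFlat.of_flat_of_isLocalHom
  have hrk' : Module.finrank R' (R' ⊗[R] A) = p := by
    rw [Module.finrank_baseChange, hrk]
  haveI : Module.Free R' (R' ⊗[R] A) := Module.free_of_flat_of_isLocalRing
  -- the tautological point
  let g' : R' ⊗[R] A →ₐ[R'] R' :=
    Algebra.TensorProduct.lift (Algebra.ofId R' R') (IsScalarTower.toAlgHom R A R')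
      (fun _ _ => Commute.all _ _)
  have hg' : g' ((1 : R') ⊗ₜ[R] a) = algebraMap A R' a := by
    simp [g']
  set k' := IsLocalRing.ResidueField R' with hk'
  have hB' : Module.finrank k' (k' ⊗[R'] (R' ⊗[R] A)) = p := by
    rw [Module.finrank_baseChange, hrk']
  have hne : betaAlg k' g' ≠ Bialgebra.counitAlgHom k' (k' ⊗[R'] (R' ⊗[R] A)) := by
    intro h
    have h1 := AlgHom.congr_fun h ((1 : k') ⊗ₜ[R'] ((1 : R') ⊗ₜ[R] a))
    change beta k' g'.toLinearMap ((1 : k') ⊗ₜ[R'] ((1 : R') ⊗ₜ[R] a)) =
      Coalgebra.counit (R := k') ((1 : k') ⊗ₜ[R'] ((1 : R') ⊗ₜ[R] a)) at h1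
    rw [beta_tmul, ← beta_counit, beta_tmul, ← beta_counit, beta_tmul] at h1
    change g' ((1 : R') ⊗ₜ[R] a) • (1 : k') = _ at h1
    rw [hg', Algebra.smul_def, mul_one, Algebra.smul_def, mul_one, Algebra.smul_def, mul_one] at h1
    have h2 : algebraMap R' k' (algebraMap A R' a) = 0 := by
      apply (IsLocalRing.residue_eq_zero_iff _).2
      exact (IsLocalization.AtPrime.to_map_mem_maximal_iff R' n _).2 han
    rw [h2] at h1
    have h3 : IsUnit (Coalgebra.counit (R := R) a) := by
      by_contra hnu
      exact ha ((IsLocalRing.mem_maximalIdeal _).2 hnu)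
    have h4 : IsUnit (algebraMap R' k' (algebraMap R R' (Coalgebra.counit (R := R) a))) :=
      (h3.map (algebraMap R R')).map (algebraMap R' k')
    exact h4.ne_zero h1.symm
  have hsep := sep_of_point (k := k') (B := k' ⊗[R'] (R' ⊗[R] A)) hp hB' (betaAlg k' g') hne
  haveI : Coalgebra.IsCocomm R' (R' ⊗[R] A) := isCocomm_of_sep (betaAlg k' g').toLinearMap p hsep
  exact Groth.Agent.R2.H23.TorsHopf.isCocomm_of_faithfullyFlat R' A

include hp hrk in
/-- Theorem 1 of Oort–Tate over a local base: a group scheme of prime order is commutative. -/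
theorem isCocomm_of_isLocalRing_base : Coalgebra.IsCocomm R A := by
  haveI : Module.Free R A := Module.free_of_flat_of_isLocalRing
  set kk := IsLocalRing.ResidueField R with hkk
  have hB : Module.finrank kk (kk ⊗[R] A) = p := by
    rw [Module.finrank_baseChange, hrk]
  by_cases hloc : IsLocalRing A
  · haveI : Nontrivial (kk ⊗[R] A) := by
      apply Module.nontrivial_of_finrank_pos (R := kk)
      rw [hB]
      exact hp.pos
    have hsurj : Function.Surjective
        (Algebra.TensorProduct.includeRight : A →ₐ[R] kk ⊗[R] A).toRingHom := by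
      intro z
      induction z using TensorProduct.induction_on with
      | zero => exact ⟨0, map_zero _⟩
      | add x y hx hy =>
        obtain ⟨x', rfl⟩ := hx
        obtain ⟨y', rfl⟩ := hy
        exact ⟨x' + y', map_add _ _ _⟩
      | tmul c b =>
        obtain ⟨r, rfl⟩ := IsLocalRing.residue_surjective c
        refine ⟨r • b, ?_⟩
        change (1 : kk) ⊗ₜ[R] (r • b) = IsLocalRing.residue R r ⊗ₜ[R] b
        rw [TensorProduct.tmul_smul, TensorProduct.smul_tmul', Algebra.smul_def, mul_one]
        rfl
    haveI : IsLocalRing (kk ⊗[R] A) := IsLocalRing.of_surjective' _ hsurj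
    obtain ⟨ξ, hξ⟩ := sep_of_isLocalRing hp hB
    exact isCocomm_of_sep ξ p hξ
  · -- a maximal ideal different from the one of the unit section
    have hεsurj : Function.Surjective (Bialgebra.counitAlgHom R A) := fun c =>
      ⟨algebraMap R A c, by rw [AlgHom.commutes]; rfl⟩
    set n₀ : Ideal A := Ideal.comap (Bialgebra.counitAlgHom R A) (IsLocalRing.maximalIdeal R)
      with hn₀
    have hmax₀ : n₀.IsMaximal := Ideal.comap_isMaximal_of_surjective _ hεsurj
    have hex : ∃ n : Ideal A, n.IsMaximal ∧ n ≠ n₀ := by
      by_contra h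
      push Not at h
      exact hloc (IsLocalRing.of_unique_max_ideal ⟨n₀, hmax₀, fun n hn => h n hn⟩)
    obtain ⟨n, hn, hne⟩ := hex
    have hnle : ¬ n ≤ n₀ := fun hle => hne (hn.eq_of_le hmax₀.ne_top hle)
    obtain ⟨a, han, ha⟩ := SetLike.not_le_iff_exists.1 hnle
    -- `n` lies over the maximal ideal of `R`
    have hmn : (IsLocalRing.maximalIdeal R).map (algebraMap R A) ≤ n := by
      rw [Ideal.map_le_iff_le_comap]
      haveI : (Ideal.comap (algebraMap R A) n).IsMaximal :=
        Ideal.isMaximal_comap_of_isIntegral_of_isMaximal n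
      exact (IsLocalRing.eq_maximalIdeal ‹_›).ge
    exact isCocomm_of_maximal_ne hp hrk n hn a han ha hmn

end localCase


section globalCase

variable {R : Type u} [CommRing R]
  {A : Type v} [CommRing A] [HopfAlgebra R A] [Module.Finite R A] [Module.Projective R A]
  {p : ℕ} (hp : p.Prime) (hrk : ∀ q : PrimeSpectrum R, Module.rankAtStalk A q = p)

include hp hrk in
/-- **Theorem 1 of Oort–Tate**: a finite locally free group scheme of prime order over any base is
commutative. -/
theorem isCocomm_of_rank_prime : Coalgebra.IsCocomm R A := by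
  constructor
  apply LinearMap.ext
  intro a
  rw [LinearMap.comp_apply, ← sub_eq_zero]
  haveI : ∀ (P : Ideal R) [P.IsMaximal], IsLocalizedModule P.primeCompl
      (TensorProduct.mk R (Localization.AtPrime P) (A ⊗[R] A) 1) := fun P _ =>
    (isLocalizedModule_iff_isBaseChange (S := P.primeCompl)
      (A := Localization.AtPrime P) _).mpr (TensorProduct.isBaseChange R (A ⊗[R] A) _)
  refine Module.eq_zero_of_localization_maximal
    (fun (P : Ideal R) _ => Localization.AtPrime P ⊗[R] (A ⊗[R] A))
    (fun (P : Ideal R) _ => TensorProduct.mk R (Localization.AtPrime P) (A ⊗[R] A) 1) _ ?_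
  intro P hP
  have hrkP : Module.finrank (Localization.AtPrime P) (Localization.AtPrime P ⊗[R] A) = p := by
    haveI : Module.Free (Localization.AtPrime P) (Localization.AtPrime P ⊗[R] A) :=
      Module.free_of_flat_of_isLocalRing
    have h1 := Module.rankAtStalk_eq_finrank_of_free (R := Localization.AtPrime P)
      (M := Localization.AtPrime P ⊗[R] A)
    have h2 := Module.rankAtStalk_baseChange (R := R) (M := A) (S := Localization.AtPrime P)
      (IsLocalRing.closedPoint (Localization.AtPrime P))
    rw [hrk] at h2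
    rw [← h2, h1]
    rfl
  haveI : Coalgebra.IsCocomm (Localization.AtPrime P) (Localization.AtPrime P ⊗[R] A) :=
    isCocomm_of_isLocalRing_base hp hrkP
  exact Groth.Agent.R2.H23.TorsHopf.one_tmul_comm_comul_sub (Localization.AtPrime P) A a

end globalCase

end Groth.Agent.R2.H90.Thm1
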