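/-
Helper library (helper90): free basis of `A⟦X⟧` over itself along a substitution endomorphism,
via iterated Weierstrass division over a complete local ring.
-/
import Mathlib

open PowerSeries IsLocalRing

namespace Groth.Agent.R2.H90.Weierstrass

variable {A : Type*} [CommRing A]

/-- the shift of a power series -/
noncomputable def shift (c : A⟦X⟧) : A⟦X⟧ := PowerSeries.mk fun n => coeff (n + 1) c

lemma eq_C_add_X_mul_shift (c : A⟦X⟧) : c = C (constantCoeff c) + X * shift c := by
  rw [add_comm]; exact c.eq_X_mul_shift_add_const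

lemma coeff_iterate_shift (c : A⟦X⟧) (j n : ℕ) : coeff n (shift^[j] c) = coeff (n + j) c := by
  induction j generalizing c n with
  | zero => simp
  | succ j ih =>
    rw [Function.iterate_succ_apply, ih]
    simp [shift, add_assoc]

lemma subst_eq (f : A⟦X⟧) (hf : HasSubst f) (c : A⟦X⟧) :
    subst f c = C (constantCoeff c) + f * subst f (shift c) := by
  conv_lhs => rw [eq_C_add_X_mul_shift c]
  rw [subst_add hf, subst_mul hf, subst_X hf]
  congr 1
  exact subst_C _

/-- the polynomial with given coefficients -/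
noncomputable def polyOf {h : ℕ} (a : Fin h → A) : Polynomial A :=
  ∑ i : Fin h, Polynomial.C (a i) * Polynomial.X ^ (i : ℕ)

lemma degree_polyOf_lt {h : ℕ} (a : Fin h → A) : (polyOf a).degree < h :=
  Polynomial.degree_sum_fin_lt a

lemma coeff_polyOf {h : ℕ} (a : Fin h → A) (i : Fin h) : (polyOf a).coeff i = a i := by
  classical
  simp only [polyOf, Polynomial.finsetSum_coeff, Polynomial.coeff_C_mul, Polynomial.coeff_X_pow]
  rw [Finset.sum_eq_single i]
  · simp
  · intro j _ hj
    have : (i : ℕ) ≠ (j : ℕ) := fun h' => hj (Fin.ext h'.symm)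
    simp [this]
  · simp

lemma coe_polyOf {h : ℕ} (a : Fin h → A) :
    ((polyOf a : Polynomial A) : A⟦X⟧) = ∑ i : Fin h, C (a i) * X ^ (i : ℕ) := by
  rw [polyOf, ← Polynomial.coeToPowerSeries.ringHom_apply, map_sum]
  simp [Polynomial.coeToPowerSeries.ringHom_apply]

/-- The expression `∑ i, c_i(f) X^i`. -/
noncomputable def comb {h : ℕ} (f : A⟦X⟧) (c : Fin h → A⟦X⟧) : A⟦X⟧ :=
  ∑ i : Fin h, subst f (c i) * X ^ (i : ℕ)

lemma comb_eq {h : ℕ} (f : A⟦X⟧) (hf : HasSubst f) (c : Fin h → A⟦X⟧) :
    comb f c = (polyOf fun i => constantCoeff (c i) : Polynomial A) +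
      f * comb f (fun i => shift (c i)) := by
  rw [coe_polyOf, comb, comb, Finset.mul_sum, ← Finset.sum_add_distrib]
  refine Finset.sum_congr rfl fun i _ => ?_
  rw [subst_eq f hf (c i)]
  ring


section Local

variable [IsLocalRing A] (f : A⟦X⟧) (hf : HasSubst f) (hres : f.map (residue A) ≠ 0)

/-- the Weierstrass degree of `f` -/
noncomputable abbrev wdeg (f : A⟦X⟧) : ℕ := (f.map (residue A)).order.toNat

include hf hres in
lemma comb_eq_zero_step [IsHausdorff (maximalIdeal A) A]
    (d : Fin (wdeg f) → A⟦X⟧) (hd : comb f d = 0) :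
    (∀ i, constantCoeff (d i) = 0) ∧ comb f (fun i => shift (d i)) = 0 := by
  have hdiv : f.IsWeierstrassDivisor := IsWeierstrassDivisor.of_map_ne_zero hres
  rw [comb_eq f hf d] at hd
  have h1 : f * comb f (fun i => shift (d i)) =
      ((-(polyOf fun i => constantCoeff (d i)) : Polynomial A) : A⟦X⟧) := by
    rw [Polynomial.coe_neg]
    linear_combination hd
  have hdeg : (-(polyOf fun i => constantCoeff (d i)) : Polynomial A).degree <
      ((f.map (Ideal.Quotient.mk (maximalIdeal A))).order.toNat : WithBot ℕ) := by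
    rw [Polynomial.degree_neg]
    exact degree_polyOf_lt _
  obtain ⟨hq, hr⟩ := hdiv.eq_zero_of_mul_eq hdeg h1
  refine ⟨fun i => ?_, hq⟩
  have := congrArg (fun p => Polynomial.coeff p i) hr
  simpa [coeff_polyOf] using this

include hf hres in
lemma comb_eq_zero [IsHausdorff (maximalIdeal A) A]
    (d : Fin (wdeg f) → A⟦X⟧) (hd : comb f d = 0) : d = 0 := by
  have key : ∀ (j : ℕ) (d : Fin (wdeg f) → A⟦X⟧), comb f d = 0 → ∀ i, coeff j (d i) = 0 := by
    intro j
    induction j with
    | zero =>
      intro d hd i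
      simpa using (comb_eq_zero_step f hf hres d hd).1 i
    | succ j ih =>
      intro d hd i
      have := ih _ (comb_eq_zero_step f hf hres d hd).2 i
      simpa [shift] using this
  funext i
  ext j
  simpa using key j d hd i


section Existence

variable [IsAdicComplete (maximalIdeal A) A]

/-- iterated Weierstrass quotients -/
noncomputable def qseq (g : A⟦X⟧) : ℕ → A⟦X⟧
  | 0 => g
  | (j + 1) => (qseq g j) /ʷ f

/-- iterated Weierstrass remainders -/
noncomputable def rseq (g : A⟦X⟧) (j : ℕ) : Polynomial A := (qseq f g j) %ʷ f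

include hres in
lemma qseq_eq (g : A⟦X⟧) (j : ℕ) : qseq f g j = f * qseq f g (j + 1) + (rseq f g j : A⟦X⟧) := by
  rw [rseq, qseq]
  exact eq_mul_weierstrassDiv_add_weierstrassMod _ hres

lemma degree_rseq_lt (g : A⟦X⟧) (j : ℕ) : (rseq f g j).degree < wdeg f :=
  degree_weierstrassMod_lt _ _

/-- the coefficient series -/
noncomputable def cseq (g : A⟦X⟧) (i : Fin (wdeg f)) : A⟦X⟧ :=
  PowerSeries.mk fun j => (rseq f g j).coeff i

lemma polyOf_coeff_eq {h : ℕ} (r : Polynomial A) (hr : r.degree < h) :
    polyOf (fun i : Fin h => r.coeff i) = r := by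
  ext n
  by_cases hn : n < h
  · exact coeff_polyOf (fun i : Fin h => r.coeff i) ⟨n, hn⟩
  · push Not at hn
    rw [Polynomial.coeff_eq_zero_of_degree_lt, Polynomial.coeff_eq_zero_of_degree_lt]
    · exact lt_of_lt_of_le hr (by exact_mod_cast hn)
    · exact lt_of_lt_of_le (degree_polyOf_lt _) (by exact_mod_cast hn)

include hf hres in
lemma sub_comb_eq (g : A⟦X⟧) (N : ℕ) :
    g - comb f (cseq f g) =
      f ^ N * (qseq f g N - comb f (fun i => shift^[N] (cseq f g i))) := by
  induction N with
  | zero => simp [qseq]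
  | succ N ih =>
    rw [ih, qseq_eq f hres g N, comb_eq f hf (fun i => shift^[N] (cseq f g i))]
    have h1 : (polyOf fun i => constantCoeff (shift^[N] (cseq f g i))) = rseq f g N := by
      have : (fun i : Fin (wdeg f) => constantCoeff (shift^[N] (cseq f g i))) =
          fun i : Fin (wdeg f) => (rseq f g N).coeff i := by
        funext i
        rw [← coeff_zero_eq_constantCoeff_apply, coeff_iterate_shift]
        simp [cseq]
      rw [this]
      exact polyOf_coeff_eq _ (degree_rseq_lt f g N)
    rw [h1]
    have h2 : (fun i => shift (shift^[N] (cseq f g i))) = fun i => shift^[N + 1] (cseq f g i) := by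
      funext i
      rw [Function.iterate_succ_apply']
    rw [h2, pow_succ]
    ring

include hf hres in
lemma eq_comb (hf0 : constantCoeff f = 0) (g : A⟦X⟧) : g = comb f (cseq f g) := by
  rw [← sub_eq_zero]
  ext n
  rw [sub_comb_eq f hf hres g (n + 1)]
  have hfX : f = X * shift f := by
    conv_lhs => rw [eq_C_add_X_mul_shift f, hf0]
    simp
  rw [hfX, mul_pow, mul_assoc, coeff_X_pow_mul']
  simp

end Existence


lemma comb_sub {h : ℕ} (f : A⟦X⟧) (hf : HasSubst f) (c c' : Fin h → A⟦X⟧) :
    comb f (c - c') = comb f c - comb f c' := by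
  simp only [comb, Pi.sub_apply, subst_sub hf, sub_mul, Finset.sum_sub_distrib]

include hf hres in
theorem exists_free_basis [IsAdicComplete (maximalIdeal A) A] (hf0 : constantCoeff f = 0) :
    ∃ (n : ℕ) (b : Fin n → A⟦X⟧), ∀ g : A⟦X⟧, ∃! c : Fin n → A⟦X⟧,
      g = ∑ i, subst f (c i) * b i := by
  refine ⟨wdeg f, fun i => X ^ (i : ℕ), fun g => ⟨cseq f g, eq_comb f hf hres hf0 g, ?_⟩⟩
  intro c' hc'
  have h1 : comb f (c' - cseq f g) = 0 := by
    rw [comb_sub f hf, sub_eq_zero]
    exact hc'.symm.trans (eq_comb f hf hres hf0 g)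
  have := comb_eq_zero f hf hres _ h1
  exact sub_eq_zero.mp this

include hf in
theorem not_exists_free_basis (hres0 : f.map (residue A) = 0) :
    ¬ ∃ (n : ℕ) (b : Fin n → A⟦X⟧), ∀ g : A⟦X⟧, ∃ c : Fin n → A⟦X⟧,
      g = ∑ i, subst f (c i) * b i := by
  classical
  rintro ⟨n, b, hb⟩
  let k := ResidueField A
  have hspan : (⊤ : Submodule k k⟦X⟧) ≤
      Submodule.span k (Set.range fun i => (b i).map (residue A)) := by
    intro gbar _
    obtain ⟨g, rfl⟩ := PowerSeries.map_surjective (residue A) residue_surjective gbar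
    obtain ⟨c, hc⟩ := hb g
    rw [hc, map_sum]
    refine Submodule.sum_mem _ fun i _ => ?_
    have e : PowerSeries.map (residue A) (subst f (c i)) =
        subst (PowerSeries.map (residue A) f) (PowerSeries.map (residue A) (c i)) :=
      map_subst hf (c i)
    rw [map_mul, e, hres0]
    have : subst (0 : k⟦X⟧) ((c i).map (residue A)) =
        C (constantCoeff ((c i).map (residue A))) := by
      have := subst_zero_eq_C_constantCoeff (R := k) (S := k) (τ := Unit)
        (f := (c i).map (residue A))
      simp only [Algebra.algebraMap_self, MvPowerSeries.map_id, RingHom.id_apply] at this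
      exact this
    rw [this, ← smul_eq_C_mul]
    exact Submodule.smul_mem _ _ (Submodule.subset_span ⟨i, rfl⟩)
  have hfin : Module.Finite k k⟦X⟧ := by
    refine ⟨⟨Finset.univ.image fun i => (b i).map (residue A), ?_⟩⟩
    rw [Finset.coe_image, Finset.coe_univ, Set.image_univ]
    exact top_le_iff.mp hspan
  have hinj : Function.Injective (Polynomial.coeToPowerSeries.algHom (R := k) k).toLinearMap := by
    intro p q hpq
    simpa [Polynomial.coeToPowerSeries.algHom_apply] using hpq
  have : Module.Finite k (Polynomial k) := Module.Finite.of_injective _ hinj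
  exact Polynomial.not_finite this

end Local

end Groth.Agent.R2.H90.Weierstrass
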