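import Mathlib
import Groth.Agent.R2.H91AmpleEmb
import Groth.Agent.Lib.Helper23SecTw10

/-!
# Projective embeddings by all large powers of an ample module (helper91)

* `exists_embedding_of_cover_twist` : the embedding theorem of `H91AmpleEmb` with an auxiliary invertible
  module `E` trivial on the affine cover `X_{σ_x}`: all `(E ⊗ L₁^k) ⊗ L₁`, `k ≥ k₀`, are very ample.
* `exists_embedding_eventually` : for `L` ample on `X` locally of finite type over `Spec B`, every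
  `L^n`, `n ≥ n₀`, is the pullback of `O(1)` along an immersion into some `P^N_B` (EGA II 4.5.10).

(The translation to `RelAmple.IsRelVeryAmplePn` over an affine base is in `H91PnAffine`.)
-/

set_option autoImplicit false
set_option linter.style.haveILetI false
set_option linter.unusedSectionVars false
universe u

open CategoryTheory CategoryTheory.Limits AlgebraicGeometry TopologicalSpace Opposite

namespace Groth.Agent.R2.H91.AmpleEmb

section sec

open Groth.Agent.Helper13ProjUP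
open Groth.Agent.Lib.Helper23.SecTw Groth.Agent.Lib.Helper6 Groth.Agent.Lib.Helper23.GenLocus
open Groth.Agent.Lib.Helper23.PB Groth.Agent.Lib.Helper23.Extend Groth.Agent.Lib.Helper23.AmpleIso
open Groth.Agent.Lib.Helper23.LocGen Groth.Agent.Lib.Helper23.TensorUnit

variable {X : Scheme.{u}}

/-- the generating locus of `secHom M w` only depends on the restrictions of `w` -/
theorem genLocus_eq_of_sv_eq (M : X.Modules) (hM : PicF.IsInvertible M)
    (a b : Coh.structureModule X ⟶ M) (h : ∀ W : X.Opens, sv a W = sv b W) :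
    CohB1.genLocus M a = CohB1.genLocus M b := by
  refine opens_eq_of_cover _ _ (fun x => ?_)
  obtain ⟨W, ε, hxW, hε⟩ := exists_gen M hM x
  refine ⟨W, hxW, ?_⟩
  rw [genLocus_inf_eq_coef a hε, genLocus_inf_eq_coef b hε, h W]

variable (P L₁ : X.Modules)

/-- `X_{u ⊗ σ} = X_σ` if `u` generates on `X_σ` -/
theorem genLocus_secHom_tm (hP : PicF.IsInvertible P) (hL₁ : PicF.IsInvertible L₁)
    (σ : Coh.structureModule X ⟶ L₁) (u : Γ(P, ⊤))
    (hu : IsGen P (CohB1.genLocus L₁ σ) (res P le_top u)) :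
    CohB1.genLocus (CohB1.tensorMod P L₁) (secHom _ (tm P L₁ ⊤ u (sv σ ⊤))) = CohB1.genLocus L₁ σ := by
  have h1 : CohB1.genLocus (CohB1.tensorMod P L₁) (secHom _ (tm P L₁ ⊤ u (sv σ ⊤))) =
      CohB1.genLocus (CohB1.tensorMod P L₁) (SecTwist.tmulHom (secHom P u) σ) := by
    refine genLocus_eq_of_sv_eq _ (isInvertible_tensorMod hP hL₁) _ _ (fun W => ?_)
    rw [sv_secHom, sv_tmulHom, sv_secHom, res_tm, res_sv]
  rw [h1, genLocus_tmulHom hP hL₁]
  refine inf_eq_right.2 (le_genLocus_of_isGen P _ _ ?_)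
  rw [sv_secHom]
  exact hu

end sec

section final2

open Groth.Agent.Helper13ProjUP
open Groth.Agent.Lib.Helper23.SecTw Groth.Agent.Lib.Helper6 Groth.Agent.Lib.Helper23.GenLocus
open Groth.Agent.Lib.Helper23.PB Groth.Agent.Lib.Helper23.Extend Groth.Agent.Lib.Helper23.AmpleIso
open Groth.Agent.Lib.Helper23.LocGen Groth.Agent.Lib.Helper23.TensorUnit

/-- the embedding theorem `exists_embedding_of_cover` twisted by an invertible module `E` which is trivial on the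
members `X_{σ_x}` of the cover: all `(E ⊗ L₁^k) ⊗ L₁`, `k ≥ k₀`, are pulled back from `O(1)` along an immersion. -/
theorem exists_embedding_of_cover_twist (B : Type u) [CommRing B] {X : Scheme.{u}} [CompactSpace X]
    [QuasiSeparatedSpace X] (f : X ⟶ Spec (CommRingCat.of B)) [LocallyOfFiniteType f]
    (L₁ E : X.Modules) (hL₁ : PicF.IsInvertible L₁) (hE : PicF.IsInvertible E) (T : Finset X)
    (σ : X → (Coh.structureModule X ⟶ L₁))
    (haff : ∀ x ∈ T, IsAffineOpen (CohB1.genLocus L₁ (σ x)))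
    (hcov : ∀ y : X, ∃ x ∈ T, y ∈ CohB1.genLocus L₁ (σ x))
    (htriv : ∀ x ∈ T, ∃ ε : Γ(E, CohB1.genLocus L₁ (σ x)), IsGen E (CohB1.genLocus L₁ (σ x)) ε) :
    ∃ k₀ : ℕ, ∀ k, k₀ ≤ k → ∃ (N : ℕ) (j : X ⟶ CohB1.ProjSpace N B), IsImmersion j ∧
      j ≫ CohB1.ProjSpace.toSpec N B = f ∧
      Nonempty ((Scheme.Modules.pullback j).obj (Twist.twistProjSpace N B 1) ≅
        CohB1.tensorMod (CohB1.tensorMod E (CohB1.tensorPow L₁ k)) L₁) := by
  classical
  haveI : Coh.IsQCoh E := isQuasicoherent_of_isInvertible _ hE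
  choose! ε hε using htriv
  -- generators of the rings of functions
  have hfg : ∀ x ∈ T, ∃ G : Finset Γ(X, CohB1.genLocus L₁ (σ x)), Subring.closure
      (Set.range ((X.presheaf.map (homOfLE (le_top : CohB1.genLocus L₁ (σ x) ≤ ⊤)).op).hom.comp
        (ProjUP.toGlobal f)) ∪ (G : Set Γ(X, CohB1.genLocus L₁ (σ x)))) = ⊤ :=
    fun x hx => exists_generators f _ (haff x hx)
  choose! G hG using hfg
  -- extension of the generators
  have hext : ∀ x ∈ T, ∀ b : Γ(X, CohB1.genLocus L₁ (σ x)), ∃ n₀, ∀ n, n₀ ≤ n →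
      ∃ t' : Γ(CohB1.tensorMod E (CohB1.tensorPow L₁ n), ⊤),
        res _ (le_top : CohB1.genLocus L₁ (σ x) ≤ ⊤) t' =
          tw E L₁ (CohB1.genLocus L₁ (σ x)) (b • ε x) (sv (σ x) _) n :=
    fun x _ b => main_eventually X L₁ hL₁ (σ x) E (b • ε x)
  obtain ⟨k₀, hk₀⟩ : ∃ k₀, ∀ k, k₀ ≤ k → ∀ x ∈ T, ∀ b ∈ insert 1 (G x),
      ∃ t' : Γ(CohB1.tensorMod E (CohB1.tensorPow L₁ k), ⊤),
        res _ (le_top : CohB1.genLocus L₁ (σ x) ≤ ⊤) t' =
          tw E L₁ (CohB1.genLocus L₁ (σ x)) (b • ε x) (sv (σ x) _) k := by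
    have h1 : ∀ x ∈ T, ∃ n₀, ∀ n, n₀ ≤ n → ∀ b ∈ insert 1 (G x),
        ∃ t' : Γ(CohB1.tensorMod E (CohB1.tensorPow L₁ n), ⊤),
          res _ (le_top : CohB1.genLocus L₁ (σ x) ≤ ⊤) t' =
            tw E L₁ (CohB1.genLocus L₁ (σ x)) (b • ε x) (sv (σ x) _) n :=
      fun x hx => exists_uniform_bound (insert 1 (G x)) _ (fun b _ => hext x hx b)
    exact exists_uniform_bound T _ h1
  refine ⟨k₀, fun k hk => ?_⟩
  have hk' := hk₀ k hk
  -- the module and the sections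
  have hPinv : PicF.IsInvertible (CohB1.tensorMod E (CohB1.tensorPow L₁ k)) :=
    isInvertible_tensorMod hE (isInvertible_tensorPow hL₁ k)
  have hMinv : PicF.IsInvertible
      (CohB1.tensorMod (CohB1.tensorMod E (CohB1.tensorPow L₁ k)) L₁) :=
    isInvertible_tensorMod hPinv hL₁
  -- the extended sections `u x b` of `E ⊗ L₁^k` and `w x b = u x b ⊗ σ_x`
  have hu : ∀ (x : T) (b : (insert 1 (G x.1) : Finset _)),
      ∃ t' : Γ(CohB1.tensorMod E (CohB1.tensorPow L₁ k), ⊤),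
        res _ (le_top : CohB1.genLocus L₁ (σ x.1) ≤ ⊤) t' =
          tw E L₁ (CohB1.genLocus L₁ (σ x.1)) (b.1 • ε x.1) (sv (σ x.1) _) k :=
    fun x b => hk' x.1 x.2 b.1 b.2
  choose u hu' using hu
  let w : ∀ (x : T) (b : (insert 1 (G x.1) : Finset _)),
      Γ(CohB1.tensorMod (CohB1.tensorMod E (CohB1.tensorPow L₁ k)) L₁, ⊤) :=
    fun x b => tm _ L₁ ⊤ (u x b) (sv (σ x.1) ⊤)
  have hw : ∀ (x : T) (b : (insert 1 (G x.1) : Finset _)),
      res _ (le_top : CohB1.genLocus L₁ (σ x.1) ≤ ⊤) (w x b) =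
        b.1 • tm (CohB1.tensorMod E (CohB1.tensorPow L₁ k)) L₁ (CohB1.genLocus L₁ (σ x.1))
          (tw E L₁ (CohB1.genLocus L₁ (σ x.1)) (ε x.1) (sv (σ x.1) _) k) (sv (σ x.1) _) := by
    intro x b
    change res _ _ (tm _ L₁ ⊤ (u x b) (sv (σ x.1) ⊤)) = _
    rw [res_tm, res_sv, hu', tw_smul_left, tm_smul_left]
  have hgen0 : ∀ x : T, IsGen (CohB1.tensorMod (CohB1.tensorMod E (CohB1.tensorPow L₁ k)) L₁)
      (CohB1.genLocus L₁ (σ x.1))
      (tm (CohB1.tensorMod E (CohB1.tensorPow L₁ k)) L₁ (CohB1.genLocus L₁ (σ x.1))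
          (tw E L₁ (CohB1.genLocus L₁ (σ x.1)) (ε x.1) (sv (σ x.1) _) k) (sv (σ x.1) _)) :=
    fun x => isGen_tm _ _ _ _ _
      (isGen_tm _ _ _ _ _ (hε x.1 x.2) (isGen_pw L₁ _ _ (isGen_sv_genLocus L₁ (σ x.1)) k))
      (isGen_sv_genLocus L₁ (σ x.1))
  let one : ∀ x : T, (insert 1 (G x.1) : Finset _) := fun x => ⟨1, Finset.mem_insert_self _ _⟩
  have hw1 : ∀ x : T, res _ (le_top : CohB1.genLocus L₁ (σ x.1) ≤ ⊤) (w x (one x)) =
      tm (CohB1.tensorMod E (CohB1.tensorPow L₁ k)) L₁ (CohB1.genLocus L₁ (σ x.1))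
          (tw E L₁ (CohB1.genLocus L₁ (σ x.1)) (ε x.1) (sv (σ x.1) _) k) (sv (σ x.1) _) := by
    intro x
    rw [hw, one_smul]
  have hloc : ∀ x : T, CohB1.genLocus _ (secHom _ (w x (one x))) = CohB1.genLocus L₁ (σ x.1) := by
    intro x
    refine genLocus_secHom_tm _ L₁ hPinv hL₁ (σ x.1) (u x (one x)) ?_
    rw [hu', one_smul]
    exact isGen_tm _ _ _ _ _ (hε x.1 x.2) (isGen_pw L₁ _ _ (isGen_sv_genLocus L₁ (σ x.1)) k)
  let I : Type u := Option (Σ x : T, (insert 1 (G x.1) : Finset _))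
  let sec : I → ProjUP.Γm (CohB1.tensorMod (CohB1.tensorMod E (CohB1.tensorPow L₁ k)) L₁) := fun i =>
    match i with
    | none => 0
    | some ⟨x, b⟩ => w x b
  haveI : Nonempty I := ⟨none⟩
  obtain ⟨N, hN⟩ : ∃ N, Fintype.card I = N + 1 :=
    ⟨Fintype.card I - 1, (Nat.succ_pred_eq_of_pos Fintype.card_pos).symm⟩
  let e : Fin (N + 1) ≃ I := (Fintype.equivFinOfCardEq hN).symm
  let s : Fin (N + 1) → ProjUP.Γm (CohB1.tensorMod (CohB1.tensorMod E (CohB1.tensorPow L₁ k)) L₁) :=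
    fun i => sec (e i)
  have hs_some : ∀ (x : T) (b : (insert 1 (G x.1) : Finset _)), s (e.symm (some ⟨x, b⟩)) = w x b := by
    intro x b
    change sec (e (e.symm (some ⟨x, b⟩))) = _
    rw [Equiv.apply_symm_apply]
  have hgenS : ProjUP.GeneratedBy _ s := by
    refine generatedBy_of_isGen _ s (fun y => ?_)
    obtain ⟨x, hx, hy⟩ := hcov y
    refine ⟨e.symm (some ⟨⟨x, hx⟩, one ⟨x, hx⟩⟩), CohB1.genLocus L₁ (σ x), hy, ?_⟩
    rw [hs_some, hw1]
    exact hgen0 ⟨x, hx⟩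
  set v := vOf N f (CohB1.tensorMod (CohB1.tensorMod E (CohB1.tensorPow L₁ k)) L₁) s with hv
  have hXL : ∀ x : T, XL _ v (Pi.single (e.symm (some ⟨x, one x⟩)) (1 : B)) =
      CohB1.genLocus L₁ (σ x.1) := by
    intro x
    unfold XL
    rw [hv, vOf_single, hs_some, hloc]
  obtain ⟨r, hrq, τ, himm⟩ := exists_immersion (CohB1.polyGrading N B) (ιP N) f _ v (ιP_mem N)
    (isSymmetricAlgebra_ιP N) hMinv (vOf_smul N f _ s) (generatedBy_vOf N f _ s hgenS)
    (Set.range (fun x : T => (Pi.single (e.symm (some ⟨x, one x⟩)) (1 : B) : Fin (N + 1) → B)))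
    (by
      intro y
      obtain ⟨x, hx, hy⟩ := hcov y
      refine ⟨_, ⟨⟨x, hx⟩, rfl⟩, ?_⟩
      rw [hXL]
      exact hy)
    (by
      rintro _ ⟨x, rfl⟩
      dsimp only
      rw [hXL]
      exact haff x.1 x.2)
    (by
      rintro _ ⟨x, rfl⟩
      refine closure_eq_top_of_generators f _ v _ (CohB1.genLocus L₁ (σ x.1)) (hXL x)
        (G x.1 : Set Γ(X, CohB1.genLocus L₁ (σ x.1))) (hG x.1 x.2) (fun b hb => ?_)
      refine ⟨Pi.single (e.symm (some ⟨x, ⟨b, Finset.mem_insert_of_mem hb⟩⟩)) 1, ?_⟩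
      rw [hv, vOf_single, vOf_single, hs_some, hs_some, hw, hw1])
  exact ⟨N, r, himm, hrq, ⟨τ⟩⟩

end final2

section eventually

open Groth.Agent.Helper13ProjUP
open Groth.Agent.Lib.Helper23.SecTw Groth.Agent.Lib.Helper6 Groth.Agent.Lib.Helper23.GenLocus
open Groth.Agent.Lib.Helper23.PB Groth.Agent.Lib.Helper23.Extend Groth.Agent.Lib.Helper23.AmpleIso
open Groth.Agent.Lib.Helper23.LocGen Groth.Agent.Lib.Helper23.TensorUnit

variable {X : Scheme.{u}}

/-- finitely many affine `X_σ`, with `σ` sections of one power `L^a` and `L` trivial on each `X_σ`, cover a scheme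
with an ample `L` -/
theorem exists_finite_affine_cover_triv (L : X.Modules) (hL : CohB1.IsAmple L) :
    ∃ (a : ℕ) (T : Finset X) (σ : X → (Coh.structureModule X ⟶ CohB1.tensorPow L a)), 0 < a ∧
      (∀ x ∈ T, IsAffineOpen (CohB1.genLocus _ (σ x))) ∧
      (∀ y : X, ∃ x ∈ T, y ∈ CohB1.genLocus _ (σ x)) ∧
      ∀ x ∈ T, ∃ ε : Γ(L, CohB1.genLocus _ (σ x)), IsGen L (CohB1.genLocus _ (σ x)) ε := by
  classical
  have hinv : PicF.IsInvertible L := hL.1
  haveI : CompactSpace X := hL.2.1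
  have hamp : ∀ x : X, ∃ (n : ℕ) (s : Coh.structureModule X ⟶ CohB1.tensorPow L (n + 1)),
      x ∈ CohB1.genLocus _ s ∧ IsAffineOpen (CohB1.genLocus _ s) ∧
        ∃ ε : Γ(L, CohB1.genLocus _ s), IsGen L (CohB1.genLocus _ s) ε := by
    intro x
    obtain ⟨W, e, hxW, he⟩ := exists_gen L hinv x
    obtain ⟨n, s, hxs, hsW, haff⟩ := exists_genLocus_nhd_of_isAmple L hL W x hxW
    exact ⟨n, s, hxs, haff, res L hsW e, he.mono hsW⟩
  choose n s hxs haff htriv using hamp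
  obtain ⟨T, hT⟩ : ∃ T : Finset X, ∀ y : X, ∃ x ∈ T, y ∈ CohB1.genLocus _ (s x) := by
    obtain ⟨T, hT⟩ := isCompact_univ.elim_finite_subcover
      (fun x => ((CohB1.genLocus _ (s x) : X.Opens) : Set X))
      (fun x => (CohB1.genLocus _ (s x)).2) (fun y _ => Set.mem_iUnion.2 ⟨y, hxs y⟩)
    refine ⟨T, fun y => ?_⟩
    obtain ⟨x, hx⟩ := Set.mem_iUnion.1 (hT (Set.mem_univ y))
    obtain ⟨hxT, hyx⟩ := Set.mem_iUnion.1 hx
    exact ⟨x, hxT, hyx⟩
  obtain ⟨a, ha⟩ : ∃ a : ℕ, a = ∏ x ∈ T, (n x + 1) := ⟨_, rfl⟩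
  have ha0 : 0 < a := ha ▸ Finset.prod_pos (fun x _ => Nat.succ_pos _)
  let c : X → ℕ := fun x => ∏ x' ∈ T.erase x, (n x' + 1)
  have hc0 : ∀ x, 0 < c x := fun x => Finset.prod_pos (fun x' _ => Nat.succ_pos _)
  have hca : ∀ x ∈ T, (n x + 1) * c x = a := fun x hx =>
    ha ▸ Finset.mul_prod_erase T (fun x => n x + 1) hx
  have hΦ : ∀ x, x ∈ T →
      Nonempty (CohB1.tensorPow (CohB1.tensorPow L (n x + 1)) (c x) ≅ CohB1.tensorPow L a) :=
    fun x hx => nonempty_tensorPow_tensorPow_iso L hinv (n x + 1) (c x) a (hca x hx)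
  have hloc : ∀ x (hx : x ∈ T),
      CohB1.genLocus _ (SecTwist.powHom (s x) (c x) ≫ (hΦ x hx).some.hom) = CohB1.genLocus _ (s x) := by
    intro x hx
    rw [genLocus_comp_iso, genLocus_powHom (isInvertible_tensorPow hinv _) (s x) (c x) (hc0 x)]
  refine ⟨a, T, fun x => if hx : x ∈ T then SecTwist.powHom (s x) (c x) ≫ (hΦ x hx).some.hom else 0,
    ha0, ?_, ?_, ?_⟩
  · intro x hx
    dsimp only
    rw [dif_pos hx, hloc x hx]
    exact haff x
  · intro y
    obtain ⟨x, hx, hy⟩ := hT y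
    refine ⟨x, hx, ?_⟩
    dsimp only
    rw [dif_pos hx, hloc x hx]
    exact hy
  · intro x hx
    dsimp only
    rw [dif_pos hx, hloc x hx]
    exact htriv x

/-- `L^ρ ⊗ L^c ≅ L^{ρ + c}` -/
theorem nonempty_tensorPow_add_iso (L : X.Modules) (hL : PicF.IsInvertible L) (ρ c d : ℕ) (h : ρ + c = d) :
    Nonempty (CohB1.tensorMod (CohB1.tensorPow L ρ) (CohB1.tensorPow L c) ≅ CohB1.tensorPow L d) := by
  obtain ⟨Φ⟩ := nonempty_tensorMod_tensorPow_add_iso (Coh.structureModule X) L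
    (isInvertible_structureModule X) hL ρ c d h
  exact ⟨tensorModIso (unitTensorIso (CohB1.tensorPow L ρ)).symm (Iso.refl _) ≪≫ Φ ≪≫
    unitTensorIso (CohB1.tensorPow L d)⟩

/-- **EGA II 4.5.10 (ii)**: for `L` ample on a scheme locally of finite type over `Spec B`, all powers `L^n`,
`n ≥ n₀`, are pulled back from `O(1)` along an immersion into a projective space over `B`. -/
theorem exists_embedding_eventually (B : Type u) [CommRing B] (f : X ⟶ Spec (CommRingCat.of B))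
    [LocallyOfFiniteType f] (L : X.Modules) (hL : CohB1.IsAmple L) :
    ∃ n₀ : ℕ, ∀ n, n₀ ≤ n → ∃ (N : ℕ) (j : X ⟶ CohB1.ProjSpace N B), IsImmersion j ∧
      j ≫ CohB1.ProjSpace.toSpec N B = f ∧
      Nonempty ((Scheme.Modules.pullback j).obj (Twist.twistProjSpace N B 1) ≅ CohB1.tensorPow L n) := by
  have hinv : PicF.IsInvertible L := hL.1
  haveI : CompactSpace X := hL.2.1
  haveI : QuasiSeparatedSpace X := quasiSeparatedSpace_of_isAmple L hL
  obtain ⟨a, T, σ, ha, haff, hcov, htriv⟩ := exists_finite_affine_cover_triv L hL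
  have hLa : PicF.IsInvertible (CohB1.tensorPow L a) := isInvertible_tensorPow hinv a
  have h1 : ∀ ρ ∈ Finset.range a, ∃ k₀ : ℕ, ∀ k, k₀ ≤ k →
      ∃ (N : ℕ) (j : X ⟶ CohB1.ProjSpace N B), IsImmersion j ∧
      j ≫ CohB1.ProjSpace.toSpec N B = f ∧
      Nonempty ((Scheme.Modules.pullback j).obj (Twist.twistProjSpace N B 1) ≅
        CohB1.tensorMod (CohB1.tensorMod (CohB1.tensorPow L ρ)
          (CohB1.tensorPow (CohB1.tensorPow L a) k)) (CohB1.tensorPow L a)) := by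
    intro ρ _
    refine exists_embedding_of_cover_twist B f (CohB1.tensorPow L a) (CohB1.tensorPow L ρ) hLa
      (isInvertible_tensorPow hinv ρ) T σ haff hcov (fun x hx => ?_)
    obtain ⟨ε, hε⟩ := htriv x hx
    exact ⟨pw L _ ε ρ, isGen_pw L _ ε hε ρ⟩
  obtain ⟨K, hK⟩ := exists_uniform_bound (Finset.range a) _ h1
  refine ⟨a * (K + 1), fun n hn => ?_⟩
  have hρ : n % a ∈ Finset.range a := Finset.mem_range.2 (Nat.mod_lt n ha)
  have hdiv : K + 1 ≤ n / a := (Nat.le_div_iff_mul_le ha).2 (by rw [Nat.mul_comm]; exact hn)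
  obtain ⟨k, hk⟩ : ∃ k, n / a = k + 1 := ⟨n / a - 1, by omega⟩
  obtain ⟨N, j, himm, hjf, ⟨τ⟩⟩ := hK k (by omega) (n % a) hρ
  refine ⟨N, j, himm, hjf, ?_⟩
  -- the isomorphism `(L^ρ ⊗ (L^a)^k) ⊗ L^a ≅ L^n`
  obtain ⟨Φ₁⟩ := nonempty_tensorMod_tensorPow_add_iso (CohB1.tensorPow L (n % a)) (CohB1.tensorPow L a)
    (isInvertible_tensorPow hinv _) hLa k 1 (k + 1) rfl
  obtain ⟨Φ₂⟩ := nonempty_tensorPow_tensorPow_iso L hinv a (k + 1) (a * (k + 1)) rfl
  obtain ⟨Φ₃⟩ := nonempty_tensorPow_add_iso L hinv (n % a) (a * (k + 1)) n (by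
    rw [← hk]; exact Nat.mod_add_div n a)
  exact ⟨τ ≪≫ tensorModIso (Iso.refl _) (unitTensorIso (CohB1.tensorPow L a)).symm ≪≫ Φ₁ ≪≫
    tensorModIso (Iso.refl _) Φ₂ ≪≫ Φ₃⟩

end eventually


end Groth.Agent.R2.H91.AmpleEmb
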