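import Mathlib
import Groth.Agent.R2.H91AmpleEmb2

/-!
# Every invertible module on an affine scheme locally of finite type over `Spec B` is very ample (helper91)

`exists_embedding_of_isAffine` : `X` affine, locally of finite type over `Spec B`, `L` invertible: there is an immersion
`j : X ⟶ P^N_B` over `B` with `j^* O(1) ≅ L`.
-/

set_option autoImplicit false
set_option linter.style.haveILetI false
set_option linter.unusedSectionVars false
universe u

open CategoryTheory CategoryTheory.Limits AlgebraicGeometry TopologicalSpace Opposite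

namespace Groth.Agent.R2.H91.AmpleEmb

open Groth.Agent.Helper13ProjUP
open Groth.Agent.Lib.Helper23.SecTw Groth.Agent.Lib.Helper6 Groth.Agent.Lib.Helper23.GenLocus
open Groth.Agent.Lib.Helper23.PB Groth.Agent.Lib.Helper23.Extend Groth.Agent.Lib.Helper23.AmpleIso
open Groth.Agent.Lib.Helper23.LocGen Groth.Agent.Lib.Helper23.TensorUnit

variable {X : Scheme.{u}}

/-- `X_f = D(f)` for a function `f` seen as a section of the structure sheaf -/
theorem genLocus_secHom_toS (f : Γ(X, ⊤)) :
    CohB1.genLocus (Coh.structureModule X) (secHom _ (toS ⊤ f)) = X.basicOpen f := by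
  have h : sv (secHom (Coh.structureModule X) (toS ⊤ f)) ⊤ = f • toS ⊤ 1 := by
    rw [sv_secHom, res_self, smul_toS, mul_one]
  have := genLocus_inf_eq_of_isGen (Coh.structureModule X) (secHom _ (toS ⊤ f)) ⊤ (toS ⊤ 1) f
    (isGen_one ⊤) h
  rwa [inf_top_eq] at this

/-- `O^{⊗ k} ≅ O` -/
noncomputable def tensorPowUnitIso (X : Scheme.{u}) :
    (k : ℕ) → (CohB1.tensorPow (Coh.structureModule X) k ≅ Coh.structureModule X)
  | 0 => Iso.refl _
  | k + 1 => tensorUnitIso (CohB1.tensorPow (Coh.structureModule X) k) ≪≫ tensorPowUnitIso X k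

/-- every invertible module on an affine scheme locally of finite type over `Spec B` is very ample -/
theorem exists_embedding_of_isAffine (B : Type u) [CommRing B] [IsAffine X]
    (f : X ⟶ Spec (CommRingCat.of B)) [LocallyOfFiniteType f] (L : X.Modules)
    (hL : PicF.IsInvertible L) :
    ∃ (N : ℕ) (j : X ⟶ CohB1.ProjSpace N B), IsImmersion j ∧
      j ≫ CohB1.ProjSpace.toSpec N B = f ∧
      Nonempty ((Scheme.Modules.pullback j).obj (Twist.twistProjSpace N B 1) ≅ L) := by
  classical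
  have hloc : ∀ x : X, ∃ g : Γ(X, ⊤), x ∈ X.basicOpen g ∧
      ∃ ε : Γ(L, X.basicOpen g), IsGen L (X.basicOpen g) ε := by
    intro x
    obtain ⟨W, e, hxW, he⟩ := exists_gen L hL x
    obtain ⟨g, hgW, hxg⟩ := (isAffineOpen_top X).exists_basicOpen_le (V := W) ⟨x, hxW⟩ trivial
    exact ⟨g, hxg, res L hgW e, he.mono hgW⟩
  choose g hxg htriv using hloc
  obtain ⟨T, hT⟩ : ∃ T : Finset X, ∀ y : X, ∃ x ∈ T, y ∈ X.basicOpen (g x) := by
    obtain ⟨T, hT⟩ := isCompact_univ.elim_finite_subcover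
      (fun x => ((X.basicOpen (g x) : X.Opens) : Set X))
      (fun x => (X.basicOpen (g x)).2) (fun y _ => Set.mem_iUnion.2 ⟨y, hxg y⟩)
    refine ⟨T, fun y => ?_⟩
    obtain ⟨x, hx⟩ := Set.mem_iUnion.1 (hT (Set.mem_univ y))
    obtain ⟨hxT, hyx⟩ := Set.mem_iUnion.1 hx
    exact ⟨x, hxT, hyx⟩
  obtain ⟨k₀, hk₀⟩ := exists_embedding_of_cover_twist B f (Coh.structureModule X) L
    (isInvertible_structureModule X) hL T (fun x => secHom _ (toS ⊤ (g x)))
    (fun x _ => by
      rw [genLocus_secHom_toS]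
      exact (isAffineOpen_top X).basicOpen (g x))
    (fun y => by
      obtain ⟨x, hx, hy⟩ := hT y
      refine ⟨x, hx, ?_⟩
      rw [genLocus_secHom_toS]
      exact hy)
    (fun x _ => by
      rw [genLocus_secHom_toS]
      exact htriv x)
  obtain ⟨N, j, himm, hjf, ⟨τ⟩⟩ := hk₀ k₀ le_rfl
  exact ⟨N, j, himm, hjf, ⟨τ ≪≫ tensorUnitIso _ ≪≫
    tensorModIso (Iso.refl L) (tensorPowUnitIso X k₀) ≪≫ tensorUnitIso L⟩⟩

end Groth.Agent.R2.H91.AmpleEmb
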