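import Mathlib
import Groth.Agent.R2.H91AmpleEmb2
import Groth.Agent.R2.H55TwistBC
import Groth.Agent.R2.H87PnTwist

/-!
# Projective embeddings over a general base by large powers of an ample module (helper91)

* `isAffineOpen_chart` : `D ×_ℤ V ⊆ P^N_S` is affine for `D ⊆ P^N_ℤ`, `V ⊆ S` affine opens.
* `exists_immersion_over` : very ampleness criterion over a general base `S`.
* `exists_embedding_eventually_over` : `f : X ⟶ S` locally of finite type, `L` ample on `X`: all `L^n`, `n ≥ n₀`, are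
  pulled back from `O(1)` along an immersion `X ⟶ P^N_S` over `S` (Stacks 01VS).
-/

set_option autoImplicit false
set_option linter.style.haveILetI false
set_option linter.unusedSectionVars false
universe u

open CategoryTheory CategoryTheory.Limits AlgebraicGeometry TopologicalSpace Opposite

namespace Groth.Agent.R2.H91.AmpleEmb

section chart

open Groth.Agent.R2.H87.ProjSpaceOver

/-- the chart `D ×_ℤ V` of `P^N_S` is affine -/
theorem isAffineOpen_chart (N : ℕ) {S : Scheme.{u}}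
    (D : (CohB1.ProjSpace N (ULift.{u} ℤ)).Opens) (hD : IsAffineOpen D)
    (V : S.Opens) (hV : IsAffineOpen V) :
    IsAffineOpen (H87.ProjSpaceOver.toZ N S ⁻¹ᵁ D ⊓ CohB1.ProjSpaceOver.toBase N S ⁻¹ᵁ V) := by
  haveI : IsAffine (V : Scheme.{u}) := hV
  haveI : IsAffineHom (H87.ProjSpaceOver.toZ N (V : Scheme.{u})) := by
    unfold H87.ProjSpaceOver.toZ
    exact MorphismProperty.pullback_fst _ _ inferInstance
  have h1 : IsAffineOpen (H87.ProjSpaceOver.toZ N (V : Scheme.{u}) ⁻¹ᵁ D) := hD.preimage _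
  have h2 := h1.image_of_isOpenImmersion (map N V.ι)
  have h3 : (map N V.ι) ''ᵁ (H87.ProjSpaceOver.toZ N (V : Scheme.{u}) ⁻¹ᵁ D) =
      H87.ProjSpaceOver.toZ N S ⁻¹ᵁ D ⊓ CohB1.ProjSpaceOver.toBase N S ⁻¹ᵁ V := by
    have h4 : H87.ProjSpaceOver.toZ N (V : Scheme.{u}) ⁻¹ᵁ D = (map N V.ι) ⁻¹ᵁ (H87.ProjSpaceOver.toZ N S ⁻¹ᵁ D) := by
      rw [← Scheme.Hom.comp_preimage, map_toZ]
    rw [h4, Scheme.Hom.image_preimage_eq_opensRange_inf,
      Groth.Agent.R2.H55.TwistBC.opensRange_map, Scheme.Opens.opensRange_ι, inf_comm]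
  rwa [h3] at h2

end chart

section overBase

open Groth.Agent.Helper13ProjUP
open Groth.Agent.Lib.Helper27GrTildeSect Groth.Agent.Helper13GrTildeFrac
  Groth.Agent.Helper13Dehom Groth.Agent.Helper13AffMor Groth.Agent.Helper13SymGr
open Groth.Agent.Lib.Helper23.SecTw Groth.Agent.Lib.Helper6 Groth.Agent.Lib.Helper23.GenLocus
open Groth.Agent.Lib.Helper23.PB Groth.Agent.Helper13PullbackUnit Groth.Agent.Lib.Helper23.Extend
open Groth.Agent.R2.H87.ProjSpaceOver

variable (N : ℕ) {X S : Scheme.{u}} (f : X ⟶ S) (L : X.Modules)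

/-- the structure morphism to `Spec ℤ` -/
noncomputable abbrev qZ (X : Scheme.{u}) : X ⟶ Spec (CommRingCat.of (ULift.{u} ℤ)) :=
  specULiftZIsTerminal.from X

variable (v : (Fin (N + 1) → ULift.{u} ℤ) →+ ProjUP.Γm L)

/-- **Very ampleness criterion over a general base**: generating sections `v m` of an invertible module on `X` such
that, for a family `μ a` (`a : κ`), the loci `X_{v (μ a)}` are affine, cover `X`, map into affine opens `V a` of `S`,
and their rings of functions are generated by the ratios `v m' / v (μ a)` over `Γ(S, V a)`, define an immersion into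
`P^N_S`. -/
theorem exists_immersion_over (hL : PicF.IsInvertible L)
    (hv : ∀ (c : ULift.{u} ℤ) (m : Fin (N + 1) → ULift.{u} ℤ),
      v (c • m) = ProjUP.toGlobal (qZ X) c • v m)
    (hgen : ProjUP.GeneratedBy L v)
    {κ : Type*} (μ : κ → (Fin (N + 1) → ULift.{u} ℤ)) (V : κ → S.Opens)
    (hcov : ∀ x : X, ∃ a, x ∈ XL L v (μ a)) (haff : ∀ a, IsAffineOpen (XL L v (μ a)))
    (hV : ∀ a, IsAffineOpen (V a)) (hle : ∀ a, XL L v (μ a) ≤ f ⁻¹ᵁ V a)
    (hsurj : ∀ a, Subring.closure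
      (Set.range (f.appLE (V a) (XL L v (μ a)) (hle a)).hom ∪ Set.range (cf L v (μ a))) = ⊤) :
    ∃ j : X ⟶ CohB1.ProjSpaceOver N S, IsImmersion j ∧
      j ≫ CohB1.ProjSpaceOver.toBase N S = f ∧
      Nonempty ((Scheme.Modules.pullback j).obj (Twist.twistOver N S 1) ≅ L) := by
  obtain ⟨r, hle₀, τ, -, hcf, hτ⟩ := exists_mor_iso' (CohB1.polyGrading N (ULift.{u} ℤ)) (ιP N)
    (qZ X) L v (ιP_mem N) (isSymmetricAlgebra_ιP N) hL hv hgen
  have heq : ∀ m, r ⁻¹ᵁ Proj.basicOpen (CohB1.polyGrading N (ULift.{u} ℤ)) (ιP N m) = XL L v m :=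
    fun m => le_antisymm
      (preimage_basicOpen_le (CohB1.polyGrading N (ULift.{u} ℤ)) (ιP N) L v (ιP_mem N) r τ hτ m)
      (hle₀ m)
  let r' : X ⟶ CohB1.ProjSpace N (ULift.{u} ℤ) := r
  let j : X ⟶ CohB1.ProjSpaceOver N S := lift N r' f
  have hjZ : j ≫ H87.ProjSpaceOver.toZ N S = r' := lift_toZ N r' f
  have hjB : j ≫ CohB1.ProjSpaceOver.toBase N S = f := lift_toBase N r' f
  refine ⟨j, ?_, hjB, ⟨pullbackLiftTwistOverIso N r' f 1 ≪≫ τ⟩⟩
  -- the charts
  let D : (Fin (N + 1) → ULift.{u} ℤ) → (CohB1.ProjSpace N (ULift.{u} ℤ)).Opens :=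
    fun m => Proj.basicOpen (CohB1.polyGrading N (ULift.{u} ℤ)) (ιP N m)
  let W : κ → (CohB1.ProjSpaceOver N S).Opens :=
    fun a => H87.ProjSpaceOver.toZ N S ⁻¹ᵁ D (μ a) ⊓ CohB1.ProjSpaceOver.toBase N S ⁻¹ᵁ V a
  have hpre : ∀ a, j ⁻¹ᵁ W a = XL L v (μ a) := by
    intro a
    have h1 : j ⁻¹ᵁ (H87.ProjSpaceOver.toZ N S ⁻¹ᵁ D (μ a)) = XL L v (μ a) := by
      rw [← Scheme.Hom.comp_preimage, hjZ]; exact heq (μ a)
    have h2 : j ⁻¹ᵁ (CohB1.ProjSpaceOver.toBase N S ⁻¹ᵁ V a) = f ⁻¹ᵁ V a := by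
      rw [← Scheme.Hom.comp_preimage, hjB]
    change j ⁻¹ᵁ (H87.ProjSpaceOver.toZ N S ⁻¹ᵁ D (μ a)) ⊓
      j ⁻¹ᵁ (CohB1.ProjSpaceOver.toBase N S ⁻¹ᵁ V a) = _
    rw [h1, h2]
    exact inf_eq_left.2 (hle a)
  refine isImmersion_of_cover j W ?_ ?_
  · intro x
    obtain ⟨a, hx⟩ := hcov x
    refine ⟨a, ?_⟩
    have : x ∈ j ⁻¹ᵁ W a := by rw [hpre a]; exact hx
    exact this
  · intro a
    have hWaff : IsAffineOpen (W a) :=
      isAffineOpen_chart N (D (μ a)) (isAffineOpen_basicOpen (ιP_mem N (μ a))) (V a) (hV a)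
    refine isClosedImmersion_restrict_of_surjective j _ hWaff
      (by rw [hpre a]; exact haff a) ?_
    have hXW : XL L v (μ a) ≤ j ⁻¹ᵁ W a := (hpre a).ge
    have hψ : Function.Surjective (j.appLE (W a) (XL L v (μ a)) hXW).hom := by
      rw [← RingHom.range_eq_top, eq_top_iff, ← hsurj a, Subring.closure_le]
      rintro y (⟨c, rfl⟩ | ⟨m', rfl⟩)
      · refine ⟨((CohB1.ProjSpaceOver.toBase N S).appLE (V a) (W a) inf_le_right).hom c, ?_⟩
        have h1 := Scheme.Hom.appLE_comp_appLE j (CohB1.ProjSpaceOver.toBase N S) (V a) (W a)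
          (XL L v (μ a)) inf_le_right hXW
        have h2 := congrArg (fun φ => φ.hom c) h1
        refine Eq.trans h2 ?_
        simp only [hjB]
      · refine ⟨((H87.ProjSpaceOver.toZ N S).appLE (D (μ a)) (W a) inf_le_left).hom
          (dehom (ιP_mem N (μ a)) (ιP N m')), ?_⟩
        have h1 := Scheme.Hom.appLE_comp_appLE j (H87.ProjSpaceOver.toZ N S) (D (μ a)) (W a)
          (XL L v (μ a)) inf_le_left hXW
        have h2 := congrArg (fun φ => φ.hom (dehom (ιP_mem N (μ a)) (ιP N m'))) h1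
        refine Eq.trans h2 ?_
        rw [← hcf (μ a) m']
        simp only [hjZ]
        rfl
    intro y
    obtain ⟨z, hz⟩ := hψ ((X.presheaf.map (homOfLE hXW).op).hom y)
    refine ⟨z, injective_res_of_eq (hpre a).symm hXW ?_⟩
    rw [← hz]
    rfl

/-- transporting generators of the ring of functions of `X_{v m}` to the hypothesis of `exists_immersion_over` -/
theorem closure_eq_top_of_generators_over (m : Fin (N + 1) → ULift.{u} ℤ) (U : X.Opens)
    (hU : XL L v m = U) {R' : Type*} [CommRing R'] (φ : R' →+* Γ(X, U)) (φ' : R' →+* Γ(X, XL L v m))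
    (hφ : ∀ c, φ' c = (X.presheaf.map (homOfLE hU.le).op).hom (φ c))
    (G : Set Γ(X, U)) (hG : Subring.closure (Set.range φ ∪ G) = ⊤)
    (hb : ∀ b ∈ G, ∃ m', res L (le_top : U ≤ ⊤) (v m') = b • res L le_top (v m)) :
    Subring.closure (Set.range φ' ∪ Set.range (cf L v m)) = ⊤ := by
  subst hU
  rw [eq_top_iff, ← hG]
  apply Subring.closure_mono
  rintro y (⟨c, rfl⟩ | hy)
  · refine Or.inl ⟨c, ?_⟩
    rw [hφ c]
    have : (homOfLE (le_refl (XL L v m))).op = 𝟙 (op (XL L v m)) := rfl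
    rw [this, X.presheaf.map_id]
    rfl
  · obtain ⟨m', hm'⟩ := hb y hy
    refine Or.inr ⟨m', ?_⟩
    symm
    apply coef_unique
    rw [res_self]
    exact hm'.symm

end overBase

end Groth.Agent.R2.H91.AmpleEmb
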