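import Mathlib
import Groth.Agent.R2.H91AmpleEmbS

/-!
# Projective embeddings over a general base by large powers of an ample module, II (helper91)

* `exists_sections_of_cover_twist` : the sections used for the embeddings (base-free).
* `exists_embedding_of_cover_twist_over`, `exists_embedding_eventually_over` : `f : X ⟶ S` locally of finite type,
  `L` ample on `X`: all `L^n`, `n ≥ n₀`, are pulled back from `O(1)` along an immersion `X ⟶ P^N_S` over `S`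
  (Stacks 01VS).
-/

set_option autoImplicit false
set_option linter.style.haveILetI false
set_option linter.unusedSectionVars false
universe u

open CategoryTheory CategoryTheory.Limits AlgebraicGeometry TopologicalSpace Opposite

namespace Groth.Agent.R2.H91.AmpleEmb

open Groth.Agent.Helper13ProjUP
open Groth.Agent.Lib.Helper23.SecTw Groth.Agent.Lib.Helper6 Groth.Agent.Lib.Helper23.GenLocus
open Groth.Agent.Lib.Helper23.PB Groth.Agent.Lib.Helper23.Extend Groth.Agent.Lib.Helper23.AmpleIso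
open Groth.Agent.Lib.Helper23.LocGen Groth.Agent.Lib.Helper23.TensorUnit

section sections

/-- the sections of `(E ⊗ L₁^k) ⊗ L₁` used for the projective embeddings: for `x ∈ T` a section with non-vanishing
locus `X_{σ_x}`, and for `b ∈ G x` a section restricting to `b` times it on `X_{σ_x}`. -/
theorem exists_sections_of_cover_twist {X : Scheme.{u}} [CompactSpace X] [QuasiSeparatedSpace X]
    (L₁ E : X.Modules) (hL₁ : PicF.IsInvertible L₁) (hE : PicF.IsInvertible E) (T : Finset X)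
    (σ : X → (Coh.structureModule X ⟶ L₁))
    (hcov : ∀ y : X, ∃ x ∈ T, y ∈ CohB1.genLocus L₁ (σ x))
    (htriv : ∀ x ∈ T, ∃ ε : Γ(E, CohB1.genLocus L₁ (σ x)), IsGen E (CohB1.genLocus L₁ (σ x)) ε)
    (G : ∀ x : X, Finset Γ(X, CohB1.genLocus L₁ (σ x))) :
    ∃ k₀ : ℕ, ∀ k, k₀ ≤ k → ∃ (N : ℕ)
      (s : Fin (N + 1) → ProjUP.Γm (CohB1.tensorMod (CohB1.tensorMod E (CohB1.tensorPow L₁ k)) L₁)),
      ProjUP.GeneratedBy _ s ∧ ∀ x ∈ T, ∃ i : Fin (N + 1),
        CohB1.genLocus _ (secHom _ (s i)) = CohB1.genLocus L₁ (σ x) ∧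
        ∀ b ∈ G x, ∃ i' : Fin (N + 1),
          res (CohB1.tensorMod (CohB1.tensorMod E (CohB1.tensorPow L₁ k)) L₁)
            (le_top : CohB1.genLocus L₁ (σ x) ≤ ⊤) (s i') =
          b • res (CohB1.tensorMod (CohB1.tensorMod E (CohB1.tensorPow L₁ k)) L₁)
            (le_top : CohB1.genLocus L₁ (σ x) ≤ ⊤) (s i) := by
  classical
  haveI : Coh.IsQCoh E := isQuasicoherent_of_isInvertible _ hE
  choose! ε hε using htriv
  have hext : ∀ x ∈ T, ∀ b : Γ(X, CohB1.genLocus L₁ (σ x)), ∃ n₀, ∀ n, n₀ ≤ n →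
      ∃ t' : Γ(CohB1.tensorMod E (CohB1.tensorPow L₁ n), ⊤),
        res _ (le_top : CohB1.genLocus L₁ (σ x) ≤ ⊤) t' =
          tw E L₁ (CohB1.genLocus L₁ (σ x)) (b • ε x) (sv (σ x) _) n :=
    fun x _ b => main_eventually X L₁ hL₁ (σ x) E (b • ε x)
  obtain ⟨k₀, hk₀⟩ : ∃ k₀, ∀ k, k₀ ≤ k → ∀ x ∈ T, ∀ b ∈ insert 1 (G x),
      ∃ t' : Γ(CohB1.tensorMod E (CohB1.tensorPow L₁ k), ⊤),
        res _ (le_top : CohB1.genLocus L₁ (σ x) ≤ ⊤) t' =
          tw E L₁ (CohB1.genLocus L₁ (σ x)) (b • ε x) (sv (σ x) _) k := by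
    have h1 : ∀ x ∈ T, ∃ n₀, ∀ n, n₀ ≤ n → ∀ b ∈ insert 1 (G x),
        ∃ t' : Γ(CohB1.tensorMod E (CohB1.tensorPow L₁ n), ⊤),
          res _ (le_top : CohB1.genLocus L₁ (σ x) ≤ ⊤) t' =
            tw E L₁ (CohB1.genLocus L₁ (σ x)) (b • ε x) (sv (σ x) _) n :=
      fun x hx => exists_uniform_bound (insert 1 (G x)) _ (fun b _ => hext x hx b)
    exact exists_uniform_bound T _ h1
  refine ⟨k₀, fun k hk => ?_⟩
  have hk' := hk₀ k hk
  have hPinv : PicF.IsInvertible (CohB1.tensorMod E (CohB1.tensorPow L₁ k)) :=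
    isInvertible_tensorMod hE (isInvertible_tensorPow hL₁ k)
  have hu : ∀ (x : T) (b : (insert 1 (G x.1) : Finset _)),
      ∃ t' : Γ(CohB1.tensorMod E (CohB1.tensorPow L₁ k), ⊤),
        res _ (le_top : CohB1.genLocus L₁ (σ x.1) ≤ ⊤) t' =
          tw E L₁ (CohB1.genLocus L₁ (σ x.1)) (b.1 • ε x.1) (sv (σ x.1) _) k :=
    fun x b => hk' x.1 x.2 b.1 b.2
  choose u hu' using hu
  let w : ∀ (x : T) (b : (insert 1 (G x.1) : Finset _)),
      Γ(CohB1.tensorMod (CohB1.tensorMod E (CohB1.tensorPow L₁ k)) L₁, ⊤) :=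
    fun x b => tm _ L₁ ⊤ (u x b) (sv (σ x.1) ⊤)
  have hw : ∀ (x : T) (b : (insert 1 (G x.1) : Finset _)),
      res _ (le_top : CohB1.genLocus L₁ (σ x.1) ≤ ⊤) (w x b) =
        b.1 • tm (CohB1.tensorMod E (CohB1.tensorPow L₁ k)) L₁ (CohB1.genLocus L₁ (σ x.1))
          (tw E L₁ (CohB1.genLocus L₁ (σ x.1)) (ε x.1) (sv (σ x.1) _) k) (sv (σ x.1) _) := by
    intro x b
    change res _ _ (tm _ L₁ ⊤ (u x b) (sv (σ x.1) ⊤)) = _
    rw [res_tm, res_sv, hu', tw_smul_left, tm_smul_left]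
  have hgen0 : ∀ x : T, IsGen (CohB1.tensorMod (CohB1.tensorMod E (CohB1.tensorPow L₁ k)) L₁)
      (CohB1.genLocus L₁ (σ x.1))
      (tm (CohB1.tensorMod E (CohB1.tensorPow L₁ k)) L₁ (CohB1.genLocus L₁ (σ x.1))
          (tw E L₁ (CohB1.genLocus L₁ (σ x.1)) (ε x.1) (sv (σ x.1) _) k) (sv (σ x.1) _)) :=
    fun x => isGen_tm _ _ _ _ _
      (isGen_tm _ _ _ _ _ (hε x.1 x.2) (isGen_pw L₁ _ _ (isGen_sv_genLocus L₁ (σ x.1)) k))
      (isGen_sv_genLocus L₁ (σ x.1))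
  let one : ∀ x : T, (insert 1 (G x.1) : Finset _) := fun x => ⟨1, Finset.mem_insert_self _ _⟩
  have hw1 : ∀ x : T, res _ (le_top : CohB1.genLocus L₁ (σ x.1) ≤ ⊤) (w x (one x)) =
      tm (CohB1.tensorMod E (CohB1.tensorPow L₁ k)) L₁ (CohB1.genLocus L₁ (σ x.1))
          (tw E L₁ (CohB1.genLocus L₁ (σ x.1)) (ε x.1) (sv (σ x.1) _) k) (sv (σ x.1) _) := by
    intro x
    rw [hw, one_smul]
  have hloc : ∀ x : T, CohB1.genLocus _ (secHom _ (w x (one x))) = CohB1.genLocus L₁ (σ x.1) := by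
    intro x
    refine genLocus_secHom_tm _ L₁ hPinv hL₁ (σ x.1) (u x (one x)) ?_
    rw [hu', one_smul]
    exact isGen_tm _ _ _ _ _ (hε x.1 x.2) (isGen_pw L₁ _ _ (isGen_sv_genLocus L₁ (σ x.1)) k)
  let I : Type u := Option (Σ x : T, (insert 1 (G x.1) : Finset _))
  let sec : I → ProjUP.Γm (CohB1.tensorMod (CohB1.tensorMod E (CohB1.tensorPow L₁ k)) L₁) := fun i =>
    match i with
    | none => 0
    | some ⟨x, b⟩ => w x b
  haveI : Nonempty I := ⟨none⟩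
  obtain ⟨N, hN⟩ : ∃ N, Fintype.card I = N + 1 :=
    ⟨Fintype.card I - 1, (Nat.succ_pred_eq_of_pos Fintype.card_pos).symm⟩
  let e : Fin (N + 1) ≃ I := (Fintype.equivFinOfCardEq hN).symm
  let s : Fin (N + 1) → ProjUP.Γm (CohB1.tensorMod (CohB1.tensorMod E (CohB1.tensorPow L₁ k)) L₁) :=
    fun i => sec (e i)
  have hs_some : ∀ (x : T) (b : (insert 1 (G x.1) : Finset _)), s (e.symm (some ⟨x, b⟩)) = w x b := by
    intro x b
    change sec (e (e.symm (some ⟨x, b⟩))) = _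
    rw [Equiv.apply_symm_apply]
  refine ⟨N, s, ?_, fun x hx => ?_⟩
  · refine generatedBy_of_isGen _ s (fun y => ?_)
    obtain ⟨x, hx, hy⟩ := hcov y
    refine ⟨e.symm (some ⟨⟨x, hx⟩, one ⟨x, hx⟩⟩), CohB1.genLocus L₁ (σ x), hy, ?_⟩
    rw [hs_some, hw1]
    exact hgen0 ⟨x, hx⟩
  · refine ⟨e.symm (some ⟨⟨x, hx⟩, one ⟨x, hx⟩⟩), ?_, fun b hb => ?_⟩
    · rw [hs_some]; exact hloc ⟨x, hx⟩
    · refine ⟨e.symm (some ⟨⟨x, hx⟩, ⟨b, Finset.mem_insert_of_mem hb⟩⟩), ?_⟩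
      rw [hs_some, hs_some, hw, hw1]

end sections

section overBase

open Groth.Agent.R2.H87.ProjSpaceOver

variable {X S : Scheme.{u}} (f : X ⟶ S)

/-- generators of the ring of functions of an affine open of `X` over an affine open of `S` -/
theorem exists_generators_over [LocallyOfFiniteType f] (V : S.Opens) (hV : IsAffineOpen V) (U : X.Opens)
    (hU : IsAffineOpen U) (hle : U ≤ f ⁻¹ᵁ V) :
    ∃ G : Finset Γ(X, U), Subring.closure
      (Set.range (f.appLE V U hle).hom ∪ (G : Set Γ(X, U))) = ⊤ := by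
  have h1 : (f.appLE V U hle).hom.FiniteType := f.finiteType_appLE hV hU hle
  letI := (f.appLE V U hle).hom.toAlgebra
  obtain ⟨G, hG⟩ := (h1 : Algebra.FiniteType Γ(S, V) Γ(X, U)).out
  refine ⟨G, ?_⟩
  have h4 := Algebra.adjoin_eq_ring_closure (R := Γ(S, V)) (G : Set Γ(X, U))
  rw [hG] at h4
  rw [← RingHom.algebraMap_toAlgebra (f.appLE V U hle).hom, ← h4]
  rfl

/-- the embedding theorem over a general base `S`: the members `X_{σ_x}` of the affine cover map into affine opens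
`V x` of `S`, and `E` is trivial on them; then all `(E ⊗ L₁^k) ⊗ L₁`, `k ≥ k₀`, are pulled back from `O(1)` along an
immersion into `P^N_S` over `S`. -/
theorem exists_embedding_of_cover_twist_over [CompactSpace X] [QuasiSeparatedSpace X]
    [LocallyOfFiniteType f] (L₁ E : X.Modules) (hL₁ : PicF.IsInvertible L₁) (hE : PicF.IsInvertible E)
    (T : Finset X) (σ : X → (Coh.structureModule X ⟶ L₁)) (V : X → S.Opens)
    (haff : ∀ x ∈ T, IsAffineOpen (CohB1.genLocus L₁ (σ x)))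
    (hV : ∀ x ∈ T, IsAffineOpen (V x))
    (hle : ∀ x ∈ T, CohB1.genLocus L₁ (σ x) ≤ f ⁻¹ᵁ V x)
    (hcov : ∀ y : X, ∃ x ∈ T, y ∈ CohB1.genLocus L₁ (σ x))
    (htriv : ∀ x ∈ T, ∃ ε : Γ(E, CohB1.genLocus L₁ (σ x)), IsGen E (CohB1.genLocus L₁ (σ x)) ε) :
    ∃ k₀ : ℕ, ∀ k, k₀ ≤ k → ∃ (N : ℕ) (j : X ⟶ CohB1.ProjSpaceOver N S), IsImmersion j ∧
      j ≫ CohB1.ProjSpaceOver.toBase N S = f ∧
      Nonempty ((Scheme.Modules.pullback j).obj (Twist.twistOver N S 1) ≅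
        CohB1.tensorMod (CohB1.tensorMod E (CohB1.tensorPow L₁ k)) L₁) := by
  classical
  have hfg : ∀ x (hx : x ∈ T), ∃ G : Finset Γ(X, CohB1.genLocus L₁ (σ x)), Subring.closure
      (Set.range (f.appLE (V x) (CohB1.genLocus L₁ (σ x)) (hle x hx)).hom ∪
        (G : Set Γ(X, CohB1.genLocus L₁ (σ x)))) = ⊤ :=
    fun x hx => exists_generators_over f (V x) (hV x hx) _ (haff x hx) (hle x hx)
  choose! G hG using hfg
  obtain ⟨k₀, hk₀⟩ := exists_sections_of_cover_twist L₁ E hL₁ hE T σ hcov htriv G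
  refine ⟨k₀, fun k hk => ?_⟩
  obtain ⟨N, s, hgenS, hs⟩ := hk₀ k hk
  have hMinv : PicF.IsInvertible
      (CohB1.tensorMod (CohB1.tensorMod E (CohB1.tensorPow L₁ k)) L₁) :=
    isInvertible_tensorMod (isInvertible_tensorMod hE (isInvertible_tensorPow hL₁ k)) hL₁
  choose! i hi1 hi2 using hs
  set v := vOf N (qZ X) (CohB1.tensorMod (CohB1.tensorMod E (CohB1.tensorPow L₁ k)) L₁) s with hv
  have hXL : ∀ x : T, XL _ v (Pi.single (i x.1) (1 : ULift.{u} ℤ)) = CohB1.genLocus L₁ (σ x.1) := by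
    intro x
    unfold XL
    rw [hv, vOf_single, hi1 x.1 x.2]
  obtain ⟨j, himm, hjf, ⟨τ⟩⟩ := exists_immersion_over N f _ v hMinv (vOf_smul N (qZ X) _ s)
    (generatedBy_vOf N (qZ X) _ s hgenS)
    (fun x : T => (Pi.single (i x.1) (1 : ULift.{u} ℤ) : Fin (N + 1) → ULift.{u} ℤ))
    (fun x : T => V x.1)
    (by
      intro y
      obtain ⟨x, hx, hy⟩ := hcov y
      refine ⟨⟨x, hx⟩, ?_⟩
      rw [hXL]
      exact hy)
    (by
      intro x
      rw [hXL]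
      exact haff x.1 x.2)
    (fun x => hV x.1 x.2)
    (by
      intro x
      rw [hXL]
      exact hle x.1 x.2)
    (by
      intro x
      refine closure_eq_top_of_generators_over N _ v _ (CohB1.genLocus L₁ (σ x.1)) (hXL x)
        (f.appLE (V x.1) (CohB1.genLocus L₁ (σ x.1)) (hle x.1 x.2)).hom _ ?_
        (G x.1 : Set Γ(X, CohB1.genLocus L₁ (σ x.1))) (hG x.1 x.2) (fun b hb => ?_)
      · intro c
        have h1 := f.appLE_map (hle x.1 x.2) (homOfLE (hXL x).le).op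
        have h2 := congrArg (fun φ => φ.hom c) h1
        exact h2.symm
      · obtain ⟨i', hi'⟩ := hi2 x.1 x.2 b hb
        refine ⟨Pi.single i' 1, ?_⟩
        rw [hv, vOf_single, vOf_single]
        exact hi')
  exact ⟨N, j, himm, hjf, ⟨τ⟩⟩

end overBase

section eventuallyOver

variable {X S : Scheme.{u}}

/-- finitely many affine `X_σ`, with `σ` sections of one power `L^a`, all satisfying a property `P` which holds for
all sufficiently small opens around each point, cover a scheme with an ample `L` -/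
theorem exists_finite_affine_cover_of (L : X.Modules) (hL : CohB1.IsAmple L) (P : X.Opens → Prop)
    (hP : ∀ x : X, ∃ W : X.Opens, x ∈ W ∧ ∀ W' : X.Opens, W' ≤ W → P W') :
    ∃ (a : ℕ) (T : Finset X) (σ : X → (Coh.structureModule X ⟶ CohB1.tensorPow L a)), 0 < a ∧
      (∀ x ∈ T, IsAffineOpen (CohB1.genLocus _ (σ x))) ∧
      (∀ y : X, ∃ x ∈ T, y ∈ CohB1.genLocus _ (σ x)) ∧
      ∀ x ∈ T, P (CohB1.genLocus _ (σ x)) := by
  classical
  have hinv : PicF.IsInvertible L := hL.1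
  haveI : CompactSpace X := hL.2.1
  have hamp : ∀ x : X, ∃ (n : ℕ) (s : Coh.structureModule X ⟶ CohB1.tensorPow L (n + 1)),
      x ∈ CohB1.genLocus _ s ∧ IsAffineOpen (CohB1.genLocus _ s) ∧ P (CohB1.genLocus _ s) := by
    intro x
    obtain ⟨W, hxW, hW⟩ := hP x
    obtain ⟨n, s, hxs, hsW, haff⟩ := exists_genLocus_nhd_of_isAmple L hL W x hxW
    exact ⟨n, s, hxs, haff, hW _ hsW⟩
  choose n s hxs haff htriv using hamp
  obtain ⟨T, hT⟩ : ∃ T : Finset X, ∀ y : X, ∃ x ∈ T, y ∈ CohB1.genLocus _ (s x) := by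
    obtain ⟨T, hT⟩ := isCompact_univ.elim_finite_subcover
      (fun x => ((CohB1.genLocus _ (s x) : X.Opens) : Set X))
      (fun x => (CohB1.genLocus _ (s x)).2) (fun y _ => Set.mem_iUnion.2 ⟨y, hxs y⟩)
    refine ⟨T, fun y => ?_⟩
    obtain ⟨x, hx⟩ := Set.mem_iUnion.1 (hT (Set.mem_univ y))
    obtain ⟨hxT, hyx⟩ := Set.mem_iUnion.1 hx
    exact ⟨x, hxT, hyx⟩
  obtain ⟨a, ha⟩ : ∃ a : ℕ, a = ∏ x ∈ T, (n x + 1) := ⟨_, rfl⟩
  have ha0 : 0 < a := ha ▸ Finset.prod_pos (fun x _ => Nat.succ_pos _)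
  let c : X → ℕ := fun x => ∏ x' ∈ T.erase x, (n x' + 1)
  have hc0 : ∀ x, 0 < c x := fun x => Finset.prod_pos (fun x' _ => Nat.succ_pos _)
  have hca : ∀ x ∈ T, (n x + 1) * c x = a := fun x hx =>
    ha ▸ Finset.mul_prod_erase T (fun x => n x + 1) hx
  have hΦ : ∀ x, x ∈ T →
      Nonempty (CohB1.tensorPow (CohB1.tensorPow L (n x + 1)) (c x) ≅ CohB1.tensorPow L a) :=
    fun x hx => nonempty_tensorPow_tensorPow_iso L hinv (n x + 1) (c x) a (hca x hx)
  have hloc : ∀ x (hx : x ∈ T),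
      CohB1.genLocus _ (SecTwist.powHom (s x) (c x) ≫ (hΦ x hx).some.hom) = CohB1.genLocus _ (s x) := by
    intro x hx
    rw [genLocus_comp_iso, genLocus_powHom (isInvertible_tensorPow hinv _) (s x) (c x) (hc0 x)]
  refine ⟨a, T, fun x => if hx : x ∈ T then SecTwist.powHom (s x) (c x) ≫ (hΦ x hx).some.hom else 0,
    ha0, ?_, ?_, ?_⟩
  · intro x hx
    dsimp only
    rw [dif_pos hx, hloc x hx]
    exact haff x
  · intro y
    obtain ⟨x, hx, hy⟩ := hT y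
    refine ⟨x, hx, ?_⟩
    dsimp only
    rw [dif_pos hx, hloc x hx]
    exact hy
  · intro x hx
    dsimp only
    rw [dif_pos hx, hloc x hx]
    exact htriv x

/-- **Stacks 01VS**: for `f : X ⟶ S` locally of finite type and `L` ample on `X`, all powers `L^n`, `n ≥ n₀`, are
pulled back from `O(1)` along an immersion into a projective space over `S`. -/
theorem exists_embedding_eventually_over (f : X ⟶ S) [LocallyOfFiniteType f] (L : X.Modules)
    (hL : CohB1.IsAmple L) :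
    ∃ n₀ : ℕ, ∀ n, n₀ ≤ n → ∃ (N : ℕ) (j : X ⟶ CohB1.ProjSpaceOver N S), IsImmersion j ∧
      j ≫ CohB1.ProjSpaceOver.toBase N S = f ∧
      Nonempty ((Scheme.Modules.pullback j).obj (Twist.twistOver N S 1) ≅ CohB1.tensorPow L n) := by
  have hinv : PicF.IsInvertible L := hL.1
  haveI : CompactSpace X := hL.2.1
  haveI : QuasiSeparatedSpace X := quasiSeparatedSpace_of_isAmple L hL
  obtain ⟨a, T, σ, ha, haff, hcov, hP⟩ := exists_finite_affine_cover_of L hL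
    (fun W => (∃ ε : Γ(L, W), IsGen L W ε) ∧ ∃ V : S.Opens, IsAffineOpen V ∧ W ≤ f ⁻¹ᵁ V)
    (fun x => by
      obtain ⟨W₁, e, hxW₁, he⟩ := exists_gen L hinv x
      obtain ⟨V, hV, hxV, -⟩ := exists_isAffineOpen_mem_and_subset (X := S) (x := f x) (U := ⊤) trivial
      refine ⟨W₁ ⊓ f ⁻¹ᵁ V, ⟨hxW₁, hxV⟩, fun W' hW' => ⟨⟨res L (hW'.trans inf_le_left) e,
        he.mono (hW'.trans inf_le_left)⟩, V, hV, hW'.trans inf_le_right⟩⟩)
  have hP' : ∀ x ∈ T, ∃ (ε : Γ(L, CohB1.genLocus _ (σ x))) (V : S.Opens),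
      IsGen L (CohB1.genLocus _ (σ x)) ε ∧ IsAffineOpen V ∧ CohB1.genLocus _ (σ x) ≤ f ⁻¹ᵁ V := by
    intro x hx
    obtain ⟨⟨ε, hε⟩, V, hV, hle⟩ := hP x hx
    exact ⟨ε, V, hε, hV, hle⟩
  choose! ε V hε hV hleV using hP'
  have hLa : PicF.IsInvertible (CohB1.tensorPow L a) := isInvertible_tensorPow hinv a
  have h1 : ∀ ρ ∈ Finset.range a, ∃ k₀ : ℕ, ∀ k, k₀ ≤ k →
      ∃ (N : ℕ) (j : X ⟶ CohB1.ProjSpaceOver N S), IsImmersion j ∧
      j ≫ CohB1.ProjSpaceOver.toBase N S = f ∧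
      Nonempty ((Scheme.Modules.pullback j).obj (Twist.twistOver N S 1) ≅
        CohB1.tensorMod (CohB1.tensorMod (CohB1.tensorPow L ρ)
          (CohB1.tensorPow (CohB1.tensorPow L a) k)) (CohB1.tensorPow L a)) := by
    intro ρ _
    refine exists_embedding_of_cover_twist_over f (CohB1.tensorPow L a) (CohB1.tensorPow L ρ) hLa
      (isInvertible_tensorPow hinv ρ) T σ V haff hV hleV hcov (fun x hx => ?_)
    exact ⟨pw L _ (ε x) ρ, isGen_pw L _ (ε x) (hε x hx) ρ⟩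
  obtain ⟨K, hK⟩ := exists_uniform_bound (Finset.range a) _ h1
  refine ⟨a * (K + 1), fun n hn => ?_⟩
  have hρ : n % a ∈ Finset.range a := Finset.mem_range.2 (Nat.mod_lt n ha)
  have hdiv : K + 1 ≤ n / a := (Nat.le_div_iff_mul_le ha).2 (by rw [Nat.mul_comm]; exact hn)
  obtain ⟨k, hk⟩ : ∃ k, n / a = k + 1 := ⟨n / a - 1, by omega⟩
  obtain ⟨N, j, himm, hjf, ⟨τ⟩⟩ := hK k (by omega) (n % a) hρ
  refine ⟨N, j, himm, hjf, ?_⟩
  obtain ⟨Φ₁⟩ := nonempty_tensorMod_tensorPow_add_iso (CohB1.tensorPow L (n % a)) (CohB1.tensorPow L a)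
    (isInvertible_tensorPow hinv _) hLa k 1 (k + 1) rfl
  obtain ⟨Φ₂⟩ := nonempty_tensorPow_tensorPow_iso L hinv a (k + 1) (a * (k + 1)) rfl
  obtain ⟨Φ₃⟩ := nonempty_tensorPow_add_iso L hinv (n % a) (a * (k + 1)) n (by
    rw [← hk]; exact Nat.mod_add_div n a)
  exact ⟨τ ≪≫ tensorModIso (Iso.refl _) (unitTensorIso (CohB1.tensorPow L a)).symm ≪≫ Φ₁ ≪≫
    tensorModIso (Iso.refl _) Φ₂ ≪≫ Φ₃⟩

end eventuallyOver

end Groth.Agent.R2.H91.AmpleEmb
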