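import Mathlib
import Groth.Agent.R2.H91AmpleEmb2
import Groth.Agent.R2.H91AmpleEmbS2

/-!
# Projective embeddings by `L^n ⊗ L'`, `L` ample, `L'` invertible (helper91)

* `exists_embedding_eventually_twist` : over `Spec B` (EGA II 4.5.10 / 4.5.11).
* `exists_embedding_eventually_twist_over` : over a general base.
-/

set_option autoImplicit false
set_option linter.style.haveILetI false
set_option linter.unusedSectionVars false
universe u

open CategoryTheory CategoryTheory.Limits AlgebraicGeometry TopologicalSpace Opposite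

namespace Groth.Agent.R2.H91.AmpleEmb

open Groth.Agent.Helper13ProjUP
open Groth.Agent.Lib.Helper23.SecTw Groth.Agent.Lib.Helper6 Groth.Agent.Lib.Helper23.GenLocus
open Groth.Agent.Lib.Helper23.PB Groth.Agent.Lib.Helper23.Extend Groth.Agent.Lib.Helper23.AmpleIso
open Groth.Agent.Lib.Helper23.LocGen Groth.Agent.Lib.Helper23.TensorUnit

variable {X : Scheme.{u}}

/-- `((L' ⊗ L^ρ) ⊗ (L^a)^k) ⊗ L^a ≅ L^n ⊗ L'` for `n = ρ + a (k + 1)` -/
theorem nonempty_twist_iso (L L' : X.Modules) (hL : PicF.IsInvertible L) (hL' : PicF.IsInvertible L')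
    (ρ a k n : ℕ) (hn : ρ + a * (k + 1) = n) :
    Nonempty (CohB1.tensorMod (CohB1.tensorMod (CohB1.tensorMod L' (CohB1.tensorPow L ρ))
        (CohB1.tensorPow (CohB1.tensorPow L a) k)) (CohB1.tensorPow L a) ≅
      CohB1.tensorMod (CohB1.tensorPow L n) L') := by
  have hLa : PicF.IsInvertible (CohB1.tensorPow L a) := isInvertible_tensorPow hL a
  have hE : PicF.IsInvertible (CohB1.tensorMod L' (CohB1.tensorPow L ρ)) :=
    isInvertible_tensorMod hL' (isInvertible_tensorPow hL ρ)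
  obtain ⟨Φ₁⟩ := nonempty_tensorMod_tensorPow_add_iso (CohB1.tensorMod L' (CohB1.tensorPow L ρ))
    (CohB1.tensorPow L a) hE hLa k 1 (k + 1) rfl
  obtain ⟨Φ₂⟩ := nonempty_tensorPow_tensorPow_iso L hL a (k + 1) (a * (k + 1)) rfl
  obtain ⟨Φ₃⟩ := nonempty_tensorMod_tensorPow_add_iso L' L hL' hL ρ (a * (k + 1)) n hn
  obtain ⟨Φ₄⟩ := nonempty_tensorMod_comm_iso L' (CohB1.tensorPow L n) hL' (isInvertible_tensorPow hL n)
  exact ⟨tensorModIso (Iso.refl _) (unitTensorIso (CohB1.tensorPow L a)).symm ≪≫ Φ₁ ≪≫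
    tensorModIso (Iso.refl _) Φ₂ ≪≫ Φ₃ ≪≫ Φ₄⟩

/-- **EGA II 4.5.10/4.5.11**: for `L` ample and `L'` invertible on a scheme locally of finite type over `Spec B`, all
`L^n ⊗ L'`, `n ≥ n₀`, are pulled back from `O(1)` along an immersion into a projective space over `B`. -/
theorem exists_embedding_eventually_twist (B : Type u) [CommRing B] (f : X ⟶ Spec (CommRingCat.of B))
    [LocallyOfFiniteType f] (L L' : X.Modules) (hL : CohB1.IsAmple L) (hL' : PicF.IsInvertible L') :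
    ∃ n₀ : ℕ, ∀ n, n₀ ≤ n → ∃ (N : ℕ) (j : X ⟶ CohB1.ProjSpace N B), IsImmersion j ∧
      j ≫ CohB1.ProjSpace.toSpec N B = f ∧
      Nonempty ((Scheme.Modules.pullback j).obj (Twist.twistProjSpace N B 1) ≅
        CohB1.tensorMod (CohB1.tensorPow L n) L') := by
  have hinv : PicF.IsInvertible L := hL.1
  haveI : CompactSpace X := hL.2.1
  haveI : QuasiSeparatedSpace X := quasiSeparatedSpace_of_isAmple L hL
  obtain ⟨a, T, σ, ha, haff, hcov, hP⟩ := exists_finite_affine_cover_of L hL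
    (fun W => (∃ ε : Γ(L, W), IsGen L W ε) ∧ ∃ ε' : Γ(L', W), IsGen L' W ε')
    (fun x => by
      obtain ⟨W₁, e, hxW₁, he⟩ := exists_gen L hinv x
      obtain ⟨W₂, e', hxW₂, he'⟩ := exists_gen L' hL' x
      refine ⟨W₁ ⊓ W₂, ⟨hxW₁, hxW₂⟩, fun W' hW' => ⟨⟨res L (hW'.trans inf_le_left) e,
        he.mono (hW'.trans inf_le_left)⟩, res L' (hW'.trans inf_le_right) e',
        he'.mono (hW'.trans inf_le_right)⟩⟩)
  have hP' : ∀ x ∈ T, ∃ (ε : Γ(L, CohB1.genLocus _ (σ x))) (ε' : Γ(L', CohB1.genLocus _ (σ x))),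
      IsGen L (CohB1.genLocus _ (σ x)) ε ∧ IsGen L' (CohB1.genLocus _ (σ x)) ε' := by
    intro x hx
    obtain ⟨⟨ε, hε⟩, ε', hε'⟩ := hP x hx
    exact ⟨ε, ε', hε, hε'⟩
  choose! ε ε' hε hε' using hP'
  have hLa : PicF.IsInvertible (CohB1.tensorPow L a) := isInvertible_tensorPow hinv a
  have h1 : ∀ ρ ∈ Finset.range a, ∃ k₀ : ℕ, ∀ k, k₀ ≤ k →
      ∃ (N : ℕ) (j : X ⟶ CohB1.ProjSpace N B), IsImmersion j ∧
      j ≫ CohB1.ProjSpace.toSpec N B = f ∧
      Nonempty ((Scheme.Modules.pullback j).obj (Twist.twistProjSpace N B 1) ≅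
        CohB1.tensorMod (CohB1.tensorMod (CohB1.tensorMod L' (CohB1.tensorPow L ρ))
          (CohB1.tensorPow (CohB1.tensorPow L a) k)) (CohB1.tensorPow L a)) := by
    intro ρ _
    refine exists_embedding_of_cover_twist B f (CohB1.tensorPow L a)
      (CohB1.tensorMod L' (CohB1.tensorPow L ρ)) hLa
      (isInvertible_tensorMod hL' (isInvertible_tensorPow hinv ρ)) T σ haff hcov (fun x hx => ?_)
    exact ⟨tm L' (CohB1.tensorPow L ρ) _ (ε' x) (pw L _ (ε x) ρ),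
      isGen_tm _ _ _ _ _ (hε' x hx) (isGen_pw L _ (ε x) (hε x hx) ρ)⟩
  obtain ⟨K, hK⟩ := exists_uniform_bound (Finset.range a) _ h1
  refine ⟨a * (K + 1), fun n hn => ?_⟩
  have hρ : n % a ∈ Finset.range a := Finset.mem_range.2 (Nat.mod_lt n ha)
  have hdiv : K + 1 ≤ n / a := (Nat.le_div_iff_mul_le ha).2 (by rw [Nat.mul_comm]; exact hn)
  obtain ⟨k, hk⟩ : ∃ k, n / a = k + 1 := ⟨n / a - 1, by omega⟩
  obtain ⟨N, j, himm, hjf, ⟨τ⟩⟩ := hK k (by omega) (n % a) hρ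
  obtain ⟨Φ⟩ := nonempty_twist_iso L L' hinv hL' (n % a) a k n (by
    rw [← hk]; exact Nat.mod_add_div n a)
  exact ⟨N, j, himm, hjf, ⟨τ ≪≫ Φ⟩⟩

/-- the same over a general base -/
theorem exists_embedding_eventually_twist_over {S : Scheme.{u}} (f : X ⟶ S) [LocallyOfFiniteType f]
    (L L' : X.Modules) (hL : CohB1.IsAmple L) (hL' : PicF.IsInvertible L') :
    ∃ n₀ : ℕ, ∀ n, n₀ ≤ n → ∃ (N : ℕ) (j : X ⟶ CohB1.ProjSpaceOver N S), IsImmersion j ∧
      j ≫ CohB1.ProjSpaceOver.toBase N S = f ∧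
      Nonempty ((Scheme.Modules.pullback j).obj (Twist.twistOver N S 1) ≅
        CohB1.tensorMod (CohB1.tensorPow L n) L') := by
  have hinv : PicF.IsInvertible L := hL.1
  haveI : CompactSpace X := hL.2.1
  haveI : QuasiSeparatedSpace X := quasiSeparatedSpace_of_isAmple L hL
  obtain ⟨a, T, σ, ha, haff, hcov, hP⟩ := exists_finite_affine_cover_of L hL
    (fun W => ((∃ ε : Γ(L, W), IsGen L W ε) ∧ ∃ ε' : Γ(L', W), IsGen L' W ε') ∧
      ∃ V : S.Opens, IsAffineOpen V ∧ W ≤ f ⁻¹ᵁ V)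
    (fun x => by
      obtain ⟨W₁, e, hxW₁, he⟩ := exists_gen L hinv x
      obtain ⟨W₂, e', hxW₂, he'⟩ := exists_gen L' hL' x
      obtain ⟨V, hV, hxV, -⟩ := exists_isAffineOpen_mem_and_subset (X := S) (x := f x) (U := ⊤) trivial
      refine ⟨(W₁ ⊓ W₂) ⊓ f ⁻¹ᵁ V, ⟨⟨hxW₁, hxW₂⟩, hxV⟩, fun W' hW' => ⟨⟨⟨res L
        (hW'.trans (inf_le_left.trans inf_le_left)) e, he.mono _⟩, res L'
        (hW'.trans (inf_le_left.trans inf_le_right)) e', he'.mono _⟩, V, hV, hW'.trans inf_le_right⟩⟩)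
  have hP' : ∀ x ∈ T, ∃ (ε : Γ(L, CohB1.genLocus _ (σ x))) (ε' : Γ(L', CohB1.genLocus _ (σ x)))
      (V : S.Opens), IsGen L (CohB1.genLocus _ (σ x)) ε ∧ IsGen L' (CohB1.genLocus _ (σ x)) ε' ∧
        IsAffineOpen V ∧ CohB1.genLocus _ (σ x) ≤ f ⁻¹ᵁ V := by
    intro x hx
    obtain ⟨⟨⟨ε, hε⟩, ε', hε'⟩, V, hV, hle⟩ := hP x hx
    exact ⟨ε, ε', V, hε, hε', hV, hle⟩
  choose! ε ε' V hε hε' hV hleV using hP'
  have hLa : PicF.IsInvertible (CohB1.tensorPow L a) := isInvertible_tensorPow hinv a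
  have h1 : ∀ ρ ∈ Finset.range a, ∃ k₀ : ℕ, ∀ k, k₀ ≤ k →
      ∃ (N : ℕ) (j : X ⟶ CohB1.ProjSpaceOver N S), IsImmersion j ∧
      j ≫ CohB1.ProjSpaceOver.toBase N S = f ∧
      Nonempty ((Scheme.Modules.pullback j).obj (Twist.twistOver N S 1) ≅
        CohB1.tensorMod (CohB1.tensorMod (CohB1.tensorMod L' (CohB1.tensorPow L ρ))
          (CohB1.tensorPow (CohB1.tensorPow L a) k)) (CohB1.tensorPow L a)) := by
    intro ρ _
    refine exists_embedding_of_cover_twist_over f (CohB1.tensorPow L a)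
      (CohB1.tensorMod L' (CohB1.tensorPow L ρ)) hLa
      (isInvertible_tensorMod hL' (isInvertible_tensorPow hinv ρ)) T σ V haff hV hleV hcov
      (fun x hx => ?_)
    exact ⟨tm L' (CohB1.tensorPow L ρ) _ (ε' x) (pw L _ (ε x) ρ),
      isGen_tm _ _ _ _ _ (hε' x hx) (isGen_pw L _ (ε x) (hε x hx) ρ)⟩
  obtain ⟨K, hK⟩ := exists_uniform_bound (Finset.range a) _ h1
  refine ⟨a * (K + 1), fun n hn => ?_⟩
  have hρ : n % a ∈ Finset.range a := Finset.mem_range.2 (Nat.mod_lt n ha)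
  have hdiv : K + 1 ≤ n / a := (Nat.le_div_iff_mul_le ha).2 (by rw [Nat.mul_comm]; exact hn)
  obtain ⟨k, hk⟩ : ∃ k, n / a = k + 1 := ⟨n / a - 1, by omega⟩
  obtain ⟨N, j, himm, hjf, ⟨τ⟩⟩ := hK k (by omega) (n % a) hρ
  obtain ⟨Φ⟩ := nonempty_twist_iso L L' hinv hL' (n % a) a k n (by
    rw [← hk]; exact Nat.mod_add_div n a)
  exact ⟨N, j, himm, hjf, ⟨τ ≪≫ Φ⟩⟩

end Groth.Agent.R2.H91.AmpleEmb
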