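import Mathlib
import Groth.Prelude.Def_W4c5flasquetoriphsGLat

/-!
# Coflasque resolutions of modules over a finite group (helper91)

* `h1_perm`: vanishing of `H¹` of a finite group with values in a permutation module `ι → ℤ`.
* `exists_coflasque_resolution`: for a finite group `G` and a finitely generated `G`-module `A`
  there is an exact sequence `0 → Q → P → A → 0` with `P` permutation and `Q` coflasque.
-/

set_option autoImplicit false
set_option linter.unusedSectionVars false

namespace Groth.Agent.R2.H91.GLat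

section H1

variable {H : Type*} [Group H] [Finite H] {ι : Type*} [MulAction H ι]

/-- A 1-cocycle of a finite group with values in the functions on an `H`-set is a coboundary. -/
theorem h1_perm (c : H → ι → ℤ)
    (hc : ∀ (a b : H) (i : ι), c (a * b) i = c a i + c b (a⁻¹ • i)) :
    ∃ m : ι → ℤ, ∀ (a : H) (i : ι), c a i = m (a⁻¹ • i) - m i := by
  classical
  have hc1 : ∀ i, c 1 i = 0 := by
    intro i
    have := hc 1 1 i
    rw [mul_one, inv_one, one_smul] at this
    linarith
  -- vanishing on stabilizers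
  have hstab : ∀ (s : H) (j : ι), s • j = j → c s j = 0 := by
    intro s j hs
    have hs' : s⁻¹ • j = j := by
      rw [inv_smul_eq_iff, hs]
    have hpow : ∀ n : ℕ, c (s ^ n) j = n * c s j := by
      intro n
      induction n with
      | zero => simp [hc1]
      | succ n ih =>
        rw [pow_succ', hc, hs', ih]
        push_cast; ring
    have hN := hpow (orderOf s)
    rw [pow_orderOf_eq_one, hc1] at hN
    have hpos : (0 : ℤ) < orderOf s := by exact_mod_cast orderOf_pos s
    rcases mul_eq_zero.mp hN.symm with h | h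
    · omega
    · exact h
  -- orbit representatives
  let rep : ι → ι := fun i => (Quotient.mk (MulAction.orbitRel H ι) i).out
  have hrep : ∀ i, ∃ t : H, t • rep i = i := by
    intro i
    have h1 : (MulAction.orbitRel H ι).r (rep i) i := Quotient.mk_out (s := MulAction.orbitRel H ι) i
    have h2 : (MulAction.orbitRel H ι).r i (rep i) := (MulAction.orbitRel H ι).symm h1
    rw [MulAction.orbitRel_apply] at h2
    obtain ⟨t, ht⟩ := h2
    exact ⟨t, ht⟩
  have hrep_smul : ∀ (a : H) (i : ι), rep (a • i) = rep i := by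
    intro a i
    show (Quotient.mk (MulAction.orbitRel H ι) (a • i)).out = (Quotient.mk (MulAction.orbitRel H ι) i).out
    congr 1
    apply Quotient.sound
    show (MulAction.orbitRel H ι).r (a • i) i
    rw [MulAction.orbitRel_apply]
    exact ⟨a, rfl⟩
  choose t ht using hrep
  refine ⟨fun i => - c (t i) i, ?_⟩
  intro a i
  set i' := a⁻¹ • i with hi'
  set u := t i' with hu
  have hu' : u • rep i = i' := by
    have := ht i'
    rwa [hrep_smul] at this
  set w := a * u with hw
  have hwi : w • rep i = i := by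
    rw [hw, mul_smul, hu', hi', smul_inv_smul]
  set s := (t i)⁻¹ * w with hs
  have hsr : s • rep i = rep i := by
    rw [hs, mul_smul, hwi, inv_smul_eq_iff, ht i]
  have hws : w = t i * s := by rw [hs, mul_inv_cancel_left]
  have e1 : c w i = c a i + c u i' := by rw [hw, hc]
  have e2 : c w i = c (t i) i + c s (rep i) := by
    rw [hws, hc]
    congr 2
    rw [inv_smul_eq_iff, ht i]
  have e3 : c s (rep i) = 0 := hstab s (rep i) hsr
  show c a i = - c u i' - - c (t i) i
  linarith

end H1

section Construction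

variable {G : Type} [Group G] [Finite G] {A : Type} [AddCommGroup A] [Module.Finite ℤ A]
  (ρ : Representation ℤ G A)

/-- The invariants of a subgroup, as a ℤ-submodule. -/
def inv (K : Subgroup G) : Submodule ℤ A where
  carrier := {a | ∀ k ∈ K, ρ k a = a}
  add_mem' := by
    intro a b ha hb k hk
    rw [map_add, ha k hk, hb k hk]
  zero_mem' := by
    intro k _
    rw [map_zero]
  smul_mem' := by
    intro c a ha k hk
    rw [map_smul, ha k hk]

omit [Finite G] in
theorem inv_fg (K : Subgroup G) : (inv ρ K).FG := by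
  have : IsNoetherian ℤ A := inferInstance
  exact IsNoetherian.noetherian _

/-- Chosen finite generating sets of the invariants. -/
noncomputable def gens (K : Subgroup G) : Finset A := (inv_fg ρ K).choose

theorem span_gens (K : Subgroup G) : Submodule.span ℤ (gens ρ K : Set A) = inv ρ K :=
  (inv_fg ρ K).choose_spec

theorem gens_mem_inv (K : Subgroup G) (s : A) (hs : s ∈ gens ρ K) : s ∈ inv ρ K := by
  rw [← span_gens]
  exact Submodule.subset_span hs

/-- The index set of the permutation basis. -/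
abbrev Idx : Type := Σ K : Subgroup G, (↥(gens ρ K)) × (G ⧸ K)

instance : Finite (Idx ρ) := by
  unfold Idx
  infer_instance

noncomputable instance : Fintype (Idx ρ) := Fintype.ofFinite _

instance : MulAction G (Idx ρ) where
  smul g x := ⟨x.1, x.2.1, g • x.2.2⟩
  one_smul := by
    rintro ⟨K, s, q⟩
    show (⟨K, s, (1 : G) • q⟩ : Idx ρ) = ⟨K, s, q⟩
    rw [one_smul]
  mul_smul := by
    rintro g h ⟨K, s, q⟩
    show (⟨K, s, (g * h) • q⟩ : Idx ρ) = ⟨K, s, g • h • q⟩
    rw [mul_smul]

theorem smul_mk (g : G) (K : Subgroup G) (s : ↥(gens ρ K)) (q : G ⧸ K) :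
    g • (⟨K, s, q⟩ : Idx ρ) = ⟨K, s, g • q⟩ := rfl

/-- The permutation representation on functions on the index set. -/
def perm : Representation ℤ G (Idx ρ → ℤ) where
  toFun g :=
    { toFun := fun v i => v (g⁻¹ • i)
      map_add' := fun v w => rfl
      map_smul' := fun c v => rfl }
  map_one' := by
    ext v i
    simp
  map_mul' := by
    intro g h
    ext v i
    simp [mul_smul]

theorem perm_apply (g : G) (v : Idx ρ → ℤ) (i : Idx ρ) : perm ρ g v i = v (g⁻¹ • i) := rfl

/-- The map sending the index `(K, s, xK)` to `x • s`. -/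
noncomputable def phi : Idx ρ → A := fun i =>
  Quotient.liftOn' i.2.2 (fun x => ρ x (i.2.1 : A)) (by
    intro x y hxy
    rw [QuotientGroup.leftRel_apply] at hxy
    have hs := gens_mem_inv ρ i.1 _ i.2.1.2 _ hxy
    show ρ x (i.2.1 : A) = ρ y (i.2.1 : A)
    have : y = x * (x⁻¹ * y) := by group
    rw [this, map_mul, Module.End.mul_apply, hs])

theorem phi_mk (K : Subgroup G) (s : ↥(gens ρ K)) (x : G) :
    phi ρ ⟨K, s, (x : G ⧸ K)⟩ = ρ x (s : A) := rfl

theorem phi_smul (g : G) (i : Idx ρ) : phi ρ (g • i) = ρ g (phi ρ i) := by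
  obtain ⟨K, s, q⟩ := i
  induction q using QuotientGroup.induction_on with
  | H x =>
    rw [smul_mk]
    show phi ρ ⟨K, s, ((g * x : G) : G ⧸ K)⟩ = _
    rw [phi_mk, phi_mk, map_mul, Module.End.mul_apply]

/-- The augmentation `P → A`. -/
noncomputable def aug : (Idx ρ → ℤ) →ₗ[ℤ] A :=
  Fintype.linearCombination (α := Idx ρ) (M := A) ℤ (phi ρ)

theorem aug_apply (v : Idx ρ → ℤ) : aug ρ v = ∑ i, v i • phi ρ i := by
  unfold aug
  rw [Fintype.linearCombination_apply]

theorem aug_single (i : Idx ρ) [DecidableEq (Idx ρ)] : aug ρ (Pi.single i 1) = phi ρ i := by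
  rw [aug_apply, Finset.sum_eq_single i]
  · rw [Pi.single_eq_same, one_smul]
  · intro j _ hj
    rw [Pi.single_eq_of_ne hj, zero_smul]
  · intro h; exact absurd (Finset.mem_univ i) h

theorem aug_perm (g : G) (v : Idx ρ → ℤ) : aug ρ (perm ρ g v) = ρ g (aug ρ v) := by
  rw [aug_apply, aug_apply, map_sum]
  rw [← Equiv.sum_comp (MulAction.toPerm g) (fun i => perm ρ g v i • phi ρ i)]
  refine Finset.sum_congr rfl fun i _ => ?_
  rw [MulAction.toPerm_apply, perm_apply, inv_smul_smul, phi_smul, map_smul]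

theorem perm_single (g : G) (i : Idx ρ) [DecidableEq (Idx ρ)] :
    perm ρ g (Pi.single i 1) = Pi.single (g • i) 1 := by
  funext j
  rw [perm_apply]
  by_cases h : j = g • i
  · subst h
    rw [inv_smul_smul, Pi.single_eq_same, Pi.single_eq_same]
  · rw [Pi.single_eq_of_ne h, Pi.single_eq_of_ne]
    intro h'
    apply h
    rw [← h', smul_inv_smul]

/-- Every `K`-invariant element of `A` is the image of a `K`-invariant element of `P`. -/
theorem exists_inv_lift (K : Subgroup G) (a : A) (ha : a ∈ inv ρ K) :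
    ∃ v : Idx ρ → ℤ, (∀ k ∈ K, perm ρ k v = v) ∧ aug ρ v = a := by
  classical
  rw [← span_gens] at ha
  induction ha using Submodule.span_induction with
  | mem s hs =>
    refine ⟨Pi.single (⟨K, ⟨s, hs⟩, ((1 : G) : G ⧸ K)⟩ : Idx ρ) 1, ?_, ?_⟩
    · intro k hk
      rw [perm_single, smul_mk]
      congr 3
      show ((k * 1 : G) : G ⧸ K) = ((1 : G) : G ⧸ K)
      rw [mul_one, QuotientGroup.eq, mul_one]
      exact K.inv_mem hk
    · rw [aug_single, phi_mk, map_one, Module.End.one_apply]
  | zero => exact ⟨0, fun k _ => map_zero _, map_zero _⟩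
  | add x y _ _ hx hy =>
    obtain ⟨v, hv, rfl⟩ := hx
    obtain ⟨w, hw, rfl⟩ := hy
    exact ⟨v + w, fun k hk => by rw [map_add, hv k hk, hw k hk], map_add _ _ _⟩
  | smul c x _ hx =>
    obtain ⟨v, hv, rfl⟩ := hx
    exact ⟨c • v, fun k hk => by rw [map_smul, hv k hk], map_smul _ _ _⟩

theorem aug_surjective : Function.Surjective (aug ρ) := by
  intro a
  have ha : a ∈ inv ρ (⊥ : Subgroup G) := by
    intro k hk
    rw [Subgroup.mem_bot] at hk
    rw [hk, map_one, Module.End.one_apply]
  obtain ⟨v, -, hv⟩ := exists_inv_lift ρ ⊥ a ha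
  exact ⟨v, hv⟩

/-- The kernel of the augmentation. -/
noncomputable abbrev Ker : Submodule ℤ (Idx ρ → ℤ) := LinearMap.ker (aug ρ)

theorem perm_mem_ker (g : G) (v : Idx ρ → ℤ) (hv : v ∈ Ker ρ) : perm ρ g v ∈ Ker ρ := by
  rw [LinearMap.mem_ker] at hv ⊢
  rw [aug_perm, hv, map_zero]

/-- The representation on the kernel. -/
noncomputable def kerRep : Representation ℤ G ↥(Ker ρ) where
  toFun g := (perm ρ g).restrict (fun v hv => perm_mem_ker ρ g v hv)
  map_one' := by
    ext v
    simp
  map_mul' := by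
    intro g h
    ext v
    simp

theorem kerRep_coe (g : G) (q : ↥(Ker ρ)) : ((kerRep ρ g q : ↥(Ker ρ)) : Idx ρ → ℤ) = perm ρ g q :=
  rfl

theorem isPermutation_perm : GLat.IsPermutation (perm ρ) := by
  classical
  refine ⟨Idx ρ, Pi.basisFun ℤ (Idx ρ), ?_⟩
  intro g i
  refine ⟨g • i, ?_⟩
  rw [Pi.basisFun_apply, Pi.basisFun_apply, perm_single]

theorem isCoflasque_kerRep : GLat.IsCoflasque (kerRep ρ) := by
  intro K f hf
  -- the cocycle with values in `P`
  let c : ↥K → Idx ρ → ℤ := fun a i => (f a : Idx ρ → ℤ) i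
  have hc : ∀ (a b : ↥K) (i : Idx ρ), c (a * b) i = c a i + c b (a⁻¹ • i) := by
    intro a b i
    show (f (a * b) : Idx ρ → ℤ) i = (f a : Idx ρ → ℤ) i + (f b : Idx ρ → ℤ) (a⁻¹ • i)
    rw [hf a b]
    rfl
  obtain ⟨m, hm⟩ := h1_perm c hc
  have hfm : ∀ a : ↥K, (f a : Idx ρ → ℤ) = perm ρ (a : G) m - m := by
    intro a
    funext i
    exact hm a i
  -- `aug m` is `K`-invariant
  have hinv : aug ρ m ∈ inv ρ K := by
    intro k hk
    have h1 : aug ρ (f ⟨k, hk⟩ : Idx ρ → ℤ) = 0 := (f ⟨k, hk⟩).2
    rw [hfm, map_sub, aug_perm, sub_eq_zero] at h1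
    exact h1
  obtain ⟨v, hv, hvm⟩ := exists_inv_lift ρ K _ hinv
  have hq : m - v ∈ Ker ρ := by
    rw [LinearMap.mem_ker, map_sub, hvm, sub_self]
  refine ⟨⟨m - v, hq⟩, ?_⟩
  intro a
  apply Subtype.ext
  rw [hfm]
  show perm ρ (a : G) m - m = perm ρ (a : G) (m - v) - (m - v)
  rw [map_sub, hv a a.2]
  abel

end Construction

end Groth.Agent.R2.H91.GLat
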