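import Mathlib
import Groth.Prelude.Def_W4c5flasquetoriphsGLat
import Groth.Agent.R2.H91GLat

/-!
# Flasque and coflasque modules over a finite group: general lemmas (helper91)

* `NH`, `IH`: norm and augmentation submodule for a subgroup.
* `isFlasque_of_exact`, `isCoflasque_of_exact`: the middle term of a short exact sequence
  with flasque (resp. coflasque) ends is flasque (resp. coflasque).
* `fnRep`: permutation representation on functions on a `G`-set; it is a permutation module,
  flasque and coflasque.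
-/

set_option autoImplicit false
set_option linter.unusedSectionVars false

namespace Groth.Agent.R2.H91.GLatB

open Groth.Agent.R2.H91.GLat

section Basics

variable {G : Type} [Group G] [Finite G] {M N : Type} [AddCommGroup M] [AddCommGroup N]
  (ρ : Representation ℤ G M) (σ : Representation ℤ G N)

/-- A `Fintype` structure on every subgroup of the finite group. -/
noncomputable local instance instFintypeSub (H : Subgroup G) : Fintype ↥H := Fintype.ofFinite _

/-- The augmentation submodule `I_H M`. -/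
def IH (H : Subgroup G) : Submodule ℤ M :=
  Submodule.span ℤ {x : M | ∃ (h : H) (y : M), x = ρ (h : G) y - y}

/-- The norm `N_H`. -/
noncomputable def NH (H : Subgroup G) : M →ₗ[ℤ] M := ∑ h : H, ρ (h : G)

theorem NH_apply (H : Subgroup G) (m : M) : NH ρ H m = ∑ h : H, ρ (h : G) m := by
  unfold NH
  rw [LinearMap.sum_apply]

theorem NH_eq_finsum (H : Subgroup G) (m : M) : NH ρ H m = ∑ᶠ h : H, ρ (h : G) m := by
  rw [NH_apply, finsum_eq_sum_of_fintype]

theorem NH_rho (H : Subgroup G) (h : H) (m : M) : NH ρ H (ρ (h : G) m) = NH ρ H m := by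
  rw [NH_apply, NH_apply]
  rw [← Equiv.sum_comp (Equiv.mulRight h) (fun h' : H => ρ (h' : G) m)]
  refine Finset.sum_congr rfl fun h' _ => ?_
  rw [Equiv.coe_mulRight, Subgroup.coe_mul, map_mul, Module.End.mul_apply]

theorem NH_eq_zero_of_mem_IH (H : Subgroup G) (m : M) (hm : m ∈ IH ρ H) : NH ρ H m = 0 := by
  induction hm using Submodule.span_induction with
  | mem x hx =>
    obtain ⟨h, y, rfl⟩ := hx
    rw [map_sub, NH_rho, sub_self]
  | zero => exact map_zero _
  | add x y _ _ hx hy => rw [map_add, hx, hy, add_zero]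
  | smul c x _ hx => rw [map_smul, hx, smul_zero]

theorem card_smul_sub_NH_mem_IH (H : Subgroup G) (m : M) :
    (Nat.card H : ℤ) • m - NH ρ H m ∈ IH ρ H := by
  rw [NH_apply]
  have h1 : (Nat.card H : ℤ) • m = ∑ _h : H, m := by
    rw [Finset.sum_const, Finset.card_univ, Nat.card_eq_fintype_card, natCast_zsmul]
  rw [h1, ← Finset.sum_sub_distrib]
  refine Submodule.sum_mem _ fun h _ => ?_
  have h2 : m - ρ (h : G) m = -(ρ (h : G) m - m) := by abel
  rw [h2]
  exact Submodule.neg_mem _ (Submodule.subset_span ⟨h, m, rfl⟩)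

theorem isFlasque_of_torsion
    (h : ∀ (H : Subgroup G) (m : M), (Nat.card H : ℤ) • m ∈ IH ρ H → m ∈ IH ρ H) :
    GLat.IsFlasque ρ := by
  intro H m hm
  rw [← NH_eq_finsum] at hm
  apply h
  have := card_smul_sub_NH_mem_IH ρ H m
  rwa [hm, sub_zero] at this

theorem IH_bot : IH ρ (⊥ : Subgroup G) = ⊥ := by
  unfold IH
  rw [Submodule.span_eq_bot]
  rintro x ⟨h, y, rfl⟩
  have : (h : G) = 1 := Subgroup.mem_bot.mp h.2
  rw [this, map_one, Module.End.one_apply, sub_self]

variable {ρ σ}

theorem map_NH {f : M →ₗ[ℤ] N} (hf : GLat.IsEquivariant ρ σ f) (H : Subgroup G) (m : M) :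
    f (NH ρ H m) = NH σ H (f m) := by
  rw [NH_apply, NH_apply, map_sum]
  exact Finset.sum_congr rfl fun h _ => hf h m

theorem map_mem_IH {f : M →ₗ[ℤ] N} (hf : GLat.IsEquivariant ρ σ f) (H : Subgroup G) (m : M)
    (hm : m ∈ IH ρ H) : f m ∈ IH σ H := by
  induction hm using Submodule.span_induction with
  | mem x hx =>
    obtain ⟨h, y, rfl⟩ := hx
    rw [map_sub, hf]
    exact Submodule.subset_span ⟨h, f y, rfl⟩
  | zero => rw [map_zero]; exact zero_mem _
  | add x y _ _ hx hy => rw [map_add]; exact add_mem hx hy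
  | smul c x _ hx => rw [map_smul]; exact Submodule.smul_mem _ _ hx

theorem exists_mem_IH_of_surjective {f : M →ₗ[ℤ] N} (hf : GLat.IsEquivariant ρ σ f)
    (hsurj : Function.Surjective f) (H : Subgroup G) (n : N) (hn : n ∈ IH σ H) :
    ∃ m ∈ IH ρ H, f m = n := by
  induction hn using Submodule.span_induction with
  | mem x hx =>
    obtain ⟨h, y, rfl⟩ := hx
    obtain ⟨y', rfl⟩ := hsurj y
    exact ⟨ρ (h : G) y' - y', Submodule.subset_span ⟨h, y', rfl⟩, by rw [map_sub, hf]⟩
  | zero => exact ⟨0, zero_mem _, map_zero _⟩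
  | add x y _ _ hx hy =>
    obtain ⟨a, ha, rfl⟩ := hx
    obtain ⟨b, hb, rfl⟩ := hy
    exact ⟨a + b, add_mem ha hb, map_add _ _ _⟩
  | smul c x _ hx =>
    obtain ⟨a, ha, rfl⟩ := hx
    exact ⟨c • a, Submodule.smul_mem _ _ ha, map_smul _ _ _⟩

end Basics

section Exact

attribute [local instance] instFintypeSub

variable {G : Type} [Group G] [Finite G] {M' M M'' : Type} [AddCommGroup M'] [AddCommGroup M]
  [AddCommGroup M''] {ρ' : Representation ℤ G M'} {ρ : Representation ℤ G M}
  {ρ'' : Representation ℤ G M''} {j : M' →ₗ[ℤ] M} {π : M →ₗ[ℤ] M''}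

theorem isFlasque_of_exact (hj : GLat.IsEquivariant ρ' ρ j) (hπ : GLat.IsEquivariant ρ ρ'' π)
    (hjinj : Function.Injective j) (hπsurj : Function.Surjective π)
    (hex : LinearMap.range j = LinearMap.ker π)
    (h' : GLat.IsFlasque ρ') (h'' : GLat.IsFlasque ρ'') : GLat.IsFlasque ρ := by
  intro H m hm
  rw [← NH_eq_finsum] at hm
  have h1 : NH ρ'' H (π m) = 0 := by rw [← map_NH hπ, hm, map_zero]
  have h2 : π m ∈ IH ρ'' H := h'' H (π m) (by rw [← NH_eq_finsum]; exact h1)
  obtain ⟨w, hw, hwm⟩ := exists_mem_IH_of_surjective hπ hπsurj H _ h2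
  have h3 : m - w ∈ LinearMap.ker π := by rw [LinearMap.mem_ker, map_sub, hwm, sub_self]
  rw [← hex] at h3
  obtain ⟨m', hm'⟩ := h3
  have h4 : NH ρ' H m' = 0 := by
    apply hjinj
    rw [map_NH hj, hm', map_sub, hm, NH_eq_zero_of_mem_IH ρ H w hw, sub_zero, map_zero]
  have h5 : m' ∈ IH ρ' H := h' H m' (by rw [← NH_eq_finsum]; exact h4)
  have h6 : j m' ∈ IH ρ H := map_mem_IH hj H m' h5
  have h7 : m = w + j m' := by rw [hm']; abel
  show m ∈ IH ρ H
  rw [h7]
  exact add_mem hw h6

theorem isCoflasque_of_exact (hj : GLat.IsEquivariant ρ' ρ j) (hπ : GLat.IsEquivariant ρ ρ'' π)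
    (hjinj : Function.Injective j) (hπsurj : Function.Surjective π)
    (hex : LinearMap.range j = LinearMap.ker π)
    (h' : GLat.IsCoflasque ρ') (h'' : GLat.IsCoflasque ρ'') : GLat.IsCoflasque ρ := by
  intro H f hf
  obtain ⟨m₀, hm₀⟩ := h'' H (fun a => π (f a)) (by
    intro a b
    show π (f (a * b)) = π (f a) + ρ'' (a : G) (π (f b))
    rw [hf, map_add, hπ])
  obtain ⟨e, rfl⟩ := hπsurj m₀
  have hker : ∀ a : H, f a - (ρ (a : G) e - e) ∈ LinearMap.range j := by
    intro a
    rw [hex, LinearMap.mem_ker, map_sub, map_sub, hπ]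
    have h0 : π (f a) = ρ'' (a : G) (π e) - π e := hm₀ a
    rw [h0, sub_self]
  choose g hg using hker
  obtain ⟨q, hq⟩ := h' H g (by
    intro a b
    apply hjinj
    rw [map_add, hj, hg, hg, hg, hf, map_sub, map_sub, Subgroup.coe_mul, map_mul,
      Module.End.mul_apply]
    abel)
  refine ⟨e + j q, fun a => ?_⟩
  have h1 := hg a
  rw [hq a, map_sub, hj] at h1
  rw [map_add]
  have h2 : f a = (ρ (a : G) (j q) - j q) + (ρ (a : G) e - e) := by rw [h1]; abel
  rw [h2]
  abel

theorem isTorsionFree_of_exact (hjinj : Function.Injective j)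
    (hex : LinearMap.range j = LinearMap.ker π)
    [Module.IsTorsionFree ℤ M'] [Module.IsTorsionFree ℤ M''] : Module.IsTorsionFree ℤ M := by
  apply Module.IsTorsionFree.of_smul_eq_zero
  intro n m hnm
  by_cases hn : n = 0
  · exact Or.inl hn
  · right
    have h1 : n • π m = 0 := by rw [← map_smul, hnm, map_zero]
    have h2 : π m = 0 := (smul_eq_zero.mp h1).resolve_left hn
    have h3 : m ∈ LinearMap.range j := by rw [hex]; exact h2
    obtain ⟨m', rfl⟩ := h3
    have h4 : j (n • m') = 0 := by rw [map_smul]; exact hnm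
    have h5 : n • m' = 0 := hjinj (by rw [h4, map_zero])
    have h6 : m' = 0 := (smul_eq_zero.mp h5).resolve_left hn
    rw [h6, map_zero]

end Exact

section FnRep

attribute [local instance] instFintypeSub

variable {G : Type} [Group G] (X : Type) [MulAction G X]

/-- The permutation representation on the integer-valued functions on a `G`-set. -/
def fnRep : Representation ℤ G (X → ℤ) where
  toFun g :=
    { toFun := fun v i => v (g⁻¹ • i)
      map_add' := fun _ _ => rfl
      map_smul' := fun _ _ => rfl }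
  map_one' := by
    ext v i
    simp
  map_mul' := by
    intro g h
    ext v i
    simp [mul_smul]

theorem fnRep_apply (g : G) (v : X → ℤ) (i : X) : fnRep X g v i = v (g⁻¹ • i) := rfl

theorem fnRep_single [DecidableEq X] (g : G) (i : X) (c : ℤ) :
    fnRep X g (Pi.single i c) = Pi.single (g • i) c := by
  funext j
  rw [fnRep_apply]
  by_cases h : j = g • i
  · subst h
    rw [inv_smul_smul, Pi.single_eq_same, Pi.single_eq_same]
  · rw [Pi.single_eq_of_ne h, Pi.single_eq_of_ne]
    intro h'
    apply h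
    rw [← h', smul_inv_smul]

theorem isPermutation_fnRep [Finite X] : GLat.IsPermutation (fnRep (G := G) X) := by
  classical
  refine ⟨X, Pi.basisFun ℤ X, ?_⟩
  intro g i
  refine ⟨g • i, ?_⟩
  rw [Pi.basisFun_apply, Pi.basisFun_apply, fnRep_single]

theorem isCoflasque_fnRep [Finite G] : GLat.IsCoflasque (fnRep (G := G) X) := by
  intro K f hf
  obtain ⟨m, hm⟩ := h1_perm (H := ↥K) (ι := X) (fun a i => f a i) (by
    intro a b i
    show f (a * b) i = f a i + f b (a⁻¹ • i)
    rw [hf a b]
    rfl)
  exact ⟨m, fun a => funext fun i => hm a i⟩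

theorem isFlasque_fnRep [Finite G] [Finite X] : GLat.IsFlasque (fnRep (G := G) X) := by
  classical
  let _ : Fintype X := Fintype.ofFinite X
  intro H w hw
  rw [← NH_eq_finsum] at hw
  show w ∈ IH (fnRep X) H
  -- orbit representatives for the action of `H`
  let rep : X → X := fun i => (Quotient.mk (MulAction.orbitRel H X) i).out
  have hrep : ∀ i, ∃ t : H, t • rep i = i := by
    intro i
    have h1 : (MulAction.orbitRel H X).r (rep i) i := Quotient.mk_out (s := MulAction.orbitRel H X) i
    have h2 : (MulAction.orbitRel H X).r i (rep i) := (MulAction.orbitRel H X).symm h1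
    rw [MulAction.orbitRel_apply] at h2
    obtain ⟨t, ht⟩ := h2
    exact ⟨t, ht⟩
  have hrep_smul : ∀ (a : H) (i : X), rep (a • i) = rep i := by
    intro a i
    show (Quotient.mk (MulAction.orbitRel H X) (a • i)).out = (Quotient.mk (MulAction.orbitRel H X) i).out
    congr 1
    apply Quotient.sound
    show (MulAction.orbitRel H X).r (a • i) i
    rw [MulAction.orbitRel_apply]
    exact ⟨a, rfl⟩
  choose t ht using hrep
  -- the collapse map
  let R : (X → ℤ) →ₗ[ℤ] (X → ℤ) :=
    ∑ x : X, (LinearMap.single ℤ (fun _ : X => ℤ) (rep x)).comp (LinearMap.proj x)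
  have hR : ∀ v : X → ℤ, R v = ∑ x : X, Pi.single (rep x) (v x) := by
    intro v
    show (∑ x : X, (LinearMap.single ℤ (fun _ : X => ℤ) (rep x)).comp (LinearMap.proj x)) v = _
    rw [LinearMap.sum_apply]
    rfl
  have hRh : ∀ (h : H) (v : X → ℤ), R (fnRep X (h : G) v) = R v := by
    intro h v
    rw [hR, hR]
    rw [← Equiv.sum_comp (MulAction.toPerm h)
      (fun x => (Pi.single (rep x) (fnRep X (h : G) v x) : X → ℤ))]
    refine Finset.sum_congr rfl fun x _ => ?_
    rw [MulAction.toPerm_apply, hrep_smul, fnRep_apply]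
    congr 1
    show v ((h : G)⁻¹ • ((h : G) • x)) = v x
    rw [inv_smul_smul]
  have hRN : R (NH (fnRep X) H w) = (Nat.card H : ℤ) • R w := by
    rw [NH_apply, map_sum]
    rw [Finset.sum_congr rfl (fun h _ => hRh h w)]
    rw [Finset.sum_const, Finset.card_univ, Nat.card_eq_fintype_card, natCast_zsmul]
  have hRw : R w = 0 := by
    rw [hw, map_zero] at hRN
    have hcard : (Nat.card H : ℤ) ≠ 0 := by exact_mod_cast Nat.card_pos.ne'
    exact (smul_eq_zero.mp hRN.symm).resolve_left hcard
  have hsub : w - R w ∈ IH (fnRep X) H := by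
    have hw' : w - R w = ∑ x : X, (Pi.single x (w x) - Pi.single (rep x) (w x)) := by
      rw [Finset.sum_sub_distrib, Finset.univ_sum_single, hR]
    rw [hw']
    refine Submodule.sum_mem _ fun x _ => ?_
    refine Submodule.subset_span ⟨t x, Pi.single (rep x) (w x), ?_⟩
    rw [fnRep_single]
    congr 2
    exact (ht x).symm
  rw [hRw, sub_zero] at hsub
  exact hsub

end FnRep

section PermIsFn

variable {G : Type} [Group G] [Finite G] {A : Type} [AddCommGroup A] [Module.Finite ℤ A]
  (ρ : Representation ℤ G A)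

theorem perm_eq_fnRep : perm ρ = fnRep (G := G) (Idx ρ) := rfl

theorem isFlasque_perm : GLat.IsFlasque (perm ρ) := by
  rw [perm_eq_fnRep]
  exact isFlasque_fnRep _

theorem isCoflasque_perm : GLat.IsCoflasque (perm ρ) := by
  rw [perm_eq_fnRep]
  exact isCoflasque_fnRep _

end PermIsFn


end Groth.Agent.R2.H91.GLatB
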