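import Mathlib
import Groth.Prelude.Def_W4c5flasquetoriphsGLat
import Groth.Agent.R2.H91GLat
import Groth.Agent.R2.H91GLatB

/-!
# Flasque resolutions of lattices over a finite group (helper91)

For a `G`-lattice `A` we embed `A` into the permutation lattice on the index set of the dual
representation, `a ↦ (φ (x⁻¹ a))`, and show that the cokernel is a flasque lattice.
-/

set_option autoImplicit false
set_option linter.unusedSectionVars false

namespace Groth.Agent.R2.H91.GLatC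

open Groth.Agent.R2.H91.GLat Groth.Agent.R2.H91.GLatB

attribute [local instance] instFintypeSub

section FnRepTorsion

variable {G : Type} [Group G] [Finite G] (X : Type) [MulAction G X] [Finite X]

theorem mem_IH_of_smul_mem (H : Subgroup G) (k : ℤ) (hk : k ≠ 0) (v : X → ℤ)
    (h : k • v ∈ IH (fnRep X) H) : v ∈ IH (fnRep X) H := by
  have h1 := NH_eq_zero_of_mem_IH _ H _ h
  rw [map_smul] at h1
  have h2 : NH (fnRep X) H v = 0 := (smul_eq_zero.mp h1).resolve_left hk
  exact isFlasque_fnRep X H v (by rw [← NH_eq_finsum]; exact h2)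

end FnRepTorsion

section Dual

variable {G : Type} [Group G] [Finite G] {A : Type} [AddCommGroup A] [Module.Finite ℤ A]
  [Module.Free ℤ A] (ρ : Representation ℤ G A)

/-- The index set of the permutation lattice: that of the dual representation. -/
abbrev DIdx : Type := Idx ρ.dual

/-- The embedding of a lattice into a permutation lattice. -/
noncomputable def emb : A →ₗ[ℤ] (DIdx ρ → ℤ) where
  toFun a i := phi ρ.dual i a
  map_add' a b := by funext i; exact map_add _ _ _
  map_smul' c a := by funext i; exact map_smul _ _ _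

theorem emb_apply (a : A) (i : DIdx ρ) : emb ρ a i = phi ρ.dual i a := rfl

theorem emb_equivariant : GLat.IsEquivariant ρ (perm ρ.dual) (emb ρ) := by
  intro g a
  funext i
  rw [perm_apply, emb_apply, emb_apply, phi_smul, Representation.dual_apply,
    Module.Dual.transpose_apply, inv_inv]
  rfl

theorem emb_coord (K : Subgroup G) (s : ↥(gens ρ.dual K)) (a : A) :
    emb ρ a ⟨K, s, ((1 : G) : G ⧸ K)⟩ = (s : Module.Dual ℤ A) a := by
  rw [emb_apply, phi_mk, map_one, Module.End.one_apply]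

theorem dvd_of_gens (n : ℤ) (a : A) (K : Subgroup G)
    (h : ∀ s ∈ gens ρ.dual K, n ∣ (s : Module.Dual ℤ A) a)
    (φ : Module.Dual ℤ A) (hφ : φ ∈ inv ρ.dual K) : n ∣ φ a := by
  rw [← span_gens] at hφ
  induction hφ using Submodule.span_induction with
  | mem x hx => exact h x hx
  | zero => rw [LinearMap.zero_apply]; exact dvd_zero _
  | add x y _ _ hx hy => rw [LinearMap.add_apply]; exact dvd_add hx hy
  | smul c x _ hx => rw [LinearMap.smul_apply, smul_eq_mul]; exact Dvd.dvd.mul_left hx c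

theorem emb_injective : Function.Injective (emb ρ) := by
  rw [injective_iff_map_eq_zero]
  intro a ha
  rw [← Module.forall_dual_apply_eq_zero_iff ℤ a]
  intro φ
  have hφ : φ ∈ inv ρ.dual (⊥ : Subgroup G) := by
    intro k hk
    rw [Subgroup.mem_bot] at hk
    rw [hk, map_one, Module.End.one_apply]
  have := dvd_of_gens ρ 0 a ⊥ (by
    intro s hs
    have h1 := congrFun ha ⟨⊥, ⟨s, hs⟩, ((1 : G) : G ⧸ (⊥ : Subgroup G))⟩
    rw [emb_coord] at h1
    rw [h1]
    exact dvd_zero _) φ hφ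
  exact zero_dvd_iff.mp this

theorem coord_IH_eq_zero (H : Subgroup G) (s : ↥(gens ρ.dual H)) (w : DIdx ρ → ℤ)
    (hw : w ∈ IH (perm ρ.dual) H) : w ⟨H, s, ((1 : G) : G ⧸ H)⟩ = 0 := by
  induction hw using Submodule.span_induction with
  | mem x hx =>
    obtain ⟨h, y, rfl⟩ := hx
    show perm ρ.dual (h : G) y ⟨H, s, _⟩ - y ⟨H, s, _⟩ = 0
    rw [perm_apply, smul_mk]
    have h1 : ((h : G)⁻¹ • (((1 : G) : G ⧸ H))) = ((1 : G) : G ⧸ H) := by
      show ((((h : G)⁻¹ * 1 : G)) : G ⧸ H) = _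
      rw [mul_one, QuotientGroup.eq, mul_one, inv_inv]
      exact h.2
    rw [h1, sub_self]
  | zero => rfl
  | add x y _ _ hx hy => rw [Pi.add_apply, hx, hy, add_zero]
  | smul c x _ hx => rw [Pi.smul_apply, hx, smul_zero]

theorem exists_decomp (H : Subgroup G) (n : ℤ) (a : A)
    (h : ∀ φ ∈ inv ρ.dual H, n ∣ φ a) :
    ∃ (a' t : A) (m : ℤ), m ≠ 0 ∧ a = n • a' + t ∧ m • t ∈ IH ρ H := by
  classical
  let q₁ : A →ₗ[ℤ] (A ⧸ IH ρ H) := (IH ρ H).mkQ
  let q₂ : (A ⧸ IH ρ H) →ₗ[ℤ] ((A ⧸ IH ρ H) ⧸ Submodule.torsion ℤ (A ⧸ IH ρ H)) :=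
    (Submodule.torsion ℤ (A ⧸ IH ρ H)).mkQ
  let q := q₂ ∘ₗ q₁
  have hqsurj : Function.Surjective q :=
    (Submodule.mkQ_surjective _).comp (Submodule.mkQ_surjective _)
  let b := Module.Free.chooseBasis ℤ ((A ⧸ IH ρ H) ⧸ Submodule.torsion ℤ (A ⧸ IH ρ H))
  let e := b.equivFun
  have hq : ∀ (h : H) (y : A), q (ρ (h : G) y) = q y := by
    intro h y
    have h0 : ρ (h : G) y - y ∈ IH ρ H := Submodule.subset_span ⟨h, y, rfl⟩
    have h1 : q₁ (ρ (h : G) y - y) = 0 := (Submodule.Quotient.mk_eq_zero _).mpr h0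
    have h2 : q (ρ (h : G) y - y) = 0 := by
      show q₂ (q₁ _) = 0
      rw [h1, map_zero]
    rwa [map_sub, sub_eq_zero] at h2
  have hcoord : ∀ k, n ∣ e (q a) k := by
    intro k
    let φ : Module.Dual ℤ A := (LinearMap.proj k).comp (e.toLinearMap.comp q)
    have hmem : φ ∈ inv ρ.dual H := by
      intro h hh
      ext y
      show e (q (ρ h⁻¹ y)) k = e (q y) k
      rw [hq ⟨h⁻¹, H.inv_mem hh⟩ y]
    exact h φ hmem
  choose c hc using hcoord
  obtain ⟨a', ha'⟩ := hqsurj (e.symm c)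
  have h1 : q a = n • q a' := by
    rw [ha']
    apply e.injective
    rw [map_smul, e.apply_symm_apply]
    funext k
    rw [hc k]
    rfl
  have h2 : q (a - n • a') = 0 := by rw [map_sub, map_smul, h1, sub_self]
  have h3 : q₁ (a - n • a') ∈ Submodule.torsion ℤ (A ⧸ IH ρ H) :=
    (Submodule.Quotient.mk_eq_zero _).mp h2
  rw [Submodule.mem_torsion_iff] at h3
  obtain ⟨⟨m, hm⟩, hm'⟩ := h3
  refine ⟨a', a - n • a', m, nonZeroDivisors.ne_zero hm, by abel, ?_⟩
  have h4 : q₁ (m • (a - n • a')) = 0 := by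
    rw [map_smul]
    exact hm'
  exact (Submodule.Quotient.mk_eq_zero _).mp h4

theorem purity (H : Subgroup G) (n : ℤ) (hn : n ≠ 0) (p : DIdx ρ → ℤ)
    (hp : n • p ∈ LinearMap.range (emb ρ) ⊔ IH (perm ρ.dual) H) :
    p ∈ LinearMap.range (emb ρ) ⊔ IH (perm ρ.dual) H := by
  rw [Submodule.mem_sup] at hp
  obtain ⟨_, ⟨a, rfl⟩, w, hw, hsum⟩ := hp
  have hdiv : ∀ s ∈ gens ρ.dual H, n ∣ (s : Module.Dual ℤ A) a := by
    intro s hs
    have h1 := congrFun hsum ⟨H, ⟨s, hs⟩, ((1 : G) : G ⧸ H)⟩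
    rw [Pi.add_apply, emb_coord, coord_IH_eq_zero ρ H ⟨s, hs⟩ w hw, add_zero, Pi.smul_apply,
      smul_eq_mul] at h1
    exact ⟨_, h1⟩
  obtain ⟨a', t, m, hm, hat, hmt⟩ := exists_decomp ρ H n a (dvd_of_gens ρ n a H hdiv)
  have h1 : (m * n) • (p - emb ρ a') ∈ IH (perm ρ.dual) H := by
    have h0 : (m * n) • (p - emb ρ a') = emb ρ (m • t) + m • w := by
      rw [mul_smul, smul_sub, ← hsum, hat, map_add, map_smul, map_smul]
      module
    rw [h0]
    exact add_mem (map_mem_IH (emb_equivariant ρ) H _ hmt) (Submodule.smul_mem _ _ hw)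
  have h2 : p - emb ρ a' ∈ IH (perm ρ.dual) H :=
    mem_IH_of_smul_mem (DIdx ρ) H (m * n) (mul_ne_zero hm hn) _ h1
  rw [Submodule.mem_sup]
  exact ⟨emb ρ a', ⟨a', rfl⟩, p - emb ρ a', h2, by abel⟩

theorem range_emb_le_comap (g : G) :
    LinearMap.range (emb ρ) ≤ (LinearMap.range (emb ρ)).comap (perm ρ.dual g) := by
  rintro _ ⟨a, rfl⟩
  exact ⟨ρ g a, emb_equivariant ρ g a⟩

/-- The flasque cokernel. -/
abbrev F : Type := (DIdx ρ → ℤ) ⧸ LinearMap.range (emb ρ)

/-- The representation on the cokernel. -/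
noncomputable def repF : Representation ℤ G (F ρ) :=
  (perm ρ.dual).quotient _ (range_emb_le_comap ρ)

theorem mkQ_equivariant :
    GLat.IsEquivariant (perm ρ.dual) (repF ρ) (LinearMap.range (emb ρ)).mkQ := by
  intro g v
  rfl

instance isTorsionFree_F : Module.IsTorsionFree ℤ (F ρ) := by
  apply Module.IsTorsionFree.of_smul_eq_zero
  intro n x hx
  by_cases hn : n = 0
  · exact Or.inl hn
  · right
    obtain ⟨p, rfl⟩ := Submodule.mkQ_surjective _ x
    have h1 : n • p ∈ LinearMap.range (emb ρ) := by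
      rw [← Submodule.Quotient.mk_eq_zero, Submodule.Quotient.mk_smul]
      exact hx
    have h2 := purity ρ ⊥ n hn p (Submodule.mem_sup_left h1)
    rw [IH_bot, sup_bot_eq] at h2
    exact (Submodule.Quotient.mk_eq_zero _).mpr h2

theorem isFlasque_repF : GLat.IsFlasque (repF ρ) := by
  apply isFlasque_of_torsion
  intro H x hx
  obtain ⟨p, rfl⟩ := Submodule.mkQ_surjective _ x
  obtain ⟨w, hw, hwp⟩ := exists_mem_IH_of_surjective (mkQ_equivariant ρ)
    (Submodule.mkQ_surjective _) H _ hx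
  have h1 : (Nat.card H : ℤ) • p - w ∈ LinearMap.range (emb ρ) := by
    rw [← Submodule.Quotient.mk_eq_zero, Submodule.Quotient.mk_sub, Submodule.Quotient.mk_smul]
    rw [sub_eq_zero]
    exact hwp.symm
  have h2 : (Nat.card H : ℤ) • p ∈ LinearMap.range (emb ρ) ⊔ IH (perm ρ.dual) H := by
    rw [Submodule.mem_sup]
    exact ⟨_, h1, w, hw, by abel⟩
  have hcard : (Nat.card H : ℤ) ≠ 0 := by exact_mod_cast Nat.card_pos.ne'
  have h3 := purity ρ H _ hcard p h2
  rw [Submodule.mem_sup] at h3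
  obtain ⟨_, ⟨a, rfl⟩, w', hw', rfl⟩ := h3
  have h4 : (LinearMap.range (emb ρ)).mkQ (emb ρ a + w') = (LinearMap.range (emb ρ)).mkQ w' := by
    rw [map_add]
    have : (LinearMap.range (emb ρ)).mkQ (emb ρ a) = 0 :=
      (Submodule.Quotient.mk_eq_zero _).mpr ⟨a, rfl⟩
    rw [this, zero_add]
  rw [h4]
  exact map_mem_IH (mkQ_equivariant ρ) H w' hw'

/-- Flasque resolution of a lattice (with the extra information that the permutation lattice
is flasque and coflasque). -/
theorem exists_flasque_resolution :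
    ∃ (P : Type) (_ : AddCommGroup P) (F : Type) (_ : AddCommGroup F)
      (_ : Module.Finite ℤ P) (_ : Module.Free ℤ P) (_ : Module.Finite ℤ F) (_ : Module.Free ℤ F)
      (σ : Representation ℤ G P) (τ : Representation ℤ G F) (i : A →ₗ[ℤ] P) (π : P →ₗ[ℤ] F),
      GLat.IsEquivariant ρ σ i ∧ GLat.IsEquivariant σ τ π ∧ Function.Injective i ∧
      Function.Surjective π ∧ LinearMap.range i = LinearMap.ker π ∧ GLat.IsPermutation σ ∧
      GLat.IsFlasque τ ∧ GLat.IsFlasque σ ∧ GLat.IsCoflasque σ := by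
  refine ⟨DIdx ρ → ℤ, inferInstance, F ρ, inferInstance, inferInstance, inferInstance,
    inferInstance, inferInstance, perm ρ.dual, repF ρ, emb ρ, (LinearMap.range (emb ρ)).mkQ,
    emb_equivariant ρ, mkQ_equivariant ρ, emb_injective ρ, Submodule.mkQ_surjective _,
    (Submodule.ker_mkQ _).symm, isPermutation_perm _, isFlasque_repF ρ, isFlasque_perm _,
    isCoflasque_perm _⟩

end Dual

end Groth.Agent.R2.H91.GLatC
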