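import Mathlib
import Groth.Prelude.Def_W4c5flasquetoriphsGLat
import Groth.Agent.R2.H91GLatB

/-!
# Pullback and pushout of resolutions of modules over a finite group (helper91)
-/

set_option autoImplicit false
set_option linter.unusedSectionVars false

namespace Groth.Agent.R2.H91.GLatD

open Groth.Agent.R2.H91.GLatB

section Pullback

variable {G : Type} [Group G] [Finite G]
  {A P₀ B Q P : Type} [AddCommGroup A] [AddCommGroup P₀] [AddCommGroup B] [AddCommGroup Q]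
  [AddCommGroup P]
  {ρA : Representation ℤ G A} {ρP₀ : Representation ℤ G P₀} {ρB : Representation ℤ G B}
  {ρQ : Representation ℤ G Q} {ρP : Representation ℤ G P}
  {i₀ : A →ₗ[ℤ] P₀} {q : P₀ →ₗ[ℤ] B} {j : Q →ₗ[ℤ] P} {π : P →ₗ[ℤ] B}

/-- The pullback module `P ×_B P₀`. -/
def PB (π : P →ₗ[ℤ] B) (q : P₀ →ₗ[ℤ] B) : Submodule ℤ (P × P₀) :=
  LinearMap.ker (π.comp (LinearMap.fst ℤ P P₀) - q.comp (LinearMap.snd ℤ P P₀))

theorem mem_PB (x : P × P₀) : x ∈ PB π q ↔ π x.1 = q x.2 := by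
  unfold PB
  rw [LinearMap.mem_ker, LinearMap.sub_apply, sub_eq_zero]
  rfl

theorem PB_le_comap (hπ : GLat.IsEquivariant ρP ρB π) (hq : GLat.IsEquivariant ρP₀ ρB q) (g : G) :
    PB π q ≤ (PB π q).comap ((ρP.prod ρP₀) g) := by
  intro x hx
  rw [Submodule.mem_comap, mem_PB]
  rw [mem_PB] at hx
  show π (ρP g x.1) = q (ρP₀ g x.2)
  rw [hπ, hq, hx]

theorem pullback_resolution [Module.Finite ℤ P₀] [Module.Free ℤ P₀] [Module.Finite ℤ P]
    [Module.Free ℤ P]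
    (hi₀ : GLat.IsEquivariant ρA ρP₀ i₀) (hq : GLat.IsEquivariant ρP₀ ρB q)
    (hj : GLat.IsEquivariant ρQ ρP j) (hπ : GLat.IsEquivariant ρP ρB π)
    (hi₀inj : Function.Injective i₀) (hqsurj : Function.Surjective q)
    (hex₀ : LinearMap.range i₀ = LinearMap.ker q)
    (hjinj : Function.Injective j) (hπsurj : Function.Surjective π)
    (hex : LinearMap.range j = LinearMap.ker π)
    (hQ : GLat.IsCoflasque ρQ) (hP₀ : GLat.IsCoflasque ρP₀) :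
    ∃ (E : Type) (_ : AddCommGroup E) (_ : Module.Finite ℤ E) (_ : Module.Free ℤ E)
      (ρE : Representation ℤ G E) (iE : A →ₗ[ℤ] E) (πE : E →ₗ[ℤ] P),
      GLat.IsEquivariant ρA ρE iE ∧ GLat.IsEquivariant ρE ρP πE ∧ Function.Injective iE ∧
      Function.Surjective πE ∧ LinearMap.range iE = LinearMap.ker πE ∧ GLat.IsCoflasque ρE := by
  have hqi : ∀ a, q (i₀ a) = 0 := by
    intro a
    have : i₀ a ∈ LinearMap.ker q := by rw [← hex₀]; exact ⟨a, rfl⟩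
    exact this
  have hπj : ∀ x, π (j x) = 0 := by
    intro x
    have : j x ∈ LinearMap.ker π := by rw [← hex]; exact ⟨x, rfl⟩
    exact this
  let ρE : Representation ℤ G ↥(PB π q) :=
    (ρP.prod ρP₀).subrepresentation (PB π q) (PB_le_comap hπ hq)
  let iE : A →ₗ[ℤ] ↥(PB π q) :=
    LinearMap.codRestrict (PB π q) ((LinearMap.inr ℤ P P₀).comp i₀) (by
      intro a
      rw [mem_PB]
      show π 0 = q (i₀ a)
      rw [map_zero, hqi])
  let πE : ↥(PB π q) →ₗ[ℤ] P := (LinearMap.fst ℤ P P₀).comp (PB π q).subtype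
  let jE : Q →ₗ[ℤ] ↥(PB π q) :=
    LinearMap.codRestrict (PB π q) ((LinearMap.inl ℤ P P₀).comp j) (by
      intro x
      rw [mem_PB]
      show π (j x) = q 0
      rw [map_zero, hπj])
  let πE₀ : ↥(PB π q) →ₗ[ℤ] P₀ := (LinearMap.snd ℤ P P₀).comp (PB π q).subtype
  refine ⟨↥(PB π q), inferInstance, inferInstance, inferInstance, ρE, iE, πE, ?_, ?_, ?_, ?_, ?_, ?_⟩
  · intro g a
    apply Subtype.ext
    show ((0 : P), i₀ (ρA g a)) = (ρP g 0, ρP₀ g (i₀ a))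
    rw [map_zero, hi₀]
  · intro g x
    rfl
  · intro a b hab
    have h1 : (iE a : P × P₀).2 = (iE b : P × P₀).2 := by rw [hab]
    exact hi₀inj h1
  · intro p
    obtain ⟨p₀, hp₀⟩ := hqsurj (π p)
    exact ⟨⟨(p, p₀), by rw [mem_PB]; exact hp₀.symm⟩, rfl⟩
  · ext x
    constructor
    · rintro ⟨a, rfl⟩
      rfl
    · intro hx
      obtain ⟨⟨p, p₀⟩, hmem⟩ := x
      have hp : p = 0 := hx
      subst hp
      rw [mem_PB] at hmem
      have h1 : p₀ ∈ LinearMap.ker q := by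
        rw [LinearMap.mem_ker]
        show q p₀ = 0
        rw [← hmem]
        exact map_zero _
      rw [← hex₀] at h1
      obtain ⟨a, rfl⟩ := h1
      exact ⟨a, rfl⟩
  · refine isCoflasque_of_exact (ρ' := ρQ) (ρ := ρE) (ρ'' := ρP₀) (j := jE) (π := πE₀)
      ?_ ?_ ?_ ?_ ?_ hQ hP₀
    · intro g x
      apply Subtype.ext
      show (j (ρQ g x), (0 : P₀)) = (ρP g (j x), ρP₀ g 0)
      rw [map_zero, hj]
    · intro g x
      rfl
    · intro a b hab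
      have h1 : (jE a : P × P₀).1 = (jE b : P × P₀).1 := by rw [hab]
      exact hjinj h1
    · intro p₀
      obtain ⟨p, hp⟩ := hπsurj (q p₀)
      exact ⟨⟨(p, p₀), by rw [mem_PB]; exact hp⟩, rfl⟩
    · ext x
      constructor
      · rintro ⟨a, rfl⟩
        rfl
      · intro hx
        obtain ⟨⟨p, p₀⟩, hmem⟩ := x
        have hp : p₀ = 0 := hx
        subst hp
        rw [mem_PB] at hmem
        have h1 : p ∈ LinearMap.ker π := by
          rw [LinearMap.mem_ker]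
          show π p = 0
          rw [hmem]
          exact map_zero _
        rw [← hex] at h1
        obtain ⟨a, rfl⟩ := h1
        exact ⟨a, rfl⟩

end Pullback

section Pushout

variable {G : Type} [Group G] [Finite G]
  {Q P₁ A P₂ F₂ : Type} [AddCommGroup Q] [AddCommGroup P₁] [AddCommGroup A] [AddCommGroup P₂]
  [AddCommGroup F₂]
  {ρQ : Representation ℤ G Q} {ρ₁ : Representation ℤ G P₁} {ρA : Representation ℤ G A}
  {ρ₂ : Representation ℤ G P₂} {ρF : Representation ℤ G F₂}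
  {j₁ : Q →ₗ[ℤ] P₁} {π₁ : P₁ →ₗ[ℤ] A} {j₂ : Q →ₗ[ℤ] P₂} {π₂ : P₂ →ₗ[ℤ] F₂}

/-- The antidiagonal copy of `Q` in `P₁ × P₂`. -/
def antiDiag (j₁ : Q →ₗ[ℤ] P₁) (j₂ : Q →ₗ[ℤ] P₂) : Submodule ℤ (P₁ × P₂) :=
  LinearMap.range (LinearMap.prod j₁ (-j₂))

theorem mem_antiDiag (x : P₁ × P₂) : x ∈ antiDiag j₁ j₂ ↔ ∃ y : Q, j₁ y = x.1 ∧ -j₂ y = x.2 := by
  unfold antiDiag
  rw [LinearMap.mem_range]
  constructor
  · rintro ⟨y, rfl⟩
    exact ⟨y, rfl, rfl⟩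
  · rintro ⟨y, h1, h2⟩
    exact ⟨y, Prod.ext h1 h2⟩

theorem antiDiag_le_comap (hj₁ : GLat.IsEquivariant ρQ ρ₁ j₁) (hj₂ : GLat.IsEquivariant ρQ ρ₂ j₂)
    (g : G) : antiDiag j₁ j₂ ≤ (antiDiag j₁ j₂).comap ((ρ₁.prod ρ₂) g) := by
  intro x hx
  rw [Submodule.mem_comap, mem_antiDiag]
  rw [mem_antiDiag] at hx
  obtain ⟨y, h1, h2⟩ := hx
  refine ⟨ρQ g y, ?_, ?_⟩
  · show j₁ (ρQ g y) = ρ₁ g x.1
    rw [hj₁, h1]
  · show -j₂ (ρQ g y) = ρ₂ g x.2
    rw [hj₂, ← h2, map_neg]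

theorem pushout_resolution [Module.Finite ℤ P₁] [Module.Free ℤ P₁] [Module.Finite ℤ P₂]
    [Module.Free ℤ F₂]
    (hj₁ : GLat.IsEquivariant ρQ ρ₁ j₁) (hπ₁ : GLat.IsEquivariant ρ₁ ρA π₁)
    (hj₂ : GLat.IsEquivariant ρQ ρ₂ j₂) (hπ₂ : GLat.IsEquivariant ρ₂ ρF π₂)
    (hj₁inj : Function.Injective j₁) (hπ₁surj : Function.Surjective π₁)
    (hex₁ : LinearMap.range j₁ = LinearMap.ker π₁)
    (hj₂inj : Function.Injective j₂) (hπ₂surj : Function.Surjective π₂)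
    (hex₂ : LinearMap.range j₂ = LinearMap.ker π₂)
    (hP₁ : GLat.IsFlasque ρ₁) (hF₂ : GLat.IsFlasque ρF) :
    ∃ (E : Type) (_ : AddCommGroup E) (_ : Module.Finite ℤ E) (_ : Module.Free ℤ E)
      (ρE : Representation ℤ G E) (iE : P₂ →ₗ[ℤ] E) (πE : E →ₗ[ℤ] A),
      GLat.IsEquivariant ρ₂ ρE iE ∧ GLat.IsEquivariant ρE ρA πE ∧ Function.Injective iE ∧
      Function.Surjective πE ∧ LinearMap.range iE = LinearMap.ker πE ∧ GLat.IsFlasque ρE := by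
  have hπj₁ : ∀ y, π₁ (j₁ y) = 0 := by
    intro y
    have : j₁ y ∈ LinearMap.ker π₁ := by rw [← hex₁]; exact ⟨y, rfl⟩
    exact this
  have hπj₂ : ∀ y, π₂ (j₂ y) = 0 := by
    intro y
    have : j₂ y ∈ LinearMap.ker π₂ := by rw [← hex₂]; exact ⟨y, rfl⟩
    exact this
  let D : Submodule ℤ (P₁ × P₂) := antiDiag j₁ j₂
  let ρE : Representation ℤ G ((P₁ × P₂) ⧸ D) :=
    (ρ₁.prod ρ₂).quotient D (antiDiag_le_comap hj₁ hj₂)
  let iE : P₂ →ₗ[ℤ] (P₁ × P₂) ⧸ D := D.mkQ.comp (LinearMap.inr ℤ P₁ P₂)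
  let jE : P₁ →ₗ[ℤ] (P₁ × P₂) ⧸ D := D.mkQ.comp (LinearMap.inl ℤ P₁ P₂)
  let πE : (P₁ × P₂) ⧸ D →ₗ[ℤ] A := D.liftQ (π₁.comp (LinearMap.fst ℤ P₁ P₂)) (by
    intro x hx
    rw [mem_antiDiag] at hx
    obtain ⟨y, h1, -⟩ := hx
    rw [LinearMap.mem_ker]
    show π₁ x.1 = 0
    rw [← h1, hπj₁])
  let πE₂ : (P₁ × P₂) ⧸ D →ₗ[ℤ] F₂ := D.liftQ (π₂.comp (LinearMap.snd ℤ P₁ P₂)) (by
    intro x hx
    rw [mem_antiDiag] at hx
    obtain ⟨y, -, h2⟩ := hx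
    rw [LinearMap.mem_ker]
    show π₂ x.2 = 0
    rw [← h2, map_neg, hπj₂, neg_zero])
  -- the auxiliary exact sequence `0 → P₁ → E → F₂ → 0`
  have hjE : GLat.IsEquivariant ρ₁ ρE jE := by
    intro g p
    show D.mkQ (ρ₁ g p, (0 : P₂)) = D.mkQ (ρ₁ g p, ρ₂ g 0)
    rw [map_zero]
  have hπE₂ : GLat.IsEquivariant ρE ρF πE₂ := by
    intro g x
    obtain ⟨⟨p₁, p₂⟩, rfl⟩ := Submodule.mkQ_surjective D x
    show π₂ (ρ₂ g p₂) = ρF g (π₂ p₂)
    rw [hπ₂]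
  have hjEinj : Function.Injective jE := by
    rw [injective_iff_map_eq_zero]
    intro p hp
    have h1 : ((p, 0) : P₁ × P₂) ∈ D := (Submodule.Quotient.mk_eq_zero D).mp hp
    rw [mem_antiDiag] at h1
    obtain ⟨y, h1, h2⟩ := h1
    have h3 : j₂ y = 0 := by
      have : -j₂ y = 0 := h2
      rwa [neg_eq_zero] at this
    have h4 : y = 0 := hj₂inj (by rw [h3, map_zero])
    have h5 : j₁ y = p := h1
    rw [← h5, h4, map_zero]
  have hπE₂surj : Function.Surjective πE₂ := by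
    intro f
    obtain ⟨p₂, rfl⟩ := hπ₂surj f
    exact ⟨D.mkQ (0, p₂), rfl⟩
  have hexE : LinearMap.range jE = LinearMap.ker πE₂ := by
    ext x
    constructor
    · rintro ⟨p, rfl⟩
      show π₂ 0 = 0
      exact map_zero _
    · intro hx
      obtain ⟨⟨p₁, p₂⟩, rfl⟩ := Submodule.mkQ_surjective D x
      have h1 : p₂ ∈ LinearMap.ker π₂ := hx
      rw [← hex₂] at h1
      obtain ⟨y, rfl⟩ := h1
      refine ⟨p₁ + j₁ y, ?_⟩
      show D.mkQ (p₁ + j₁ y, 0) = D.mkQ (p₁, j₂ y)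
      rw [← sub_eq_zero, ← map_sub]
      apply (Submodule.Quotient.mk_eq_zero D).mpr
      rw [mem_antiDiag]
      refine ⟨y, ?_, ?_⟩
      · show j₁ y = p₁ + j₁ y - p₁
        abel
      · show -j₂ y = 0 - j₂ y
        abel
  have : Module.IsTorsionFree ℤ ((P₁ × P₂) ⧸ D) :=
    isTorsionFree_of_exact (j := jE) (π := πE₂) hjEinj hexE
  refine ⟨(P₁ × P₂) ⧸ D, inferInstance, inferInstance, inferInstance, ρE, iE, πE,
    ?_, ?_, ?_, ?_, ?_, ?_⟩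
  · intro g p
    show D.mkQ ((0 : P₁), ρ₂ g p) = D.mkQ (ρ₁ g 0, ρ₂ g p)
    rw [map_zero]
  · intro g x
    obtain ⟨⟨p₁, p₂⟩, rfl⟩ := Submodule.mkQ_surjective D x
    show π₁ (ρ₁ g p₁) = ρA g (π₁ p₁)
    rw [hπ₁]
  · rw [injective_iff_map_eq_zero]
    intro p hp
    have h1 : ((0, p) : P₁ × P₂) ∈ D := (Submodule.Quotient.mk_eq_zero D).mp hp
    rw [mem_antiDiag] at h1
    obtain ⟨y, h1, h2⟩ := h1
    have h4 : y = 0 := hj₁inj (by rw [h1, map_zero])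
    have h5 : -j₂ y = p := h2
    rw [← h5, h4, map_zero, neg_zero]
  · intro a
    obtain ⟨p₁, rfl⟩ := hπ₁surj a
    exact ⟨D.mkQ (p₁, 0), rfl⟩
  · ext x
    constructor
    · rintro ⟨p, rfl⟩
      show π₁ 0 = 0
      exact map_zero _
    · intro hx
      obtain ⟨⟨p₁, p₂⟩, rfl⟩ := Submodule.mkQ_surjective D x
      have h1 : p₁ ∈ LinearMap.ker π₁ := hx
      rw [← hex₁] at h1
      obtain ⟨y, rfl⟩ := h1
      refine ⟨p₂ + j₂ y, ?_⟩
      show D.mkQ (0, p₂ + j₂ y) = D.mkQ (j₁ y, p₂)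
      rw [eq_comm, ← sub_eq_zero, ← map_sub]
      apply (Submodule.Quotient.mk_eq_zero D).mpr
      rw [mem_antiDiag]
      refine ⟨y, ?_, ?_⟩
      · show j₁ y = j₁ y - 0
        abel
      · show -j₂ y = p₂ - (p₂ + j₂ y)
        abel
  · exact isFlasque_of_exact (ρ' := ρ₁) (ρ := ρE) (ρ'' := ρF) (j := jE) (π := πE₂)
      hjE hπE₂ hjEinj hπE₂surj hexE hP₁ hF₂

end Pushout

end Groth.Agent.R2.H91.GLatD
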