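import Mathlib
import Groth.Prelude.Def_W4c5flasquetoriphsGLat
import Groth.Agent.R2.H91GLat
import Groth.Agent.R2.H91GLatB
import Groth.Agent.R2.H91GLatC
import Groth.Agent.R2.H91GLatD

/-!
# Resolutions of modules over a finite group by permutation, flasque and coflasque lattices
(helper91)
-/

set_option autoImplicit false
set_option linter.unusedSectionVars false

namespace Groth.Agent.R2.H91.GLatE

open Groth.Agent.R2.H91.GLat Groth.Agent.R2.H91.GLatB Groth.Agent.R2.H91.GLatC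
  Groth.Agent.R2.H91.GLatD

variable {G : Type} [Group G] [Finite G] {A : Type} [AddCommGroup A] [Module.Finite ℤ A]
  (ρ : Representation ℤ G A)

/-- `0 → Q → P → A → 0` with `P` permutation (also flasque and coflasque), `Q` coflasque. -/
theorem exists_coflasque_kernel :
    ∃ (Q : Type) (_ : AddCommGroup Q) (P : Type) (_ : AddCommGroup P)
      (_ : Module.Finite ℤ Q) (_ : Module.Free ℤ Q) (_ : Module.Finite ℤ P) (_ : Module.Free ℤ P)
      (σ : Representation ℤ G Q) (τ : Representation ℤ G P) (i : Q →ₗ[ℤ] P) (π : P →ₗ[ℤ] A),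
      GLat.IsEquivariant σ τ i ∧ GLat.IsEquivariant τ ρ π ∧ Function.Injective i ∧
      Function.Surjective π ∧ LinearMap.range i = LinearMap.ker π ∧ GLat.IsPermutation τ ∧
      GLat.IsCoflasque σ ∧ GLat.IsFlasque τ ∧ GLat.IsCoflasque τ := by
  refine ⟨↥(Ker ρ), inferInstance, Idx ρ → ℤ, inferInstance, inferInstance, inferInstance,
    inferInstance, inferInstance, kerRep ρ, perm ρ, (Ker ρ).subtype, aug ρ,
    ?_, ?_, ?_, ?_, ?_, ?_, ?_, ?_, ?_⟩
  · intro g m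
    rfl
  · intro g m
    exact aug_perm ρ g m
  · exact Subtype.val_injective
  · exact aug_surjective ρ
  · exact Submodule.range_subtype _
  · exact isPermutation_perm ρ
  · exact isCoflasque_kerRep ρ
  · exact isFlasque_perm ρ
  · exact isCoflasque_perm ρ

/-- `0 → P → F → A → 0` with `P` permutation and `F` a flasque lattice. -/
theorem exists_permutation_kernel_flasque :
    ∃ (P : Type) (_ : AddCommGroup P) (F : Type) (_ : AddCommGroup F)
      (_ : Module.Finite ℤ P) (_ : Module.Free ℤ P) (_ : Module.Finite ℤ F) (_ : Module.Free ℤ F)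
      (σ : Representation ℤ G P) (τ : Representation ℤ G F) (i : P →ₗ[ℤ] F) (π : F →ₗ[ℤ] A),
      GLat.IsEquivariant σ τ i ∧ GLat.IsEquivariant τ ρ π ∧ Function.Injective i ∧
      Function.Surjective π ∧ LinearMap.range i = LinearMap.ker π ∧ GLat.IsPermutation σ ∧
      GLat.IsFlasque τ := by
  obtain ⟨Q, iQ, P₁, iP₁, fQ, frQ, fP₁, frP₁, σQ, τ₁, j₁, π₁, hj₁, hπ₁, hj₁inj, hπ₁surj, hex₁,
    -, -, hfl₁, -⟩ := exists_coflasque_kernel ρ
  obtain ⟨P₂, iP₂, F₂, iF₂, fP₂, frP₂, fF₂, frF₂, σ₂, τF, j₂, π₂, hj₂, hπ₂, hj₂inj, hπ₂surj, hex₂,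
    hperm₂, hflF, -, -⟩ := exists_flasque_resolution σQ
  obtain ⟨E, iE, fE, frE, ρE, i, π, h1, h2, h3, h4, h5, h6⟩ :=
    pushout_resolution hj₁ hπ₁ hj₂ hπ₂ hj₁inj hπ₁surj hex₁ hj₂inj hπ₂surj hex₂ hfl₁ hflF
  exact ⟨P₂, iP₂, E, iE, fP₂, frP₂, fE, frE, σ₂, ρE, i, π, h1, h2, h3, h4, h5, hperm₂, h6⟩

/-- `0 → A → Q → P → 0` with `Q` a coflasque lattice and `P` permutation, for a lattice `A`. -/
theorem exists_embedding_coflasque [Module.Free ℤ A] :
    ∃ (Q : Type) (_ : AddCommGroup Q) (P : Type) (_ : AddCommGroup P)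
      (_ : Module.Finite ℤ Q) (_ : Module.Free ℤ Q) (_ : Module.Finite ℤ P) (_ : Module.Free ℤ P)
      (σ : Representation ℤ G Q) (τ : Representation ℤ G P) (i : A →ₗ[ℤ] Q) (π : Q →ₗ[ℤ] P),
      GLat.IsEquivariant ρ σ i ∧ GLat.IsEquivariant σ τ π ∧ Function.Injective i ∧
      Function.Surjective π ∧ LinearMap.range i = LinearMap.ker π ∧ GLat.IsCoflasque σ ∧
      GLat.IsPermutation τ := by
  obtain ⟨P₀, iP₀, F, iF, fP₀, frP₀, fF, frF, σ₀, τF, i₀, q, hi₀, hq, hi₀inj, hqsurj, hex₀,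
    -, -, -, hco₀⟩ := exists_flasque_resolution ρ
  obtain ⟨Q, iQ, P, iP, fQ, frQ, fP, frP, σQ, τ, j, π, hj, hπ, hjinj, hπsurj, hex,
    hperm, hcoQ, -, -⟩ := exists_coflasque_kernel τF
  obtain ⟨E, iE, fE, frE, ρE, i, p, h1, h2, h3, h4, h5, h6⟩ :=
    pullback_resolution hi₀ hq hj hπ hi₀inj hqsurj hex₀ hjinj hπsurj hex hcoQ hco₀
  exact ⟨E, iE, P, iP, fE, frE, fP, frP, ρE, τ, i, p, h1, h2, h3, h4, h5, h6, hperm⟩

end Groth.Agent.R2.H91.GLatE
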