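import Mathlib

/-!
# The grading of the symmetric algebra by the powers of the range of `ι` (helper91, pure Mathlib)

* `piece R M n = (range ι)^n`, `gradedAlgebra : GradedAlgebra (piece R M)`.
* `map_mem_piece` : algebra maps induced by semilinear maps of modules preserve the pieces (stated for ring homs).
-/

set_option autoImplicit false
universe u v w

open scoped DirectSum

namespace Groth.Agent.R2.H91.SymGraded

variable (R : Type u) (M : Type v) [CommRing R] [AddCommGroup M] [Module R M]

/-- the degree-`n` piece of the symmetric algebra -/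
def piece (n : ℕ) : Submodule R (SymmetricAlgebra R M) :=
  LinearMap.range (SymmetricAlgebra.ι R M) ^ n

theorem ι_mem_piece (m : M) : SymmetricAlgebra.ι R M m ∈ piece R M 1 := by
  unfold piece
  simpa only [pow_one] using LinearMap.mem_range_self _ m

theorem algebraMap_mem_piece (r : R) : algebraMap R (SymmetricAlgebra R M) r ∈ piece R M 0 := by
  unfold piece
  rw [pow_zero]
  exact Submodule.algebraMap_mem r

instance : SetLike.GradedMonoid (piece R M) := by
  unfold piece
  infer_instance

/-- `ι` into the direct sum of the pieces -/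
def gι : M →ₗ[R] ⨁ i : ℕ, ↥(piece R M i) :=
  DirectSum.lof R ℕ (fun i => ↥(piece R M i)) 1 ∘ₗ
    (SymmetricAlgebra.ι R M).codRestrict _ (ι_mem_piece R M)

theorem gι_apply (m : M) :
    gι R M m = DirectSum.of (fun i : ℕ => ↥(piece R M i)) 1 ⟨SymmetricAlgebra.ι R M m, ι_mem_piece R M m⟩ :=
  rfl

/-- the symmetric algebra is graded by the powers of the range of `ι` -/
instance gradedAlgebra : GradedAlgebra (piece R M) :=
  GradedAlgebra.ofAlgHom _ (SymmetricAlgebra.lift (gι R M))
    (by
      apply SymmetricAlgebra.algHom_ext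
      ext m
      change DirectSum.coeAlgHom (piece R M) (SymmetricAlgebra.lift (gι R M) (SymmetricAlgebra.ι R M m)) =
        SymmetricAlgebra.ι R M m
      rw [SymmetricAlgebra.lift_ι_apply, gι_apply, DirectSum.coeAlgHom_of])
    fun i x => by
    obtain ⟨x, hx⟩ := x
    dsimp only [Subtype.coe_mk, DirectSum.lof_eq_of]
    unfold piece at hx
    induction hx using Submodule.pow_induction_on_left' with
    | algebraMap r =>
      rw [AlgHom.commutes, DirectSum.algebraMap_apply]; rfl
    | add x y i hx hy ihx ihy =>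
      rw [map_add, ihx, ihy, ← map_add]
      rfl
    | mem_mul m hm i x hx ih =>
      obtain ⟨_, rfl⟩ := hm
      rw [map_mul, ih, SymmetricAlgebra.lift_ι_apply, gι_apply, DirectSum.of_mul_of]
      exact DirectSum.of_eq_of_gradedMonoid_eq (Sigma.subtype_ext (add_comm _ _) rfl)


variable {R M}

/-- ring homomorphisms of symmetric algebras sending scalars to scalars and generators to generators preserve
the pieces -/
theorem map_mem_piece {R' : Type u} {M' : Type v} [CommRing R'] [AddCommGroup M'] [Module R' M']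
    (F : SymmetricAlgebra R M →+* SymmetricAlgebra R' M')
    (h0 : ∀ a : R, F (algebraMap R _ a) ∈ piece R' M' 0)
    (h1 : ∀ m : M, F (SymmetricAlgebra.ι R M m) ∈ piece R' M' 1) {n : ℕ} {x : SymmetricAlgebra R M}
    (hx : x ∈ piece R M n) : F x ∈ piece R' M' n := by
  unfold piece at hx
  induction hx using Submodule.pow_induction_on_left' with
  | algebraMap r => exact h0 r
  | add x y i hx hy ihx ihy =>
    rw [map_add]
    exact add_mem ihx ihy
  | mem_mul m hm i x hx ih =>
    obtain ⟨m, rfl⟩ := hm
    rw [map_mul]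
    have := SetLike.mul_mem_graded (A := piece R' M') (h1 m) ih
    rwa [add_comm] at this

/-- ring homomorphisms from a symmetric algebra to a graded ring sending scalars to degree zero and generators to
degree one send the `n`-th piece to degree `n` -/
theorem map_mem_graded {B : Type*} [CommRing B] {τ : Type*} [SetLike τ B] [AddSubmonoidClass τ B]
    (ℬ : ℕ → τ) [SetLike.GradedMonoid ℬ] (F : SymmetricAlgebra R M →+* B)
    (h0 : ∀ a : R, F (algebraMap R _ a) ∈ ℬ 0)
    (h1 : ∀ m : M, F (SymmetricAlgebra.ι R M m) ∈ ℬ 1) {n : ℕ} {x : SymmetricAlgebra R M}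
    (hx : x ∈ piece R M n) : F x ∈ ℬ n := by
  unfold piece at hx
  induction hx using Submodule.pow_induction_on_left' with
  | algebraMap r => exact h0 r
  | add x y i hx hy ihx ihy =>
    rw [map_add]
    exact add_mem ihx ihy
  | mem_mul m hm i x hx ih =>
    obtain ⟨m, rfl⟩ := hm
    rw [map_mul]
    have := SetLike.mul_mem_graded (A := ℬ) (h1 m) ih
    rwa [add_comm] at this

theorem mem_piece_one_iff {x : SymmetricAlgebra R M} :
    x ∈ piece R M 1 ↔ ∃ m : M, SymmetricAlgebra.ι R M m = x := by
  unfold piece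
  rw [pow_one]
  exact LinearMap.mem_range

end Groth.Agent.R2.H91.SymGraded

namespace Groth.Agent.R2.H91.GradedTransport

variable {A B : Type*} [CommRing A] [CommRing B] {σ : Type*} [SetLike σ B] [AddSubgroupClass σ B]

/-- the preimage of a grading under a ring isomorphism -/
def comapDeg (e : A ≃+* B) (ℬ : ℕ → σ) (n : ℕ) : AddSubgroup A :=
  (AddSubgroup.ofClass (ℬ n)).comap e.toAddMonoidHom

theorem mem_comapDeg (e : A ≃+* B) (ℬ : ℕ → σ) (n : ℕ) (a : A) : a ∈ comapDeg e ℬ n ↔ e a ∈ ℬ n :=
  Iff.rfl

instance gradedMonoid_comapDeg (e : A ≃+* B) (ℬ : ℕ → σ) [SetLike.GradedMonoid ℬ] :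
    SetLike.GradedMonoid (comapDeg e ℬ) where
  one_mem := by
    rw [mem_comapDeg, map_one]
    exact SetLike.GradedOne.one_mem
  mul_mem i j a b ha hb := by
    rw [mem_comapDeg] at ha hb ⊢
    rw [map_mul]
    exact SetLike.mul_mem_graded ha hb

/-- the comparison maps of the pieces -/
def pieceHom (e : A ≃+* B) (ℬ : ℕ → σ) (i : ℕ) : comapDeg e ℬ i →+ ℬ i where
  toFun a := ⟨e a.1, a.2⟩
  map_zero' := Subtype.ext (map_zero e)
  map_add' a b := Subtype.ext (map_add e a.1 b.1)

theorem pieceHom_bijective (e : A ≃+* B) (ℬ : ℕ → σ) (i : ℕ) : Function.Bijective (pieceHom e ℬ i) := by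
  constructor
  · intro a b hab
    exact Subtype.ext (e.injective (congrArg Subtype.val hab))
  · intro b
    refine ⟨⟨e.symm b.1, ?_⟩, Subtype.ext ?_⟩
    · rw [mem_comapDeg, RingEquiv.apply_symm_apply]
      exact b.2
    · exact e.apply_symm_apply b.1

open scoped DirectSum in
theorem isInternal_comapDeg [DecidableEq ℕ] (e : A ≃+* B) (ℬ : ℕ → σ) [GradedRing ℬ] :
    DirectSum.IsInternal (comapDeg e ℬ) := by
  have hsq : ∀ z : ⨁ i, comapDeg e ℬ i,
      e (DirectSum.coeAddMonoidHom (comapDeg e ℬ) z) =
        DirectSum.coeAddMonoidHom ℬ (DirectSum.map (pieceHom e ℬ) z) := by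
    intro z
    induction z using DirectSum.induction_on with
    | zero => simp
    | of i x =>
      rw [DirectSum.map_of, DirectSum.coeAddMonoidHom_of, DirectSum.coeAddMonoidHom_of]
      rfl
    | add x y hx hy => rw [map_add, map_add, map_add, map_add, hx, hy]
  have hb := (DirectSum.Decomposition.isInternal ℬ)
  have hmap : Function.Bijective (DirectSum.map (pieceHom e ℬ)) :=
    ⟨(DirectSum.map_injective _).2 (fun i => (pieceHom_bijective e ℬ i).1),
      (DirectSum.map_surjective _).2 (fun i => (pieceHom_bijective e ℬ i).2)⟩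
  constructor
  · intro z z' hzz'
    apply hmap.1
    apply hb.1
    rw [← hsq, ← hsq, hzz']
  · intro a
    obtain ⟨w, hw⟩ := hb.2 (e a)
    obtain ⟨z, rfl⟩ := hmap.2 w
    refine ⟨z, e.injective ?_⟩
    rw [hsq, hw]

/-- transport of a grading along a ring isomorphism -/
@[instance_reducible]
noncomputable def gradedRing_comapDeg (e : A ≃+* B) (ℬ : ℕ → σ) [GradedRing ℬ] :
    GradedRing (comapDeg e ℬ) :=
  { gradedMonoid_comapDeg e ℬ with
    toDecomposition := (isInternal_comapDeg e ℬ).chooseDecomposition }

end Groth.Agent.R2.H91.GradedTransport
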