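import Mathlib
import Groth.Prelude.Def_RelProj2
import Groth.Agent.Lib.Helper13SymAlgLocal
import Groth.Agent.R2.H91SymGraded

/-!
# The graded symmetric algebra of a quasi-coherent module exists (helper91)

* `grSymAlg E : RelProj.QCGrAlg S` : helper13's `symAlg E` graded by the powers of the range of `ι` over the affine opens.
* `isGrSymAlg E : RelProj.IsGrSymAlg E (grSymAlg E) (j E)`.
* `exists_isGrSymAlg` : for `E` quasi-coherent, `∃ 𝒮 j, RelProj.IsGrSymAlg E 𝒮 j`.
-/

set_option autoImplicit false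
set_option linter.unusedSectionVars false
universe u

open CategoryTheory CategoryTheory.Limits AlgebraicGeometry TopologicalSpace Opposite

namespace Groth.Agent.R2.H91.GrSymAlg

open Groth.Agent.Helper13SymAlg Groth.Agent.Helper13SymLoc Groth.Agent.R2.H91.SymGraded
  Groth.Agent.R2.H91.GradedTransport Scheme.AffineZariskiSite

noncomputable section

variable {S : Scheme.{u}} (E : S.Modules) [E.IsQuasicoherent]

/-- the identification `γ` as a ring isomorphism -/
def γEquiv (U : S.Opens) (hU : IsAffineOpen U) :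
    (symAlg E).presheaf.obj (op U) ≃+* SymmetricAlgebra Γ(S, U) Γ(E, U) :=
  (asIso (γ E U hU)).commRingCatIsoToRingEquiv

theorem γEquiv_apply (U : S.Opens) (hU : IsAffineOpen U) (x : (symAlg E).presheaf.obj (op U)) :
    γEquiv E U hU x = (γ E U hU).hom x := rfl

/-- the degree-`d` part over an affine open -/
def degAff (U : S.Opens) (hU : IsAffineOpen U) (d : ℕ) : AddSubgroup ((symAlg E).presheaf.obj (op U)) :=
  comapDeg (γEquiv E U hU) (piece Γ(S, U) Γ(E, U)) d

theorem mem_degAff (U : S.Opens) (hU : IsAffineOpen U) (d : ℕ) (x : (symAlg E).presheaf.obj (op U)) :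
    x ∈ degAff E U hU d ↔ (γ E U hU).hom x ∈ piece Γ(S, U) Γ(E, U) d := Iff.rfl

theorem γ_res {U V : S.Opens} (hU : IsAffineOpen U) (hV : IsAffineOpen V) (i : V ≤ U)
    (x : (symAlg E).presheaf.obj (op U)) :
    (γ E V hV).hom (((symAlg E).presheaf.map (homOfLE i).op).hom x) = symRes E i ((γ E U hU).hom x) := by
  have h := σ_nat E (symAlg E) (j E) i
  rw [σ_symAlg E U hU, σ_symAlg E V hV] at h
  have h2 := congrArg (fun t : SymmetricAlgebra Γ(S, U) Γ(E, U) →+* _ => t ((γ E U hU).hom x)) h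
  simp only [RingHom.comp_apply] at h2
  rw [inv_γ_γ] at h2
  rw [← h2, γ_inv_γ]

theorem γ_str (U : S.Opens) (hU : IsAffineOpen U) (r : Γ(S, U)) :
    (γ E U hU).hom (((symAlg E).str.app (op U)).hom r) =
      algebraMap Γ(S, U) (SymmetricAlgebra Γ(S, U) Γ(E, U)) r := by
  have h := str_γ E U hU
  exact congrArg (fun t : Γ(S, U) ⟶ _ => t.hom r) h

/-- the graded symmetric algebra of a quasi-coherent module -/
def grSymAlg : RelProj.QCGrAlg S :=
  { symAlg E with
    deg := fun U hU d => degAff E U hU d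
    graded := fun U hU => gradedRing_comapDeg (γEquiv E U hU) (piece Γ(S, U) Γ(E, U))
    map_mem := by
      intro U V hU hV i d x hx
      rw [mem_degAff] at hx ⊢
      rw [γ_res E hU hV i]
      refine map_mem_piece (symRes E i) (fun a => ?_) (fun m => ?_) hx
      · unfold symRes
        rw [symMap_algebraMap]
        exact algebraMap_mem_piece _ _ _
      · unfold symRes
        rw [symMap_ι]
        exact ι_mem_piece _ _ _
    str_mem := by
      intro U hU r
      rw [mem_degAff, γ_str]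
      exact algebraMap_mem_piece _ _ _ }

theorem grSymAlg_toQCAlg : (grSymAlg E).toQCAlg = symAlg E := rfl

/-- the graded symmetric algebra is the graded symmetric algebra -/
theorem isGrSymAlg : RelProj.IsGrSymAlg E (grSymAlg E) (j E) := by
  refine ⟨isSymAlg E, fun U hU x => ?_⟩
  have h1 : ((j E).app U) x = jAff E U hU x := by rw [j_app E U hU]
  change (γ E U hU).hom (((j E).app U) x : (symAlg E).presheaf.obj (op U)) ∈ piece Γ(S, U) Γ(E, U) 1
  rw [h1, jAff_apply, γ_inv_γ]
  exact ι_mem_piece _ _ _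

end

section General

variable {S : Scheme.{u}} (E : S.Modules) [E.IsQuasicoherent] (𝒮 : RelProj.QCGrAlg S) (j : E ⟶ 𝒮.toModule)

/-- for a module map `j : E ⟶ 𝒮` landing in degree one, the induced maps `Sym(E(U)) → 𝒮(U)` send the `n`-th piece
to degree `n` -/
theorem σ_mem_deg (hj1 : ∀ (U : S.Opens) (hU : IsAffineOpen U) (x : Γ(E, U)), (j.app U) x ∈ 𝒮.deg U hU 1)
    (U : S.Opens) (hU : IsAffineOpen U) {n : ℕ} {z : SymmetricAlgebra Γ(S, U) Γ(E, U)}
    (hz : z ∈ piece Γ(S, U) Γ(E, U) n) : σ E 𝒮.toQCAlg j U z ∈ 𝒮.deg U hU n := by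
  refine map_mem_graded (𝒮.deg U hU) (σ E 𝒮.toQCAlg j U) (fun a => ?_) (fun m => ?_) hz
  · unfold σ
    rw [symLift_algebraMap]
    exact 𝒮.str_mem U hU a
  · unfold σ
    rw [symLift_ι]
    exact hj1 U hU m

/-- in a graded symmetric algebra every section of degree one over an affine open comes from the module -/
theorem exists_eq_j_of_mem_deg_one (hj : RelProj.IsGrSymAlg E 𝒮 j) (U : S.Opens) (hU : IsAffineOpen U)
    (a : 𝒮.presheaf.obj (op U)) (ha : a ∈ 𝒮.deg U hU 1) : ∃ e : Γ(E, U), (j.app U) e = a := by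
  classical
  obtain ⟨z, rfl⟩ := (bijective_σ E U hU hj.1).2 a
  have key : ∀ z : SymmetricAlgebra Γ(S, U) Γ(E, U),
      ((DirectSum.decompose (𝒮.deg U hU) (σ E 𝒮.toQCAlg j U z) 1 : 𝒮.deg U hU 1) :
        𝒮.presheaf.obj (op U)) =
      σ E 𝒮.toQCAlg j U ((DirectSum.decompose (piece Γ(S, U) Γ(E, U)) z 1 : piece Γ(S, U) Γ(E, U) 1) :
        SymmetricAlgebra Γ(S, U) Γ(E, U)) := by
    intro z
    induction z using DirectSum.Decomposition.inductionOn (piece Γ(S, U) Γ(E, U)) with
    | zero => simp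
    | @homogeneous i m =>
      by_cases h : i = 1
      · subst h
        rw [DirectSum.decompose_of_mem_same _ (σ_mem_deg E 𝒮 j hj.2 U hU m.2),
          DirectSum.decompose_of_mem_same _ m.2]
      · rw [DirectSum.decompose_of_mem_ne _ (σ_mem_deg E 𝒮 j hj.2 U hU m.2) h,
          DirectSum.decompose_of_mem_ne _ m.2 h, map_zero]
    | add m m' hm hm' =>
      rw [map_add, DirectSum.decompose_add, DirectSum.decompose_add, DirectSum.add_apply,
        DirectSum.add_apply, AddMemClass.coe_add, AddMemClass.coe_add, map_add, hm, hm']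
  have h1 := key z
  rw [DirectSum.decompose_of_mem_same _ ha] at h1
  obtain ⟨e, he⟩ := mem_piece_one_iff.mp
    (DirectSum.decompose (piece Γ(S, U) Γ(E, U)) z 1 : piece Γ(S, U) Γ(E, U) 1).2
  refine ⟨e, ?_⟩
  rw [h1, ← he]
  unfold σ
  rw [symLift_ι]
  rfl

end General

/-- **existence of the graded symmetric algebra** of a quasi-coherent module -/
theorem exists_isGrSymAlg {S : Scheme.{u}} (E : S.Modules) (hE : Coh.IsQCoh E) :
    ∃ (𝒮 : RelProj.QCGrAlg S) (j : E ⟶ 𝒮.toModule), RelProj.IsGrSymAlg E 𝒮 j := by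
  have : E.IsQuasicoherent := hE
  exact ⟨grSymAlg E, Groth.Agent.Helper13SymAlg.j E, isGrSymAlg E⟩

end Groth.Agent.R2.H91.GrSymAlg
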