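import Mathlib

/-!
# Logarithmic differentials on a smooth local UFD (helper91)

Residue argument along a prime via injectivity of the conormal map, and the induction on
prime factors showing `dlog g ∈ ι(Ω_R) + Σ R dlog fᵢ ⇒ dlog g = dlog v + Σ bᵢ dlog fᵢ`.
-/

set_option autoImplicit false
set_option linter.unusedSectionVars false
set_option linter.style.haveILetI false

namespace Groth.Agent.R2.H91.LogDiff

universe u

open TensorProduct KaehlerDifferential

section LocalAlg

variable (k : Type u) [Field k] [CharZero k] (O : Type u) [CommRing O] [IsLocalRing O]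
  [Algebra k O] [Algebra.FormallySmooth k O]
  [Algebra.EssFiniteType k (IsLocalRing.ResidueField O)]

/-- Lemma A: over a perfect field, the conormal map of the residue field of a formally smooth
local algebra is injective: `1 ⊗ dx = 0` forces `x ∈ 𝔪²`. -/
theorem mem_sq_of_tmul_D_eq_zero (x : O) (hx : x ∈ IsLocalRing.maximalIdeal O)
    (h : (1 : IsLocalRing.ResidueField O) ⊗ₜ[O] D k O x = 0) :
    x ∈ IsLocalRing.maximalIdeal O ^ 2 := by
  haveI : Algebra.FormallySmooth k (IsLocalRing.ResidueField O) := inferInstance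
  have hsurj : Function.Surjective (algebraMap O (IsLocalRing.ResidueField O)) :=
    IsLocalRing.residue_surjective
  obtain ⟨l, hl⟩ := (Algebra.FormallySmooth.iff_split_injection (R := k) (P := O)
    (A := IsLocalRing.ResidueField O) hsurj).mp inferInstance
  have hker : RingHom.ker (algebraMap O (IsLocalRing.ResidueField O)) =
      IsLocalRing.maximalIdeal O := IsLocalRing.ker_residue
  have hx' : x ∈ RingHom.ker (algebraMap O (IsLocalRing.ResidueField O)) := by rw [hker]; exact hx
  have h1 : kerCotangentToTensor k O (IsLocalRing.ResidueField O)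
      (Ideal.toCotangent _ ⟨x, hx'⟩) = 0 := by
    rw [kerCotangentToTensor_toCotangent]; exact h
  have h2 : Ideal.toCotangent _ (⟨x, hx'⟩ : RingHom.ker (algebraMap O (IsLocalRing.ResidueField O)))
      = 0 := by
    have := congrArg l h1
    rw [map_zero] at this
    have h3 := LinearMap.congr_fun hl (Ideal.toCotangent _ ⟨x, hx'⟩)
    simp only [LinearMap.coe_comp, Function.comp_apply, LinearMap.id_coe, id_eq] at h3
    rw [← h3]; exact this
  rw [Ideal.toCotangent_eq_zero] at h2
  rw [← hker]; exact h2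

/-- Lemma B: if `𝔪 = (π)`, `π ≠ 0`, `O` a domain, then `e t dπ ∈ π Ω` with `t` a unit forces the
integer `e` to vanish. -/
theorem int_eq_zero_of_smul_D_eq [IsDomain O] (π : O)
    (hπ : IsLocalRing.maximalIdeal O = Ideal.span {π}) (hπ0 : π ≠ 0)
    (e : ℤ) (t : O) (ht : t ∉ IsLocalRing.maximalIdeal O) (ω : Ω[O⁄k])
    (h : ((e : O) * t) • D k O π = π • ω) : e = 0 := by
  have hπm : π ∈ IsLocalRing.maximalIdeal O := by rw [hπ]; exact Ideal.mem_span_singleton_self π
  have hresπ : IsLocalRing.residue O π = 0 := (IsLocalRing.residue_eq_zero_iff π).mpr hπm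
  have h1 : (IsLocalRing.residue O ((e : O) * t)) ⊗ₜ[O] D k O π =
      (0 : IsLocalRing.ResidueField O ⊗[O] Ω[O⁄k]) := by
    have e1 : (IsLocalRing.residue O ((e : O) * t)) ⊗ₜ[O] D k O π =
        (1 : IsLocalRing.ResidueField O) ⊗ₜ[O] ((((e : O) * t)) • D k O π) := by
      rw [TensorProduct.tmul_smul, TensorProduct.smul_tmul', Algebra.smul_def, mul_one]
      rfl
    rw [e1, h, TensorProduct.tmul_smul, TensorProduct.smul_tmul', Algebra.smul_def, mul_one]
    have : algebraMap O (IsLocalRing.ResidueField O) π = 0 := hresπ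
    rw [this, TensorProduct.zero_tmul]
  by_contra he
  haveI : CharZero (IsLocalRing.ResidueField O) :=
    charZero_of_injective_algebraMap (algebraMap k (IsLocalRing.ResidueField O)).injective
  have hne : IsLocalRing.residue O ((e : O) * t) ≠ 0 := by
    rw [map_mul, map_intCast]
    refine mul_ne_zero (Int.cast_ne_zero.mpr he) ?_
    rw [Ne, IsLocalRing.residue_eq_zero_iff]
    exact ht
  have h2 : (1 : IsLocalRing.ResidueField O) ⊗ₜ[O] D k O π = 0 := by
    have h3 : (IsLocalRing.residue O ((e : O) * t))⁻¹ •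
        ((IsLocalRing.residue O ((e : O) * t)) ⊗ₜ[O] D k O π) =
        (1 : IsLocalRing.ResidueField O) ⊗ₜ[O] D k O π := by
      rw [TensorProduct.smul_tmul', smul_eq_mul, inv_mul_cancel₀ hne]
    rw [← h3, h1, smul_zero]
  have h4 := mem_sq_of_tmul_D_eq_zero k O π hπm h2
  rw [hπ, Ideal.span_singleton_pow, Ideal.mem_span_singleton] at h4
  obtain ⟨y, hy⟩ := h4
  have h5 : π * (1 - π * y) = 0 := by
    have : π * (1 - π * y) = π - π ^ 2 * y := by ring
    rw [this, ← hy, sub_self]
  rcases mul_eq_zero.mp h5 with h6 | h6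
  · exact hπ0 h6
  · have h7 : IsUnit π := IsUnit.of_mul_eq_one y (by linear_combination -h6)
    exact (IsLocalRing.mem_maximalIdeal π).mp hπm h7

end LocalAlg

section PrimeAlg

variable (k : Type u) [Field k] [CharZero k] (R : Type u) [CommRing R] [IsDomain R]
  [Algebra k R] [Algebra.FormallySmooth k R] [Algebra.EssFiniteType k R]

/-- Lemma B over `R`: for a prime element `p` and `t` prime to `p`, `e t dp ∈ p Ω_R` forces the
integer `e` to vanish. -/
theorem int_eq_zero_of_prime (p : R) (hp : Prime p) (e : ℤ) (t : R) (ht : ¬ p ∣ t)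
    (ω : Ω[R⁄k]) (h : ((e : R) * t) • D k R p = p • ω) : e = 0 := by
  haveI hP : (Ideal.span {p}).IsPrime := (Ideal.span_singleton_prime hp.ne_zero).mpr hp
  let O := Localization.AtPrime (Ideal.span {p})
  haveI : Algebra.FormallySmooth R O :=
    Algebra.FormallySmooth.of_isLocalization (Ideal.span {p}).primeCompl
  haveI : Algebra.FormallySmooth k O := Algebra.FormallySmooth.comp k R O
  haveI : Algebra.EssFiniteType R O :=
    Algebra.EssFiniteType.of_isLocalization O (Ideal.span {p}).primeCompl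
  haveI : Algebra.EssFiniteType k O := Algebra.EssFiniteType.comp k R O
  haveI : Algebra.FiniteType O (IsLocalRing.ResidueField O) :=
    inferInstanceAs (Algebra.FiniteType O (O ⧸ IsLocalRing.maximalIdeal O))
  haveI : Algebra.EssFiniteType k (IsLocalRing.ResidueField O) :=
    Algebra.EssFiniteType.comp k O (IsLocalRing.ResidueField O)
  have hinj : Function.Injective (algebraMap R O) :=
    IsLocalization.injective O (Ideal.primeCompl_le_nonZeroDivisors (Ideal.span {p}))
  have hm : IsLocalRing.maximalIdeal O = Ideal.span {algebraMap R O p} := by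
    rw [← Localization.AtPrime.map_eq_maximalIdeal, Ideal.map_span, Set.image_singleton]
  have hp0 : algebraMap R O p ≠ 0 := by
    rw [Ne, map_eq_zero_iff _ hinj]; exact hp.ne_zero
  have ht' : algebraMap R O t ∉ IsLocalRing.maximalIdeal O := by
    rw [IsLocalization.AtPrime.to_map_mem_maximal_iff O (Ideal.span {p}), Ideal.mem_span_singleton]
    exact ht
  have h2 := congrArg (KaehlerDifferential.map k k R O) h
  rw [map_smul, map_smul, KaehlerDifferential.map_D] at h2
  refine int_eq_zero_of_smul_D_eq k O (algebraMap R O p) hm hp0 e (algebraMap R O t) ht'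
    (KaehlerDifferential.map k k R O ω) ?_
  rw [← map_intCast (algebraMap R O), ← map_mul, algebraMap_smul, algebraMap_smul]
  exact h2

end PrimeAlg

section Dlog

variable (k : Type u) [Field k] {K : Type u} [Field K] [Algebra k K]

/-- The logarithmic differential. -/
noncomputable def dlog (x : K) : Ω[K⁄k] := x⁻¹ • D k K x

theorem dlog_one : dlog k (1 : K) = 0 := by
  unfold dlog
  rw [Derivation.map_one_eq_zero, smul_zero]

theorem dlog_mul {x y : K} (hx : x ≠ 0) (hy : y ≠ 0) :
    dlog k (x * y) = dlog k x + dlog k y := by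
  unfold dlog
  rw [Derivation.leibniz, smul_add, smul_smul, smul_smul, mul_inv, add_comm]
  have h1 : x⁻¹ * y⁻¹ * y = x⁻¹ := by field_simp
  have h2 : x⁻¹ * y⁻¹ * x = y⁻¹ := by field_simp
  rw [h1, h2]

theorem dlog_inv {x : K} (hx : x ≠ 0) : dlog k x⁻¹ = - dlog k x := by
  have h := dlog_mul k hx (inv_ne_zero hx)
  rw [mul_inv_cancel₀ hx, dlog_one] at h
  exact eq_neg_of_add_eq_zero_right h.symm

theorem dlog_div {x y : K} (hx : x ≠ 0) (hy : y ≠ 0) :
    dlog k (x / y) = dlog k x - dlog k y := by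
  rw [div_eq_mul_inv, dlog_mul k hx (inv_ne_zero hy), dlog_inv k hy, sub_eq_add_neg]

theorem dlog_pow {x : K} (hx : x ≠ 0) (n : ℕ) : dlog k (x ^ n) = n • dlog k x := by
  induction n with
  | zero => rw [pow_zero, dlog_one, zero_smul]
  | succ n ih => rw [pow_succ, dlog_mul k (pow_ne_zero n hx) hx, ih, succ_nsmul]

end Dlog

section Main

variable (k : Type u) [Field k] [CharZero k] (R : Type u) [CommRing R] [IsDomain R]
  [Algebra k R] [Algebra.FormallySmooth k R] [Algebra.EssFiniteType k R]
  (K : Type u) [Field K] [Algebra R K] [IsFractionRing R K] [Algebra k K] [IsScalarTower k R K]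

/-- `Ω_R → Ω_K`. -/
noncomputable abbrev iota : Ω[R⁄k] →ₗ[R] Ω[K⁄k] := KaehlerDifferential.map k k R K

theorem iota_injective : Function.Injective (iota k R K) := by
  haveI : IsLocalizedModule (nonZeroDivisors R) (iota k R K) :=
    KaehlerDifferential.isLocalizedModule_map k R K (nonZeroDivisors R)
  rw [injective_iff_map_eq_zero]
  intro x hx
  obtain ⟨s, hs⟩ := (IsLocalizedModule.eq_zero_iff (nonZeroDivisors R) (iota k R K)).mp hx
  have hreg : IsRegular (s : R) :=
    isRegular_iff_ne_zero'.mpr (nonZeroDivisors.ne_zero s.2)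
  have := Module.Flat.isSMulRegular_of_isRegular (M := Ω[R⁄k]) hreg
  refine this ?_
  show (s : R) • x = (s : R) • 0
  rw [smul_zero]; exact hs

theorem iota_D (a : R) : iota k R K (D k R a) = D k K (algebraMap R K a) :=
  KaehlerDifferential.map_D k k R K a

variable {R K}

theorem alg_ne_zero {a : R} (ha : a ≠ 0) : algebraMap R K a ≠ 0 := by
  rw [Ne, map_eq_zero_iff _ (IsFractionRing.injective R K)]; exact ha

/-- `a • dlog a = da` in `Ω_K`. -/
theorem smul_dlog_alg {a : R} (ha : a ≠ 0) :
    a • dlog k (algebraMap R K a) = iota k R K (D k R a) := by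
  rw [iota_D]
  unfold dlog
  rw [← algebraMap_smul K a, smul_smul, mul_inv_cancel₀ (alg_ne_zero ha), one_smul]

/-- Forms regular at the prime `p`: `t ω ∈ ι(Ω_R)` for some `t` prime to `p`. -/
def regAt (p : R) (hp : Prime p) : Submodule R Ω[K⁄k] where
  carrier := {ω | ∃ t : R, ¬ p ∣ t ∧ ∃ ωR : Ω[R⁄k], t • ω = iota k R K ωR}
  add_mem' := by
    rintro ω₁ ω₂ ⟨t₁, ht₁, w₁, h₁⟩ ⟨t₂, ht₂, w₂, h₂⟩
    refine ⟨t₁ * t₂, fun h => (hp.dvd_or_dvd h).elim ht₁ ht₂, t₂ • w₁ + t₁ • w₂, ?_⟩
    rw [smul_add, map_add, map_smul, map_smul, ← h₁, ← h₂, smul_smul, smul_smul, mul_comm t₂ t₁]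
  zero_mem' := ⟨1, fun h => hp.not_isUnit (isUnit_of_dvd_one h), 0, by rw [smul_zero, map_zero]⟩
  smul_mem' := by
    rintro c ω ⟨t, ht, w, h⟩
    exact ⟨t, ht, c • w, by rw [map_smul, ← h, smul_comm]⟩

theorem range_iota_le_regAt (p : R) (hp : Prime p) :
    LinearMap.range (iota k R K) ≤ regAt k p hp := by
  rintro _ ⟨w, rfl⟩
  exact ⟨1, fun h => hp.not_isUnit (isUnit_of_dvd_one h), w, one_smul _ _⟩

theorem dlog_mem_regAt (p : R) (hp : Prime p) {a : R} (ha : ¬ p ∣ a) :
    dlog k (algebraMap R K a) ∈ regAt k p hp := by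
  have ha0 : a ≠ 0 := fun h => ha (h ▸ dvd_zero p)
  exact ⟨a, ha, D k R a, smul_dlog_alg k ha0⟩

include K in
/-- Lemma R: a non-zero multiple `e • dlog p` is not regular at `p`. -/
theorem int_eq_zero_of_zsmul_dlog_mem_regAt (p : R) (hp : Prime p) (e : ℤ)
    (h : e • dlog k (algebraMap R K p) ∈ regAt k p hp) : e = 0 := by
  obtain ⟨t, ht, w, hw⟩ := h
  refine int_eq_zero_of_prime k R p hp e t ht w ?_
  apply iota_injective k R K
  rw [map_smul, map_smul, ← hw, ← smul_dlog_alg k hp.ne_zero, mul_smul, Int.cast_smul_eq_zsmul,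
    smul_comm p t, smul_comm p e, smul_comm e t]

variable {r : ℕ} (f : Fin r → R)

/-- Forms with logarithmic poles along the `f i`: `ι(Ω_R) + Σ R dlog fᵢ`. -/
noncomputable def logForms : Submodule R Ω[K⁄k] :=
  LinearMap.range (iota k R K) ⊔
    Submodule.span R (Set.range fun i => dlog k (algebraMap R K (f i)))

theorem logForms_le_regAt (p : R) (hp : Prime p) (hpf : ∀ i, ¬ p ∣ f i) :
    logForms k (K := K) f ≤ regAt k p hp :=
  sup_le (range_iota_le_regAt k p hp) (Submodule.span_le.mpr (by
    rintro _ ⟨i, rfl⟩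
    exact dlog_mem_regAt k p hp (hpf i)))

theorem dlog_unit_mem_range (u : Rˣ) :
    dlog k (algebraMap R K (u : R)) ∈ LinearMap.range (iota k R K) := by
  refine ⟨((u⁻¹ : Rˣ) : R) • D k R (u : R), ?_⟩
  rw [map_smul, iota_D]
  unfold dlog
  rw [← algebraMap_smul K ((u⁻¹ : Rˣ) : R)]
  congr 1
  apply eq_inv_of_mul_eq_one_left
  rw [← map_mul, Units.inv_mul, map_one]

/-- Good elements: `dlog x = dlog v + Σ bᵢ dlog fᵢ` with `v` a unit of `R`, `bᵢ` integers. -/
def Good (x : K) : Prop :=
  ∃ (v : Rˣ) (b : Fin r → ℤ), dlog k x = dlog k (algebraMap R K (v : R)) +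
    ∑ i, b i • dlog k (algebraMap R K (f i))

theorem good_unit (u : Rˣ) : Good k f (algebraMap R K (u : R)) :=
  ⟨u, 0, by simp⟩

theorem good_f (i : Fin r) : Good k f (algebraMap R K (f i)) := by
  classical
  refine ⟨1, Pi.single i 1, ?_⟩
  rw [Units.val_one, map_one, dlog_one, zero_add, Finset.sum_eq_single i]
  · rw [Pi.single_eq_same, one_smul]
  · intro j _ hj
    rw [Pi.single_eq_of_ne hj, zero_smul]
  · intro h; exact absurd (Finset.mem_univ i) h

theorem Good.mul {x y : K} (hx0 : x ≠ 0) (hy0 : y ≠ 0) (hx : Good k f x) (hy : Good k f y) :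
    Good k f (x * y) := by
  obtain ⟨v, b, h⟩ := hx
  obtain ⟨v', b', h'⟩ := hy
  refine ⟨v * v', b + b', ?_⟩
  have hv : algebraMap R K (v : R) ≠ 0 := alg_ne_zero v.ne_zero
  have hv' : algebraMap R K (v' : R) ≠ 0 := alg_ne_zero v'.ne_zero
  rw [dlog_mul k hx0 hy0, h, h', Units.val_mul, map_mul, dlog_mul k hv hv']
  simp only [Pi.add_apply, add_smul, Finset.sum_add_distrib]
  abel

theorem Good.inv {x : K} (hx0 : x ≠ 0) (hx : Good k f x) : Good k f x⁻¹ := by
  obtain ⟨v, b, h⟩ := hx
  refine ⟨v⁻¹, -b, ?_⟩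
  have hv : algebraMap R K (v : R) ≠ 0 := alg_ne_zero v.ne_zero
  have hinv : algebraMap R K ((v⁻¹ : Rˣ) : R) = (algebraMap R K (v : R))⁻¹ := by
    apply eq_inv_of_mul_eq_one_left
    rw [← map_mul, Units.inv_mul, map_one]
  rw [dlog_inv k hx0, h, hinv, dlog_inv k hv]
  simp only [Pi.neg_apply, neg_smul, Finset.sum_neg_distrib]
  abel

theorem Good.dlog_mem {x : K} (hx : Good k f x) : dlog k x ∈ logForms k (K := K) f := by
  obtain ⟨v, b, h⟩ := hx
  rw [h]
  refine Submodule.add_mem _ (Submodule.mem_sup_left (dlog_unit_mem_range k v))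
    (Submodule.mem_sup_right (Submodule.sum_mem _ fun i _ => ?_))
  rw [← Int.cast_smul_eq_zsmul R]
  exact Submodule.smul_mem _ _ (Submodule.subset_span ⟨i, rfl⟩)

/-- A prime dividing some `fᵢ` is good. -/
theorem good_of_dvd (hf : ∀ i, Prime (f i)) {p : R} (hp : Prime p) {i : Fin r} (h : p ∣ f i) :
    Good k f (algebraMap R K p) := by
  obtain ⟨c, hc⟩ := h
  have hcu : IsUnit c := by
    rcases (hf i).irreducible.isUnit_or_isUnit hc with h1 | h1
    · exact absurd h1 hp.not_isUnit
    · exact h1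
  obtain ⟨u, rfl⟩ := hcu
  have hpe : algebraMap R K p = algebraMap R K (f i) * (algebraMap R K (u : R))⁻¹ := by
    rw [hc, map_mul, mul_assoc, mul_inv_cancel₀ (alg_ne_zero u.ne_zero), mul_one]
  rw [hpe]
  exact Good.mul k f (alg_ne_zero (hf i).ne_zero) (inv_ne_zero (alg_ne_zero u.ne_zero))
    (good_f k f i) (Good.inv k f (alg_ne_zero u.ne_zero) (good_unit k f u))

/-- The residue contradiction at a bad prime. -/
theorem not_mem_logForms_of_bad {p : R} (hp : Prime p) (hpf : ∀ i, ¬ p ∣ f i) (e : ℕ)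
    (he : 0 < e) (a b : R) (ha : ¬ p ∣ a) (hb : ¬ p ∣ b) :
    dlog k (algebraMap R K (p ^ e * a) / algebraMap R K b) ∉ logForms k (K := K) f := by
  intro hmem
  have ha0 : a ≠ 0 := fun h => ha (h ▸ dvd_zero p)
  have hb0 : b ≠ 0 := fun h => hb (h ▸ dvd_zero p)
  have hp0 : algebraMap R K p ≠ 0 := alg_ne_zero hp.ne_zero
  have h1 := logForms_le_regAt k f p hp hpf hmem
  rw [dlog_div k (alg_ne_zero (mul_ne_zero (pow_ne_zero e hp.ne_zero) ha0)) (alg_ne_zero hb0),
    map_mul, map_pow, dlog_mul k (pow_ne_zero e hp0) (alg_ne_zero ha0), dlog_pow k hp0] at h1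
  have h2 : (e : ℤ) • dlog k (algebraMap R K p) ∈ regAt k p hp := by
    have h3 := Submodule.add_mem _ (Submodule.sub_mem _ h1 (dlog_mem_regAt k p hp ha))
      (dlog_mem_regAt k p hp hb)
    have h4 : e • dlog k (algebraMap R K p) + dlog k (algebraMap R K a) -
        dlog k (algebraMap R K b) - dlog k (algebraMap R K a) + dlog k (algebraMap R K b) =
        (e : ℤ) • dlog k (algebraMap R K p) := by
      rw [natCast_zsmul]; abel
    rw [h4] at h3
    exact h3
  have h5 := int_eq_zero_of_zsmul_dlog_mem_regAt k (K := K) p hp (e : ℤ) h2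
  omega

variable [UniqueFactorizationMonoid R]

/-- Split off the maximal power of a prime. -/
theorem exists_pow_mul_of_prime {p a : R} (hp : Prime p) (ha : a ≠ 0) :
    ∃ (e : ℕ) (a' : R), 0 < e ∧ ¬ p ∣ a' ∧ p * a = p ^ e * a' := by
  obtain ⟨n, a', hnd, heq⟩ := WfDvdMonoid.max_power_factor (mul_ne_zero hp.ne_zero ha)
    hp.irreducible
  refine ⟨n, a', ?_, hnd, heq⟩
  rcases Nat.eq_zero_or_pos n with h0 | h0
  · exfalso
    rw [h0, pow_zero, one_mul] at heq
    exact hnd ⟨a, heq.symm⟩
  · exact h0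

/-- Numerators: a non-zero `a ∈ R` with `dlog a` logarithmic is good. -/
theorem good_of_dlog_mem (hf : ∀ i, Prime (f i)) (a : R) :
    a ≠ 0 → dlog k (algebraMap R K a) ∈ logForms k (K := K) f → Good k f (algebraMap R K a) := by
  induction a using UniqueFactorizationMonoid.induction_on_prime with
  | h₁ => intro h; exact absurd rfl h
  | h₂ x hx =>
    intro _ _
    obtain ⟨u, rfl⟩ := hx
    exact good_unit k f u
  | h₃ a p ha0 hp ih =>
    intro _ hmem
    by_cases hpf : ∃ i, p ∣ f i
    · obtain ⟨i, hi⟩ := hpf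
      have hgp := good_of_dvd k (K := K) f hf hp hi
      have hp0 : algebraMap R K p ≠ 0 := alg_ne_zero hp.ne_zero
      have ha' : algebraMap R K a ≠ 0 := alg_ne_zero ha0
      rw [map_mul] at hmem ⊢
      refine Good.mul k f hp0 ha' hgp (ih ha0 ?_)
      rw [dlog_mul k hp0 ha'] at hmem
      have := Submodule.sub_mem _ hmem (Good.dlog_mem k f hgp)
      rwa [add_sub_cancel_left] at this
    · push Not at hpf
      exfalso
      obtain ⟨e, a', he, hnd, heq⟩ := exists_pow_mul_of_prime hp ha0
      have := not_mem_logForms_of_bad k (K := K) f hp hpf e he a' 1 hnd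
        (fun h => hp.not_isUnit (isUnit_of_dvd_one h))
      rw [map_one, div_one, ← heq] at this
      exact this hmem

/-- Fractions: `a / b` with `dlog (a/b)` logarithmic is good. -/
theorem good_div_of_dlog_mem (hf : ∀ i, Prime (f i)) (a : R) :
    a ≠ 0 → ∀ b : R, b ≠ 0 →
      dlog k (algebraMap R K a / algebraMap R K b) ∈ logForms k (K := K) f →
      Good k f (algebraMap R K a / algebraMap R K b) := by
  induction a using UniqueFactorizationMonoid.induction_on_prime with
  | h₁ => intro h; exact absurd rfl h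
  | h₂ x hx =>
    intro _ b hb0 hmem
    obtain ⟨u, rfl⟩ := hx
    have hu0 : algebraMap R K (u : R) ≠ 0 := alg_ne_zero u.ne_zero
    have hb' : algebraMap R K b ≠ 0 := alg_ne_zero hb0
    have hgb : Good k f (algebraMap R K b) := by
      apply good_of_dlog_mem k f hf b hb0
      rw [dlog_div k hu0 hb'] at hmem
      have := Submodule.sub_mem _ (Good.dlog_mem k f (good_unit k f u)) hmem
      rwa [sub_sub_cancel] at this
    rw [div_eq_mul_inv]
    exact Good.mul k f hu0 (inv_ne_zero hb') (good_unit k f u) (Good.inv k f hb' hgb)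
  | h₃ a p ha0 hp ih =>
    intro _ b hb0 hmem
    have hp0 : algebraMap R K p ≠ 0 := alg_ne_zero hp.ne_zero
    have ha' : algebraMap R K a ≠ 0 := alg_ne_zero ha0
    have hb' : algebraMap R K b ≠ 0 := alg_ne_zero hb0
    by_cases hpf : ∃ i, p ∣ f i
    · obtain ⟨i, hi⟩ := hpf
      have hgp := good_of_dvd k (K := K) f hf hp hi
      have e1 : algebraMap R K (p * a) / algebraMap R K b =
          algebraMap R K p * (algebraMap R K a / algebraMap R K b) := by
        rw [map_mul, mul_div_assoc]
      rw [e1] at hmem ⊢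
      refine Good.mul k f hp0 (div_ne_zero ha' hb') hgp (ih ha0 b hb0 ?_)
      rw [dlog_mul k hp0 (div_ne_zero ha' hb')] at hmem
      have := Submodule.sub_mem _ hmem (Good.dlog_mem k f hgp)
      rwa [add_sub_cancel_left] at this
    · push Not at hpf
      by_cases hpb : p ∣ b
      · obtain ⟨b₁, rfl⟩ := hpb
        have hb₁ : b₁ ≠ 0 := right_ne_zero_of_mul hb0
        have e1 : algebraMap R K (p * a) / algebraMap R K (p * b₁) =
            algebraMap R K a / algebraMap R K b₁ := by
          rw [map_mul, map_mul, mul_div_mul_left _ _ hp0]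
        rw [e1] at hmem ⊢
        exact ih ha0 b₁ hb₁ hmem
      · exfalso
        obtain ⟨e, a', he, hnd, heq⟩ := exists_pow_mul_of_prime hp ha0
        have := not_mem_logForms_of_bad k (K := K) f hp hpf e he a' b hnd hpb
        rw [← heq] at this
        exact this hmem

/-- The main statement for a UFD `R` formally smooth and essentially of finite type over `k`. -/
theorem main (hf : ∀ i, Prime (f i)) (g : Kˣ) (η : Ω[R⁄k]) (c : Fin r → R)
    (h : (g : K)⁻¹ • D k K (g : K) = KaehlerDifferential.map k k R K η +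
      ∑ i, (algebraMap R K (c i) * (algebraMap R K (f i))⁻¹) • D k K (algebraMap R K (f i))) :
    ∃ (v : Rˣ) (b : Fin r → ℤ),
      (g : K)⁻¹ • D k K (g : K) =
        (algebraMap R K (v : R))⁻¹ • D k K (algebraMap R K (v : R)) +
          ∑ i, ((b i : K) * (algebraMap R K (f i))⁻¹) • D k K (algebraMap R K (f i)) := by
  obtain ⟨a, b, hb, hab⟩ := IsFractionRing.div_surjective (A := R) (g : K)
  have hb0 : b ≠ 0 := nonZeroDivisors.ne_zero hb
  have ha0 : a ≠ 0 := by
    rintro rfl
    rw [map_zero, zero_div] at hab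
    exact g.ne_zero hab.symm
  have hmem : dlog k (algebraMap R K a / algebraMap R K b) ∈ logForms k (K := K) f := by
    rw [hab]
    show (g : K)⁻¹ • D k K (g : K) ∈ _
    rw [h]
    refine Submodule.add_mem _ (Submodule.mem_sup_left ⟨η, rfl⟩)
      (Submodule.mem_sup_right (Submodule.sum_mem _ fun i _ => ?_))
    rw [mul_smul, algebraMap_smul]
    exact Submodule.smul_mem _ _ (Submodule.subset_span ⟨i, rfl⟩)
  obtain ⟨v, bb, hv⟩ := good_div_of_dlog_mem k f hf a ha0 b hb0 hmem
  refine ⟨v, bb, ?_⟩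
  rw [hab] at hv
  have e1 : ∀ i, ((bb i : K) * (algebraMap R K (f i))⁻¹) • D k K (algebraMap R K (f i)) =
      bb i • dlog k (algebraMap R K (f i)) := by
    intro i
    rw [mul_smul, Int.cast_smul_eq_zsmul]
    rfl
  simp only [e1]
  exact hv

end Main

end Groth.Agent.R2.H91.LogDiff
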