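import Mathlib
import Groth.Agent.R2.H63P1Conn

/-!
# Projective space over a field is irreducible, in the `ProjSpaceOver` form (helper91)
-/

set_option autoImplicit false

namespace Groth.Agent.R2.H91.P1Irr

open CategoryTheory CategoryTheory.Limits AlgebraicGeometry

universe u

/-- `P^n` over `Spec K` (in the fibre-product form of the prelude) is irreducible. -/
theorem irreducibleSpace_projSpaceOver_spec (n : ℕ) (K : Type u) [Field K] :
    IrreducibleSpace ↥(CohB1.ProjSpaceOver n (Spec (CommRingCat.of K))) := by
  letI : Algebra (ULift.{u} ℤ) K :=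
    ((Int.castRingHom K).comp (ULift.ringEquiv : ULift.{u} ℤ ≃+* ℤ).toRingHom).toAlgebra
  have h := Groth.Agent.R2.H63.P1Conn.isPullback_projSpace n (ULift.{u} ℤ) K
  have e : Spec.map (CommRingCat.ofHom (algebraMap (ULift.{u} ℤ) K)) =
      specULiftZIsTerminal.from (Spec (CommRingCat.of K)) :=
    specULiftZIsTerminal.hom_ext _ _
  rw [e] at h
  have : IrreducibleSpace (CohB1.ProjSpace n K) :=
    Groth.Agent.R2.H63.P1Conn.irreducibleSpace_projSpace n K
  exact (h.isoPullback.symm.hom.homeomorph.irreducibleSpace_iff).mpr this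

/-- Every open subscheme of `P^n` over a field is a preirreducible space. -/
theorem preirreducibleSpace_opens (n : ℕ) (K : Type u) [Field K]
    (U : (CohB1.ProjSpaceOver n (Spec (CommRingCat.of K))).Opens) :
    PreirreducibleSpace ↥(U : Scheme.{u}) := by
  haveI := irreducibleSpace_projSpaceOver_spec n K
  have h1 : IsPreirreducible (U : Set ↥(CohB1.ProjSpaceOver n (Spec (CommRingCat.of K)))) :=
    (PreirreducibleSpace.isPreirreducible_univ).open_subset U.isOpen (Set.subset_univ _)
  exact (isPreirreducible_iff_preirreducibleSpace.mp h1 :)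

end Groth.Agent.R2.H91.P1Irr
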