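import Mathlib
import Groth.Agent.Lib.Helper2RelTwistAmple
import Groth.Agent.Lib.Helper2RelTwistComap
import Groth.Agent.Lib.Helper13ModAffine
import Groth.Agent.Lib.Helper2GrModZero
import Groth.Agent.Lib.Helper23Serre
import Groth.Agent.Lib.Helper13PullbackUnit

/-!
# The canonical map `𝒮_d → p_* O_P(d)` on a relative Proj (helper91)

For a relative Proj `p : P ⟶ S` of `𝒮` with twisting sheaf `(L, lam) = O_P(d)`:
* `sec V hV g` : the section of `L` over `p⁻¹ V` reading `g / 1` in the chart over the affine open `V`, `g ∈ 𝒮(V)_d`.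
* `ext_of_val`, `val_sec`, `sec_add`, `sec_res` (restriction to a basic open), `sec_smul` (linearity over the base).
-/

set_option autoImplicit false
set_option linter.unusedSectionVars false
universe u

open CategoryTheory CategoryTheory.Limits AlgebraicGeometry TopologicalSpace Opposite
open scoped HomogeneousIdeal

namespace Groth.Agent.R2.H91.PECanon

open Groth.Agent.Lib.Helper2.RelTildeQCoh Groth.Agent.Lib.Helper23.SecTw Groth.Agent.Lib.Helper6
  Groth.Agent.Lib.Helper2.Push Groth.Agent.Lib.Helper2.RelTwistGen Groth.Agent.Lib.Helper2.IsGenCover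
  Groth.Agent.Lib.Helper2.RelTwistTriv Groth.Agent.Lib.Helper2.RelTwistTensor RelProj
  Groth.Agent.Lib.Helper2.RelTwistAmple Groth.Agent.Lib.Helper2GrModSect

section Base

open HomogeneousLocalization

variable {A σ : Type u} [CommRing A] [SetLike σ A] [AddSubgroupClass σ A] (𝒜 : ℕ → σ) [GradedRing 𝒜]
variable {f : A} {m : ℕ} (f_deg : f ∈ 𝒜 m) (hm : 0 < m)

theorem awayι_appTop_toSpecZero (t : Γ(Spec (.of (𝒜 0)), ⊤)) :
    (Scheme.ΓSpecIso _).hom ((Proj.awayι 𝒜 f f_deg hm).appTop ((Proj.toSpecZero 𝒜).appTop t)) =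
      fromZeroRingHom 𝒜 _ ((Scheme.ΓSpecIso _).hom t) := by
  have h1 := Proj.awayι_toSpecZero 𝒜 f f_deg hm
  have h2 := congrArg Scheme.Hom.appTop h1
  rw [Scheme.Hom.comp_appTop] at h2
  have h3 := Scheme.ΓSpecIso_naturality (CommRingCat.ofHom
    (fromZeroRingHom 𝒜 (Submonoid.powers f)))
  rw [← h2] at h3
  exact congr($h3 t)

/-- the restriction of a global function to `D₊(f)`, through `awayι` (helper27, for general gradings). -/
theorem awayToSection_awayι_appTop (s : Γ(Proj 𝒜, ⊤)) :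
    (Proj.awayToSection 𝒜 f).hom ((Scheme.ΓSpecIso _).hom ((Proj.awayι 𝒜 f f_deg hm).appTop s)) =
      (Proj 𝒜).presheaf.map (homOfLE (le_top : Proj.basicOpen 𝒜 f ≤ ⊤)).op s := by
  set e := Proj.basicOpenIsoSpec 𝒜 f f_deg hm with he
  have h1 : (Proj.awayι 𝒜 f f_deg hm).appTop s = e.inv.appTop ((Proj.basicOpen 𝒜 f).ι.appTop s) := by
    rw [← Proj.basicOpenIsoSpec_inv_ι, Scheme.Hom.comp_appTop]
    rfl
  set u := (Proj.basicOpen 𝒜 f).ι.appTop s with hu
  have h2 : e.hom.appTop (e.inv.appTop u) = u := by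
    have : e.inv.appTop ≫ e.hom.appTop = 𝟙 _ := by
      rw [← Scheme.Hom.comp_appTop, e.hom_inv_id]
      rfl
    exact congr($this u)
  have h3 : e.hom.appTop = (Scheme.ΓSpecIso _).hom ≫ Proj.awayToSection 𝒜 f ≫
      (Proj.basicOpen 𝒜 f).topIso.inv := by
    rw [he, Proj.basicOpenIsoSpec_hom]
    exact Proj.basicOpenToSpec_app_top 𝒜 f
  rw [h3] at h2
  have h4 : (Proj.basicOpen 𝒜 f).topIso.inv ((Proj.awayToSection 𝒜 f).hom
      ((Scheme.ΓSpecIso _).hom (e.inv.appTop u))) = u := h2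
  rw [h1]
  have h5 := congrArg (Proj.basicOpen 𝒜 f).topIso.hom h4
  have h6 : (Proj.basicOpen 𝒜 f).topIso.hom ((Proj.basicOpen 𝒜 f).topIso.inv
      ((Proj.awayToSection 𝒜 f).hom ((Scheme.ΓSpecIso _).hom (e.inv.appTop u)))) =
      (Proj.awayToSection 𝒜 f).hom ((Scheme.ΓSpecIso _).hom (e.inv.appTop u)) := by
    exact congr($((Proj.basicOpen 𝒜 f).topIso.inv_hom_id) _)
  rw [h6] at h5
  rw [h5, hu, Scheme.Opens.ι_appTop, Scheme.Opens.topIso_hom]
  change ((Proj 𝒜).presheaf.map (homOfLE _).op ≫ (Proj 𝒜).presheaf.map (eqToHom _).op) s = _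
  rw [← Functor.map_comp]
  rfl

/-- the value at a point of the pullback to `Proj 𝒜` of a function on `Spec 𝒜₀` -/
theorem funVal_toSpecZero (t : Γ(Spec (.of (𝒜 0)), ⊤)) (y : ProjectiveSpectrum 𝒜) :
    (funVal 𝒜 ⊤ ((Proj.toSpecZero 𝒜).appTop t) y trivial).val =
      (Localization.mk (((Scheme.ΓSpecIso (.of (𝒜 0))).hom t : 𝒜 0) : A) 1 : GrTwist.Loc 𝒜 y) := by
  obtain ⟨m, f, hm, f_deg, hfy⟩ := exists_homogeneous_pos_not_mem 𝒜 y
  have hy : y ∈ Proj.basicOpen 𝒜 f := (ProjectiveSpectrum.mem_basicOpen 𝒜 f y).mpr hfy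
  have h1 := awayToSection_awayι_appTop 𝒜 f_deg hm ((Proj.toSpecZero 𝒜).appTop t)
  rw [awayι_appTop_toSpecZero] at h1
  have h2 : funVal 𝒜 ⊤ ((Proj.toSpecZero 𝒜).appTop t) y trivial =
      funVal 𝒜 (Proj.basicOpen 𝒜 f) ((Proj 𝒜).presheaf.map (homOfLE (le_top : Proj.basicOpen 𝒜 f ≤ ⊤)).op
        ((Proj.toSpecZero 𝒜).appTop t)) y hy := rfl
  rw [h2, ← h1]
  rfl

theorem funVal_congr_hom {S : Scheme.{u}} {q q' : Proj 𝒜 ⟶ S} (h : q = q') (U : S.Opens) (a : Γ(S, U))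
    (y : ProjectiveSpectrum 𝒜) (hy : y ∈ q ⁻¹ᵁ U) :
    funVal 𝒜 (q ⁻¹ᵁ U) (q.app U a) y hy = funVal 𝒜 (q' ⁻¹ᵁ U) (q'.app U a) y (h ▸ hy) := by
  subst h; rfl

theorem SpecMap_fromSpec_appLE {X : Scheme.{u}} {U : X.Opens} (hU : IsAffineOpen U) {R : CommRingCat.{u}}
    (ψ : Γ(X, U) ⟶ R) (h : ⊤ ≤ (Spec.map ψ ≫ hU.fromSpec) ⁻¹ᵁ U) :
    (Spec.map ψ ≫ hU.fromSpec).appLE U ⊤ h = ψ ≫ (Scheme.ΓSpecIso R).inv := by
  apply Spec.map_injective
  have h1 := IsAffineOpen.SpecMap_appLE_fromSpec (Spec.map ψ ≫ hU.fromSpec) hU (isAffineOpen_top (Spec R)) h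
  rw [IsAffineOpen.fromSpec_top, Scheme.isoSpec_Spec_inv, ← Category.assoc] at h1
  rw [(cancel_mono hU.fromSpec).mp h1, Spec.map_comp]

/-- the value at a point of the pullback of a function on an affine open of the base, for a morphism factoring through
`Proj 𝒜 ⟶ Spec 𝒜₀` -/
theorem funVal_toSpecZero_comp {X : Scheme.{u}} {U : X.Opens} (hU : IsAffineOpen U)
    (ψ : Γ(X, U) ⟶ CommRingCat.of (𝒜 0)) (a : Γ(X, U)) (y : ProjectiveSpectrum 𝒜)
    (hy : y ∈ (Proj.toSpecZero 𝒜 ≫ Spec.map ψ ≫ hU.fromSpec) ⁻¹ᵁ U) :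
    (funVal 𝒜 _ ((Proj.toSpecZero 𝒜 ≫ Spec.map ψ ≫ hU.fromSpec).app U a) y hy).val =
      (Localization.mk ((ψ.hom a : 𝒜 0) : A) 1 : GrTwist.Loc 𝒜 y) := by
  have hβ : ⊤ ≤ (Spec.map ψ ≫ hU.fromSpec) ⁻¹ᵁ U := by
    intro x _
    change (Spec.map ψ ≫ hU.fromSpec) x ∈ U
    rw [Scheme.Hom.comp_apply]
    have h0 : hU.fromSpec ((Spec.map ψ) x) ∈ Set.range hU.fromSpec := ⟨_, rfl⟩
    rw [hU.range_fromSpec] at h0
    exact h0
  have hq : (⊤ : (Proj 𝒜).Opens) ≤ (Proj.toSpecZero 𝒜 ≫ Spec.map ψ ≫ hU.fromSpec) ⁻¹ᵁ U := by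
    intro x _
    exact hβ (Set.mem_univ ((Proj.toSpecZero 𝒜) x))
  have h1 : funVal 𝒜 _ ((Proj.toSpecZero 𝒜 ≫ Spec.map ψ ≫ hU.fromSpec).app U a) y hy =
      funVal 𝒜 ⊤ ((Proj.toSpecZero 𝒜 ≫ Spec.map ψ ≫ hU.fromSpec).appLE U ⊤ hq a) y trivial := rfl
  have h2 := Scheme.Hom.appLE_comp_appLE (Proj.toSpecZero 𝒜) (Spec.map ψ ≫ hU.fromSpec) U ⊤ ⊤ hβ le_top
  have h3 : (Proj.toSpecZero 𝒜 ≫ Spec.map ψ ≫ hU.fromSpec).appLE U ⊤ hq a =
      (Proj.toSpecZero 𝒜).appTop ((Scheme.ΓSpecIso _).inv (ψ.hom a)) := by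
    rw [← h2, SpecMap_fromSpec_appLE hU ψ hβ]
    rfl
  rw [h1, h3, funVal_toSpecZero]
  have h5 : (Scheme.ΓSpecIso (CommRingCat.of (𝒜 0))).hom ((Scheme.ΓSpecIso _).inv (ψ.hom a)) = ψ.hom a :=
    congr($((Scheme.ΓSpecIso (CommRingCat.of (𝒜 0))).inv_hom_id) (ψ.hom a))
  rw [h5]

end Base

variable {P S : Scheme.{u}} {𝒮 : RelProj.QCGrAlg S} (p : P ⟶ S)
  (chart : ∀ (U : S.Opens) (hU : IsAffineOpen U), (((p ⁻¹ᵁ U : P.Opens) : Scheme.{u}) ≅ Proj (𝒮.deg U hU)))
variable (d : ℕ) (L : P.Modules)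
  (lam : ∀ (U : S.Opens) (hU : IsAffineOpen U),
    L ⟶ (Scheme.Modules.pushforward (RelProj.emb p chart U hU)).obj (GrTwist.twist (𝒮.deg U hU) (d : ℤ)))
  (hL : RelProj.IsRelTwist 𝒮 p chart (d : ℤ) L lam)

include hL in
/-- sections of `O_P(d)` over an open inside `p⁻¹ V` are determined by the values of their chart images -/
theorem ext_of_val (V : S.Opens) (hV : IsAffineOpen V) (W : P.Opens) (hW : W ≤ p ⁻¹ᵁ V) (ℓ ℓ' : Γ(L, W))
    (h : ∀ y : ((RelProj.emb p chart V hV) ⁻¹ᵁ W : (Proj (𝒮.deg V hV)).Opens),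
      GrTwist.val (V := RelProj.emb p chart V hV ⁻¹ᵁ W) ((lam V hV).app W ℓ) y =
        GrTwist.val (V := RelProj.emb p chart V hV ⁻¹ᵁ W) ((lam V hV).app W ℓ') y) : ℓ = ℓ' := by
  apply (hL.bijective V hV W hW).1
  exact twist_ext (𝒮.deg V hV) (RelProj.emb p chart V hV ⁻¹ᵁ W) _ _ h

/-- the section of `O_P(d)` over `p⁻¹ V` reading `g / 1` -/
noncomputable def sec (V : S.Opens) (hV : IsAffineOpen V) (g : 𝒮.presheaf.obj (op V)) (hg : g ∈ 𝒮.deg V hV d) :
    Γ(L, p ⁻¹ᵁ V) :=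
  (exists_sec p chart d L lam hL V hV hg).choose

theorem val_sec (V : S.Opens) (hV : IsAffineOpen V) (g : 𝒮.presheaf.obj (op V)) (hg : g ∈ 𝒮.deg V hV d)
    (y : ((RelProj.emb p chart V hV) ⁻¹ᵁ (p ⁻¹ᵁ V) : (Proj (𝒮.deg V hV)).Opens)) :
    GrTwist.val (V := RelProj.emb p chart V hV ⁻¹ᵁ (p ⁻¹ᵁ V))
        ((lam V hV).app (p ⁻¹ᵁ V) (sec p chart d L lam hL V hV g hg)) y =
      Localization.mk g ⟨1, GrMod.one_nin y.1⟩ :=
  (exists_sec p chart d L lam hL V hV hg).choose_spec y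

/-- characterisation of `sec` -/
theorem eq_sec (V : S.Opens) (hV : IsAffineOpen V) (g : 𝒮.presheaf.obj (op V)) (hg : g ∈ 𝒮.deg V hV d)
    (ℓ : Γ(L, p ⁻¹ᵁ V))
    (h : ∀ y : ((RelProj.emb p chart V hV) ⁻¹ᵁ (p ⁻¹ᵁ V) : (Proj (𝒮.deg V hV)).Opens),
      GrTwist.val (V := RelProj.emb p chart V hV ⁻¹ᵁ (p ⁻¹ᵁ V)) ((lam V hV).app (p ⁻¹ᵁ V) ℓ) y =
        Localization.mk g ⟨1, GrMod.one_nin y.1⟩) : ℓ = sec p chart d L lam hL V hV g hg := by
  refine ext_of_val p chart d L lam hL V hV _ le_rfl _ _ (fun y => ?_)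
  rw [h y, val_sec]

theorem sec_add (V : S.Opens) (hV : IsAffineOpen V) (g g' : 𝒮.presheaf.obj (op V)) (hg : g ∈ 𝒮.deg V hV d)
    (hg' : g' ∈ 𝒮.deg V hV d) :
    sec p chart d L lam hL V hV (g + g') (add_mem hg hg') =
      sec p chart d L lam hL V hV g hg + sec p chart d L lam hL V hV g' hg' := by
  symm
  refine eq_sec p chart d L lam hL V hV _ _ _ (fun y => ?_)
  rw [map_add]
  have h1 := val_sec p chart d L lam hL V hV g hg y
  have h2 := val_sec p chart d L lam hL V hV g' hg' y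
  change GrTwist.val (V := RelProj.emb p chart V hV ⁻¹ᵁ (p ⁻¹ᵁ V)) _ y +
    GrTwist.val (V := RelProj.emb p chart V hV ⁻¹ᵁ (p ⁻¹ᵁ V)) _ y = _
  rw [h1, h2, Localization.add_mk_self]

theorem mk_congr' {R : Type*} [CommRing R] (T : Submonoid R) {a a' b b' : R} (ha : a = a') (hb : b = b')
    (h : b ∈ T) (h' : b' ∈ T) :
    (Localization.mk a ⟨b, h⟩ : Localization T) = Localization.mk a' ⟨b', h'⟩ := by
  subst ha hb; rfl

include hL in
/-- restriction of `sec` to a basic open of the base -/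
theorem sec_res (hP : RelProj.IsRelProj 𝒮 p chart) (U : S.Opens) (hU : IsAffineOpen U) (r : Γ(S, U))
    (g : 𝒮.presheaf.obj (op U)) (hg : g ∈ 𝒮.deg U hU d) :
    res L (p.preimage_mono (S.basicOpen_le r)) (sec p chart d L lam hL U hU g hg) =
      sec p chart d L lam hL (S.basicOpen r) (hU.basicOpen r)
        ((𝒮.presheaf.map (homOfLE (S.basicOpen_le r)).op).hom g)
        (𝒮.map_mem hU (hU.basicOpen r) (S.basicOpen_le r) hg) := by
  refine eq_sec p chart d L lam hL _ _ _ _ _ (fun y => ?_)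
  obtain ⟨hb'', h⟩ := val_lam_res p chart (d : ℤ) L lam hL hP U hU r (S.basicOpen r) (hU.basicOpen r) rfl
    (S.basicOpen_le r) (p ⁻¹ᵁ U) (sec p chart d L lam hL U hU g hg) g 1
    (fun y => GrMod.one_nin y.1) (fun y => val_sec p chart d L lam hL U hU g hg y)
    (p ⁻¹ᵁ S.basicOpen r) (p.preimage_mono (S.basicOpen_le r)) y.1 y.2
  refine h.trans ?_
  exact mk_congr' _ rfl (map_one (𝒮.res hU (hU.basicOpen r) (S.basicOpen_le r))) _ _

/-- the value at a point of a chart of the pullback to `P` of a function on an affine open of the base -/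
theorem funVal_base (hP : RelProj.IsRelProj 𝒮 p chart) (U : S.Opens) (hU : IsAffineOpen U) (a : Γ(S, U))
    (y : ProjectiveSpectrum (𝒮.deg U hU)) (hy : y ∈ RelProj.emb p chart U hU ⁻¹ᵁ (p ⁻¹ᵁ U)) :
    (funVal (𝒮.deg U hU) _ ((RelProj.emb p chart U hU).app (p ⁻¹ᵁ U) (p.app U a)) y hy).val =
      (Localization.mk ((𝒮.str.app (op U)).hom a) 1 : GrTwist.Loc (𝒮.deg U hU) y) := by
  have hπ : RelProj.emb p chart U hU ≫ p =
      Proj.toSpecZero (𝒮.deg U hU) ≫ Spec.map (𝒮.strZero U hU) ≫ hU.fromSpec := by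
    have := hP.chart_over U hU
    unfold RelProj.emb
    rw [Category.assoc, ← this, Iso.inv_hom_id_assoc]
  have h1 : funVal (𝒮.deg U hU) _ ((RelProj.emb p chart U hU).app (p ⁻¹ᵁ U) (p.app U a)) y hy =
      funVal (𝒮.deg U hU) ((RelProj.emb p chart U hU ≫ p) ⁻¹ᵁ U)
        ((RelProj.emb p chart U hU ≫ p).app U a) y hy := rfl
  rw [h1, funVal_congr_hom _ hπ U a y hy, funVal_toSpecZero_comp]
  rfl

include hL in
/-- linearity of `sec` over the base -/
theorem sec_smul (hP : RelProj.IsRelProj 𝒮 p chart) (U : S.Opens) (hU : IsAffineOpen U) (a : Γ(S, U))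
    (g : 𝒮.presheaf.obj (op U)) (hg : g ∈ 𝒮.deg U hU d)
    (hag : (𝒮.str.app (op U)).hom a * g ∈ 𝒮.deg U hU d) :
    sec p chart d L lam hL U hU ((𝒮.str.app (op U)).hom a * g) hag =
      (p.app U a) • sec p chart d L lam hL U hU g hg := by
  symm
  refine eq_sec p chart d L lam hL U hU _ _ _ (fun y => ?_)
  rw [Scheme.Modules.Hom.app_smul, Groth.Agent.Lib.Helper2.Push.pushforward_smul,
    Groth.Agent.Lib.Helper2.RelTwistComap.val_smul_twist, funVal_base p chart hP U hU a y.1 y.2,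
    val_sec p chart d L lam hL U hU g hg y, Localization.mk_mul]
  exact mk_congr' _ rfl (one_mul 1) _ _

theorem sec_congr (V : S.Opens) (hV : IsAffineOpen V) {g g' : 𝒮.presheaf.obj (op V)} (h : g = g')
    (hg : g ∈ 𝒮.deg V hV d) (hg' : g' ∈ 𝒮.deg V hV d) :
    sec p chart d L lam hL V hV g hg = sec p chart d L lam hL V hV g' hg' := by
  subst h; rfl

include hL in
/-- `sec g` generates `O_P(d)` on opens of the chart where `g` vanishes nowhere -/
theorem isGen_res_sec (U : S.Opens) (hU : IsAffineOpen U) (g : 𝒮.presheaf.obj (op U)) (hg : g ∈ 𝒮.deg U hU d)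
    (V : P.Opens) (hV : V ≤ p ⁻¹ᵁ U)
    (hgV : ∀ y : ((RelProj.emb p chart U hU) ⁻¹ᵁ V : (Proj (𝒮.deg U hU)).Opens), g ∉ y.1.asHomogeneousIdeal) :
    IsGen L V (res L hV (sec p chart d L lam hL U hU g hg)) := by
  have h1mem : (1 : 𝒮.presheaf.obj (op U)) ∈ 𝒮.deg U hU 0 := SetLike.GradedOne.one_mem
  have hij : ((d : ℕ) : ℤ) = ((0 : ℕ) : ℤ) + (d : ℤ) := by simp
  obtain ⟨e, he, hv⟩ := Groth.Agent.Lib.Helper2.RelTwistInv.exists_frame p chart (d : ℤ) L lam hL U hU V hV hg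
    h1mem hij hgV (fun y => GrMod.one_nin y.1)
  have heq : res L hV (sec p chart d L lam hL U hU g hg) = e := by
    refine ext_of_val p chart d L lam hL U hU V hV _ _ (fun y => ?_)
    rw [hv y]
    have hnat := app_map' (lam U hU) (homOfLE hV) (sec p chart d L lam hL U hU g hg)
    change GrTwist.val (V := RelProj.emb p chart U hU ⁻¹ᵁ V)
      ((lam U hU).app V (L.presheaf.map (homOfLE hV).op (sec p chart d L lam hL U hU g hg))) y = _
    rw [hnat]
    exact val_sec p chart d L lam hL U hU g hg ⟨y.1, hV y.2⟩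
  rw [heq]
  exact he

/-- a morphism into a module is an epimorphism if locally some section is mapped to a generator -/
theorem epi_of_isGen_image {X : Scheme.{u}} {F N : X.Modules} (a : F ⟶ N)
    (h : ∀ x : X, ∃ (V : X.Opens) (f : Γ(F, V)), x ∈ V ∧ IsGen N V (a.app V f)) : Epi a := by
  apply Groth.Agent.Lib.Helper23.Serre.epi_of_locally_surjective
  intro V' t x hx
  obtain ⟨V, f, hxV, hgen⟩ := h x
  refine ⟨V' ⊓ V, inf_le_left, ⟨hx, hxV⟩, ?_⟩
  refine ⟨coef hgen (inf_le_right : V' ⊓ V ≤ V) (res N inf_le_left t) • res F inf_le_right f, ?_⟩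
  rw [Scheme.Modules.Hom.app_smul]
  have h1 : a.app (V' ⊓ V) (res F inf_le_right f) = res N inf_le_right (a.app V f) :=
    app_map' a (homOfLE inf_le_right) f
  rw [h1, coef_spec]

/-- the adjoint of a map `ψ : F ⟶ f_* G` on the canonical sections of `f^* F` -/
theorem adj_app_unitSec {X Y : Scheme.{u}} (f : Y ⟶ X) {F : X.Modules} {G : Y.Modules}
    (ψ : F ⟶ (Scheme.Modules.pushforward f).obj G) (V : X.Opens) (W : Y.Opens) (hle : W ≤ f ⁻¹ᵁ V)
    (x : Γ(F, V)) :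
    (((Scheme.Modules.pullbackPushforwardAdjunction f).homEquiv F G).symm ψ).app W
        (Groth.Agent.Helper13PullbackUnit.unitSec f F hle x) =
      res G hle (ψ.app V x : Γ(G, f ⁻¹ᵁ V)) := by
  set a := ((Scheme.Modules.pullbackPushforwardAdjunction f).homEquiv F G).symm ψ with ha
  rw [Groth.Agent.Helper13PullbackUnit.unitSec_apply]
  have h1 := app_map' a (homOfLE hle)
    (((Scheme.Modules.pullbackPushforwardAdjunction f).unit.app F).app V x)
  refine h1.trans ?_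
  congr 1
  have h2 : (Scheme.Modules.pullbackPushforwardAdjunction f).unit.app F ≫
      (Scheme.Modules.pushforward f).map a = ψ := by
    have h3 := (Scheme.Modules.pullbackPushforwardAdjunction f).homEquiv_unit (f := a)
    rw [← h3, ha, Equiv.apply_symm_apply]
  exact congrArg (fun m : F ⟶ (Scheme.Modules.pushforward f).obj G => m.app V x) h2

section Canon

open Groth.Agent.Helper13ModAffine Scheme.AffineZariskiSite

variable {E : S.Modules} (j : E ⟶ 𝒮.toModule)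
  (hj : ∀ (U : S.Opens) (hU : IsAffineOpen U) (x : Γ(E, U)), (j.app U) x ∈ 𝒮.deg U hU d)

/-- the canonical map over an affine open -/
noncomputable def canonAff (U : S.Opens) (hU : IsAffineOpen U) :
    Γ(E, U) ⟶ Γ((Scheme.Modules.pushforward p).obj L, U) :=
  AddCommGrpCat.ofHom (AddMonoidHom.mk'
    (fun e => (sec p chart d L lam hL U hU ((j.app U) e) (hj U hU e) : Γ(L, p ⁻¹ᵁ U)))
    (fun e e' => by
      have h1 : (j.app U) (e + e') = (j.app U) e + (j.app U) e' := map_add _ _ _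
      rw [sec_congr p chart d L lam hL U hU h1 (hj U hU (e + e')) (add_mem (hj U hU e) (hj U hU e'))]
      exact sec_add p chart d L lam hL U hU _ _ _ _))

theorem canonAff_apply (U : S.Opens) (hU : IsAffineOpen U) (e : Γ(E, U)) :
    canonAff p chart d L lam hL j hj U hU e = sec p chart d L lam hL U hU ((j.app U) e) (hj U hU e) := rfl

include hL in
theorem canon_nat (hP : RelProj.IsRelProj 𝒮 p chart) {U V : S.AffineZariskiSite} (i : V ⟶ U) :
    E.presheaf.map (homOfLE (toOpens_mono i.le)).op ≫ canonAff p chart d L lam hL j hj V.1 V.2 =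
      canonAff p chart d L lam hL j hj U.1 U.2 ≫
        ((Scheme.Modules.pushforward p).obj L).presheaf.map (homOfLE (toOpens_mono i.le)).op := by
  obtain ⟨U, hU⟩ := U
  obtain ⟨V, hV⟩ := V
  obtain ⟨r, hr⟩ := i.le
  change S.basicOpen r = V at hr
  subst hr
  ext e
  change canonAff p chart d L lam hL j hj _ _ (E.presheaf.map (homOfLE (S.basicOpen_le r)).op e) =
    L.presheaf.map (homOfLE (p.preimage_mono (S.basicOpen_le r))).op
      (canonAff p chart d L lam hL j hj U hU e)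
  rw [canonAff_apply, canonAff_apply]
  have h1 := sec_res p chart d L lam hL hP U hU r ((j.app U) e) (hj U hU e)
  refine Eq.trans ?_ h1.symm
  refine sec_congr p chart d L lam hL _ _ ?_ _ _
  exact CategoryTheory.congr_fun (j.mapPresheaf.naturality (homOfLE (S.basicOpen_le r)).op) e

include hL in
theorem canon_lin (hP : RelProj.IsRelProj 𝒮 p chart) (U : S.Opens) (hU : IsAffineOpen U) (a : Γ(S, U))
    (m : Γ(E, U)) :
    canonAff p chart d L lam hL j hj U hU (a • m) = a • canonAff p chart d L lam hL j hj U hU m := by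
  rw [canonAff_apply, canonAff_apply]
  let jv : Γ(E, U) → 𝒮.presheaf.obj (op U) := fun x => (j.app U) x
  have h1 : jv (a • m) = (𝒮.str.app (op U)).hom a * jv m := j.app_smul a m
  rw [sec_congr p chart d L lam hL U hU (g := (j.app U) (a • m)) h1 (hj U hU (a • m))
    (by rw [← h1]; exact hj U hU (a • m))]
  exact sec_smul p chart d L lam hL hP U hU a _ (hj U hU m) _

/-- the canonical map `E ⟶ p_* O_P(d)` attached to a module map `E ⟶ 𝒮` landing in degree `d` -/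
noncomputable def canon (hP : RelProj.IsRelProj 𝒮 p chart) : E ⟶ (Scheme.Modules.pushforward p).obj L :=
  homOfAffine (canonAff p chart d L lam hL j hj) (fun i => canon_nat p chart d L lam hL j hj hP i)
    (canon_lin p chart d L lam hL j hj hP)

theorem canon_app (hP : RelProj.IsRelProj 𝒮 p chart) (U : S.Opens) (hU : IsAffineOpen U) (e : Γ(E, U)) :
    ((canon p chart d L lam hL j hj hP).app U) e =
      sec p chart d L lam hL U hU ((j.app U) e) (hj U hU e) := by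
  have h := homOfAffine_app (canonAff p chart d L lam hL j hj) (fun i => canon_nat p chart d L lam hL j hj hP i)
    (canon_lin p chart d L lam hL j hj hP) U hU
  exact congrArg (fun t : Γ(E, U) ⟶ Γ((Scheme.Modules.pushforward p).obj L, U) => t e) h

/-- the characterising property of the canonical map: `φ(e)` reads `j(e) / 1` in the chart over `U` -/
theorem val_canon (hP : RelProj.IsRelProj 𝒮 p chart) (U : S.Opens) (hU : IsAffineOpen U) (e : Γ(E, U))
    (y : ↥(RelProj.emb p chart U hU ⁻¹ᵁ (p ⁻¹ᵁ U))) :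
    GrTwist.val (V := RelProj.emb p chart U hU ⁻¹ᵁ (p ⁻¹ᵁ U))
        ((lam U hU).app (p ⁻¹ᵁ U) (((canon p chart d L lam hL j hj hP).app U) e)) y =
      algebraMap (𝒮.presheaf.obj (op U)) (GrTwist.Loc (𝒮.deg U hU) y.1)
        ((j.app U) e : 𝒮.presheaf.obj (op U)) := by
  rw [canon_app p chart d L lam hL j hj hP U hU e, val_sec, ← Localization.mk_one_eq_algebraMap]
  rfl

include hL hj in
/-- **the canonical surjection** `p^* E ⟶ O_P(d)`: the adjoint of a map `φ : E ⟶ p_* O_P(d)` reading `j(e) / 1` in the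
charts is an epimorphism, as soon as the `D₊(j e)` cover the charts (this is S5732 for `d = 1`). -/
theorem epi_adj
    (hcov : ∀ (U : S.Opens) (hU : IsAffineOpen U) (y : ProjectiveSpectrum (𝒮.deg U hU)),
      ∃ e : Γ(E, U), ((j.app U) e : 𝒮.presheaf.obj (op U)) ∉ y.asHomogeneousIdeal)
    (φ : E ⟶ (Scheme.Modules.pushforward p).obj L)
    (hφ : ∀ (U : S.Opens) (hU : IsAffineOpen U) (e : Γ(E, U))
      (y : ↥(RelProj.emb p chart U hU ⁻¹ᵁ (p ⁻¹ᵁ U))),
      GrTwist.val (V := RelProj.emb p chart U hU ⁻¹ᵁ (p ⁻¹ᵁ U))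
          ((lam U hU).app (p ⁻¹ᵁ U) ((φ.app U) e)) y =
        algebraMap (𝒮.presheaf.obj (op U)) (GrTwist.Loc (𝒮.deg U hU) y.1)
          ((j.app U) e : 𝒮.presheaf.obj (op U))) :
    Epi (((Scheme.Modules.pullbackPushforwardAdjunction p).homEquiv E L).symm φ) := by
  apply epi_of_isGen_image
  intro x
  obtain ⟨U, hU, hxU, -⟩ := exists_isAffineOpen_mem_and_subset (X := S) (x := p x) (U := ⊤) trivial
  have hx : x ∈ p ⁻¹ᵁ U := hxU
  let y : Proj (𝒮.deg U hU) := (chart U hU).hom ⟨x, hx⟩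
  have hy : (RelProj.emb p chart U hU) y = x := by
    have h0 : (chart U hU).hom ≫ RelProj.emb p chart U hU = (p ⁻¹ᵁ U).ι := by
      unfold RelProj.emb
      rw [Iso.hom_inv_id_assoc]
    have h1 := Scheme.Hom.comp_apply (chart U hU).hom (RelProj.emb p chart U hU) ⟨x, hx⟩
    rw [h0] at h1
    exact h1.symm
  obtain ⟨e, he⟩ := hcov U hU y
  have hφe : (φ.app U) e = sec p chart d L lam hL U hU ((j.app U) e) (hj U hU e) := by
    refine eq_sec p chart d L lam hL U hU _ _ _ (fun y' => ?_)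
    rw [hφ U hU e y', ← Localization.mk_one_eq_algebraMap]
    rfl
  refine ⟨(RelProj.emb p chart U hU) ''ᵁ (Proj.basicOpen (𝒮.deg U hU) ((j.app U) e)),
    Groth.Agent.Helper13PullbackUnit.unitSec p E (image_emb_le p chart U hU _) e,
    ⟨y, (ProjectiveSpectrum.mem_basicOpen _ _ y).mpr he, hy⟩, ?_⟩
  rw [adj_app_unitSec, hφe]
  refine isGen_res_sec p chart d L lam hL U hU _ _ _ _ (fun y' => ?_)
  obtain ⟨y0, hy0⟩ := y'
  rw [(RelProj.emb p chart U hU).preimage_image_eq] at hy0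
  exact (ProjectiveSpectrum.mem_basicOpen _ _ y0).mp hy0

end Canon

end Groth.Agent.R2.H91.PECanon
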