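import Mathlib
import Groth.Agent.R2.H91PECanon
import Groth.Agent.R2.H91GrSymAlg
import Groth.Agent.R2.H91PEAmple
import Groth.Agent.Lib.Helper13ModGlue
import Groth.Agent.Lib.Helper23PB
import Groth.Agent.S8258
import Groth.Agent.S8284
import Groth.Agent.S12143

/-!
# Projective bundles `P(E)`: the canonical surjection `p^* E ⟶ O(1)` (helper91)

* `exists_j_not_mem` : the `D₊(j e)`, `e` a section of `E`, cover the charts of `P(E)`.
* `epi_adj_of_isGrSymAlg` : **S5732**.
* `exists_canonical` : existence of the canonical map `E ⟶ p_* O(1)`.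
-/

set_option autoImplicit false
set_option linter.unusedSectionVars false
set_option linter.style.haveILetI false
universe u

open CategoryTheory CategoryTheory.Limits AlgebraicGeometry TopologicalSpace Opposite
open scoped HomogeneousIdeal

namespace Groth.Agent.R2.H91.PEBundle

open Groth.Agent.R2.H91.PECanon Groth.Agent.R2.H91.GrSymAlg Groth.Agent.R2.H91.PEAmple

variable {Y P : Scheme.{u}} (E : Y.Modules) (hE : Coh.IsQCoh E)
  (𝒮 : RelProj.QCGrAlg Y) (j : E ⟶ 𝒮.toModule) (hj : RelProj.IsGrSymAlg E 𝒮 j)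

include hE hj in
/-- the `D₊(j e)` cover the charts of a projective bundle -/
theorem exists_j_not_mem (U : Y.Opens) (hU : IsAffineOpen U) (y : ProjectiveSpectrum (𝒮.deg U hU)) :
    ∃ e : Γ(E, U), ((j.app U) e : 𝒮.presheaf.obj (op U)) ∉ y.asHomogeneousIdeal := by
  have : E.IsQuasicoherent := hE
  obtain ⟨a, ha, hay⟩ := Groth.Agent.R2.Lead.RelProjQP.exists_deg_one_not_mem (𝒮.deg U hU)
    (isGenDegOne_of_isGrSymAlg E 𝒮 j hj U hU) y
  obtain ⟨e, rfl⟩ := exists_eq_j_of_mem_deg_one E 𝒮 j hj U hU a ha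
  exact ⟨e, hay⟩

variable (p : P ⟶ Y)
  (chart : ∀ (U : Y.Opens) (hU : IsAffineOpen U), ((p ⁻¹ᵁ U : P.Opens) : Scheme.{u}) ≅ Proj (𝒮.deg U hU))
  (hP : RelProj.IsRelProj 𝒮 p chart) (O1 : P.Modules)
  (lam : ∀ (U : Y.Opens) (hU : IsAffineOpen U),
    O1 ⟶ (Scheme.Modules.pushforward (RelProj.emb p chart U hU)).obj (GrTwist.twist (𝒮.deg U hU) 1))
  (hO1 : RelProj.IsRelTwist 𝒮 p chart 1 O1 lam)

include hE hj hO1 in
/-- **S5732**: the canonical morphism `p^* E ⟶ O_{P(E)}(1)` is an epimorphism -/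
theorem epi_adj_of_isGrSymAlg
    (φ : E ⟶ (Scheme.Modules.pushforward p).obj O1)
    (hφ : ∀ (U : Y.Opens) (hU : IsAffineOpen U) (e : Γ(E, U))
      (y : ↥(RelProj.emb p chart U hU ⁻¹ᵁ (p ⁻¹ᵁ U))),
      GrTwist.val (V := RelProj.emb p chart U hU ⁻¹ᵁ (p ⁻¹ᵁ U))
          ((lam U hU).app (p ⁻¹ᵁ U) ((φ.app U) e)) y =
        algebraMap (𝒮.presheaf.obj (op U)) (GrTwist.Loc (𝒮.deg U hU) y.1)
          ((j.app U) e : 𝒮.presheaf.obj (op U))) :
    Epi (((Scheme.Modules.pullbackPushforwardAdjunction p).homEquiv E O1).symm φ) := by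
  have hO1' : RelProj.IsRelTwist 𝒮 p chart ((1 : ℕ) : ℤ) O1 lam := hO1
  exact epi_adj p chart 1 O1 lam hO1' j hj.2 (exists_j_not_mem E hE 𝒮 j hj) φ hφ

include hO1 hP in
/-- existence of the canonical map `E ⟶ p_* O_{P(E)}(1)` -/
theorem exists_canonical (hj1 : ∀ (U : Y.Opens) (hU : IsAffineOpen U) (x : Γ(E, U)), (j.app U) x ∈ 𝒮.deg U hU 1) :
    ∃ φ : E ⟶ (Scheme.Modules.pushforward p).obj O1,
      ∀ (U : Y.Opens) (hU : IsAffineOpen U) (e : Γ(E, U))
        (y : ↥(RelProj.emb p chart U hU ⁻¹ᵁ (p ⁻¹ᵁ U))),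
        GrTwist.val (V := RelProj.emb p chart U hU ⁻¹ᵁ (p ⁻¹ᵁ U))
            ((lam U hU).app (p ⁻¹ᵁ U) ((φ.app U) e)) y =
          algebraMap (𝒮.presheaf.obj (op U)) (GrTwist.Loc (𝒮.deg U hU) y.1)
            ((j.app U) e : 𝒮.presheaf.obj (op U)) := by
  have hO1' : RelProj.IsRelTwist 𝒮 p chart ((1 : ℕ) : ℤ) O1 lam := hO1
  exact ⟨canon p chart 1 O1 lam hO1' j hj1 hP, fun U hU e y => val_canon p chart 1 O1 lam hO1' j hj1 hP U hU e y⟩

section Invertible

open Groth.Agent.Lib.Helper23.SecTw Groth.Agent.Lib.Helper6 Groth.Agent.Lib.Helper23.PB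
  Groth.Agent.Helper13PullbackUnit

/-- a morphism of modules mapping a generator to a generator over `T` is bijective on sections over `T` -/
theorem bijective_app_of_isGen {X : Scheme.{u}} {M N : X.Modules} (a : M ⟶ N) (T : X.Opens) (m : Γ(M, T))
    (hm : IsGen M T m) (hn : IsGen N T (a.app T m)) : Function.Bijective (a.app T) := by
  have h1 := hm T le_rfl
  have h2 := hn T le_rfl
  have h3 : (fun r : Γ(X, T) => r • res N (le_refl T) (a.app T m)) =
      ⇑(a.app T) ∘ (fun r : Γ(X, T) => r • res M (le_refl T) m) := by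
    funext r
    change r • res N (le_refl T) (a.app T m) = a.app T (r • res M (le_refl T) m)
    rw [Scheme.Modules.Hom.app_smul, res_self, res_self]
  rw [h3] at h2
  exact (Function.Bijective.of_comp_iff _ h1).mp h2

/-- **S12472**: an invertible module is very ample relative to the identity (`P(L) ≅ Y` and `O(1) ≅ p^* L`). -/
theorem isRelVeryAmple_id (Y : Scheme.{u}) (L : Y.Modules) (hL : PicF.IsInvertible L) :
    RelProj.IsRelVeryAmple (𝟙 Y) L := by
  haveI hLq : L.IsQuasicoherent := isQuasicoherent_of_isInvertible L hL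
  obtain ⟨P, p, chart, hP⟩ := Groth.Agent.S8258.result (grSymAlg L)
  obtain ⟨O1, lam, hO1⟩ := Groth.Agent.S8284.result (grSymAlg L) p chart hP 1
  have hj := isGrSymAlg L
  haveI : IsIso p := Groth.Agent.S12143.result L hL hLq (grSymAlg L) (Groth.Agent.Helper13SymAlg.j L) hj p chart hP
  have hO1' : RelProj.IsRelTwist (grSymAlg L) p chart ((1 : ℕ) : ℤ) O1 lam := hO1
  refine ⟨L, hLq, grSymAlg L, Groth.Agent.Helper13SymAlg.j L, hj, P, p, chart, hP, O1, lam, hO1, inv p,
    inferInstance, IsIso.inv_hom_id p, ?_⟩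
  -- the canonical map and its adjoint
  let φ := canon p chart 1 O1 lam hO1' (Groth.Agent.Helper13SymAlg.j L) hj.2 hP
  let a := ((Scheme.Modules.pullbackPushforwardAdjunction p).homEquiv L O1).symm φ
  have hO1inv : PicF.IsInvertible O1 :=
    Groth.Agent.Lib.Helper2.RelTwistAmpleB.isInvertible_of_cover p chart 1 O1 lam hO1'
      (fun V hV y => Groth.Agent.R2.Lead.RelProjQP.exists_deg_one_not_mem ((grSymAlg L).deg V hV)
        (isGenDegOne_of_isGrSymAlg L (grSymAlg L) _ hj V hV) y)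
  haveI : O1.IsQuasicoherent := isQuasicoherent_of_isInvertible O1 hO1inv
  haveI : ((Scheme.Modules.pullback p).obj L).IsQuasicoherent :=
    isQuasicoherent_of_isInvertible _ (isInvertible_pullback p L hL)
  -- the cover
  have hex : ∀ y : Y, ∃ (W : Y.Opens) (e : Γ(L, W)), y ∈ W ∧ IsAffineOpen W ∧ IsGen L W e :=
    fun y => exists_affine_gen L hL y
  choose W e hyW hW he using hex
  have hcov : ⨆ y : Y, p ⁻¹ᵁ (W y) = ⊤ := by
    rw [eq_top_iff]
    intro x _
    exact Opens.mem_iSup.mpr ⟨p x, hyW (p x)⟩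
  haveI : IsIso a := by
    refine Groth.Agent.Helper13ModGlue.isIso_of_bijective_cover (fun y : Y => p ⁻¹ᵁ (W y)) hcov _ _ a
      (fun y => (hW y).preimage_of_isIso p) (fun y => ?_)
    refine bijective_app_of_isGen a _ (unitSec p L le_rfl (e y)) (isGen_unitSec p L (hW y) (e y) (he y)) ?_
    have h1 : a.app (p ⁻¹ᵁ W y) (unitSec p L le_rfl (e y)) =
        sec p chart 1 O1 lam hO1' (W y) (hW y) ((Groth.Agent.Helper13SymAlg.j L).app (W y) (e y))
          (hj.2 (W y) (hW y) (e y)) := by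
      rw [adj_app_unitSec, res_self]
      exact canon_app p chart 1 O1 lam hO1' (Groth.Agent.Helper13SymAlg.j L) hj.2 hP (W y) (hW y) (e y)
    rw [h1]
    have h2 := isGen_res_sec p chart 1 O1 lam hO1' (W y) (hW y) _ (hj.2 (W y) (hW y) (e y)) (p ⁻¹ᵁ W y) le_rfl
      (fun y' hmem => ?_)
    · rwa [res_self] at h2
    · -- `j (e y)` vanishes nowhere on the chart, since `e y` generates `L` over `W y`
      obtain ⟨e', he'⟩ := exists_j_not_mem L hLq (grSymAlg L) _ hj (W y) (hW y) y'.1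
      apply he'
      have h3 := coef_spec (he y) le_rfl e'
      rw [res_self] at h3
      let jv : Γ(L, W y) → (grSymAlg L).presheaf.obj (op (W y)) :=
        fun x => (Groth.Agent.Helper13SymAlg.j L).app (W y) x
      have h4 : jv (coef (he y) le_rfl e' • e y) =
          ((grSymAlg L).str.app (op (W y))).hom (coef (he y) le_rfl e') * jv (e y) :=
        (Groth.Agent.Helper13SymAlg.j L).app_smul _ _
      rw [h3] at h4
      change jv e' ∈ _
      rw [h4]
      exact Ideal.mul_mem_left _ _ hmem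
  -- assemble the isomorphism
  have hcomp : 𝟙 Y = inv p ≫ p := (IsIso.inv_hom_id p).symm
  exact ⟨((Scheme.Modules.pullbackId Y).app L).symm ≪≫ (Scheme.Modules.pullbackCongr hcomp).app L ≪≫
    ((Scheme.Modules.pullbackComp (inv p) p).app L).symm ≪≫ (Scheme.Modules.pullback (inv p)).mapIso (asIso a)⟩

end Invertible

end Groth.Agent.R2.H91.PEBundle
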