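import Mathlib
import Groth.Agent.R2.H91PEAmple
import Groth.Agent.Lib.Helper23CounitEpi
import Groth.Agent.Lib.Helper23RestrTensor
import Groth.Agent.Lib.Helper23SecTw10

/-!
# Relatively very ample (in the `P(E)` form) modules are relatively globally generated (helper91)

* `isGloballyGenerated_restrict_pullback` : for a morphism `g : X ⟶ P(E)` over `Y` and an affine open `V` of `Y`, the
  restriction of `g^* O(1)` to the preimage of `V` is globally generated.
* `epi_counit_of_isRelVeryAmple` : **S5725**, the counit `q^* q_* L ⟶ L` is an epimorphism for `L` very ample relative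
  to `q`.
-/

set_option autoImplicit false
set_option linter.style.haveILetI false
set_option linter.unusedSectionVars false
universe u

open CategoryTheory CategoryTheory.Limits AlgebraicGeometry TopologicalSpace Opposite
open scoped HomogeneousIdeal

namespace Groth.Agent.R2.H91.PECounit

open Groth.Agent.Lib.Helper23.SecTw Groth.Agent.Lib.Helper6 Groth.Agent.Lib.Helper23.GenLocus
  Groth.Agent.Lib.Helper23.RestrJ Groth.Agent.Lib.Helper23.AmpleIso Groth.Agent.Lib.Helper23.PB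
  Groth.Agent.Lib.Helper2.RelTwistAmpleB Groth.Agent.Lib.Helper2.RelTwistAmple
  Groth.Agent.R2.H91.PEAmple Groth.Agent.Helper13PullbackUnit

/-- for a morphism `g : X ⟶ P(E)` and an affine open `V` of the base, `(g^* O(1))` restricted to the preimage of `V` is
globally generated -/
theorem isGloballyGenerated_restrict_pullback {X Y : Scheme.{u}}
    (E : Y.Modules) (hE : Coh.IsQCoh E) (𝒮 : RelProj.QCGrAlg Y) (j : E ⟶ 𝒮.toModule)
    (hj : RelProj.IsGrSymAlg E 𝒮 j) (P : Scheme.{u}) (p : P ⟶ Y)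
    (chart : ∀ (U : Y.Opens) (hU : IsAffineOpen U), ((p ⁻¹ᵁ U : P.Opens) : Scheme.{u}) ≅ Proj (𝒮.deg U hU))
    (O1 : P.Modules)
    (lam : ∀ (U : Y.Opens) (hU : IsAffineOpen U),
      O1 ⟶ (Scheme.Modules.pushforward (RelProj.emb p chart U hU)).obj (GrTwist.twist (𝒮.deg U hU) 1))
    (hO1 : RelProj.IsRelTwist 𝒮 p chart 1 O1 lam)
    (g : X ⟶ P) (V : Y.Opens) (hV : IsAffineOpen V) :
    Curv2.IsGloballyGenerated (((Scheme.Modules.pullback g).obj O1).restrict ((g ≫ p) ⁻¹ᵁ V).ι) := by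
  classical
  haveI : E.IsQuasicoherent := hE
  have hgen := isGenDegOne_of_isGrSymAlg E 𝒮 j hj
  have hcov : ∀ (V : Y.Opens) (hV : IsAffineOpen V) (y : ProjectiveSpectrum (𝒮.deg V hV)),
      ∃ a ∈ 𝒮.deg V hV 1, a ∉ y.asHomogeneousIdeal :=
    fun V hV y => Groth.Agent.R2.Lead.RelProjQP.exists_deg_one_not_mem (𝒮.deg V hV) (hgen V hV) y
  have hO1' : RelProj.IsRelTwist 𝒮 p chart ((1 : ℕ) : ℤ) O1 lam := hO1
  have hinv : PicF.IsInvertible O1 := isInvertible_of_cover p chart 1 O1 lam hO1' hcov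
  let ε : Proj (𝒮.deg V hV) ⟶ P := RelProj.emb p chart V hV
  let XV : X.Opens := (g ≫ p) ⁻¹ᵁ V
  let h₀ : (XV : Scheme.{u}) ⟶ Proj (𝒮.deg V hV) := (g ∣_ (p ⁻¹ᵁ V)) ≫ (chart V hV).hom
  have h₀ε : h₀ ≫ ε = XV.ι ≫ g := by
    change ((g ∣_ (p ⁻¹ᵁ V)) ≫ (chart V hV).hom) ≫ (chart V hV).inv ≫ (p ⁻¹ᵁ V).ι = _
    rw [Category.assoc, Iso.hom_inv_id_assoc]
    exact morphismRestrict_ι g _
  have hNinv : PicF.IsInvertible (O1.restrict ε) :=
    Groth.Agent.Lib.Helper23.RestrJ.isInvertible_restrict ε O1 hinv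
  refine Groth.Agent.Lib.Helper23.RestrTensor.isGloballyGenerated_of_iso
    (pullbackRestrictIso' g O1 XV.ι ε h₀ h₀ε).symm ?_
  refine isGloballyGenerated_of_forall_mem_genLocus _ (fun x => ?_)
  obtain ⟨a, ha, hax⟩ := hcov V hV (h₀ x)
  obtain ⟨σ, hσ⟩ := exists_section_genLocus p chart 1 O1 lam hO1' hinv V hV (hcov V hV) a ha
  refine ⟨(pullbackUnitIso h₀).symm.hom ≫ (Scheme.Modules.pullback h₀).map (secHom _ σ), ?_⟩
  rw [genLocus_pullback h₀ _ hNinv (secHom _ σ) (pullbackUnitIso h₀).symm, hσ]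
  exact (ProjectiveSpectrum.mem_basicOpen _ a (h₀ x)).mpr hax

/-- **S5725**: for `L` very ample relative to `q`, the counit `q^* q_* L ⟶ L` is an epimorphism -/
theorem epi_counit_of_isRelVeryAmple {X Y : Scheme.{u}} (q : X ⟶ Y) (L : X.Modules)
    (h : RelProj.IsRelVeryAmple q L) :
    Epi ((Scheme.Modules.pullbackPushforwardAdjunction q).counit.app L) := by
  obtain ⟨E, hE, 𝒮, j, hj, P, p, chart, _, O1, lam, hO1, i, _, hiq, ⟨e⟩⟩ := h
  subst hiq
  refine Groth.Agent.Lib.Helper23.CounitEpi.epi_counit_of_isGloballyGenerated (i ≫ p) L (fun x => ?_)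
  obtain ⟨V, hV, hxV, -⟩ := exists_isAffineOpen_mem_and_subset (X := Y) (x := (i ≫ p) x) (U := ⊤) trivial
  refine ⟨V, hxV, ?_⟩
  refine Groth.Agent.Lib.Helper23.RestrTensor.isGloballyGenerated_of_iso
    ((Scheme.Modules.restrictFunctor ((i ≫ p) ⁻¹ᵁ V).ι).mapIso e).symm ?_
  exact isGloballyGenerated_restrict_pullback E hE 𝒮 j hj P p chart O1 lam hO1 i V hV

end Groth.Agent.R2.H91.PECounit
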