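import Mathlib
import Groth.Prelude.Def_LCI2
import Groth.Agent.R2.H55TwistBC
import Groth.Agent.Lib.Helper23PB
import Groth.Agent.Lib.Helper23Restr2
import Groth.Agent.Lib.Helper27TwistAmple2
import Groth.Agent.Lib.Helper27SerreGen4

/-!
# Projective space over an affine base: `P^N_Y` versus `Proj B[T_0..T_N]` (helper91)

* `isAmple_twistProjSpace_one`, `isAmple_twistOver_one` : `O(1)` is ample on `P^N_B` and on `P^N_Y`, `Y` affine.
* `isRelVeryAmplePn_of_projSpace` : an immersion into `Proj B[T_0..T_N]` over `Spec B ≅ Y` pulling `O(1)` back to `M`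
  shows `RelAmple.IsRelVeryAmplePn q M`.
* `isAmple_of_isRelVeryAmplePn` : over an affine base, relatively very ample (`P^N_Y` form) implies ample.
-/

set_option autoImplicit false
set_option linter.style.haveILetI false
set_option linter.unusedSectionVars false
universe u

open CategoryTheory CategoryTheory.Limits AlgebraicGeometry TopologicalSpace Opposite

namespace Groth.Agent.R2.H91.PnAffine

section translate

open Groth.Agent.R2.H87.ProjSpaceOver Groth.Agent.R2.H87.PnSpec Groth.Agent.R2.H55.TwistBC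
open Groth.Agent.Lib.Helper23.PB Groth.Agent.Lib.Helper23.AmpleIso Groth.Agent.Lib.Helper23.SecTw

/-- `O(1)` on `P^N_B` is ample -/
theorem isAmple_twistProjSpace_one (N : ℕ) (B : Type u) [CommRing B] :
    CohB1.IsAmple (Twist.twistProjSpace N B 1) := by
  have hcov : ∀ y : Proj (CohB1.polyGrading N B), ∃ i : Fin (N + 1),
      (MvPolynomial.X i : MvPolynomial (Fin (N + 1)) B) ∉
        (show ProjectiveSpectrum (CohB1.polyGrading N B) from y).asHomogeneousIdeal :=
    fun y => Groth.Agent.Lib.Helper27PnSections.exists_X_not_mem N B y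
  haveI : CompactSpace (Proj (CohB1.polyGrading N B)) :=
    Groth.Agent.Lib.Helper27GrTildeSect.compactSpace_of_cover (CohB1.polyGrading N B) 1
      (fun i : Fin (N + 1) => (MvPolynomial.X i : MvPolynomial (Fin (N + 1)) B))
      (Groth.Agent.Lib.Helper27ProjGamma.hX N B) hcov one_pos
  exact Groth.Agent.Lib.Helper27GrTildeSect.isAmple_of_cover (CohB1.polyGrading N B) 1
    (fun i : Fin (N + 1) => (MvPolynomial.X i : MvPolynomial (Fin (N + 1)) B))
    (Groth.Agent.Lib.Helper27ProjGamma.hX N B) hcov one_pos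

theorem isIso_map {S T : Scheme.{u}} (N : ℕ) (φ : T ≅ S) : IsIso (map N φ.hom) :=
  ⟨⟨map N φ.inv, by rw [← map_comp, φ.hom_inv_id, map_id], by rw [← map_comp, φ.inv_hom_id, map_id]⟩⟩

variable {X Y : Scheme.{u}} (B : Type u) [CommRing B] (φ : Y ≅ Spec (CommRingCat.of B))

/-- an immersion into `Proj B[T_0..T_N]` over `Spec B ≅ Y` gives relative very ampleness in the `P^N_Y` form -/
theorem isRelVeryAmplePn_of_projSpace (q : X ⟶ Y) (M : X.Modules) (N : ℕ)
    (j : X ⟶ CohB1.ProjSpace N B) (hj : IsImmersion j)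
    (hjq : j ≫ CohB1.ProjSpace.toSpec N B = q ≫ φ.hom)
    (τ : (Scheme.Modules.pullback j).obj (Twist.twistProjSpace N B 1) ≅ M) :
    RelAmple.IsRelVeryAmplePn q M := by
  haveI : IsIso (map N φ.symm.hom) := isIso_map N φ.symm
  let i : X ⟶ CohB1.ProjSpaceOver N Y := j ≫ (specIso N B).inv ≫ map N φ.symm.hom
  have hi : IsImmersion i := inferInstance
  refine ⟨N, i, hi, ?_, ?_⟩
  · change i ≫ CohB1.ProjSpaceOver.toBase N Y = q
    have h2 : (specIso N B).inv ≫ CohB1.ProjSpaceOver.toBase N (Spec (CommRingCat.of B)) =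
        CohB1.ProjSpace.toSpec N B := by
      rw [Iso.inv_comp_eq]; exact (specIso_hom_toSpec N B).symm
    simp only [i, Category.assoc, map_toBase]
    rw [reassoc_of% h2, reassoc_of% hjq]
    simp
  · have h1 : i ≫ toZ N Y = j ≫ Proj.map (mapHom N B) (irrelevant_le N B) := by
      have h2 : (specIso N B).inv ≫ toZ N (Spec (CommRingCat.of B)) =
          (Proj.map (mapHom N B) (irrelevant_le N B) :
            CohB1.ProjSpace N B ⟶ CohB1.ProjSpace N (ULift.{u} ℤ)) := by
        rw [Iso.inv_comp_eq]; exact (specIso_hom_map N B).symm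
      simp only [i, Category.assoc, map_toZ]
      rw [h2]
      rfl
    obtain ⟨a⟩ := nonempty_pullback_mapHom_twist_iso N B 1
    exact ⟨τ.symm ≪≫ (Scheme.Modules.pullback j).mapIso a.symm ≪≫
      (Scheme.Modules.pullbackComp j _).app _ ≪≫
      (Scheme.Modules.pullbackCongr h1.symm).app _ ≪≫ (pullbackTwistOverIso N i 1).symm⟩

include φ in
/-- `O(1)` on `P^N_Y` is ample for `Y` affine -/
theorem isAmple_twistOver_one (N : ℕ) : CohB1.IsAmple (Twist.twistOver N Y 1) := by
  haveI : IsIso (map N φ.hom) := isIso_map N φ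
  let e : CohB1.ProjSpaceOver N Y ⟶ CohB1.ProjSpace N B := map N φ.hom ≫ (specIso N B).hom
  have he : e ≫ Proj.map (mapHom N B) (irrelevant_le N B) = toZ N Y := by
    simp only [e, Category.assoc, specIso_hom_map]
    exact map_toZ N φ.hom
  obtain ⟨a⟩ := nonempty_pullback_mapHom_twist_iso N B 1
  have h1 : CohB1.IsAmple ((Scheme.Modules.pullback e).obj (Twist.twistProjSpace N B 1)) :=
    isAmple_pullback_of_isAffineHom e _ (isAmple_twistProjSpace_one N B)
  refine isAmple_of_iso ?_ h1
  rw [twistOver_eq]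
  exact (Scheme.Modules.pullback e).mapIso a.symm ≪≫ (Scheme.Modules.pullbackComp e _).app _ ≪≫
    (Scheme.Modules.pullbackCongr he).app _

include φ in
/-- relatively very ample (in the `P^N_Y` form) modules over an affine base are ample -/
theorem isAmple_of_isRelVeryAmplePn [CompactSpace X] (q : X ⟶ Y) (M : X.Modules)
    (h : RelAmple.IsRelVeryAmplePn q M) : CohB1.IsAmple M := by
  obtain ⟨N, i, hi, -, ⟨τ⟩⟩ := h
  exact isAmple_of_iso τ.symm
    (isAmple_pullback_of_isEmbedding i i.isEmbedding _ (isAmple_twistOver_one B φ N))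

end translate

end Groth.Agent.R2.H91.PnAffine
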