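import Mathlib
import Groth.Agent.R2.H91AmpleEmbS2
import Groth.Agent.R2.LeadRelProjR2
import Groth.Agent.Lib.Helper23AmpleComp
import Groth.Agent.Lib.Helper23Restr
import Groth.Agent.S9705

/-!
# Immersions into `P^n_S` over a base with an ample invertible module (helper91)

Assembly of `exists_embedding_eventually_over` (helper91), `r2` (lead: `i^*O(1)` is relatively ample for a
quasi-compact immersion `i` into `P^n_S`), `isAmple_tensorMod_pullback_tensorPow` (helper23: EGA II 4.6.13 (ii)) and
`S9705.isProper_toBase`.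
-/

set_option autoImplicit false
set_option linter.style.haveILetI false
universe u

open CategoryTheory CategoryTheory.Limits AlgebraicGeometry TopologicalSpace Opposite

namespace Groth.Agent.R2.H91.PnAmpleBase

variable {X S : Scheme.{u}}

/-- a scheme with a quasi-compact immersion into `P^n_S`, `S` with an ample module, has an ample module -/
theorem exists_isAmple_of_immersion (hS : ∃ N : S.Modules, CohB1.IsAmple N) (n : ℕ)
    (i : X ⟶ CohB1.ProjSpaceOver n S) (hi : IsImmersion i) (hqc : QuasiCompact i) :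
    ∃ L : X.Modules, CohB1.IsAmple L := by
  obtain ⟨N, hN⟩ := hS
  have hrel := Groth.Agent.R2.Lead.RelProjR2.r2 n i hi hqc
  obtain ⟨n₀, h⟩ := Groth.Agent.Lib.Helper23.AmpleComp.isAmple_tensorMod_pullback_tensorPow
    (i ≫ CohB1.ProjSpaceOver.toBase n S) N hN _ hrel
  exact ⟨_, h n₀ le_rfl⟩

/-- a scheme with an ample module, locally of finite type over `S`, has an immersion into some `P^n_S` over `S` -/
theorem exists_immersion_of_isAmple (f : X ⟶ S) [LocallyOfFiniteType f] (L : X.Modules)
    (hL : CohB1.IsAmple L) :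
    ∃ (n : ℕ) (i : X ⟶ CohB1.ProjSpaceOver n S), IsImmersion i ∧
      i ≫ CohB1.ProjSpaceOver.toBase n S = f := by
  obtain ⟨n₀, hn₀⟩ := Groth.Agent.R2.H91.AmpleEmb.exists_embedding_eventually_over f L hL
  obtain ⟨N, j, himm, hjf, -⟩ := hn₀ n₀ le_rfl
  exact ⟨N, j, himm, hjf⟩

/-- **S1497**: quasi-compact immersion into `P^n_S` iff of finite type with an ample module. -/
theorem qc_immersion_iff (hS : ∃ N : S.Modules, CohB1.IsAmple N) (f : X ⟶ S) :
    (∃ (n : ℕ) (i : X ⟶ CohB1.ProjSpaceOver n S), IsImmersion i ∧ QuasiCompact i ∧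
        i ≫ CohB1.ProjSpaceOver.toBase n S = f) ↔
      (LocallyOfFiniteType f ∧ QuasiCompact f ∧ ∃ L : X.Modules, CohB1.IsAmple L) := by
  constructor
  · rintro ⟨n, i, hi, hqc, rfl⟩
    haveI : IsProper (CohB1.ProjSpaceOver.toBase n S) := Groth.Agent.S9705.isProper_toBase n S
    exact ⟨inferInstance, inferInstance, exists_isAmple_of_immersion hS n i hi hqc⟩
  · rintro ⟨hft, hqc, L, hL⟩
    obtain ⟨n, i, hi, hif⟩ := exists_immersion_of_isAmple f L hL
    haveI : IsProper (CohB1.ProjSpaceOver.toBase n S) := Groth.Agent.S9705.isProper_toBase n S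
    refine ⟨n, i, hi, ?_, hif⟩
    haveI : QuasiCompact (i ≫ CohB1.ProjSpaceOver.toBase n S) := by rw [hif]; exact hqc
    exact QuasiCompact.of_comp i (CohB1.ProjSpaceOver.toBase n S)

/-- **S1496**, first part: closed immersion into `P^n_S` iff proper with an ample module. -/
theorem closedImmersion_iff (hS : ∃ N : S.Modules, CohB1.IsAmple N) (f : X ⟶ S) :
    (∃ (n : ℕ) (i : X ⟶ CohB1.ProjSpaceOver n S), IsClosedImmersion i ∧
        i ≫ CohB1.ProjSpaceOver.toBase n S = f) ↔
      (IsProper f ∧ ∃ L : X.Modules, CohB1.IsAmple L) := by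
  constructor
  · rintro ⟨n, i, hi, rfl⟩
    haveI : IsProper (CohB1.ProjSpaceOver.toBase n S) := Groth.Agent.S9705.isProper_toBase n S
    exact ⟨inferInstance, exists_isAmple_of_immersion hS n i inferInstance inferInstance⟩
  · rintro ⟨hp, L, hL⟩
    obtain ⟨n, i, hi, hif⟩ := exists_immersion_of_isAmple f L hL
    haveI : IsProper (CohB1.ProjSpaceOver.toBase n S) := Groth.Agent.S9705.isProper_toBase n S
    refine ⟨n, i, ?_, hif⟩
    haveI : IsProper (i ≫ CohB1.ProjSpaceOver.toBase n S) := by rw [hif]; exact hp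
    haveI : IsProper i := IsProper.of_comp i (CohB1.ProjSpaceOver.toBase n S)
    exact IsClosedImmersion.of_isPreimmersion i i.isClosedMap.isClosed_range

/-- **S1496**, second part: for proper `f`, an ample module on `X` exists iff an `f`-ample one does. -/
theorem isProper_ample_iff_relAmple (hS : ∃ N : S.Modules, CohB1.IsAmple N) (f : X ⟶ S) :
    (IsProper f ∧ ∃ L : X.Modules, CohB1.IsAmple L) ↔
      (IsProper f ∧ ∃ L : X.Modules, RelAmple.IsRelAmple f L) := by
  constructor
  · rintro ⟨hp, L, hL⟩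
    refine ⟨hp, L, inferInstance, fun V => ?_⟩
    refine Groth.Agent.Lib.Helper23.SecTw.isAmple_restrict L hL _ ?_
    exact QuasiCompact.isCompact_preimage (f := f) _ V.1.2 V.2.isCompact
  · rintro ⟨hp, L, hL⟩
    obtain ⟨N, hN⟩ := hS
    obtain ⟨n₀, h⟩ := Groth.Agent.Lib.Helper23.AmpleComp.isAmple_tensorMod_pullback_tensorPow
      f N hN L hL
    exact ⟨hp, _, h n₀ le_rfl⟩

end Groth.Agent.R2.H91.PnAmpleBase
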