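import Mathlib
import Groth.Agent.R2.H91AmpleEmbS
import Groth.Agent.Lib.Helper27ClosedProj
import Groth.Agent.Lib.Helper27TwistAmple2
import Groth.Agent.S9705

/-!
# `O_X(n)` is very ample on `Proj` of an algebra generated in degrees `1..d`, `n ≥ d` (helper91)

* `exists_finset_subset_adjoin_eq_top` : a finite-type algebra generated by a set is generated by a finite subset.
* `mem_range_algebraMap_of_mem_zero` : an algebra generated in positive degrees has degree-zero part the image of `R`.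
* `exists_closedImmersion` : **S13183**.
-/

set_option autoImplicit false
set_option linter.style.haveILetI false
set_option linter.unusedSectionVars false
universe u

open CategoryTheory CategoryTheory.Limits AlgebraicGeometry TopologicalSpace Opposite

namespace Groth.Agent.R2.H91.ProjVeronese

section Algebra

variable {R A : Type u} [CommRing R] [CommRing A] [Algebra R A]

/-- an element of `adjoin R S` lies in `adjoin R T` for a finite `T ⊆ S` -/
theorem exists_finset_subset_mem_adjoin (S : Set A) (x : A) (hx : x ∈ Algebra.adjoin R S) :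
    ∃ T : Finset A, (T : Set A) ⊆ S ∧ x ∈ Algebra.adjoin R (T : Set A) := by
  classical
  induction hx using Algebra.adjoin_induction with
  | mem x hx =>
    exact ⟨{x}, by simpa using hx, Algebra.subset_adjoin (by simp)⟩
  | algebraMap c => exact ⟨∅, by simp, Subalgebra.algebraMap_mem _ c⟩
  | add x y _ _ hx hy =>
    obtain ⟨T₁, h₁, hx⟩ := hx
    obtain ⟨T₂, h₂, hy⟩ := hy
    refine ⟨T₁ ∪ T₂, by simpa using ⟨h₁, h₂⟩, ?_⟩
    exact add_mem (Algebra.adjoin_mono (by simp) hx) (Algebra.adjoin_mono (by simp) hy)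
  | mul x y _ _ hx hy =>
    obtain ⟨T₁, h₁, hx⟩ := hx
    obtain ⟨T₂, h₂, hy⟩ := hy
    refine ⟨T₁ ∪ T₂, by simpa using ⟨h₁, h₂⟩, ?_⟩
    exact mul_mem (Algebra.adjoin_mono (by simp) hx) (Algebra.adjoin_mono (by simp) hy)

/-- a finite-type algebra generated by a set is generated by a finite subset -/
theorem exists_finset_subset_adjoin_eq_top [Algebra.FiniteType R A] (S : Set A)
    (hS : Algebra.adjoin R S = ⊤) :
    ∃ T : Finset A, (T : Set A) ⊆ S ∧ Algebra.adjoin R (T : Set A) = ⊤ := by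
  classical
  obtain ⟨F, hF⟩ := Algebra.FiniteType.out (R := R) (A := A)
  have h : ∀ x : A, ∃ T : Finset A, (T : Set A) ⊆ S ∧ x ∈ Algebra.adjoin R (T : Set A) :=
    fun x => exists_finset_subset_mem_adjoin S x (by rw [hS]; trivial)
  choose T hT₁ hT₂ using h
  refine ⟨F.biUnion T, ?_, ?_⟩
  · intro y hy
    simp only [Finset.coe_biUnion, Set.mem_iUnion] at hy
    obtain ⟨x, -, hy⟩ := hy
    exact hT₁ x hy
  · rw [eq_top_iff, ← hF, Algebra.adjoin_le_iff]
    intro x hx
    refine Algebra.adjoin_mono ?_ (hT₂ x)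
    intro y hy
    simp only [Finset.coe_biUnion, Set.mem_iUnion]
    exact ⟨x, hx, hy⟩

variable (𝒜 : ℕ → Submodule R A) [GradedAlgebra 𝒜]

/-- an algebra generated in positive degrees has degree-zero part the image of `R` -/
theorem mem_range_algebraMap_of_mem_zero (d : ℕ)
    (hgen : Algebra.adjoin R (⋃ i ∈ Finset.Icc 1 d, (𝒜 i : Set A)) = ⊤) (s : A) (hs : s ∈ 𝒜 0) :
    s ∈ Set.range (algebraMap R A) := by
  classical
  have key : ∀ x : A, x ∈ Algebra.adjoin R (⋃ i ∈ Finset.Icc 1 d, (𝒜 i : Set A)) →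
      GradedRing.projZeroRingHom 𝒜 x ∈ (algebraMap R A).range := by
    intro x hx
    induction hx using Algebra.adjoin_induction with
    | mem x hx =>
      simp only [Set.mem_iUnion] at hx
      obtain ⟨i, hi, hx⟩ := hx
      have hi1 : i ≠ 0 := by
        have := (Finset.mem_Icc.mp hi).1
        omega
      have : GradedRing.projZeroRingHom 𝒜 x = 0 := by
        change ((DirectSum.decompose 𝒜 x 0 : 𝒜 0) : A) = 0
        rw [DirectSum.decompose_of_mem_ne 𝒜 hx hi1]
      rw [this]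
      exact zero_mem _
    | algebraMap c =>
      refine ⟨c, ?_⟩
      change _ = ((DirectSum.decompose 𝒜 (algebraMap R A c) 0 : 𝒜 0) : A)
      rw [DirectSum.decompose_of_mem_same 𝒜 (SetLike.algebraMap_mem_graded 𝒜 c)]
    | add x y _ _ hx hy => rw [map_add]; exact add_mem hx hy
    | mul x y _ _ hx hy => rw [map_mul]; exact mul_mem hx hy
  have h1 := key s (by rw [hgen]; trivial)
  have h2 : GradedRing.projZeroRingHom 𝒜 s = s := by
    change ((DirectSum.decompose 𝒜 s 0 : 𝒜 0) : A) = s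
    rw [DirectSum.decompose_of_mem_same 𝒜 hs]
  rw [h2] at h1
  exact h1

end Algebra

section Geometry

open Groth.Agent.Helper13ProjUP Groth.Agent.Helper13Dehom
open Groth.Agent.Lib.Helper27GrTildeSect hiding toBase
open Groth.Agent.Lib.Helper23.SecTw Groth.Agent.Lib.Helper6 Groth.Agent.Lib.Helper23.GenLocus
open Groth.Agent.R2.H91.AmpleEmb

variable {R A : Type u} [CommRing R] [CommRing A] [Algebra R A] (𝒜 : ℕ → Submodule R A)
  [GradedAlgebra 𝒜]

/-- `Proj 𝒜 ⟶ Spec R` is proper when `𝒜` is of finite type over `R` with `𝒜₀` the image of `R` -/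
theorem isProper_toBase [Algebra.FiniteType R A]
    (h0 : ∀ s ∈ 𝒜 0, s ∈ Set.range (algebraMap R A)) : IsProper (toBase 𝒜) := by
  haveI : IsScalarTower R (𝒜 0) A := ⟨fun a x s => smul_mul_assoc a (x : A) s⟩
  haveI : Algebra.FiniteType (𝒜 0) A := Algebra.FiniteType.of_restrictScalars_finiteType R (𝒜 0) A
  have hsurj : Function.Surjective (algebraMap R (𝒜 0)) := by
    rintro ⟨s, hs⟩
    obtain ⟨c, hc⟩ := h0 s hs
    exact ⟨c, Subtype.ext hc⟩
  haveI : IsClosedImmersion (Spec.map (CommRingCat.ofHom (algebraMap R (𝒜 0)))) :=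
    IsClosedImmersion.spec_of_surjective _ hsurj
  unfold toBase
  infer_instance

/-- the structure map of `Proj 𝒜` on sections over `D₊(g)` -/
theorem toBase_appLE {g : A} (hg : g ∈ 𝒜 1) :
    (Scheme.ΓSpecIso (CommRingCat.of R)).inv ≫
      (toBase 𝒜).appLE ⊤ (Proj.basicOpen 𝒜 g) le_top = strMap hg := by
  apply Spec.map_injective
  rw [Spec.map_comp, ← fromSpec_toBase hg,
    ← IsAffineOpen.SpecMap_appLE_fromSpec (toBase 𝒜) (isAffineOpen_top _) (isAffineOpen_basicOpen hg) le_top]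
  congr 1
  rw [IsAffineOpen.fromSpec_top, Scheme.isoSpec_Spec_inv]

theorem gsec_congr (n : ℕ) (W : (Proj 𝒜).Opens) {b b' : A} (h : b = b') (hb : b ∈ 𝒜 n)
    (hb' : b' ∈ 𝒜 n) : gsec 𝒜 n W hb = gsec 𝒜 n W hb' := by
  subst h
  rfl

/-- **S13183**: for `𝒜` of finite type over `R`, generated in degrees `1..d`, with `Proj 𝒜` covered by the `D₊(g)`,
`g ∈ 𝒜₁`, and `n ≥ d`, `n ≥ 1`: `O(n)` is pulled back from `O(1)` along a closed immersion into `P^N_R`. -/
theorem exists_closedImmersion (d : ℕ)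
    (hgen : Algebra.adjoin R (⋃ i ∈ Finset.Icc 1 d, (𝒜 i : Set A)) = ⊤)
    (hcov : (⨆ g : 𝒜 1, Proj.basicOpen 𝒜 (g : A)) = ⊤) [Algebra.FiniteType R A] (n : ℕ)
    (hn : d ≤ n) (hn1 : 0 < n) :
    ∃ (N : ℕ) (i : Proj 𝒜 ⟶ CohB1.ProjSpaceOver N (Spec (CommRingCat.of R))), IsClosedImmersion i ∧
      i ≫ CohB1.ProjSpaceOver.toBase N (Spec (CommRingCat.of R)) = toBase 𝒜 ∧
      Nonempty (Twist.twist 𝒜 (n : ℤ) ≅
        (Scheme.Modules.pullback i).obj (Twist.twistOver N (Spec (CommRingCat.of R)) 1)) := by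
  classical
  have h0 := mem_range_algebraMap_of_mem_zero 𝒜 d hgen
  haveI hprop : IsProper (toBase 𝒜) := isProper_toBase 𝒜 h0
  haveI : CompactSpace (Proj 𝒜) := QuasiCompact.compactSpace_of_compactSpace (toBase 𝒜)
  -- finite generators
  obtain ⟨T, hTS, hT⟩ := exists_finset_subset_adjoin_eq_top (R := R) _ hgen
  have hTdeg : ∀ a ∈ T, ∃ e : ℕ, 1 ≤ e ∧ e ≤ d ∧ a ∈ 𝒜 e := by
    intro a ha
    have := hTS ha
    simp only [Set.mem_iUnion] at this
    obtain ⟨i, hi, hai⟩ := this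
    exact ⟨i, (Finset.mem_Icc.mp hi).1, (Finset.mem_Icc.mp hi).2, hai⟩
  choose! e he1 hed hae using hTdeg
  -- finite cover
  obtain ⟨t, ht⟩ : ∃ t : Finset (𝒜 1), ∀ y : Proj 𝒜, ∃ g ∈ t, y ∈ Proj.basicOpen 𝒜 (g : A) := by
    have hc := isCompact_univ (X := Proj 𝒜)
    obtain ⟨t, ht⟩ := hc.elim_finite_subcover
      (fun g : 𝒜 1 => ((Proj.basicOpen 𝒜 (g : A) : (Proj 𝒜).Opens) : Set (Proj 𝒜)))
      (fun g => (Proj.basicOpen 𝒜 (g : A)).2) (by
        intro y _
        have hy : y ∈ (⨆ g : 𝒜 1, Proj.basicOpen 𝒜 (g : A) : (Proj 𝒜).Opens) := by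
          rw [hcov]; trivial
        obtain ⟨g, hg⟩ := Opens.mem_iSup.mp hy
        exact Set.mem_iUnion.mpr ⟨g, hg⟩)
    refine ⟨t, fun y => ?_⟩
    have := ht (Set.mem_univ y)
    simp only [Set.mem_iUnion] at this
    obtain ⟨g, hg, hy⟩ := this
    exact ⟨g, hg, hy⟩
  -- the sections
  let K := Option ({x : 𝒜 1 // x ∈ t} ⊕ ({x : A // x ∈ T} × {x : 𝒜 1 // x ∈ t}))
  let w : K → A := fun k => k.elim 0 (Sum.elim (fun g => ((g.1 : 𝒜 1) : A) ^ n)
    (fun ag => (ag.1.1 : A) * ((ag.2.1 : 𝒜 1) : A) ^ (n - e ag.1.1)))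
  have hw : ∀ k, w k ∈ 𝒜 n := by
    rintro (_ | g | ⟨a, g⟩)
    · exact zero_mem _
    · exact pow_mem_deg g.1.2 n
    · have h1 := SetLike.mul_mem_graded (hae a.1 a.2) (pow_mem_deg g.1.2 (n - e a.1))
      have h2 : e a.1 + (n - e a.1) = n := by
        have := hed a.1 a.2
        omega
      rw [h2] at h1
      exact h1
  let N := Fintype.card ({x : 𝒜 1 // x ∈ t} ⊕ ({x : A // x ∈ T} × {x : 𝒜 1 // x ∈ t}))
  have hcard : Fintype.card K = N + 1 := Fintype.card_option
  let eqv : Fin (N + 1) ≃ K := (Fintype.equivFinOfCardEq hcard).symm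
  let L := GrTilde.tilde 𝒜 𝒜 (n : ℤ)
  let G : Fin (N + 1) → A := fun i => w (eqv i)
  have hG : ∀ i, G i ∈ 𝒜 n := fun i => hw _
  let s : Fin (N + 1) → ProjUP.Γm L := fun i => gsec 𝒜 n ⊤ (hG i)
  let idx : {x : 𝒜 1 // x ∈ t} → Fin (N + 1) := fun g => eqv.symm (some (Sum.inl g))
  have hGidx : ∀ g : {x : 𝒜 1 // x ∈ t}, G (idx g) = ((g.1 : 𝒜 1) : A) ^ n := by
    intro g
    simp [G, idx, w]
  have hGk : ∀ k : K, G (eqv.symm k) = w k := by
    intro k
    simp [G]
  have hcovG : ∀ y : Proj 𝒜, ∃ i, G i ∉ (show ProjectiveSpectrum 𝒜 from y).asHomogeneousIdeal := by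
    intro y
    obtain ⟨g, hg, hy⟩ := ht y
    refine ⟨idx ⟨g, hg⟩, ?_⟩
    rw [hGidx]
    have h1 := (ProjectiveSpectrum.mem_basicOpen 𝒜 _ y).mp hy
    intro h
    exact h1 ((show ProjectiveSpectrum 𝒜 from y).isPrime.mem_of_pow_mem n h)
  have hL : PicF.IsInvertible L := isInvertible_of_cover 𝒜 n G hG hcovG
  set v := vOf N (qZ (Proj 𝒜)) L s with hv
  have hXL : ∀ g : {x : 𝒜 1 // x ∈ t}, XL L v (Pi.single (idx g) (1 : ULift.{u} ℤ)) =
      Proj.basicOpen 𝒜 ((g.1 : 𝒜 1) : A) := by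
    intro g
    unfold XL
    rw [hv, vOf_single]
    have h1 := genLocus_secHom_gsec 𝒜 n G hG hcovG (idx g)
    exact h1.trans (by rw [hGidx, Proj.basicOpen_pow 𝒜 _ n hn1])
  have hs : ProjUP.GeneratedBy L s := by
    refine generatedBy_of_isGen L s (fun x => ?_)
    obtain ⟨g, hg, hx⟩ := ht x
    refine ⟨idx ⟨g, hg⟩, Proj.basicOpen 𝒜 (g : A), hx, ?_⟩
    have hle : Proj.basicOpen 𝒜 (g : A) ≤ Proj.basicOpen 𝒜 (G (idx ⟨g, hg⟩)) := by
      rw [hGidx, Proj.basicOpen_pow 𝒜 _ n hn1]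
    exact (isGen_gsec 𝒜 n (hG (idx ⟨g, hg⟩))).mono hle
  have hgenv : ProjUP.GeneratedBy L v := generatedBy_vOf N (qZ (Proj 𝒜)) L s hs
  obtain ⟨j, himm, hjf, ⟨τ⟩⟩ := exists_immersion_over N (toBase 𝒜) L v hL
    (vOf_smul N (qZ (Proj 𝒜)) L s) hgenv (κ := {x : 𝒜 1 // x ∈ t})
    (fun g => Pi.single (idx g) (1 : ULift.{u} ℤ)) (fun _ => ⊤)
    (fun x => by
      obtain ⟨g, hg, hx⟩ := ht x
      exact ⟨⟨g, hg⟩, by rw [hXL]; exact hx⟩)
    (fun g => by rw [hXL]; exact isAffineOpen_basicOpen g.1.2)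
    (fun _ => isAffineOpen_top _) (fun _ => le_top)
    (fun g => by
      have hg : ((g.1 : 𝒜 1) : A) ∈ 𝒜 1 := g.1.2
      refine closure_eq_top_of_generators_over N L v _ (Proj.basicOpen 𝒜 ((g.1 : 𝒜 1) : A)) (hXL g)
        ((toBase 𝒜).appLE ⊤ (Proj.basicOpen 𝒜 ((g.1 : 𝒜 1) : A)) le_top).hom _ ?_
        (Set.range (fun k : K => dehom hg (w k))) ?_ ?_
      · intro c
        have h1 := (toBase 𝒜).appLE_map (U := ⊤)
          (show Proj.basicOpen 𝒜 ((g.1 : 𝒜 1) : A) ≤ toBase 𝒜 ⁻¹ᵁ ⊤ from le_top)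
          (homOfLE (hXL g).le).op
        exact (congrArg (fun ψ => ψ.hom c) h1).symm
      · -- generation of the coordinate ring
        set C := Subring.closure (Set.range ((toBase 𝒜).appLE ⊤
          (Proj.basicOpen 𝒜 ((g.1 : 𝒜 1) : A)) le_top).hom ∪
          Set.range (fun k : K => dehom hg (w k))) with hC
        have hR : ∀ c : R, dehom hg (algebraMap R A c) ∈ C := by
          intro c
          refine Subring.subset_closure (Or.inl
            ⟨(Scheme.ΓSpecIso (CommRingCat.of R)).inv.hom c, ?_⟩)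
          exact congrArg (fun ψ => ψ.hom c) (toBase_appLE 𝒜 hg)
        have hTC : ∀ a ∈ T, dehom hg a ∈ C := by
          intro a ha
          refine Subring.subset_closure (Or.inr ⟨some (Sum.inr (⟨a, ha⟩, g)), ?_⟩)
          change dehom hg (a * ((g.1 : 𝒜 1) : A) ^ (n - e a)) = dehom hg a
          rw [map_mul, map_pow, dehom_self, one_pow, mul_one]
        have hall : ∀ p : A, dehom hg p ∈ C := by
          intro p
          have hp : p ∈ Algebra.adjoin R (T : Set A) := by rw [hT]; trivial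
          induction hp using Algebra.adjoin_induction with
          | mem x hx => exact hTC x hx
          | algebraMap c => exact hR c
          | add x y _ _ hx hy => rw [map_add]; exact add_mem hx hy
          | mul x y _ _ hx hy => rw [map_mul]; exact mul_mem hx hy
        rw [eq_top_iff]
        intro z _
        obtain ⟨_, p, -, rfl⟩ := exists_dehom_eq hg z
        exact hall p
      · rintro _ ⟨k, rfl⟩
        refine ⟨Pi.single (eqv.symm k) (1 : ULift.{u} ℤ), ?_⟩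
        rw [hv, vOf_single, vOf_single]
        change gsec 𝒜 n (Proj.basicOpen 𝒜 ((g.1 : 𝒜 1) : A)) (hG (eqv.symm k)) =
          dehom hg (w k) • gsec 𝒜 n (Proj.basicOpen 𝒜 ((g.1 : 𝒜 1) : A)) (hG (idx g))
        rw [gsec_congr 𝒜 n _ (hGk k) (hG (eqv.symm k)) (hw k),
          gsec_congr 𝒜 n _ (hGidx g) (hG (idx g)) (pow_mem_deg hg n)]
        exact Groth.Agent.Lib.Helper27ClosedProj.gsec_eq_dehom_smul 𝒜 hg n (hw k))
  haveI : IsProper (CohB1.ProjSpaceOver.toBase N (Spec (CommRingCat.of R))) :=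
    Groth.Agent.S9705.isProper_toBase N _
  haveI : IsProper (j ≫ CohB1.ProjSpaceOver.toBase N (Spec (CommRingCat.of R))) := by
    rw [hjf]; exact hprop
  haveI : IsProper j := IsProper.of_comp j (CohB1.ProjSpaceOver.toBase N (Spec (CommRingCat.of R)))
  exact ⟨N, j, IsClosedImmersion.of_isPreimmersion j j.isClosedMap.isClosed_range, hjf, ⟨τ.symm⟩⟩

end Geometry

end Groth.Agent.R2.H91.ProjVeronese
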