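import Mathlib
import Groth.Prelude.Def_RelProj
import Groth.Agent.R2.H91PnAmpleBase

/-!
# Quasi-projective morphisms over a base with an ample invertible module (helper91)

`isQuasiProjective_iff` : over `Y` with an ample module, `f` is quasi-projective iff it is of finite type and factors
through an immersion into some `P^r_Y` (EGA II 5.3.2).
-/

set_option autoImplicit false
set_option linter.style.haveILetI false
universe u

open CategoryTheory CategoryTheory.Limits AlgebraicGeometry TopologicalSpace Opposite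

namespace Groth.Agent.R2.H91.PnAmpleBase

variable {X Y : Scheme.{u}}

theorem isQuasiProjective_iff (hY : ∃ M : Y.Modules, CohB1.IsAmple M) (f : X ⟶ Y) :
    RelProj.IsQuasiProjective f ↔
      (LocallyOfFiniteType f ∧ QuasiCompact f ∧
        ∃ (r : ℕ) (i : X ⟶ CohB1.ProjSpaceOver r Y), IsImmersion i ∧
          i ≫ CohB1.ProjSpaceOver.toBase r Y = f) := by
  constructor
  · rintro ⟨hft, hqc, L, hL⟩
    obtain ⟨M, hM⟩ := hY
    obtain ⟨n₀, h⟩ := Groth.Agent.Lib.Helper23.AmpleComp.isAmple_tensorMod_pullback_tensorPow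
      f M hM L hL
    exact ⟨hft, hqc, exists_immersion_of_isAmple f _ (h n₀ le_rfl)⟩
  · rintro ⟨hft, hqc, r, i, hi, hif⟩
    haveI : IsProper (CohB1.ProjSpaceOver.toBase r Y) := Groth.Agent.S9705.isProper_toBase r Y
    haveI : QuasiCompact (i ≫ CohB1.ProjSpaceOver.toBase r Y) := by rw [hif]; exact hqc
    have hqi : QuasiCompact i := QuasiCompact.of_comp i (CohB1.ProjSpaceOver.toBase r Y)
    have hrel := Groth.Agent.R2.Lead.RelProjR2.r2 r i hi hqi
    rw [hif] at hrel
    exact ⟨hft, hqc, _, hrel⟩

end Groth.Agent.R2.H91.PnAmpleBase
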