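import Mathlib
import Groth.Prelude.Def_W4c5nonratstablectREq
import Groth.Agent.R2.H63P1Conn
import Groth.Agent.Lib.Helper27PnChart
import Groth.Agent.R2.H85PnSmooth

/-!
# Direct R-links through lines in affine space (helper91)
-/

set_option autoImplicit false

namespace Groth.Agent.R2.H91.RLink

universe u

open CategoryTheory CategoryTheory.Limits AlgebraicGeometry MvPolynomial

section Chart

variable (K : Type u) [Field K]

/-- The coordinate ring of the affine line, as the standard chart `T₀ ≠ 0` of `P¹`. -/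
abbrev AK : Type u := MvPolynomial {j : Fin 2 // j ≠ 0} K

/-- `Proj K[T₀,T₁] ≅ P¹_K` (the fibre product form). -/
noncomputable def isoP1 : Proj (CohB1.polyGrading 1 K) ≅ REq.P1K K := by
  letI : Algebra (ULift.{u} ℤ) K :=
    ((Int.castRingHom K).comp (ULift.ringEquiv : ULift.{u} ℤ ≃+* ℤ).toRingHom).toAlgebra
  have h := Groth.Agent.R2.H63.P1Conn.isPullback_projSpace 1 (ULift.{u} ℤ) K
  have e : Spec.map (CommRingCat.ofHom (algebraMap (ULift.{u} ℤ) K)) =
      specULiftZIsTerminal.from (Spec (CommRingCat.of K)) :=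
    specULiftZIsTerminal.hom_ext _ _
  rw [e] at h
  exact h.isoPullback

theorem isoP1_hom_toSpec : (isoP1 K).hom ≫ REq.P1K.toSpec K =
    Proj.toSpecZero (CohB1.polyGrading 1 K) ≫
      Spec.map (CommRingCat.ofHom (algebraMap K (CohB1.polyGrading 1 K 0))) := by
  unfold isoP1
  simp only []
  exact IsPullback.isoPullback_hom_snd _

/-- The chart ring isomorphism `K[T₁] ≃ K[T₀,T₁]_(T₀)`. -/
noncomputable def chartEquiv :
    AK K ≃+* HomogeneousLocalization.Away (CohB1.polyGrading 1 K) (X 0) :=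
  RingEquiv.ofBijective (Groth.Agent.Lib.Helper27PnChart.chart 1 K 0)
    (Groth.Agent.Lib.Helper27PnChart.chart_bijective 1 K 0)

theorem X0_mem : (X 0 : MvPolynomial (Fin 2) K) ∈ CohB1.polyGrading 1 K 1 :=
  (mem_homogeneousSubmodule 1 _).mpr (isHomogeneous_X K 0)

/-- The open immersion of the affine line into `P¹_K`. -/
noncomputable def jK : Spec (CommRingCat.of (AK K)) ⟶ REq.P1K K :=
  Spec.map (CommRingCat.ofHom (chartEquiv K).symm.toRingHom) ≫
    Proj.awayι (CohB1.polyGrading 1 K) (X 0) (X0_mem K) zero_lt_one ≫ (isoP1 K).hom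

instance : IsOpenImmersion (jK K) := by
  have h1 : IsIso (CommRingCat.ofHom (chartEquiv K).symm.toRingHom) :=
    (ConcreteCategory.isIso_iff_bijective _).mpr (chartEquiv K).symm.bijective
  unfold jK
  infer_instance

theorem jK_toSpec :
    jK K ≫ REq.P1K.toSpec K = Spec.map (CommRingCat.ofHom (C : K →+* AK K)) := by
  unfold jK
  rw [Category.assoc, Category.assoc, isoP1_hom_toSpec]
  rw [Proj.awayι_toSpecZero_assoc, ← Spec.map_comp, ← Spec.map_comp]
  congr 1
  rw [← CommRingCat.ofHom_comp, ← CommRingCat.ofHom_comp]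
  congr 1
  have h := Groth.Agent.R2.H85.PnSmooth.chart_comp_C 1 K 0
  refine RingHom.ext fun r => ?_
  have h2 := RingHom.congr_fun h r
  show (chartEquiv K).symm _ = C r
  rw [RingEquiv.symm_apply_eq]
  exact h2.symm

end Chart

section Line

variable {k : Type u} [Field k] (K : Type u) [Field K] [Algebra k K] (m : ℕ)

/-- The coordinate of the affine line. -/
noncomputable def tK : AK K := X ⟨1, by decide⟩

/-- The line through `p` and `q`: the ring map `k[x₁..x_m] → K[t]`, `xᵢ ↦ pᵢ + t (qᵢ - pᵢ)`. -/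
noncomputable def lineHom (p q : Fin m → K) : MvPolynomial (Fin m) k →+* AK K :=
  MvPolynomial.eval₂Hom ((C : K →+* AK K).comp (algebraMap k K))
    (fun i => C (p i) + tK K * C (q i - p i))

/-- Evaluation at `t = c`. -/
noncomputable def evK (c : K) : AK K →+* K := MvPolynomial.eval (fun _ => c)

theorem evK_C (c r : K) : evK K c (C r) = r := by
  unfold evK
  rw [MvPolynomial.eval_C]

theorem evK_comp_C (c : K) : (evK K c).comp (C : K →+* AK K) = RingHom.id K :=
  RingHom.ext fun r => evK_C K c r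

theorem evK_tK (c : K) : evK K c (tK K) = c := by
  unfold evK tK
  rw [MvPolynomial.eval_X]

theorem lineHom_comp_C (p q : Fin m → K) :
    (lineHom K m p q).comp (C : k →+* MvPolynomial (Fin m) k) =
      (C : K →+* AK K).comp (algebraMap k K) := by
  refine RingHom.ext fun c => ?_
  show lineHom K m p q (C c) = _
  unfold lineHom
  rw [MvPolynomial.coe_eval₂Hom, MvPolynomial.eval₂_C]

theorem evK_zero_comp_lineHom (φ ψ : MvPolynomial (Fin m) k →+* K)
    (hφ : ∀ c : k, φ (C c) = algebraMap k K c) :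
    (evK K 0).comp (lineHom K m (fun i => φ (X i)) (fun i => ψ (X i))) = φ := by
  apply MvPolynomial.ringHom_ext
  · intro c
    show evK K 0 (lineHom K m _ _ (C c)) = φ (C c)
    unfold lineHom
    rw [MvPolynomial.coe_eval₂Hom, MvPolynomial.eval₂_C, hφ]
    exact evK_C K 0 _
  · intro i
    show evK K 0 (lineHom K m _ _ (X i)) = φ (X i)
    unfold lineHom
    rw [MvPolynomial.coe_eval₂Hom, MvPolynomial.eval₂_X, map_add, map_mul, evK_C, evK_C, evK_tK,
      zero_mul, add_zero]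

theorem evK_one_comp_lineHom (φ ψ : MvPolynomial (Fin m) k →+* K)
    (hψ : ∀ c : k, ψ (C c) = algebraMap k K c) :
    (evK K 1).comp (lineHom K m (fun i => φ (X i)) (fun i => ψ (X i))) = ψ := by
  apply MvPolynomial.ringHom_ext
  · intro c
    show evK K 1 (lineHom K m _ _ (C c)) = ψ (C c)
    unfold lineHom
    rw [MvPolynomial.coe_eval₂Hom, MvPolynomial.eval₂_C, hψ]
    exact evK_C K 1 _
  · intro i
    show evK K 1 (lineHom K m _ _ (X i)) = ψ (X i)
    unfold lineHom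
    rw [MvPolynomial.coe_eval₂Hom, MvPolynomial.eval₂_X, map_add, map_mul, evK_C, evK_C, evK_tK,
      one_mul]
    ring

end Line


section Link

variable {k : Type u} [Field k]

/-- The ring map of a `K`-point of an open of affine space. -/
noncomputable def ptHom {m : ℕ} {K : Type u} [Field K]
    (x : Spec (CommRingCat.of K) ⟶ Spec (CommRingCat.of (MvPolynomial (Fin m) k))) :
    MvPolynomial (Fin m) k →+* K := (Spec.preimage x).hom

theorem spec_ptHom {m : ℕ} {K : Type u} [Field K]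
    (x : Spec (CommRingCat.of K) ⟶ Spec (CommRingCat.of (MvPolynomial (Fin m) k))) :
    Spec.map (CommRingCat.ofHom (ptHom x)) = x := by
  unfold ptHom
  rw [CommRingCat.ofHom_hom, Spec.map_preimage]

theorem ptHom_C {m : ℕ} {K : Type u} [Field K] [Algebra k K]
    (x : Spec (CommRingCat.of K) ⟶ Spec (CommRingCat.of (MvPolynomial (Fin m) k)))
    (hx : x ≫ Spec.map (CommRingCat.ofHom (algebraMap k (MvPolynomial (Fin m) k))) =
      REq.specMap k K) (c : k) : ptHom x (C c) = algebraMap k K c := by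
  rw [← spec_ptHom x, ← Spec.map_comp, ← CommRingCat.ofHom_comp] at hx
  have h := Spec.map_injective hx
  have h2 := congrArg (fun g => g.hom c) h
  exact h2

/-- A point of the affine line over `K`. -/
noncomputable def ptK (K : Type u) [Field K] (c : K) :
    Spec (CommRingCat.of K) ⟶ Spec (CommRingCat.of (AK K)) :=
  Spec.map (CommRingCat.ofHom (evK K c))

theorem ptK_toSpec (K : Type u) [Field K] (c : K) :
    ptK K c ≫ Spec.map (CommRingCat.ofHom (C : K →+* AK K)) = 𝟙 _ := by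
  unfold ptK
  rw [← Spec.map_comp, ← CommRingCat.ofHom_comp, evK_comp_C]
  exact Spec.map_id _

/-- The line morphism. -/
noncomputable def lineMap (K : Type u) [Field K] [Algebra k K] (m : ℕ) (p q : Fin m → K) :
    Spec (CommRingCat.of (AK K)) ⟶ Spec (CommRingCat.of (MvPolynomial (Fin m) k)) :=
  Spec.map (CommRingCat.ofHom (lineHom K m p q))

theorem lineMap_toSpec (K : Type u) [Field K] [Algebra k K] (m : ℕ) (p q : Fin m → K) :
    lineMap K m p q ≫ Spec.map (CommRingCat.ofHom (algebraMap k (MvPolynomial (Fin m) k))) =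
      Spec.map (CommRingCat.ofHom (C : K →+* AK K)) ≫ REq.specMap k K := by
  unfold lineMap REq.specMap
  rw [← Spec.map_comp, ← Spec.map_comp, ← CommRingCat.ofHom_comp, ← CommRingCat.ofHom_comp]
  congr 2
  exact lineHom_comp_C K m p q

theorem ptK_zero_lineMap (K : Type u) [Field K] [Algebra k K] (m : ℕ)
    (x y : Spec (CommRingCat.of K) ⟶ Spec (CommRingCat.of (MvPolynomial (Fin m) k)))
    (hx : x ≫ Spec.map (CommRingCat.ofHom (algebraMap k (MvPolynomial (Fin m) k))) =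
      REq.specMap k K) :
    ptK K 0 ≫ lineMap K m (fun i => ptHom x (X i)) (fun i => ptHom y (X i)) = x := by
  unfold ptK lineMap
  rw [← Spec.map_comp, ← CommRingCat.ofHom_comp, evK_zero_comp_lineHom K m _ _ (ptHom_C x hx),
    spec_ptHom]

theorem ptK_one_lineMap (K : Type u) [Field K] [Algebra k K] (m : ℕ)
    (x y : Spec (CommRingCat.of K) ⟶ Spec (CommRingCat.of (MvPolynomial (Fin m) k)))
    (hy : y ≫ Spec.map (CommRingCat.ofHom (algebraMap k (MvPolynomial (Fin m) k))) =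
      REq.specMap k K) :
    ptK K 1 ≫ lineMap K m (fun i => ptHom x (X i)) (fun i => ptHom y (X i)) = y := by
  unfold ptK lineMap
  rw [← Spec.map_comp, ← CommRingCat.ofHom_comp, evK_one_comp_lineHom K m _ _ (ptHom_C y hy),
    spec_ptHom]

theorem range_subset_preimage {S T : Scheme.{u}} {P : Scheme.{u}} (L : S ⟶ T) (V : T.Opens)
    (p : P ⟶ S) (x' : P ⟶ (V : Scheme.{u})) (h : p ≫ L = x' ≫ V.ι) :
    Set.range p ⊆ Set.range (L ⁻¹ᵁ V).ι := by
  rw [Scheme.Opens.range_ι]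
  rintro _ ⟨z, rfl⟩
  show L (p z) ∈ V
  have h2 : L (p z) = V.ι (x' z) := by
    have := congrArg (fun g : P ⟶ T => g z) h
    simpa using this
  rw [h2]
  exact (x' z).2

theorem elemLink {Z : Scheme.{u}} (f : Z ⟶ Spec (CommRingCat.of k)) (U : Z.Opens) (m : ℕ)
    (V : (Spec (CommRingCat.of (MvPolynomial (Fin m) k))).Opens)
    (a : (U : Scheme.{u}) ⟶ (V : Scheme.{u})) (b : (V : Scheme.{u}) ⟶ (U : Scheme.{u}))
    (hab : a ≫ b = 𝟙 (U : Scheme.{u}))
    (ha : a ≫ V.ι ≫ Spec.map (CommRingCat.ofHom (algebraMap k (MvPolynomial (Fin m) k))) =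
      U.ι ≫ f)
    (hb : b ≫ U.ι ≫ f =
      V.ι ≫ Spec.map (CommRingCat.ofHom (algebraMap k (MvPolynomial (Fin m) k))))
    (K : Type u) [Field K] [Algebra k K] (A B : REq.Pts (U.ι ≫ f) K) :
    REq.ElemLink (U.ι ≫ f) K A B := by
  have hxk : ((A.1 ≫ a) ≫ V.ι) ≫
      Spec.map (CommRingCat.ofHom (algebraMap k (MvPolynomial (Fin m) k))) =
      REq.specMap k K := by
    rw [Category.assoc, Category.assoc, ha]; exact A.2
  have hyk : ((B.1 ≫ a) ≫ V.ι) ≫
      Spec.map (CommRingCat.ofHom (algebraMap k (MvPolynomial (Fin m) k))) =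
      REq.specMap k K := by
    rw [Category.assoc, Category.assoc, ha]; exact B.2
  obtain ⟨L, hLk, h0, h1⟩ : ∃ L : Spec (CommRingCat.of (AK K)) ⟶
      Spec (CommRingCat.of (MvPolynomial (Fin m) k)),
      L ≫ Spec.map (CommRingCat.ofHom (algebraMap k (MvPolynomial (Fin m) k))) =
        Spec.map (CommRingCat.ofHom (C : K →+* AK K)) ≫ REq.specMap k K ∧
      ptK K 0 ≫ L = (A.1 ≫ a) ≫ V.ι ∧ ptK K 1 ≫ L = (B.1 ≫ a) ≫ V.ι :=
    ⟨_, lineMap_toSpec K m _ _, ptK_zero_lineMap K m _ ((B.1 ≫ a) ≫ V.ι) hxk,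
      ptK_one_lineMap K m ((A.1 ≫ a) ≫ V.ι) _ hyk⟩
  have r0 := range_subset_preimage L V (ptK K 0) (A.1 ≫ a) h0
  have r1 := range_subset_preimage L V (ptK K 1) (B.1 ≫ a) h1
  have l0 := IsOpenImmersion.lift_fac (L ⁻¹ᵁ V).ι (ptK K 0) r0
  have l1 := IsOpenImmersion.lift_fac (L ⁻¹ᵁ V).ι (ptK K 1) r1
  set a₀ := IsOpenImmersion.lift (L ⁻¹ᵁ V).ι (ptK K 0) r0 with ha₀
  set b₀ := IsOpenImmersion.lift (L ⁻¹ᵁ V).ι (ptK K 1) r1 with hb₀
  have key : ∀ (c : K) (p : Spec (CommRingCat.of K) ⟶ ((L ⁻¹ᵁ V : (Spec _).Opens) : Scheme.{u}))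
      (P : Spec (CommRingCat.of K) ⟶ (U : Scheme.{u})),
      p ≫ (L ⁻¹ᵁ V).ι = ptK K c → ptK K c ≫ L = (P ≫ a) ≫ V.ι →
      (p ≫ ((jK K).isoImage (L ⁻¹ᵁ V)).hom) ≫ (jK K ''ᵁ (L ⁻¹ᵁ V)).ι ≫ REq.P1K.toSpec K = 𝟙 _ ∧
      (p ≫ ((jK K).isoImage (L ⁻¹ᵁ V)).hom) ≫
        (((jK K).isoImage (L ⁻¹ᵁ V)).inv ≫ L.resLE V (L ⁻¹ᵁ V) le_rfl ≫ b) = P := by
    intro c p P hp hP
    constructor
    · rw [Category.assoc, Scheme.Hom.isoImage_hom_ι_assoc, jK_toSpec, reassoc_of% hp,
        ptK_toSpec]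
    · rw [Category.assoc, Iso.hom_inv_id_assoc]
      have h3 : p ≫ L.resLE V (L ⁻¹ᵁ V) le_rfl = P ≫ a := by
        rw [← cancel_mono V.ι, Category.assoc, Scheme.Hom.resLE_comp_ι, reassoc_of% hp, hP]
      rw [reassoc_of% h3, hab, Category.comp_id]
  refine ⟨jK K ''ᵁ (L ⁻¹ᵁ V),
    ((jK K).isoImage (L ⁻¹ᵁ V)).inv ≫ L.resLE V (L ⁻¹ᵁ V) le_rfl ≫ b,
    a₀ ≫ ((jK K).isoImage (L ⁻¹ᵁ V)).hom, b₀ ≫ ((jK K).isoImage (L ⁻¹ᵁ V)).hom, ?_,
    (key 0 a₀ A.1 l0 h0).1, (key 1 b₀ B.1 l1 h1).1, (key 0 a₀ A.1 l0 h0).2,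
    (key 1 b₀ B.1 l1 h1).2⟩
  rw [Category.assoc, Category.assoc, hb, Scheme.Hom.resLE_comp_ι_assoc, hLk, ← jK_toSpec,
    Category.assoc, Scheme.Hom.isoImage_inv_ι_assoc]

end Link

section Pt

variable {k : Type u} [Field k]

theorem exists_pt_of_nonempty_open [Infinite k] (n : ℕ)
    (V : (Spec (CommRingCat.of (MvPolynomial (Fin n) k))).Opens) (hV : (V : Set (Spec (CommRingCat.of (MvPolynomial (Fin n) k)))).Nonempty)
    (K : Type u) [Field K] [Algebra k K] :
    ∃ x : Spec (CommRingCat.of K) ⟶ (V : Scheme.{u}),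
      x ≫ V.ι ≫ Spec.map (CommRingCat.ofHom (algebraMap k (MvPolynomial (Fin n) k))) =
        REq.specMap k K := by
  obtain ⟨v, hv⟩ := hV
  obtain ⟨_, ⟨p, rfl⟩, hvp, hpV⟩ :=
    TopologicalSpace.Opens.isBasis_iff_nbhd.mp
      (PrimeSpectrum.isBasis_basic_opens (R := MvPolynomial (Fin n) k)) (U := V) (x := v) hv
  have hp0 : p ≠ 0 := by
    rintro rfl
    exact hvp (Ideal.zero_mem _)
  obtain ⟨c, hc⟩ : ∃ c : Fin n → k, MvPolynomial.eval c p ≠ 0 := by
    by_contra hcon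
    push Not at hcon
    exact hp0 (MvPolynomial.funext (fun c => by rw [hcon c, map_zero]))
  let φ : MvPolynomial (Fin n) k →+* K := (algebraMap k K).comp (MvPolynomial.eval c)
  have hφp : φ p ≠ 0 := by
    show algebraMap k K (MvPolynomial.eval c p) ≠ 0
    rw [Ne, map_eq_zero]
    exact hc
  have hr : Set.range (Spec.map (CommRingCat.ofHom φ)) ⊆ Set.range V.ι := by
    rw [Scheme.Opens.range_ι]
    rintro _ ⟨z, rfl⟩
    apply hpV
    intro hmem
    have hz : φ p ∈ (show PrimeSpectrum K from z).asIdeal := hmem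
    exact (show PrimeSpectrum K from z).isPrime.ne_top
      (Ideal.eq_top_of_isUnit_mem _ hz (IsUnit.mk0 _ hφp))
  refine ⟨IsOpenImmersion.lift V.ι _ hr, ?_⟩
  rw [IsOpenImmersion.lift_fac_assoc, ← Spec.map_comp, ← CommRingCat.ofHom_comp]
  congr 2
  refine RingHom.ext fun r => ?_
  show algebraMap k K (MvPolynomial.eval c (C r)) = _
  rw [MvPolynomial.eval_C]

theorem elemLink_of_open {Z : Scheme.{u}} (f : Z ⟶ Spec (CommRingCat.of k)) (U : Z.Opens)
    (K : Type u) [Field K] [Algebra k K] (A B : REq.Pts f K)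
    (hA : REq.InOpen f U A) (hB : REq.InOpen f U B)
    (h : ∀ A' B' : REq.Pts (U.ι ≫ f) K, REq.ElemLink (U.ι ≫ f) K A' B') :
    REq.ElemLink f K A B := by
  have rA : Set.range A.1 ⊆ Set.range U.ι := by rw [Scheme.Opens.range_ι]; exact hA
  have rB : Set.range B.1 ⊆ Set.range U.ι := by rw [Scheme.Opens.range_ι]; exact hB
  obtain ⟨W, g, a, b, h1, h2, h3, h4, h5⟩ := h
    ⟨IsOpenImmersion.lift U.ι A.1 rA, by rw [IsOpenImmersion.lift_fac_assoc]; exact A.2⟩
    ⟨IsOpenImmersion.lift U.ι B.1 rB, by rw [IsOpenImmersion.lift_fac_assoc]; exact B.2⟩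
  refine ⟨W, g ≫ U.ι, a, b, ?_, h2, h3, ?_, ?_⟩
  · rw [Category.assoc]; exact h1
  · rw [← Category.assoc, h4]; exact IsOpenImmersion.lift_fac _ _ _
  · rw [← Category.assoc, h5]; exact IsOpenImmersion.lift_fac _ _ _

theorem isAlmostRTrivial_of_isRetractRational [Infinite k] {Z : Scheme.{u}}
    (f : Z ⟶ Spec (CommRingCat.of k)) [IrreducibleSpace Z]
    (hX : REq.IsRetractRational f) : REq.IsAlmostRTrivial f := by
  obtain ⟨U, n, V, a, b, hne, hab, ha, hb⟩ := hX
  refine ⟨U, U.2.dense hne, fun K _ _ => ⟨?_, fun A B hA hB => ?_⟩⟩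
  · have hV : (V : Set (Spec (CommRingCat.of (MvPolynomial (Fin n) k)))).Nonempty := by
      obtain ⟨z, hz⟩ := hne
      exact ⟨V.ι (a ⟨z, hz⟩), (a ⟨z, hz⟩).2⟩
    obtain ⟨x, hx⟩ := exists_pt_of_nonempty_open n V hV K
    refine ⟨⟨x ≫ b ≫ U.ι, ?_⟩, ?_⟩
    · rw [Category.assoc, Category.assoc, hb]; exact hx
    · rintro _ ⟨z, rfl⟩
      exact ((x ≫ b) z).2
  · exact Relation.EqvGen.rel _ _ (elemLink_of_open f U K A B hA hB
      (fun A' B' => elemLink f U n V a b hab ha hb K A' B'))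

end Pt

end Groth.Agent.R2.H91.RLink
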