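import Groth.Agent.R2.H91RLink
import Groth.Agent.Lib.Helper27AwayGen

/-!
# Direct R-links in opens of projective space (helper91)
-/

set_option autoImplicit false

namespace Groth.Agent.R2.H91.RLinkB

universe u

open CategoryTheory CategoryTheory.Limits AlgebraicGeometry MvPolynomial
open Groth.Agent.R2.H91.RLink

section Generic

variable {k : Type u} [Field k]

/-- Generic link lemma: a morphism from the affine line over `K` to `Z` over `k`, passing through
two `K`-points of an open `V` at `t = 0` and `t = 1`, gives a direct R-link in `V`. -/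
theorem elemLink_of_affineLine {Z : Scheme.{u}} (f : Z ⟶ Spec (CommRingCat.of k)) (V : Z.Opens)
    (K : Type u) [Field K] [Algebra k K] (A B : REq.Pts (V.ι ≫ f) K)
    (G : Spec (CommRingCat.of (AK K)) ⟶ Z)
    (hG : G ≫ f = Spec.map (CommRingCat.ofHom (C : K →+* AK K)) ≫ REq.specMap k K)
    (h0 : ptK K 0 ≫ G = A.1 ≫ V.ι) (h1 : ptK K 1 ≫ G = B.1 ≫ V.ι) :
    REq.ElemLink (V.ι ≫ f) K A B := by
  have r0 := range_subset_preimage G V (ptK K 0) A.1 h0
  have r1 := range_subset_preimage G V (ptK K 1) B.1 h1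
  have l0 := IsOpenImmersion.lift_fac (G ⁻¹ᵁ V).ι (ptK K 0) r0
  have l1 := IsOpenImmersion.lift_fac (G ⁻¹ᵁ V).ι (ptK K 1) r1
  set a₀ := IsOpenImmersion.lift (G ⁻¹ᵁ V).ι (ptK K 0) r0 with ha₀
  set b₀ := IsOpenImmersion.lift (G ⁻¹ᵁ V).ι (ptK K 1) r1 with hb₀
  have key : ∀ (c : K) (p : Spec (CommRingCat.of K) ⟶ ((G ⁻¹ᵁ V : (Spec _).Opens) : Scheme.{u}))
      (P : Spec (CommRingCat.of K) ⟶ (V : Scheme.{u})),
      p ≫ (G ⁻¹ᵁ V).ι = ptK K c → ptK K c ≫ G = P ≫ V.ι →
      (p ≫ ((jK K).isoImage (G ⁻¹ᵁ V)).hom) ≫ (jK K ''ᵁ (G ⁻¹ᵁ V)).ι ≫ REq.P1K.toSpec K = 𝟙 _ ∧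
      (p ≫ ((jK K).isoImage (G ⁻¹ᵁ V)).hom) ≫
        (((jK K).isoImage (G ⁻¹ᵁ V)).inv ≫ G.resLE V (G ⁻¹ᵁ V) le_rfl) = P := by
    intro c p P hp hP
    constructor
    · rw [Category.assoc, Scheme.Hom.isoImage_hom_ι_assoc, jK_toSpec, reassoc_of% hp,
        ptK_toSpec]
    · rw [Category.assoc, Iso.hom_inv_id_assoc]
      rw [← cancel_mono V.ι, Category.assoc, Scheme.Hom.resLE_comp_ι, reassoc_of% hp, hP]
  refine ⟨jK K ''ᵁ (G ⁻¹ᵁ V),
    ((jK K).isoImage (G ⁻¹ᵁ V)).inv ≫ G.resLE V (G ⁻¹ᵁ V) le_rfl,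
    a₀ ≫ ((jK K).isoImage (G ⁻¹ᵁ V)).hom, b₀ ≫ ((jK K).isoImage (G ⁻¹ᵁ V)).hom, ?_,
    (key 0 a₀ A.1 l0 h0).1, (key 1 b₀ B.1 l1 h1).1, (key 0 a₀ A.1 l0 h0).2,
    (key 1 b₀ B.1 l1 h1).2⟩
  rw [Category.assoc, Scheme.Hom.resLE_comp_ι_assoc, hG, ← jK_toSpec,
    Category.assoc, Scheme.Hom.isoImage_inv_ι_assoc]

end Generic

section Alg

open HomogeneousLocalization Groth.Agent.Lib.Helper27AwayGen

variable {k : Type u} [Field k] (n : ℕ) (K : Type u) [Field K] [Algebra k K]

variable {ℓ : MvPolynomial (Fin (n + 1)) k} (hℓ : ℓ ∈ CohB1.polyGrading n k 1)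

theorem X_mem_one (l : Fin (n + 1)) :
    (X l : MvPolynomial (Fin (n + 1)) k) ∈ CohB1.polyGrading n k 1 :=
  (mem_homogeneousSubmodule 1 _).mpr (isHomogeneous_X k l)

theorem C_mem_zero (r : k) :
    (C r : MvPolynomial (Fin (n + 1)) k) ∈ CohB1.polyGrading n k 0 :=
  (mem_homogeneousSubmodule 0 _).mpr (isHomogeneous_C _ r)

/-- The structure map `k → k[x]_(ℓ)`. -/
noncomputable def sK : k →+* Away (CohB1.polyGrading n k) ℓ :=
  (fromZeroRingHom (CohB1.polyGrading n k) (Submonoid.powers ℓ)).comp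
    (algebraMap k (CohB1.polyGrading n k 0))

theorem sK_eq (r : k) :
    sK n (ℓ := ℓ) r = mk' (CohB1.polyGrading n k) hℓ 0 (C r) (C_mem_zero n r) := by
  apply HomogeneousLocalization.val_injective
  rw [val_mk']
  have h1 : (sK n (ℓ := ℓ) r).val = Localization.mk (C r : MvPolynomial (Fin (n + 1)) k)
      (1 : Submonoid.powers ℓ) := rfl
  rw [h1]
  congr 1

/-- The homogeneous coordinates (normalised by `ℓ = 1`) of a point of `D₊(ℓ)`. -/
noncomputable def coord (α : Away (CohB1.polyGrading n k) ℓ →+* K) (l : Fin (n + 1)) : K :=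
  α (mk' (CohB1.polyGrading n k) hℓ 1 (X l) (X_mem_one n l))

variable (α β : Away (CohB1.polyGrading n k) ℓ →+* K)

/-- The line in homogeneous coordinates. -/
noncomputable def theta : MvPolynomial (Fin (n + 1)) k →+* AK K :=
  lineHom K (n + 1) (coord n K hℓ α) (coord n K hℓ β)

variable (hθ : theta n K hℓ α β ℓ = 1)

include hθ in
theorem isUnit_theta : IsUnit (theta n K hℓ α β ℓ) := by rw [hθ]; exact isUnit_one

/-- The line in the chart `D₊(ℓ)`. -/
noncomputable def lam : Away (CohB1.polyGrading n k) ℓ →+* AK K :=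
  (IsLocalization.Away.lift ℓ (g := theta n K hℓ α β) (isUnit_theta n K hℓ α β hθ)).comp
    (algebraMap (Away (CohB1.polyGrading n k) ℓ) (Localization.Away ℓ))

theorem lam_mk' (d : ℕ) (m : MvPolynomial (Fin (n + 1)) k) (hm : m ∈ CohB1.polyGrading n k d) :
    lam n K hℓ α β hθ (mk' (CohB1.polyGrading n k) hℓ d m hm) = theta n K hℓ α β m := by
  unfold lam
  rw [RingHom.comp_apply]
  have h0 : algebraMap (Away (CohB1.polyGrading n k) ℓ) (Localization.Away ℓ)
      (mk' (CohB1.polyGrading n k) hℓ d m hm) = Localization.mk m ⟨ℓ ^ d, by use d⟩ :=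
    val_mk' (CohB1.polyGrading n k) hℓ d m hm
  rw [h0]
  have h1 : Localization.mk m (⟨ℓ ^ d, by use d⟩ : Submonoid.powers ℓ) *
      algebraMap (MvPolynomial (Fin (n + 1)) k) (Localization.Away ℓ) (ℓ ^ d) =
      algebraMap (MvPolynomial (Fin (n + 1)) k) (Localization.Away ℓ) m := by
    rw [Localization.mk_eq_mk']
    exact IsLocalization.mk'_spec _ _ _
  have h2 := congrArg (IsLocalization.Away.lift ℓ (g := theta n K hℓ α β)
    (isUnit_theta n K hℓ α β hθ)) h1
  rw [map_mul, IsLocalization.Away.lift_eq, IsLocalization.Away.lift_eq, map_pow, hθ,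
    one_pow, mul_one] at h2
  exact h2

theorem lam_comp_sK :
    (lam n K hℓ α β hθ).comp (sK n) = (C : K →+* AK K).comp (algebraMap k K) := by
  refine RingHom.ext fun r => ?_
  rw [RingHom.comp_apply, sK_eq n hℓ, lam_mk']
  exact RingHom.congr_fun (lineHom_comp_C K (n + 1) _ _) r

theorem evK_zero_comp_lam (hα : ∀ r : k, α (sK n r) = algebraMap k K r) :
    (evK K 0).comp (lam n K hℓ α β hθ) = α := by
  have hE := subring_eq_top (CohB1.polyGrading n k) hℓ
    (fun l : Fin (n + 1) => (X l : MvPolynomial (Fin (n + 1)) k)) (X_mem_one n)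
    MvPolynomial.adjoin_range_X (RingHom.eqLocus ((evK K 0).comp (lam n K hℓ α β hθ)) α)
    (fun r => by
      show evK K 0 (lam n K hℓ α β hθ _) = α _
      rw [lam_mk']
      have : mk' (CohB1.polyGrading n k) hℓ 0 ((algebraMap k (MvPolynomial (Fin (n + 1)) k)) r)
          (SetLike.algebraMap_mem_graded (CohB1.polyGrading n k) r) = sK n r := (sK_eq n hℓ r).symm
      rw [this, hα]
      show evK K 0 (lineHom K (n + 1) _ _ (C r)) = _
      unfold lineHom
      rw [MvPolynomial.coe_eval₂Hom, MvPolynomial.eval₂_C]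
      exact evK_C K 0 _)
    (fun l => by
      show evK K 0 (lam n K hℓ α β hθ _) = α _
      rw [lam_mk']
      show evK K 0 (lineHom K (n + 1) _ _ (X l)) = coord n K hℓ α l
      unfold lineHom
      rw [MvPolynomial.coe_eval₂Hom, MvPolynomial.eval₂_X, map_add, map_mul, evK_C, evK_C,
        evK_tK, zero_mul, add_zero])
  refine RingHom.ext fun z => ?_
  have hz : z ∈ RingHom.eqLocus ((evK K 0).comp (lam n K hℓ α β hθ)) α := by
    rw [hE]; trivial
  exact hz

theorem evK_one_comp_lam (hβ : ∀ r : k, β (sK n r) = algebraMap k K r) :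
    (evK K 1).comp (lam n K hℓ α β hθ) = β := by
  have hE := subring_eq_top (CohB1.polyGrading n k) hℓ
    (fun l : Fin (n + 1) => (X l : MvPolynomial (Fin (n + 1)) k)) (X_mem_one n)
    MvPolynomial.adjoin_range_X (RingHom.eqLocus ((evK K 1).comp (lam n K hℓ α β hθ)) β)
    (fun r => by
      show evK K 1 (lam n K hℓ α β hθ _) = β _
      rw [lam_mk']
      have : mk' (CohB1.polyGrading n k) hℓ 0 ((algebraMap k (MvPolynomial (Fin (n + 1)) k)) r)
          (SetLike.algebraMap_mem_graded (CohB1.polyGrading n k) r) = sK n r := (sK_eq n hℓ r).symm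
      rw [this, hβ]
      show evK K 1 (lineHom K (n + 1) _ _ (C r)) = _
      unfold lineHom
      rw [MvPolynomial.coe_eval₂Hom, MvPolynomial.eval₂_C]
      exact evK_C K 1 _)
    (fun l => by
      show evK K 1 (lam n K hℓ α β hθ _) = β _
      rw [lam_mk']
      show evK K 1 (lineHom K (n + 1) _ _ (X l)) = coord n K hℓ β l
      unfold lineHom
      rw [MvPolynomial.coe_eval₂Hom, MvPolynomial.eval₂_X, map_add, map_mul, evK_C, evK_C,
        evK_tK, one_mul]
      ring)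
  refine RingHom.ext fun z => ?_
  have hz : z ∈ RingHom.eqLocus ((evK K 1).comp (lam n K hℓ α β hθ)) β := by
    rw [hE]; trivial
  exact hz

omit hθ in
theorem mk'_self : mk' (CohB1.polyGrading n k) hℓ 1 ℓ hℓ = 1 := by
  apply HomogeneousLocalization.val_injective
  rw [val_mk', HomogeneousLocalization.val_one]
  have h := Localization.mk_self (⟨ℓ ^ 1, by use 1⟩ : Submonoid.powers ℓ)
  simp only [pow_one] at h ⊢
  exact h

omit hθ in
theorem theta_X (l : Fin (n + 1)) : theta n K hℓ α β (X l) =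
    C (coord n K hℓ α l) + tK K * C (coord n K hℓ β l - coord n K hℓ α l) := by
  unfold theta lineHom
  rw [MvPolynomial.coe_eval₂Hom, MvPolynomial.eval₂_X]

omit hθ in
theorem theta_eq_one_of_X (i : Fin (n + 1)) (h : ℓ = X i) : theta n K hℓ α β ℓ = 1 := by
  subst h
  have h1 : ∀ γ : Away (CohB1.polyGrading n k) (X i) →+* K, coord n K hℓ γ i = 1 := by
    intro γ
    unfold coord
    rw [mk'_self n hℓ, map_one]
  rw [theta_X, h1 α, h1 β, sub_self, map_zero, mul_zero, add_zero, map_one]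

omit hθ in
theorem theta_eq_one_of_add (i j : Fin (n + 1)) (h : ℓ = X i + X j) :
    theta n K hℓ α β ℓ = 1 := by
  have h1 : ∀ γ : Away (CohB1.polyGrading n k) ℓ →+* K,
      coord n K hℓ γ i + coord n K hℓ γ j = 1 := by
    intro γ
    unfold coord
    rw [← map_add, ← mk'_add, mk'_congr (CohB1.polyGrading n k) hℓ 1 _ hℓ h.symm, mk'_self n hℓ,
      map_one]
  have h2 : theta n K hℓ α β ℓ = theta n K hℓ α β (X i) + theta n K hℓ α β (X j) := by
    rw [← map_add, ← h]
  rw [h2, theta_X, theta_X]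
  have e : C (coord n K hℓ α i) + tK K * C (coord n K hℓ β i - coord n K hℓ α i) +
      (C (coord n K hℓ α j) + tK K * C (coord n K hℓ β j - coord n K hℓ α j)) =
      C (coord n K hℓ α i + coord n K hℓ α j) + tK K * C ((coord n K hℓ β i + coord n K hℓ β j) -
        (coord n K hℓ α i + coord n K hℓ α j)) := by
    simp only [map_add, map_sub]
    ring
  rw [e, h1 α, h1 β, sub_self, map_zero, mul_zero, add_zero, map_one]

end Alg

section Geo

open HomogeneousLocalization Groth.Agent.Lib.Helper27AwayGen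

variable (k : Type u) [Field k] (n : ℕ)

/-- `Proj k[x₀..x_n] ≅ P^n_k` (the fibre product form). -/
noncomputable def isoPn : Proj (CohB1.polyGrading n k) ≅
    CohB1.ProjSpaceOver n (Spec (CommRingCat.of k)) := by
  letI : Algebra (ULift.{u} ℤ) k :=
    ((Int.castRingHom k).comp (ULift.ringEquiv : ULift.{u} ℤ ≃+* ℤ).toRingHom).toAlgebra
  have h := Groth.Agent.R2.H63.P1Conn.isPullback_projSpace n (ULift.{u} ℤ) k
  have e : Spec.map (CommRingCat.ofHom (algebraMap (ULift.{u} ℤ) k)) =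
      specULiftZIsTerminal.from (Spec (CommRingCat.of k)) :=
    specULiftZIsTerminal.hom_ext _ _
  rw [e] at h
  exact h.isoPullback

theorem isoPn_hom_toBase : (isoPn k n).hom ≫
    CohB1.ProjSpaceOver.toBase n (Spec (CommRingCat.of k)) =
    Proj.toSpecZero (CohB1.polyGrading n k) ≫
      Spec.map (CommRingCat.ofHom (algebraMap k (CohB1.polyGrading n k 0))) := by
  unfold isoPn
  simp only []
  exact IsPullback.isoPullback_hom_snd _

variable {k n}

theorem awayι_isoPn_toBase {ℓ : MvPolynomial (Fin (n + 1)) k}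
    (hℓ : ℓ ∈ CohB1.polyGrading n k 1) :
    Proj.awayι (CohB1.polyGrading n k) ℓ hℓ one_pos ≫ (isoPn k n).hom ≫
      CohB1.ProjSpaceOver.toBase n (Spec (CommRingCat.of k)) =
    Spec.map (CommRingCat.ofHom (sK n (ℓ := ℓ))) := by
  rw [isoPn_hom_toBase, Proj.awayι_toSpecZero_assoc, ← Spec.map_comp, ← CommRingCat.ofHom_comp]
  rfl

theorem exists_common_chart (zA zB : Proj (CohB1.polyGrading n k)) :
    ∃ (ℓ : MvPolynomial (Fin (n + 1)) k) (_ : ℓ ∈ CohB1.polyGrading n k 1),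
      ((∃ i, ℓ = X i) ∨ (∃ i j, ℓ = X i + X j)) ∧
      zA ∈ Proj.basicOpen (CohB1.polyGrading n k) ℓ ∧
      zB ∈ Proj.basicOpen (CohB1.polyGrading n k) ℓ := by
  have hcov := Groth.Agent.Lib.Helper27PnChart.iSup_basicOpen_X n k
  have hA : zA ∈ (⨆ i : Fin (n + 1), Proj.basicOpen (CohB1.polyGrading n k)
      (MvPolynomial.X i)) := by rw [hcov]; trivial
  have hB : zB ∈ (⨆ i : Fin (n + 1), Proj.basicOpen (CohB1.polyGrading n k)
      (MvPolynomial.X i)) := by rw [hcov]; trivial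
  obtain ⟨i, hi⟩ := TopologicalSpace.Opens.mem_iSup.mp hA
  obtain ⟨j, hj⟩ := TopologicalSpace.Opens.mem_iSup.mp hB
  by_cases h1 : zB ∈ Proj.basicOpen (CohB1.polyGrading n k) (X i)
  · exact ⟨X i, X_mem_one n i, Or.inl ⟨i, rfl⟩, hi, h1⟩
  by_cases h2 : zA ∈ Proj.basicOpen (CohB1.polyGrading n k) (X j)
  · exact ⟨X j, X_mem_one n j, Or.inl ⟨j, rfl⟩, h2, hj⟩
  refine ⟨X i + X j, add_mem (X_mem_one n i) (X_mem_one n j), Or.inr ⟨i, j, rfl⟩, ?_, ?_⟩
  · have hi' := (ProjectiveSpectrum.mem_basicOpen (CohB1.polyGrading n k) (X i) zA).mp hi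
    have h2' : (X j : MvPolynomial (Fin (n + 1)) k) ∈ zA.asHomogeneousIdeal := by
      by_contra hc
      exact h2 ((ProjectiveSpectrum.mem_basicOpen (CohB1.polyGrading n k) (X j) zA).mpr hc)
    refine (ProjectiveSpectrum.mem_basicOpen (CohB1.polyGrading n k) _ zA).mpr fun hc => hi' ?_
    have : (X i : MvPolynomial (Fin (n + 1)) k) = (X i + X j) - X j := by ring
    rw [this]
    exact Ideal.sub_mem _ hc h2'
  · have hj' := (ProjectiveSpectrum.mem_basicOpen (CohB1.polyGrading n k) (X j) zB).mp hj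
    have h1' : (X i : MvPolynomial (Fin (n + 1)) k) ∈ zB.asHomogeneousIdeal := by
      by_contra hc
      exact h1 ((ProjectiveSpectrum.mem_basicOpen (CohB1.polyGrading n k) (X i) zB).mpr hc)
    refine (ProjectiveSpectrum.mem_basicOpen (CohB1.polyGrading n k) _ zB).mpr fun hc => hj' ?_
    have : (X j : MvPolynomial (Fin (n + 1)) k) = (X i + X j) - X i := by ring
    rw [this]
    exact Ideal.sub_mem _ hc h1'

/-- A `K`-point of `P^n_k` over `k` factoring through the chart `D₊(ℓ)` has a `k`-compatible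
ring map. -/
theorem chart_pt_compat {ℓ : MvPolynomial (Fin (n + 1)) k} (hℓ : ℓ ∈ CohB1.polyGrading n k 1)
    (K : Type u) [Field K] [Algebra k K]
    (A : Spec (CommRingCat.of K) ⟶ CohB1.ProjSpaceOver n (Spec (CommRingCat.of k)))
    (hA : A ≫ CohB1.ProjSpaceOver.toBase n (Spec (CommRingCat.of k)) = REq.specMap k K)
    (α : Away (CohB1.polyGrading n k) ℓ →+* K)
    (h : Spec.map (CommRingCat.ofHom α) ≫
      Proj.awayι (CohB1.polyGrading n k) ℓ hℓ one_pos ≫ (isoPn k n).hom = A) (r : k) :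
    α (sK n r) = algebraMap k K r := by
  have h1 : Spec.map (CommRingCat.ofHom (α.comp (sK n))) = REq.specMap k K := by
    rw [CommRingCat.ofHom_comp, Spec.map_comp, ← awayι_isoPn_toBase hℓ, ← hA, ← h]
    simp only [Category.assoc]
  have h2 := Spec.map_injective h1
  exact congrArg (fun g => g.hom r) h2

theorem elemLink_projSpace
    (V : (CohB1.ProjSpaceOver n (Spec (CommRingCat.of k))).Opens) (K : Type u) [Field K]
    [Algebra k K]
    (A B : REq.Pts (V.ι ≫ CohB1.ProjSpaceOver.toBase n (Spec (CommRingCat.of k))) K) :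
    REq.ElemLink (V.ι ≫ CohB1.ProjSpaceOver.toBase n (Spec (CommRingCat.of k))) K A B := by
  let pt : Spec (CommRingCat.of K) := (default : PrimeSpectrum K)
  have hpt : ∀ z : Spec (CommRingCat.of K), z = pt := fun z =>
    Subsingleton.elim (α := PrimeSpectrum K) _ _
  obtain ⟨ℓ, hℓ, hgood, hzA, hzB⟩ := exists_common_chart
    ((A.1 ≫ V.ι ≫ (isoPn k n).inv) pt) ((B.1 ≫ V.ι ≫ (isoPn k n).inv) pt)
  have hrange : ∀ (P : Spec (CommRingCat.of K) ⟶ Proj (CohB1.polyGrading n k)),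
      P pt ∈ Proj.basicOpen (CohB1.polyGrading n k) ℓ →
      Set.range P ⊆ Set.range (Proj.awayι (CohB1.polyGrading n k) ℓ hℓ one_pos) := by
    intro P hP
    rintro _ ⟨z, rfl⟩
    rw [hpt z, ← Scheme.Hom.coe_opensRange, Proj.opensRange_awayι]
    exact hP
  -- the points in the chart
  have key : ∀ (P : REq.Pts (V.ι ≫ CohB1.ProjSpaceOver.toBase n (Spec (CommRingCat.of k))) K),
      (P.1 ≫ V.ι ≫ (isoPn k n).inv) pt ∈ Proj.basicOpen (CohB1.polyGrading n k) ℓ →
      ∃ α : Away (CohB1.polyGrading n k) ℓ →+* K,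
        Spec.map (CommRingCat.ofHom α) ≫
          Proj.awayι (CohB1.polyGrading n k) ℓ hℓ one_pos ≫ (isoPn k n).hom = P.1 ≫ V.ι ∧
        ∀ r : k, α (sK n r) = algebraMap k K r := by
    intro P hP
    have hr := hrange _ hP
    have hfac := IsOpenImmersion.lift_fac
      (Proj.awayι (CohB1.polyGrading n k) ℓ hℓ one_pos) (P.1 ≫ V.ι ≫ (isoPn k n).inv) hr
    set P₂ := IsOpenImmersion.lift
      (Proj.awayι (CohB1.polyGrading n k) ℓ hℓ one_pos) (P.1 ≫ V.ι ≫ (isoPn k n).inv) hr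
    have h1 : Spec.map (CommRingCat.ofHom (Spec.preimage P₂).hom) ≫
        Proj.awayι (CohB1.polyGrading n k) ℓ hℓ one_pos ≫ (isoPn k n).hom = P.1 ≫ V.ι := by
      rw [CommRingCat.ofHom_hom, Spec.map_preimage, reassoc_of% hfac]
      simp only [Iso.inv_hom_id, Category.comp_id]
    refine ⟨(Spec.preimage P₂).hom, h1, fun r => ?_⟩
    refine chart_pt_compat hℓ K (P.1 ≫ V.ι) ?_ _ h1 r
    rw [Category.assoc]
    exact P.2
  obtain ⟨α, hα1, hα2⟩ := key A hzA
  obtain ⟨β, hβ1, hβ2⟩ := key B hzB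
  have hθ : theta n K hℓ α β ℓ = 1 := by
    rcases hgood with ⟨i, hi⟩ | ⟨i, j, hij⟩
    · exact theta_eq_one_of_X n K hℓ α β i hi
    · exact theta_eq_one_of_add n K hℓ α β i j hij
  refine elemLink_of_affineLine _ V K A B
    (Spec.map (CommRingCat.ofHom (lam n K hℓ α β hθ)) ≫
      Proj.awayι (CohB1.polyGrading n k) ℓ hℓ one_pos ≫ (isoPn k n).hom) ?_ ?_ ?_
  · rw [Category.assoc, Category.assoc, awayι_isoPn_toBase hℓ, ← Spec.map_comp,
      ← CommRingCat.ofHom_comp, lam_comp_sK, CommRingCat.ofHom_comp, Spec.map_comp]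
  · unfold ptK
    rw [← Category.assoc, ← Spec.map_comp, ← CommRingCat.ofHom_comp,
      evK_zero_comp_lam n K hℓ α β hθ hα2, hα1]
  · unfold ptK
    rw [← Category.assoc, ← Spec.map_comp, ← CommRingCat.ofHom_comp,
      evK_one_comp_lam n K hℓ α β hθ hβ2, hβ1]

end Geo

end Groth.Agent.R2.H91.RLinkB
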