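import Mathlib

/-!
# Torsion in the coinvariants of an automorphism of prime order of a `ℤ_ℓ`-lattice (helper91)

General lemmas for S18599.
-/

set_option autoImplicit false
set_option linter.unusedSectionVars false

namespace Groth.Agent.R2.H91.SSRed

open Module

section Count

variable (p : ℕ) [Fact p.Prime]

theorem card_quot_span_p : Nat.card (ℤ_[p] ⧸ Ideal.span {(p : ℤ_[p])}) = p := by
  rw [← PadicInt.maximalIdeal_eq_span_p]
  have e : (ℤ_[p] ⧸ IsLocalRing.maximalIdeal ℤ_[p]) ≃+* ZMod p := PadicInt.residueField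
  rw [Nat.card_congr e.toEquiv, Nat.card_zmod]

theorem card_quot_range_smul (N : Type*) [AddCommGroup N] [Module ℤ_[p] N]
    [Module.Free ℤ_[p] N] [Module.Finite ℤ_[p] N] :
    Nat.card (N ⧸ LinearMap.range ((p : ℤ_[p]) • (1 : Module.End ℤ_[p] N))) =
      p ^ Module.finrank ℤ_[p] N := by
  classical
  let I : Ideal ℤ_[p] := Ideal.span {(p : ℤ_[p])}
  let b := Module.finBasis ℤ_[p] N
  let φ : N →ₗ[ℤ_[p]] (Fin (Module.finrank ℤ_[p] N) → ℤ_[p] ⧸ I) :=
    (LinearMap.compLeft (Submodule.mkQ I) _) ∘ₗ b.equivFun.toLinearMap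
  have hφ : ∀ y i, φ y i = Submodule.mkQ I (b.equivFun y i) := fun y i => rfl
  have hφsurj : Function.Surjective φ := by
    intro v
    choose w hw using fun i => Submodule.mkQ_surjective I (v i)
    refine ⟨b.equivFun.symm w, ?_⟩
    funext i
    rw [hφ, LinearEquiv.apply_symm_apply, hw]
  have hker : LinearMap.ker φ =
      LinearMap.range ((p : ℤ_[p]) • (1 : Module.End ℤ_[p] N)) := by
    ext y
    rw [LinearMap.mem_ker, LinearMap.mem_range]
    constructor
    · intro hy
      have h1 : ∀ i, b.equivFun y i ∈ I := fun i => by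
        have := congrFun hy i
        rw [hφ] at this
        exact (Submodule.Quotient.mk_eq_zero I).mp this
      have h2 : ∀ i, ∃ z : ℤ_[p], z * (p : ℤ_[p]) = b.equivFun y i := fun i =>
        Ideal.mem_span_singleton'.mp (h1 i)
      choose z hz using h2
      refine ⟨b.equivFun.symm z, ?_⟩
      apply b.equivFun.injective
      rw [LinearMap.smul_apply, Module.End.one_apply, map_smul, LinearEquiv.apply_symm_apply]
      funext i
      rw [Pi.smul_apply, smul_eq_mul, ← hz i, mul_comm]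
    · rintro ⟨z, rfl⟩
      funext i
      rw [hφ, LinearMap.smul_apply, Module.End.one_apply, map_smul, Pi.smul_apply, smul_eq_mul]
      apply (Submodule.Quotient.mk_eq_zero I).mpr
      exact Ideal.mem_span_singleton'.mpr ⟨b.equivFun z i, mul_comm _ _⟩
  have e := LinearMap.quotKerEquivOfSurjective φ hφsurj
  rw [← hker, Nat.card_congr e.toEquiv, Nat.card_fun, Nat.card_fin, card_quot_span_p]

end Count

section Structure

variable {R : Type*} [CommRing R] [IsDomain R] {M : Type*} [AddCommGroup M] [Module R M]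
  [Module.IsTorsionFree R M]

theorem torsion_eq_map (ℓ : R) (hℓ : ℓ ≠ 0) (f E g : Module.End R M)
    (hEf : E * f = f) (hfg : f * g = ℓ • E) :
    Submodule.torsion R (M ⧸ LinearMap.range f) =
      (LinearMap.range E).map (LinearMap.range f).mkQ := by
  ext t
  obtain ⟨x, rfl⟩ := Submodule.mkQ_surjective _ t
  rw [Submodule.mem_torsion_iff, Submodule.mem_map]
  constructor
  · rintro ⟨⟨a, ha⟩, hax⟩
    have ha0 : a ≠ 0 := nonZeroDivisors.ne_zero ha
    have h1 : a • x ∈ LinearMap.range f := by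
      rw [← Submodule.Quotient.mk_eq_zero, Submodule.Quotient.mk_smul]
      exact hax
    obtain ⟨z, hz⟩ := h1
    have h2 : E (a • x) = a • x := by
      rw [← hz, ← Module.End.mul_apply, hEf]
    have h3 : a • (E x - x) = 0 := by
      rw [smul_sub, ← map_smul, h2, sub_self]
    have h4 : E x - x = 0 := (smul_eq_zero.mp h3).resolve_left ha0
    refine ⟨E x, ⟨x, rfl⟩, ?_⟩
    rw [sub_eq_zero.mp h4]
  · rintro ⟨y, ⟨x', rfl⟩, hy⟩
    refine ⟨⟨ℓ, mem_nonZeroDivisors_of_ne_zero hℓ⟩, ?_⟩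
    rw [← hy]
    show ℓ • (LinearMap.range f).mkQ (E x') = 0
    rw [← map_smul]
    apply (Submodule.Quotient.mk_eq_zero _).mpr
    refine ⟨g x', ?_⟩
    rw [← Module.End.mul_apply, hfg]
    rfl

theorem smul_eq_zero_of_mem_torsion (ℓ : R) (hℓ : ℓ ≠ 0) (f E g : Module.End R M)
    (hEf : E * f = f) (hfg : f * g = ℓ • E) (t : M ⧸ LinearMap.range f)
    (ht : t ∈ Submodule.torsion R (M ⧸ LinearMap.range f)) : ℓ • t = 0 := by
  rw [torsion_eq_map ℓ hℓ f E g hEf hfg, Submodule.mem_map] at ht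
  obtain ⟨y, ⟨x', rfl⟩, rfl⟩ := ht
  rw [← map_smul]
  apply (Submodule.Quotient.mk_eq_zero _).mpr
  refine ⟨g x', ?_⟩
  rw [← Module.End.mul_apply, hfg]
  rfl

theorem card_torsion (ℓ : R) (hℓ : ℓ ≠ 0) (f E g : Module.End R M)
    (hEf : E * f = f) (hfg : f * g = ℓ • E) :
    Nat.card (Submodule.torsion R (M ⧸ LinearMap.range f)) =
      Nat.card (↥(LinearMap.range E) ⧸
        (LinearMap.range f).comap (LinearMap.range E).subtype) := by
  rw [torsion_eq_map ℓ hℓ f E g hEf hfg]
  let χ : ↥(LinearMap.range E) →ₗ[R] M ⧸ LinearMap.range f :=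
    (LinearMap.range f).mkQ ∘ₗ (LinearMap.range E).subtype
  have h1 : LinearMap.range χ = (LinearMap.range E).map (LinearMap.range f).mkQ := by
    rw [LinearMap.range_comp, Submodule.range_subtype]
  have h2 : LinearMap.ker χ = (LinearMap.range f).comap (LinearMap.range E).subtype := by
    rw [LinearMap.ker_comp, Submodule.ker_mkQ]
  rw [← h1, ← h2]
  exact (Nat.card_congr (LinearMap.quotKerEquivRange χ).toEquiv).symm

theorem finrank_range_idem [Module.Finite R M] (f E : Module.End R M)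
    (hfE : f * E = f) (hker : LinearMap.ker f ≤ LinearMap.ker E) :
    Module.finrank R (LinearMap.range E) =
      Module.finrank R M - Module.finrank R (LinearMap.ker f) := by
  have h1 : LinearMap.ker E = LinearMap.ker f := by
    apply le_antisymm
    · intro x hx
      rw [LinearMap.mem_ker] at hx ⊢
      rw [← hfE, Module.End.mul_apply, hx, map_zero]
    · exact hker
  have h2 := Submodule.finrank_quotient_add_finrank (LinearMap.ker E)
  have h3 : Module.finrank R (M ⧸ LinearMap.ker E) = Module.finrank R (LinearMap.range E) :=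
    LinearEquiv.finrank_eq (LinearMap.quotKerEquivRange E)
  rw [h1] at h2 h3
  omega

end Structure

section Square

variable {R : Type*} [CommRing R] [IsDomain R] {N : Type*} [AddCommGroup N] [Module R N]
  [Module.IsTorsionFree R N]

/-- If `f' u = u f' = ℓ` and `f'`, `u` have the same range, then
`[N : f' N]² = [N : ℓ N]`. -/
theorem card_sq (ℓ : R) (hℓ : ℓ ≠ 0) (f' u a b : N →ₗ[R] N)
    (hfu : ∀ y, f' (u y) = ℓ • y) (huf : ∀ y, u (f' y) = ℓ • y) (hua : ∀ y, u y = f' (a y))
    (hfb : ∀ y, f' y = u (b y)) :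
    Nat.card (N ⧸ LinearMap.range f') * Nat.card (N ⧸ LinearMap.range f') =
      Nat.card (N ⧸ LinearMap.range (ℓ • (1 : Module.End R N))) := by
  have hinj : Function.Injective f' := by
    rw [injective_iff_map_eq_zero]
    intro y hy
    have h1 : ℓ • y = 0 := by rw [← huf, hy, map_zero]
    exact (smul_eq_zero.mp h1).resolve_left hℓ
  have hle : LinearMap.range (ℓ • (1 : Module.End R N)) ≤ LinearMap.range f' := by
    rintro _ ⟨y, rfl⟩
    refine ⟨u y, ?_⟩
    rw [hfu, LinearMap.smul_apply, Module.End.one_apply]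
  have hcard := Submodule.card_quotient_mul_card_quotient (LinearMap.range f')
    (LinearMap.range (ℓ • (1 : Module.End R N))) hle
  rw [← hcard]
  congr 1
  -- the image of `range f'` in `N ⧸ ℓ N` is isomorphic to `N ⧸ range f'`
  let T₀ := LinearMap.range (ℓ • (1 : Module.End R N))
  let ψ : N →ₗ[R] N ⧸ T₀ := T₀.mkQ ∘ₗ f'
  have h1 : LinearMap.range ψ = (LinearMap.range f').map T₀.mkQ := LinearMap.range_comp _ _
  have h2 : LinearMap.ker ψ = LinearMap.range f' := by
    ext y
    rw [LinearMap.mem_ker]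
    show T₀.mkQ (f' y) = 0 ↔ _
    rw [Submodule.mkQ_apply, Submodule.Quotient.mk_eq_zero]
    constructor
    · rintro ⟨z, hz⟩
      rw [LinearMap.smul_apply, Module.End.one_apply] at hz
      have h3 : f' y = f' (u z) := by rw [hfu, hz]
      have h4 : y = u z := hinj h3
      rw [h4, hua]
      exact ⟨a z, rfl⟩
    · rintro ⟨z, rfl⟩
      refine ⟨b z, ?_⟩
      rw [LinearMap.smul_apply, Module.End.one_apply, ← hfu, ← hfb]
  rw [← h1]
  have e := LinearMap.quotKerEquivRange ψ
  rw [h2] at e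
  exact Nat.card_congr e.toEquiv

end Square

section Cases

theorem nsmul_cancel {R : Type*} [CommRing R] [IsDomain R] [CharZero R] {X : Type*} [AddCommGroup X]
    [Module R X] [Module.IsTorsionFree R X] (n : ℕ) (hn : n ≠ 0) (x : X) (h : n • x = 0) : x = 0 := by
  rw [← Nat.cast_smul_eq_nsmul R] at h
  exact (smul_eq_zero.mp h).resolve_left (Nat.cast_ne_zero.mpr hn)

theorem case_two [Fact (Nat.Prime 2)] {M : Type*} [AddCommGroup M] [Module ℤ_[2] M]
    [Module.Free ℤ_[2] M] [Module.Finite ℤ_[2] M]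
    (f B : Module.End ℤ_[2] M) (h : (f + 1) ^ 2 = 1) (hB : f = (2 : ℤ_[2]) • B) (c : ℕ)
    (hc : c = Module.finrank ℤ_[2] M - Module.finrank ℤ_[2] (LinearMap.ker f)) :
    (∀ x ∈ Submodule.torsion ℤ_[2] (M ⧸ LinearMap.range f), ((2 : ℕ) : ℤ_[2]) • x = 0) ∧
      ∃ r : ℕ, r * (2 - 1) = c ∧
        Nat.card (Submodule.torsion ℤ_[2] (M ⧸ LinearMap.range f)) = 2 ^ r := by
  have h2ne : ((2 : ℕ) : ℤ_[2]) ≠ 0 := Nat.cast_ne_zero.mpr two_ne_zero
  have hff : f * f + 2 • f = 0 := by
    have h1 : (f + 1) ^ 2 - 1 = f * f + 2 • f := by noncomm_ring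
    rw [h, sub_self] at h1
    exact h1.symm
  have hB' : f = 2 • B := by rw [hB, ofNat_smul_eq_nsmul]
  have hBB : B * B = -B := by
    have h4 : 4 • (B * B + B) = 0 := by
      have h5 : 4 • (B * B + B) = (2 • B) * (2 • B) + 2 • (2 • B) := by noncomm_ring
      rw [h5, ← hB', hff]
    have h6 := nsmul_cancel (R := ℤ_[2]) 4 (by norm_num) _ h4
    exact eq_neg_of_add_eq_zero_left h6
  have hEf : (-B) * f = f := by
    rw [hB']
    have h5 : (-B) * (2 • B) = -(2 • (B * B)) := by noncomm_ring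
    rw [h5, hBB, smul_neg, neg_neg]
  have hfE : f * (-B) = f := by
    rw [hB']
    have h5 : (2 • B) * (-B) = -(2 • (B * B)) := by noncomm_ring
    rw [h5, hBB, smul_neg, neg_neg]
  have hfg : f * B = ((2 : ℕ) : ℤ_[2]) • (-B) := by
    rw [Nat.cast_smul_eq_nsmul, hB']
    have h5 : (2 • B) * B = 2 • (B * B) := by noncomm_ring
    rw [h5, hBB]
  have hfx : ∀ x, f x = (2 : ℤ_[2]) • B x := by
    intro x
    rw [hB]
    rfl
  have hker : LinearMap.ker f ≤ LinearMap.ker (-B) := by
    intro x hx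
    rw [LinearMap.mem_ker] at hx ⊢
    rw [hfx] at hx
    have hBx : B x = 0 := (smul_eq_zero.mp hx).resolve_left two_ne_zero
    rw [LinearMap.neg_apply, hBx, neg_zero]
  refine ⟨fun x hx => smul_eq_zero_of_mem_torsion _ h2ne f (-B) B hEf hfg x hx, c, by omega, ?_⟩
  rw [card_torsion _ h2ne f (-B) B hEf hfg]
  have hcomap : (LinearMap.range f).comap (LinearMap.range (-B)).subtype =
      LinearMap.range (((2 : ℕ) : ℤ_[2]) • (1 : Module.End ℤ_[2] (LinearMap.range (-B)))) := by
    ext y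
    rw [Submodule.mem_comap, LinearMap.mem_range, LinearMap.mem_range]
    constructor
    · rintro ⟨x, hx⟩
      refine ⟨⟨(-B) (-x), ⟨-x, rfl⟩⟩, ?_⟩
      apply Subtype.ext
      rw [LinearMap.smul_apply, Module.End.one_apply]
      show ((2 : ℕ) : ℤ_[2]) • ((-B) (-x)) = (y : M)
      have hx' : f x = (y : M) := hx
      rw [← hx', hfx, LinearMap.neg_apply, map_neg, neg_neg, Nat.cast_ofNat]
    · rintro ⟨z, rfl⟩
      obtain ⟨w, hw⟩ := z.2
      refine ⟨-w, ?_⟩
      rw [LinearMap.smul_apply, Module.End.one_apply]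
      show f (-w) = ((((2 : ℕ) : ℤ_[2]) • z : ↥(LinearMap.range (-B))) : M)
      rw [Submodule.coe_smul, ← hw, hfx, LinearMap.neg_apply, map_neg, smul_neg, Nat.cast_ofNat,
        smul_neg]
  rw [hcomap, card_quot_range_smul 2, finrank_range_idem f (-B) hfE hker, ← hc]

theorem case_three [Fact (Nat.Prime 3)] {M : Type*} [AddCommGroup M] [Module ℤ_[3] M]
    [Module.Free ℤ_[3] M] [Module.Finite ℤ_[3] M]
    (f B : Module.End ℤ_[3] M) (h : (f + 1) ^ 3 = 1) (hB : f ^ 2 = (3 : ℤ_[3]) • B) (c : ℕ)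
    (hc : c = Module.finrank ℤ_[3] M - Module.finrank ℤ_[3] (LinearMap.ker f)) :
    (∀ x ∈ Submodule.torsion ℤ_[3] (M ⧸ LinearMap.range f), ((3 : ℕ) : ℤ_[3]) • x = 0) ∧
      ∃ r : ℕ, r * (3 - 1) = c ∧
        Nat.card (Submodule.torsion ℤ_[3] (M ⧸ LinearMap.range f)) = 3 ^ r := by
  have h3ne : ((3 : ℕ) : ℤ_[3]) ≠ 0 := Nat.cast_ne_zero.mpr (by norm_num)
  have hcube : f * f * f + 3 • (f * f) + 3 • f = 0 := by
    have h1 : (f + 1) ^ 3 - 1 = f * f * f + 3 • (f * f) + 3 • f := by noncomm_ring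
    rw [h, sub_self] at h1
    exact h1.symm
  have hB' : f * f = 3 • B := by rw [← pow_two, hB, ofNat_smul_eq_nsmul]
  -- the norm element and the idempotent
  obtain ⟨Nm, hNm⟩ : ∃ Nm : Module.End ℤ_[3] M, Nm = 3 • (1 : Module.End ℤ_[3] M) + 3 • f + f * f :=
    ⟨_, rfl⟩
  obtain ⟨P, hP⟩ : ∃ P : Module.End ℤ_[3] M, P = 1 + f + B := ⟨_, rfl⟩
  have h3P : 3 • P = Nm := by
    rw [hNm, hB', hP, smul_add, smul_add]
  have hfNm : f * Nm = 0 := by
    have h1 : f * Nm = f * f * f + 3 • (f * f) + 3 • f := by rw [hNm]; noncomm_ring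
    rw [h1, hcube]
  have hNmf : Nm * f = 0 := by
    have h1 : Nm * f = f * f * f + 3 • (f * f) + 3 • f := by rw [hNm]; noncomm_ring
    rw [h1, hcube]
  have hfP : f * P = 0 := by
    apply nsmul_cancel (R := ℤ_[3]) 3 (by norm_num)
    have h1 : 3 • (f * P) = f * (3 • P) := by noncomm_ring
    rw [h1, h3P, hfNm]
  have hPf : P * f = 0 := by
    apply nsmul_cancel (R := ℤ_[3]) 3 (by norm_num)
    have h1 : 3 • (P * f) = (3 • P) * f := by noncomm_ring
    rw [h1, h3P, hNmf]
  have hNmP : Nm * P = Nm := by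
    have h1 : Nm * P = 3 • P + 3 • (f * P) + f * (f * P) := by rw [hNm]; noncomm_ring
    rw [h1, hfP, mul_zero, smul_zero, add_zero, add_zero, h3P]
  obtain ⟨E, hE⟩ : ∃ E : Module.End ℤ_[3] M, E = 1 - P := ⟨_, rfl⟩
  have hEf : E * f = f := by rw [hE, sub_mul, one_mul, hPf, sub_zero]
  have hfE : f * E = f := by rw [hE, mul_sub, mul_one, hfP, sub_zero]
  have hNmE : Nm * E = 0 := by rw [hE, mul_sub, mul_one, hNmP, sub_self]
  obtain ⟨g, hg⟩ : ∃ g : Module.End ℤ_[3] M, g = -((f + 3 • (1 : Module.End ℤ_[3] M)) * E) :=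
    ⟨_, rfl⟩
  have hfg : f * g = ((3 : ℕ) : ℤ_[3]) • E := by
    rw [Nat.cast_smul_eq_nsmul]
    have h1 : f * g = 3 • E - Nm * E := by rw [hg, hNm]; noncomm_ring
    rw [h1, hNmE, sub_zero]
  have hker : LinearMap.ker f ≤ LinearMap.ker E := by
    intro x hx
    rw [LinearMap.mem_ker] at hx ⊢
    have h1 : (f * f) x = 0 := by rw [Module.End.mul_apply, hx, map_zero]
    rw [hB'] at h1
    have h2 : (3 : ℕ) • B x = 0 := h1
    have hBx : B x = 0 := nsmul_cancel (R := ℤ_[3]) 3 (by norm_num) _ h2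
    rw [hE, hP]
    show x - (x + f x + B x) = 0
    rw [hx, hBx]
    abel
  refine ⟨fun x hx => smul_eq_zero_of_mem_torsion _ h3ne f E g hEf hfg x hx, ?_⟩
  rw [card_torsion _ h3ne f E g hEf hfg]
  -- the restriction of `f` to `N = range E`
  have hmaps : ∀ x ∈ LinearMap.range E, f x ∈ LinearMap.range E := by
    intro x _
    exact ⟨f x, by rw [← Module.End.mul_apply, hEf]⟩
  obtain ⟨f', hf'⟩ : ∃ f' : Module.End ℤ_[3] (LinearMap.range E), f' = f.restrict hmaps := ⟨_, rfl⟩
  have hf'coe : ∀ y : LinearMap.range E, ((f' y : LinearMap.range E) : M) = f (y : M) := by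
    intro y
    rw [hf']
    rfl
  have hcomap : (LinearMap.range f).comap (LinearMap.range E).subtype = LinearMap.range f' := by
    ext y
    rw [Submodule.mem_comap, LinearMap.mem_range, LinearMap.mem_range]
    constructor
    · rintro ⟨x, hx⟩
      have hx' : f x = (y : M) := hx
      refine ⟨⟨E x, ⟨x, rfl⟩⟩, Subtype.ext ?_⟩
      rw [hf'coe]
      show f (E x) = (y : M)
      rw [← Module.End.mul_apply, hfE, hx']
    · rintro ⟨z, rfl⟩
      exact ⟨(z : M), (hf'coe z).symm⟩
  -- auxiliary endomorphisms of `M`, all polynomials in `f`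
  obtain ⟨U, hU⟩ : ∃ U : Module.End ℤ_[3] M, U = -(f + 3 • (1 : Module.End ℤ_[3] M)) := ⟨_, rfl⟩
  obtain ⟨a₀, ha₀⟩ : ∃ a₀ : Module.End ℤ_[3] M, a₀ = f + 2 • (1 : Module.End ℤ_[3] M) := ⟨_, rfl⟩
  obtain ⟨b₀, hb₀⟩ : ∃ b₀ : Module.End ℤ_[3] M, b₀ = -1 - f := ⟨_, rfl⟩
  have hfU : f * U = 3 • (1 : Module.End ℤ_[3] M) - Nm := by rw [hU, hNm]; noncomm_ring
  have hUf : U * f = 3 • (1 : Module.End ℤ_[3] M) - Nm := by rw [hU, hNm]; noncomm_ring
  have hfa : f * a₀ = U + Nm := by rw [hU, hNm, ha₀]; noncomm_ring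
  have hUb : U * b₀ = f + Nm := by rw [hU, hNm, hb₀]; noncomm_ring
  have hNmy : ∀ y : LinearMap.range E, Nm (y : M) = 0 := by
    intro y
    obtain ⟨w, hw⟩ := y.2
    rw [← hw, ← Module.End.mul_apply, hNmE]
    rfl
  have hUmaps : ∀ x ∈ LinearMap.range E, U x ∈ LinearMap.range E := by
    intro x hx
    rw [hU]
    show -(f x + (3 : ℕ) • x) ∈ LinearMap.range E
    exact Submodule.neg_mem _ (Submodule.add_mem _ (hmaps x hx) (Submodule.smul_of_tower_mem _ _ hx))
  have hamaps : ∀ x ∈ LinearMap.range E, a₀ x ∈ LinearMap.range E := by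
    intro x hx
    rw [ha₀]
    show f x + (2 : ℕ) • x ∈ LinearMap.range E
    exact Submodule.add_mem _ (hmaps x hx) (Submodule.smul_of_tower_mem _ _ hx)
  have hbmaps : ∀ x ∈ LinearMap.range E, b₀ x ∈ LinearMap.range E := by
    intro x hx
    rw [hb₀]
    show -x - f x ∈ LinearMap.range E
    exact Submodule.sub_mem _ (Submodule.neg_mem _ hx) (hmaps x hx)
  have hsq := card_sq ((3 : ℕ) : ℤ_[3]) h3ne f' (U.restrict hUmaps) (a₀.restrict hamaps)
    (b₀.restrict hbmaps)
    (by
      intro y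
      apply Subtype.ext
      rw [hf'coe]
      show f (U (y : M)) = ((((3 : ℕ) : ℤ_[3]) • y : LinearMap.range E) : M)
      rw [← Module.End.mul_apply, hfU, LinearMap.sub_apply, hNmy, sub_zero, Submodule.coe_smul,
        Nat.cast_smul_eq_nsmul]
      rfl)
    (by
      intro y
      apply Subtype.ext
      show U ((f' y : LinearMap.range E) : M) = ((((3 : ℕ) : ℤ_[3]) • y : LinearMap.range E) : M)
      rw [hf'coe, ← Module.End.mul_apply, hUf, LinearMap.sub_apply, hNmy, sub_zero,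
        Submodule.coe_smul, Nat.cast_smul_eq_nsmul]
      rfl)
    (by
      intro y
      apply Subtype.ext
      rw [hf'coe]
      show U (y : M) = f (a₀ (y : M))
      rw [← Module.End.mul_apply f a₀, hfa, LinearMap.add_apply, hNmy, add_zero])
    (by
      intro y
      apply Subtype.ext
      rw [hf'coe]
      show f (y : M) = U (b₀ (y : M))
      rw [← Module.End.mul_apply U b₀, hUb, LinearMap.add_apply, hNmy, add_zero])
  rw [card_quot_range_smul 3, finrank_range_idem f E hfE hker, ← hc] at hsq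
  rw [hcomap]
  have hdvd : Nat.card (↥(LinearMap.range E) ⧸ LinearMap.range f') ∣ 3 ^ c := ⟨_, hsq.symm⟩
  obtain ⟨k, -, hk⟩ := (Nat.dvd_prime_pow Nat.prime_three).mp hdvd
  rw [hk, ← pow_add] at hsq
  have hkc : k + k = c := Nat.pow_right_injective (le_refl 2 |>.trans (by norm_num)) hsq
  exact ⟨k, by omega, hk⟩

end Cases


end Groth.Agent.R2.H91.SSRed
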