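import Mathlib.RingTheory.WittVector.Identities
import Mathlib.RingTheory.WittVector.InitTail
import Mathlib.RingTheory.WittVector.Teichmuller
import Mathlib.RingTheory.WittVector.Frobenius

/-!
# Auxiliary lemmas on Witt vectors in characteristic `p` (helper91)

* `teichmuller_add_verschiebung`: `x = [x₀] + V (x₁, x₂, …)`.
* `mul_teichmuller_coeff`: `(x * [z])ₖ = xₖ * z ^ (p ^ k)`.
-/

namespace Groth.Agent.R2.H91.WittA

open WittVector

variable {p : ℕ} [hp : Fact p.Prime] {R : Type*} [CommRing R]

/-- `x = [x₀] + V(x')` with `x' = (x₁, x₂, …)`. -/
theorem teichmuller_add_verschiebung (x : WittVector p R) :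
    x = teichmuller p (x.coeff 0) +
      verschiebung (WittVector.mk p fun k => x.coeff (k + 1)) := by
  ext k
  rw [WittVector.coeff_add_of_disjoint]
  · cases k with
    | zero => simp [teichmuller_coeff_zero, verschiebung_coeff_zero]
    | succ k =>
      rw [teichmuller_coeff_pos p _ _ (Nat.succ_pos k), verschiebung_coeff_succ, zero_add,
        WittVector.coeff_mk]
  · intro k
    cases k with
    | zero => right; exact verschiebung_coeff_zero _
    | succ k => left; exact teichmuller_coeff_pos p _ _ (Nat.succ_pos k)

variable [CharP R p]

theorem frobenius_teichmuller (z : R) :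
    frobenius (teichmuller p z) = teichmuller p (z ^ p) := by
  rw [frobenius_eq_map_frobenius, map_teichmuller]
  rfl

/-- The coefficients of a product with a Teichmüller representative. -/
theorem mul_teichmuller_coeff (k : ℕ) : ∀ (x : WittVector p R) (z : R),
    (x * teichmuller p z).coeff k = x.coeff k * z ^ p ^ k := by
  induction k with
  | zero =>
    intro x z
    rw [mul_coeff_zero, teichmuller_coeff_zero, pow_zero, pow_one]
  | succ k ih =>
    intro x z
    set x' : WittVector p R := WittVector.mk p fun k => x.coeff (k + 1) with hx'
    have hx : x = teichmuller p (x.coeff 0) + verschiebung x' := teichmuller_add_verschiebung x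
    have hmul : x * teichmuller p z =
        teichmuller p (x.coeff 0 * z) + verschiebung (x' * teichmuller p (z ^ p)) := by
      conv_lhs => rw [hx]
      rw [add_mul, ← map_mul, ← frobenius_teichmuller, verschiebung_mul_frobenius]
    rw [hmul, WittVector.coeff_add_of_disjoint]
    · rw [teichmuller_coeff_pos p _ _ (Nat.succ_pos k), verschiebung_coeff_succ, zero_add, ih,
        hx', WittVector.coeff_mk, ← pow_mul, pow_succ']
    · intro j
      cases j with
      | zero => right; exact verschiebung_coeff_zero _
      | succ j => left; exact teichmuller_coeff_pos p _ _ (Nat.succ_pos j)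

/-- A Witt vector whose `k`-th coefficient is a multiple `c k * z ^ (p ^ k)` is a multiple of `[z]`. -/
theorem eq_mk_mul_teichmuller (w : WittVector p R) (z : R) (c : ℕ → R)
    (h : ∀ k, w.coeff k = c k * z ^ p ^ k) :
    w = WittVector.mk p c * teichmuller p z := by
  ext k
  rw [mul_teichmuller_coeff, WittVector.coeff_mk, h]

theorem teichmuller_mul_coeff (k : ℕ) (x : WittVector p R) (z : R) :
    (teichmuller p z * x).coeff k = z ^ p ^ k * x.coeff k := by
  rw [mul_comm, mul_teichmuller_coeff, mul_comm]

theorem iterate_frobenius_teichmuller (n : ℕ) (z : R) :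
    (frobenius^[n]) (teichmuller p z) = teichmuller p (z ^ p ^ n) := by
  induction n generalizing z with
  | zero => simp
  | succ n ih =>
    rw [Function.iterate_succ_apply, frobenius_teichmuller, ih, ← pow_mul, pow_succ']

end Groth.Agent.R2.H91.WittA
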