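import Groth.Agent.R2.H91WittA
import Mathlib.RingTheory.WittVector.Domain
import Mathlib.Algebra.BigOperators.Group.Finset.Basic

/-!
# Decomposing a Witt vector into "homogeneous" Witt vectors (helper91)

Let `Γ` be a finite type with a bijection `μ : Γ → Γ` and let `S : Γ → Set B` be subsets of a ring
`B` such that every element of `B` is a sum `∑ γ, c γ` with `c γ ∈ S γ`.  Then every Witt vector
`ω` over `B` is a finite sum `∑ γ, Ω γ` where the `k`-th coefficient of `Ω γ` lies in `S (μ^[k] γ)`.
-/

namespace Groth.Agent.R2.H91.WittB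

open WittVector

variable {p : ℕ} [hp : Fact p.Prime] {B : Type*} [CommRing B]
variable {Γ : Type*} [Fintype Γ]

section Decomp

variable (dec : B → Γ → B) (hdec : ∀ b, ∑ γ, dec b γ = b)

/-- One step: subtract the Teichmüller representatives of the pieces of the zeroth coefficient and
divide by `V`. -/
noncomputable def next (ω : WittVector p B) : WittVector p B :=
  (ω - ∑ γ, teichmuller p (dec (ω.coeff 0) γ)).shift 1

include hdec in
theorem eq_sum_add_verschiebung_next (ω : WittVector p B) :
    ω = ∑ γ, teichmuller p (dec (ω.coeff 0) γ) + verschiebung (next (p := p) dec ω) := by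
  have h0 : ∀ i < 1, (ω - ∑ γ, teichmuller p (dec (ω.coeff 0) γ)).coeff i = 0 := by
    intro i hi
    obtain rfl : i = 0 := by omega
    have : (ω - ∑ γ, teichmuller p (dec (ω.coeff 0) γ)).coeff 0 =
        constantCoeff (ω - ∑ γ, teichmuller p (dec (ω.coeff 0) γ)) := rfl
    rw [this, map_sub, map_sum]
    simp only [constantCoeff_apply, teichmuller_coeff_zero]
    rw [hdec, sub_self]
  have h1 := eq_iterate_verschiebung h0
  rw [Function.iterate_one] at h1
  unfold next
  rw [← h1]; ring

/-- The `γ`-component of the decomposition of `ω` (depending on a bijection `μ`). -/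
noncomputable def comp (μ : Γ → Γ) (ω : WittVector p B) (γ : Γ) : WittVector p B :=
  WittVector.mk p fun k => dec (((next (p := p) dec)^[k] ω).coeff 0) (μ^[k] γ)

theorem comp_coeff (μ : Γ → Γ) (ω : WittVector p B) (γ : Γ) (k : ℕ) :
    (comp (p := p) dec μ ω γ).coeff k = dec (((next (p := p) dec)^[k] ω).coeff 0) (μ^[k] γ) :=
  rfl

theorem comp_eq (μ : Γ → Γ) (ω : WittVector p B) (γ : Γ) :
    comp (p := p) dec μ ω γ = teichmuller p (dec (ω.coeff 0) γ) +
      verschiebung (comp (p := p) dec μ (next (p := p) dec ω) (μ γ)) := by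
  ext k
  rw [WittVector.coeff_add_of_disjoint]
  · cases k with
    | zero =>
      rw [comp_coeff, teichmuller_coeff_zero, verschiebung_coeff_zero, add_zero]
      rfl
    | succ k =>
      rw [teichmuller_coeff_pos p _ _ (Nat.succ_pos k), verschiebung_coeff_succ, zero_add,
        comp_coeff, comp_coeff, Function.iterate_succ_apply, Function.iterate_succ_apply]
  · intro k
    cases k with
    | zero => right; exact verschiebung_coeff_zero _
    | succ k => left; exact teichmuller_coeff_pos p _ _ (Nat.succ_pos k)

include hdec in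
theorem sub_sum_comp_coeff (μ : Γ → Γ) (hμ : Function.Bijective μ) (N : ℕ) :
    ∀ (ω : WittVector p B), ∀ k < N, (ω - ∑ γ, comp (p := p) dec μ ω γ).coeff k = 0 := by
  induction N with
  | zero => intro ω k hk; omega
  | succ N ih =>
    intro ω k hk
    have h1 : ω - ∑ γ, comp (p := p) dec μ ω γ =
        verschiebung (next (p := p) dec ω -
          ∑ γ, comp (p := p) dec μ (next (p := p) dec ω) γ) := by
      have hsum : ∑ γ, comp (p := p) dec μ (next (p := p) dec ω) γ =
          ∑ γ, comp (p := p) dec μ (next (p := p) dec ω) (μ γ) :=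
        (Fintype.sum_bijective μ hμ _ _ (fun _ => rfl)).symm
      rw [hsum]
      have hω := eq_sum_add_verschiebung_next (p := p) dec hdec ω
      have h2 : ∀ γ, comp (p := p) dec μ ω γ = teichmuller p (dec (ω.coeff 0) γ) +
          verschiebung (comp (p := p) dec μ (next (p := p) dec ω) (μ γ)) :=
        fun γ => comp_eq (p := p) dec μ ω γ
      rw [Finset.sum_congr rfl (fun γ _ => h2 γ), Finset.sum_add_distrib, map_sub, map_sum]
      calc ω - (∑ γ, teichmuller p (dec (ω.coeff 0) γ) +
            ∑ γ, verschiebung (comp (p := p) dec μ (next (p := p) dec ω) (μ γ)))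
          = (ω - ∑ γ, teichmuller p (dec (ω.coeff 0) γ)) -
            ∑ γ, verschiebung (comp (p := p) dec μ (next (p := p) dec ω) (μ γ)) := by ring
        _ = verschiebung (next (p := p) dec ω) -
            ∑ γ, verschiebung (comp (p := p) dec μ (next (p := p) dec ω) (μ γ)) := by
          congr 1
          rw [sub_eq_iff_eq_add']
          exact hω
    rw [h1]
    cases k with
    | zero => exact verschiebung_coeff_zero _
    | succ k =>
      rw [verschiebung_coeff_succ]
      exact ih _ k (by omega)

include hdec in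
theorem sum_comp (μ : Γ → Γ) (hμ : Function.Bijective μ) (ω : WittVector p B) :
    ∑ γ, comp (p := p) dec μ ω γ = ω := by
  have h : ω - ∑ γ, comp (p := p) dec μ ω γ = 0 := by
    ext k
    rw [sub_sum_comp_coeff (p := p) dec hdec μ hμ (k + 1) ω k (Nat.lt_succ_self k), zero_coeff]
  exact (sub_eq_zero.mp h).symm

end Decomp

/-- Every Witt vector is a finite sum of Witt vectors `Ω γ` whose `k`-th coefficient lies in
`S (μ^[k] γ)`, provided every element of `B` is a sum of elements of the `S γ`. -/
theorem exists_decomposition (S : Γ → Set B) (μ : Γ → Γ) (hμ : Function.Bijective μ)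
    (hS : ∀ b : B, ∃ c : Γ → B, (∀ γ, c γ ∈ S γ) ∧ ∑ γ, c γ = b) (ω : WittVector p B) :
    ∃ Ω : Γ → WittVector p B, (∀ γ k, (Ω γ).coeff k ∈ S (μ^[k] γ)) ∧ ∑ γ, Ω γ = ω := by
  choose dec hdec1 hdec2 using hS
  refine ⟨comp (p := p) dec μ ω, ?_, sum_comp (p := p) dec hdec2 μ hμ ω⟩
  intro γ k
  rw [comp_coeff]
  exact hdec1 _ _

end Groth.Agent.R2.H91.WittB
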