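import Groth.Agent.R2.H91WittB
import Mathlib.Data.ZMod.Basic
import Mathlib.LinearAlgebra.Span.Basic
import Mathlib.RingTheory.Ideal.Span
import Mathlib.Tactic

/-!
# Weakly `ℓ`-cyclic extensions and Witt vectors (helper91)

`A → B` a map of commutative rings of characteristic `p`, `B` spanned over `A` by finitely many
elements `b i` with `b i ^ ℓ = f (a i)`, `p ∤ ℓ`.  Main result `teichmuller_mul_iterate_verschiebung_mem`:
with `aa = ∏ a i`, for every Witt vector `η` over `B` the product `[f aa] * V^n η` lies in the ideal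
of `W(B)` generated by the `W(f)(V^n x)`, `x ∈ W(A)`.
-/

namespace Groth.Agent.R2.H91.WittC

open WittVector

section Monomials

variable {A B : Type*} [CommRing A] [CommRing B] (f : A →+* B)
variable {ι : Type*} [Fintype ι] (ℓ : ℕ) [NeZero ℓ]
variable (b : ι → B) (a : ι → A)

/-- The monomial `∏ b i ^ (γ i).val`. -/
noncomputable def z (γ : ι → ZMod ℓ) : B := ∏ i, b i ^ (γ i).val

theorem pow_eq_of_pow_eq {x : B} {α : A} (h : f α = x ^ ℓ) (s : ℕ) :
    x ^ s = f α ^ (s / ℓ) * x ^ (s % ℓ) := by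
  conv_lhs => rw [← Nat.div_add_mod s ℓ]
  rw [pow_add, pow_mul, h]

theorem nsmul_val (m : ℕ) (g : ZMod ℓ) : (m • g).val = (m * g.val) % ℓ := by
  rw [nsmul_eq_mul, ZMod.val_mul, ZMod.val_natCast, Nat.mod_mul_mod]

variable (hab : ∀ i, f (a i) = b i ^ ℓ)

include hab in
/-- `f(∏ a)^m * z (m • γ) ∈ f(A) * (z γ)^m`. -/
theorem exists_pow_mul_z (m : ℕ) (γ : ι → ZMod ℓ) :
    ∃ c : A, f (∏ i, a i) ^ m * z ℓ b (m • γ) = f c * z ℓ b γ ^ m := by
  refine ⟨∏ i, a i ^ (m - (m * (γ i).val) / ℓ), ?_⟩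
  unfold z
  rw [map_prod, ← Finset.prod_pow, ← Finset.prod_mul_distrib, map_prod, ← Finset.prod_pow,
    ← Finset.prod_mul_distrib]
  refine Finset.prod_congr rfl fun i _ => ?_
  have hv : (γ i).val < ℓ := ZMod.val_lt _
  have hq : (m * (γ i).val) / ℓ ≤ m := by
    apply Nat.div_le_of_le_mul
    rw [mul_comm ℓ m]
    exact Nat.mul_le_mul_left m hv.le
  rw [Pi.smul_apply, nsmul_val, map_pow, ← pow_mul, mul_comm (γ i).val m,
    pow_eq_of_pow_eq f ℓ (hab i) (m * (γ i).val)]
  rw [← mul_assoc, ← pow_add, Nat.sub_add_cancel hq]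

end Monomials

section Main

variable {p : ℕ} [hp : Fact p.Prime] {A B : Type*} [CommRing A] [CommRing B] [CharP B p]
variable (f : A →+* B)
variable {ι : Type*} [Fintype ι] (ℓ : ℕ) [NeZero ℓ] (hpℓ : ¬ p ∣ ℓ)
variable (b : ι → B) (a : ι → A) (hab : ∀ i, f (a i) = b i ^ ℓ)
variable [DecidableEq ι]

include hpℓ in
theorem exists_inv : ∃ e : ℕ, ((e * p : ℕ) : ZMod ℓ) = 1 := by
  have hcop : Nat.Coprime p ℓ := (Nat.Prime.coprime_iff_not_dvd hp.out).mpr hpℓ
  refine ⟨((p : ZMod ℓ)⁻¹).val, ?_⟩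
  rw [Nat.cast_mul, ZMod.natCast_zmod_val, mul_comm]
  exact ZMod.coe_mul_inv_eq_one p hcop

theorem nsmul_eq_self_of_cast_eq_one {m : ℕ} (hm : (m : ZMod ℓ) = 1) (γ : ι → ZMod ℓ) :
    m • γ = γ := by
  funext i
  rw [Pi.smul_apply, nsmul_eq_mul, hm, one_mul]

theorem iterate_nsmul (k : ℕ) (γ : ι → ZMod ℓ) :
    (fun δ : ι → ZMod ℓ => p • δ)^[k] γ = p ^ k • γ := by
  induction k with
  | zero => simp
  | succ k ih => rw [Function.iterate_succ_apply', ih, ← mul_nsmul', pow_succ']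

include hpℓ in
theorem bijective_nsmul : Function.Bijective (fun δ : ι → ZMod ℓ => p • δ) := by
  obtain ⟨e, he⟩ := exists_inv (p := p) ℓ hpℓ
  have hinj : Function.Injective (fun δ : ι → ZMod ℓ => p • δ) := by
    intro γ δ h
    have h' : e • (p • γ) = e • (p • δ) := congrArg (fun x => e • x) h
    rwa [← mul_nsmul', ← mul_nsmul', nsmul_eq_self_of_cast_eq_one ℓ he,
      nsmul_eq_self_of_cast_eq_one ℓ he] at h'
  exact Finite.injective_iff_bijective.mp hinj

/-- The piece `A · z γ` as a subset of `B`. -/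
def piece (γ : ι → ZMod ℓ) : Set B := {x | ∃ c : A, x = f c * z ℓ b γ}

include hab in
theorem gen_mem_piece (i : ι) : b i ∈ piece f ℓ b (Pi.single i 1) := by
  classical
  have hz : z ℓ b (Pi.single i 1) = b i ^ (1 % ℓ) := by
    unfold z
    rw [Finset.prod_eq_single i]
    · rw [Pi.single_eq_same, ZMod.val_one_eq_one_mod]
    · intro j _ hj
      rw [Pi.single_eq_of_ne hj, ZMod.val_zero, pow_zero]
    · intro h; exact absurd (Finset.mem_univ i) h
  by_cases hℓ : ℓ = 1
  · refine ⟨a i, ?_⟩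
    rw [hz, hab i, hℓ]
    simp
  · refine ⟨1, ?_⟩
    have : 1 % ℓ = 1 := Nat.mod_eq_of_lt (by have := NeZero.pos ℓ; omega)
    rw [hz, this, map_one, one_mul, pow_one]

include hab in
/-- Every element of the `A`-span of the `b i` is a sum of elements of the pieces. -/
theorem exists_sum_pieces [Algebra A B] (hf : f = algebraMap A B)
    (hspan : Submodule.span A (Set.range b) = ⊤) (x : B) :
    ∃ c : (ι → ZMod ℓ) → B, (∀ γ, c γ ∈ piece f ℓ b γ) ∧ ∑ γ, c γ = x := by
  classical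
  have hx : x ∈ Submodule.span A (Set.range b) := by rw [hspan]; trivial
  induction hx using Submodule.span_induction with
  | mem x hx =>
    obtain ⟨i, rfl⟩ := hx
    refine ⟨(Pi.single (Pi.single i 1) (b i) : (ι → ZMod ℓ) → B), ?_, ?_⟩
    · intro γ
      by_cases hγ : γ = Pi.single i 1
      · subst hγ
        rw [Pi.single_eq_same]
        exact gen_mem_piece f ℓ b a hab i
      · rw [Pi.single_eq_of_ne hγ]
        exact ⟨0, by rw [map_zero, zero_mul]⟩
    · rw [Finset.sum_pi_single']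
      simp
  | zero =>
    exact ⟨fun _ => 0, fun γ => ⟨0, by rw [map_zero, zero_mul]⟩, by simp⟩
  | add x y _ _ hx hy =>
    obtain ⟨c, hc, hcx⟩ := hx
    obtain ⟨d, hd, hdy⟩ := hy
    refine ⟨fun γ => c γ + d γ, ?_, by rw [Finset.sum_add_distrib, hcx, hdy]⟩
    intro γ
    obtain ⟨u, hu⟩ := hc γ
    obtain ⟨v, hv⟩ := hd γ
    exact ⟨u + v, by show c γ + d γ = _; rw [hu, hv, map_add, add_mul]⟩
  | smul r x _ hx =>
    obtain ⟨c, hc, hcx⟩ := hx
    refine ⟨fun γ => r • c γ, ?_, by rw [← Finset.smul_sum, hcx]⟩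
    intro γ
    obtain ⟨u, hu⟩ := hc γ
    exact ⟨r * u, by show r • c γ = _; rw [hu, Algebra.smul_def, ← hf, map_mul, mul_assoc]⟩

include hab hpℓ in
/-- Key step: a Witt vector whose `k`-th coefficient lies in the piece of `p^k • γ`, multiplied by
`[f(∏ a)^(p^n)]`, is `W(f)(x) * F^n [w]`. -/
theorem exists_eq_map_mul_frobenius (n : ℕ) (γ : ι → ZMod ℓ) (Ω : WittVector p B)
    (hΩ : ∀ k, Ω.coeff k ∈ piece f ℓ b (p ^ k • γ)) :
    ∃ (x : WittVector p A) (w : B),
      teichmuller p (f (∏ i, a i) ^ p ^ n) * Ω =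
        WittVector.map f x * (frobenius^[n]) (teichmuller p w) := by
  obtain ⟨e, he⟩ := exists_inv (p := p) ℓ hpℓ
  have hen : (((e * p) ^ n : ℕ) : ZMod ℓ) = 1 := by
    rw [Nat.cast_pow, he, one_pow]
  set γ' : ι → ZMod ℓ := e ^ n • γ with hγ'
  have hγ : ∀ k, p ^ (n + k) • γ' = p ^ k • γ := by
    intro k
    rw [hγ', ← mul_nsmul']
    have : p ^ (n + k) * e ^ n = p ^ k * (e * p) ^ n := by ring
    rw [this, mul_nsmul', nsmul_eq_self_of_cast_eq_one ℓ hen]
  choose c hc using hΩ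
  choose c' hc' using fun k => exists_pow_mul_z f ℓ b a hab (p ^ (n + k)) γ'
  refine ⟨WittVector.mk p fun k => c' k * c k, z ℓ b γ', ?_⟩
  rw [WittA.iterate_frobenius_teichmuller]
  ext k
  rw [WittA.teichmuller_mul_coeff, WittA.mul_teichmuller_coeff, WittVector.map_coeff,
    WittVector.coeff_mk, hc k, ← hγ k, map_mul, ← pow_mul, ← pow_mul, ← pow_add]
  calc f (∏ i, a i) ^ p ^ (n + k) * (f (c k) * z ℓ b (p ^ (n + k) • γ'))
      = f (c k) * (f (∏ i, a i) ^ p ^ (n + k) * z ℓ b (p ^ (n + k) • γ')) := by ring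
    _ = f (c k) * (f (c' k) * z ℓ b γ' ^ p ^ (n + k)) := by rw [hc' k]
    _ = f (c' k) * f (c k) * z ℓ b γ' ^ p ^ (n + k) := by ring

omit [Fintype ι] [NeZero ℓ] [DecidableEq ι] [CharP B p] in
theorem iterate_verschiebung_sum {κ : Type*} (n : ℕ) (s : Finset κ) (g : κ → WittVector p B) :
    (verschiebung^[n]) (∑ γ ∈ s, g γ) = ∑ γ ∈ s, (verschiebung^[n]) (g γ) := by
  induction n with
  | zero => rfl
  | succ n ih =>
    simp only [Function.iterate_succ_apply', ih, map_sum]

omit [Fintype ι] [NeZero ℓ] [DecidableEq ι] [CharP B p] in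
theorem map_iterate_verschiebung (n : ℕ) (x : WittVector p A) :
    (verschiebung^[n]) (WittVector.map f x) = WittVector.map f ((verschiebung^[n]) x) := by
  induction n with
  | zero => rfl
  | succ n ih =>
    rw [Function.iterate_succ_apply', Function.iterate_succ_apply', map_verschiebung, ih]

include hab hpℓ in
/-- Main result. -/
theorem teichmuller_mul_iterate_verschiebung_mem [Algebra A B] (hf : f = algebraMap A B)
    (hspan : Submodule.span A (Set.range b) = ⊤) (n : ℕ) (η : WittVector p B) :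
    teichmuller p (f (∏ i, a i)) * (verschiebung^[n]) η ∈
      Ideal.span (Set.range fun x : WittVector p A =>
        WittVector.map f ((verschiebung^[n]) x)) := by
  classical
  obtain ⟨Ω, hΩ, hsum⟩ := WittB.exists_decomposition (p := p)
    (piece f ℓ b) (fun δ : ι → ZMod ℓ => p • δ) (bijective_nsmul (p := p) ℓ hpℓ)
    (exists_sum_pieces f ℓ b a hab hf hspan) η
  have hΩ' : ∀ γ k, (Ω γ).coeff k ∈ piece f ℓ b (p ^ k • γ) := by
    intro γ k
    rw [← iterate_nsmul (p := p) ℓ k γ]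
    exact hΩ γ k
  choose x w hxw using fun γ =>
    exists_eq_map_mul_frobenius (p := p) f ℓ hpℓ b a hab n γ (Ω γ) (hΩ' γ)
  have h1 : teichmuller p (f (∏ i, a i)) * (verschiebung^[n]) η =
      ∑ γ, WittVector.map f ((verschiebung^[n]) (x γ)) * teichmuller p (w γ) := by
    rw [mul_comm, iterate_verschiebung_mul_left, WittA.iterate_frobenius_teichmuller, ← hsum,
      Finset.sum_mul]
    rw [iterate_verschiebung_sum]
    refine Finset.sum_congr rfl fun γ _ => ?_
    rw [mul_comm (Ω γ), hxw γ, ← iterate_verschiebung_mul_left, map_iterate_verschiebung]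
  rw [h1]
  refine Ideal.sum_mem _ fun γ _ => Ideal.mul_mem_right _ _ (Ideal.subset_span ⟨x γ, rfl⟩)

end Main

end Groth.Agent.R2.H91.WittC
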