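import Mathlib
import Groth.Prelude.Def_BlowUp2
import Groth.Agent.Lib.Helper22FTIdeal
import Groth.Agent.Lib.Helper20EffCartier

/-!
# Colon ideal sheaves (helper92)

* `map_colon_of_fg`: colon ideals commute with localization when the "denominator" is f.g.
* `fg_of_isEffCartierIdeal`: an effective Cartier ideal sheaf is of finite type.
* `colon I J hJ`: the colon ideal sheaf `(I : J)` for `J` of finite type; `le_colon_iff`.
-/

set_option autoImplicit false
universe u

open CategoryTheory AlgebraicGeometry TopologicalSpace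

namespace Groth.Agent.R2.H92.Colon

section Algebra

variable {R S : Type*} [CommRing R] [CommRing S] [Algebra R S]

/-- colon ideals commute with localization when the second ideal is finitely generated. -/
theorem map_colon_of_fg (M : Submonoid R) [IsLocalization M S] (I J : Ideal R) (hJ : J.FG) :
    (I.colon (J : Set R)).map (algebraMap R S) =
      (I.map (algebraMap R S)).colon ((J.map (algebraMap R S) : Ideal S) : Set S) := by
  apply le_antisymm
  · rw [Ideal.map_le_iff_le_comap]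
    intro x hx
    rw [Ideal.mem_comap]
    change _ ∈ Submodule.colon _ ((Ideal.span (algebraMap R S '' (J : Set R)) : Ideal S) : Set S)
    rw [Ideal.colon_span, Submodule.mem_colon]
    rintro _ ⟨y, hy, rfl⟩
    rw [smul_eq_mul, ← map_mul]
    exact Ideal.mem_map_of_mem _ (Submodule.mem_colon.mp hx y hy)
  · intro z hz
    obtain ⟨⟨x, m⟩, hxm⟩ := IsLocalization.surj M z
    have hx : algebraMap R S x ∈
        (I.map (algebraMap R S)).colon ((J.map (algebraMap R S) : Ideal S) : Set S) := by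
      rw [← hxm]
      exact Ideal.mul_mem_right _ _ hz
    obtain ⟨T, hT⟩ := hJ
    have key : ∀ y ∈ T, ∃ c ∈ M, c * (x * y) ∈ I := by
      intro y hy
      have hyJ : y ∈ J := hT ▸ Ideal.subset_span hy
      have : algebraMap R S (x * y) ∈ I.map (algebraMap R S) := by
        rw [map_mul]
        exact Submodule.mem_colon.mp hx _ (Ideal.mem_map_of_mem _ hyJ)
      exact (IsLocalization.algebraMap_mem_map_algebraMap_iff M S _ _).mp this
    choose! c hcM hc using key
    classical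
    have hdM : (∏ y ∈ T, c y) ∈ M := prod_mem hcM
    have hd : (∏ y ∈ T, c y) * x ∈ I.colon (J : Set R) := by
      rw [← hT, Ideal.colon_span, Submodule.mem_colon]
      intro y hy
      rw [smul_eq_mul, ← Finset.mul_prod_erase T c hy]
      have : (c y * ∏ y' ∈ T.erase y, c y') * x * y =
          (∏ y' ∈ T.erase y, c y') * (c y * (x * y)) := by
        ring
      rw [this]
      exact I.mul_mem_left _ (hc y hy)
    have hunit : IsUnit (algebraMap R S ((∏ y ∈ T, c y) * m)) :=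
      IsLocalization.map_units S (⟨(∏ y ∈ T, c y) * m, M.mul_mem hdM m.2⟩ : M)
    have hz' : z * algebraMap R S ((∏ y ∈ T, c y) * m) = algebraMap R S ((∏ y ∈ T, c y) * x) := by
      rw [map_mul, map_mul, ← hxm]
      ring
    have : z = algebraMap R S ((∏ y ∈ T, c y) * x) * ((hunit.unit⁻¹ : Sˣ) : S) := by
      rw [← hz', mul_assoc]
      have : algebraMap R S ((∏ y ∈ T, c y) * m) * ((hunit.unit⁻¹ : Sˣ) : S) = 1 :=
        hunit.mul_val_inv
      rw [this, mul_one]
    rw [this]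
    exact Ideal.mul_mem_right _ _ (Ideal.mem_map_of_mem _ hd)

open nonZeroDivisors in
/-- Two principal ideals `(f₁)`, `(f₂)` generated by nonzerodivisors whose sum is a principal ideal
`(e)`: then `fᵢ = gᵢ e` with `(g₁, g₂) = 1`, `((fᵢ) : (e)) = (gᵢ)` and
`(f₁) ∩ (f₂) ⊆ (g₁ g₂ e)`. -/
theorem coprime_residual {R : Type*} [CommRing R] {e f₁ f₂ : R} (hf₁ : f₁ ∈ R⁰) (hf₂ : f₂ ∈ R⁰)
    (h : Ideal.span {e} = Ideal.span {f₁} ⊔ Ideal.span {f₂}) :
    ∃ g₁ g₂ : R, g₁ ∈ R⁰ ∧ g₂ ∈ R⁰ ∧ e ∈ R⁰ ∧ f₁ = g₁ * e ∧ f₂ = g₂ * e ∧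
      Ideal.span {g₁} ⊔ Ideal.span {g₂} = ⊤ ∧
      (Ideal.span {f₁}).colon ((Ideal.span {e} : Ideal R) : Set R) = Ideal.span {g₁} ∧
      (Ideal.span {f₂}).colon ((Ideal.span {e} : Ideal R) : Set R) = Ideal.span {g₂} ∧
      Ideal.span {f₁} ⊓ Ideal.span {f₂} ≤ Ideal.span {g₁ * g₂ * e} := by
  have h1 : f₁ ∈ Ideal.span {e} := h ▸ Ideal.mem_sup_left (Ideal.mem_span_singleton_self f₁)
  have h2 : f₂ ∈ Ideal.span {e} := h ▸ Ideal.mem_sup_right (Ideal.mem_span_singleton_self f₂)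
  obtain ⟨g₁, hg₁⟩ := Ideal.mem_span_singleton'.mp h1
  obtain ⟨g₂, hg₂⟩ := Ideal.mem_span_singleton'.mp h2
  have he : e ∈ Ideal.span {f₁} ⊔ Ideal.span {f₂} := h ▸ Ideal.mem_span_singleton_self e
  obtain ⟨_, ha, _, hb, hab⟩ := Submodule.mem_sup.mp he
  obtain ⟨a, rfl⟩ := Ideal.mem_span_singleton'.mp ha
  obtain ⟨b, rfl⟩ := Ideal.mem_span_singleton'.mp hb
  have hg₁e : g₁ ∈ R⁰ ∧ e ∈ R⁰ := mul_mem_nonZeroDivisors.mp (hg₁ ▸ hf₁)
  have hg₂e : g₂ ∈ R⁰ ∧ e ∈ R⁰ := mul_mem_nonZeroDivisors.mp (hg₂ ▸ hf₂)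
  have hcancel : ∀ {x y : R}, x * e = y * e → x = y := fun {x y} hxy =>
    (mul_cancel_right_mem_nonZeroDivisors hg₁e.2).mp hxy
  have hone : a * g₁ + b * g₂ = 1 := by
    apply hcancel
    calc (a * g₁ + b * g₂) * e = a * (g₁ * e) + b * (g₂ * e) := by ring
      _ = e := by rw [hg₁, hg₂, hab]
      _ = 1 * e := (one_mul e).symm
  have hcolon : ∀ {f g : R}, g * e = f →
      (Ideal.span {f}).colon ((Ideal.span {e} : Ideal R) : Set R) = Ideal.span {g} := by
    intro f g hg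
    ext x
    rw [Ideal.mem_colon_span_singleton, Ideal.mem_span_singleton', Ideal.mem_span_singleton']
    constructor
    · rintro ⟨c, hc⟩
      refine ⟨c, hcancel ?_⟩
      rw [← hc, ← hg]
      ring
    · rintro ⟨c, rfl⟩
      exact ⟨c, by rw [← hg]; ring⟩
  refine ⟨g₁, g₂, hg₁e.1, hg₂e.1, hg₁e.2, hg₁.symm, hg₂.symm, ?_, hcolon hg₁, hcolon hg₂, ?_⟩
  · rw [Ideal.eq_top_iff_one, ← hone]
    exact add_mem (Ideal.mem_sup_left (Ideal.mem_span_singleton'.mpr ⟨a, rfl⟩))
      (Ideal.mem_sup_right (Ideal.mem_span_singleton'.mpr ⟨b, rfl⟩))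
  · rintro d ⟨hd1, hd2⟩
    obtain ⟨x, hx⟩ := Ideal.mem_span_singleton'.mp hd1
    obtain ⟨y, hy⟩ := Ideal.mem_span_singleton'.mp hd2
    have hxy : x * g₁ = y * g₂ := by
      apply hcancel
      rw [mul_assoc, mul_assoc, hg₁, hg₂, hx, hy]
    have hx' : x = g₂ * (a * y + b * x) := by
      calc x = x * (a * g₁ + b * g₂) := by rw [hone, mul_one]
        _ = a * (x * g₁) + b * g₂ * x := by ring
        _ = a * (y * g₂) + b * g₂ * x := by rw [hxy]
        _ = g₂ * (a * y + b * x) := by ring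
    rw [Ideal.mem_span_singleton']
    refine ⟨a * y + b * x, ?_⟩
    rw [← hx, ← hg₁]
    conv_rhs => rw [hx']
    ring

end Algebra

section Sheaf

open Groth.Agent.Lib.Helper22.FTIdeal Groth.Agent.Lib.Helper20.EffCartier

variable {X : Scheme.{u}}

/-- An effective Cartier ideal sheaf is of finite type. -/
theorem ft_of_isEffCartierIdeal {E : X.IdealSheafData} (hE : BlowUp.IsEffCartierIdeal E) : FT E := by
  intro W
  have key : ∀ x : W.1, ∃ r : Γ(X, W.1), x.1 ∈ X.basicOpen r ∧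
      (E.ideal (X.affineBasicOpen r)).FG := by
    intro ⟨x, hx⟩
    obtain ⟨U, hU, hxU, hUW, f, -, hf⟩ := exists_le_of_isEffCartierIdeal hE x W.1 hx
    obtain ⟨r, hr, hxr⟩ := W.2.exists_basicOpen_le (V := U) ⟨x, hxU⟩ hx
    refine ⟨r, hxr, ?_⟩
    have hle : X.affineBasicOpen r ≤ (⟨U, hU⟩ : X.affineOpens) := hr
    rw [← E.map_ideal hle, hf, Ideal.map_span, Set.image_singleton]
    exact Submodule.fg_span_singleton _
  choose r hxr hr using key
  have hspan : Ideal.span (Set.range r) = ⊤ := by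
    rw [← W.2.self_le_iSup_basicOpen_iff]
    exact fun x hxW ↦ Opens.mem_iSup.mpr ⟨⟨_, ⟨x, hxW⟩, rfl⟩, hxr ⟨x, hxW⟩⟩
  have inst := W.2.isLocalization_basicOpen
  refine fg_of_span_isLocalization _ _ hspan (fun g => Γ(X, X.basicOpen g.1)) ?_
  rintro ⟨_, x, rfl⟩
  have hle : X.affineBasicOpen (r x) ≤ W := X.affineBasicOpen_le (r x)
  have hmap := E.map_ideal hle
  have := hr x
  rw [← hmap] at this
  exact this

/-- The colon ideal sheaf `(I : J)`, for `J` of finite type. -/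
noncomputable def colon (I J : X.IdealSheafData) (hJ : FT J) : X.IdealSheafData where
  ideal U := (I.ideal U).colon ((J.ideal U : Ideal Γ(X, U.1)) : Set Γ(X, U.1))
  map_ideal_basicOpen U f := by
    have inst := U.2.isLocalization_basicOpen f
    have h1 : (X.presheaf.map (homOfLE (X.basicOpen_le f)).op).hom = algebraMap _ _ := rfl
    rw [h1, map_colon_of_fg (Submonoid.powers f) _ _ (hJ U), ← h1, I.map_ideal_basicOpen,
      J.map_ideal_basicOpen]
    rfl

@[simp] lemma ideal_colon (I J : X.IdealSheafData) (hJ : FT J) (U : X.affineOpens) :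
    (colon I J hJ).ideal U = (I.ideal U).colon ((J.ideal U : Ideal Γ(X, U.1)) : Set Γ(X, U.1)) :=
  rfl

lemma le_colon_iff {I J K : X.IdealSheafData} (hJ : FT J) : K ≤ colon I J hJ ↔ K * J ≤ I := by
  constructor
  · intro h U
    change K.ideal U * J.ideal U ≤ I.ideal U
    rw [Ideal.mul_le]
    intro a ha b hb
    exact Submodule.mem_colon.mp (h U ha) b hb
  · intro h U a ha
    rw [ideal_colon, Submodule.mem_colon]
    intro b hb
    exact h U (Ideal.mul_mem_mul ha hb)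

lemma colon_mul_le (I J : X.IdealSheafData) (hJ : FT J) : colon I J hJ * J ≤ I :=
  (le_colon_iff hJ).mp le_rfl

open nonZeroDivisors in
/-- restriction to a smaller affine open preserves nonzerodivisors. -/
lemma res_mem_nonZeroDivisors {U V : X.affineOpens} (h : U ≤ V) {f : Γ(X, V.1)}
    (hf : f ∈ Γ(X, V.1)⁰) :
    (X.presheaf.map (homOfLE (X := X.Opens) h).op).hom f ∈ Γ(X, U.1)⁰ := by
  have hflat : (X.presheaf.map (homOfLE (X := X.Opens) h).op).hom.Flat := by
    have := (𝟙 X : X ⟶ X).flat_appLE V.2 U.2 (by simpa using h)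
    have e : (𝟙 X : X ⟶ X).appLE V.1 U.1 (by simpa using h) =
        X.presheaf.map (homOfLE (X := X.Opens) h).op := by
      simp only [Scheme.Hom.appLE, Scheme.Hom.id_app]
      exact Category.id_comp _
    rwa [e] at this
  algebraize [(X.presheaf.map (homOfLE (X := X.Opens) h).op).hom]
  have := Module.Flat.isSMulRegular_of_nonZeroDivisors (M := Γ(X, U.1)) hf
  rw [mem_nonZeroDivisors_iff_right]
  intro z hz
  apply this
  simp only [smul_zero]
  rw [Algebra.smul_def, mul_comm]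
  exact hz

open nonZeroDivisors in
/-- a principal generator restricts to a principal generator. -/
lemma ideal_eq_span_res (I : X.IdealSheafData) {U V : X.affineOpens} (h : U ≤ V) {f : Γ(X, V.1)}
    (hf : I.ideal V = Ideal.span {f}) :
    I.ideal U = Ideal.span {(X.presheaf.map (homOfLE (X := X.Opens) h).op).hom f} := by
  rw [← I.map_ideal h, hf, Ideal.map_span, Set.image_singleton]
  rfl

open nonZeroDivisors in
/-- Three effective Cartier ideal sheaves have nonzerodivisor generators on a common affine open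
neighbourhood of any point. -/
theorem exists_common_gen {I₁ I₂ I₃ : X.IdealSheafData} (h₁ : BlowUp.IsEffCartierIdeal I₁)
    (h₂ : BlowUp.IsEffCartierIdeal I₂) (h₃ : BlowUp.IsEffCartierIdeal I₃) (x : X) :
    ∃ U : X.affineOpens, x ∈ U.1 ∧ ∃ f₁ f₂ f₃ : Γ(X, U.1), f₁ ∈ Γ(X, U.1)⁰ ∧ f₂ ∈ Γ(X, U.1)⁰ ∧
      f₃ ∈ Γ(X, U.1)⁰ ∧ I₁.ideal U = Ideal.span {f₁} ∧ I₂.ideal U = Ideal.span {f₂} ∧
      I₃.ideal U = Ideal.span {f₃} := by
  obtain ⟨U₁, hU₁, hx₁, -, f₁, hf₁, hI₁⟩ := exists_le_of_isEffCartierIdeal h₁ x ⊤ trivial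
  obtain ⟨U₂, hU₂, hx₂, h21, f₂, hf₂, hI₂⟩ := exists_le_of_isEffCartierIdeal h₂ x U₁ hx₁
  obtain ⟨U₃, hU₃, hx₃, h32, f₃, hf₃, hI₃⟩ := exists_le_of_isEffCartierIdeal h₃ x U₂ hx₂
  have le32 : (⟨U₃, hU₃⟩ : X.affineOpens) ≤ ⟨U₂, hU₂⟩ := h32
  have le31 : (⟨U₃, hU₃⟩ : X.affineOpens) ≤ ⟨U₁, hU₁⟩ := h32.trans h21
  exact ⟨⟨U₃, hU₃⟩, hx₃, _, _, f₃, res_mem_nonZeroDivisors le31 hf₁,
    res_mem_nonZeroDivisors le32 hf₂, hf₃, ideal_eq_span_res I₁ le31 hI₁,
    ideal_eq_span_res I₂ le32 hI₂, hI₃⟩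

end Sheaf

end Groth.Agent.R2.H92.Colon
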