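import Mathlib
import Groth.Agent.R2.H92ModPair
import Groth.Agent.R2.H92Colon
import Groth.Agent.S10855
import Groth.Agent.Lib.Helper20BlowUp
import Groth.Agent.S18733

/-!
# Blow-ups by universal property and ambient products (helper92)

* `isEffCartierIdeal_top`, `isEffCartierIdeal_mul`, `le_of_mul_le_mul_right`,
  `eq_of_mul_eq_mul_right`: arithmetic of effective Cartier ideal sheaves.
* `isSchemeTheoreticallyDominant_of_le`.
* `isIso_morphismRestrict_of_isBlowUp`: a blow-up (universal property) is an isomorphism away from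
  the centre.
* `isEffCartierIdeal_comap_of_isBlowUp`: effective Cartier ideals whose divisor contains the centre
  pull back to effective Cartier ideals on the blow-up.
-/

set_option autoImplicit false
universe u

open CategoryTheory CategoryTheory.Limits AlgebraicGeometry TopologicalSpace

namespace Groth.Agent.R2.H92.AmbProd

open Groth.Agent.R2.H92.ModPair Groth.Agent.R2.H92.Colon

variable {X Y : Scheme.{u}}

open nonZeroDivisors in
/-- the unit ideal is effective Cartier -/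
theorem isEffCartierIdeal_top : BlowUp.IsEffCartierIdeal (⊤ : X.IdealSheafData) := by
  intro x
  obtain ⟨_, ⟨U, hU, rfl⟩, hxU, -⟩ := X.isBasis_affineOpens.exists_subset_of_mem_open
    (Set.mem_univ x) isOpen_univ
  refine ⟨⟨U, hU⟩, hxU, 1, one_mem _, ?_⟩
  rw [Ideal.span_singleton_one]
  rfl

open nonZeroDivisors in
/-- products of effective Cartier ideal sheaves are effective Cartier -/
theorem isEffCartierIdeal_mul {I J : X.IdealSheafData} (hI : BlowUp.IsEffCartierIdeal I)
    (hJ : BlowUp.IsEffCartierIdeal J) : BlowUp.IsEffCartierIdeal (I * J) := by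
  intro x
  obtain ⟨U, hxU, f₁, f₂, -, hf₁, hf₂, -, h₁, h₂, -⟩ := exists_common_gen hI hJ hJ x
  refine ⟨U, hxU, f₁ * f₂, mul_mem hf₁ hf₂, ?_⟩
  rw [Scheme.IdealSheafData.ideal_mul, Pi.mul_apply, h₁, h₂, Ideal.span_singleton_mul_span_singleton]

/-- cancellation of an effective Cartier ideal sheaf -/
theorem le_of_mul_le_mul_right {K L E : X.IdealSheafData} (hE : BlowUp.IsEffCartierIdeal E)
    (h : K * E ≤ L * E) : K ≤ L := by
  choose U hxU e he hU using hE
  have hcov : ⨆ x, (U x).1 = ⊤ := top_le_iff.mp fun x _ => Opens.mem_iSup.mpr ⟨x, hxU x⟩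
  refine Scheme.IdealSheafData.le_of_iSup_eq_top U hcov fun x k hk => ?_
  have h1 : k * e x ∈ (L * E).ideal (U x) := by
    apply h (U x)
    rw [Scheme.IdealSheafData.ideal_mul, Pi.mul_apply, hU]
    exact Ideal.mul_mem_mul hk (Ideal.mem_span_singleton_self _)
  rw [Scheme.IdealSheafData.ideal_mul, Pi.mul_apply, hU, Ideal.mem_mul_span_singleton] at h1
  obtain ⟨l, hl, hle⟩ := h1
  have : l = k := (mul_cancel_right_mem_nonZeroDivisors (he x)).mp hle
  exact this ▸ hl

theorem eq_of_mul_eq_mul_right {K L E : X.IdealSheafData} (hE : BlowUp.IsEffCartierIdeal E)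
    (h : K * E = L * E) : K = L :=
  le_antisymm (le_of_mul_le_mul_right hE h.le) (le_of_mul_le_mul_right hE h.ge)

/-- a larger open than a scheme-theoretically dense open is scheme-theoretically dense -/
theorem isSchemeTheoreticallyDominant_of_le {U U' : X.Opens} (h : U ≤ U')
    [IsSchemeTheoreticallyDominant U.ι] : IsSchemeTheoreticallyDominant U'.ι := by
  rw [isSchemeTheoreticallyDominant_iff, ← le_bot_iff]
  have h1 := Scheme.Hom.le_ker_comp (X.homOfLE h) U'.ι
  rw [Scheme.homOfLE_ι, Scheme.Hom.ker_eq_bot U.ι] at h1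
  exact h1


/-- quasi-compactness of an open inclusion in terms of intersections -/
theorem quasiCompact_ι_iff (U : X.Opens) :
    QuasiCompact U.ι ↔ ∀ W : Set X, IsOpen W → IsCompact W → IsCompact (W ∩ (U : Set X)) := by
  rw [quasiCompact_iff]
  have key : ∀ W : Set X, IsCompact (U.ι ⁻¹' W) ↔ IsCompact (W ∩ (U : Set X)) := by
    intro W
    rw [U.ι.isOpenEmbedding.isInducing.isCompact_iff, Set.image_preimage_eq_inter_range,
      Scheme.Opens.range_ι]
  exact forall_congr' fun W => forall_congr' fun _ => forall_congr' fun _ => key W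

/-- the intersection of two opens with quasi-compact inclusion has quasi-compact inclusion -/
theorem quasiCompact_ι_inf (U₁ U₂ : X.Opens) [h₁ : QuasiCompact U₁.ι] [h₂ : QuasiCompact U₂.ι] :
    QuasiCompact (U₁ ⊓ U₂).ι := by
  rw [quasiCompact_ι_iff] at h₁ h₂ ⊢
  intro W hW hWc
  have := h₂ (W ∩ (U₁ : Set X)) (hW.inter U₁.2) (h₁ W hW hWc)
  rwa [Set.inter_assoc] at this

/-- the product of the interiors has quasi-compact inclusion -/
theorem quasiCompact_prodInterior_ι {S T : Scheme.{u}} (f : X ⟶ S) (g : T ⟶ S)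
    (I : X.IdealSheafData) (J : T.IdealSheafData) (hI : BlowUp.IsEffCartierIdeal I)
    (hJ : BlowUp.IsEffCartierIdeal J) : QuasiCompact (ModPair.prodInterior f g I J).ι := by
  have := Groth.Agent.S18732.quasiCompact_ι I hI (pullback.fst f g)
  have := Groth.Agent.S18732.quasiCompact_ι J hJ (pullback.snd f g)
  exact quasiCompact_ι_inf _ _

/-- Pulling an effective Cartier ideal `L` on `Z` back along `h : P ⟶ Z` and then to the
scheme-theoretic closure of an open `V ≤ h⁻¹(interior L)` gives an effective Cartier ideal. -/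
theorem isEffCartierIdeal_comap_imageι_of_le {P Z : Scheme.{u}} (h : P ⟶ Z) (L : Z.IdealSheafData)
    (hL : BlowUp.IsEffCartierIdeal L) (V : P.Opens) [QuasiCompact V.ι]
    (hV : V ≤ h ⁻¹ᵁ ModPair.interior L) :
    BlowUp.IsEffCartierIdeal (L.comap (V.ι.imageι ≫ h)) := by
  have h1 : IsSchemeTheoreticallyDominant (V.ι.imageι ⁻¹ᵁ V).ι :=
    isSchemeTheoreticallyDominant_preimage_imageι V
  have hle : V.ι.imageι ⁻¹ᵁ V ≤ (V.ι.imageι ≫ h) ⁻¹ᵁ ModPair.interior L := by
    rw [Scheme.Hom.comp_preimage]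
    exact V.ι.imageι.preimage_mono hV
  have : IsSchemeTheoreticallyDominant ((V.ι.imageι ≫ h) ⁻¹ᵁ ModPair.interior L).ι :=
    isSchemeTheoreticallyDominant_of_le hle
  exact (Groth.Agent.S18732.result L hL (V.ι.imageι ≫ h)).2

/-- pull-back of ideal sheaves commutes with sums -/
theorem comap_sup (f : X ⟶ Y) (I J : Y.IdealSheafData) :
    (I ⊔ J).comap f = I.comap f ⊔ J.comap f :=
  (Scheme.IdealSheafData.map_gc f).l_sup

/-- the interior of a product is the intersection of the interiors -/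
theorem interior_mul (I J : X.IdealSheafData) :
    ModPair.interior (I * J) = ModPair.interior I ⊓ ModPair.interior J := by
  ext x
  show x ∉ (I * J).support ↔ x ∉ I.support ∧ x ∉ J.support
  rw [Scheme.IdealSheafData.support_mul]
  show ¬ (x ∈ I.support ∨ x ∈ J.support) ↔ _
  tauto


theorem mul_le_left' (I J : X.IdealSheafData) : I * J ≤ I := fun U => by
  rw [Scheme.IdealSheafData.ideal_mul, Pi.mul_apply]
  exact Ideal.mul_le_left (I := I.ideal U) (J := J.ideal U)

theorem mul_le_right' (I J : X.IdealSheafData) : I * J ≤ J := fun U => by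
  rw [Scheme.IdealSheafData.ideal_mul, Pi.mul_apply]
  exact Ideal.mul_le_right (I := I.ideal U) (J := J.ideal U)

/-- **`D₁ + D₂ - E`**: if `A`, `B` and `A ⊔ B` are effective Cartier and `K · (A ⊔ B) = A · B`
then `K` is effective Cartier, contained in `A` and `B`, with interior the intersection of the
interiors. -/
theorem residual_of_mul_sup_eq {A B K : X.IdealSheafData} (hA : BlowUp.IsEffCartierIdeal A)
    (hB : BlowUp.IsEffCartierIdeal B) (hE : BlowUp.IsEffCartierIdeal (A ⊔ B))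
    (hK : K * (A ⊔ B) = A * B) :
    BlowUp.IsEffCartierIdeal K ∧ K ≤ A ∧ K ≤ B ∧
      ModPair.interior K = ModPair.interior A ⊓ ModPair.interior B := by
  obtain ⟨A', B', hA', hB', hAA', hBB', -, -⟩ := Groth.Agent.S18733.result A B hA hB hE
  generalize A ⊔ B = E at hE hK hAA' hBB'
  subst hAA' hBB'
  have hKeq : K = A' * B' * E := by
    apply eq_of_mul_eq_mul_right hE
    rw [hK]
    ring
  subst hKeq
  refine ⟨?_, ?_, ?_, ?_⟩
  · exact isEffCartierIdeal_mul (isEffCartierIdeal_mul hA' hB') hE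
  · rw [show A' * B' * E = B' * (A' * E) by ring]; exact mul_le_right' _ _
  · rw [show A' * B' * E = A' * (B' * E) by ring]; exact mul_le_right' _ _
  · rw [interior_mul, interior_mul, interior_mul, interior_mul]
    ext x
    show (x ∈ _ ∧ x ∈ _) ∧ x ∈ _ ↔ (x ∈ _ ∧ x ∈ _) ∧ (x ∈ _ ∧ x ∈ _)
    tauto


/-- **Functoriality of `D₁ + D₂ - E` blow-ups.**  Let `π₀ : Y₀ ⟶ M₀` be a blowing up in `A₀ ⊔ B₀`
with `K₀ · E₀ = A₀ · B₀` on `Y₀`, and `ψ : Y₁ ⟶ M₀` such that the pull-back of `A₀ ⊔ B₀` is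
effective Cartier, with `K₁ · E₁ = A₁ · B₁` for the pull-backs along `ψ`.  Then `ψ` lifts uniquely
to `φ : Y₁ ⟶ Y₀` and `K₁ = K₀.comap φ`. -/
theorem existsUnique_lift_isBlowUp_minimal {M₀ Y₀ Y₁ : Scheme.{u}} (A₀ B₀ : M₀.IdealSheafData)
    (π₀ : Y₀ ⟶ M₀) (hπ₀ : BlowUp.IsBlowUp π₀ (A₀ ⊔ B₀)) (K₀ : Y₀.IdealSheafData)
    (hK₀ : K₀ * (A₀ ⊔ B₀).comap π₀ = A₀.comap π₀ * B₀.comap π₀)
    (ψ : Y₁ ⟶ M₀) (hE : BlowUp.IsEffCartierIdeal ((A₀ ⊔ B₀).comap ψ)) (K₁ : Y₁.IdealSheafData)
    (hK₁ : K₁ * (A₀ ⊔ B₀).comap ψ = A₀.comap ψ * B₀.comap ψ) :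
    (∃! φ : Y₁ ⟶ Y₀, φ ≫ π₀ = ψ) ∧ ∀ φ : Y₁ ⟶ Y₀, φ ≫ π₀ = ψ → K₁ = K₀.comap φ := by
  refine ⟨hπ₀.2 Y₁ ψ hE, ?_⟩
  intro φ hφ
  subst hφ
  apply eq_of_mul_eq_mul_right hE
  rw [hK₁]
  have h := congrArg (fun L => L.comap φ) hK₀
  simp only [Groth.Agent.Lib.Helper20.BlowUpBasic.comap_mul] at h
  rw [← Scheme.IdealSheafData.comap_comp, ← Scheme.IdealSheafData.comap_comp,
    ← Scheme.IdealSheafData.comap_comp] at h
  exact h.symm

end Groth.Agent.R2.H92.AmbProd
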