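import Mathlib
import Groth.Prelude.Def_W4c6modpairsegaMP
import Groth.Agent.R2.H92AmbProd
import Groth.Agent.R2.H86BlowProper2

/-!
# The universal property of the ambient product up to admissible blow-ups (helper92)

* `ambProd_hom_ext`: ambient morphisms into an ambient product `(Y, K)` are determined by their
  projections to `X` and `T`.
* `ambProd_exists_lift`: a pair of ambient morphisms `a : Z ⟶ X`, `b : Z ⟶ T` over `S` lifts to the
  ambient product after an abstract admissible blow-up of `Z` (the blow-up of `Z` in the sum of the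
  pulled-back moduli).
-/

set_option autoImplicit false
universe u

open CategoryTheory CategoryTheory.Limits AlgebraicGeometry TopologicalSpace

namespace Groth.Agent.R2.H92.AmbProdUP

open Groth.Agent.R2.H92.ModPair Groth.Agent.R2.H92.AmbProd Groth.Agent.R2.H92.Colon

/-- the restriction of an isomorphism over `U` to a smaller open is an isomorphism -/
theorem isIso_morphismRestrict_of_le {X Y : Scheme.{u}} (f : X ⟶ Y) {V U : Y.Opens} (h : V ≤ U)
    [IsIso (f ∣_ U)] : IsIso (f ∣_ V) := by
  have e := morphismRestrictRestrict f U (U.ι ⁻¹ᵁ V)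
  have h1 : IsIso (f ∣_ U ∣_ U.ι ⁻¹ᵁ V) := inferInstance
  have h2 : IsIso (f ∣_ U.ι ''ᵁ U.ι ⁻¹ᵁ V) :=
    ((MorphismProperty.isomorphisms Scheme).arrow_mk_iso_iff e).mp h1
  have h3 : U.ι ''ᵁ U.ι ⁻¹ᵁ V = V := by
    rw [Scheme.Hom.image_preimage_eq_opensRange_inf, Scheme.Opens.opensRange_ι]
    exact inf_eq_right.mpr h
  rwa [h3] at h2

/-- pulling back an effective Cartier ideal along an ambient morphism gives an effective Cartier
ideal -/
theorem isEffCartierIdeal_comap_of_isAmbient {Z Y : Scheme.{u}} (KZ : Z.IdealSheafData)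
    (hKZ : BlowUp.IsEffCartierIdeal KZ) (L : Y.IdealSheafData) (hL : BlowUp.IsEffCartierIdeal L)
    (c : Z ⟶ Y) (hc : ModPair.IsAmbient KZ L c) : BlowUp.IsEffCartierIdeal (L.comap c) := by
  have := Groth.Agent.S18743.isSchemeTheoreticallyDominant_interior KZ hKZ
  have : IsSchemeTheoreticallyDominant (c ⁻¹ᵁ ModPair.interior L).ι :=
    isSchemeTheoreticallyDominant_of_le (interior_le_preimage_of_isAmbient hc)
  exact (Groth.Agent.S18732.result L hL c).2

variable {S T X Y : Scheme.{u}} (J : T.IdealSheafData) (I : X.IdealSheafData)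
  (hT : BlowUp.IsEffCartierIdeal J) (hX : BlowUp.IsEffCartierIdeal I) (f : X ⟶ S) (g : T ⟶ S)
  (π : Y ⟶ ModPair.mprod f g I J) (K : Y.IdealSheafData) (hY : ModPair.IsAmbProd f g I J π K)

include hT hX hY

/-- the modulus of an ambient product is contained in the exceptional ideal -/
theorem le_exceptional : K ≤ (ModPair.prodCentre f g I J).comap π := by
  obtain ⟨hblow, hK⟩ := hY
  have hqc : QuasiCompact (ModPair.prodInterior f g I J).ι :=
    quasiCompact_prodInterior_ι f g I J hX hT
  have hI' : BlowUp.IsEffCartierIdeal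
      (I.comap (ModPair.mprodι f g I J ≫ pullback.fst f g)) :=
    isEffCartierIdeal_comap_imageι_of_le (pullback.fst f g) I hX
      (ModPair.prodInterior f g I J) inf_le_left
  have hJ' : BlowUp.IsEffCartierIdeal
      (J.comap (ModPair.mprodι f g I J ≫ pullback.snd f g)) :=
    isEffCartierIdeal_comap_imageι_of_le (pullback.snd f g) J hT
      (ModPair.prodInterior f g I J) inf_le_right
  have hA := Groth.Agent.Lib.Helper20.BlowUpBasic.isEffCartierIdeal_comap _ π hblow _ hI'
  have hB := Groth.Agent.Lib.Helper20.BlowUpBasic.isEffCartierIdeal_comap _ π hblow _ hJ'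
  have hEq : (ModPair.prodCentre f g I J).comap π =
      (I.comap (ModPair.mprodι f g I J ≫ pullback.fst f g)).comap π ⊔
        (J.comap (ModPair.mprodι f g I J ≫ pullback.snd f g)).comap π :=
    comap_sup π _ _
  have hE := hblow.1
  rw [hEq] at hE hK ⊢
  obtain ⟨-, h2, -, -⟩ := residual_of_mul_sup_eq hA hB hE hK
  exact h2.trans le_sup_left

/-- ambient morphisms into an ambient product are determined by their two projections -/
theorem ambProd_hom_ext {Z : Scheme.{u}} (KZ : Z.IdealSheafData)
    (hKZ : BlowUp.IsEffCartierIdeal KZ) (c₁ c₂ : Z ⟶ Y) (h₁ : ModPair.IsAmbient KZ K c₁)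
    (hfst : c₁ ≫ π ≫ ModPair.mprodι f g I J ≫ pullback.fst f g =
      c₂ ≫ π ≫ ModPair.mprodι f g I J ≫ pullback.fst f g)
    (hsnd : c₁ ≫ π ≫ ModPair.mprodι f g I J ≫ pullback.snd f g =
      c₂ ≫ π ≫ ModPair.mprodι f g I J ≫ pullback.snd f g) : c₁ = c₂ := by
  have hKE := le_exceptional J I hT hX f g π K hY
  have hamb : ModPair.IsAmbient KZ ((ModPair.prodCentre f g I J).comap π) c₁ :=
    le_trans h₁ (Scheme.IdealSheafData.comap_mono c₁ hKE)
  have hEc : BlowUp.IsEffCartierIdeal (((ModPair.prodCentre f g I J).comap π).comap c₁) :=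
    isEffCartierIdeal_comap_of_isAmbient KZ hKZ _ hY.1.1 c₁ hamb
  apply Groth.Agent.R2.H92.BlowGlue.hom_ext_isBlowUp hY.1 c₁ c₂
    (by rw [Scheme.IdealSheafData.comap_comp]; exact hEc)
  rw [← cancel_mono (ModPair.mprodι f g I J)]
  apply pullback.hom_ext
  · simpa only [Category.assoc] using hfst
  · simpa only [Category.assoc] using hsnd

/-- existence of lifts to the ambient product after an admissible blow-up -/
theorem ambProd_exists_lift {Z : Scheme.{u}} (KZ : Z.IdealSheafData)
    (hKZ : BlowUp.IsEffCartierIdeal KZ) (a : Z ⟶ X) (b : Z ⟶ T)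
    (ha : ModPair.IsAmbient KZ I a) (hb : ModPair.IsAmbient KZ J b) (hab : a ≫ f = b ≫ g) :
    ∃ (Z' : Scheme.{u}) (β : Z' ⟶ Z) (c : Z' ⟶ Y), BlowUp.IsEffCartierIdeal (KZ.comap β) ∧
      ModPair.IsAdmBlowup (KZ.comap β) KZ β ∧ ModPair.IsAmbient (KZ.comap β) K c ∧
      c ≫ π ≫ ModPair.mprodι f g I J ≫ pullback.fst f g = β ≫ a ∧
      c ≫ π ≫ ModPair.mprodι f g I J ≫ pullback.snd f g = β ≫ b := by
  obtain ⟨hblow, hK⟩ := hY
  have hqc : QuasiCompact (ModPair.prodInterior f g I J).ι :=
    quasiCompact_prodInterior_ι f g I J hX hT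
  -- the map to the closure of the product of the interiors
  have hint : ModPair.interior KZ ≤
      (pullback.lift a b hab) ⁻¹ᵁ ModPair.prodInterior f g I J := by
    intro z hz
    refine ⟨?_, ?_⟩
    · show (pullback.fst f g) ((pullback.lift a b hab) z) ∈ ModPair.interior I
      rw [← Scheme.Hom.comp_apply, pullback.lift_fst]
      exact interior_le_preimage_of_isAmbient ha hz
    · show (pullback.snd f g) ((pullback.lift a b hab) z) ∈ ModPair.interior J
      rw [← Scheme.Hom.comp_apply, pullback.lift_snd]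
      exact interior_le_preimage_of_isAmbient hb hz
  obtain ⟨h₁, hh₁, -⟩ := existsUnique_lift_image KZ hKZ (pullback.lift a b hab)
    (ModPair.prodInterior f g I J) hint
  have hh₁' : h₁ ≫ ModPair.mprodι f g I J = pullback.lift a b hab := hh₁
  have h₁fst : h₁ ≫ ModPair.mprodι f g I J ≫ pullback.fst f g = a := by
    rw [← Category.assoc, hh₁', pullback.lift_fst]
  have h₁snd : h₁ ≫ ModPair.mprodι f g I J ≫ pullback.snd f g = b := by
    rw [← Category.assoc, hh₁', pullback.lift_snd]
  -- the centre on `Z`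
  have hAZ : BlowUp.IsEffCartierIdeal (I.comap a) :=
    isEffCartierIdeal_comap_of_isAmbient KZ hKZ I hX a ha
  have hBZ : BlowUp.IsEffCartierIdeal (J.comap b) :=
    isEffCartierIdeal_comap_of_isAmbient KZ hKZ J hT b hb
  have hCZ : (ModPair.prodCentre f g I J).comap h₁ = I.comap a ⊔ J.comap b := by
    unfold ModPair.prodCentre
    rw [comap_sup, ← Scheme.IdealSheafData.comap_comp, ← Scheme.IdealSheafData.comap_comp,
      h₁fst, h₁snd]
  have hft : BlowUp.IsFiniteTypeIdeal ((ModPair.prodCentre f g I J).comap h₁) := by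
    rw [hCZ]
    exact Groth.Agent.Lib.Helper22.FTIdeal.FT.sup (ft_of_isEffCartierIdeal hAZ)
      (ft_of_isEffCartierIdeal hBZ)
  obtain ⟨Z', β, hβ, hβproper⟩ :=
    Groth.Agent.R2.H86.BlowProper.exists_isBlowUp_isProper Z _ hft
  have hKZ' : BlowUp.IsEffCartierIdeal (KZ.comap β) :=
    Groth.Agent.Lib.Helper20.BlowUpBasic.isEffCartierIdeal_comap _ β hβ KZ hKZ
  -- `β` is an isomorphism over the interior
  have hiso : IsIso (β ∣_ ModPair.interior KZ) := by
    have h1 := Groth.Agent.Lib.Helper20.BlowUpBasic.isIso_morphismRestrict _ β hβ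
    refine isIso_morphismRestrict_of_le β (U := Groth.Agent.Lib.Helper20.BlowUpBasic.compl
      ((ModPair.prodCentre f g I J).comap h₁)) ?_
    intro z hz hz'
    have hle : KZ ≤ (ModPair.prodCentre f g I J).comap h₁ := by
      rw [hCZ]; exact le_trans ha le_sup_left
    exact hz (Scheme.IdealSheafData.support_antitone hle hz')
  -- the lift to `Y`
  obtain ⟨c, hc, -⟩ := hblow.2 Z' (β ≫ h₁)
    (by rw [Scheme.IdealSheafData.comap_comp]; exact hβ.1)
  have hcfst : c ≫ π ≫ ModPair.mprodι f g I J ≫ pullback.fst f g = β ≫ a := by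
    rw [← Category.assoc, hc, Category.assoc, h₁fst]
  have hcsnd : c ≫ π ≫ ModPair.mprodι f g I J ≫ pullback.snd f g = β ≫ b := by
    rw [← Category.assoc, hc, Category.assoc, h₁snd]
  refine ⟨Z', β, c, hKZ', ⟨rfl, hβproper, hiso⟩, ?_, hcfst, hcsnd⟩
  -- the modulus condition for `c`
  have hA'' : BlowUp.IsEffCartierIdeal ((I.comap a).comap β) :=
    Groth.Agent.Lib.Helper20.BlowUpBasic.isEffCartierIdeal_comap _ β hβ _ hAZ
  have hB'' : BlowUp.IsEffCartierIdeal ((J.comap b).comap β) :=
    Groth.Agent.Lib.Helper20.BlowUpBasic.isEffCartierIdeal_comap _ β hβ _ hBZ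
  have hE''eq : ((ModPair.prodCentre f g I J).comap h₁).comap β =
      (I.comap a).comap β ⊔ (J.comap b).comap β := by
    rw [hCZ, comap_sup]
  have hE'' : BlowUp.IsEffCartierIdeal ((I.comap a).comap β ⊔ (J.comap b).comap β) := by
    rw [← hE''eq]; exact hβ.1
  have hK'' : K.comap c * ((I.comap a).comap β ⊔ (J.comap b).comap β) =
      (I.comap a).comap β * (J.comap b).comap β := by
    have h := congrArg (fun L => L.comap c) hK
    simp only [Groth.Agent.Lib.Helper20.BlowUpBasic.comap_mul] at h
    have e1 : ((ModPair.prodCentre f g I J).comap π).comap c =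
        (I.comap a).comap β ⊔ (J.comap b).comap β := by
      rw [← Scheme.IdealSheafData.comap_comp, hc, Scheme.IdealSheafData.comap_comp, hE''eq]
    have e2 : ((I.comap (ModPair.mprodι f g I J ≫ pullback.fst f g)).comap π).comap c =
        (I.comap a).comap β := by
      rw [← Scheme.IdealSheafData.comap_comp, ← Scheme.IdealSheafData.comap_comp,
        Category.assoc, hcfst, Scheme.IdealSheafData.comap_comp]
    have e3 : ((J.comap (ModPair.mprodι f g I J ≫ pullback.snd f g)).comap π).comap c =
        (J.comap b).comap β := by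
      rw [← Scheme.IdealSheafData.comap_comp, ← Scheme.IdealSheafData.comap_comp,
        Category.assoc, hcsnd, Scheme.IdealSheafData.comap_comp]
    rw [e1, e2, e3] at h
    exact h
  obtain ⟨A₁, B₁, -, -, hAA, hBB, -, hmin⟩ := Groth.Agent.S18733.result _ _ hA'' hB'' hE''
  have hKeq : K.comap c = A₁ * B₁ * ((I.comap a).comap β ⊔ (J.comap b).comap β) := by
    apply eq_of_mul_eq_mul_right hE''
    rw [hK'']
    generalize (I.comap a).comap β ⊔ (J.comap b).comap β = E at hAA hBB ⊢
    generalize (I.comap a).comap β = A at hAA ⊢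
    generalize (J.comap b).comap β = B at hBB ⊢
    subst hAA hBB
    ring
  show KZ.comap β ≤ K.comap c
  rw [hKeq]
  exact hmin _ hKZ' (Scheme.IdealSheafData.comap_mono β ha)
    (Scheme.IdealSheafData.comap_mono β hb)

end Groth.Agent.R2.H92.AmbProdUP
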