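import Mathlib
import Groth.Agent.Lib.Helper28FibLoc

/-!
# Localizing the four-term-sequence criterion at a prime (helper92)

Plumbing between `A → B`, a prime `q` of `B` over `p`, and the local homomorphism `A_p → B_q`:
flatness of double localizations, fibre modules `FibMod A_p B_q M_q` versus `FibLocMod A B q M`.
-/

set_option autoImplicit false
universe u

namespace Groth.Agent.R2.H92.FibLocal

open Groth.Agent.Lib.Helper28

section DoubleLoc

variable {A B : Type u} [CommRing A] [CommRing B] [Algebra A B] (q : Ideal B) [q.IsPrime]
  (X : Type u) [AddCommGroup X] [Module B X] [Module A X] [IsScalarTower A B X]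
  (Q : Ideal (Localization.AtPrime q)) [Q.IsPrime]

/-- `(X_q)_Q ≃ X_{q'}` for `q' = Q ∩ B`, as `B`-modules. -/
noncomputable def doubleLocEquiv :
    LocalizedModule (Q.comap (algebraMap B (Localization.AtPrime q))).primeCompl X ≃ₗ[B]
      LocalizedModule Q.primeCompl (LocalizedModule q.primeCompl X) := by
  have h1 : IsBaseChange (Localization q.primeCompl) (LocalizedModule.mkLinearMap q.primeCompl X) :=
    IsLocalizedModule.isBaseChange q.primeCompl (Localization q.primeCompl) _
  have h2 : IsBaseChange (Localization.AtPrime Q)
      (LocalizedModule.mkLinearMap Q.primeCompl (LocalizedModule q.primeCompl X)) :=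
    IsLocalizedModule.isBaseChange Q.primeCompl (Localization.AtPrime Q) _
  have h3 := IsBaseChange.comp h1 h2
  haveI hlocT : IsLocalization.AtPrime (Localization.AtPrime Q)
      (Q.comap (algebraMap B (Localization.AtPrime q))) :=
    IsLocalization.isLocalization_isLocalization_atPrime_isLocalization q.primeCompl
      (Localization.AtPrime Q) Q
  haveI h4 : IsLocalizedModule (Q.comap (algebraMap B (Localization.AtPrime q))).primeCompl
      (((LocalizedModule.mkLinearMap Q.primeCompl (LocalizedModule q.primeCompl X)).restrictScalars
        B).comp (LocalizedModule.mkLinearMap q.primeCompl X)) :=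
    (isLocalizedModule_iff_isBaseChange (Q.comap (algebraMap B (Localization.AtPrime q))).primeCompl
      (Localization.AtPrime Q) _).mpr h3
  exact IsLocalizedModule.iso (Q.comap (algebraMap B (Localization.AtPrime q))).primeCompl
    (((LocalizedModule.mkLinearMap Q.primeCompl (LocalizedModule q.primeCompl X)).restrictScalars
        B).comp (LocalizedModule.mkLinearMap q.primeCompl X))

/-- Flatness over `A` of the stalk at `q' = Q ∩ B` gives flatness of the double localization. -/
theorem flat_doubleLoc
    (h : Module.Flat A
      (LocalizedModule (Q.comap (algebraMap B (Localization.AtPrime q))).primeCompl X)) :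
    Module.Flat A (LocalizedModule Q.primeCompl (LocalizedModule q.primeCompl X)) :=
  Module.Flat.of_linearEquiv ((doubleLocEquiv q X Q).restrictScalars A).symm

end DoubleLoc

section Local

variable {A B : Type u} [CommRing A] [CommRing B] [Algebra A B] (q : Ideal B) [q.IsPrime]
  (X : Type u) [AddCommGroup X] [Module B X] [Module A X] [IsScalarTower A B X]

scoped instance liesOver_comap : q.LiesOver (q.comap (algebraMap A B)) := ⟨rfl⟩

/-- `B_q` as an algebra over `A_p`, `p = q ∩ A`. -/
noncomputable scoped instance algAp :
    Algebra (Localization.AtPrime (q.comap (algebraMap A B))) (Localization.AtPrime q) :=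
  Localization.AtPrime.algebraOfLiesOver (q.comap (algebraMap A B)) q

scoped instance isLocalHom_algAp :
    IsLocalHom (algebraMap (Localization.AtPrime (q.comap (algebraMap A B)))
      (Localization.AtPrime q)) := by
  rw [RingHom.algebraMap_toAlgebra]
  exact Localization.isLocalHom_localRingHom (q.comap (algebraMap A B)) q (algebraMap A B)
    Ideal.LiesOver.over

/-- `X_q` as a module over `A_p`. -/
noncomputable scoped instance modAp :
    Module (Localization.AtPrime (q.comap (algebraMap A B))) (LocalizedModule q.primeCompl X) :=
  Module.compHom _ (algebraMap (Localization.AtPrime (q.comap (algebraMap A B)))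
    (Localization.AtPrime q))

scoped instance tower_Ap_Bq : IsScalarTower (Localization.AtPrime (q.comap (algebraMap A B)))
    (Localization.AtPrime q) (LocalizedModule q.primeCompl X) :=
  ⟨fun a b x => by
    change (a • b) • x = algebraMap _ (Localization.AtPrime q) a • (b • x)
    rw [Algebra.smul_def, mul_smul]⟩

scoped instance tower_A_Ap : IsScalarTower A (Localization.AtPrime (q.comap (algebraMap A B)))
    (LocalizedModule q.primeCompl X) :=
  IsScalarTower.of_algebraMap_smul fun r x => by
    change algebraMap (Localization.AtPrime (q.comap (algebraMap A B))) (Localization.AtPrime q)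
      (algebraMap A _ r) • x = r • x
    rw [← IsScalarTower.algebraMap_apply, IsScalarTower.algebraMap_apply A B
      (Localization.AtPrime q), algebraMap_smul, algebraMap_smul]

/-- flatness of the stalk over `A_p` is flatness over `A`. -/
theorem flat_Ap_iff :
    Module.Flat (Localization.AtPrime (q.comap (algebraMap A B))) (LocalizedModule q.primeCompl X) ↔
      FlatCA.FlatAt A q X :=
  Module.flat_iff_of_isLocalization (Localization.AtPrime (q.comap (algebraMap A B)))
    (q.comap (algebraMap A B)).primeCompl _

/-- `(X_q)_Q` is flat over `A_p` when `X` is flat over `A` at `Q ∩ B`. -/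
theorem flatAt_Ap_of_flatAt (Q : Ideal (Localization.AtPrime q)) [Q.IsPrime]
    (h : FlatCA.FlatAt A (Q.comap (algebraMap B (Localization.AtPrime q))) X) :
    FlatCA.FlatAt (Localization.AtPrime (q.comap (algebraMap A B))) Q
      (LocalizedModule q.primeCompl X) := by
  have hA : Module.Flat A (LocalizedModule Q.primeCompl (LocalizedModule q.primeCompl X)) :=
    flat_doubleLoc q X Q h
  exact (Module.flat_iff_of_isLocalization (Localization.AtPrime (q.comap (algebraMap A B)))
    (q.comap (algebraMap A B)).primeCompl _).mpr hA

end Local

section Depth

variable {A B : Type u} [CommRing A] [CommRing B] [IsNoetherianRing A] [IsNoetherianRing B]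
  [Algebra A B] (q : Ideal B) [q.IsPrime]
  (X : Type u) [AddCommGroup X] [Module B X] [Module A X] [IsScalarTower A B X]
  [Module.Finite B X]

omit [IsNoetherianRing A] [Module A X] [IsScalarTower A B X] in
/-- The closed fibre of `X_q` over `A_p → B_q` is the fibre stalk `X_q / p X_q`; depths agree. -/
theorem idealDepth_fibMod_eq :
    LocCoh.idealDepth (IsLocalRing.maximalIdeal (Localization.AtPrime q))
      (EGA4.FibMod (Localization.AtPrime (q.comap (algebraMap A B))) (Localization.AtPrime q)
        (LocalizedModule q.primeCompl X)) =
    LocCoh.idealDepth (q.map (algebraMap B (EGA4.FibLocRing A B q))) (EGA4.FibLocMod A B q X) := by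
  set p : Ideal A := q.comap (algebraMap A B) with hp
  have hmapeq : (IsLocalRing.maximalIdeal (Localization.AtPrime p)).map
      (algebraMap (Localization.AtPrime p) (Localization.AtPrime q)) =
      p.map (algebraMap A (Localization.AtPrime q)) := by
    rw [← IsLocalization.AtPrime.map_eq_maximalIdeal p (Localization.AtPrime p), Ideal.map_map,
      ← IsScalarTower.algebraMap_eq]
  rw [idealDepth_congr (Submodule.quotEquivOfEq _
    (p.map (algebraMap A (Localization.AtPrime q)) •
      (⊤ : Submodule (Localization.AtPrime q) (LocalizedModule q.primeCompl X)))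
    (by rw [← hmapeq]))]
  have hfin : Module.Finite (EGA4.FibLocRing A B q) (EGA4.FibLocMod A B q X) :=
    Module.Finite.of_restrictScalars_finite (Localization.AtPrime q) _ _
  rw [idealDepth_restrictScalars_eq_idealDepth_map (B := EGA4.FibLocRing A B q)
    (IsLocalRing.maximalIdeal (Localization.AtPrime q)) (EGA4.FibLocMod A B q X)]
  have hq : (IsLocalRing.maximalIdeal (Localization.AtPrime q)).map
      (algebraMap (Localization.AtPrime q) (EGA4.FibLocRing A B q)) =
      q.map (algebraMap B (EGA4.FibLocRing A B q)) := by
    rw [← Localization.AtPrime.map_eq_maximalIdeal, Ideal.map_map,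
      ← IsScalarTower.algebraMap_eq]
  rw [hq]

end Depth

end Groth.Agent.R2.H92.FibLocal
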