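import Mathlib

/-!
# helper92: limits of closed subschemes and localizations in `Over T` (for S6666)

Namespace `Groth.Agent.R2.H92.FieldPoint`.
-/

set_option autoImplicit false
universe u
open CategoryTheory AlgebraicGeometry Limits

namespace Groth.Agent.R2.H92.FieldPoint

/-- a scheme admitting a closed immersion to a qcqs scheme is qcqs -/
theorem qcqs_of_isClosedImmersion {X Y : Scheme.{u}} (f : X ⟶ Y) [IsClosedImmersion f]
    [CompactSpace Y] [QuasiSeparatedSpace Y] : CompactSpace X ∧ QuasiSeparatedSpace X :=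
  ⟨QuasiCompact.compactSpace_of_compactSpace f, quasiSeparatedSpace_of_quasiSeparated f⟩

section Chain

variable {T : Scheme.{u}} (c : Set T.IdealSheafData)

/-- the diagram of closed subschemes attached to a set of ideal sheaves, ordered by reverse
inclusion -/
noncomputable def chainDiagram : (↥c)ᵒᵈ ⥤ Over T where
  obj i := Over.mk (OrderDual.ofDual i).1.subschemeι
  map {i j} m := Over.homMk (Scheme.IdealSheafData.inclusion
    (show (OrderDual.ofDual j).1 ≤ (OrderDual.ofDual i).1 from leOfHom m))
  map_id i := by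
    ext
    simp
  map_comp {i j k} m m' := by
    ext
    simp

/-- the cone over `chainDiagram` with vertex the closed subscheme of the supremum -/
noncomputable def chainCone : Cone (chainDiagram c) where
  pt := Over.mk (sSup c).subschemeι
  π :=
    { app := fun i => Over.homMk (Scheme.IdealSheafData.inclusion
        (show (OrderDual.ofDual i).1 ≤ sSup c from le_sSup (OrderDual.ofDual i).2))
        (Scheme.IdealSheafData.inclusion_subschemeι _)
      naturality := fun i j m => by
        ext
        simp [chainDiagram] }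

theorem sSup_le_ker {Y : Scheme.{u}} (f : Y ⟶ T)
    (h : ∀ I ∈ c, ∃ g : Y ⟶ I.subscheme, g ≫ I.subschemeι = f) : sSup c ≤ f.ker := by
  refine sSup_le fun I hI => ?_
  obtain ⟨g, rfl⟩ := h I hI
  conv_lhs => rw [← Scheme.IdealSheafData.ker_subschemeι I]
  exact Scheme.Hom.le_ker_comp _ _

/-- the lift of a morphism factoring through all members -/
noncomputable def chainLift {Y : Scheme.{u}} (f : Y ⟶ T)
    (h : ∀ I ∈ c, ∃ g : Y ⟶ I.subscheme, g ≫ I.subschemeι = f) : Y ⟶ (sSup c).subscheme :=
  IsClosedImmersion.lift (sSup c).subschemeι f (by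
    rw [Scheme.IdealSheafData.ker_subschemeι]; exact sSup_le_ker c f h)

theorem chainLift_fac {Y : Scheme.{u}} (f : Y ⟶ T)
    (h : ∀ I ∈ c, ∃ g : Y ⟶ I.subscheme, g ≫ I.subschemeι = f) :
    chainLift c f h ≫ (sSup c).subschemeι = f :=
  IsClosedImmersion.lift_fac _ _ _

/-- the cone is a limit cone -/
noncomputable def isLimitChainCone : IsLimit (chainCone c) where
  lift s := Over.homMk (chainLift c s.pt.hom (fun I hI =>
      ⟨(s.π.app (OrderDual.toDual ⟨I, hI⟩)).left, Over.w (s.π.app (OrderDual.toDual ⟨I, hI⟩))⟩))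
    (chainLift_fac c _ _)
  fac s i := by
    apply Over.OverMorphism.ext
    have h1 : (s.π.app i).left ≫ (OrderDual.ofDual i).1.subschemeι = s.pt.hom :=
      Over.w (s.π.app i)
    have h2 := chainLift_fac c s.pt.hom (fun I hI =>
      ⟨(s.π.app (OrderDual.toDual ⟨I, hI⟩)).left, Over.w (s.π.app (OrderDual.toDual ⟨I, hI⟩))⟩)
    refine (cancel_mono (OrderDual.ofDual i).1.subschemeι).mp ?_
    refine Eq.trans ?_ h1.symm
    refine Eq.trans ?_ h2
    exact (Category.assoc _ _ _).trans
      (congrArg (chainLift c s.pt.hom _ ≫ ·) (Scheme.IdealSheafData.inclusion_subschemeι _))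
  uniq s m hm := by
    apply Over.OverMorphism.ext
    have h2 := chainLift_fac c s.pt.hom (fun I hI =>
      ⟨(s.π.app (OrderDual.toDual ⟨I, hI⟩)).left, Over.w (s.π.app (OrderDual.toDual ⟨I, hI⟩))⟩)
    refine (cancel_mono (sSup c).subschemeι).mp ?_
    have h3 : m.left ≫ (sSup c).subschemeι = s.pt.hom := Over.w m
    exact h3.trans h2.symm

end Chain

section Stalk

variable {Z : Scheme.{u}} (U : Z.Opens) (x : Z)

/-- sections over `U` not vanishing at `x`, ordered by inclusion of basic opens -/
structure Idx where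
  val : Γ(Z, U)
  mem : x ∈ Z.basicOpen val

variable {U x}

instance : Preorder (Idx U x) where
  le a b := Z.basicOpen a.val ≤ Z.basicOpen b.val
  le_refl a := le_refl _
  le_trans a b c hab hbc := le_trans hab hbc

/-- the unit section -/
def Idx.one (hx : x ∈ U) : Idx U x :=
  ⟨1, by rw [Scheme.basicOpen_of_isUnit _ isUnit_one]; exact hx⟩

/-- the product -/
def Idx.mul (a b : Idx U x) : Idx U x :=
  ⟨a.val * b.val, by rw [Scheme.basicOpen_mul]; exact ⟨a.mem, b.mem⟩⟩

theorem Idx.mul_le_left (a b : Idx U x) : a.mul b ≤ a := by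
  show Z.basicOpen (a.val * b.val) ≤ Z.basicOpen a.val
  rw [Scheme.basicOpen_mul]; exact inf_le_left

theorem Idx.mul_le_right (a b : Idx U x) : a.mul b ≤ b := by
  show Z.basicOpen (a.val * b.val) ≤ Z.basicOpen b.val
  rw [Scheme.basicOpen_mul]; exact inf_le_right

theorem Idx.le_one (hx : x ∈ U) (a : Idx U x) : a ≤ Idx.one hx := by
  show Z.basicOpen a.val ≤ Z.basicOpen (1 : Γ(Z, U))
  rw [Scheme.basicOpen_of_isUnit _ isUnit_one]; exact Z.basicOpen_le _

instance : IsCodirectedOrder (Idx U x) := by
  constructor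
  intro a b
  exact ⟨a.mul b, Idx.mul_le_left _ _, Idx.mul_le_right _ _⟩

theorem isCofiltered_idx (hx : x ∈ U) : IsCofiltered (Idx U x) :=
  haveI : Nonempty (Idx U x) := ⟨Idx.one hx⟩
  inferInstance

variable (U x) in
/-- the basic opens -/
def opensFunctor : Idx U x ⥤ Z.Opens where
  obj a := Z.basicOpen a.val
  map m := homOfLE (leOfHom m)

variable (U x) in
/-- the rings of sections over the basic opens -/
def ringFunctor : (Idx U x)ᵒᵖ ⥤ CommRingCat := (opensFunctor U x).op ⋙ Z.presheaf

variable (U x) in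
/-- the germ cocone -/
noncomputable def germCocone : Cocone (ringFunctor U x) where
  pt := Z.presheaf.stalk x
  ι :=
    { app := fun a => Z.presheaf.germ (Z.basicOpen a.unop.val) x a.unop.mem
      naturality := fun a b m => by
        simp only [ringFunctor, Functor.comp_map, Functor.const_obj_map]
        exact Z.presheaf.germ_res _ x _ }

/-- restriction to a basic open -/
def res (a : Idx U x) : Γ(Z, U) ⟶ (ringFunctor U x).obj (Opposite.op a) :=
  Z.presheaf.map (homOfLE (Z.basicOpen_le a.val)).op

theorem res_germ (hx : x ∈ U) (a : Idx U x) :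
    res a ≫ (germCocone U x).ι.app (Opposite.op a) = Z.presheaf.germ U x hx :=
  Z.presheaf.germ_res _ x _

theorem res_map {a b : Idx U x} (h : a ≤ b) :
    res b ≫ (ringFunctor U x).map (homOfLE h).op = res a := by
  simp only [res, ringFunctor, opensFunctor, Functor.comp_map, Functor.op_map]
  rw [← Functor.map_comp]
  rfl

theorem res_comp_ι (hx : x ∈ U) (s : Cocone (ringFunctor U x)) (a : Idx U x) :
    res a ≫ s.ι.app (Opposite.op a) =
      res (Idx.one hx) ≫ s.ι.app (Opposite.op (Idx.one hx)) := by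
  have h1 : (ringFunctor U x).map (homOfLE (Idx.le_one hx a)).op ≫ s.ι.app (Opposite.op a) =
      s.ι.app (Opposite.op (Idx.one hx)) := s.w _
  rw [← h1, ← Category.assoc, res_map]

theorem isUnit_res (a : Idx U x) : IsUnit ((res a).hom a.val) :=
  RingedSpace.isUnit_res_basicOpen _ a.val

theorem mem_primeCompl_iff (hU : IsAffineOpen U) (hx : x ∈ U) (y : Γ(Z, U)) :
    y ∈ (hU.primeIdealOf ⟨x, hx⟩).asIdeal.primeCompl ↔ x ∈ Z.basicOpen y := by
  let _ := TopCat.Presheaf.algebra_section_stalk Z.presheaf (⟨x, hx⟩ : U)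
  have := hU.isLocalization_stalk ⟨x, hx⟩
  rw [← IsLocalization.AtPrime.isUnit_to_map_iff (S := Z.presheaf.stalk x)
    (hU.primeIdealOf ⟨x, hx⟩).asIdeal y]
  exact (Scheme.mem_basicOpen Z y x hx).symm

/-- the comparison ring hom out of the stalk -/
noncomputable def descHom (hU : IsAffineOpen U) (hx : x ∈ U) (s : Cocone (ringFunctor U x)) :
    Z.presheaf.stalk x →+* s.pt :=
  letI := TopCat.Presheaf.algebra_section_stalk Z.presheaf (⟨x, hx⟩ : U)
  haveI := hU.isLocalization_stalk ⟨x, hx⟩
  IsLocalization.lift (M := (hU.primeIdealOf ⟨x, hx⟩).asIdeal.primeCompl)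
    (g := (res (Idx.one hx) ≫ s.ι.app (Opposite.op (Idx.one hx))).hom)
    (fun y => by
      have hy : x ∈ Z.basicOpen y.1 := (mem_primeCompl_iff hU hx y.1).mp y.2
      rw [← res_comp_ι hx s ⟨y.1, hy⟩]
      exact (isUnit_res ⟨y.1, hy⟩).map (s.ι.app _).hom)

theorem descHom_comp (hU : IsAffineOpen U) (hx : x ∈ U) (s : Cocone (ringFunctor U x)) :
    (descHom hU hx s).comp (Z.presheaf.germ U x hx).hom =
      (res (Idx.one hx) ≫ s.ι.app (Opposite.op (Idx.one hx))).hom := by
  let _ := TopCat.Presheaf.algebra_section_stalk Z.presheaf (⟨x, hx⟩ : U)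
  have := hU.isLocalization_stalk ⟨x, hx⟩
  exact IsLocalization.lift_comp _

theorem hom_ext_basicOpen (hU : IsAffineOpen U) (f : Γ(Z, U)) {R : Type*} [CommRing R]
    (φ ψ : Γ(Z, Z.basicOpen f) →+* R)
    (h : φ.comp (Z.presheaf.map (homOfLE (Z.basicOpen_le f)).op).hom =
      ψ.comp (Z.presheaf.map (homOfLE (Z.basicOpen_le f)).op).hom) : φ = ψ := by
  have := hU.isLocalization_basicOpen f
  exact IsLocalization.ringHom_ext (Submonoid.powers f) h

theorem hom_ext_stalk (hU : IsAffineOpen U) (hx : x ∈ U) {R : Type*} [CommRing R]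
    (φ ψ : Z.presheaf.stalk x →+* R)
    (h : φ.comp (Z.presheaf.germ U x hx).hom = ψ.comp (Z.presheaf.germ U x hx).hom) : φ = ψ := by
  let _ := TopCat.Presheaf.algebra_section_stalk Z.presheaf (⟨x, hx⟩ : U)
  have := hU.isLocalization_stalk ⟨x, hx⟩
  exact IsLocalization.ringHom_ext (hU.primeIdealOf ⟨x, hx⟩).asIdeal.primeCompl h

/-- the germ cocone is a colimit cocone -/
noncomputable def isColimitGermCocone (hU : IsAffineOpen U) (hx : x ∈ U) :
    IsColimit (germCocone U x) where
  desc s := CommRingCat.ofHom (descHom hU hx s)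
  fac s a := by
    apply CommRingCat.hom_ext
    refine hom_ext_basicOpen hU a.unop.val _ _ ?_
    have h1 : ((germCocone U x).ι.app a ≫ CommRingCat.ofHom (descHom hU hx s)).hom.comp
        (res a.unop).hom = (descHom hU hx s).comp (Z.presheaf.germ U x hx).hom := by
      rw [← res_germ hx a.unop]
      rfl
    have h2 : (s.ι.app a).hom.comp (res a.unop).hom =
        (res (Idx.one hx) ≫ s.ι.app (Opposite.op (Idx.one hx))).hom := by
      rw [← res_comp_ι hx s a.unop]
      rfl
    exact h1.trans ((descHom_comp hU hx s).trans h2.symm)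
  uniq s m hm := by
    apply CommRingCat.hom_ext
    refine hom_ext_stalk hU hx _ _ ?_
    have h1 : m.hom.comp (Z.presheaf.germ U x hx).hom =
        (res (Idx.one hx) ≫ s.ι.app (Opposite.op (Idx.one hx))).hom := by
      rw [← hm (Opposite.op (Idx.one hx)), ← Category.assoc, res_germ hx]
      rfl
    exact h1.trans (descHom_comp hU hx s).symm

variable (U x) in
/-- the diagram of affine schemes -/
noncomputable def specFunctor : Idx U x ⥤ Scheme.{u} := (ringFunctor U x).rightOp ⋙ Scheme.Spec

variable (U x) in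
/-- the cone with vertex the spectrum of the stalk -/
noncomputable def specCone : Cone (specFunctor U x) :=
  Scheme.Spec.mapCone (coneRightOpOfCocone (germCocone U x))

/-- the cone is a limit cone -/
noncomputable def isLimitSpecCone (hU : IsAffineOpen U) (hx : x ∈ U) : IsLimit (specCone U x) :=
  isLimitOfPreserves Scheme.Spec (isLimitConeRightOpOfCocone _ (isColimitGermCocone hU hx))

/-- the structure maps to a base -/
noncomputable def toBase (hU : IsAffineOpen U) {T : Scheme.{u}} (g : Z ⟶ T) :
    specFunctor U x ⟶ (Functor.const _).obj T where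
  app a := (hU.basicOpen a.val).fromSpec ≫ g
  naturality a b m := by
    have h := IsAffineOpen.map_fromSpec (hU.basicOpen b.val) (hU.basicOpen a.val)
      (homOfLE (leOfHom m)).op
    exact ((Category.assoc _ _ _).symm.trans (congrArg (· ≫ g) h)).trans (Category.comp_id _).symm

theorem specCone_π_toBase (hU : IsAffineOpen U) {T : Scheme.{u}} (g : Z ⟶ T) (a : Idx U x) :
    (specCone U x).π.app a ≫ (toBase hU g).app a = Z.fromSpecStalk x ≫ g := by
  rw [← (hU.basicOpen a.val).fromSpecStalk_eq_fromSpecStalk a.mem]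
  rfl

/-- the diagram in `Over T` -/
noncomputable def overFunctor (hU : IsAffineOpen U) {T : Scheme.{u}} (g : Z ⟶ T) :
    Idx U x ⥤ Over T := Over.lift (specFunctor U x) (toBase hU g)

/-- the cone in `Over T` -/
noncomputable def overCone (hU : IsAffineOpen U) {T : Scheme.{u}} (g : Z ⟶ T) :
    Cone (overFunctor (x := x) hU g) :=
  Over.liftCone (specFunctor U x) (toBase hU g) (specCone U x) (Z.fromSpecStalk x ≫ g)
    (specCone_π_toBase hU g)

/-- the cone in `Over T` is a limit cone -/
noncomputable def isLimitOverCone (hU : IsAffineOpen U) (hx : x ∈ U) {T : Scheme.{u}} (g : Z ⟶ T) :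
    IsLimit (overCone (x := x) hU g) :=
  haveI : Nonempty (Idx U x) := ⟨Idx.one hx⟩
  Over.isLimitLiftCone _ _ _ _ _ (isLimitSpecCone hU hx)

end Stalk

end Groth.Agent.R2.H92.FieldPoint
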