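import Groth.Agent.R2.H92GammaStarMod

/-!
# Eventual generation of the module of sections `n ↦ Γ(Proj A, M(n)~)` (helper92)

For a graded ring `A` whose irrelevant ideal is generated by `A_1` and a graded module `M` with (TF):
* `exists_gen_bound`: there is `k₁` with `M_{k+e} = A_e · M_k` for all `k ≥ k₁`, `e ≥ 0`;
* `iSup_range_smulSect_eq_top`: if moreover `A` is Noetherian, there is `k` such that for every `e` the group
  `Γ(Proj A, M(k+e)~)` is generated by the images `a · Γ(Proj A, M(k)~)`, `a ∈ A_e` (via `bijective_alpha`).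
-/

set_option autoImplicit false
set_option linter.unusedSectionVars false

open CategoryTheory AlgebraicGeometry TopologicalSpace Opposite

noncomputable section

namespace Groth.Agent.R2.H92.GammaStarGen

open Groth.Agent.Lib.Helper2GrModSect Groth.Agent.R2.H92.GammaStarMod

universe u

variable {A σ : Type u} [CommRing A] [SetLike σ A] [AddSubgroupClass σ A] {𝒜 : ℕ → σ}
  [GradedRing 𝒜]
variable {M τ : Type u} [AddCommGroup M] [Module A M] [SetLike τ M] [AddSubgroupClass τ M]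
  {ℳ : ℕ → τ} [DirectSum.Decomposition ℳ] [SetLike.GradedSMul 𝒜 ℳ]

variable (𝒜) in
/-- Products of an element of degree `e` and an element of degree `p`. -/
def prodSet (e p : ℕ) : Set A := {z | ∃ x ∈ 𝒜 e, ∃ y ∈ 𝒜 p, z = x * y}

theorem mem_closure_one
    (hgen : (HomogeneousIdeal.irrelevant 𝒜).toIdeal = Ideal.span (𝒜 1 : Set A)) (p : ℕ) {a : A}
    (ha : a ∈ 𝒜 (p + 1)) : a ∈ AddSubgroup.closure (prodSet 𝒜 1 p) := by
  classical
  have hirr : a ∈ (HomogeneousIdeal.irrelevant 𝒜).toIdeal := by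
    change a ∈ HomogeneousIdeal.irrelevant 𝒜
    rw [HomogeneousIdeal.mem_irrelevant_iff, GradedRing.proj_apply,
      DirectSum.decompose_of_mem_ne 𝒜 ha (Nat.succ_ne_zero p)]
  rw [hgen] at hirr
  have key : ∀ z ∈ Ideal.span (𝒜 1 : Set A),
      (DirectSum.decompose 𝒜 z (p + 1) : A) ∈ AddSubgroup.closure (prodSet 𝒜 1 p) := by
    intro z hz
    refine Submodule.closure_induction (p := fun z _ =>
      (DirectSum.decompose 𝒜 z (p + 1) : A) ∈ AddSubgroup.closure (prodSet 𝒜 1 p)) ?_ ?_ ?_ hz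
    · rw [DirectSum.decompose_zero]
      exact zero_mem _
    · intro x y _ _ hx hy
      rw [DirectSum.decompose_add, DirectSum.add_apply, AddMemClass.coe_add]
      exact add_mem hx hy
    · intro r x hx
      rw [smul_eq_mul, DirectSum.coe_decompose_mul_add_of_right_mem 𝒜 (show x ∈ 𝒜 1 from hx)]
      refine AddSubgroup.subset_closure ⟨x, hx, _, (DirectSum.decompose 𝒜 r p).2, ?_⟩
      rw [mul_comm]
  have h := key a hirr
  rwa [DirectSum.decompose_of_mem_same 𝒜 ha] at h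

theorem mem_closure_prodSet
    (hgen : (HomogeneousIdeal.irrelevant 𝒜).toIdeal = Ideal.span (𝒜 1 : Set A)) (e p : ℕ) {a : A}
    (ha : a ∈ 𝒜 (e + p)) : a ∈ AddSubgroup.closure (prodSet 𝒜 e p) := by
  induction e generalizing a with
  | zero =>
    refine AddSubgroup.subset_closure ⟨1, SetLike.GradedOne.one_mem, a, ?_, (one_mul a).symm⟩
    rwa [zero_add] at ha
  | succ e ih =>
    have ha' : a ∈ 𝒜 ((e + p) + 1) := by
      have h : e + 1 + p = e + p + 1 := by omega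
      rwa [h] at ha
    have h1 := mem_closure_one hgen (e + p) ha'
    refine AddSubgroup.closure_induction (p := fun z _ => z ∈ AddSubgroup.closure (prodSet 𝒜 (e + 1) p))
      ?_ (zero_mem _) (fun x y _ _ hx hy => add_mem hx hy) (fun x _ hx => neg_mem hx) h1
    rintro _ ⟨x, hx, y, hy, rfl⟩
    have h2 := ih hy
    refine AddSubgroup.closure_induction (p := fun z _ => x * z ∈ AddSubgroup.closure (prodSet 𝒜 (e + 1) p))
      ?_ (by rw [mul_zero]; exact zero_mem _) (fun u v _ _ hu hv => by rw [mul_add]; exact add_mem hu hv)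
      (fun u _ hu => by rw [mul_neg]; exact neg_mem hu) h2
    rintro _ ⟨x', hx', y', hy', rfl⟩
    refine AddSubgroup.subset_closure ⟨x * x', ?_, y', hy', (mul_assoc _ _ _).symm⟩
    have h3 := SetLike.GradedMul.mul_mem hx hx'
    rwa [add_comm] at h3

variable (𝒜 ℳ) in
/-- The products `a • m'` with `a ∈ A_e`, `m' ∈ M_k`. -/
def smulSet (e k : ℕ) : Set M := {z | ∃ a ∈ 𝒜 e, ∃ m' ∈ ℳ k, z = a • m'}

/-- `M_{k+e} = A_e · M_k` for `k ≫ 0` when the ring is generated in degree one and `M` satisfies (TF). -/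
theorem exists_gen_bound
    (hgen : (HomogeneousIdeal.irrelevant 𝒜).toIdeal = Ideal.span (𝒜 1 : Set A))
    (hTF : ∃ k : ℕ, (Submodule.span A (⋃ i ∈ Set.Ici k, (ℳ i : Set M))).FG) :
    ∃ k₁ : ℕ, ∀ k : ℕ, k₁ ≤ k → ∀ (e : ℕ) (m : M), m ∈ ℳ (k + e) →
      m ∈ AddSubgroup.closure (smulSet 𝒜 ℳ e k) := by
  classical
  obtain ⟨k0, S, hS⟩ := hTF
  refine ⟨max (S.sup fun s => (DirectSum.decompose ℳ s).support.sup id) k0, fun k hk e m hm => ?_⟩
  have hD : ∀ s ∈ S, ∀ j ∈ (DirectSum.decompose ℳ s).support, j ≤ k := by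
    intro s hs j hj
    have h1 : j ≤ (DirectSum.decompose ℳ s).support.sup id := Finset.le_sup (f := id) hj
    have h2 : (DirectSum.decompose ℳ s).support.sup id ≤
        S.sup fun s => (DirectSum.decompose ℳ s).support.sup id :=
      Finset.le_sup (f := fun s => (DirectSum.decompose ℳ s).support.sup id) hs
    exact le_trans h1 (le_trans h2 (le_trans (le_max_left _ _) hk))
  have hk0 : k0 ≤ k + e := le_trans (le_trans (le_max_right _ _) hk) (Nat.le_add_right _ _)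
  have hmP : m ∈ Submodule.span A (S : Set M) := by
    rw [hS]
    exact Submodule.subset_span (Set.mem_iUnion₂.2 ⟨k + e, hk0, hm⟩)
  have key : ∀ z ∈ Submodule.span A (S : Set M),
      (DirectSum.decompose ℳ z (k + e) : M) ∈ AddSubgroup.closure (smulSet 𝒜 ℳ e k) := by
    intro z hz
    refine Submodule.closure_induction (p := fun z _ =>
      (DirectSum.decompose ℳ z (k + e) : M) ∈ AddSubgroup.closure (smulSet 𝒜 ℳ e k)) ?_ ?_ ?_ hz
    · rw [DirectSum.decompose_zero]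
      exact zero_mem _
    · intro x y _ _ hx hy
      rw [DirectSum.decompose_add, DirectSum.add_apply, AddMemClass.coe_add]
      exact add_mem hx hy
    · intro c s hs
      have hsum : s = ∑ j ∈ (DirectSum.decompose ℳ s).support, (DirectSum.decompose ℳ s j : M) :=
        (DirectSum.sum_support_decompose ℳ s).symm
      rw [hsum, Finset.smul_sum, DirectSum.decompose_sum, DFinsupp.finsetSum_apply,
        AddSubmonoidClass.coe_finsetSum]
      refine AddSubgroup.sum_mem _ (fun j hj => ?_)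
      have hjk : j ≤ k := hD s hs j hj
      have hdeg : k + e = (e + (k - j)) + j := by omega
      rw [hdeg, decompose_smul 𝒜 ℳ (DirectSum.decompose ℳ s j).2 c (e + (k - j))]
      have hc := mem_closure_prodSet hgen e (k - j) (DirectSum.decompose 𝒜 c (e + (k - j))).2
      refine AddSubgroup.closure_induction (p := fun u _ =>
        u • (DirectSum.decompose ℳ s j : M) ∈ AddSubgroup.closure (smulSet 𝒜 ℳ e k))
        ?_ (by rw [zero_smul]; exact zero_mem _)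
        (fun u v _ _ hu hv => by rw [add_smul]; exact add_mem hu hv)
        (fun u _ hu => by rw [neg_smul]; exact neg_mem hu) hc
      rintro _ ⟨x, hx, y, hy, rfl⟩
      refine AddSubgroup.subset_closure ⟨x, hx, y • (DirectSum.decompose ℳ s j : M), ?_, mul_smul _ _ _⟩
      have h3 := SetLike.GradedSMul.smul_mem hy (DirectSum.decompose ℳ s j).2
      have h4 : k - j + j = k := by omega
      rwa [vadd_eq_add, h4] at h3
  have h := key m hmP
  rwa [DirectSum.decompose_of_mem_same ℳ hm] at h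

/-! ### Sections -/

/-- The section `m / 1` of `M(n')~`, for `m ∈ M_i` and `n' = i`. -/
def gl {i : ℕ} {n' : ℤ} (h : (i : ℤ) = n') (m : ℳ i) : GrMod.sect 𝒜 ℳ n' (op ⊤) :=
  h ▸ GrMod.globalOf 𝒜 ℳ m

/-- The value of a section at a point, in the localized module. -/
def sval {n' : ℤ} (t : GrMod.sect 𝒜 ℳ n' (op ⊤)) (y : ProjectiveSpectrum 𝒜) :
    GrMod.LocMod 𝒜 (M := M) y :=
  ((t.1 ⟨y, trivial⟩ : GrMod.tildeAt 𝒜 ℳ n' y) : GrMod.LocMod 𝒜 (M := M) y)

theorem sval_ext {n' : ℤ} {t t' : GrMod.sect 𝒜 ℳ n' (op ⊤)} (h : ∀ y, sval t y = sval t' y) :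
    t = t' :=
  Subtype.ext (funext fun w => Subtype.ext (h w.1))

theorem sval_globalOf {i : ℕ} (m : ℳ i) (y : ProjectiveSpectrum 𝒜) :
    sval (GrMod.globalOf 𝒜 ℳ m) y = LocalizedModule.mk (m : M) 1 := rfl

theorem sval_gl {i : ℕ} {n' : ℤ} (h : (i : ℤ) = n') (m : ℳ i) (y : ProjectiveSpectrum 𝒜) :
    sval (gl h m) y = LocalizedModule.mk (m : M) 1 := by
  subst h
  rfl

theorem sval_add {n' : ℤ} (t t' : GrMod.sect 𝒜 ℳ n' (op ⊤)) (y : ProjectiveSpectrum 𝒜) :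
    sval (t + t') y = sval t y + sval t' y := rfl

theorem sval_neg {n' : ℤ} (t : GrMod.sect 𝒜 ℳ n' (op ⊤)) (y : ProjectiveSpectrum 𝒜) :
    sval (-t) y = -sval t y := rfl

theorem sval_zero {n' : ℤ} (y : ProjectiveSpectrum 𝒜) :
    sval (0 : GrMod.sect 𝒜 ℳ n' (op ⊤)) y = 0 := rfl

theorem sval_smulSect {e : ℕ} (a : 𝒜 e) (n' : ℤ) (t : GrMod.sect 𝒜 ℳ n' (op ⊤))
    (y : ProjectiveSpectrum 𝒜) :
    sval (GrMod.smulSect 𝒜 ℳ a n' (op ⊤) t) y =
      (Localization.mk (a : A) (1 : y.asHomogeneousIdeal.toIdeal.primeCompl) : GrTwist.Loc 𝒜 y) •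
        sval t y := rfl

theorem exists_of_surjective {i : ℕ} (hsurj : Function.Surjective (GrMod.alpha 𝒜 ℳ i)) {n' : ℤ}
    (h : (i : ℤ) = n') (t : GrMod.sect 𝒜 ℳ n' (op ⊤)) :
    ∃ m : M, m ∈ ℳ i ∧ ∀ y, sval t y = LocalizedModule.mk m 1 := by
  subst h
  obtain ⟨m, hm⟩ := hsurj t
  refine ⟨m.1, m.2, fun y => ?_⟩
  have e1 := congrArg (fun s : GrMod.sect 𝒜 ℳ (i : ℤ) (op ⊤) => sval s y) hm
  exact e1.symm

/-- The sections generated by the products `a · Γ(M(k)~)`, `a ∈ A_e`. -/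
def genSub (k e : ℕ) : AddSubgroup (GrMod.sect 𝒜 ℳ ((k : ℤ) + (e : ℕ)) (op ⊤)) :=
  ⨆ a : 𝒜 e, (GrMod.smulSect 𝒜 ℳ a (k : ℤ) (op (⊤ : Opens (ProjectiveSpectrum.top 𝒜)))).range

theorem mem_genSub_of_smul (k e : ℕ) {a : A} (ha : a ∈ 𝒜 e) {m' : M} (hm' : m' ∈ ℳ k)
    (t' : GrMod.sect 𝒜 ℳ ((k : ℤ) + (e : ℕ)) (op ⊤))
    (ht' : ∀ y, sval t' y = LocalizedModule.mk (a • m') 1) : t' ∈ genSub (𝒜 := 𝒜) (ℳ := ℳ) k e := by
  refine AddSubgroup.mem_iSup_of_mem ⟨a, ha⟩ ⟨GrMod.globalOf 𝒜 ℳ ⟨m', hm'⟩, ?_⟩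
  refine sval_ext (fun y => ?_)
  rw [ht' y, sval_smulSect, sval_globalOf, LocalizedModule.mk_smul_mk, one_mul]

theorem key (k e : ℕ) (hcast : ((k + e : ℕ) : ℤ) = (k : ℤ) + (e : ℕ)) :
    ∀ z ∈ AddSubgroup.closure (smulSet 𝒜 ℳ e k), z ∈ ℳ (k + e) ∧
      ∀ t' : GrMod.sect 𝒜 ℳ ((k : ℤ) + (e : ℕ)) (op ⊤),
        (∀ y, sval t' y = LocalizedModule.mk z 1) → t' ∈ genSub (𝒜 := 𝒜) (ℳ := ℳ) k e := by
  intro z hz
  refine AddSubgroup.closure_induction (p := fun z _ => z ∈ ℳ (k + e) ∧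
    ∀ t' : GrMod.sect 𝒜 ℳ ((k : ℤ) + (e : ℕ)) (op ⊤),
      (∀ y, sval t' y = LocalizedModule.mk z 1) → t' ∈ genSub (𝒜 := 𝒜) (ℳ := ℳ) k e) ?_ ?_ ?_ ?_ hz
  · rintro _ ⟨a, ha, m', hm', rfl⟩
    refine ⟨?_, fun t' ht' => mem_genSub_of_smul k e ha hm' t' ht'⟩
    have h3 := SetLike.GradedSMul.smul_mem ha hm'
    rwa [vadd_eq_add, add_comm] at h3
  · refine ⟨zero_mem _, fun t' ht' => ?_⟩
    have h0 : t' = 0 := by
      refine sval_ext (fun y => ?_)
      rw [ht' y, LocalizedModule.zero_mk, sval_zero]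
    rw [h0]
    exact zero_mem _
  · rintro x y _ _ ⟨hx, hx'⟩ ⟨hy, hy'⟩
    refine ⟨add_mem hx hy, fun t' ht' => ?_⟩
    have h0 : t' = gl (𝒜 := 𝒜) hcast ⟨x, hx⟩ + gl (𝒜 := 𝒜) hcast ⟨y, hy⟩ := by
      refine sval_ext (fun w => ?_)
      rw [ht' w, sval_add, sval_gl, sval_gl]
      exact (LocalizedModule.mkLinearMap _ M).map_add x y
    rw [h0]
    exact add_mem (hx' _ (sval_gl hcast ⟨x, hx⟩)) (hy' _ (sval_gl hcast ⟨y, hy⟩))
  · rintro x _ ⟨hx, hx'⟩
    refine ⟨neg_mem hx, fun t' ht' => ?_⟩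
    have h0 : t' = -gl (𝒜 := 𝒜) hcast ⟨x, hx⟩ := by
      refine sval_ext (fun w => ?_)
      rw [ht' w, sval_neg, sval_gl]
      exact (LocalizedModule.mkLinearMap _ M).map_neg x
    rw [h0]
    exact neg_mem (hx' _ (sval_gl hcast ⟨x, hx⟩))

/-- **Eventual generation** of the graded module of sections `n ↦ Γ(Proj A, M(n)~)`. -/
theorem iSup_range_smulSect_eq_top [IsNoetherianRing A]
    (hgen : (HomogeneousIdeal.irrelevant 𝒜).toIdeal = Ideal.span (𝒜 1 : Set A))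
    (hTF : ∃ k : ℕ, (Submodule.span A (⋃ i ∈ Set.Ici k, (ℳ i : Set M))).FG) :
    ∃ k : ℕ, ∀ e : ℕ,
      (⨆ a : 𝒜 e, (GrMod.smulSect 𝒜 ℳ a (k : ℤ)
        (op (⊤ : Opens (ProjectiveSpectrum.top 𝒜)))).range) = ⊤ := by
  obtain ⟨N, hN⟩ := bijective_alpha (𝒜 := 𝒜) (ℳ := ℳ) hTF
  obtain ⟨k₁, hk₁⟩ := exists_gen_bound (𝒜 := 𝒜) (ℳ := ℳ) hgen hTF
  refine ⟨max N k₁, fun e => ?_⟩
  have hcast : ((max N k₁ + e : ℕ) : ℤ) = ((max N k₁ : ℕ) : ℤ) + (e : ℕ) := Nat.cast_add _ _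
  have hsurj := (hN (max N k₁ + e) (le_trans (le_max_left _ _) (Nat.le_add_right _ _))).2
  have hall : ∀ t : GrMod.sect 𝒜 ℳ (((max N k₁ : ℕ) : ℤ) + (e : ℕ)) (op ⊤),
      t ∈ genSub (𝒜 := 𝒜) (ℳ := ℳ) (max N k₁) e := by
    intro t
    obtain ⟨m, hm, hval⟩ := exists_of_surjective hsurj hcast t
    exact (key (max N k₁) e hcast m (hk₁ (max N k₁) (le_max_right _ _) e m hm)).2 t hval
  exact eq_top_iff.2 (fun t _ => hall t)

end Groth.Agent.R2.H92.GammaStarGen
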