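import Groth.Agent.R2.H92GammaStarAlg
import Groth.Agent.R2.H92GammaStarZ
import Groth.Agent.Lib.Helper2GrModSect4

/-!
# Serre's theorem `M_n ≃ Γ(Proj A, M(n)~)` for `n ≫ 0`, `GrMod` form with condition (TF) (helper92)

`A` a Noetherian ring positively graded by additive subgroups (generators of any positive degrees), `M` a graded
`A`-module satisfying (TF): the submodule generated by the pieces of degree `≥ k` is finitely generated.
`bijective_alpha`: there is `N` such that `GrMod.alpha 𝒜 ℳ n : M_n → Γ(Proj A, M(n)~)` is bijective for `n ≥ N`.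

Same proof as `H92GammaStar.bijective_globalOf` (helper2's `Helper2GrModSect.exists_global` for the sections
over `D₊(f)`), applied to the finitely generated graded module `M_{≥ k}`.
-/

set_option autoImplicit false
set_option linter.unusedSectionVars false

open CategoryTheory AlgebraicGeometry TopologicalSpace Opposite

noncomputable section

namespace Groth.Agent.R2.H92.GammaStarMod

open Groth.Agent.Lib.Helper2GrModSect Groth.Agent.R2.H92.GammaStarZ Groth.Agent.R2.H92.GammaStarAlg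
  Groth.Agent.R2.H72.GrBdd Groth.Agent.R2.H72.GrBddLocal Groth.Agent.R2.H72.GrMod

universe u

variable {A σ : Type u} [CommRing A] [SetLike σ A] [AddSubgroupClass σ A] {𝒜 : ℕ → σ}
  [GradedRing 𝒜]
variable {M τ : Type u} [AddCommGroup M] [Module A M] [SetLike τ M] [AddSubgroupClass τ M]
  {ℳ : ℕ → τ} [DirectSum.Decomposition ℳ] [SetLike.GradedSMul 𝒜 ℳ]

/-- The global section `s` of `M(n)~` is the fraction `m / g ^ K` on `D₊(g)`. -/
def Rep (n : ℤ) (s : GrMod.sect 𝒜 ℳ n (op ⊤)) (g : A) (K : ℕ) (m : M) : Prop :=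
  ∀ (y : ProjectiveSpectrum 𝒜) (hy : g ∉ y.asHomogeneousIdeal),
    ((s.1 ⟨y, trivial⟩ : GrMod.tildeAt 𝒜 ℳ n y) : GrMod.LocMod 𝒜 (M := M) y) =
      (LocalizedModule.mk m ⟨g ^ K, fun h => hy (y.isPrime.mem_of_pow_mem K h)⟩ :
        GrMod.LocMod 𝒜 (M := M) y)

theorem exists_rep {n : ℤ} (s : GrMod.sect 𝒜 ℳ n (op ⊤)) {g : A} {e : ℕ} (he : 0 < e)
    (hg : g ∈ 𝒜 e) :
    ∃ (k i : ℕ) (m : M), m ∈ ℳ i ∧ (i : ℤ) = k * e + n ∧ Rep n s g k m := by
  obtain ⟨k, i, m, hi, hm⟩ := exists_global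
    (GrMod.res 𝒜 ℳ n (homOfLE (le_top : ProjectiveSpectrum.basicOpen 𝒜 g ≤ ⊤)).op s) he hg
  refine ⟨k, i, m.1, m.2, hi, fun y hy => ?_⟩
  exact hm ⟨y, (ProjectiveSpectrum.mem_basicOpen 𝒜 g y).mpr hy⟩

theorem Rep.raise {n : ℤ} {s : GrMod.sect 𝒜 ℳ n (op ⊤)} {g : A} {K : ℕ} {m : M}
    (h : Rep n s g K m) (l : ℕ) : Rep n s g (K + l) (g ^ l • m) := by
  intro y hy
  rw [h y hy, LocalizedModule.mk_eq]
  refine ⟨1, ?_⟩
  rw [one_smul, one_smul]
  change g ^ (K + l) • m = g ^ K • g ^ l • m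
  rw [smul_smul, pow_add]

theorem Rep.compat {n : ℤ} {s : GrMod.sect 𝒜 ℳ n (op ⊤)} {g g' : A} {K K' : ℕ} {m m' : M}
    (h : Rep n s g K m) (h' : Rep n s g' K' m') (y : ProjectiveSpectrum 𝒜)
    (hy : g ∉ y.asHomogeneousIdeal) (hy' : g' ∉ y.asHomogeneousIdeal) :
    ∃ u : A, u ∉ y.asHomogeneousIdeal ∧ u • (g' ^ K' • m - g ^ K • m') = 0 := by
  have e := (h y hy).symm.trans (h' y hy')
  rw [LocalizedModule.mk_eq] at e
  obtain ⟨u, hu⟩ := e
  refine ⟨u.1, u.2, ?_⟩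
  rw [smul_sub, sub_eq_zero]
  exact hu

/-- A relevant prime misses one of the generators of the irrelevant ideal. -/
theorem exists_not_mem {κ : Type u} (f : κ → A)
    (hspan : (irrH (extZ 𝒜)).toIdeal = Ideal.span (Set.range f)) (y : ProjectiveSpectrum 𝒜) :
    ∃ i, f i ∉ y.asHomogeneousIdeal := by
  classical
  by_contra hcon
  push Not at hcon
  apply y.not_irrelevant_le
  have hle : (irrH (extZ 𝒜)).toIdeal ≤ y.asHomogeneousIdeal.toIdeal := by
    rw [hspan, Ideal.span_le]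
    rintro _ ⟨i, rfl⟩
    exact hcon i
  intro a ha
  rw [HomogeneousIdeal.mem_irrelevant_iff, GradedRing.proj_apply] at ha
  rw [← DirectSum.sum_support_decompose 𝒜 a]
  refine Ideal.sum_mem _ (fun k _ => ?_)
  rcases Nat.eq_zero_or_pos k with hk | hk
  · subst hk
    rw [ha]
    exact zero_mem _
  · apply hle
    rw [irrH_toIdeal]
    refine Ideal.subset_span (Set.mem_iUnion₂.2 ⟨(k : ℤ), ?_, ?_⟩)
    · exact Int.natCast_pos.2 hk
    · exact (DirectSum.decompose 𝒜 a k).2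

theorem pow_smul_eq_zero_mono {g : A} {z : M} {L L' : ℕ} (h : L ≤ L') (hz : g ^ L • z = 0) :
    g ^ L' • z = 0 := by
  obtain ⟨l, rfl⟩ := Nat.exists_eq_add_of_le h
  rw [pow_add, mul_comm, mul_smul, hz, smul_zero]

theorem pow_mem_graded' {g : A} {e : ℕ} (hg : g ∈ 𝒜 e) (l : ℕ) : g ^ l ∈ 𝒜 (l * e) := by
  have := SetLike.pow_mem_graded l hg
  simpa [smul_eq_mul] using this

/-- The span of a set of homogeneous elements is a homogeneous submodule. -/
theorem span_isHomogeneous {R : Type u} [CommRing R] {𝒜' : ℤ → AddSubgroup R} [GradedRing 𝒜']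
    (X : GrLC.GMod.{u} 𝒜') (S : Set X.carrier) (hS : ∀ s ∈ S, ∃ k, s ∈ X.gr k) :
    (Submodule.span R S).IsHomogeneous X.gr := by
  intro j x hx
  rw [Submodule.span_eq_iSup_of_singleton_spans, iSup_subtype'] at hx
  refine Submodule.iSup_induction (p := fun s : S => Submodule.span R {(s : X.carrier)})
    (motive := fun x => ((DirectSum.decompose X.gr x) j : X.carrier) ∈ Submodule.span R S) hx ?_ ?_ ?_
  · intro s y hy
    obtain ⟨k, hk⟩ := hS s.1 s.2
    have h1 := Groth.Agent.Lib.Helper29GrHom.span_singleton_isHomogeneous 𝒜' X.gr hk j hy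
    exact Submodule.span_mono (Set.singleton_subset_iff.2 s.2) h1
  · rw [DirectSum.decompose_zero]
    exact zero_mem _
  · intro y z hy hz
    rw [DirectSum.decompose_add, DirectSum.add_apply, AddSubgroup.coe_add]
    exact add_mem hy hz

variable (A ℳ) in
/-- The submodule generated by the pieces of degree `≥ k`. -/
def geSpan (k : ℕ) : Submodule A M := Submodule.span A (⋃ i ∈ Set.Ici k, (ℳ i : Set M))

theorem mem_geSpan {k i : ℕ} (hi : k ≤ i) {m : M} (hm : m ∈ ℳ i) : m ∈ geSpan A ℳ k :=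
  Submodule.subset_span (Set.mem_iUnion₂.2 ⟨i, hi, hm⟩)

theorem geSpan_isHomogeneous (k : ℕ) :
    (geSpan A ℳ k : Submodule A (gmodZ 𝒜 ℳ).carrier).IsHomogeneous (gmodZ 𝒜 ℳ).gr := by
  refine span_isHomogeneous (gmodZ 𝒜 ℳ) _ ?_
  intro s hs
  obtain ⟨i, _, hsi⟩ := Set.mem_iUnion₂.1 hs
  exact ⟨(i : ℤ), hsi⟩

/-- **Serre's theorem** (`GrMod` form, condition (TF)): for a graded module `M` with `M_{≥ k}` finitely
generated over a Noetherian positively graded ring `A`, the map `α_n : M_n → Γ(Proj A, M(n)~)` is bijective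
for all `n ≫ 0`. -/
theorem bijective_alpha [IsNoetherianRing A]
    (hTF : ∃ k : ℕ, (Submodule.span A (⋃ i ∈ Set.Ici k, (ℳ i : Set M))).FG) :
    ∃ N : ℕ, ∀ n : ℕ, N ≤ n → Function.Bijective (GrMod.alpha 𝒜 ℳ n) := by
  classical
  obtain ⟨k, hk⟩ := hTF
  have hfin : Module.Finite A (subG (gmodZ 𝒜 ℳ) (geSpan A ℳ k) (geSpan_isHomogeneous k)).carrier :=
    Module.Finite.iff_fg.2 hk
  obtain ⟨r, hr⟩ := GammaStarAlg.main.{u, u} (𝒜 := extZ 𝒜)
    (subG (gmodZ 𝒜 ℳ) (geSpan A ℳ k) (geSpan_isHomogeneous k))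
  obtain ⟨t, deg, hdeg, hspan0⟩ := exists_gens (irrH (extZ 𝒜)) (irrH_toIdeal (𝒜 := extZ 𝒜))
  let f : t → A := fun i => i.1
  let e : t → ℕ := fun i => (deg i.1).toNat
  have he : ∀ i, 0 < e i := fun i => by
    have := (hdeg i.1 i.2).2
    show 0 < (deg i.1).toNat
    omega
  have hfe : ∀ i, f i ∈ 𝒜 (e i) := fun i =>
    (mem_extZ_iff_of_nonneg 𝒜 (hdeg i.1 i.2).2.le _).1 (hdeg i.1 i.2).1
  have hspan : (irrH (extZ 𝒜)).toIdeal = Ideal.span (Set.range f) := by
    rw [hspan0]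
    congr 1
    exact Subtype.range_coe.symm
  refine ⟨max r.toNat k, fun n hn => ?_⟩
  have hrn : r ≤ (n : ℤ) := by
    have := le_trans (le_max_left _ _) hn
    omega
  have hkn : k ≤ n := le_trans (le_max_right _ _) hn
  obtain ⟨hinj, hsurj⟩ := hr n hrn
  constructor
  · -- injectivity
    rw [injective_iff_map_eq_zero]
    intro m1 h1
    have key : ∀ y : ProjectiveSpectrum 𝒜,
        ∃ u : A, u ∉ y.asHomogeneousIdeal ∧ u • (m1 : M) = 0 := by
      intro y
      have e1 := congrArg (fun s : GrMod.sect 𝒜 ℳ (n : ℤ) (op ⊤) =>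
        ((s.1 ⟨y, trivial⟩ : GrMod.tildeAt 𝒜 ℳ n y) : GrMod.LocMod 𝒜 (M := M) y)) h1
      have e2 : (LocalizedModule.mk (m1 : M) (1 : y.asHomogeneousIdeal.toIdeal.primeCompl) :
          GrMod.LocMod 𝒜 (M := M) y) = LocalizedModule.mk 0 1 := by
        rw [LocalizedModule.zero_mk]
        exact e1
      rw [LocalizedModule.mk_eq] at e2
      obtain ⟨u, hu⟩ := e2
      refine ⟨u.1, u.2, ?_⟩
      rw [one_smul, smul_zero, smul_zero] at hu
      exact hu
    have hall : ∃ L : ℕ, ∀ i, f i ^ L • (m1 : M) = 0 := by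
      apply exists_uniform (p := fun i L => f i ^ L • (m1 : M) = 0)
        (fun i L L' h hz => pow_smul_eq_zero_mono h hz)
      intro i
      obtain ⟨N, hN⟩ := exists_pow_smul_eq_zero 𝒜 ℳ (he i) (hfe i) m1.2 (fun y _ => key y)
      exact ⟨N, hN N le_rfl⟩
    obtain ⟨L, hL⟩ := hall
    have h0 := hinj (⟨(m1 : M), mem_geSpan hkn m1.2⟩ : ↥(geSpan A ℳ k))
      (show (m1 : M) ∈ extZ ℳ (n : ℤ) from m1.2)
      ((mem_gam_iff f hspan
        (Z := (subG (gmodZ 𝒜 ℳ) (geSpan A ℳ k) (geSpan_isHomogeneous k)).carrier) _).2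
        ⟨L, fun i => Subtype.ext (hL i)⟩)
    have h00 : (m1 : M) = 0 := congrArg Subtype.val h0
    exact Subtype.ext h00
  · -- surjectivity
    intro s
    have h1 : ∃ K0 : ℕ, ∀ i : t, ∃ (q : ℕ) (m : M), m ∈ ℳ q ∧ (q : ℤ) = K0 * e i + n ∧
        Rep (n : ℤ) s (f i) K0 m := by
      apply exists_uniform (p := fun (i : t) (K0 : ℕ) => ∃ (q : ℕ) (m : M), m ∈ ℳ q ∧
        (q : ℤ) = K0 * e i + n ∧ Rep (n : ℤ) s (f i) K0 m)
      · rintro i L L' hLL' ⟨q, m, hm, hq, hrep⟩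
        obtain ⟨l, rfl⟩ := Nat.exists_eq_add_of_le hLL'
        refine ⟨l * e i + q, f i ^ l • m, ?_, ?_, hrep.raise l⟩
        · exact SetLike.GradedSMul.smul_mem (pow_mem_graded' (hfe i) l) hm
        · push_cast
          rw [hq]
          ring
      · intro i
        obtain ⟨k', q, m, hm, hq, hrep⟩ := exists_rep s (he i) (hfe i)
        exact ⟨k', q, m, hm, hq, hrep⟩
    obtain ⟨K0, hK0⟩ := h1
    choose q m' hm' hq' hrep' using hK0
    have h2 : ∃ l : ℕ, ∀ ij : t × t,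
        (f ij.1 * f ij.2) ^ l • (f ij.2 ^ K0 • m' ij.1 - f ij.1 ^ K0 • m' ij.2) = 0 := by
      apply exists_uniform (p := fun (ij : t × t) (l : ℕ) =>
        (f ij.1 * f ij.2) ^ l • (f ij.2 ^ K0 • m' ij.1 - f ij.1 ^ K0 • m' ij.2) = 0)
        (fun ij L L' h hz => pow_smul_eq_zero_mono h hz)
      intro ij
      have hdegeq : K0 * e ij.1 + q ij.2 = K0 * e ij.2 + q ij.1 := by
        have h3 : ((K0 * e ij.1 + q ij.2 : ℕ) : ℤ) = ((K0 * e ij.2 + q ij.1 : ℕ) : ℤ) := by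
          push_cast
          linarith [hq' ij.1, hq' ij.2]
        exact_mod_cast h3
      have hz : (f ij.2 ^ K0 • m' ij.1 - f ij.1 ^ K0 • m' ij.2) ∈ ℳ (K0 * e ij.2 + q ij.1) := by
        refine sub_mem (SetLike.GradedSMul.smul_mem (pow_mem_graded' (hfe ij.2) K0) (hm' ij.1)) ?_
        rw [← hdegeq]
        exact SetLike.GradedSMul.smul_mem (pow_mem_graded' (hfe ij.1) K0) (hm' ij.2)
      obtain ⟨N, hN⟩ := exists_pow_smul_eq_zero 𝒜 ℳ (e := e ij.1 + e ij.2)
        (Nat.add_pos_left (he ij.1) _) (SetLike.mul_mem_graded (hfe ij.1) (hfe ij.2)) hz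
        (fun y hy => (hrep' ij.1).compat (hrep' ij.2) y
          (fun h => hy (Ideal.mul_mem_right _ _ h)) (fun h => hy (Ideal.mul_mem_left _ _ h)))
      exact ⟨N, hN N le_rfl⟩
    obtain ⟨l, hl⟩ := h2
    have hdeg'' : ∀ i, ((l * e i + q i : ℕ) : ℤ) = (n : ℤ) + ((K0 + l : ℕ) : ℤ) * (e i : ℤ) := by
      intro i
      have := hq' i
      push_cast
      linarith
    have hmem'' : ∀ i, f i ^ l • m' i ∈ ℳ (l * e i + q i) := fun i =>
      SetLike.GradedSMul.smul_mem (pow_mem_graded' (hfe i) l) (hm' i)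
    have hge : ∀ i, k ≤ l * e i + q i := by
      intro i
      have h3 : ((k : ℕ) : ℤ) ≤ ((l * e i + q i : ℕ) : ℤ) := by
        rw [hdeg'' i]
        have h4 : (0 : ℤ) ≤ ((K0 + l : ℕ) : ℤ) * (e i : ℤ) := by positivity
        have h5 : (k : ℤ) ≤ (n : ℤ) := by exact_mod_cast hkn
        linarith
      exact_mod_cast h3
    have hc : ∀ i j, f j ^ (K0 + l) • (f i ^ l • m' i) = f i ^ (K0 + l) • (f j ^ l • m' j) := by
      intro i j
      have h := hl (i, j)
      rw [smul_sub, sub_eq_zero, smul_smul, smul_smul] at h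
      rw [smul_smul, smul_smul]
      have e1 : f j ^ (K0 + l) * f i ^ l = (f i * f j) ^ l * f j ^ K0 := by ring
      have e2 : f i ^ (K0 + l) * f j ^ l = (f i * f j) ^ l * f i ^ K0 := by ring
      rw [e1, e2]
      exact h
    have hcore : ∃ x : M, x ∈ ℳ n ∧ ∃ L : ℕ,
        ∀ i, f i ^ L • (f i ^ (K0 + l) • x - f i ^ l • m' i) = 0 := by
      obtain ⟨x, hx, L, hL⟩ := hsurj f (fun i => (e i : ℤ)) (fun i => hfe i) hspan (K0 + l)
        (fun i => (⟨f i ^ l • m' i, mem_geSpan (hge i) (hmem'' i)⟩ : ↥(geSpan A ℳ k)))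
        (fun i => mem_extZ_of_mem ℳ (hdeg'' i) (hmem'' i))
        (fun i j => Subtype.ext (hc i j))
      exact ⟨x.1, hx, L, fun i => congrArg Subtype.val (hL i)⟩
    obtain ⟨x, hx, L, hL⟩ := hcore
    refine ⟨⟨x, hx⟩, ?_⟩
    apply Subtype.ext
    funext y
    apply Subtype.ext
    obtain ⟨i, hi⟩ := exists_not_mem f hspan y.1
    have hrep := ((hrep' i).raise l) y.1 hi
    refine Eq.trans ?_ hrep.symm
    have hy1 : (y.1 : ProjectiveSpectrum 𝒜).asHomogeneousIdeal.toIdeal.IsPrime :=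
      (y.1 : ProjectiveSpectrum 𝒜).isPrime
    show (LocalizedModule.mk x
      (1 : (y.1 : ProjectiveSpectrum 𝒜).asHomogeneousIdeal.toIdeal.primeCompl) :
      GrMod.LocMod 𝒜 (M := M) y.1) = _
    rw [LocalizedModule.mk_eq]
    refine ⟨⟨f i ^ L, fun h => hi (y.1.isPrime.mem_of_pow_mem L h)⟩, ?_⟩
    have h3 := hL i
    rw [smul_sub, sub_eq_zero] at h3
    rw [one_smul]
    exact h3

end Groth.Agent.R2.H92.GammaStarMod
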