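import Mathlib

/-!
# Generalized inverses of matrices and projectivity of cokernels (helper92)

Namespace `Groth.Agent.R2.H92.GenInv`.

* `exists_mul_mul_eq_of_projective`: if the cokernel of `M.mulVecLin` is (identified with) a
  projective module, then `M` has a generalized inverse: `M * N * M = M` for some `N`.
* `projective_quotient_range_of_mul_mul_eq`: if `M * N * M = M` then the cokernel of `M.mulVecLin`
  is projective.
* `piAlg`, `isLocalizedModule_piAlg`, `map_piAlg_mulVecLin`: localization of `Fin k → R` and of matrix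
  maps.
-/

set_option autoImplicit false

universe u v

namespace Groth.Agent.R2.H92.GenInv

open Matrix

section GenInv

variable {R : Type u} [CommRing R] {m n : ℕ}

/-- If the cokernel of the matrix map `M` is projective, then `M` has a generalized inverse. -/
theorem exists_mul_mul_eq_of_projective (M : Matrix (Fin n) (Fin m) R)
    {Q : Type v} [AddCommGroup Q] [Module R Q] [Module.Projective R Q]
    (p : (Fin n → R) →ₗ[R] Q) (hp : Function.Surjective p)
    (hex : Function.Exact M.mulVecLin p) :
    ∃ N : Matrix (Fin m) (Fin n) R, M * N * M = M := by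
  obtain ⟨s, hs⟩ := Module.projective_lifting_property p LinearMap.id hp
  -- the idempotent `e = id - s ∘ p` has image in the range of `M`
  let e : (Fin n → R) →ₗ[R] (Fin n → R) := LinearMap.id - s ∘ₗ p
  have he : ∀ x, e x ∈ LinearMap.range M.mulVecLin := by
    intro x
    rw [← LinearMap.exact_iff.mp hex, LinearMap.mem_ker]
    have h1 : p (s (p x)) = p x := LinearMap.congr_fun hs (p x)
    simp only [e, LinearMap.sub_apply, LinearMap.id_coe, id_eq, LinearMap.coe_comp,
      Function.comp_apply, map_sub, h1, sub_self]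
  let e' : (Fin n → R) →ₗ[R] LinearMap.range M.mulVecLin := e.codRestrict _ he
  obtain ⟨ψ, hψ⟩ := Module.projective_lifting_property M.mulVecLin.rangeRestrict e'
    M.mulVecLin.surjective_rangeRestrict
  have hψ' : ∀ x, M.mulVecLin (ψ x) = e x := by
    intro x
    exact congrArg Subtype.val (LinearMap.congr_fun hψ x)
  refine ⟨LinearMap.toMatrix' ψ, ?_⟩
  have h2 : ∀ x, M.mulVecLin (ψ (M.mulVecLin x)) = M.mulVecLin x := by
    intro x
    rw [hψ']
    have h3 : p (M.mulVecLin x) = 0 := hex.apply_apply_eq_zero x
    simp only [e, LinearMap.sub_apply, LinearMap.id_coe, id_eq, LinearMap.coe_comp,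
      Function.comp_apply, h3, map_zero, sub_zero]
  have hψM : (LinearMap.toMatrix' ψ).mulVecLin = ψ := by
    rw [← Matrix.toLin'_apply', Matrix.toLin'_toMatrix']
  have h4 : (M * LinearMap.toMatrix' ψ * M).mulVecLin = M.mulVecLin := by
    rw [Matrix.mulVecLin_mul, Matrix.mulVecLin_mul, hψM]
    exact LinearMap.ext fun x => h2 x
  have h5 := congrArg LinearMap.toMatrix' h4
  rwa [← Matrix.toLin'_apply', ← Matrix.toLin'_apply', LinearMap.toMatrix'_toLin',
    LinearMap.toMatrix'_toLin'] at h5

/-- If `M` has a generalized inverse, the cokernel of the matrix map `M` is projective. -/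
theorem projective_quotient_range_of_mul_mul_eq (M : Matrix (Fin n) (Fin m) R)
    (N : Matrix (Fin m) (Fin n) R) (h : M * N * M = M) :
    Module.Projective R ((Fin n → R) ⧸ LinearMap.range M.mulVecLin) := by
  let P : (Fin n → R) →ₗ[R] (Fin n → R) := (M * N).mulVecLin
  let E : (Fin n → R) →ₗ[R] (Fin n → R) := LinearMap.id - P
  have hP : ∀ x ∈ LinearMap.range M.mulVecLin, E x = 0 := by
    rintro _ ⟨y, rfl⟩
    have : P (M.mulVecLin y) = M.mulVecLin y := by
      simp only [P, Matrix.mulVecLin_apply, Matrix.mulVec_mulVec, h]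
    simp only [E, LinearMap.sub_apply, LinearMap.id_coe, id_eq, this, sub_self]
  let i : ((Fin n → R) ⧸ LinearMap.range M.mulVecLin) →ₗ[R] (Fin n → R) :=
    (LinearMap.range M.mulVecLin).liftQ E
      (fun x hx => by rw [LinearMap.mem_ker]; exact hP x hx)
  refine Module.Projective.of_split i (LinearMap.range M.mulVecLin).mkQ ?_
  refine LinearMap.ext fun x => ?_
  obtain ⟨x, rfl⟩ := (LinearMap.range M.mulVecLin).mkQ_surjective x
  simp only [LinearMap.coe_comp, Function.comp_apply, Submodule.mkQ_apply, LinearMap.id_coe, id_eq,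
    i, Submodule.liftQ_apply, E, LinearMap.sub_apply, Submodule.Quotient.mk_sub, sub_eq_self]
  rw [Submodule.Quotient.mk_eq_zero]
  refine ⟨N.mulVecLin x, ?_⟩
  simp only [P, Matrix.mulVecLin_apply, Matrix.mulVec_mulVec]

theorem projective_quotient_range_transpose_of_mul_mul_eq (M : Matrix (Fin n) (Fin m) R)
    (N : Matrix (Fin m) (Fin n) R) (h : M * N * M = M) :
    Module.Projective R ((Fin m → R) ⧸ LinearMap.range Mᵀ.mulVecLin) := by
  refine projective_quotient_range_of_mul_mul_eq Mᵀ Nᵀ ?_
  rw [← Matrix.transpose_mul, ← Matrix.transpose_mul, ← Matrix.mul_assoc, h]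

end GenInv

section Loc

variable {R : Type u} [CommRing R] (S : Submonoid R) (R' : Type u) [CommRing R'] [Algebra R R']
  [IsLocalization S R']

/-- The localization map `(Fin k → R) → (Fin k → R')`. -/
noncomputable def piAlg (k : ℕ) : (Fin k → R) →ₗ[R] (Fin k → R') :=
  LinearMap.pi fun i => (Algebra.linearMap R R') ∘ₗ LinearMap.proj i

@[simp] theorem piAlg_apply (k : ℕ) (x : Fin k → R) (i : Fin k) :
    piAlg R' k x i = algebraMap R R' (x i) := rfl

instance isLocalizedModule_piAlg (k : ℕ) : IsLocalizedModule S (piAlg R' k) := by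
  unfold piAlg
  infer_instance

theorem piAlg_mulVec {m n : ℕ} (M : Matrix (Fin n) (Fin m) R) (x : Fin m → R) :
    piAlg R' n (M.mulVec x) = (M.map (algebraMap R R')).mulVec (piAlg R' m x) := by
  ext i
  simp only [piAlg_apply, Matrix.mulVec, dotProduct, map_sum, map_mul, Matrix.map_apply]

/-- The localization of a matrix map is the matrix map of the localized matrix. -/
theorem map_piAlg_mulVecLin {m n : ℕ} (M : Matrix (Fin n) (Fin m) R) :
    IsLocalizedModule.map S (piAlg R' m) (piAlg R' n) M.mulVecLin =
      ((M.map (algebraMap R R')).mulVecLin).restrictScalars R := by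
  apply IsLocalizedModule.linearMap_ext S (piAlg R' m) (piAlg R' n)
  refine LinearMap.ext fun x => ?_
  simp only [LinearMap.coe_comp, Function.comp_apply, IsLocalizedModule.map_apply,
    LinearMap.coe_restrictScalars, Matrix.mulVecLin_apply, piAlg_mulVec]

end Loc

end Groth.Agent.R2.H92.GenInv
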