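import Mathlib

universe u

open CategoryTheory Limits AlgebraicGeometry

namespace Groth.Agent.R2.H92.LimDom

variable {I : Type u} [Category.{u} I] {S X : Scheme.{u}} (D : I ⥤ Scheme.{u})
  (t : D ⟶ (Functor.const I).obj S) (f : X ⟶ S) (c : Cone D) (hc : IsLimit c)

include hc in
lemma appTop_π_injective [IsCofiltered I] [∀ {i j} (f : i ⟶ j), IsAffineHom (D.map f)]
    [∀ i, CompactSpace (D.obj i)]
    (hinj : ∀ {i j : I} (u : i ⟶ j), Function.Injective (D.map u).appTop) (i : I) :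
    Function.Injective (c.π.app i).appTop := by
  rw [injective_iff_map_eq_zero]
  intro s hs
  obtain ⟨j, u, hu⟩ := exists_appTop_map_eq_zero_of_isLimit D c hc s hs
  exact (injective_iff_map_eq_zero _).mp (hinj u) s hu

include hc in
/-- Affine target version: finite type target, injective transition maps on global sections. -/
lemma exists_π_app_comp_eq_of_injective_of_isAffine
    [IsCofiltered I] [LocallyOfFiniteType f] [IsAffine S] [IsAffine X]
    [∀ {i j} (f : i ⟶ j), IsAffineHom (D.map f)]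
    [∀ i, CompactSpace (D.obj i)] [∀ i, QuasiSeparatedSpace (D.obj i)]
    (hinj : ∀ {i j : I} (u : i ⟶ j), Function.Injective (D.map u).appTop)
    (a : c.pt ⟶ X) (ha : c.π ≫ t = (Functor.const _).map (a ≫ f)) :
    ∃ (i : I) (g : D.obj i ⟶ X), c.π.app i ≫ g = a ∧ g ≫ f = t.app i := by
  classical
  have hft : f.appTop.hom.FiniteType :=
    (HasRingHomProperty.iff_of_isAffine (P := @LocallyOfFiniteType)).mp inferInstance
  algebraize [f.appTop.hom]
  obtain ⟨n, q, hq⟩ := Algebra.FiniteType.iff_quotient_mvPolynomial''.mp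
    (show Algebra.FiniteType Γ(S, ⊤) Γ(X, ⊤) from hft)
  -- lift the images of the generators to a common stage
  have hex : ∀ k : Fin n, ∃ (i : I) (y : Γ(D.obj i, ⊤)),
      a.appTop (q (MvPolynomial.X k)) = (c.π.app i).appTop y :=
    fun k => exists_appTop_π_eq_of_isLimit D c hc _
  choose ik yk hyk using hex
  obtain ⟨i₀, hi₀⟩ := IsCofiltered.inf_objs_exists (Finset.univ.image ik)
  have hu : ∀ k : Fin n, Nonempty (i₀ ⟶ ik k) := fun k =>
    hi₀ (Finset.mem_image_of_mem _ (Finset.mem_univ k))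
  let u : ∀ k, i₀ ⟶ ik k := fun k => (hu k).some
  let y : Fin n → Γ(D.obj i₀, ⊤) := fun k => (D.map (u k)).appTop (yk k)
  have hy : ∀ k, (c.π.app i₀).appTop (y k) = a.appTop (q (MvPolynomial.X k)) := by
    intro k
    have h1 : (c.π.app i₀ ≫ D.map (u k)).appTop (yk k) = (c.π.app (ik k)).appTop (yk k) := by
      rw [c.w]
    rw [Scheme.Hom.comp_appTop, CommRingCat.comp_apply] at h1
    rw [hyk k]
    exact h1
  have hπinj := appTop_π_injective D c hc hinj i₀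
  have hta : ∀ r : Γ(S, ⊤), (c.π.app i₀).appTop ((t.app i₀).appTop r) = a.appTop (f.appTop r) := by
    intro r
    have h1 : c.π.app i₀ ≫ t.app i₀ = a ≫ f := congr($(ha).app i₀)
    have h2 := congr($(h1).appTop r)
    rw [Scheme.Hom.comp_appTop, Scheme.Hom.comp_appTop, CommRingCat.comp_apply,
      CommRingCat.comp_apply] at h2
    exact h2
  have hqC : ∀ r : Γ(S, ⊤), q (MvPolynomial.C r) = f.appTop.hom r := fun r => by
    rw [← MvPolynomial.algebraMap_eq]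
    exact (q.commutes r).trans rfl
  let G : MvPolynomial (Fin n) Γ(S, ⊤) →+* Γ(D.obj i₀, ⊤) :=
    MvPolynomial.eval₂Hom (t.app i₀).appTop.hom y
  have hG : (c.π.app i₀).appTop.hom.comp G = a.appTop.hom.comp (q : _ →+* Γ(X, ⊤)) := by
    apply MvPolynomial.ringHom_ext
    · intro r
      simp only [RingHom.comp_apply, G, MvPolynomial.coe_eval₂Hom, MvPolynomial.eval₂_C,
        RingHom.coe_coe, hqC]
      exact hta r
    · intro k
      simp only [RingHom.comp_apply, G, MvPolynomial.coe_eval₂Hom, MvPolynomial.eval₂_X,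
        RingHom.coe_coe]
      exact hy k
  have hker : RingHom.ker (q : _ →+* Γ(X, ⊤)) ≤ RingHom.ker G := by
    intro p hp
    rw [RingHom.mem_ker] at hp ⊢
    apply hπinj
    have := congr($hG p)
    simp only [RingHom.comp_apply] at this
    rw [map_zero]
    exact this.trans (by rw [hp, map_zero])
  let φ : Γ(X, ⊤) →+* Γ(D.obj i₀, ⊤) := RingHom.liftOfSurjective (q : _ →+* Γ(X, ⊤)) hq ⟨G, hker⟩
  have hφq : ∀ p, φ (q p) = G p := fun p =>
    RingHom.liftOfRightInverse_comp_apply _ _ _ ⟨G, hker⟩ p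
  have hφ1 : (CommRingCat.ofHom φ) ≫ (c.π.app i₀).appTop = a.appTop := by
    ext x
    obtain ⟨p, rfl⟩ := hq x
    simp only [CommRingCat.hom_comp, CommRingCat.hom_ofHom, RingHom.comp_apply]
    rw [hφq]
    exact congr($hG p)
  have hφ2 : f.appTop ≫ (CommRingCat.ofHom φ) = (t.app i₀).appTop := by
    ext r
    simp only [CommRingCat.hom_comp, CommRingCat.hom_ofHom, RingHom.comp_apply]
    rw [← hqC, hφq]
    simp [G]
  refine ⟨i₀, (D.obj i₀).toSpecΓ ≫ Spec.map (CommRingCat.ofHom φ) ≫ X.isoSpec.inv, ?_, ?_⟩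
  · rw [Scheme.toSpecΓ_naturality_assoc, ← Spec.map_comp_assoc, hφ1,
      ← Scheme.toSpecΓ_naturality_assoc]
    simp [Scheme.isoSpec]
  · have h3 : X.isoSpec.inv ≫ f = Spec.map f.appTop ≫ S.isoSpec.inv := by
      rw [Iso.inv_comp_eq, ← Category.assoc, Iso.eq_comp_inv]
      exact Scheme.toSpecΓ_naturality f
    rw [Category.assoc, Category.assoc, h3, ← Spec.map_comp_assoc, hφ2,
      ← Scheme.toSpecΓ_naturality_assoc]
    simp [Scheme.isoSpec]


lemma resLE_appTop_injective {X Y : Scheme.{u}} (f : X ⟶ Y) [IsSchemeTheoreticallyDominant f]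
    [QuasiCompact f] (U : Y.Opens) (V : X.Opens) (e : V ≤ f ⁻¹ᵁ U) (h : f ⁻¹ᵁ U ≤ V) :
    Function.Injective (f.resLE U V e).appTop := by
  obtain rfl : V = f ⁻¹ᵁ U := le_antisymm e h
  rw [Scheme.Hom.appTop, Scheme.Hom.resLE_app_top, ← Scheme.Hom.app_eq_appLE]
  simp only [CommRingCat.hom_comp, RingHom.coe_comp]
  exact ((ConcreteCategory.bijective_of_isIso _).injective.comp (f.app_injective U)).comp
    (ConcreteCategory.bijective_of_isIso _).injective

set_option backward.defeqAttrib.useBackward true in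
set_option backward.isDefEq.respectTransparency false in
open TopologicalSpace Scheme in
include hc in
/-- Finite type + scheme-theoretically dominant transition maps version of
`Scheme.exists_π_app_comp_eq_of_locallyOfFinitePresentation` (proof copied from Mathlib, with the
affine step replaced). -/
lemma exists_π_app_comp_eq_of_dominant
    [IsCofiltered I] [LocallyOfFiniteType f]
    [∀ {i j} (f : i ⟶ j), IsAffineHom (D.map f)]
    [∀ i, CompactSpace (D.obj i)] [∀ i, QuasiSeparatedSpace (D.obj i)]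
    (hdom : ∀ {i j : I} (u : i ⟶ j), IsSchemeTheoreticallyDominant (D.map u))
    (a : c.pt ⟶ X) (ha : c.π ≫ t = (Functor.const _).map (a ≫ f)) :
    ∃ (i : I) (g : D.obj i ⟶ X), c.π.app i ≫ g = a ∧ g ≫ f = t.app i := by
  -- The open cover of `c := lim Dᵢ` indexed by triplets of affine opens `(U, V, W)` with
  -- `U ⊆ c`, `V ⊆ X`, `W ⊆ S` such that `U` maps to `V` maps to `W`.
  have 𝒰 := (c.pt.isBasis_affineOpens).isOpenCover_mem_and_le
    (((X.isBasis_affineOpens).isOpenCover_mem_and_le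
    ((S.isBasis_affineOpens).isOpenCover.comap f.base.hom)).comap a.base.hom)
  -- By qcqs, this cover descends to some finite affine open cover `𝒱` of `Dᵢ`.
  obtain ⟨i, s, 𝒱, h𝒱, h𝒱𝒰⟩ := Scheme.exists_isOpenCover_and_isAffine D c hc _ 𝒰 fun U ↦ U.2.1
  obtain ⟨i', fi'i, hi'⟩ : ∃ (i' : I) (fi'i : i' ⟶ i),
      ∀ j, D.map fi'i ⁻¹ᵁ 𝒱 j ≤ t.app i' ⁻¹ᵁ j.1.1.2.1.2.1 := by
    choose k fk hk using fun j ↦ exists_map_preimage_le_map_preimage D c hc (h𝒱𝒰 j).1.isCompact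
      (V := t.app i ⁻¹ᵁ j.1.1.2.1.2.1) (by
      rw [← Hom.comp_preimage, ← NatTrans.comp_app, ha]
      exact (h𝒱𝒰 j).2.symm.trans_le (j.1.prop.2.trans (a.preimage_mono j.1.1.2.prop.2)))
    obtain ⟨i', fi'i, fi', hfi'⟩ := IsCofiltered.wideCospan fk
    refine ⟨i', fi'i, fun j ↦ ?_⟩
    rw [← hfi', Functor.map_comp, Hom.comp_preimage]
    refine (Hom.preimage_mono _ (hk _)).trans ?_
    simp only [← Hom.comp_preimage, t.naturality, Functor.const_obj_obj,
      Functor.const_obj_map, Category.comp_id, le_refl]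
  -- Using the affine version `exists_π_app_comp_eq_of_locallyOfFinitePresentation_of_isAffine`,
  -- one can now factor `Dⱼ ⁻¹ 𝒱ⱼ ⟶ lim Dᵢ ⟶ X` through some `Dⱼₖ ⁻¹ 𝒱ⱼ` for each `𝒱ⱼ`,
  -- and by finite-ness we may chose a fixed `k` that works for every `j`.
  have : ∃ k, ∃ (fk : k ⟶ i), ∀ j, ∃ (ak : ↑(D.map fk ⁻¹ᵁ 𝒱 j) ⟶ X),
      ak ≫ f = Opens.ι _ ≫ t.app k ∧ c.π.app _ ∣_ _ ≫ ak = Opens.ι _ ≫ a := by
    let 𝒱' := (D.map fi'i ⁻¹ᵁ 𝒱 ·)
    have h𝒱'𝒰 (j : s) : c.π.app i' ⁻¹ᵁ 𝒱' j = j.1.1.1 := by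
      rw [← Hom.comp_preimage, c.w fi'i]; exact (h𝒱𝒰 j).2.symm
    have _ (j k) : IsAffine ((opensDiagram D i' (𝒱' j)).obj k) := ((h𝒱𝒰 _).1.preimage _).preimage _
    let t𝒱 (j : _) : opensDiagram D i' (𝒱' j) ⟶ (Functor.const (Over i')).obj j.1.1.2.1.2 :=
    { app k := (t.app k.left).resLE _ _ <| by
        refine (Hom.preimage_mono _ (hi' _)).trans ?_
        simp only [Functor.const_obj_obj, ← Hom.comp_preimage, t.naturality,
          Functor.const_obj_map, Category.comp_id, le_refl]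
      naturality {k₁ k₂} f₁₂ := by simp [Hom.resLE_comp_resLE] }
    have (j : s) : IsAffine j.1.1.2.1.1 := j.1.1.2.prop.1
    have hinj' (j : s) {k₁ k₂ : Over i'} (u : k₁ ⟶ k₂) :
        Function.Injective ((opensDiagram D i' (𝒱' j)).map u).appTop := by
      have := hdom u.left
      exact resLE_appTop_injective (D.map u.left) _ _ _
        (by rw [← Scheme.Hom.comp_preimage, ← D.map_comp, Over.w u])
    choose k ak hk hk' using fun j ↦ exists_π_app_comp_eq_of_injective_of_isAffine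
      _ (t𝒱 j) (f.resLE _ _ j.1.1.2.prop.2) _ (isLimitOpensCone D c hc i' (𝒱' j)) (hinj' j)
      (a.resLE _ _ ((h𝒱'𝒰 _).trans_le j.1.prop.2)) (by
      ext k
      simp [t𝒱, Hom.resLE_comp_resLE, show c.π.app k.left ≫ t.app k.left = a ≫ f from
        congr(($ha).app k.left)])
    obtain ⟨i'', fi''i', fi'', hi''⟩ := IsCofiltered.wideCospan fun j ↦ (k j).hom
    refine ⟨i'', fi''i' ≫ fi'i, fun j ↦
      ⟨Scheme.homOfLE _ ?_ ≫ D.map (fi'' _) ∣_ _ ≫ ak j ≫ Opens.ι _, ?_, ?_⟩⟩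
    · simp only [← Hom.comp_preimage, ← Functor.map_comp, 𝒱', reassoc_of% hi'']; rfl
    · have : ak j ≫ Opens.ι _ ≫ f = Opens.ι _ ≫ t.app (k j).left := by
        simpa [t𝒱] using! congr($(hk' j) ≫ Opens.ι _)
      simp [this]
    · have e : c.π.app i'' ⁻¹ᵁ D.map (fi''i' ≫ fi'i) ⁻¹ᵁ 𝒱 j ≤ c.π.app i' ⁻¹ᵁ 𝒱' j := by
        simp only [← Hom.comp_preimage, Cone.w, 𝒱']; rfl
      simpa [← AlgebraicGeometry.Scheme.Hom.resLE_eq_morphismRestrict,
        Scheme.Hom.resLE_comp_resLE_assoc] using! congr(Scheme.homOfLE _ e ≫ $(hk j) ≫ Opens.ι _)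
  choose k fki ak hak hak' using this
  -- We may then find an `l` for each `j₁` and `j₂` such that the map `Dⱼ₁ₗ ⁻¹ 𝒱ⱼ₁ ⟶ X` and
  -- `Dⱼ₂ₗ ⁻¹ 𝒱ⱼ₂ ⟶ X` agrees on the intersection in `Dₗ`.
  -- And again by finiteness we may choose a global `l`.
  obtain ⟨l, flk, hl⟩ : ∃ (l : I) (flk : l ⟶ k), ∀ j₁ j₂, Scheme.homOfLE _ inf_le_left ≫
      D.map flk ∣_ _ ≫ ak j₁ = Scheme.homOfLE _ inf_le_right ≫ D.map flk ∣_ _ ≫ ak j₂ := by
    let 𝒱' := (D.map fki ⁻¹ᵁ 𝒱 ·)
    have (j₁ j₂ : s) : ∃ (l : I) (flk : l ⟶ k), Scheme.homOfLE _ inf_le_left ≫ D.map flk ∣_ _ ≫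
        ak j₁ = Scheme.homOfLE _ inf_le_right ≫ D.map flk ∣_ _ ≫ ak j₂ := by
      have _ (x) : CompactSpace ↥((opensDiagram D k (𝒱' j₁ ⊓ 𝒱' j₂)).obj x) :=
        isCompact_iff_compactSpace.mp (QuasiCompact.isCompact_preimage _ (𝒱' j₁ ⊓ 𝒱' j₂).isOpen
          (((h𝒱𝒰 _).1.preimage _).isCompact.inter_of_isOpen ((h𝒱𝒰 _).1.preimage _).isCompact
            (D.map fki ⁻¹ᵁ 𝒱 j₁).2 (D.map fki ⁻¹ᵁ 𝒱 j₂).2))
      obtain ⟨⟨l, ⟨⟨⟩⟩, flk⟩, ⟨flk', ⟨⟨⟨⟩⟩⟩, h⟩, e⟩ :=
        Scheme.exists_hom_comp_eq_comp_of_locallyOfFiniteType _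
          (opensDiagramι .. ≫ (Over.forget k).whiskerLeft t) f _
          (isLimitOpensCone D c hc k (𝒱' j₁ ⊓ 𝒱' j₂)) (i := .mk (𝟙 k))
          (Scheme.homOfLE _ (by simp [𝒱']) ≫ ak j₁) (Scheme.homOfLE _ (by simp [𝒱']) ≫ ak j₂)
          (by simp [hak]) (by simp [hak]) (by simp; simp [Hom.resLE, hak'])
      obtain rfl : flk = flk' := by simpa using! h.symm
      refine ⟨l, flk, by simpa [← Scheme.Hom.resLE_eq_morphismRestrict] using! e⟩
    choose l flk hflk using this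
    obtain ⟨l', fl'k, fl'l, hl'⟩ := IsCofiltered.wideCospan (I := s × s) fun x ↦ flk x.1 x.2
    refine ⟨l', fl'k, fun j₁ j₂ ↦ ?_⟩
    have H : (D.map fl'k ≫ D.map fki) ⁻¹ᵁ (𝒱 j₁ ⊓ 𝒱 j₂) ≤
        (D.map (fl'l (j₁, j₂)) ≫ D.map (flk j₁ j₂) ≫ D.map fki) ⁻¹ᵁ (𝒱 j₁ ⊓ 𝒱 j₂) := by
      simp only [← Functor.map_comp, reassoc_of% hl']; rfl
    simpa [← Scheme.Hom.resLE_eq_morphismRestrict, Scheme.Hom.resLE_comp_resLE_assoc,
      ← Functor.map_comp, hl'] using! congr((D.map (fl'l (j₁, j₂))).resLE _ _ H ≫ $(hflk j₁ j₂))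
  -- We may glue the morphisms into `Dₗ ⟶ X` and verify that it indeed satisfies the hypothesis.
  let h𝒲 := (h𝒱.comap (D.map fki).base.hom).comap (D.map flk).base.hom
  let 𝒲 := Scheme.openCoverOfIsOpenCover _ (D.map flk ⁻¹ᵁ D.map fki ⁻¹ᵁ 𝒱 ·) h𝒲
  let F := 𝒲.glueMorphisms (fun j ↦ D.map flk ∣_ D.map fki ⁻¹ᵁ 𝒱 j ≫ ak j) (fun j₁ j₂ ↦ by
      rw [← cancel_epi (isPullback_opens_inf _ _).isoPullback.hom]
      simpa [𝒲] using! hl j₁ j₂)
  have hF (j : s) : (D.map flk ⁻¹ᵁ D.map fki ⁻¹ᵁ 𝒱 j).ι ≫ F = D.map flk ∣_ _ ≫ ak j :=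
    Scheme.Cover.ι_glueMorphisms ..
  refine ⟨l, F, ?_, ?_⟩
  · refine Cover.hom_ext (𝒲.pullback₁ (c.π.app l)) _ _ fun j ↦ ?_
    rw [← cancel_epi (isPullback_morphismRestrict _ _).flip.isoPullback.hom]
    dsimp [𝒲]
    simp only [pullback.condition_assoc, IsPullback.isoPullback_hom_snd_assoc,
      IsPullback.isoPullback_hom_fst_assoc, hF]
    have h : c.π.app l ⁻¹ᵁ D.map flk ⁻¹ᵁ D.map fki ⁻¹ᵁ 𝒱 j ≤ c.π.app k ⁻¹ᵁ D.map fki ⁻¹ᵁ 𝒱 j := by
      simp only [← Hom.comp_preimage, c.w_assoc, c.w]; rfl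
    simpa [← Scheme.Hom.resLE_eq_morphismRestrict, Scheme.Hom.resLE_comp_resLE_assoc] using!
      congr(Scheme.homOfLE _ h ≫ $(hak' j))
  · refine 𝒲.hom_ext _ _ fun j ↦ ?_
    simp [F, Cover.ι_glueMorphisms_assoc, hak]; rfl

set_option backward.defeqAttrib.useBackward true in
set_option backward.isDefEq.respectTransparency false in
/-- `Over S` formulation: `Hom_S(lim X_i, Y) = colim Hom_S(X_i, Y)` for `Y` locally of finite type
over `S`, when the transition maps are affine and scheme-theoretically dominant. -/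
theorem hom_colimit_bijective_of_dominant {S : Scheme.{u}} {I : Type u} [SmallCategory I]
    [IsCofiltered I] (D : I ⥤ Over S) (c : Cone D) (hc : IsLimit c)
    [∀ (i j : I) (t : i ⟶ j), IsAffineHom (D.map t).left]
    [∀ (i j : I) (t : i ⟶ j), IsSchemeTheoreticallyDominant (D.map t).left]
    [∀ i, CompactSpace (D.obj i).left] [∀ i, QuasiSeparatedSpace (D.obj i).left]
    (Y : Over S) [LocallyOfFiniteType Y.hom] :
    (∀ φ : c.pt ⟶ Y, ∃ (i : I) (φi : D.obj i ⟶ Y), c.π.app i ≫ φi = φ) ∧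
      ∀ (i : I) (φ ψ : D.obj i ⟶ Y), c.π.app i ≫ φ = c.π.app i ≫ ψ →
        ∃ (j : I) (t : j ⟶ i), D.map t ≫ φ = D.map t ≫ ψ := by
  have (i : I) : CompactSpace ((D ⋙ Over.forget S).obj i) := by dsimp; infer_instance
  have (i : I) : QuasiSeparatedSpace ((D ⋙ Over.forget S).obj i) := by dsimp; infer_instance
  have {i j : I} (f : i ⟶ j) : IsAffineHom ((D ⋙ Over.forget S).map f) := by
    dsimp; infer_instance
  have hdom {i j : I} (f : i ⟶ j) : IsSchemeTheoreticallyDominant ((D ⋙ Over.forget S).map f) := by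
    dsimp; infer_instance
  refine ⟨fun φ => ?_, fun i φ ψ h => ?_⟩
  · obtain ⟨k, g, h, h'⟩ := exists_π_app_comp_eq_of_dominant
      (D ⋙ Over.forget _) (.mk (fun _ ↦ (D.obj _).hom)) Y.hom _ (isLimitOfPreserves _ hc) hdom
      φ.left (by ext; simp)
    exact ⟨k, Over.homMk g h', by ext; exact h⟩
  · obtain ⟨k, hik, heq⟩ := Scheme.exists_hom_comp_eq_comp_of_locallyOfFiniteType
      (D ⋙ Over.forget _) (.mk (fun _ ↦ (D.obj _).hom)) Y.hom _ (isLimitOfPreserves _ hc)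
      φ.left ψ.left (Over.w φ).symm (Over.w ψ).symm congr($(h).left)
    exact ⟨k, hik, by ext; exact heq⟩

end Groth.Agent.R2.H92.LimDom
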