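import Mathlib
import Groth.Prelude.Def_W4c6modpairsegaMP
import Groth.Agent.R2.H86CartierCompl
import Groth.Agent.R2.H92LimDom

universe u

open CategoryTheory Limits AlgebraicGeometry

namespace Groth.Agent.R2.H92.LimBlow

/-- Scheme-theoretically dominant morphisms are epimorphisms with respect to separated targets. -/
lemma ext_of_schDominant_of_isSeparated {W X Y Z : Scheme.{u}} {f g : X ⟶ Y}
    (s : Y ⟶ Z) [IsSeparated s] (h : f ≫ s = g ≫ s)
    (ι : W ⟶ X) [IsSchemeTheoreticallyDominant ι] (hU : ι ≫ f = ι ≫ g) : f = g := by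
  let X' : Over Z := Over.mk (f ≫ s)
  let Y' : Over Z := Over.mk s
  let U' : Over Z := Over.mk (ι ≫ f ≫ s)
  let f' : X' ⟶ Y' := Over.homMk f
  let g' : X' ⟶ Y' := Over.homMk g
  let ι' : U' ⟶ X' := Over.homMk ι
  have : IsSeparated Y'.hom := ‹_›
  have hι : (equalizer.lift ι' (show ι' ≫ f' = ι' ≫ g' by ext1; exact hU)).left ≫
      (equalizer.ι f' g').left = ι := by
    rw [← Over.comp_left, equalizer.lift_ι]; rfl
  have hker : (equalizer.ι f' g').left.ker = ⊥ := by
    rw [eq_bot_iff, ← IsSchemeTheoreticallyDominant.ker_eq_bot ι, ← hι]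
    exact Scheme.Hom.le_ker_comp _ _
  have : IsIso (equalizer.ι f' g').left :=
    IsClosedImmersion.isIso_of_ker_eq (equalizer.ι f' g').left (𝟙 X) _ (Category.comp_id _)
      (by rw [hker]; simp)
  rw [← cancel_epi (equalizer.ι f' g').left]
  exact congr($(equalizer.condition f' g').left)

/-- A morphism between two schemes over `Y` which are both isomorphisms over the interior of a
modulus `IY` whose pullback to the target is effective Cartier is scheme-theoretically dominant. -/
lemma isSchemeTheoreticallyDominant_of_isIso_restrict {X' X'' Y : Scheme.{u}} (π : X' ⟶ X'')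
    (f'' : X'' ⟶ Y) (IY : Y.IdealSheafData) (h'' : BlowUp.IsEffCartierIdeal (IY.comap f''))
    (h1 : IsIso ((π ≫ f'') ∣_ ModPair.interior IY)) (h2 : IsIso (f'' ∣_ ModPair.interior IY)) :
    IsSchemeTheoreticallyDominant π := by
  have hW : f'' ⁻¹ᵁ ModPair.interior IY = ((IY.comap f'').support.compl : X''.Opens) := by
    ext x
    simp [ModPair.interior]
  have h3 : IsIso (π ∣_ f'' ⁻¹ᵁ ModPair.interior IY) := by
    rw [morphismRestrict_comp] at h1
    exact @IsIso.of_isIso_comp_right _ _ _ _ _ (π ∣_ f'' ⁻¹ᵁ ModPair.interior IY)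
      (f'' ∣_ ModPair.interior IY) h2 h1
  have h4 : (Scheme.Opens.ι (f'' ⁻¹ᵁ ModPair.interior IY)).ker = ⊥ := by
    rw [hW]
    exact Groth.Agent.R2.H86.CartierCompl.ker_ι_compl_support _ h''
  constructor
  rw [eq_bot_iff, ← h4, ← Scheme.Hom.ker_comp_of_isIso (π ∣_ f'' ⁻¹ᵁ ModPair.interior IY),
    morphismRestrict_ι]
  exact Scheme.Hom.le_ker_comp _ _

set_option backward.defeqAttrib.useBackward true in
set_option backward.isDefEq.respectTransparency false in
/-- A cofiltered limit (affine transitions, qcqs stages) of l.f.p. abstract admissible blow-ups of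
`(Y, IY)` which is again an abstract admissible blow-up is isomorphic to one of the stages; in
particular it is locally of finite presentation (S18754). -/
theorem exists_isIso_π_of_isLimit_admBlowup {Y : Scheme.{u}} (IY : Y.IdealSheafData)
    {I : Type u} [SmallCategory I] [IsCofiltered I] (D : I ⥤ Over Y) (c : Cone D) (hc : IsLimit c)
    [∀ (i j : I) (t : i ⟶ j), IsAffineHom (D.map t).left]
    [∀ i, CompactSpace (D.obj i).left] [∀ i, QuasiSeparatedSpace (D.obj i).left]
    (hI : ∀ i, BlowUp.IsEffCartierIdeal (IY.comap (D.obj i).hom))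
    (hadm : ∀ i, ModPair.IsAdmBlowup (IY.comap (D.obj i).hom) IY (D.obj i).hom)
    (hXadm : ModPair.IsAdmBlowup (IY.comap c.pt.hom) IY c.pt.hom) :
    ∃ j : I, IsIso (c.π.app j).left := by
  obtain ⟨i₀⟩ := IsCofiltered.nonempty (C := I)
  have (i : I) : CompactSpace ((D ⋙ Over.forget Y).obj i) := by dsimp; infer_instance
  have (i : I) : QuasiSeparatedSpace ((D ⋙ Over.forget Y).obj i) := by dsimp; infer_instance
  have haff {i j : I} (f : i ⟶ j) : IsAffineHom ((D ⋙ Over.forget Y).map f) := by
    dsimp; infer_instance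
  have hdom {i j : I} (u : i ⟶ j) : IsSchemeTheoreticallyDominant (D.map u).left := by
    refine isSchemeTheoreticallyDominant_of_isIso_restrict (D.map u).left (D.obj j).hom IY (hI j)
      ?_ (hadm j).2.2
    rw [Over.w (D.map u)]; exact (hadm i).2.2
  have hdomπ (j : I) : IsSchemeTheoreticallyDominant (c.π.app j).left := by
    refine isSchemeTheoreticallyDominant_of_isIso_restrict (c.π.app j).left (D.obj j).hom IY (hI j)
      ?_ (hadm j).2.2
    rw [Over.w (c.π.app j)]; exact hXadm.2.2
  let c' := (Over.forget Y).mapCone c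
  have hc' : IsLimit c' := isLimitOfPreserves _ hc
  let D'' : Over i₀ ⥤ Scheme.{u} := Over.forget i₀ ⋙ D ⋙ Over.forget Y
  let c'' : Cone D'' := c'.whisker (Over.forget i₀)
  have hc'' : IsLimit c'' := (Functor.Initial.isLimitWhiskerEquiv (Over.forget i₀) c').symm hc'
  let t'' : D'' ⟶ (Functor.const _).obj (D.obj i₀).left :=
    { app := fun j => (D.map j.hom).left
      naturality := fun j k u => by
        simp only [D'', Functor.comp_map, Over.forget_map, Functor.const_obj_map,
          ← Over.comp_left, ← D.map_comp, Over.w u]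
        exact (Category.comp_id _).symm }
  have : IsProper c.pt.hom := hXadm.2.1
  have hft : LocallyOfFiniteType (c.π.app i₀).left := by
    have e : (c.π.app i₀).left ≫ (D.obj i₀).hom = c.pt.hom := Over.w (c.π.app i₀)
    have : LocallyOfFiniteType ((c.π.app i₀).left ≫ (D.obj i₀).hom) := by
      rw [e]; infer_instance
    exact locallyOfFiniteType_of_comp _ (D.obj i₀).hom
  have (j : Over i₀) : CompactSpace (D''.obj j) := by dsimp [D'']; infer_instance
  have (j : Over i₀) : QuasiSeparatedSpace (D''.obj j) := by dsimp [D'']; infer_instance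
  have {j k : Over i₀} (f : j ⟶ k) : IsAffineHom (D''.map f) := by dsimp [D'']; infer_instance
  obtain ⟨j, g, hg1, hg2⟩ := Groth.Agent.R2.H92.LimDom.exists_π_app_comp_eq_of_dominant D'' t''
    (c.π.app i₀).left c'' hc'' (fun u => by dsimp [D'']; exact hdom u.left) (𝟙 _) (by
      ext j
      simp only [c'', c', D'', t'', NatTrans.comp_app, Cone.whisker_π, Functor.whiskerLeft_app,
        Functor.mapCone_π_app, Over.forget_map, Functor.const_map_app, Category.id_comp,
        ← Over.comp_left, Cone.w])
  have hg1' : (c.π.app j.left).left ≫ g = 𝟙 _ := hg1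
  have hg2' : g ≫ (c.π.app i₀).left = (D.map j.hom).left := hg2
  have hgπ : g ≫ (c.π.app j.left).left = 𝟙 _ := by
    have := hdomπ j.left
    refine ext_of_schDominant_of_isSeparated (D.map j.hom).left ?_ (c.π.app j.left).left ?_
    · rw [Category.assoc, ← Over.comp_left, Cone.w, hg2', Category.id_comp]
    · rw [← Category.assoc, hg1', Category.id_comp, Category.comp_id]
  exact ⟨j.left, ⟨g, hg1', hgπ⟩⟩

/-- S18754. -/
theorem lfp_of_isLimit_admBlowup {Y : Scheme.{u}} (IY : Y.IdealSheafData)
    {I : Type u} [SmallCategory I] [IsCofiltered I] (D : I ⥤ Over Y) (c : Cone D) (hc : IsLimit c)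
    [∀ (i j : I) (t : i ⟶ j), IsAffineHom (D.map t).left]
    [∀ i, CompactSpace (D.obj i).left] [∀ i, QuasiSeparatedSpace (D.obj i).left]
    (hI : ∀ i, BlowUp.IsEffCartierIdeal (IY.comap (D.obj i).hom))
    (hadm : ∀ i, ModPair.IsAdmBlowup (IY.comap (D.obj i).hom) IY (D.obj i).hom)
    [∀ i, LocallyOfFinitePresentation (D.obj i).hom]
    (hXadm : ModPair.IsAdmBlowup (IY.comap c.pt.hom) IY c.pt.hom) :
    LocallyOfFinitePresentation c.pt.hom := by
  obtain ⟨j, hj⟩ := exists_isIso_π_of_isLimit_admBlowup IY D c hc hI hadm hXadm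
  have : c.pt.hom = (c.π.app j).left ≫ (D.obj j).hom := (Over.w _).symm
  rw [this]
  infer_instance

end Groth.Agent.R2.H92.LimBlow
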