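import Mathlib

open CategoryTheory CategoryTheory.Limits AlgebraicGeometry TensorProduct

universe u

namespace Groth.Agent.R2.H92.LimFibre

section Ring
variable {R : Type u} [CommRing R] (B : Type u) [CommRing B] [Algebra R B]
  {A : Type u} [CommRing A] [Algebra R A]

/-- The evaluation `R[x_a : a ∈ s] → A`, `x_a ↦ a`. -/
noncomputable def phi (s : Finset A) : MvPolynomial s R →ₐ[R] A :=
  MvPolynomial.aeval (fun x => (x : A))

/-- `B ⊗ R[x_a : a ∈ s] → B ⊗ A`. -/
noncomputable def tmap (s : Finset A) : B ⊗[R] MvPolynomial s R →ₐ[R] B ⊗[R] A :=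
  Algebra.TensorProduct.map (AlgHom.id R B) (phi s)

lemma exists_finset_forall_mem_range (h : B ⊗[R] A) :
    ∃ s₀ : Finset A, ∀ s, s₀ ⊆ s → h ∈ Set.range (tmap (R := R) B s) := by
  classical
  induction h using TensorProduct.induction_on with
  | zero => exact ⟨∅, fun s _ => ⟨0, map_zero _⟩⟩
  | tmul b a =>
    refine ⟨{a}, fun s hs => ⟨b ⊗ₜ MvPolynomial.X ⟨a, hs (Finset.mem_singleton_self a)⟩, ?_⟩⟩
    simp [tmap, phi]
  | add x y hx hy =>
    obtain ⟨sx, hsx⟩ := hx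
    obtain ⟨sy, hsy⟩ := hy
    refine ⟨sx ∪ sy, fun s hs => ?_⟩
    obtain ⟨x', rfl⟩ := hsx s (Finset.union_subset_left hs)
    obtain ⟨y', rfl⟩ := hsy s (Finset.union_subset_right hs)
    exact ⟨x' + y', map_add _ _ _⟩

end Ring

lemma isPullback_comp_mono {C : Type*} [Category C] {P X Y Z Z' : C} {fst : P ⟶ X} {snd : P ⟶ Y}
    {f : X ⟶ Z} {g : Y ⟶ Z} (h : IsPullback fst snd f g) (i : Z ⟶ Z') [Mono i] :
    IsPullback fst snd (f ≫ i) (g ≫ i) := by
  have := IsPullback.of_vert_isIso_mono (fst := g) (snd := 𝟙 Y) (f := i) (g := g ≫ i) ⟨by simp⟩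
  simpa using h.paste_vert this

section Chart

variable {X S : Scheme.{u}} (f : X ⟶ S) (R : Type u) [CommRing R] (w : Spec (.of R) ⟶ S)

/-- An affine chart of `X` lying over the affine open `w : Spec R ⟶ S` of `S`. -/
structure Chart where
  B : Type u
  [cr : CommRing B]
  [alg : Algebra R B]
  jX : Spec (.of B) ⟶ X
  [oi : IsOpenImmersion jX]
  comm : jX ≫ f = Spec.map (CommRingCat.ofHom (algebraMap R B)) ≫ w

attribute [instance] Chart.cr Chart.alg Chart.oi

variable {f R w} [Mono w] (c : Chart f R w)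
  {Y : Scheme.{u}} {A : Type u} [CommRing A] [Algebra R A] (e : Y ≅ Spec (.of A)) (gY : Y ⟶ S)
  (hgY : gY = e.hom ≫ Spec.map (CommRingCat.ofHom (algebraMap R A)) ≫ w)

include hgY in
lemma Chart.isPullback :
    IsPullback (Spec.map (CommRingCat.ofHom (Algebra.TensorProduct.includeLeftRingHom :
        c.B →+* c.B ⊗[R] A)))
      (Spec.map (CommRingCat.ofHom (Algebra.TensorProduct.includeRight :
        A →ₐ[R] c.B ⊗[R] A).toRingHom) ≫ e.inv) (c.jX ≫ f) gY := by
  have h0 := isPullback_SpecMap_of_isPushout _ _ _ _ (CommRingCat.isPushout_tensorProduct R c.B A)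
  have h1 := isPullback_comp_mono h0 w
  rw [← c.comm] at h1
  subst hgY
  refine h1.of_iso (Iso.refl _) (Iso.refl _) e.symm (Iso.refl _) (by simp) (by simp) (by simp)
    (by simp)

/-- The chart of `X ×_S Y` given by `Spec (B ⊗ A)`. -/
noncomputable def Chart.map : Spec (.of (c.B ⊗[R] A)) ⟶ pullback f gY :=
  (c.isPullback e gY hgY).isoPullback.hom ≫
    pullback.map (c.jX ≫ f) gY f gY c.jX (𝟙 Y) (𝟙 S) (by simp) (by simp)

@[reassoc (attr := simp)]
lemma Chart.map_fst : c.map e gY hgY ≫ pullback.fst f gY =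
    Spec.map (CommRingCat.ofHom (Algebra.TensorProduct.includeLeftRingHom :
        c.B →+* c.B ⊗[R] A)) ≫ c.jX := by
  rw [Chart.map, Category.assoc, pullback.lift_fst, IsPullback.isoPullback_hom_fst_assoc]

@[reassoc (attr := simp)]
lemma Chart.map_snd : c.map e gY hgY ≫ pullback.snd f gY =
    Spec.map (CommRingCat.ofHom (Algebra.TensorProduct.includeRight :
        A →ₐ[R] c.B ⊗[R] A).toRingHom) ≫ e.inv := by
  rw [Chart.map, Category.assoc, pullback.lift_snd, IsPullback.isoPullback_hom_snd_assoc,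
    Category.comp_id]

instance : IsOpenImmersion (c.map e gY hgY) := by
  unfold Chart.map; infer_instance

lemma Chart.range_map :
    Set.range (c.map e gY hgY) = pullback.fst f gY ⁻¹' Set.range c.jX := by
  unfold Chart.map
  rw [Scheme.Hom.comp_base, TopCat.coe_comp, Set.range_comp, Set.range_eq_univ.mpr, Set.image_univ,
    Scheme.Pullback.range_map]
  · simp
  · exact (ConcreteCategory.bijective_of_isIso _).surjective  

section Compat

variable {P : Type u} [CommRing P] [Algebra R P] (φ : P →ₐ[R] A)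

/-- The structure morphism of the stage `Spec P`. -/
noncomputable abbrev stageHom (w : Spec (.of R) ⟶ S) (P : Type u) [CommRing P] [Algebra R P] :
    Spec (.of P) ⟶ S :=
  Spec.map (CommRingCat.ofHom (algebraMap R P)) ≫ w

/-- The morphism `Y ⟶ Spec P`. -/
noncomputable abbrev toStage : Y ⟶ Spec (.of P) := e.hom ≫ Spec.map (CommRingCat.ofHom φ.toRingHom)

omit [Mono w] in
include hgY in
lemma toStage_stageHom : toStage e φ ≫ stageHom w P = gY := by
  subst hgY
  simp only [toStage, stageHom, Category.assoc, ← Spec.map_comp_assoc]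
  congr 3
  ext x
  simp

/-- The morphism `X ×_S Y ⟶ X ×_S Spec P`. -/
noncomputable def toStagePullback : pullback f gY ⟶ pullback f (stageHom w P) :=
  pullback.lift (pullback.fst f gY) (pullback.snd f gY ≫ toStage e φ)
    (by rw [pullback.condition, Category.assoc, toStage_stageHom e gY hgY φ])

lemma Chart.map_toStagePullback :
    c.map e gY hgY ≫ toStagePullback (f := f) e gY hgY φ =
      Spec.map (CommRingCat.ofHom (Algebra.TensorProduct.map (AlgHom.id R c.B) φ).toRingHom) ≫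
        c.map (Iso.refl _) (stageHom w P) (by simp) := by
  apply pullback.hom_ext
  · simp only [toStagePullback, Category.assoc, pullback.lift_fst, Chart.map_fst,
      ← Spec.map_comp_assoc]
    congr 2
    ext x
    simp
  · simp only [toStagePullback, Category.assoc, pullback.lift_snd, Chart.map_snd,
      Chart.map_snd_assoc, toStage,
      Iso.inv_hom_id_assoc, Iso.refl_inv, Category.comp_id, ← Spec.map_comp]
    congr 1

end Compat

lemma Chart.exists_of_mem {W : S.Opens} (hW : IsAffineOpen W) (x : X) (hx : f x ∈ W) :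
    ∃ c : Chart f Γ(S, W) hW.fromSpec, x ∈ Set.range c.jX := by
  obtain ⟨_, ⟨Xi, hXi, rfl⟩, hxXi, hle⟩ :=
    X.isBasis_affineOpens.exists_subset_of_mem_open (a := x) (ou := (f ⁻¹ᵁ W).isOpen) hx
  let _ : Algebra Γ(S, W) Γ(X, Xi) := (f.appLE W Xi hle).hom.toAlgebra
  refine ⟨@Chart.mk _ _ f _ _ _ Γ(X, Xi) _ _ hXi.fromSpec hXi.isOpenImmersion_fromSpec
    (IsAffineOpen.SpecMap_appLE_fromSpec f hW hXi hle).symm, ?_⟩
  change x ∈ Set.range hXi.fromSpec
  rw [hXi.range_fromSpec]; exact hxXi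

end Chart

lemma specMap_mem_basicOpen_iff {C D : Type u} [CommRing C] [CommRing D] (ψ : C →+* D)
    (q : Spec (.of D)) (h : C) :
    (Spec.map (CommRingCat.ofHom ψ)) q ∈ (PrimeSpectrum.basicOpen h : Set (PrimeSpectrum C)) ↔
      q ∈ (PrimeSpectrum.basicOpen (ψ h) : Set (PrimeSpectrum D)) := by
  rfl

theorem main {X S T : Scheme.{u}} (f : X ⟶ S) [QuasiCompact f] (g : T ⟶ S) (t : T)
    (Z : Set ↥(pullback f g)) (hZ : IsClosed Z) (hZt : ∀ z ∈ Z, (pullback.snd f g).base z ≠ t) :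
    ∃ (V : T.Opens) (ht : t ∈ V) (T' : Scheme.{u}) (b : T' ⟶ S) (a : (V : Scheme.{u}) ⟶ T')
      (n : pullback f (V.ι ≫ g) ⟶ pullback f g) (m : pullback f (V.ι ≫ g) ⟶ pullback f b)
      (Z' : Set ↥(pullback f b)),
      IsAffineOpen V ∧ IsAffine T' ∧ LocallyOfFinitePresentation b ∧ a ≫ b = V.ι ≫ g ∧
      n ≫ pullback.fst f g = pullback.fst f (V.ι ≫ g) ∧
      n ≫ pullback.snd f g = pullback.snd f (V.ι ≫ g) ≫ V.ι ∧
      m ≫ pullback.fst f b = pullback.fst f (V.ι ≫ g) ∧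
      m ≫ pullback.snd f b = pullback.snd f (V.ι ≫ g) ≫ a ∧
      IsClosed Z' ∧ (∀ z' ∈ Z', (pullback.snd f b).base z' ≠ a.base ⟨t, ht⟩) ∧
      ∀ z : ↥(pullback f (V.ι ≫ g)), n.base z ∈ Z → m.base z ∈ Z' := by
  classical
  obtain ⟨_, ⟨(W : S.Opens), (hW : IsAffineOpen W), rfl⟩, htW, -⟩ :=
    S.isBasis_affineOpens.exists_subset_of_mem_open (a := g t) (Set.mem_univ _) isOpen_univ
  obtain ⟨_, ⟨(V : T.Opens), (hV : IsAffineOpen V), rfl⟩, htV, (hVW : V ≤ g ⁻¹ᵁ W)⟩ :=
    T.isBasis_affineOpens.exists_subset_of_mem_open (a := t) (ou := (g ⁻¹ᵁ W).isOpen) htW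
  let _ : Algebra Γ(S, W) Γ(T, V) := (g.appLE W V hVW).hom.toAlgebra
  have hgV : V.ι ≫ g = hV.isoSpec.hom ≫
      Spec.map (CommRingCat.ofHom (algebraMap Γ(S, W) Γ(T, V))) ≫ hW.fromSpec := by
    have := IsAffineOpen.SpecMap_appLE_fromSpec g hW hV hVW
    change _ = hV.isoSpec.hom ≫ Spec.map (g.appLE W V hVW) ≫ hW.fromSpec
    rw [this, hV.isoSpec_hom_fromSpec_assoc]
  -- the morphism `n`
  let n : pullback f (V.ι ≫ g) ⟶ pullback f g :=
    pullback.lift (pullback.fst _ _) (pullback.snd _ _ ≫ V.ι)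
      (by rw [pullback.condition, Category.assoc])
  have hn1 : n ≫ pullback.fst f g = pullback.fst f (V.ι ≫ g) := pullback.lift_fst _ _ _
  have hn2 : n ≫ pullback.snd f g = pullback.snd f (V.ι ≫ g) ≫ V.ι := pullback.lift_snd _ _ _
  let U : Set ↥(pullback f (V.ι ≫ g)) := (n ⁻¹' Z)ᶜ
  have hUo : IsOpen U := (hZ.preimage n.continuous).isOpen_compl
  let tV : ↥(V : Scheme.{u}) := ⟨t, htV⟩
  let F : Set ↥(pullback f (V.ι ≫ g)) := pullback.snd f (V.ι ≫ g) ⁻¹' {tV}
  have hFU : F ⊆ U := by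
    intro y hy hyZ
    refine hZt _ hyZ ?_
    have h1 : (n ≫ pullback.snd f g) y = (pullback.snd f (V.ι ≫ g) ≫ V.ι) y := by rw [hn2]
    rw [Scheme.Hom.comp_apply, Scheme.Hom.comp_apply] at h1
    rw [h1, show pullback.snd f (V.ι ≫ g) y = tV from hy]
    rfl
  have hFc : IsCompact F := by
    have := (pullback.snd f (V.ι ≫ g)).range_fiberι tV
    change _ = F at this
    rw [← this]
    exact isCompact_range ((pullback.snd f (V.ι ≫ g)).fiberι tV).continuous
  -- charts around the points of the fibre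
  have key : ∀ y ∈ F, ∃ (c : Chart f Γ(S, W) hW.fromSpec) (h : c.B ⊗[Γ(S, W)] Γ(T, V)),
      y ∈ (c.map hV.isoSpec (V.ι ≫ g) hgV) ''
        (PrimeSpectrum.basicOpen h : Set (PrimeSpectrum (c.B ⊗[Γ(S, W)] Γ(T, V)))) ∧
      (c.map hV.isoSpec (V.ι ≫ g) hgV) ''
        (PrimeSpectrum.basicOpen h : Set (PrimeSpectrum (c.B ⊗[Γ(S, W)] Γ(T, V)))) ⊆ U := by
    intro y hy
    have hfy : f (pullback.fst f (V.ι ≫ g) y) ∈ W := by
      have h1 : (pullback.fst f (V.ι ≫ g) ≫ f) y = (pullback.snd f (V.ι ≫ g) ≫ V.ι ≫ g) y := by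
        rw [pullback.condition]
      rw [Scheme.Hom.comp_apply, Scheme.Hom.comp_apply, Scheme.Hom.comp_apply] at h1
      rw [h1]
      exact hVW (pullback.snd f (V.ι ≫ g) y).2
    obtain ⟨c, hc⟩ := Chart.exists_of_mem (f := f) hW _ hfy
    have hy' : y ∈ Set.range (c.map hV.isoSpec (V.ι ≫ g) hgV) := by
      rw [c.range_map]; exact hc
    obtain ⟨q, rfl⟩ := hy'
    have hqo : IsOpen ((c.map hV.isoSpec (V.ι ≫ g) hgV) ⁻¹' U) :=
      hUo.preimage (c.map hV.isoSpec (V.ι ≫ g) hgV).continuous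
    obtain ⟨_, ⟨h, rfl⟩, hqh, hhU⟩ :=
      PrimeSpectrum.isTopologicalBasis_basic_opens.exists_subset_of_mem_open
        (show q ∈ (c.map hV.isoSpec (V.ι ≫ g) hgV) ⁻¹' U from hFU hy) hqo
    exact ⟨c, h, ⟨q, hqh, rfl⟩, Set.image_subset_iff.mpr hhU⟩
  choose c h hyc hcU using key
  obtain ⟨tt, htt⟩ := hFc.elim_nhds_subcover'
    (fun y hy => (c y hy).map hV.isoSpec (V.ι ≫ g) hgV '' (PrimeSpectrum.basicOpen (h y hy) :
      Set (PrimeSpectrum ((c y hy).B ⊗[Γ(S, W)] Γ(T, V)))))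
    (fun y hy => IsOpen.mem_nhds
      (((c y hy).map hV.isoSpec (V.ι ≫ g) hgV).isOpenEmbedding.isOpenMap _
        (PrimeSpectrum.basicOpen (h y hy)).isOpen) (hyc y hy))
  -- the finite set of elements of `Γ(T, V)` needed
  choose s₀ hs₀ using fun y : F => exists_finset_forall_mem_range (R := Γ(S, W)) (c y y.2).B (h y y.2)
  let s : Finset Γ(T, V) := tt.biUnion s₀
  have hs : ∀ y ∈ tt, ∃ h' : (c y y.2).B ⊗[Γ(S, W)] MvPolynomial s Γ(S, W),
      tmap (R := Γ(S, W)) (c y y.2).B s h' = h y y.2 := fun y hy =>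
    hs₀ y s (Finset.subset_biUnion_of_mem s₀ hy)
  choose h' hh' using hs
  -- the stage
  let P := MvPolynomial s Γ(S, W)
  let b : Spec (.of P) ⟶ S := stageHom hW.fromSpec P
  let a : (V : Scheme.{u}) ⟶ Spec (.of P) := toStage hV.isoSpec (phi (R := Γ(S, W)) s)
  have hab : a ≫ b = V.ι ≫ g := toStage_stageHom hV.isoSpec (V.ι ≫ g) hgV _
  let m : pullback f (V.ι ≫ g) ⟶ pullback f b :=
    toStagePullback hV.isoSpec (V.ι ≫ g) hgV (phi (R := Γ(S, W)) s)
  have hm1 : m ≫ pullback.fst f b = pullback.fst f (V.ι ≫ g) := pullback.lift_fst _ _ _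
  have hm2 : m ≫ pullback.snd f b = pullback.snd f (V.ι ≫ g) ≫ a := pullback.lift_snd _ _ _
  -- charts of the stage
  let J' : ∀ y : F, Spec (.of ((c y y.2).B ⊗[Γ(S, W)] P)) ⟶ pullback f b := fun y =>
    (c y y.2).map (Iso.refl _) b (by simp [b])
  have hcompat : ∀ y : F, (c y y.2).map hV.isoSpec (V.ι ≫ g) hgV ≫ m =
      Spec.map (CommRingCat.ofHom (tmap (R := Γ(S, W)) (c y y.2).B s).toRingHom) ≫ J' y := fun y =>
    (c y y.2).map_toStagePullback hV.isoSpec (V.ι ≫ g) hgV (phi (R := Γ(S, W)) s)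
  let U' : Set ↥(pullback f b) := ⋃ y : tt, J' y.1 '' (PrimeSpectrum.basicOpen (h' y.1 y.2) :
      Set (PrimeSpectrum ((c y.1 y.1.2).B ⊗[Γ(S, W)] P)))
  have hU'o : IsOpen U' := isOpen_iUnion fun y =>
    (J' y.1).isOpenEmbedding.isOpenMap _ (PrimeSpectrum.basicOpen (h' y.1 y.2)).isOpen
  -- preimage of `U'` is contained in `U`
  have hmU : ∀ z : ↥(pullback f (V.ι ≫ g)), m z ∈ U' → z ∈ U := by
    intro z hz
    obtain ⟨y, q', hq', hq'z⟩ := Set.mem_iUnion.mp hz
    have hz1 : z ∈ Set.range ((c y.1 y.1.2).map hV.isoSpec (V.ι ≫ g) hgV) := by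
      rw [Chart.range_map]
      have h1 : m z ∈ Set.range (J' y.1) := ⟨q', hq'z⟩
      rw [Chart.range_map] at h1
      have h2 : (m ≫ pullback.fst f b) z = pullback.fst f (V.ι ≫ g) z := by rw [hm1]
      rw [Scheme.Hom.comp_apply] at h2
      rw [Set.mem_preimage, ← h2]
      exact h1
    obtain ⟨q, rfl⟩ := hz1
    refine hcU y.1 y.1.2 ⟨q, ?_, rfl⟩
    have h3 : ((c y.1 y.1.2).map hV.isoSpec (V.ι ≫ g) hgV ≫ m) q =
        (Spec.map (CommRingCat.ofHom (tmap (R := Γ(S, W)) (c y.1 y.1.2).B s).toRingHom) ≫ J' y.1) q := by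
      rw [hcompat]
    rw [Scheme.Hom.comp_apply, Scheme.Hom.comp_apply, ← hq'z] at h3
    have h4 := (J' y.1).isOpenEmbedding.injective h3
    rw [h4] at hq'
    rw [← hh' y.1 y.2]
    exact (specMap_mem_basicOpen_iff _ q (h' y.1 y.2)).mp hq'
  -- `U'` contains the fibre over `a t`
  have hpb : IsPullback m (pullback.snd f (V.ι ≫ g)) (pullback.snd f b) a := by
    refine IsPullback.of_right ?_ hm2 (IsPullback.of_hasPullback f b)
    rw [hm1, hab]
    exact IsPullback.of_hasPullback f (V.ι ≫ g)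
  have hfib : ∀ z' : ↥(pullback f b), pullback.snd f b z' = a tV → z' ∈ U' := by
    intro z' hz'
    obtain ⟨w, hw1, hw2⟩ := Scheme.Pullback.exists_preimage_pullback z' tV hz'
    let y₀ : ↥(pullback f (V.ι ≫ g)) := hpb.isoPullback.inv w
    have hy1 : m y₀ = z' := by
      rw [← hw1, ← Scheme.Hom.comp_apply, IsPullback.isoPullback_inv_fst]
    have hy2 : pullback.snd f (V.ι ≫ g) y₀ = tV := by
      rw [← hw2, ← Scheme.Hom.comp_apply, IsPullback.isoPullback_inv_snd]
    have hy0F : y₀ ∈ F := hy2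
    obtain ⟨y, hy, q, hq, hqy⟩ : ∃ y ∈ tt, y₀ ∈ (c y.1 y.2).map hV.isoSpec (V.ι ≫ g) hgV ''
        (PrimeSpectrum.basicOpen (h y.1 y.2) :
          Set (PrimeSpectrum ((c y.1 y.2).B ⊗[Γ(S, W)] Γ(T, V)))) := by
      simpa using htt hy0F
    refine Set.mem_iUnion.mpr ⟨⟨y, hy⟩, 
      (Spec.map (CommRingCat.ofHom (tmap (R := Γ(S, W)) (c y y.2).B s).toRingHom)) q, ?_, ?_⟩
    · refine (specMap_mem_basicOpen_iff _ q (h' y hy)).mpr ?_
      change q ∈ (PrimeSpectrum.basicOpen ((tmap (R := Γ(S, W)) (c y y.2).B s) (h' y hy)) :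
        Set (PrimeSpectrum ((c y y.2).B ⊗[Γ(S, W)] Γ(T, V))))
      rw [hh' y hy]
      exact hq
    · rw [← hy1, ← hqy, ← Scheme.Hom.comp_apply, ← Scheme.Hom.comp_apply, hcompat]
  have hlfp : LocallyOfFinitePresentation b := by
    have : LocallyOfFinitePresentation
        (Spec.map (CommRingCat.ofHom (algebraMap Γ(S, W) P))) := by
      rw [HasRingHomProperty.Spec_iff (P := @LocallyOfFinitePresentation)]
      change (algebraMap Γ(S, W) P).FinitePresentation
      rw [RingHom.finitePresentation_algebraMap]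
      infer_instance
    infer_instance
  refine ⟨V, htV, Spec (.of P), b, a, n, m, U'ᶜ, hV, inferInstance, hlfp, hab, hn1, hn2, hm1, hm2,
    hU'o.isClosed_compl, fun z' hz' heq => hz' (hfib z' heq), fun z hz hmz => ?_⟩
  exact hmU z hmz hz

end Groth.Agent.R2.H92.LimFibre
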