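import Mathlib
import Groth.Prelude.Def_W4c6modpairsegaMP
import Groth.Agent.Lib.Helper20EffCartier
import Groth.Agent.R2.H92LimDom

universe u

open CategoryTheory Limits AlgebraicGeometry

namespace Groth.Agent.R2.H92.LimIdeal

lemma ideal_le_of_comap_ι_le {X : Scheme.{u}} (A B : X.IdealSheafData) (V : X.affineOpens)
    (h : A.comap V.1.ι ≤ B.comap V.1.ι) : A.ideal V ≤ B.ideal V := by
  have hV : IsAffine (V.1 : Scheme.{u}) := V.2
  have h1 := h ⟨⊤, isAffineOpen_top _⟩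
  rw [Scheme.IdealSheafData.ideal_comap_of_isOpenImmersion,
    Scheme.IdealSheafData.ideal_comap_of_isOpenImmersion] at h1
  have hsurj : Function.Surjective (V.1.ι.appIso ⊤).inv.hom :=
    (ConcreteCategory.bijective_of_isIso (V.1.ι.appIso ⊤).inv).surjective
  rw [Ideal.comap_le_comap_iff_of_surjective _ hsurj] at h1
  have aux : ∀ (W : X.affineOpens), W = V → A.ideal W ≤ B.ideal W → A.ideal V ≤ B.ideal V := by
    rintro W rfl h; exact h
  exact aux _ (Subtype.ext (by simp)) h1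

lemma le_of_forall_comap_ι_le {X : Scheme.{u}} (A B : X.IdealSheafData) {ι : Type*}
    (V : ι → X.affineOpens) (hV : ⨆ k, (V k).1 = ⊤)
    (h : ∀ k, A.comap (V k).1.ι ≤ B.comap (V k).1.ι) : A ≤ B :=
  Scheme.IdealSheafData.le_of_iSup_eq_top V hV fun k => ideal_le_of_comap_ι_le A B (V k) (h k)

lemma fg_ideal_comap_ι {X : Scheme.{u}} (A : X.IdealSheafData) (U : X.affineOpens)
    (hU : (A.ideal U).FG) (W : X.Opens) (hW : W = U.1) (hWa : IsAffineOpen W) :
    ((A.comap W.ι).ideal ⟨⊤, @isAffineOpen_top _ hWa⟩).FG := by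
  have : IsAffine (W : Scheme.{u}) := hWa
  rw [Scheme.IdealSheafData.ideal_comap_of_isOpenImmersion,
    Groth.Agent.Lib.Helper20.EffCartier.comap_iso_hom_eq_map_inv]
  apply Ideal.FG.map
  have aux : ∀ (W' : X.affineOpens), W' = U → (A.ideal W').FG := by
    rintro W' rfl; exact hU
  exact aux _ (Subtype.ext (by simp [hW]))

variable {I : Type u} [Category.{u} I] (D : I ⥤ Scheme.{u}) (c : Cone D) (hc : IsLimit c)

section Top

variable [IsCofiltered I] [∀ {i j} (f : i ⟶ j), IsAffineHom (D.map f)]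
  [∀ i, CompactSpace (D.obj i)] [∀ i, QuasiSeparatedSpace (D.obj i)]

omit [IsCofiltered I] [∀ {i j} (f : i ⟶ j), IsAffineHom (D.map f)]
  [∀ i, CompactSpace (D.obj i)] [∀ i, QuasiSeparatedSpace (D.obj i)] in
lemma mem_map_comp {i j l : I} (t : j ⟶ i) (h : l ⟶ j) (b : Ideal Γ(D.obj i, ⊤))
    {y : Γ(D.obj j, ⊤)} (hy : y ∈ b.map (D.map t).appTop.hom) :
    (D.map h).appTop.hom y ∈ b.map (D.map (h ≫ t)).appTop.hom := by
  have h1 := Ideal.mem_map_of_mem (D.map h).appTop.hom hy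
  rw [Ideal.map_map] at h1
  have h2 : (D.map h).appTop.hom.comp (D.map t).appTop.hom = (D.map (h ≫ t)).appTop.hom := by
    rw [D.map_comp, Scheme.Hom.comp_appTop, CommRingCat.hom_comp]
  rwa [h2] at h1

include hc in
lemma exists_mem_map_of_mem_map {i : I} (b : Ideal Γ(D.obj i, ⊤)) (z : Γ(c.pt, ⊤))
    (hz : z ∈ b.map (c.π.app i).appTop.hom) :
    ∃ (j : I) (t : j ⟶ i) (y : Γ(D.obj j, ⊤)), y ∈ b.map (D.map t).appTop.hom ∧
      (c.π.app j).appTop.hom y = z := by
  have hπ : ∀ {j l : I} (h : l ⟶ j) (y : Γ(D.obj j, ⊤)),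
      (c.π.app l).appTop.hom ((D.map h).appTop.hom y) = (c.π.app j).appTop.hom y := by
    intro j l h y
    have h1 : (c.π.app l ≫ D.map h).appTop y = (c.π.app j).appTop y := by rw [c.w]
    rw [Scheme.Hom.comp_appTop, CommRingCat.comp_apply] at h1
    exact h1
  unfold Ideal.map at hz
  induction hz using Submodule.span_induction with
  | mem z hz =>
    obtain ⟨b₀, hb₀, rfl⟩ := hz
    refine ⟨i, 𝟙 i, (D.map (𝟙 i)).appTop.hom b₀, Ideal.mem_map_of_mem _ hb₀, hπ _ _⟩
  | zero => exact ⟨i, 𝟙 i, 0, zero_mem _, map_zero _⟩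
  | add z₁ z₂ _ _ h₁ h₂ =>
    obtain ⟨j₁, t₁, y₁, hy₁, rfl⟩ := h₁
    obtain ⟨j₂, t₂, y₂, hy₂, rfl⟩ := h₂
    obtain ⟨l, g, h, hh⟩ := IsCofiltered.wideCospan (I := Bool) (i := i)
      (j := fun k => cond k j₁ j₂) (fun k => by cases k; exact t₂; exact t₁)
    have e1 : h true ≫ t₁ = g := hh true
    have e2 : h false ≫ t₂ = g := hh false
    refine ⟨l, g, (D.map (h true)).appTop.hom y₁ + (D.map (h false)).appTop.hom y₂,
      add_mem ?_ ?_, ?_⟩
    · rw [← e1]; exact mem_map_comp D t₁ (h true) b hy₁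
    · rw [← e2]; exact mem_map_comp D t₂ (h false) b hy₂
    · rw [map_add, hπ, hπ]
      rfl
  | smul x z _ hz' =>
    obtain ⟨j, t, y, hy, rfl⟩ := hz'
    obtain ⟨j', x', hx'⟩ := exists_appTop_π_eq_of_isLimit D c hc x
    let l := IsCofiltered.min j j'
    refine ⟨l, IsCofiltered.minToLeft j j' ≫ t,
      (D.map (IsCofiltered.minToRight j j')).appTop.hom x' *
        (D.map (IsCofiltered.minToLeft j j')).appTop.hom y,
      Ideal.mul_mem_left _ _ (mem_map_comp D t _ b hy), ?_⟩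
    rw [map_mul, hπ, hπ, hx', smul_eq_mul]

omit [IsCofiltered I] [∀ {i j} (f : i ⟶ j), IsAffineHom (D.map f)]
  [∀ i, CompactSpace (D.obj i)] [∀ i, QuasiSeparatedSpace (D.obj i)] in
lemma map_mem_map_comp {i j l : I} (t : j ⟶ i) (h : l ⟶ j) (b : Ideal Γ(D.obj i, ⊤))
    {a : Γ(D.obj i, ⊤)} (ha : (D.map t).appTop.hom a ∈ b.map (D.map t).appTop.hom) :
    (D.map (h ≫ t)).appTop.hom a ∈ b.map (D.map (h ≫ t)).appTop.hom := by
  have h1 := mem_map_comp D t h b ha
  have h2 : (D.map (h ≫ t)).appTop.hom a = (D.map h).appTop.hom ((D.map t).appTop.hom a) := by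
    rw [D.map_comp, Scheme.Hom.comp_appTop, CommRingCat.hom_comp, RingHom.comp_apply]
  rwa [h2]

include hc in
lemma exists_map_mem_map {i : I} (b : Ideal Γ(D.obj i, ⊤)) (a : Γ(D.obj i, ⊤))
    (ha : (c.π.app i).appTop.hom a ∈ b.map (c.π.app i).appTop.hom) :
    ∃ (j : I) (t : j ⟶ i), (D.map t).appTop.hom a ∈ b.map (D.map t).appTop.hom := by
  obtain ⟨j, t, y, hy, hyz⟩ := exists_mem_map_of_mem_map D c hc b _ ha
  have hπ : (c.π.app j).appTop.hom ((D.map t).appTop.hom a) = (c.π.app i).appTop.hom a := by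
    have h1 : (c.π.app j ≫ D.map t).appTop a = (c.π.app i).appTop a := by rw [c.w]
    rw [Scheme.Hom.comp_appTop, CommRingCat.comp_apply] at h1
    exact h1
  have h0 : (c.π.app j).appTop (y - (D.map t).appTop.hom a) = 0 := by
    rw [map_sub, sub_eq_zero]
    exact hyz.trans hπ.symm
  obtain ⟨l, h, hl⟩ := exists_appTop_map_eq_zero_of_isLimit D c hc _ h0
  refine ⟨l, h ≫ t, ?_⟩
  have h2 : (D.map (h ≫ t)).appTop.hom a = (D.map h).appTop.hom y := by
    rw [map_sub, sub_eq_zero] at hl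
    rw [D.map_comp, Scheme.Hom.comp_appTop, CommRingCat.hom_comp, RingHom.comp_apply]
    exact hl.symm
  rw [h2]
  exact mem_map_comp D t h b hy

include hc in
lemma exists_forall_map_mem_map {i : I} (b : Ideal Γ(D.obj i, ⊤)) (s : Finset Γ(D.obj i, ⊤))
    (hs : ∀ a ∈ s, (c.π.app i).appTop.hom a ∈ b.map (c.π.app i).appTop.hom) :
    ∃ (j : I) (t : j ⟶ i), ∀ a ∈ s, (D.map t).appTop.hom a ∈ b.map (D.map t).appTop.hom := by
  classical
  induction s using Finset.induction_on with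
  | empty => exact ⟨i, 𝟙 i, by simp⟩
  | insert a s _ ih =>
    obtain ⟨j₁, t₁, h₁⟩ := ih (fun a' ha' => hs a' (Finset.mem_insert_of_mem ha'))
    obtain ⟨j₂, t₂, h₂⟩ := exists_map_mem_map D c hc b a (hs a (Finset.mem_insert_self a s))
    obtain ⟨l, g, h, hh⟩ := IsCofiltered.wideCospan (I := Bool) (i := i)
      (j := fun k => cond k j₁ j₂) (fun k => by cases k; exact t₂; exact t₁)
    have e1 : h true ≫ t₁ = g := hh true
    have e2 : h false ≫ t₂ = g := hh false
    refine ⟨l, g, fun a' ha' => ?_⟩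
    rcases Finset.mem_insert.mp ha' with rfl | ha'
    · rw [← e2]; exact map_mem_map_comp D t₂ (h false) b h₂
    · rw [← e1]; exact map_mem_map_comp D t₁ (h true) b (h₁ a' ha')

omit [IsCofiltered I] [∀ {i j} (f : i ⟶ j), IsAffineHom (D.map f)]
  [∀ i, CompactSpace (D.obj i)] [∀ i, QuasiSeparatedSpace (D.obj i)] in
lemma ideal_comap_top {Z T : Scheme.{u}} [IsAffine Z] [IsAffine T] (g : Z ⟶ T)
    (A : T.IdealSheafData) :
    (A.comap g).ideal ⟨⊤, isAffineOpen_top Z⟩ =
      (A.ideal ⟨⊤, isAffineOpen_top T⟩).map g.appTop.hom := by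
  rw [Groth.Agent.Lib.Helper20.EffCartier.ideal_comap_eq_map g A (isAffineOpen_top Z)
    (isAffineOpen_top T) le_top]
  congr 2
  rw [Scheme.Hom.appTop, Scheme.Hom.app_eq_appLE]
  rfl

include hc in
/-- Descent of an inequality of pulled back ideal sheaves, affine stage. -/
lemma exists_comap_le_comap_of_isAffine {i : I} [IsAffine (D.obj i)]
    (A B : (D.obj i).IdealSheafData) (hA : (A.ideal ⟨⊤, isAffineOpen_top _⟩).FG)
    (h : A.comap (c.π.app i) ≤ B.comap (c.π.app i)) :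
    ∃ (j : I) (t : j ⟶ i), A.comap (D.map t) ≤ B.comap (D.map t) := by
  have := isAffineHom_π_app D c hc i
  have : IsAffine c.pt := isAffine_of_isAffineHom (c.π.app i)
  obtain ⟨s, hs⟩ := hA
  have h1 := h ⟨⊤, isAffineOpen_top c.pt⟩
  rw [ideal_comap_top (Z := c.pt) (c.π.app i) A, ideal_comap_top (Z := c.pt) (c.π.app i) B,
    ← hs, Ideal.map_span, Ideal.span_le] at h1
  obtain ⟨j, t, hj⟩ := exists_forall_map_mem_map D c hc (B.ideal ⟨⊤, isAffineOpen_top _⟩) s
    (fun a ha => h1 ⟨a, ha, rfl⟩)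
  refine ⟨j, t, ?_⟩
  have : IsAffine (D.obj j) := isAffine_of_isAffineHom (D.map t)
  apply Scheme.IdealSheafData.le_of_isAffine
  rw [ideal_comap_top, ideal_comap_top, ← hs, Ideal.map_span, Ideal.span_le]
  rintro _ ⟨a, ha, rfl⟩
  exact hj a ha

/-- The local inequality over an open `U` of the stage `i`, at the stage `t : j ⟶ i`. -/
def LocLE {i : I} (A B : (D.obj i).IdealSheafData) (U : (D.obj i).Opens) {j : I} (t : j ⟶ i) :
    Prop :=
  A.comap ((D.map t ⁻¹ᵁ U).ι ≫ D.map t) ≤ B.comap ((D.map t ⁻¹ᵁ U).ι ≫ D.map t)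

omit [IsCofiltered I] [∀ {i j} (f : i ⟶ j), IsAffineHom (D.map f)]
  [∀ i, CompactSpace (D.obj i)] [∀ i, QuasiSeparatedSpace (D.obj i)] in
lemma LocLE.comp {i : I} {A B : (D.obj i).IdealSheafData} {U : (D.obj i).Opens} {j l : I}
    {t : j ⟶ i} (h : l ⟶ j) (H : LocLE D A B U t) : LocLE D A B U (h ≫ t) := by
  unfold LocLE at H ⊢
  have hle : D.map (h ≫ t) ⁻¹ᵁ U ≤ D.map h ⁻¹ᵁ (D.map t ⁻¹ᵁ U) := by
    rw [D.map_comp, Scheme.Hom.comp_preimage]
  have e1 : (D.map (h ≫ t) ⁻¹ᵁ U).ι ≫ D.map (h ≫ t) =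
      (D.map h).resLE _ _ hle ≫ (D.map t ⁻¹ᵁ U).ι ≫ D.map t := by
    rw [Scheme.Hom.resLE_comp_ι_assoc, D.map_comp]
  rw [e1, Scheme.IdealSheafData.comap_comp, Scheme.IdealSheafData.comap_comp _ _ ((D.map t ⁻¹ᵁ U).ι ≫ D.map t)]
  exact Scheme.IdealSheafData.comap_mono _ H

omit [∀ i, CompactSpace (D.obj i)] [∀ i, QuasiSeparatedSpace (D.obj i)] in
set_option backward.defeqAttrib.useBackward true in
set_option backward.isDefEq.respectTransparency false in
include hc in
lemma exists_locLE {i : I} (A B : (D.obj i).IdealSheafData) (U : (D.obj i).affineOpens)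
    (hU : (A.ideal U).FG) (h : A.comap (c.π.app i) ≤ B.comap (c.π.app i)) :
    ∃ (j : I) (t : j ⟶ i), LocLE D A B U.1 t := by
  have hcl := isLimitOpensCone D c hc i U.1
  have haff : ∀ j : Over i, IsAffine ((opensDiagram D i U.1).obj j) :=
    fun j => U.2.preimage (D.map j.hom)
  have : ∀ j : Over i, CompactSpace ((opensDiagram D i U.1).obj j) := fun j => inferInstance
  have : ∀ j : Over i, QuasiSeparatedSpace ((opensDiagram D i U.1).obj j) :=
    fun j => inferInstance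
  let j₀ : Over i := Over.mk (𝟙 i)
  let ι₀ : (opensDiagram D i U.1).obj j₀ ⟶ D.obj i := (D.map (𝟙 i) ⁻¹ᵁ U.1).ι
  have hA' : ((A.comap ι₀).ideal ⟨⊤, isAffineOpen_top _⟩).FG :=
    fg_ideal_comap_ι A U hU (D.map (𝟙 i) ⁻¹ᵁ U.1) (by simp) (U.2.preimage (D.map (𝟙 i)))
  have e0 : (opensCone D c i U.1).π.app j₀ ≫ ι₀ = (c.π.app i ⁻¹ᵁ U.1).ι ≫ c.π.app i := by
    simp [ι₀, j₀, Scheme.Hom.resLE_comp_ι]
  have h' : (A.comap ι₀).comap ((opensCone D c i U.1).π.app j₀) ≤
      (B.comap ι₀).comap ((opensCone D c i U.1).π.app j₀) := by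
    rw [← Scheme.IdealSheafData.comap_comp, ← Scheme.IdealSheafData.comap_comp, e0,
      Scheme.IdealSheafData.comap_comp, Scheme.IdealSheafData.comap_comp _ _ (c.π.app i)]
    exact Scheme.IdealSheafData.comap_mono _ h
  obtain ⟨j', t', H⟩ := exists_comap_le_comap_of_isAffine (opensDiagram D i U.1)
    (opensCone D c i U.1) hcl (i := j₀) (A.comap ι₀) (B.comap ι₀) hA' h'
  have ht : t'.left = j'.hom := by
    have := Over.w t'
    exact (Category.comp_id t'.left).symm.trans this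
  refine ⟨j'.left, j'.hom, ?_⟩
  unfold LocLE
  have e1 : (D.map j'.hom ⁻¹ᵁ U.1).ι ≫ D.map j'.hom = (opensDiagram D i U.1).map t' ≫ ι₀ :=
    calc (D.map j'.hom ⁻¹ᵁ U.1).ι ≫ D.map j'.hom
        = (D.map j'.hom ⁻¹ᵁ U.1).ι ≫ D.map t'.left := by rw [ht]
      _ = (opensDiagram D i U.1).map t' ≫ ι₀ := (Scheme.Hom.resLE_comp_ι (D.map t'.left) _).symm
  rw [e1, Scheme.IdealSheafData.comap_comp, Scheme.IdealSheafData.comap_comp _ _ ι₀]
  exact H

omit [∀ i, QuasiSeparatedSpace (D.obj i)] in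
include hc in
/-- Descent of an inequality of pulled back ideal sheaves along a cofiltered limit with affine
transition maps: if `A` is locally finitely generated on the quasi-compact stage `D i` and
`A.comap π_i ≤ B.comap π_i` on the limit, then the inequality already holds at some stage. -/
theorem exists_comap_le_comap {i : I} (A B : (D.obj i).IdealSheafData)
    (hA : ∀ x : D.obj i, ∃ U : (D.obj i).affineOpens, x ∈ U.1 ∧ (A.ideal U).FG)
    (h : A.comap (c.π.app i) ≤ B.comap (c.π.app i)) :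
    ∃ (j : I) (t : j ⟶ i), A.comap (D.map t) ≤ B.comap (D.map t) := by
  choose U hxU hUfg using hA
  obtain ⟨s, hs⟩ := CompactSpace.elim_nhds_subcover (fun x => ((U x).1 : Set (D.obj i)))
    (fun x => (U x).1.isOpen.mem_nhds (hxU x))
  choose jk tk hk using fun x : s => exists_locLE D c hc A B (U x) (hUfg x) h
  obtain ⟨l, g, hl, hh⟩ := IsCofiltered.wideCospan (I := s) tk
  refine ⟨l, g, ?_⟩
  have hk' : ∀ x : s, LocLE D A B (U x).1 g := fun x => hh x ▸ (hk x).comp D (hl x)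
  refine le_of_forall_comap_ι_le _ _
    (fun x : s => ⟨D.map g ⁻¹ᵁ (U x).1, (U x).2.preimage (D.map g)⟩) ?_ (fun x => ?_)
  · rw [eq_top_iff]
    intro y _
    have hy : (D.map g) y ∈ ⋃ x ∈ s, ((U x).1 : Set (D.obj i)) := by rw [hs]; trivial
    obtain ⟨x, hx, hyx⟩ := Set.mem_iUnion₂.mp hy
    exact TopologicalSpace.Opens.mem_iSup.mpr ⟨⟨x, hx⟩, hyx⟩
  · have := hk' x
    unfold LocLE at this
    rwa [Scheme.IdealSheafData.comap_comp, Scheme.IdealSheafData.comap_comp _ _ (D.map g)] at this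

end Top

set_option backward.defeqAttrib.useBackward true in
set_option backward.isDefEq.respectTransparency false in
/-- `Over S` formulation of Mathlib's l.f.p. descent of morphisms. -/
theorem exists_factor_of_lfp {S : Scheme.{u}} {I : Type u} [SmallCategory I]
    [IsCofiltered I] (D : I ⥤ Over S) (c : Cone D) (hc : IsLimit c)
    [∀ (i j : I) (t : i ⟶ j), IsAffineHom (D.map t).left]
    [∀ i, CompactSpace (D.obj i).left] [∀ i, QuasiSeparatedSpace (D.obj i).left]
    (Y : Over S) [LocallyOfFinitePresentation Y.hom] (φ : c.pt ⟶ Y) :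
    ∃ (i : I) (φi : D.obj i ⟶ Y), c.π.app i ≫ φi = φ := by
  have (i : I) : CompactSpace ((D ⋙ Over.forget S).obj i) := by dsimp; infer_instance
  have (i : I) : QuasiSeparatedSpace ((D ⋙ Over.forget S).obj i) := by dsimp; infer_instance
  have {i j : I} (f : i ⟶ j) : IsAffineHom ((D ⋙ Over.forget S).map f) := by
    dsimp; infer_instance
  obtain ⟨k, g, h, h'⟩ := Scheme.exists_π_app_comp_eq_of_locallyOfFinitePresentation
    (D ⋙ Over.forget _) (.mk (fun _ ↦ (D.obj _).hom)) Y.hom _ (isLimitOfPreserves _ hc)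
    φ.left (by ext; simp)
  exact ⟨k, Over.homMk g h', by ext; exact h⟩

set_option backward.defeqAttrib.useBackward true in
set_option backward.isDefEq.respectTransparency false in
/-- Descent of ambient morphisms of modulus pairs along a cofiltered limit (S18745). -/
theorem descend_ambient {S : Scheme.{u}} {I : Type u} [SmallCategory I] [IsCofiltered I]
    (D : I ⥤ Over S) (c : Cone D) (hc : IsLimit c)
    [∀ (i j : I) (t : i ⟶ j), IsAffineHom (D.map t).left]
    [∀ i, CompactSpace (D.obj i).left] [∀ i, QuasiSeparatedSpace (D.obj i).left]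
    (J : ∀ i, (D.obj i).left.IdealSheafData) (hJ : ∀ i, BlowUp.IsEffCartierIdeal (J i))
    (hmin : ∀ (i j : I) (t : i ⟶ j), ModPair.IsMinimal (J i) (J j) (D.map t).left)
    (IX : c.pt.left.IdealSheafData) (hIX : ∀ i, IX = (J i).comap (c.π.app i).left)
    (Y : Over S) [LocallyOfFiniteType Y.hom]
    (IY : Y.left.IdealSheafData)
    (h : (∀ (i j : I) (t : i ⟶ j), IsSchemeTheoreticallyDominant (D.map t).left) ∨
      LocallyOfFinitePresentation Y.hom)
    (φ : c.pt ⟶ Y) (hφ : ModPair.IsAmbient IX IY φ.left) :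
    ∃ (i : I) (φi : D.obj i ⟶ Y), ModPair.IsAmbient (J i) IY φi.left ∧ c.π.app i ≫ φi = φ := by
  obtain ⟨i, φi, hφi⟩ : ∃ (i : I) (φi : D.obj i ⟶ Y), c.π.app i ≫ φi = φ := by
    rcases h with h | h
    · exact (Groth.Agent.R2.H92.LimDom.hom_colimit_bijective_of_dominant D c hc Y).1 φ
    · exact exists_factor_of_lfp D c hc Y φ
  have (i : I) : CompactSpace ((D ⋙ Over.forget S).obj i) := by dsimp; infer_instance
  have (i : I) : QuasiSeparatedSpace ((D ⋙ Over.forget S).obj i) := by dsimp; infer_instance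
  have {i j : I} (f : i ⟶ j) : IsAffineHom ((D ⋙ Over.forget S).map f) := by
    dsimp; infer_instance
  have hA : ∀ x : (D.obj i).left, ∃ U : (D.obj i).left.affineOpens, x ∈ U.1 ∧ ((J i).ideal U).FG := by
    intro x
    obtain ⟨U, hxU, f, -, hf⟩ := hJ i x
    exact ⟨U, hxU, ⟨{f}, by simpa using hf.symm⟩⟩
  have h' : (J i).comap (c.π.app i).left ≤ (IY.comap φi.left).comap (c.π.app i).left := by
    rw [← hIX i, ← Scheme.IdealSheafData.comap_comp, ← Over.comp_left, hφi]
    exact hφ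
  obtain ⟨j, t, hjt⟩ := exists_comap_le_comap (D ⋙ Over.forget S) ((Over.forget S).mapCone c)
    (isLimitOfPreserves _ hc) (i := i) (J i) (IY.comap φi.left) hA h'
  refine ⟨j, D.map t ≫ φi, ?_, by rw [c.w_assoc, hφi]⟩
  unfold ModPair.IsAmbient
  rw [hmin j i t, Over.comp_left, Scheme.IdealSheafData.comap_comp]
  exact hjt

end Groth.Agent.R2.H92.LimIdeal
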