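import Mathlib

/-!
# Terminal objects and pullbacks in a localization with a calculus of right fractions (helper92)

* `isTerminal_map`: a localization functor for `W` (with a calculus of right fractions) sends a
  terminal object to a terminal object.
* `hasPullbacks_of_map`: if every cospan in the image of `L` has a pullback then the localized
  category has pullbacks.
-/

set_option autoImplicit false
universe v₁ v₂ u₁ u₂

open CategoryTheory CategoryTheory.Limits

namespace Groth.Agent.R2.H92.LocLimits

variable {C : Type u₁} {D : Type u₂} [Category.{v₁} C] [Category.{v₂} D] (L : C ⥤ D)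
  (W : MorphismProperty C) [L.IsLocalization W] [W.HasRightCalculusOfFractions]

include W in
/-- the image of a terminal object in the localization is terminal -/
theorem isTerminal_map {X₀ : C} (h : IsTerminal X₀) : Nonempty (IsTerminal (L.obj X₀)) := by
  have hess : L.EssSurj := Localization.essSurj L W
  have key : ∀ (Z : C) (u₁ u₂ : L.obj Z ⟶ L.obj X₀), u₁ = u₂ := by
    intro Z u₁ u₂
    obtain ⟨φ, hφ⟩ := Localization.exists_rightFraction L W u₁
    obtain ⟨ψ, hψ⟩ := Localization.exists_rightFraction L W u₂
    rw [hφ, hψ, MorphismProperty.RightFraction.map_eq_iff]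
    obtain ⟨θ, hθ⟩ := MorphismProperty.HasRightCalculusOfFractions.exists_rightFraction
      (MorphismProperty.LeftFraction.mk ψ.s φ.s φ.hs)
    dsimp at hθ
    exact ⟨θ.X', θ.f, θ.s, hθ.symm, h.hom_ext _ _, hθ ▸ W.comp_mem _ _ θ.hs ψ.hs⟩
  refine ⟨IsTerminal.ofUniqueHom (fun A => (L.objObjPreimageIso A).inv ≫ L.map (h.from _)) ?_⟩
  intro A m
  rw [← cancel_epi (L.objObjPreimageIso A).hom, Iso.hom_inv_id_assoc]
  exact key _ _ _

include W in
/-- the localized category has pullbacks if all cospans coming from `C` do -/
theorem hasPullbacks_of_map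
    (h : ∀ {X T P : C} (f : X ⟶ P) (g : T ⟶ P), HasPullback (L.map f) (L.map g)) :
    HasPullbacks D := by
  have hess : L.EssSurj := Localization.essSurj L W
  have key : ∀ {A C' B' : D} {u : A ⟶ B'} {v : C' ⟶ B'}, HasLimit (cospan u v) := by
    intro A C' B' u v
    let eA : L.obj (L.objPreimage A) ≅ A := L.objObjPreimageIso A
    let eC : L.obj (L.objPreimage C') ≅ C' := L.objObjPreimageIso C'
    let eB : L.obj (L.objPreimage B') ≅ B' := L.objObjPreimageIso B'
    obtain ⟨φ, hφ⟩ := Localization.exists_rightFraction L W (eA.hom ≫ u ≫ eB.inv)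
    obtain ⟨ψ, hψ⟩ := Localization.exists_rightFraction L W (eC.hom ≫ v ≫ eB.inv)
    have : IsIso (L.map φ.s) := Localization.inverts L W _ φ.hs
    have : IsIso (L.map ψ.s) := Localization.inverts L W _ ψ.hs
    have hlim : HasLimit (cospan (L.map φ.f) (L.map ψ.f)) := h φ.f ψ.f
    refine hasLimit_of_iso (F := cospan (L.map φ.f) (L.map ψ.f))
      (cospanExt (asIso (L.map φ.s) ≪≫ eA) (asIso (L.map ψ.s) ≪≫ eC) eB ?_ ?_)
    · have h1 := MorphismProperty.RightFraction.map_s_comp_map φ L (Localization.inverts L W)
      rw [← hφ] at h1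
      rw [Iso.trans_hom, asIso_hom, Category.assoc, ← h1]
      simp only [Category.assoc, Iso.inv_hom_id, Category.comp_id]
    · have h1 := MorphismProperty.RightFraction.map_s_comp_map ψ L (Localization.inverts L W)
      rw [← hψ] at h1
      rw [Iso.trans_hom, asIso_hom, Category.assoc, ← h1]
      simp only [Category.assoc, Iso.inv_hom_id, Category.comp_id]
  exact hasPullbacks_of_hasLimit_cospan D

end Groth.Agent.R2.H92.LocLimits
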