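import Mathlib

/-!
# Pullback squares in a localization with a calculus of right fractions (helper92)

`isPullback_map`: a commutative square in `C` which is a pullback "up to `W`" (existence of lifts
after precomposing with a morphism in `W`, uniqueness up to `W`) is sent to a pullback square by a
localization functor for `W`, if `W` admits a calculus of right fractions.
-/

set_option autoImplicit false
universe v₁ v₂ u₁ u₂

open CategoryTheory CategoryTheory.Limits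

namespace Groth.Agent.R2.H92.LocPullback

variable {C : Type u₁} {D : Type u₂} [Category.{v₁} C] [Category.{v₂} D] (L : C ⥤ D)
  (W : MorphismProperty C) [L.IsLocalization W] [W.HasRightCalculusOfFractions]

/-- two morphisms in the localization with the same source have a common denominator -/
theorem exists_common_fraction {Z X T : C} (u : L.obj Z ⟶ L.obj X) (v : L.obj Z ⟶ L.obj T) :
    ∃ (Z' : C) (s : Z' ⟶ Z) (_ : W s) (a : Z' ⟶ X) (b : Z' ⟶ T),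
      L.map s ≫ u = L.map a ∧ L.map s ≫ v = L.map b := by
  obtain ⟨φ, hφ⟩ := Localization.exists_rightFraction L W u
  obtain ⟨ψ, hψ⟩ := Localization.exists_rightFraction L W v
  obtain ⟨θ, hθ⟩ := MorphismProperty.HasRightCalculusOfFractions.exists_rightFraction
    (MorphismProperty.LeftFraction.mk ψ.s φ.s φ.hs)
  dsimp at hθ
  refine ⟨θ.X', θ.s ≫ ψ.s, W.comp_mem _ _ θ.hs ψ.hs, θ.f ≫ φ.f, θ.s ≫ ψ.f, ?_, ?_⟩
  · rw [hθ, L.map_comp, Category.assoc, hφ, MorphismProperty.RightFraction.map_s_comp_map,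
      ← L.map_comp]
  · rw [L.map_comp, Category.assoc, hψ, MorphismProperty.RightFraction.map_s_comp_map,
      ← L.map_comp]

variable {X T P Y : C} (f : X ⟶ P) (g : T ⟶ P) (pX : Y ⟶ X) (pT : Y ⟶ T)

include W in
theorem existsUnique_lift
    (hex : ∀ (Z : C) (a : Z ⟶ X) (b : Z ⟶ T), a ≫ f = b ≫ g →
      ∃ (Z' : C) (s : Z' ⟶ Z) (_ : W s) (c : Z' ⟶ Y), c ≫ pX = s ≫ a ∧ c ≫ pT = s ≫ b)
    (huniq : ∀ (Z : C) (c₁ c₂ : Z ⟶ Y), c₁ ≫ pX = c₂ ≫ pX → c₁ ≫ pT = c₂ ≫ pT →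
      ∃ (Z' : C) (s : Z' ⟶ Z) (_ : W s), s ≫ c₁ = s ≫ c₂)
    (Z : C) (u : L.obj Z ⟶ L.obj X) (v : L.obj Z ⟶ L.obj T)
    (huv : u ≫ L.map f = v ≫ L.map g) :
    ∃! w : L.obj Z ⟶ L.obj Y, w ≫ L.map pX = u ∧ w ≫ L.map pT = v := by
  have hinv : ∀ {A B : C} (s : A ⟶ B), W s → IsIso (L.map s) :=
    fun s hs => Localization.inverts L W s hs
  -- existence
  obtain ⟨Z₁, s₁, hs₁, a, b, ha, hb⟩ := exists_common_fraction L W u v
  have h1 : L.map (a ≫ f) = L.map (b ≫ g) := by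
    rw [L.map_comp, L.map_comp, ← ha, ← hb, Category.assoc, Category.assoc, huv]
  obtain ⟨Z₂, s₂, hs₂, h2⟩ := (MorphismProperty.map_eq_iff_precomp L W _ _).mp h1
  obtain ⟨Z₃, s₃, hs₃, c, hc1, hc2⟩ := hex Z₂ (s₂ ≫ a) (s₂ ≫ b)
    (by rw [Category.assoc, Category.assoc]; exact h2)
  have hσ : W (s₃ ≫ s₂ ≫ s₁) := W.comp_mem _ _ hs₃ (W.comp_mem _ _ hs₂ hs₁)
  have : IsIso (L.map (s₃ ≫ s₂ ≫ s₁)) := hinv _ hσ
  have hl1 : (inv (L.map (s₃ ≫ s₂ ≫ s₁)) ≫ L.map c) ≫ L.map pX = u := by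
    rw [Category.assoc, IsIso.inv_comp_eq, ← L.map_comp, hc1, L.map_comp, L.map_comp, ← ha,
      L.map_comp, L.map_comp]
    simp only [Category.assoc]
  have hl2 : (inv (L.map (s₃ ≫ s₂ ≫ s₁)) ≫ L.map c) ≫ L.map pT = v := by
    rw [Category.assoc, IsIso.inv_comp_eq, ← L.map_comp, hc2, L.map_comp, L.map_comp, ← hb,
      L.map_comp, L.map_comp]
    simp only [Category.assoc]
  refine ⟨inv (L.map (s₃ ≫ s₂ ≫ s₁)) ≫ L.map c, ⟨hl1, hl2⟩, ?_⟩
  -- uniqueness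
  · have key : ∀ w₁ w₂ : L.obj Z ⟶ L.obj Y, w₁ ≫ L.map pX = w₂ ≫ L.map pX →
        w₁ ≫ L.map pT = w₂ ≫ L.map pT → w₁ = w₂ := by
      intro w₁ w₂ hX hT
      obtain ⟨Z₁, s₁, hs₁, c₁, c₂, hc₁, hc₂⟩ := exists_common_fraction L W w₁ w₂
      have e1 : L.map (c₁ ≫ pX) = L.map (c₂ ≫ pX) := by
        rw [L.map_comp, L.map_comp, ← hc₁, ← hc₂, Category.assoc, Category.assoc, hX]
      obtain ⟨Z₂, t₁, ht₁, e1'⟩ := (MorphismProperty.map_eq_iff_precomp L W _ _).mp e1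
      have e2 : L.map ((t₁ ≫ c₁) ≫ pT) = L.map ((t₁ ≫ c₂) ≫ pT) := by
        rw [L.map_comp, L.map_comp, L.map_comp, L.map_comp, ← hc₁, ← hc₂]
        simp only [Category.assoc]
        rw [hT]
      obtain ⟨Z₃, t₂, ht₂, e2'⟩ := (MorphismProperty.map_eq_iff_precomp L W _ _).mp e2
      obtain ⟨Z₄, t₃, ht₃, e3⟩ := huniq Z₃ (t₂ ≫ t₁ ≫ c₁) (t₂ ≫ t₁ ≫ c₂)
        (by simp only [Category.assoc]; rw [e1'])
        (by simp only [Category.assoc] at e2' ⊢; exact e2')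
      have hτ : W (t₃ ≫ t₂ ≫ t₁) := W.comp_mem _ _ ht₃ (W.comp_mem _ _ ht₂ ht₁)
      have : IsIso (L.map (t₃ ≫ t₂ ≫ t₁)) := hinv _ hτ
      have : IsIso (L.map s₁) := hinv _ hs₁
      have e4 : L.map c₁ = L.map c₂ := by
        rw [← cancel_epi (L.map (t₃ ≫ t₂ ≫ t₁)), ← L.map_comp, ← L.map_comp]
        simp only [Category.assoc]
        rw [e3]
      rw [← cancel_epi (L.map s₁), hc₁, hc₂, e4]
    rintro w' ⟨hw'1, hw'2⟩
    exact key _ _ (hw'1.trans hl1.symm) (hw'2.trans hl2.symm)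

include W in
/-- a square which is a pullback up to `W` becomes a pullback in the localization -/
theorem isPullback_map (comm : pT ≫ g = pX ≫ f)
    (hex : ∀ (Z : C) (a : Z ⟶ X) (b : Z ⟶ T), a ≫ f = b ≫ g →
      ∃ (Z' : C) (s : Z' ⟶ Z) (_ : W s) (c : Z' ⟶ Y), c ≫ pX = s ≫ a ∧ c ≫ pT = s ≫ b)
    (huniq : ∀ (Z : C) (c₁ c₂ : Z ⟶ Y), c₁ ≫ pX = c₂ ≫ pX → c₁ ≫ pT = c₂ ≫ pT →
      ∃ (Z' : C) (s : Z' ⟶ Z) (_ : W s), s ≫ c₁ = s ≫ c₂) :
    IsPullback (L.map pT) (L.map pX) (L.map g) (L.map f) := by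
  have hess : L.EssSurj := Localization.essSurj L W
  have hcomm : L.map pT ≫ L.map g = L.map pX ≫ L.map f := by
    rw [← L.map_comp, ← L.map_comp, comm]
  have key := existsUnique_lift L W f g pX pT hex huniq
  have hcone : ∀ s : PullbackCone (L.map g) (L.map f),
      ∃! w : s.pt ⟶ L.obj Y, w ≫ L.map pT = s.fst ∧ w ≫ L.map pX = s.snd := by
    intro s
    let e : L.obj (L.objPreimage s.pt) ≅ s.pt := L.objObjPreimageIso s.pt
    obtain ⟨w, ⟨hw1, hw2⟩, hw3⟩ := key (L.objPreimage s.pt) (e.hom ≫ s.snd) (e.hom ≫ s.fst)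
      (by rw [Category.assoc, Category.assoc, s.condition])
    refine ⟨e.inv ≫ w, ⟨?_, ?_⟩, ?_⟩
    · rw [Category.assoc, hw2, Iso.inv_hom_id_assoc]
    · rw [Category.assoc, hw1, Iso.inv_hom_id_assoc]
    · rintro w' ⟨hw'1, hw'2⟩
      rw [← hw3 (e.hom ≫ w') ⟨by rw [Category.assoc, hw'2], by rw [Category.assoc, hw'1]⟩,
        Iso.inv_hom_id_assoc]
  refine ⟨⟨hcomm⟩, ⟨PullbackCone.IsLimit.mk hcomm (fun s => (hcone s).exists.choose)
    (fun s => (hcone s).exists.choose_spec.1) (fun s => (hcone s).exists.choose_spec.2)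
    (fun s m hm1 hm2 => (hcone s).unique ⟨hm1, hm2⟩ (hcone s).exists.choose_spec)⟩⟩

end Groth.Agent.R2.H92.LocPullback
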