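import Mathlib
import Groth.Agent.R2.H92SigmaIdeal
import Groth.Agent.S18738

/-!
# Coproducts of modulus pairs and admissible blow-ups (helper92)

* `isIso_morphismRestrict_iSup`, `isIso_morphismRestrict_image_of_isPullback`.
* `of_cover_isPullback`: a local-at-target property holds for `ψ` as soon as it holds for the base
  changes `g i` of `ψ` to an open cover.
* `IsGoodCofan`: scheme-level description of a coproduct cofan of modulus pairs;
  `exists_cofan`, `isGoodCofan_of_isColimit`.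
* `admBlowup_of_cofans`: a coproduct of admissible blow-ups is an admissible blow-up.
-/

set_option autoImplicit false
universe v u

open CategoryTheory CategoryTheory.Limits AlgebraicGeometry TopologicalSpace

namespace Groth.Agent.R2.H92.PairCoprod

open Groth.Agent.R2.H92.SigmaIdeal Groth.Agent.R2.H92.ModPair

section Schemes

variable {X Y : Scheme.{u}}

/-- a morphism which is an isomorphism over each member of a family of opens is an isomorphism over
their union -/
theorem isIso_morphismRestrict_iSup {ι : Type v} (f : X ⟶ Y) (V : ι → Y.Opens)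
    (h : ∀ i, IsIso (f ∣_ V i)) : IsIso (f ∣_ (⨆ i, V i)) := by
  have key : ∀ i, MorphismProperty.isomorphisms Scheme
      ((f ∣_ (⨆ i, V i)) ∣_ ((⨆ i, V i).ι ⁻¹ᵁ V i)) := by
    intro i
    have e : (⨆ i, V i).ι ''ᵁ ((⨆ i, V i).ι ⁻¹ᵁ V i) = V i := by
      rw [Scheme.Hom.image_preimage_eq_opensRange_inf, Scheme.Opens.opensRange_ι]
      exact inf_eq_right.mpr (le_iSup V i)
    rw [(MorphismProperty.isomorphisms Scheme).arrow_mk_iso_iff
      (morphismRestrictRestrict f _ _ ≪≫ morphismRestrictEq f e)]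
    exact h i
  have : MorphismProperty.isomorphisms Scheme (f ∣_ (⨆ i, V i)) := by
    apply IsZariskiLocalAtTarget.of_forall_exists_morphismRestrict
    rintro ⟨x, hx⟩
    obtain ⟨i, hi⟩ := Opens.mem_iSup.mp hx
    exact ⟨(⨆ i, V i).ι ⁻¹ᵁ V i, hi, key i⟩
  exact this

/-- if `g` is the base change of `f` along the open immersion `iV` and `g` is an isomorphism over
`V'`, then `f` is an isomorphism over the image of `V'` -/
theorem isIso_morphismRestrict_image_of_isPullback {U₀ V₀ : Scheme.{u}} {g : U₀ ⟶ V₀}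
    {iU : U₀ ⟶ X} {iV : V₀ ⟶ Y} {f : X ⟶ Y} [IsOpenImmersion iV] (hpb : IsPullback g iU iV f)
    (V' : V₀.Opens) [IsIso (g ∣_ V')] : IsIso (f ∣_ (iV ''ᵁ V')) := by
  have S1 := isPullback_morphismRestrict g V'
  have S3 := isPullback_morphismRestrict f (iV ''ᵁ V')
  have hbig := S1.paste_vert hpb
  have he : V'.ι ≫ iV = (iV.isoImage V').hom ≫ (iV ''ᵁ V').ι := (iV.isoImage_hom_ι V').symm
  have w : ((g ∣_ V') ≫ (iV.isoImage V').hom) ≫ (iV ''ᵁ V').ι = ((g ⁻¹ᵁ V').ι ≫ iU) ≫ f := by
    rw [Category.assoc, ← he]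
    exact hbig.w
  have hbig' : IsPullback (g ∣_ V') (S3.lift _ _ w ≫ (f ⁻¹ᵁ iV ''ᵁ V').ι)
      ((iV.isoImage V').hom ≫ (iV ''ᵁ V').ι) f := by
    rw [S3.lift_snd, ← he]
    exact hbig
  have hup := IsPullback.of_bot hbig' (S3.lift_fst _ _ w).symm S3
  have : IsIso (S3.lift _ _ w) := hup.isIso_snd_of_isIso
  have hcomm : f ∣_ (iV ''ᵁ V') = inv (S3.lift _ _ w) ≫ (g ∣_ V') ≫ (iV.isoImage V').hom := by
    rw [IsIso.eq_inv_comp]
    exact S3.lift_fst _ _ w
  rw [hcomm]
  infer_instance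

/-- a local-at-target property holds for `ψ` as soon as it holds for the base changes of `ψ` to an
open cover -/
theorem of_cover_isPullback {P : MorphismProperty Scheme.{u}} [IsZariskiLocalAtTarget P]
    (ψ : X ⟶ Y) (𝒱 : Scheme.OpenCover.{v} Y) (Xs : 𝒱.I₀ → Scheme.{u})
    (a : ∀ i, Xs i ⟶ X) (g : ∀ i, Xs i ⟶ 𝒱.X i) (hpb : ∀ i, IsPullback (g i) (a i) (𝒱.f i) ψ)
    (hg : ∀ i, P (g i)) : P ψ := by
  refine IsZariskiLocalAtTarget.of_openCover 𝒱 fun i => ?_
  have h1 : P ((hpb i).flip.isoPullback.hom ≫ pullback.snd ψ (𝒱.f i)) := by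
    rw [(hpb i).flip.isoPullback_hom_snd]
    exact hg i
  exact (MorphismProperty.cancel_left_of_respectsIso P (hpb i).flip.isoPullback.hom
    (pullback.snd ψ (𝒱.f i))).mp h1

end Schemes


section Pairs

open _root_.ModPair

/-- isomorphisms of modulus pairs are minimal -/
theorem mod_eq_comap_of_iso {P Q : Pair.{u}} (e : P ≅ Q) : P.mod = Q.mod.comap e.hom.hom := by
  apply le_antisymm e.hom.cond
  have h1 : Q.mod ≤ P.mod.comap e.inv.hom := e.inv.cond
  have h2 : e.hom.hom ≫ e.inv.hom = 𝟙 _ := congrArg Pair.Hom.hom e.hom_inv_id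
  calc Q.mod.comap e.hom.hom ≤ (P.mod.comap e.inv.hom).comap e.hom.hom :=
        Scheme.IdealSheafData.comap_mono _ h1
    _ = P.mod.comap (e.hom.hom ≫ e.inv.hom) := (Scheme.IdealSheafData.comap_comp _ _ _).symm
    _ = P.mod := by rw [h2, Scheme.IdealSheafData.comap_id]

/-- scheme-level description of a coproduct cofan of modulus pairs -/
structure IsGoodCofan {σ : Type v} (P : σ → Pair.{u}) (c : Cofan P) : Prop where
  isOpenImmersion : ∀ i, IsOpenImmersion (c.inj i).hom
  exists_eq : ∀ x : c.pt.total, ∃ i y, (c.inj i).hom y = x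
  disjoint : ∀ i j, i ≠ j → Disjoint (Set.range (c.inj i).hom) (Set.range (c.inj j).hom)
  comap_eq : ∀ i, c.pt.mod.comap (c.inj i).hom = (P i).mod

/-- the coproduct of a family of modulus pairs -/
theorem exists_cofan {σ : Type v} [Small.{u} σ] (P : σ → Pair.{u}) :
    ∃ c : Cofan P, Nonempty (IsColimit c) ∧
      Nonempty (IsColimit (Pair.forget.{u}.mapCocone c)) ∧ IsGoodCofan P c := by
  obtain ⟨K, hK⟩ := exists_idealSheafData_sigma (fun i => (P i).total) (fun i => (P i).mod)
  have hKeff : BlowUp.IsEffCartierIdeal K := by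
    refine isEffCartierIdeal_of_openCover K (sigmaOpenCover (fun i => (P i).total)) fun i => ?_
    show BlowUp.IsEffCartierIdeal (K.comap (Sigma.ι (fun i => (P i).total) i))
    rw [hK i]
    exact (P i).isEffCartier
  let Q : Pair.{u} := ⟨∐ fun i => (P i).total, K, hKeff⟩
  let inj : ∀ i, P i ⟶ Q := fun i => ⟨Sigma.ι (fun i => (P i).total) i, (hK i).ge⟩
  have hcond : ∀ s : Cofan P, IsAmbient K s.pt.mod
      (Sigma.desc fun i => (s.inj i).hom) := by
    intro s
    refine le_of_openCover K _ (sigmaOpenCover (fun i => (P i).total)) fun (i : σ) => ?_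
    show K.comap (Sigma.ι (fun i => (P i).total) i) ≤
      (s.pt.mod.comap (Sigma.desc fun i => (s.inj i).hom)).comap
        (Sigma.ι (fun i => (P i).total) i)
    rw [hK i, ← Scheme.IdealSheafData.comap_comp,
      Sigma.ι_desc (fun i => (s.inj i).hom) i]
    exact (s.inj i).cond
  refine ⟨Cofan.mk Q inj, ⟨Cofan.IsColimit.mk _
    (fun s => ⟨Sigma.desc fun i => (s.inj i).hom, hcond s⟩)
    (fun s i => ?_) (fun s m hm => ?_)⟩, ⟨?_⟩, ?_⟩
  · apply Pair.Hom.ext
    exact Sigma.ι_desc _ _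
  · apply Pair.Hom.ext
    refine Sigma.hom_ext _ _ fun i => ?_
    rw [Sigma.ι_desc (fun i => (s.inj i).hom) i]
    exact congrArg Pair.Hom.hom (hm i)
  · exact
    { desc := fun s => Sigma.desc fun i => s.ι.app ⟨i⟩
      fac := fun s ⟨i⟩ => Sigma.ι_desc _ _
      uniq := fun s (m : (∐ fun i => (P i).total) ⟶ s.pt) hm => Sigma.hom_ext _ _ fun i =>
        (hm ⟨i⟩).trans (Sigma.ι_desc (fun i => s.ι.app ⟨i⟩) i).symm }
  · refine ⟨fun i => ?_, fun x => ?_, fun i j hij => ?_, fun i => hK i⟩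
    · show IsOpenImmersion (Sigma.ι (fun i => (P i).total) i)
      infer_instance
    · exact (sigmaOpenCover (fun i => (P i).total)).exists_eq x
    · rw [Set.disjoint_left]
      rintro x ⟨y, hy⟩ ⟨z, hz⟩
      exact (disjoint_opensRange_sigmaι (fun i => (P i).total) i j hij).le_bot
        ⟨⟨y, hy⟩, ⟨z, hz⟩⟩

/-- every colimit cofan of modulus pairs is good -/
theorem isGoodCofan_of_isColimit {σ : Type v} [Small.{u} σ] (P : σ → Pair.{u}) (c : Cofan P)
    (hc : IsColimit c) : IsGoodCofan P c := by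
  obtain ⟨c₀, ⟨hc₀⟩, -, hgood⟩ := exists_cofan P
  let e : c₀.pt ≅ c.pt := hc₀.coconePointUniqueUpToIso hc
  have he : ∀ i, c₀.inj i ≫ e.hom = c.inj i := fun i =>
    hc₀.comp_coconePointUniqueUpToIso_hom hc ⟨i⟩
  have he' : ∀ i, (c₀.inj i).hom ≫ e.hom.hom = (c.inj i).hom := fun i =>
    congrArg Pair.Hom.hom (he i)
  have hiso : IsIso e.hom.hom :=
    ⟨e.inv.hom, congrArg Pair.Hom.hom e.hom_inv_id, congrArg Pair.Hom.hom e.inv_hom_id⟩
  have hinj : Function.Injective e.hom.hom := by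
    intro x y hxy
    have := congrArg (inv e.hom.hom) hxy
    simpa [← Scheme.Hom.comp_apply] using this
  refine ⟨fun i => ?_, fun x => ?_, fun i j hij => ?_, fun i => ?_⟩
  · rw [← he' i]
    have := hgood.isOpenImmersion i
    infer_instance
  · obtain ⟨i, y, hy⟩ := hgood.exists_eq (inv e.hom.hom x)
    refine ⟨i, y, ?_⟩
    rw [← he' i, Scheme.Hom.comp_apply, hy, ← Scheme.Hom.comp_apply, IsIso.inv_hom_id]
    rfl
  · rw [Set.disjoint_left]
    rintro x ⟨y, hy⟩ ⟨z, hz⟩
    rw [← he' i, Scheme.Hom.comp_apply] at hy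
    rw [← he' j, Scheme.Hom.comp_apply, ← hy] at hz
    exact Set.disjoint_left.mp (hgood.disjoint i j hij) ⟨y, rfl⟩ ⟨z, hinj hz⟩
  · rw [← he' i, Scheme.IdealSheafData.comap_comp, ← mod_eq_comap_of_iso e]
    exact hgood.comap_eq i

/-- **a coproduct of admissible blow-ups is an admissible blow-up** -/
theorem admBlowup_of_cofans {σ : Type v} (P Q : σ → Pair.{u}) (g : ∀ i, P i ⟶ Q i)
    (hg : ∀ i, Pair.admBlowup (g i)) (c : Cofan P) (hc : IsGoodCofan P c) (d : Cofan Q)
    (hd : IsGoodCofan Q d) (ψ : c.pt ⟶ d.pt) (hψ : ∀ i, c.inj i ≫ ψ = g i ≫ d.inj i) :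
    Pair.admBlowup ψ := by
  have hcomm : ∀ i, (c.inj i).hom ≫ ψ.hom = (g i).hom ≫ (d.inj i).hom := fun i =>
    congrArg Pair.Hom.hom (hψ i)
  have := hc.isOpenImmersion
  have := hd.isOpenImmersion
  let 𝒰 : Scheme.OpenCover.{v} c.pt.total := Scheme.Cover.mkOfCovers σ (fun i => (P i).total)
    (fun i => (c.inj i).hom) (fun x => hc.exists_eq x) hc.isOpenImmersion
  let 𝒱 : Scheme.OpenCover.{v} d.pt.total := Scheme.Cover.mkOfCovers σ (fun i => (Q i).total)
    (fun i => (d.inj i).hom) (fun x => hd.exists_eq x) hd.isOpenImmersion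
  have hpb : ∀ i, IsPullback (g i).hom (c.inj i).hom (d.inj i).hom ψ.hom := by
    intro i
    refine IsOpenImmersion.isPullback _ _ _ _ (hcomm i) ?_
    ext x
    constructor
    · intro hx
      obtain ⟨k, y, rfl⟩ := hc.exists_eq x
      by_cases hki : k = i
      · subst hki
        exact ⟨y, rfl⟩
      · exfalso
        have h1 : ψ.hom ((c.inj k).hom y) ∈ Set.range (d.inj k).hom :=
          ⟨(g k).hom y, by rw [← Scheme.Hom.comp_apply, ← hcomm k, Scheme.Hom.comp_apply]⟩
        exact Set.disjoint_left.mp (hd.disjoint k i hki) h1 hx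
    · rintro ⟨y, rfl⟩
      exact ⟨(g i).hom y, by rw [← Scheme.Hom.comp_apply, ← hcomm i, Scheme.Hom.comp_apply]⟩
  refine ⟨?_, ?_, ?_⟩
  · show c.pt.mod = d.pt.mod.comap ψ.hom
    have key : ∀ i, c.pt.mod.comap (c.inj i).hom =
        (d.pt.mod.comap ψ.hom).comap (c.inj i).hom := by
      intro i
      rw [hc.comap_eq, ← Scheme.IdealSheafData.comap_comp, hcomm i,
        Scheme.IdealSheafData.comap_comp, hd.comap_eq]
      exact (hg i).1
    exact le_antisymm (le_of_openCover _ _ 𝒰 fun i => (key i).le)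
      (le_of_openCover _ _ 𝒰 fun i => (key i).ge)
  · exact of_cover_isPullback (P := @IsProper) ψ.hom 𝒱 (fun i => (P i).total)
      (fun i => (c.inj i).hom) (fun i => (g i).hom) hpb (fun i => (hg i).2.1)
  · have hU : ModPair.interior d.pt.mod =
        ⨆ i, (d.inj i).hom ''ᵁ (ModPair.interior (Q i).mod) := by
      ext x
      constructor
      · intro hx
        obtain ⟨i, y, rfl⟩ := hd.exists_eq x
        refine Opens.mem_iSup.mpr ⟨i, y, ?_, rfl⟩
        rw [← hd.comap_eq i, Groth.Agent.S18743.interior_comap]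
        exact hx
      · intro hx
        obtain ⟨i, y, hy, rfl⟩ := Opens.mem_iSup.mp hx
        rw [← hd.comap_eq i, Groth.Agent.S18743.interior_comap] at hy
        exact hy
    show IsIso (ψ.hom ∣_ ModPair.interior d.pt.mod)
    rw [hU]
    apply isIso_morphismRestrict_iSup
    intro i
    have : IsIso ((g i).hom ∣_ ModPair.interior (Q i).mod) := (hg i).2.2
    exact isIso_morphismRestrict_image_of_isPullback (hpb i) _

end Pairs

end Groth.Agent.R2.H92.PairCoprod
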