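import Mathlib
import Groth.Prelude.Def_CohB1
import Groth.Agent.R2.H29DimOneGenF
import Groth.Agent.R2.H91AmpleEmb2
import Groth.Agent.Lib.Helper4VarDim6
import Groth.Agent.Lib.Helper6ImageBC
import Groth.Agent.S9705

/-!
# Projective completion of separated schemes of finite type and dimension `≤ 1` over a field (helper92)
-/

set_option autoImplicit false
set_option linter.style.haveILetI false

namespace Groth.Agent.R2.H92.ProjCompl

open CategoryTheory CategoryTheory.Limits AlgebraicGeometry TopologicalSpace Topology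

universe u

section top

/-- In a Noetherian space the generic point of an irreducible component lies in every dense open subset. -/
theorem generic_mem_of_dense_open {Y : Type*} [TopologicalSpace Y] [NoetherianSpace Y] (U : Set Y)
    (hU : IsOpen U) (hd : Dense U) (η : Y) (hη : closure {η} ∈ irreducibleComponents Y) : η ∈ U := by
  classical
  by_contra h
  set T : Set Y := closure {η} with hT
  have hTU : T ⊆ Uᶜ := closure_minimal (Set.singleton_subset_iff.mpr h) hU.isClosed_compl
  have hfin : (irreducibleComponents Y).Finite := NoetherianSpace.finite_irreducibleComponents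
  let S : Finset (Set Y) := hfin.toFinset.erase T
  have hScl : ∀ z ∈ S, IsClosed z := fun z hz =>
    isClosed_of_mem_irreducibleComponents z (hfin.mem_toFinset.mp (Finset.mem_of_mem_erase hz))
  have hUW : U ⊆ ⋃₀ (S : Set (Set Y)) := by
    intro u hu
    refine ⟨irreducibleComponent u, ?_, mem_irreducibleComponent⟩
    refine Finset.mem_coe.mpr (Finset.mem_erase.mpr ⟨?_, hfin.mem_toFinset.mpr
      (irreducibleComponent_mem_irreducibleComponents u)⟩)
    intro heq
    exact hTU (heq ▸ mem_irreducibleComponent) hu
  have hWcl : IsClosed (⋃₀ (S : Set (Set Y))) := by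
    rw [Set.sUnion_eq_biUnion]
    exact S.finite_toSet.isClosed_biUnion fun z hz => hScl z hz
  have hTW : T ⊆ ⋃₀ (S : Set (Set Y)) := by
    have : closure U ⊆ ⋃₀ (S : Set (Set Y)) := closure_minimal hUW hWcl
    rw [hd.closure_eq] at this
    exact fun t _ => this (Set.mem_univ t)
  have hirr : IsIrreducible T := hη.1
  obtain ⟨z, hz, hTz⟩ := isIrreducible_iff_sUnion_isClosed.mp hirr S hScl hTW
  have hzc : z ∈ irreducibleComponents Y := hfin.mem_toFinset.mp (Finset.mem_of_mem_erase hz)
  have : z ≤ T := hη.2 hzc.1 hTz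
  exact (Finset.ne_of_mem_erase hz) (le_antisymm this hTz)

end top

section dim

open Groth.Agent.Lib.Helper4.VarDim

/-- For a Noetherian scheme locally of finite type over a field, the dimension is bounded by the dimension of any dense
open subset. -/
theorem dim_le_of_dense_open (k : Type u) [Field k] (Y : Scheme.{u}) [Y.Over (Spec (CommRingCat.of k))]
    [LocallyOfFiniteType (Y ↘ Spec (CommRingCat.of k))] [NoetherianSpace Y] (U : Set Y) (hU : IsOpen U)
    (hd : Dense U) (d : WithBot ℕ∞) (hdim : topologicalKrullDim U ≤ d) : topologicalKrullDim Y ≤ d := by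
  apply topologicalKrullDim_le_of_forall_trdegNat_le' k Y d
  intro y
  have hc := irreducibleComponent_mem_irreducibleComponents y
  have hcl : IsClosed (irreducibleComponent y) := isClosed_irreducibleComponent
  obtain ⟨η, hη⟩ : ∃ η, IsGenericPoint η (irreducibleComponent y) := QuasiSober.sober hc.1 hcl
  have hηU : η ∈ U := generic_mem_of_dense_open U hU hd η (hη.def.symm ▸ hc)
  have hsp : η ⤳ y := by
    rw [specializes_iff_mem_closure, hη.def]
    exact mem_irreducibleComponent
  have h1 := trdegNat_le_of_specializes k Y η y hsp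
  have h2 := trdegNat_le_topologicalKrullDim_of_isLocallyClosed k Y U hU.isLocallyClosed η hηU
  have h3 : ((trdegNat k Y y : ℕ) : WithBot ℕ∞) ≤ ((trdegNat k Y η : ℕ) : WithBot ℕ∞) := by
    exact_mod_cast h1
  exact h3.trans (h2.trans hdim)

end dim

section main

/-- **Projective completion in dimension `≤ 1`**, with extras: `dim Y ≤ 1`, and `Y` is reduced / integral if `X` is. -/
theorem exists_projective_completion' (k : Type u) [Field k] (X : Scheme.{u})
    [X.Over (Spec (CommRingCat.of k))] [IsSeparated (X ↘ Spec (CommRingCat.of k))]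
    [LocallyOfFiniteType (X ↘ Spec (CommRingCat.of k))] [QuasiCompact (X ↘ Spec (CommRingCat.of k))]
    (hdim : topologicalKrullDim X ≤ 1) :
    ∃ (d : ℕ) (Y : Scheme.{u}) (c : Y ⟶ CohB1.ProjSpace d k) (j : X ⟶ Y), IsClosedImmersion c ∧
      IsOpenImmersion j ∧ j ≫ c ≫ CohB1.ProjSpace.toSpec d k = X ↘ Spec (CommRingCat.of k) ∧
      Dense (Set.range j.base) ∧ IsSchemeTheoreticallyDominant j ∧ (Set.range j.base)ᶜ.Finite ∧
      (∀ y ∈ (Set.range j.base)ᶜ, IsClosed ({y} : Set Y)) ∧ topologicalKrullDim Y ≤ 1 ∧
      (IsReduced X → IsReduced Y) ∧ (IsIntegral X → IsIntegral Y) := by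
  haveI : IsLocallyNoetherian X :=
    LocallyOfFiniteType.isLocallyNoetherian (X ↘ Spec (CommRingCat.of k))
  haveI : CompactSpace X := QuasiCompact.compactSpace_of_compactSpace (X ↘ Spec (CommRingCat.of k))
  haveI : IsNoetherian X := ⟨⟩
  haveI : X.IsSeparated := ⟨by
    rw [show terminal.from X = (X ↘ Spec (CommRingCat.of k)) ≫ terminal.from _ from
      terminalIsTerminal.hom_ext _ _]
    infer_instance⟩
  obtain ⟨L, hL⟩ := Groth.Agent.R2.H29.DimOneGen.exists_ample X hdim
  obtain ⟨n₀, hn₀⟩ := Groth.Agent.R2.H91.AmpleEmb.exists_embedding_eventually k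
    (X ↘ Spec (CommRingCat.of k)) L hL
  obtain ⟨N, i, hi, hif, -⟩ := hn₀ n₀ le_rfl
  haveI := hi
  haveI hP : IsProper (CohB1.ProjSpace.toSpec N k) := Groth.Agent.S9705.isProper_projSpace_toSpec N k
  letI : i.image.Over (Spec (CommRingCat.of k)) := ⟨i.imageι ≫ CohB1.ProjSpace.toSpec N k⟩
  haveI : LocallyOfFiniteType (i.image ↘ Spec (CommRingCat.of k)) := by
    change LocallyOfFiniteType (i.imageι ≫ CohB1.ProjSpace.toSpec N k)
    infer_instance
  haveI : IsLocallyNoetherian i.image :=
    LocallyOfFiniteType.isLocallyNoetherian (i.image ↘ Spec (CommRingCat.of k))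
  haveI : CompactSpace i.image := by
    haveI : QuasiCompact (i.image ↘ Spec (CommRingCat.of k)) := by
      change QuasiCompact (i.imageι ≫ CohB1.ProjSpace.toSpec N k)
      infer_instance
    exact QuasiCompact.compactSpace_of_compactSpace (i.image ↘ Spec (CommRingCat.of k))
  haveI : IsNoetherian i.image := ⟨⟩
  have hUo : IsOpen (Set.range i.toImage.base) := i.toImage.isOpenEmbedding.isOpen_range
  have hUd : Dense (Set.range i.toImage.base) := i.toImage.denseRange
  have hUdim : topologicalKrullDim (Set.range i.toImage.base) ≤ 1 := by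
    rw [← IsHomeomorph.topologicalKrullDim_eq _
      (i.toImage.isOpenEmbedding.isEmbedding.toHomeomorph).isHomeomorph]
    exact hdim
  have hYdim : topologicalKrullDim i.image ≤ 1 :=
    dim_le_of_dense_open k i.image _ hUo hUd 1 hUdim
  have hgen : ∀ η : i.image, closure {η} ∈ irreducibleComponents i.image →
      η ∉ (Set.range i.toImage.base)ᶜ :=
    fun η hη h => h (generic_mem_of_dense_open _ hUo hUd η hη)
  have hred : IsReduced X → IsReduced i.image := fun _ =>
    IsSchemeTheoreticallyDominant.isReduced i.toImage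
  refine ⟨N, i.image, i.imageι, i.toImage, inferInstance, inferInstance, ?_, hUd, inferInstance, ?_, ?_,
    hYdim, hred, ?_⟩
  · rw [Scheme.Hom.toImage_imageι_assoc, hif]
  · exact Groth.Agent.R2.H29.DimOneGen.finite_of_isClosed_of_forall_generic_notMem hYdim _
      hUo.isClosed_compl hgen
  · exact Groth.Agent.R2.H29.DimOneGen.isClosed_singleton_of_forall_generic_notMem hYdim _
      hUo.isClosed_compl hgen
  · intro hint
    haveI := hred inferInstance
    haveI : IrreducibleSpace i.image := by
      have h1 : IsIrreducible (Set.range i.toImage.base) := by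
        rw [← Set.image_univ]
        exact (IrreducibleSpace.isIrreducible_univ X).image _ i.toImage.continuous.continuousOn
      have h2 := h1.closure
      rw [hUd.closure_eq] at h2
      exact (irreducibleSpace_def _).mpr h2
    exact isIntegral_of_irreducibleSpace_of_isReduced _

/-- **Projective completion in dimension `≤ 1`** -/
theorem exists_projective_completion (k : Type u) [Field k] (X : Scheme.{u})
    [X.Over (Spec (CommRingCat.of k))] [IsSeparated (X ↘ Spec (CommRingCat.of k))]
    [LocallyOfFiniteType (X ↘ Spec (CommRingCat.of k))] [QuasiCompact (X ↘ Spec (CommRingCat.of k))]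
    (hdim : topologicalKrullDim X ≤ 1) :
    ∃ (d : ℕ) (Y : Scheme.{u}) (c : Y ⟶ CohB1.ProjSpace d k) (j : X ⟶ Y), IsClosedImmersion c ∧
      IsOpenImmersion j ∧ j ≫ c ≫ CohB1.ProjSpace.toSpec d k = X ↘ Spec (CommRingCat.of k) ∧
      Dense (Set.range j.base) ∧ IsSchemeTheoreticallyDominant j ∧ (Set.range j.base)ᶜ.Finite ∧
      ∀ y ∈ (Set.range j.base)ᶜ, IsClosed ({y} : Set Y) := by
  obtain ⟨d, Y, c, j, h1, h2, h3, h4, h5, h6, h7, -⟩ := exists_projective_completion' k X hdim
  exact ⟨d, Y, c, j, h1, h2, h3, h4, h5, h6, h7⟩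

end main

end Groth.Agent.R2.H92.ProjCompl
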