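import Mathlib
import Groth.Prelude.Def_CohB1
import Groth.Agent.Lib.Helper13ProjBC2
import Groth.Agent.Lib.Helper13RelProjA
import Groth.Agent.R2.H87PnSpec
import Groth.Agent.Lib.Helper13RelProjE

/-!
# Charts of `P^n_S` over the affine opens of `S` (helper92, PROJ:relproj R1)

* `polyRes n φ : A[T] →+*ᵍ B[T]`, `isPullback_polyRes` (`P^n_B = P^n_A ×_A B`).
* `embU n hU : ProjSpace n Γ(S, U) ⟶ ProjSpaceOver n S`, an open immersion with range `toBase⁻¹ U`,
  compatible with restriction (`polyRes_embU`).
-/

set_option autoImplicit false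
set_option linter.style.haveILetI false

namespace Groth.Agent.R2.H92.RelProjPn

open CategoryTheory CategoryTheory.Limits AlgebraicGeometry MvPolynomial
open Groth.Agent.R2.H87.ProjSpaceOver Groth.Agent.R2.H87.PnSpec
open scoped HomogeneousIdeal

universe u

variable (n : ℕ)

section ring

variable {A B D : Type u} [CommRing A] [CommRing B] [CommRing D] (φ : A →+* B) (ψ : B →+* D)

/-- The graded ring map `A[x_0..x_n] → B[x_0..x_n]`. -/
noncomputable def polyRes : CohB1.polyGrading n A →+*ᵍ CohB1.polyGrading n B where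
  toRingHom := MvPolynomial.map φ
  map_mem := fun {_ _} hx =>
    (mem_homogeneousSubmodule _ _).mpr (((mem_homogeneousSubmodule _ _).mp hx).map φ)

@[simp] theorem polyRes_apply (a : MvPolynomial (Fin (n + 1)) A) :
    polyRes n φ a = MvPolynomial.map φ a := rfl

attribute [local instance] MvPolynomial.algebraMvPolynomial in
theorem isPushout_mvPolynomial :
    IsPushout (CommRingCat.ofHom φ)
      (CommRingCat.ofHom (C : A →+* MvPolynomial (Fin (n + 1)) A))
      (CommRingCat.ofHom (C : B →+* MvPolynomial (Fin (n + 1)) B))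
      (CommRingCat.ofHom (MvPolynomial.map (σ := Fin (n + 1)) φ)) := by
  letI : Algebra A B := φ.toAlgebra
  exact CommRingCat.isPushout_of_isPushout A B
    (MvPolynomial (Fin (n + 1)) A) (MvPolynomial (Fin (n + 1)) B)

theorem irrelevant_le_polyRes :
    (HomogeneousIdeal.irrelevant (CohB1.polyGrading n B)) ≤
      (HomogeneousIdeal.irrelevant (CohB1.polyGrading n A)).map (polyRes n φ) :=
  Groth.Agent.Helper13ProjBC.irrelevant_le_map_cat (isPushout_mvPolynomial n φ) (polyRes n φ)
    (fun _ => rfl) (fun r => (mem_homogeneousSubmodule _ _).mpr (isHomogeneous_C _ r))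

/-- `P^n_B ⟶ P^n_A` induced by `φ : A →+* B`. -/
noncomputable def projRes : Proj (CohB1.polyGrading n B) ⟶ Proj (CohB1.polyGrading n A) :=
  Proj.map (polyRes n φ) (irrelevant_le_polyRes n φ)

variable (A) in
/-- the structure morphism, with source written as a `Proj` -/
noncomputable def toSpec' : Proj (CohB1.polyGrading n A) ⟶ Spec (CommRingCat.of A) :=
  CohB1.ProjSpace.toSpec n A

variable (A) in
theorem toSpec'_eq : toSpec' n A = Proj.toSpecZero (CohB1.polyGrading n A) ≫
    Spec.map (CommRingCat.ofHom (algebraMap A (CohB1.polyGrading n A 0))) := rfl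

variable (A) in
/-- `P^n_A ⟶ P^n_ℤ`. -/
noncomputable def projZ : Proj (CohB1.polyGrading n A) ⟶ CohB1.ProjSpace n (ULift.{u} ℤ) :=
  Proj.map (mapHom n A) (irrelevant_le n A)

/-- `P^n_B = P^n_A ×_{Spec A} Spec B`. -/
theorem isPullback_projRes :
    IsPullback (projRes n φ) (toSpec' n B)
      (toSpec' n A) (Spec.map (CommRingCat.ofHom φ)) :=
  Groth.Agent.Helper13ProjBC.isPullback_proj_cat (isPushout_mvPolynomial n φ) (polyRes n φ)
    (fun _ => rfl) (irrelevant_le_polyRes n φ)
    (CommRingCat.ofHom (algebraMap A (CohB1.polyGrading n A 0)))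
    (fun r => SetLike.GradeZero.coe_algebraMap _ r)
    (CommRingCat.ofHom (algebraMap B (CohB1.polyGrading n B 0)))
    (fun r => SetLike.GradeZero.coe_algebraMap _ r)

@[reassoc]
theorem projRes_toSpec :
    projRes n φ ≫ toSpec' n A = toSpec' n B ≫ Spec.map (CommRingCat.ofHom φ) :=
  (isPullback_projRes n φ).w

instance [IsOpenImmersion (Spec.map (CommRingCat.ofHom φ))] : IsOpenImmersion (projRes n φ) :=
  MorphismProperty.of_isPullback (P := @IsOpenImmersion) (isPullback_projRes n φ).flip inferInstance

theorem polyRes_comp :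
    (polyRes n ψ).comp (polyRes n φ) = polyRes n (ψ.comp φ) := by
  refine DFunLike.ext _ _ fun a => ?_
  change MvPolynomial.map ψ (MvPolynomial.map φ a) = MvPolynomial.map (ψ.comp φ) a
  rw [MvPolynomial.map_map]

@[reassoc]
theorem projRes_comp : projRes n ψ ≫ projRes n φ = projRes n (ψ.comp φ) := by
  unfold projRes
  refine (Proj.map_comp _ _ _ _).symm.trans ?_
  exact Groth.Agent.Helper13RelProj.map_congr (polyRes_comp n φ ψ) _ _

theorem polyRes_comp_mapHom : (polyRes n φ).comp (mapHom n A) = mapHom n B := by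
  refine DFunLike.ext _ _ fun a => ?_
  change MvPolynomial.map φ (MvPolynomial.map (zStr (CommRingCat.of A)).hom a) =
    MvPolynomial.map (zStr (CommRingCat.of B)).hom a
  rw [MvPolynomial.map_map]
  congr 2
  ext k
  simp [zStr]

@[reassoc]
theorem projRes_projZ : projRes n φ ≫ projZ n A = projZ n B := by
  unfold projRes projZ
  refine (Proj.map_comp _ _ _ _).symm.trans ?_
  exact Groth.Agent.Helper13RelProj.map_congr (polyRes_comp_mapHom n φ) _ _

theorem isPullback_projZ :
    IsPullback (projZ n A) (toSpec' n A)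
      (CohB1.ProjSpace.toSpec n (ULift.{u} ℤ)) (Spec.map (zStr (CommRingCat.of A))) :=
  isPullback_projSpace n A

end ring

section scheme

variable {S : Scheme.{u}} {U V : S.Opens}

/-- The chart `P^n_{Γ(S, U)} ⟶ P^n_S` over an affine open `U` of `S`. -/
noncomputable def embU (hU : IsAffineOpen U) :
    Proj (CohB1.polyGrading n Γ(S, U)) ⟶ CohB1.ProjSpaceOver n S :=
  lift n (projZ n Γ(S, U)) (toSpec' n Γ(S, U) ≫ hU.fromSpec)

@[reassoc (attr := simp)]
theorem embU_toZ (hU : IsAffineOpen U) : embU n hU ≫ toZ n S = projZ n Γ(S, U) :=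
  lift_toZ _ _ _

@[reassoc (attr := simp)]
theorem embU_toBase (hU : IsAffineOpen U) :
    embU n hU ≫ CohB1.ProjSpaceOver.toBase n S = toSpec' n Γ(S, U) ≫ hU.fromSpec :=
  lift_toBase _ _ _

theorem isPullback_embU (hU : IsAffineOpen U) :
    IsPullback (embU n hU) (toSpec' n Γ(S, U))
      (CohB1.ProjSpaceOver.toBase n S) hU.fromSpec := by
  refine IsPullback.of_right ?_ (embU_toBase n hU) (isPullback_toZ n S)
  rw [embU_toZ, specULiftZIsTerminal.hom_ext (hU.fromSpec ≫ specULiftZIsTerminal.from S)
    (Spec.map (zStr Γ(S, U)))]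
  exact isPullback_projZ n

instance (hU : IsAffineOpen U) : IsOpenImmersion (embU n hU) :=
  MorphismProperty.of_isPullback (P := @IsOpenImmersion) (isPullback_embU n hU).flip inferInstance

theorem opensRange_embU (hU : IsAffineOpen U) :
    (embU n hU).opensRange = CohB1.ProjSpaceOver.toBase n S ⁻¹ᵁ U := by
  ext1
  have h := isPullback_embU n hU
  have e : embU n hU = h.isoPullback.hom ≫ pullback.fst _ _ := (h.isoPullback_hom_fst).symm
  change Set.range (embU n hU) = _
  rw [e, Scheme.Hom.comp_base, TopCat.coe_comp, Set.range_comp,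
    Set.range_eq_univ.mpr h.isoPullback.hom.surjective, Set.image_univ,
    Scheme.Pullback.range_fst, hU.range_fromSpec]
  rfl

/-- Compatibility of the charts with restriction. -/
theorem projRes_embU (hU : IsAffineOpen U) (hV : IsAffineOpen V) (h : V ≤ U) :
    projRes n (S.presheaf.map (homOfLE h).op).hom ≫ embU n hU = embU n hV := by
  apply hom_ext
  · rw [Category.assoc, embU_toZ, embU_toZ, projRes_projZ]
  · rw [Category.assoc, embU_toBase, embU_toBase, projRes_toSpec_assoc]
    congr 1
    exact hU.map_fromSpec hV (homOfLE h).op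

end scheme

end Groth.Agent.R2.H92.RelProjPn
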