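import Mathlib
import Groth.Agent.R2.H92RelProjPn
import Groth.Agent.Lib.Helper13ProjQuotIdeal
import Groth.Agent.Lib.Helper13RLb
import Groth.Agent.Lib.Helper20EffCartier

/-!
# The homogeneous ideals `J_U ⊆ Γ(S, U)[T]` of an ideal sheaf on `P^n_S` (helper92, PROJ:relproj R1)
-/

set_option autoImplicit false
set_option linter.style.haveILetI false
set_option linter.unusedSectionVars false

namespace Groth.Agent.R2.H92.RelProjIdeal

open CategoryTheory CategoryTheory.Limits AlgebraicGeometry MvPolynomial HomogeneousLocalization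
open Groth.Agent.R2.H92.RelProjPn Groth.Agent.Helper13ProjQuotIdeal Groth.Agent.Helper13Dehom
open scoped HomogeneousIdeal

universe u

section general

variable {R A R' B : Type u} [CommRing R] [CommRing A] [Algebra R A] {𝒜 : ℕ → Submodule R A}
  [GradedAlgebra 𝒜] [CommRing R'] [CommRing B] [Algebra R' B] {ℬ : ℕ → Submodule R' B}
  [GradedAlgebra ℬ] (f : 𝒜 →+*ᵍ ℬ)
  (hf : HomogeneousIdeal.irrelevant ℬ ≤ (HomogeneousIdeal.irrelevant 𝒜).map f)

/-- naturality of dehomogenization -/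
theorem appLE_dehom {s : A} (hs : s ∈ 𝒜 1) {t : B} (ht : t ∈ ℬ 1) (hst : f s = t) {k : ℕ} {a : A}
    (ha : a ∈ 𝒜 k) :
    ((Proj.map f hf).appLE (Proj.basicOpen 𝒜 s) (Proj.basicOpen ℬ t)
      (by subst hst; exact le_rfl)).hom (dehom hs a) = dehom ht (f a) := by
  subst hst
  have ha' : a ∈ 𝒜 (k • 1) := by simpa using ha
  have hfa' : f a ∈ ℬ (k • 1) := Graded.map_mem f ha'
  rw [dehom_eq_awayToSection hs ha', dehom_eq_awayToSection ht hfa']
  have h1 := Proj.awayToSection_comp_appLE f hf hs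
  have h2 := CategoryTheory.congr_fun h1 (Away.mk 𝒜 hs k a ha')
  rw [ConcreteCategory.comp_apply, ConcreteCategory.comp_apply] at h2
  refine h2.trans ?_
  exact congrArg _ (Away.map_mk f s hs k a ha')

/-- clearing denominators along an open immersion whose image is a basic open -/
theorem exists_pow_mul_mem_of_isOpenImmersion {X Y : Scheme.{u}} (g : X ⟶ Y) [IsOpenImmersion g]
    (I : Y.IdealSheafData) (WY : Y.affineOpens) (WX : X.affineOpens) (hle : WX.1 ≤ g ⁻¹ᵁ WY.1)
    (r' : Γ(Y, WY.1)) (him : g ''ᵁ WX.1 = Y.basicOpen r') (x : Γ(Y, WY.1))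
    (hx : (g.appLE WY.1 WX.1 hle).hom x ∈ (I.comap g).ideal WX) :
    ∃ e : ℕ, r' ^ e * x ∈ I.ideal WY := by
  have h2 := Scheme.IdealSheafData.ideal_comap_of_isOpenImmersion I g WX
  have h1 := Ideal.mem_comap.mp (h2.le hx)
  have h3 := Scheme.Hom.appLE_appIso_inv g hle
  have h4 := CategoryTheory.congr_fun h3 x
  rw [ConcreteCategory.comp_apply] at h4
  have hle' : g ''ᵁ WX.1 ≤ WY.1 :=
    (g.image_mono hle).trans (g.image_preimage_eq_opensRange_inf _ ▸ inf_le_right)
  refine exists_pow_mul_mem I WY r' ⟨g ''ᵁ WX.1, WX.2.image_of_isOpenImmersion g⟩ him hle' x ?_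
  have h5 : (Y.presheaf.map (homOfLE hle').op).hom x =
      (g.appIso WX.1).inv.hom ((g.appLE WY.1 WX.1 hle).hom x) := h4.symm
  exact Eq.mpr (congrArg (fun t => t ∈ I.ideal ⟨g ''ᵁ WX.1, WX.2.image_of_isOpenImmersion g⟩) h5) h1

end general

section poly

variable (n : ℕ)

/-- the index type of the variables, in universe `u` -/
abbrev Idx : Type u := ULift.{u} (Fin (n + 1))

variable (A : Type u) [CommRing A] {B : Type u} [CommRing B]

/-- the variables -/
noncomputable def var (j : Idx.{u} n) : MvPolynomial (Fin (n + 1)) A := X j.down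

theorem var_mem (j : Idx.{u} n) : var n A j ∈ CohB1.polyGrading n A 1 :=
  (mem_homogeneousSubmodule _ _).mpr (isHomogeneous_X _ _)

variable {A} in
theorem polyRes_var (φ : A →+* B) (j : Idx.{u} n) : polyRes n φ (var n A j) = var n B j := by
  simp [var]

theorem iSup_basicOpen_var :
    ⨆ j : Idx.{u} n, Proj.basicOpen (CohB1.polyGrading n A) (var n A j) = ⊤ := by
  apply Proj.iSup_basicOpen_eq_top
  rw [HomogeneousIdeal.toIdeal_irrelevant_le]
  intro i hi x hx
  have hx' : x.IsHomogeneous i := (mem_homogeneousSubmodule _ _).mp hx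
  have hr : Set.range (var n A) = X '' (Set.univ : Set (Fin (n + 1))) := by
    ext p
    constructor
    · rintro ⟨j, rfl⟩
      exact ⟨j.down, trivial, rfl⟩
    · rintro ⟨j, -, rfl⟩
      exact ⟨⟨j⟩, rfl⟩
  change x ∈ Ideal.span _
  rw [hr, mem_ideal_span_X_image]
  intro m hm
  by_contra! h
  have hm0 : m = 0 := Finsupp.ext fun j => h j trivial
  have := hx' (mem_support_iff.mp hm)
  subst hm0
  simp at this
  omega

end poly

section scheme

variable (n : ℕ) {S : Scheme.{u}} (𝓘 : (CohB1.ProjSpaceOver n S).IdealSheafData) {U V : S.Opens}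

/-- restriction maps of the structure sheaf, as ring homs -/
abbrev resR (h : V ≤ U) : Γ(S, U) →+* Γ(S, V) := (S.presheaf.map (homOfLE h).op).hom

/-- the ideal sheaf on the chart `P^n_{Γ(S, U)}` -/
noncomputable def IU (hU : IsAffineOpen U) :
    (Proj (CohB1.polyGrading n Γ(S, U))).IdealSheafData :=
  𝓘.comap (embU n hU)

theorem IU_comap (hU : IsAffineOpen U) (hV : IsAffineOpen V) (h : V ≤ U) :
    IU n 𝓘 hV = (IU n 𝓘 hU).comap (projRes n (resR h)) := by
  unfold IU
  rw [← Scheme.IdealSheafData.comap_comp, projRes_embU n hU hV h]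

/-- the homogeneous ideal of `Γ(S, U)[T]` attached to the ideal sheaf -/
noncomputable def JU (hU : IsAffineOpen U) : HomogeneousIdeal (CohB1.polyGrading n Γ(S, U)) :=
  J (var_mem n Γ(S, U)) (IU n 𝓘 hU)

theorem mem_JU_iff (hU : IsAffineOpen U) {k : ℕ} {a : MvPolynomial (Fin (n + 1)) Γ(S, U)}
    (ha : a ∈ CohB1.polyGrading n Γ(S, U) k) :
    a ∈ (JU n 𝓘 hU).toIdeal ↔ ∀ j, dehom (var_mem n Γ(S, U) j) a ∈
      (IU n 𝓘 hU).ideal (Uaff (var_mem n Γ(S, U)) j) :=
  mem_J_iff _ _ ha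

theorem le_preimage (h : V ≤ U) (j : Idx.{u} n) :
    Proj.basicOpen (CohB1.polyGrading n Γ(S, V)) (var n Γ(S, V) j) ≤
      projRes n (resR h) ⁻¹ᵁ Proj.basicOpen (CohB1.polyGrading n Γ(S, U)) (var n Γ(S, U) j) := by
  have := polyRes_var n (resR h) j
  unfold projRes
  rw [Proj.map_preimage_basicOpen, this]

theorem appLE_dehom_var (h : V ≤ U) (j : Idx.{u} n) {k : ℕ}
    {a : MvPolynomial (Fin (n + 1)) Γ(S, U)} (ha : a ∈ CohB1.polyGrading n Γ(S, U) k) :
    ((projRes n (resR h)).appLE _ _ (le_preimage n h j)).hom (dehom (var_mem n Γ(S, U) j) a) =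
      dehom (var_mem n Γ(S, V) j) (polyRes n (resR h) a) :=
  appLE_dehom (polyRes n (resR h)) (irrelevant_le_polyRes n (resR h)) (var_mem n Γ(S, U) j)
    (var_mem n Γ(S, V) j) (polyRes_var n (resR h) j) ha

/-- the ideals `J_U` are compatible with restriction -/
theorem polyRes_mem_JU_of_mem (hU : IsAffineOpen U) (hV : IsAffineOpen V) (h : V ≤ U) {k : ℕ}
    {a : MvPolynomial (Fin (n + 1)) Γ(S, U)} (hak : a ∈ CohB1.polyGrading n Γ(S, U) k)
    (ha : a ∈ (JU n 𝓘 hU).toIdeal) : polyRes n (resR h) a ∈ (JU n 𝓘 hV).toIdeal := by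
  rw [mem_JU_iff n 𝓘 hV (Graded.map_mem (polyRes n (resR h)) hak)]
  intro j
  rw [← appLE_dehom_var n h j hak]
  have h1 := (mem_JU_iff n 𝓘 hU hak).mp ha j
  have h2 := Groth.Agent.Lib.Helper20.EffCartier.ideal_comap_eq_map (projRes n (resR h))
    (IU n 𝓘 hU) (Uaff (var_mem n Γ(S, V)) j).2 (Uaff (var_mem n Γ(S, U)) j).2 (le_preimage n h j)
  rw [← IU_comap n 𝓘 hU hV h] at h2
  change _ ∈ (IU n 𝓘 hV).ideal ⟨_, (Uaff (var_mem n Γ(S, V)) j).2⟩
  rw [h2]
  exact Ideal.mem_map_of_mem _ h1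

theorem polyRes_mem_JU (hU : IsAffineOpen U) (hV : IsAffineOpen V) (h : V ≤ U)
    {a : MvPolynomial (Fin (n + 1)) Γ(S, U)}
    (ha : a ∈ (JU n 𝓘 hU).toIdeal) : polyRes n (resR h) a ∈ (JU n 𝓘 hV).toIdeal := by
  classical
  rw [← DirectSum.sum_support_decompose (CohB1.polyGrading n Γ(S, U)) a, map_sum]
  refine Ideal.sum_mem _ fun k _ => ?_
  exact polyRes_mem_JU_of_mem n 𝓘 hU hV h (SetLike.coe_mem _) ((JU n 𝓘 hU).isHomogeneous k ha)

section localization

theorem isOpenImmersion_projRes_basicOpen (hU : IsAffineOpen U) (r : Γ(S, U)) :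
    IsOpenImmersion (projRes n (resR (S.basicOpen_le r))) := by
  have e := projRes_embU n hU (hU.basicOpen r) (S.basicOpen_le r)
  have : IsOpenImmersion (projRes n (resR (S.basicOpen_le r)) ≫ embU n hU) := by
    rw [e]; infer_instance
  exact IsOpenImmersion.of_comp _ (embU n hU)

theorem range_specMap_resR (hU : IsAffineOpen U) (r : Γ(S, U)) :
    Set.range (Spec.map (CommRingCat.ofHom (resR (S.basicOpen_le r)))) =
      (PrimeSpectrum.basicOpen r : Set (PrimeSpectrum Γ(S, U))) := by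
  have := hU.isLocalization_basicOpen r
  exact PrimeSpectrum.localization_away_comap_range Γ(S, S.basicOpen r) r

theorem range_projRes_basicOpen (hU : IsAffineOpen U) (r : Γ(S, U)) :
    Set.range (projRes n (resR (S.basicOpen_le r))) =
      (Proj.basicOpen (CohB1.polyGrading n Γ(S, U)) (C r) : Set _) := by
  have h := isPullback_projRes n (resR (S.basicOpen_le r))
  have e : projRes n (resR (S.basicOpen_le r)) = h.isoPullback.hom ≫ pullback.fst _ _ :=
    (h.isoPullback_hom_fst).symm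
  rw [e, Scheme.Hom.comp_base, TopCat.coe_comp, Set.range_comp,
    Set.range_eq_univ.mpr h.isoPullback.hom.surjective, Set.image_univ,
    Scheme.Pullback.range_fst, range_specMap_resR hU r]
  ext y
  have h1 := Groth.Agent.Helper13RL.toSpecZero_mem_basicOpen (CohB1.polyGrading n Γ(S, U)) y
    (algebraMap Γ(S, U) (CohB1.polyGrading n Γ(S, U) 0) r)
  rw [SetLike.GradeZero.coe_algebraMap] at h1
  refine Iff.trans ?_ h1
  exact Iff.rfl

theorem mem_ideal_of_eq {X : Scheme.{u}} {I I' : X.IdealSheafData} (h : I = I')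
    (W : X.affineOpens) (x : Γ(X, W.1)) (hx : x ∈ I.ideal W) : x ∈ I'.ideal W := by
  subst h; exact hx

theorem basicOpen_dehom_C (A : Type u) [CommRing A] (j : Idx.{u} n) (r : A) :
    (Proj (CohB1.polyGrading n A)).basicOpen (dehom (var_mem n A j) (C r)) =
      Proj.basicOpen (CohB1.polyGrading n A) (C r) ⊓
        Proj.basicOpen (CohB1.polyGrading n A) (var n A j) := by
  have hC : (C r : MvPolynomial (Fin (n + 1)) A) ∈ CohB1.polyGrading n A (0 • 1) := by
    simpa using (mem_homogeneousSubmodule _ _).mpr (isHomogeneous_C _ r)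
  ext y
  rw [dehom_eq_awayToSection (var_mem n A j) (j := 0) hC]
  refine (Groth.Agent.Lib.Helper27GrTildeSect.mem_basicOpen_awayToSection_iff
    (var_mem n A j) 0 (C r) hC y).trans ?_
  rw [← Proj.basicOpen_mul]
  rfl

theorem preimage_basicOpen_var (h : V ≤ U) (j : Idx.{u} n) :
    projRes n (resR h) ⁻¹ᵁ Proj.basicOpen (CohB1.polyGrading n Γ(S, U)) (var n Γ(S, U) j) =
      Proj.basicOpen (CohB1.polyGrading n Γ(S, V)) (var n Γ(S, V) j) := by
  have := polyRes_var n (resR h) j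
  unfold projRes
  rw [Proj.map_preimage_basicOpen, this]

theorem image_basicOpen_var (hU : IsAffineOpen U) (r : Γ(S, U)) (j : Idx.{u} n)
    [IsOpenImmersion (projRes n (resR (S.basicOpen_le r)))] :
    projRes n (resR (S.basicOpen_le r)) ''ᵁ
        Proj.basicOpen (CohB1.polyGrading n Γ(S, S.basicOpen r)) (var n Γ(S, S.basicOpen r) j) =
      (Proj (CohB1.polyGrading n Γ(S, U))).basicOpen (dehom (var_mem n Γ(S, U) j) (C r)) := by
  rw [← preimage_basicOpen_var n (S.basicOpen_le r) j,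
    Scheme.Hom.image_preimage_eq_opensRange_inf, basicOpen_dehom_C]
  congr 1
  ext1
  exact range_projRes_basicOpen n hU r

set_option maxHeartbeats 1600000 in
/-- clearing denominators in `J` -/
theorem exists_pow_mul_mem_JU (hU : IsAffineOpen U) (r : Γ(S, U)) {k : ℕ}
    {a : MvPolynomial (Fin (n + 1)) Γ(S, U)} (hak : a ∈ CohB1.polyGrading n Γ(S, U) k)
    (ha : polyRes n (resR (S.basicOpen_le r)) a ∈ (JU n 𝓘 (hU.basicOpen r)).toIdeal) :
    ∃ e : ℕ, C r ^ e * a ∈ (JU n 𝓘 hU).toIdeal := by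
  haveI := isOpenImmersion_projRes_basicOpen n hU r
  have hC : (C r : MvPolynomial (Fin (n + 1)) Γ(S, U)) ∈ CohB1.polyGrading n Γ(S, U) 0 :=
    (mem_homogeneousSubmodule _ _).mpr (isHomogeneous_C _ r)
  have hCe : ∀ e : ℕ, (C r : MvPolynomial (Fin (n + 1)) Γ(S, U)) ^ e * a ∈
      CohB1.polyGrading n Γ(S, U) k := by
    intro e
    have := SetLike.mul_mem_graded (SetLike.pow_mem_graded e hC) hak
    simpa using this
  have key : ∀ j : Idx.{u} n, ∃ e : ℕ,
      dehom (var_mem n Γ(S, U) j) (C r ^ e * a) ∈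
        (IU n 𝓘 hU).ideal (Uaff (var_mem n Γ(S, U)) j) := by
    intro j
    have h1 := (mem_JU_iff n 𝓘 (hU.basicOpen r)
      (Graded.map_mem (polyRes n (resR (S.basicOpen_le r))) hak)).mp ha j
    have h1' : ((projRes n (resR (S.basicOpen_le r))).appLE _ _
        (le_preimage n (S.basicOpen_le r) j)).hom (dehom (var_mem n Γ(S, U) j) a) ∈
        ((IU n 𝓘 hU).comap (projRes n (resR (S.basicOpen_le r)))).ideal
          (Uaff (var_mem n Γ(S, S.basicOpen r)) j) := by
      rw [appLE_dehom_var n (S.basicOpen_le r) j hak]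
      exact mem_ideal_of_eq (IU_comap n 𝓘 hU (hU.basicOpen r) (S.basicOpen_le r)) _ _ h1
    obtain ⟨e, he⟩ := exists_pow_mul_mem_of_isOpenImmersion (projRes n (resR (S.basicOpen_le r)))
      (IU n 𝓘 hU) (Uaff (var_mem n Γ(S, U)) j) (Uaff (var_mem n Γ(S, S.basicOpen r)) j)
      (le_preimage n (S.basicOpen_le r) j) (dehom (var_mem n Γ(S, U) j) (C r))
      (image_basicOpen_var n hU r j) (dehom (var_mem n Γ(S, U) j) a) h1'
    refine ⟨e, ?_⟩
    rw [map_mul, map_pow]
    exact he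
  obtain ⟨E, hE⟩ := exists_uniform' (p := fun j e =>
      dehom (var_mem n Γ(S, U) j) (C r ^ e * a) ∈ (IU n 𝓘 hU).ideal (Uaff (var_mem n Γ(S, U)) j))
    (by
      intro j e e' hee' he
      obtain ⟨d, rfl⟩ := Nat.exists_eq_add_of_le hee'
      have : (C r : MvPolynomial (Fin (n + 1)) Γ(S, U)) ^ (e + d) * a =
          C r ^ d * (C r ^ e * a) := by ring
      rw [this, map_mul]
      exact Ideal.mul_mem_left _ _ he) key
  exact ⟨E, (mem_JU_iff n 𝓘 hU (hCe E)).mpr hE⟩

attribute [local instance] MvPolynomial.algebraMvPolynomial in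
set_option maxHeartbeats 800000 in
/-- `J` of a basic open is generated by `J` of the ambient affine open -/
theorem JU_basicOpen_le_map (hU : IsAffineOpen U) (r : Γ(S, U)) :
    (JU n 𝓘 (hU.basicOpen r)).toIdeal ≤
      Ideal.map (polyRes n (resR (S.basicOpen_le r))) (JU n 𝓘 hU).toIdeal := by
  classical
  intro b hb
  rw [← DirectSum.sum_support_decompose (CohB1.polyGrading n Γ(S, S.basicOpen r)) b]
  refine Ideal.sum_mem _ fun k _ => ?_
  have hbk := (JU n 𝓘 (hU.basicOpen r)).isHomogeneous k hb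
  set bk : MvPolynomial (Fin (n + 1)) Γ(S, S.basicOpen r) :=
    (DirectSum.decompose (CohB1.polyGrading n Γ(S, S.basicOpen r)) b k).1 with hbk_def
  have hbk_mem : bk ∈ CohB1.polyGrading n Γ(S, S.basicOpen r) k := SetLike.coe_mem _
  haveI : IsLocalization.Away r Γ(S, S.basicOpen r) := hU.isLocalization_basicOpen r
  obtain ⟨⟨a, s, hs⟩, has⟩ := IsLocalization.surj
    ((Submonoid.powers r).map (C : Γ(S, U) →+* MvPolynomial (Fin (n + 1)) Γ(S, U))) bk
  obtain ⟨_, ⟨m, rfl⟩, rfl⟩ := hs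
  set ψ := polyRes n (resR (S.basicOpen_le r)) with hψ
  have has' : bk * ψ (C (r ^ m)) = ψ a := has
  have hC0 : ψ (C (r ^ m)) ∈ CohB1.polyGrading n Γ(S, S.basicOpen r) 0 :=
    Graded.map_mem ψ ((mem_homogeneousSubmodule _ _).mpr (isHomogeneous_C _ _))
  have hprod : bk * ψ (C (r ^ m)) ∈ CohB1.polyGrading n Γ(S, S.basicOpen r) k := by
    simpa only [add_zero] using SetLike.mul_mem_graded hbk_mem hC0
  have hak : ψ (DirectSum.decompose (CohB1.polyGrading n Γ(S, U)) a k).1 = bk * ψ (C (r ^ m)) := by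
    rw [GradedRingHom.map_directSumDecompose, ← has', DirectSum.decompose_of_mem_same _ hprod]
  obtain ⟨e, he⟩ := exists_pow_mul_mem_JU n 𝓘 hU r (SetLike.coe_mem _)
    (a := (DirectSum.decompose (CohB1.polyGrading n Γ(S, U)) a k).1)
    (by rw [← hψ, hak]; exact Ideal.mul_mem_right _ _ hbk)
  have hunit : IsUnit (ψ (C r)) := by
    have h1 : IsUnit (algebraMap Γ(S, U) Γ(S, S.basicOpen r) r) :=
      IsLocalization.Away.algebraMap_isUnit r
    have h2 : ψ (C r) = C (algebraMap Γ(S, U) Γ(S, S.basicOpen r) r) := by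
      rw [hψ, polyRes_apply, MvPolynomial.map_C]
      rfl
    rw [h2]
    exact h1.map C
  obtain ⟨u, hu⟩ := hunit.pow (e + m)
  have hfin : bk = ψ (C r ^ e * (DirectSum.decompose (CohB1.polyGrading n Γ(S, U)) a k).1) *
      ↑u⁻¹ := by
    rw [map_mul, hak, map_pow, map_pow, map_pow]
    have h3 : ψ (C r) ^ e * (bk * ψ (C r) ^ m) = bk * ↑u := by rw [hu]; ring
    rw [h3, Units.mul_inv_cancel_right]
  rw [hfin]
  exact Ideal.mul_mem_right _ _ (Ideal.mem_map_of_mem _ he)

end localization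

end scheme

end Groth.Agent.R2.H92.RelProjIdeal
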