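import Mathlib
import Groth.Prelude.Def_RelProj
import Groth.Agent.R2.H21GrAlg
import Groth.Agent.R2.H92RelProjIdeal

/-!
# The quasi-coherent graded algebra `O_S[T] / 𝒥` of an ideal sheaf on `P^n_S` (helper92, PROJ:relproj R1)
-/

set_option autoImplicit false
set_option linter.style.haveILetI false
set_option linter.unusedSectionVars false

namespace Groth.Agent.R2.H92.RelProjAlg

open CategoryTheory CategoryTheory.Limits AlgebraicGeometry MvPolynomial TopologicalSpace Opposite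
open Groth.Agent.R2.H92.RelProjPn Groth.Agent.R2.H92.RelProjIdeal
open Groth.Agent.R2.H21.QCSh Groth.Agent.R2.H21.GrAlg Groth.Agent.Helper13GradedQuot
open scoped HomogeneousIdeal

universe u

noncomputable section

variable (n : ℕ) {S : Scheme.{u}} (𝓘 : (CohB1.ProjSpaceOver n S).IdealSheafData)

section ring

variable {A : Type u} [CommRing A]

theorem polyRes_id_apply (φ : A →+* A) (hφ : φ = RingHom.id A)
    (a : MvPolynomial (Fin (n + 1)) A) : polyRes n φ a = a := by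
  subst hφ
  exact MvPolynomial.map_id a

end ring

/-- the ideal `J'_V ⊆ Γ(S, V)[T]` for an arbitrary open `V` -/
def J' (V : S.Opens) : Ideal (MvPolynomial (Fin (n + 1)) Γ(S, V)) :=
  ⨅ (W : S.Opens) (hW : IsAffineOpen W) (h : W ≤ V),
    Ideal.comap (polyRes n (resR h)).toRingHom (JU n 𝓘 hW).toIdeal

theorem mem_J'_iff {V : S.Opens} {a : MvPolynomial (Fin (n + 1)) Γ(S, V)} :
    a ∈ J' n 𝓘 V ↔ ∀ (W : S.Opens) (hW : IsAffineOpen W) (h : W ≤ V),
      polyRes n (resR h) a ∈ (JU n 𝓘 hW).toIdeal := by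
  simp only [J', Ideal.mem_iInf, Ideal.mem_comap]
  rfl

theorem resR_refl_eq {V : S.Opens} (h : V ≤ V) : resR h = RingHom.id Γ(S, V) := by
  have : S.presheaf.map (homOfLE h).op = 𝟙 _ := by
    rw [Subsingleton.elim (homOfLE h) (𝟙 V)]
    exact S.presheaf.map_id _
  unfold resR
  rw [this]
  rfl

theorem resR_comp {U V W : S.Opens} (h : V ≤ U) (h' : W ≤ V) :
    (resR h').comp (resR h) = resR (h'.trans h) := by
  unfold resR
  rw [← CommRingCat.hom_comp, ← S.presheaf.map_comp]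
  rfl

theorem J'_eq {V : S.Opens} (hV : IsAffineOpen V) : J' n 𝓘 V = (JU n 𝓘 hV).toIdeal := by
  apply le_antisymm
  · intro a ha
    have := (mem_J'_iff n 𝓘).mp ha V hV le_rfl
    rwa [polyRes_id_apply n _ (resR_refl_eq le_rfl)] at this
  · intro a ha
    exact (mem_J'_iff n 𝓘).mpr fun W hW h => polyRes_mem_JU n 𝓘 hV hW h ha

theorem polyRes_mem_J' {U V : S.Opens} (h : V ≤ U) {a : MvPolynomial (Fin (n + 1)) Γ(S, U)}
    (ha : a ∈ J' n 𝓘 U) : polyRes n (resR h) a ∈ J' n 𝓘 V := by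
  rw [mem_J'_iff] at ha ⊢
  intro W hW h'
  have := ha W hW (h'.trans h)
  rw [← resR_comp h h', ← polyRes_comp] at this
  exact this

/-- the presheaf `V ↦ Γ(S, V)[T] / J'_V` -/
def quotPre : TopCat.Presheaf CommRingCat.{u} S.carrier where
  obj V := CommRingCat.of (MvPolynomial (Fin (n + 1)) Γ(S, V.unop) ⧸ J' n 𝓘 V.unop)
  map {U V} i := CommRingCat.ofHom (Ideal.quotientMap (J' n 𝓘 V.unop)
    (polyRes n (resR i.unop.le)).toRingHom (fun _ ha => polyRes_mem_J' n 𝓘 i.unop.le ha))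
  map_id U := by
    apply CommRingCat.hom_ext
    apply Ideal.Quotient.ringHom_ext
    apply RingHom.ext
    intro x
    change Ideal.Quotient.mk _ (polyRes n (resR _) x) = Ideal.Quotient.mk _ x
    rw [polyRes_id_apply n _ (resR_refl_eq _)]
  map_comp {U V W} i j := by
    apply CommRingCat.hom_ext
    apply Ideal.Quotient.ringHom_ext
    apply RingHom.ext
    intro x
    change Ideal.Quotient.mk _ (polyRes n (resR _) x) =
      Ideal.Quotient.mk _ (polyRes n (resR _) (polyRes n (resR _) x))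
    congr 1
    have := polyRes_comp n (resR i.unop.le) (resR j.unop.le)
    rw [resR_comp] at this
    exact (DFunLike.congr_fun this x).symm

theorem quotPre_map_mk {U V : (Opens S.carrier)ᵒᵖ} (i : U ⟶ V)
    (x : MvPolynomial (Fin (n + 1)) Γ(S, U.unop)) :
    ((quotPre n 𝓘).map i).hom (Ideal.Quotient.mk _ x) =
      Ideal.Quotient.mk _ (polyRes n (resR i.unop.le) x) := rfl

/-- the structure map -/
def quotStr : S.presheaf ⟶ quotPre n 𝓘 where
  app V := CommRingCat.ofHom ((Ideal.Quotient.mk (J' n 𝓘 V.unop)).comp C)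
  naturality U V i := by
    apply CommRingCat.hom_ext
    apply RingHom.ext
    intro x
    change Ideal.Quotient.mk _ (C ((S.presheaf.map i).hom x)) =
      Ideal.Quotient.mk _ (polyRes n (resR i.unop.le) (C x))
    rw [polyRes_apply, MvPolynomial.map_C]
    rfl

theorem quotStr_app_apply (V : (Opens S.carrier)ᵒᵖ) (r : S.presheaf.obj V) :
    ((quotStr n 𝓘).app V).hom r = Ideal.Quotient.mk _ (C r) := rfl

attribute [local instance] MvPolynomial.algebraMvPolynomial in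
theorem isQC_quot : RelSpec.IsQC (quotPre n 𝓘) (quotStr n 𝓘) := by
  intro U hU r
  haveI : IsLocalization.Away r Γ(S, S.basicOpen r) := hU.isLocalization_basicOpen r
  letI alg2 : Algebra (MvPolynomial (Fin (n + 1)) Γ(S, U) ⧸ J' n 𝓘 U)
      (MvPolynomial (Fin (n + 1)) Γ(S, S.basicOpen r) ⧸ J' n 𝓘 (S.basicOpen r)) :=
    ((quotPre n 𝓘).map (homOfLE (S.basicOpen_le r)).op).hom.toAlgebra
  have key := IsLocalization.of_surjective
    (M := (Submonoid.powers r).map (C : Γ(S, U) →+* MvPolynomial (Fin (n + 1)) Γ(S, U)))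
    (S := MvPolynomial (Fin (n + 1)) Γ(S, S.basicOpen r))
    (R' := MvPolynomial (Fin (n + 1)) Γ(S, U) ⧸ J' n 𝓘 U)
    (S' := MvPolynomial (Fin (n + 1)) Γ(S, S.basicOpen r) ⧸ J' n 𝓘 (S.basicOpen r))
    (Ideal.Quotient.mk (J' n 𝓘 U)) Ideal.Quotient.mk_surjective
    (Ideal.Quotient.mk (J' n 𝓘 (S.basicOpen r))) Ideal.Quotient.mk_surjective
    (by
      apply RingHom.ext
      intro x
      rfl)
    (by
      rw [Ideal.mk_ker, Ideal.mk_ker, J'_eq n 𝓘 (hU.basicOpen r), J'_eq n 𝓘 hU]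
      exact JU_basicOpen_le_map n 𝓘 hU r)
  rw [Submonoid.map_powers, Submonoid.map_powers] at key
  exact key


/-! ### the gradings -/

theorem J'_isHomogeneous {V : S.Opens} (hV : IsAffineOpen V) :
    (J' n 𝓘 V).IsHomogeneous (CohB1.polyGrading n Γ(S, V)) := by
  rw [J'_eq n 𝓘 hV]
  exact (JU n 𝓘 hV).isHomogeneous

/-- the quotient grading -/
def quotDeg (U : S.Opens) (_ : IsAffineOpen U) (d : ℕ) :
    AddSubgroup ((quotPre n 𝓘).obj (op U)) :=
  (qgr (CohB1.polyGrading n Γ(S, U)) (J' n 𝓘 U) d).toAddSubgroup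

theorem mem_quotDeg (U : S.Opens) (hU : IsAffineOpen U) (d : ℕ)
    (x : (quotPre n 𝓘).obj (op U)) :
    x ∈ quotDeg n 𝓘 U hU d ↔
      ∃ a ∈ CohB1.polyGrading n Γ(S, U) d, Ideal.Quotient.mk (J' n 𝓘 U) a = x := Iff.rfl

/-- the graded ring structure on the quotient -/
@[instance_reducible]
def quotGraded (U : S.Opens) (hU : IsAffineOpen U) : GradedRing (quotDeg n 𝓘 U hU) :=
  letI := gradedAlgebraQuot (CohB1.polyGrading n Γ(S, U)) (J' n 𝓘 U) (J'_isHomogeneous n 𝓘 hU)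
  gradedRingOfEquiv (RingEquiv.refl (MvPolynomial (Fin (n + 1)) Γ(S, U) ⧸ J' n 𝓘 U))
    (qgr (CohB1.polyGrading n Γ(S, U)) (J' n 𝓘 U)) (quotDeg n 𝓘 U hU) (fun _ _ => Iff.rfl)

/-- the quasi-coherent graded algebra `O_S[T] / 𝒥` -/
def quotGr : RelProj.QCGrAlg S :=
  shGrAlg (quotPre n 𝓘) (quotStr n 𝓘) (isQC_quot n 𝓘) (quotDeg n 𝓘) (quotGraded n 𝓘)
    (fun {U V} hU hV i {d} {x} hx => by
      obtain ⟨a, ha, rfl⟩ := hx
      exact ⟨polyRes n (resR i) a, (polyRes n (resR i)).map_mem ha, rfl⟩)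
    (fun U hU r => ⟨C r, (mem_homogeneousSubmodule _ _).mpr (isHomogeneous_C _ r), rfl⟩)

/-- the quotient map, with target written as sections of the presheaf -/
def qMk (U : S.Opens) :
    MvPolynomial (Fin (n + 1)) Γ(S, U) →+* (quotPre n 𝓘).obj (op U) :=
  Ideal.Quotient.mk (J' n 𝓘 U)

theorem qMk_surjective (U : S.Opens) : Function.Surjective (qMk n 𝓘 U) :=
  Ideal.Quotient.mk_surjective

theorem qMk_eq_zero_iff (U : S.Opens) (a : MvPolynomial (Fin (n + 1)) Γ(S, U)) :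
    qMk n 𝓘 U a = 0 ↔ a ∈ J' n 𝓘 U :=
  Ideal.Quotient.eq_zero_iff_mem

theorem qMk_mem_quotDeg (U : S.Opens) (hU : IsAffineOpen U) {d : ℕ}
    {a : MvPolynomial (Fin (n + 1)) Γ(S, U)} (ha : a ∈ CohB1.polyGrading n Γ(S, U) d) :
    qMk n 𝓘 U a ∈ quotDeg n 𝓘 U hU d := ⟨a, ha, rfl⟩

theorem exists_of_mem_quotDeg (U : S.Opens) (hU : IsAffineOpen U) {d : ℕ}
    {x : (quotPre n 𝓘).obj (op U)} (hx : x ∈ quotDeg n 𝓘 U hU d) :
    ∃ a ∈ CohB1.polyGrading n Γ(S, U) d, qMk n 𝓘 U a = x := hx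

theorem quotPre_map_qMk {U V : S.Opens} (i : V ≤ U) (a : MvPolynomial (Fin (n + 1)) Γ(S, U)) :
    ((quotPre n 𝓘).map (homOfLE i).op).hom (qMk n 𝓘 U a) = qMk n 𝓘 V (polyRes n (resR i) a) :=
  rfl

theorem quotStr_eq_qMk (U : S.Opens) (r : Γ(S, U)) :
    ((quotStr n 𝓘).app (op U)).hom r = qMk n 𝓘 U (C r) := rfl

/-- the canonical map from the polynomial ring over an open -/
def qRing (U : S.Opens) :
    MvPolynomial (Fin (n + 1)) Γ(S, U) →+* (quotGr n 𝓘).presheaf.obj (op U) :=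
  ((toSh (quotPre n 𝓘) (quotStr n 𝓘) (isQC_quot n 𝓘)).app (op U)).hom.comp (qMk n 𝓘 U)

theorem qRing_apply (U : S.Opens) (a : MvPolynomial (Fin (n + 1)) Γ(S, U)) :
    qRing n 𝓘 U a = ((toSh (quotPre n 𝓘) (quotStr n 𝓘) (isQC_quot n 𝓘)).app (op U)).hom
      (qMk n 𝓘 U a) := rfl

theorem γ_qRing (U : S.Opens) (hU : IsAffineOpen U) (a : MvPolynomial (Fin (n + 1)) Γ(S, U)) :
    (γ (quotPre n 𝓘) (quotStr n 𝓘) (isQC_quot n 𝓘) U hU).hom (qRing n 𝓘 U a) =
      qMk n 𝓘 U a :=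
  toSh_γ_apply (quotPre n 𝓘) (quotStr n 𝓘) (isQC_quot n 𝓘) U hU _

theorem qRing_surjective (U : S.Opens) (hU : IsAffineOpen U) :
    Function.Surjective (qRing n 𝓘 U) :=
  (toSh_bijective (quotPre n 𝓘) (quotStr n 𝓘) (isQC_quot n 𝓘) U hU).2.comp
    (qMk_surjective n 𝓘 U)

theorem qRing_eq_zero_iff (U : S.Opens) (hU : IsAffineOpen U)
    (a : MvPolynomial (Fin (n + 1)) Γ(S, U)) :
    qRing n 𝓘 U a = 0 ↔ a ∈ (JU n 𝓘 hU).toIdeal := by
  rw [← J'_eq n 𝓘 hU, ← qMk_eq_zero_iff]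
  constructor
  · intro h
    exact (toSh_bijective (quotPre n 𝓘) (quotStr n 𝓘) (isQC_quot n 𝓘) U hU).1
      (h.trans (map_zero _).symm)
  · intro h
    rw [qRing_apply, h]
    exact map_zero _

theorem qRing_mem_deg (U : S.Opens) (hU : IsAffineOpen U) {d : ℕ}
    {a : MvPolynomial (Fin (n + 1)) Γ(S, U)} (ha : a ∈ CohB1.polyGrading n Γ(S, U) d) :
    qRing n 𝓘 U a ∈ (quotGr n 𝓘).deg U hU d := by
  change (γ (quotPre n 𝓘) (quotStr n 𝓘) (isQC_quot n 𝓘) U hU).hom (qRing n 𝓘 U a) ∈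
    quotDeg n 𝓘 U hU d
  rw [γ_qRing]
  exact qMk_mem_quotDeg n 𝓘 U hU ha

theorem exists_of_mem_deg (U : S.Opens) (hU : IsAffineOpen U) {d : ℕ}
    {x : (quotGr n 𝓘).presheaf.obj (op U)} (hx : x ∈ (quotGr n 𝓘).deg U hU d) :
    ∃ a ∈ CohB1.polyGrading n Γ(S, U) d, qRing n 𝓘 U a = x := by
  obtain ⟨a, ha, h⟩ := exists_of_mem_quotDeg n 𝓘 U hU
    (x := (γ (quotPre n 𝓘) (quotStr n 𝓘) (isQC_quot n 𝓘) U hU).hom x) hx
  refine ⟨a, ha, ?_⟩
  rw [qRing_apply, h]
  exact γ_toSh_apply (quotPre n 𝓘) (quotStr n 𝓘) (isQC_quot n 𝓘) U hU x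

/-- the canonical graded ring hom `Γ(S, U)[T] → 𝒮(U)` -/
def qHom (U : S.Opens) (hU : IsAffineOpen U) :
    CohB1.polyGrading n Γ(S, U) →+*ᵍ (quotGr n 𝓘).deg U hU where
  toRingHom := qRing n 𝓘 U
  map_mem := fun ha => qRing_mem_deg n 𝓘 U hU ha

theorem qHom_apply (U : S.Opens) (hU : IsAffineOpen U) (a : MvPolynomial (Fin (n + 1)) Γ(S, U)) :
    qHom n 𝓘 U hU a = qRing n 𝓘 U a := rfl

theorem qRing_res {U V : S.Opens} (i : V ≤ U) (a : MvPolynomial (Fin (n + 1)) Γ(S, U)) :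
    ((quotGr n 𝓘).presheaf.map (homOfLE i).op).hom (qRing n 𝓘 U a) =
      qRing n 𝓘 V (polyRes n (resR i) a) := by
  have h1 := (toSh (quotPre n 𝓘) (quotStr n 𝓘) (isQC_quot n 𝓘)).naturality (homOfLE i).op
  exact (congrArg (fun t : (quotPre n 𝓘).obj (op U) ⟶ _ => t.hom (qMk n 𝓘 U a)) h1).symm

theorem qRing_C (U : S.Opens) (r : Γ(S, U)) :
    qRing n 𝓘 U (C r) = ((quotGr n 𝓘).str.app (op U)).hom r := by
  have := str_toSh (quotPre n 𝓘) (quotStr n 𝓘) (isQC_quot n 𝓘)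
  exact congrArg (fun t : S.presheaf ⟶ _ => (t.app (op U)).hom r) this

theorem qHom_surjective (U : S.Opens) (hU : IsAffineOpen U) :
    Function.Surjective (qHom n 𝓘 U hU) := qRing_surjective n 𝓘 U hU

theorem qHom_eq_zero_iff (U : S.Opens) (hU : IsAffineOpen U)
    (a : MvPolynomial (Fin (n + 1)) Γ(S, U)) :
    qHom n 𝓘 U hU a = 0 ↔ a ∈ (JU n 𝓘 hU).toIdeal := qRing_eq_zero_iff n 𝓘 U hU a

theorem res_comp_qHom {U V : S.Opens} (hU : IsAffineOpen U) (hV : IsAffineOpen V) (i : V ≤ U) :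
    ((quotGr n 𝓘).res hU hV i).comp (qHom n 𝓘 U hU) =
      (qHom n 𝓘 V hV).comp (polyRes n (resR i)) := by
  refine DFunLike.ext _ _ fun a => ?_
  exact qRing_res n 𝓘 i a

theorem qRing_mem_closure (U : S.Opens) (hU : IsAffineOpen U)
    (y : MvPolynomial (Fin (n + 1)) Γ(S, U)) :
    qRing n 𝓘 U y ∈
      Subring.closure ((((quotGr n 𝓘).deg U hU 0 : Set ((quotGr n 𝓘).presheaf.obj (op U)))) ∪
        ((quotGr n 𝓘).deg U hU 1 : Set _)) := by
  induction y using MvPolynomial.induction_on with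
  | C a =>
    exact Subring.subset_closure (Or.inl (qRing_mem_deg n 𝓘 U hU
      ((mem_homogeneousSubmodule _ _).mpr (isHomogeneous_C _ a))))
  | add p q hp hq =>
    rw [map_add]
    exact Subring.add_mem _ hp hq
  | mul_X p k hp =>
    rw [map_mul]
    exact Subring.mul_mem _ hp (Subring.subset_closure (Or.inr (qRing_mem_deg n 𝓘 U hU
      ((mem_homogeneousSubmodule _ _).mpr (isHomogeneous_X _ k)))))

theorem isGenDegOne_quotGr : (quotGr n 𝓘).IsGenDegOne := by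
  intro U hU
  rw [eq_top_iff]
  intro x _
  obtain ⟨y, rfl⟩ := qRing_surjective n 𝓘 U hU x
  exact qRing_mem_closure n 𝓘 U hU y

theorem isFTDeg_one_quotGr : (quotGr n 𝓘).IsFTDeg 1 := by
  classical
  intro U hU
  let algB : Algebra Γ(S, U) ((quotGr n 𝓘).presheaf.obj (op U)) :=
    ((quotGr n 𝓘).str.app (op U)).hom.toAlgebra
  let T' : Finset ((quotGr n 𝓘).presheaf.obj (op U)) :=
    (Finset.univ : Finset (Fin (n + 1))).image (fun k => qRing n 𝓘 U (X k))
  refine ⟨T', ?_, ?_⟩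
  · intro x hx
    obtain ⟨k, _, rfl⟩ := Finset.mem_image.1 (Finset.mem_coe.1 hx)
    exact qRing_mem_deg n 𝓘 U hU ((mem_homogeneousSubmodule _ _).mpr (isHomogeneous_X _ k))
  · intro x hx
    have key : x ∈ Submodule.span Γ(S, U) (T' : Set ((quotGr n 𝓘).presheaf.obj (op U))) := by
      obtain ⟨a, ha, rfl⟩ := exists_of_mem_deg n 𝓘 U hU hx
      have hy : a ∈ MvPolynomial.homogeneousSubmodule (Fin (n + 1)) Γ(S, U) 1 := ha
      rw [MvPolynomial.homogeneousSubmodule_one_eq_span_X,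
        Submodule.mem_span_range_iff_exists_fun] at hy
      obtain ⟨c, hc⟩ := hy
      rw [← hc, map_sum]
      refine Submodule.sum_mem _ fun k _ => ?_
      rw [MvPolynomial.smul_eq_C_mul, map_mul, qRing_C]
      have h1 : ((quotGr n 𝓘).str.app (op U)).hom (c k) * qRing n 𝓘 U (X k) =
          c k • qRing n 𝓘 U (X k) := by
        rw [Algebra.smul_def]
        rfl
      rw [h1]
      exact Submodule.smul_mem _ _ (Submodule.subset_span (Finset.mem_coe.2
        (Finset.mem_image.2 ⟨k, Finset.mem_univ k, rfl⟩)))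
    obtain ⟨c, -, hc⟩ := Submodule.mem_span_finset.1 key
    refine ⟨c, ?_⟩
    rw [← hc]
    refine Finset.sum_congr rfl fun t _ => ?_
    rw [Algebra.smul_def]
    rfl

theorem strZero_eq (U : S.Opens) (hU : IsAffineOpen U) :
    (quotGr n 𝓘).strZero U hU =
      CommRingCat.ofHom (algebraMap Γ(S, U) (CohB1.polyGrading n Γ(S, U) 0)) ≫
        CommRingCat.ofHom (qHom n 𝓘 U hU).gradedZeroRingHom := by
  apply CommRingCat.hom_ext
  apply RingHom.ext
  intro r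
  apply Subtype.ext
  change ((quotGr n 𝓘).str.app (op U)).hom r = qRing n 𝓘 U (C r)
  rw [qRing_C]

end

end Groth.Agent.R2.H92.RelProjAlg
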