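import Mathlib
import Groth.Prelude.Def_RelProj
import Groth.Agent.R2.H86ProjClosed
import Groth.Agent.R2.H92RelProjAlg

/-!
# A closed subscheme of `P^n_S` is a relative `Proj` (helper92, PROJ:relproj R1)

For a closed immersion `i : X ⟶ P^n_S` the morphism `i ≫ toBase : X ⟶ S` is the relative homogeneous spectrum of
the quasi-coherent graded algebra `O_S[T_0..T_n] / 𝒥` (`quotGr n i.ker`), which is generated in degree one with
degree-one part of finite type: `isProjective_of_closedImmersion`.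
-/

set_option autoImplicit false
set_option linter.style.haveILetI false
set_option linter.unusedSectionVars false

namespace Groth.Agent.R2.H92.RelProjChart

open CategoryTheory CategoryTheory.Limits AlgebraicGeometry MvPolynomial TopologicalSpace Opposite
  HomogeneousLocalization
open Groth.Agent.R2.H92.RelProjPn Groth.Agent.R2.H92.RelProjIdeal Groth.Agent.R2.H92.RelProjAlg
open Groth.Agent.Helper13ProjQuotIdeal Groth.Agent.Helper13Dehom
open scoped HomogeneousIdeal

universe u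

noncomputable section

section general

variable {R A : Type u} [CommRing R] [CommRing A] [Algebra R A] {𝒜 : ℕ → Submodule R A}
  [GradedAlgebra 𝒜] {B τ : Type u} [CommRing B] [SetLike τ B] [AddSubgroupClass τ B]
  {ℬ : ℕ → τ} [GradedRing ℬ] (φ : 𝒜 →+*ᵍ ℬ)

theorem away_mk_eq_zero_iff' {g : B} (hg : g ∈ ℬ 1) (k : ℕ) (b : B) (hb : b ∈ ℬ (k • 1)) :
    Away.mk ℬ hg k b hb = 0 ↔ ∃ e : ℕ, g ^ e * b = 0 := by
  rw [← (HomogeneousLocalization.val_injective _).eq_iff, Away.val_mk,
    HomogeneousLocalization.val_zero, Localization.mk_eq_mk', IsLocalization.mk'_eq_zero_iff]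
  constructor
  · rintro ⟨⟨_, e, rfl⟩, h⟩
    exact ⟨e, h⟩
  · rintro ⟨e, h⟩
    exact ⟨⟨_, e, rfl⟩, h⟩

theorem awayToSection_injective' {g : B} (hg : g ∈ ℬ 1) :
    Function.Injective (Proj.awayToSection ℬ g).hom := by
  have hiso : IsIso (Proj.awayToSection ℬ g) := by
    have := (Proj.basicOpenIsoAway ℬ g hg one_pos).isIso_hom
    rwa [Proj.basicOpenIsoAway_hom] at this
  exact (ConcreteCategory.bijective_of_isIso (Proj.awayToSection ℬ g)).1

/-- the kernel of `Proj.map φ` over `D₊(g)` (general target grading) -/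
theorem map_app_dehom_eq_zero_iff'
    (hφ : HomogeneousIdeal.irrelevant ℬ ≤ (HomogeneousIdeal.irrelevant 𝒜).map φ)
    {g : A} (hg : g ∈ 𝒜 1) {k : ℕ} {a : A} (ha : a ∈ 𝒜 k) :
    ((Proj.map φ hφ).app (Proj.basicOpen 𝒜 g)).hom (dehom hg a) = 0 ↔
      ∃ e : ℕ, φ (g ^ e * a) = 0 := by
  have ha' : a ∈ 𝒜 (k • 1) := by simpa using ha
  rw [dehom_eq_awayToSection hg ha']
  have h1 := Proj.awayToSection_comp_appLE φ hφ hg
  have h2 := CategoryTheory.congr_fun h1 (Away.mk 𝒜 hg k a ha')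
  rw [ConcreteCategory.comp_apply, ConcreteCategory.comp_apply] at h2
  have h3 : ((Proj.map φ hφ).app (Proj.basicOpen 𝒜 g)).hom
      ((Proj.awayToSection 𝒜 g).hom (Away.mk 𝒜 hg k a ha')) =
      (Proj.awayToSection ℬ (φ g)).hom (Away.map φ g (Away.mk 𝒜 hg k a ha')) := h2
  have hg' : φ g ∈ ℬ 1 := Graded.map_mem φ hg
  have key : ((Proj.map φ hφ).app (Proj.basicOpen 𝒜 g)).hom
      ((Proj.awayToSection 𝒜 g).hom (Away.mk 𝒜 hg k a ha')) =
      (Proj.awayToSection ℬ (φ g)).hom (Away.mk ℬ hg' k (φ a) (Graded.map_mem φ ha')) :=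
    h3.trans (congrArg _ (Away.map_mk φ g hg k a ha'))
  have h4 : (∃ e : ℕ, φ (g ^ e * a) = 0) ↔ ∃ e : ℕ, (φ g) ^ e * φ a = 0 := by
    simp only [map_mul, map_pow]
  rw [h4, ← away_mk_eq_zero_iff' hg' k (φ a) (Graded.map_mem φ ha')]
  constructor
  · intro h
    apply awayToSection_injective' hg'
    rw [map_zero]
    exact key.symm.trans h
  · intro h
    refine key.trans ?_
    rw [h, map_zero]
    rfl

/-- the ideal sheaf of `Proj.map φ` for a graded hom `φ` with kernel `J hf I` -/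
theorem ker_map_eq {ι : Type u} [Finite ι] {f : ι → A} (hf : ∀ i, f i ∈ 𝒜 1)
    (hcov : ⨆ i, Proj.basicOpen 𝒜 (f i) = ⊤) (I : (Proj 𝒜).IdealSheafData)
    (hφ : HomogeneousIdeal.irrelevant ℬ ≤ (HomogeneousIdeal.irrelevant 𝒜).map φ)
    (hsurj : Function.Surjective φ) (hker : ∀ a, φ a = 0 ↔ a ∈ (J hf I).toIdeal) :
    (Proj.map φ hφ).ker = I := by
  haveI : IsClosedImmersion (Proj.map φ hφ) :=
    Groth.Agent.R2.H86.ProjClosed.isClosedImmersion_map φ hφ hsurj
  refine Scheme.IdealSheafData.ext_of_iSup_eq_top (Uaff hf) hcov (fun j => ?_)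
  rw [Scheme.Hom.ker_apply]
  ext x
  obtain ⟨k, a, ha, rfl⟩ := exists_dehom_eq hf j x
  refine Iff.trans (RingHom.mem_ker (f := ((Proj.map φ hφ).app (Proj.basicOpen 𝒜 (f j))).hom)) ?_
  refine (map_app_dehom_eq_zero_iff' _ hφ (hf j) ha).trans ?_
  refine Iff.trans ?_ (dehom_mem_iff hf I j ha).symm
  simp only [hker]

end general

section scheme

variable (n : ℕ) {S X : Scheme.{u}} (i : X ⟶ CohB1.ProjSpaceOver n S)

/-- the closed immersion `Proj 𝒮(U) ⟶ P^n_{Γ(S, U)}` -/
def cU (U : S.Opens) (hU : IsAffineOpen U) :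
    Proj ((quotGr n i.ker).deg U hU) ⟶ Proj (CohB1.polyGrading n Γ(S, U)) :=
  Proj.map (qHom n i.ker U hU)
    (Groth.Agent.R2.H86.ProjClosed.irrelevant_le_map_of_surjective _ (qHom_surjective n i.ker U hU))

instance (U : S.Opens) (hU : IsAffineOpen U) : IsClosedImmersion (cU n i U hU) :=
  Groth.Agent.R2.H86.ProjClosed.isClosedImmersion_map _ _ (qHom_surjective n i.ker U hU)

theorem ker_cU (U : S.Opens) (hU : IsAffineOpen U) : (cU n i U hU).ker = IU n i.ker hU :=
  ker_map_eq (qHom n i.ker U hU) (var_mem n Γ(S, U)) (iSup_basicOpen_var n Γ(S, U)) (IU n i.ker hU) _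
    (qHom_surjective n i.ker U hU) (qHom_eq_zero_iff n i.ker U hU)

@[reassoc]
theorem cU_toSpec' (U : S.Opens) (hU : IsAffineOpen U) :
    cU n i U hU ≫ toSpec' n Γ(S, U) =
      Proj.toSpecZero ((quotGr n i.ker).deg U hU) ≫ Spec.map ((quotGr n i.ker).strZero U hU) := by
  rw [toSpec'_eq, cU, Groth.Agent.Helper13RelProj.map_toSpecZero_assoc, ← Spec.map_comp,
    strZero_eq]

theorem res_cU {U V : S.Opens} (hU : IsAffineOpen U) (hV : IsAffineOpen V) (h : V ≤ U)
    (hirr : ((quotGr n i.ker).deg V hV)₊ ≤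
      (((quotGr n i.ker).deg U hU)₊).map ((quotGr n i.ker).res hU hV h)) :
    Proj.map ((quotGr n i.ker).res hU hV h) hirr ≫ cU n i U hU =
      cU n i V hV ≫ projRes n (resR h) := by
  unfold cU projRes
  rw [← Proj.map_comp, ← Proj.map_comp]
  exact Groth.Agent.Helper13RelProj.map_congr (res_comp_qHom n i.ker hU hV h) _ _

section chart

variable [IsClosedImmersion i]

theorem range_ι_comp_subset (U : S.Opens) (hU : IsAffineOpen U) :
    Set.range (((i ≫ CohB1.ProjSpaceOver.toBase n S) ⁻¹ᵁ U).ι ≫ i) ⊆ Set.range (embU n hU) := by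
  rintro _ ⟨x, rfl⟩
  have h := opensRange_embU n hU
  have hx : (((i ≫ CohB1.ProjSpaceOver.toBase n S) ⁻¹ᵁ U).ι ≫ i) x ∈ (embU n hU).opensRange := by
    rw [h]
    exact x.2
  exact hx

/-- the restriction of `i` over the affine open `U` -/
def iU (U : S.Opens) (hU : IsAffineOpen U) :
    (((i ≫ CohB1.ProjSpaceOver.toBase n S) ⁻¹ᵁ U : X.Opens) : Scheme.{u}) ⟶
      Proj (CohB1.polyGrading n Γ(S, U)) :=
  IsOpenImmersion.lift (embU n hU) (((i ≫ CohB1.ProjSpaceOver.toBase n S) ⁻¹ᵁ U).ι ≫ i)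
    (range_ι_comp_subset n i U hU)

@[reassoc]
theorem iU_embU (U : S.Opens) (hU : IsAffineOpen U) :
    iU n i U hU ≫ embU n hU = ((i ≫ CohB1.ProjSpaceOver.toBase n S) ⁻¹ᵁ U).ι ≫ i :=
  IsOpenImmersion.lift_fac _ _ _

theorem isPullback_iU (U : S.Opens) (hU : IsAffineOpen U) :
    IsPullback (iU n i U hU) ((i ≫ CohB1.ProjSpaceOver.toBase n S) ⁻¹ᵁ U).ι (embU n hU) i :=
  IsOpenImmersion.isPullback _ _ _ _ (iU_embU n i U hU).symm (by
    rw [opensRange_embU, Scheme.Opens.opensRange_ι]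
    rfl)

instance (U : S.Opens) (hU : IsAffineOpen U) : IsClosedImmersion (iU n i U hU) :=
  MorphismProperty.of_isPullback (P := @IsClosedImmersion) (isPullback_iU n i U hU).flip
    inferInstance

theorem ker_iU (U : S.Opens) (hU : IsAffineOpen U) : (iU n i U hU).ker = IU n i.ker hU := by
  have hpb := isPullback_iU n i U hU
  have h1 : hpb.isoPullback.hom ≫ pullback.fst (embU n hU) i = iU n i U hU :=
    hpb.isoPullback_hom_fst
  rw [← h1, Scheme.Hom.ker_comp_of_isIso, Scheme.IdealSheafData.ker_fst_of_isClosedImmersion]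
  rfl

theorem ker_cU_eq_ker_iU (U : S.Opens) (hU : IsAffineOpen U) :
    (cU n i U hU).ker = (iU n i U hU).ker := (ker_cU n i U hU).trans (ker_iU n i U hU).symm

/-- the chart `(i ≫ toBase)⁻¹(U) ≅ Proj 𝒮(U)` -/
def chart (U : S.Opens) (hU : IsAffineOpen U) :
    (((i ≫ CohB1.ProjSpaceOver.toBase n S) ⁻¹ᵁ U : X.Opens) : Scheme.{u}) ≅
      Proj ((quotGr n i.ker).deg U hU) :=
  haveI := IsClosedImmersion.isIso_lift (cU n i U hU) (iU n i U hU) (ker_cU_eq_ker_iU n i U hU)
  asIso (IsClosedImmersion.lift (cU n i U hU) (iU n i U hU) (ker_cU_eq_ker_iU n i U hU).le)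

@[reassoc]
theorem chart_hom_cU (U : S.Opens) (hU : IsAffineOpen U) :
    (chart n i U hU).hom ≫ cU n i U hU = iU n i U hU :=
  IsClosedImmersion.lift_fac _ _ _

@[reassoc]
theorem chart_hom_cU_embU (U : S.Opens) (hU : IsAffineOpen U) :
    (chart n i U hU).hom ≫ cU n i U hU ≫ embU n hU =
      ((i ≫ CohB1.ProjSpaceOver.toBase n S) ⁻¹ᵁ U).ι ≫ i := by
  rw [chart_hom_cU_assoc, iU_embU]

theorem chart_res_aux {U V : S.Opens} (hU : IsAffineOpen U) (hV : IsAffineOpen V) (h : V ≤ U)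
    (hirr : ((quotGr n i.ker).deg V hV)₊ ≤
      (((quotGr n i.ker).deg U hU)₊).map ((quotGr n i.ker).res hU hV h)) :
    X.homOfLE ((i ≫ CohB1.ProjSpaceOver.toBase n S).preimage_mono h) ≫ (chart n i U hU).hom =
      (chart n i V hV).hom ≫ Proj.map ((quotGr n i.ker).res hU hV h) hirr := by
  rw [← cancel_mono (cU n i U hU ≫ embU n hU)]
  simp only [Category.assoc]
  rw [chart_hom_cU_embU, Scheme.homOfLE_ι_assoc, ← Category.assoc (Proj.map _ _),
    res_cU n i hU hV h hirr, Category.assoc, projRes_embU n hU hV h, chart_hom_cU_embU]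

theorem isRelProj_chart :
    RelProj.IsRelProj (quotGr n i.ker) (i ≫ CohB1.ProjSpaceOver.toBase n S) (chart n i) where
  chart_over U hU := by
    rw [← cU_toSpec'_assoc, ← embU_toBase, chart_hom_cU_embU_assoc]
  chart_res U hU r := chart_res_aux n i hU (hU.basicOpen r) (S.basicOpen_le r) _

/-- a closed subscheme of `P^n_S` is projective over `S` in the sense of `RelProj.IsProjective` -/
theorem isProjective_of_closedImmersion :
    RelProj.IsProjective (i ≫ CohB1.ProjSpaceOver.toBase n S) :=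
  ⟨quotGr n i.ker, X, i ≫ CohB1.ProjSpaceOver.toBase n S, chart n i, Iso.refl X,
    isGenDegOne_quotGr n i.ker, isFTDeg_one_quotGr n i.ker, isRelProj_chart n i,
    Category.id_comp _⟩

end chart

end scheme

/-- **[R1]** an H-projective morphism is projective -/
theorem r1 {X S : Scheme.{u}} (f : X ⟶ S) (hf : RelProj.IsHProjective f) :
    RelProj.IsProjective f := by
  obtain ⟨n, i, hi, rfl⟩ := hf
  exact isProjective_of_closedImmersion n i

end

end Groth.Agent.R2.H92.RelProjChart
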