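import Mathlib

set_option autoImplicit false
universe u

open TensorProduct KaehlerDifferential

namespace Groth.Agent.R2.H92.SBB

section general

variable (R S T : Type u) [CommRing R] [CommRing S] [CommRing T] [Algebra R S] [Algebra S T]
  [Algebra R T] [IsScalarTower R S T]

/-- If `H¹(L_{T/R}) = 0` and `T ⊗_S Ω[S/R] → Ω[T/R]` is bijective, then `T` is formally étale over
`S` (Jacobi–Zariski). -/
theorem formallyEtale_of_bijective_mapBaseChange [Subsingleton (Algebra.H1Cotangent R T)]
    (h : Function.Bijective (mapBaseChange R S T)) : Algebra.FormallyEtale S T := by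
  constructor
  · refine ⟨fun x y => ?_⟩
    suffices H : ∀ z : Ω[T⁄S], z = 0 by rw [H x, H y]
    intro z
    obtain ⟨w, rfl⟩ := KaehlerDifferential.map_surjective R S T z
    obtain ⟨v, rfl⟩ := h.2 w
    exact (KaehlerDifferential.exact_mapBaseChange_map R S T _).mpr ⟨v, rfl⟩
  · refine ⟨fun x y => ?_⟩
    suffices H : ∀ z : Algebra.H1Cotangent S T, z = 0 by rw [H x, H y]
    intro z
    have h1 : Algebra.H1Cotangent.δ R S T z = 0 := by
      apply h.1
      rw [map_zero]
      exact (Algebra.H1Cotangent.exact_δ_mapBaseChange R S T _).mpr ⟨z, rfl⟩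
    obtain ⟨w, rfl⟩ := (Algebra.H1Cotangent.exact_map_δ R S T z).mp h1
    rw [Subsingleton.elim w 0, map_zero]

end general

section basis

variable {B C : Type u} [CommRing B] [CommRing C] [Algebra B C]

/-- If `C` is finitely presented over `B` with `H¹(L_{C/B}) = 0` and `Ω[C/B]` is free on
`D c₁, …, D cₙ`, then `B[x₁, …, xₙ] → C`, `xᵢ ↦ cᵢ` is étale. -/
theorem etale_aeval_of_basis [Algebra.FinitePresentation B C]
    [Subsingleton (Algebra.H1Cotangent B C)] {n : ℕ} (c : Fin n → C)
    (b : Module.Basis (Fin n) C Ω[C⁄B]) (hb : ∀ i, b i = D B C (c i)) :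
    (MvPolynomial.aeval c : MvPolynomial (Fin n) B →ₐ[B] C).toRingHom.Etale := by
  let φ : MvPolynomial (Fin n) B →ₐ[B] C := MvPolynomial.aeval c
  algebraize [φ.toRingHom]
  have : IsScalarTower B (MvPolynomial (Fin n) B) C :=
    .of_algebraMap_eq' φ.comp_algebraMap.symm
  have hbij : Function.Bijective (mapBaseChange B (MvPolynomial (Fin n) B) C) := by
    let b₁ : Module.Basis (Fin n) C (C ⊗[MvPolynomial (Fin n) B] Ω[MvPolynomial (Fin n) B⁄B]) :=
      (mvPolynomialBasis B (Fin n)).baseChange C
    have : mapBaseChange B (MvPolynomial (Fin n) B) C = (b₁.equiv b (Equiv.refl _)).toLinearMap := by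
      refine b₁.ext fun i => ?_
      have e1 : b₁ i = (1 : C) ⊗ₜ[MvPolynomial (Fin n) B] D B (MvPolynomial (Fin n) B) (.X i) := by
        simp only [b₁, Module.Basis.baseChange_apply, mvPolynomialBasis_apply]
      have e2 : algebraMap (MvPolynomial (Fin n) B) C (MvPolynomial.X i) = c i := by
        change φ (MvPolynomial.X i) = c i
        simp [φ]
      rw [LinearEquiv.coe_coe, Module.Basis.equiv_apply, Equiv.refl_apply, hb, e1,
        mapBaseChange_tmul, map_D, one_smul, e2]
    rw [this]
    exact (b₁.equiv b (Equiv.refl _)).bijective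
  have h1 : Algebra.FormallyEtale (MvPolynomial (Fin n) B) C :=
    formallyEtale_of_bijective_mapBaseChange B (MvPolynomial (Fin n) B) C hbij
  have h2 : Algebra.FinitePresentation (MvPolynomial (Fin n) B) C :=
    .of_restrict_scalars_finitePresentation B (MvPolynomial (Fin n) B) C
  exact ⟨h1, h2⟩

end basis

section main

variable {B C : Type u} [CommRing B] [CommRing C] [Algebra B C]

set_option backward.isDefEq.respectTransparency.types false in
/-- PKG-B of PROJ:smooth-boot: étale coordinates on a smooth algebra near a prime, chosen from a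
set whose differentials span. -/
theorem pkgB [Algebra.Smooth B C] (q : Ideal C) [q.IsPrime] (T : Set C)
    (hT : Submodule.span C (D B C '' T) = ⊤) :
    ∃ (n : ℕ) (c : Fin n → C) (_ : ∀ i, c i ∈ T) (g : C) (_ : g ∉ q),
      ((algebraMap C (Localization.Away g)).comp
        (MvPolynomial.aeval c : MvPolynomial (Fin n) B →ₐ[B] C).toRingHom).Etale := by
  let v : T → Ω[Localization.AtPrime q⁄B] := fun t => map B B C (Localization.AtPrime q) (D B C t.1)
  have hv : Submodule.span (Localization.AtPrime q) (Set.range v) = ⊤ := by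
    have := span_eq_top_of_isLocalizedModule (Localization.AtPrime q) q.primeCompl
      (map B B C (Localization.AtPrime q)) (v := D B C '' T) hT
    rw [← this]
    congr 1
    ext ω
    constructor
    · rintro ⟨t, rfl⟩
      exact ⟨_, ⟨t.1, t.2, rfl⟩, rfl⟩
    · rintro ⟨_, ⟨t, ht, rfl⟩, rfl⟩
      exact ⟨⟨t, ht⟩, rfl⟩
  obtain ⟨κ, a, b, hb⟩ := Module.exists_basis_of_span_of_flat v hv
  let e : (κ →₀ C) →ₗ[C] Ω[C⁄B] :=
    Finsupp.linearCombination C fun i : κ ↦ D B C (a i).1
  let l₁ : (κ →₀ C) →ₗ[C] (κ →₀ Localization.AtPrime q) :=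
    Finsupp.mapRange.linearMap (Algebra.linearMap C (Localization.AtPrime q))
  let l₂ : Ω[C⁄B] →ₗ[C] Ω[Localization.AtPrime q⁄B] := map B B C (Localization.AtPrime q)
  let eₚ : (κ →₀ Localization.AtPrime q) →ₗ[Localization.AtPrime q] Ω[Localization.AtPrime q⁄B] :=
    IsLocalizedModule.mapExtendScalars q.primeCompl l₁ l₂ (Localization.AtPrime q) e
  have : eₚ = b.repr.symm := by
    ext i
    trans IsLocalizedModule.map q.primeCompl l₁ l₂ e <| l₁ <| Finsupp.single i 1
    · simp [eₚ, -IsLocalizedModule.map_apply, l₁]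
    · simp [l₂, e, hb, v]
  have heₚ : Function.Bijective eₚ := this ▸ b.repr.symm.bijective
  have : Finite κ := Module.Finite.finite_basis b
  obtain ⟨g, hg, h⟩ := Module.FinitePresentation.exists_notMem_bijective e q l₁ l₂ heₚ
  let l₁ₜ : (κ →₀ C) →ₗ[C] (κ →₀ Localization.Away g) :=
    Finsupp.mapRange.linearMap (Algebra.linearMap C _)
  let l₂ₜ : Ω[C⁄B] →ₗ[C] Ω[Localization.Away g⁄B] :=
    map B B C (Localization.Away g)
  rw [← IsLocalizedModule.map_bijective_iff_localizedModuleMap_bijective l₁ₜ l₂ₜ] at h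
  let eₜ' : (κ →₀ Localization.Away g) →ₗ[Localization.Away g] Ω[Localization.Away g⁄B] :=
    IsLocalizedModule.mapExtendScalars (Submonoid.powers g) l₁ₜ l₂ₜ (Localization.Away g) e
  let bg : Module.Basis κ (Localization.Away g) Ω[Localization.Away g⁄B] :=
    .ofRepr (LinearEquiv.ofBijective eₜ' h).symm
  have hbg : ∀ i, bg i = D B (Localization.Away g) (algebraMap C _ (a i).1) := by
    intro i
    simp +zetaDelta [IsLocalizedModule.map_linearCombination]
  let eqv : Fin (Nat.card κ) ≃ κ := (Finite.equivFin κ).symm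
  have : Algebra.Smooth C (Localization.Away g) := Algebra.Smooth.of_isLocalization_Away g
  have : Algebra.Smooth B (Localization.Away g) := Algebra.Smooth.comp B C _
  refine ⟨Nat.card κ, fun i => (a (eqv i)).1, fun i => (a (eqv i)).2, g, hg, ?_⟩
  have key := etale_aeval_of_basis (B := B) (C := Localization.Away g)
    (fun i => algebraMap C (Localization.Away g) (a (eqv i)).1) (bg.reindex eqv.symm)
    (fun i => by rw [Module.Basis.reindex_apply, Equiv.symm_symm, hbg])
  convert key using 1
  refine MvPolynomial.ringHom_ext (fun r => ?_) (fun i => ?_)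
  · simp [← IsScalarTower.algebraMap_apply]
  · simp

end main

end Groth.Agent.R2.H92.SBB
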