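import Mathlib
import Groth.Agent.Lib.Helper18OverLoc

/-!
# Localization of a full subcategory closed under the sources of `W` (helper92)

Let `W` admit a calculus of right fractions on `C` and `P` be a property of objects such that the
source of every morphism of `W` with target in `P` is in `P`.  Then `W` restricted to the full
subcategory of `P` admits a calculus of right fractions (`hasRightCalculusOfFractions`), and the
localization of the full subcategory maps fully faithfully to every "fraction-computed" target of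
`C` (`full_faithful`).
-/

set_option autoImplicit false
universe v₁ v₂ v₃ u₁ u₂ u₃

open CategoryTheory

namespace Groth.Agent.R2.H92.SubLoc

open Groth.Agent.Lib.Helper18OverLoc

variable {C : Type u₁} [Category.{v₁} C] (W : MorphismProperty C) (P : ObjectProperty C)
  (hP : ∀ {X' X : C} (s : X' ⟶ X), W s → P X → P X')

include hP in
theorem hasRightCalculusOfFractions [W.HasRightCalculusOfFractions] :
    (W.inverseImage P.ι).HasRightCalculusOfFractions where
  exists_rightFraction X Y φ := by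
    obtain ⟨ψ, hψ⟩ := MorphismProperty.HasRightCalculusOfFractions.exists_rightFraction
      (W := W) (X := X.obj) (Y := Y.obj) ⟨φ.f.hom, φ.s.hom, φ.hs⟩
    dsimp at hψ
    let Z : P.FullSubcategory := ⟨ψ.X', hP ψ.s ψ.hs X.2⟩
    let t : Z ⟶ X := ObjectProperty.homMk ψ.s
    let g : Z ⟶ Y := ObjectProperty.homMk ψ.f
    exact ⟨⟨t, ψ.hs, g⟩, ObjectProperty.hom_ext _ hψ⟩
  ext X Y Y' f₁ f₂ s hs h := by
    obtain ⟨X', t, ht, hh⟩ := MorphismProperty.HasRightCalculusOfFractions.ext
      (W := W) f₁.hom f₂.hom s.hom hs (congrArg InducedCategory.Hom.hom h)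
    exact ⟨⟨X', hP t ht X.2⟩, ObjectProperty.homMk t, ht, ObjectProperty.hom_ext _ hh⟩

variable {W P}

/-- a right fraction in the full subcategory, as a right fraction in `C` -/
def push {X Y : P.FullSubcategory} (z : (W.inverseImage P.ι).RightFraction X Y) :
    W.RightFraction X.obj Y.obj :=
  ⟨z.s.hom, z.hs, z.f.hom⟩

variable {D : Type u₂} [Category.{v₂} D] (G : C ⥤ D) (hG : W.IsInvertedBy G)

include hG in
theorem isInvertedBy_ι_comp : (W.inverseImage P.ι).IsInvertedBy (P.ι ⋙ G) :=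
  fun _ _ f hf => hG f.hom hf

theorem push_map {X Y : P.FullSubcategory} (z : (W.inverseImage P.ι).RightFraction X Y) :
    (push z).map G hG = z.map (P.ι ⋙ G) (isInvertedBy_ι_comp G hG) := by
  have : IsIso (G.map (push z).s) := hG _ (push z).hs
  rw [← cancel_epi (G.map (push z).s), MorphismProperty.RightFraction.map_s_comp_map]
  exact (MorphismProperty.RightFraction.map_s_comp_map z (P.ι ⋙ G)
    (isInvertedBy_ι_comp G hG)).symm

include hP in
theorem full_faithful [W.HasRightCalculusOfFractions]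
    (hex : ∀ (X Y : C) (g : G.obj X ⟶ G.obj Y), ∃ z : W.RightFraction X Y, g = z.map G hG)
    (hrel : ∀ (X Y : C) (z₁ z₂ : W.RightFraction X Y), z₁.map G hG = z₂.map G hG →
      MorphismProperty.RightFractionRel z₁ z₂)
    {E : Type u₃} [Category.{v₃} E] (L' : P.FullSubcategory ⥤ E)
    [L'.IsLocalization (W.inverseImage P.ι)] (Φ : E ⥤ D) (e : L' ⋙ Φ ≅ P.ι ⋙ G) :
    Φ.Full ∧ Φ.Faithful := by
  have hrcf := hasRightCalculusOfFractions W P hP
  have hL' : (W.inverseImage P.ι).IsInvertedBy L' := Localization.inverts L' _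
  have hcomp : (W.inverseImage P.ι).IsInvertedBy (L' ⋙ Φ) := fun X Y f hf => by
    have := hL' f hf
    dsimp
    infer_instance
  have hιG := isInvertedBy_ι_comp (P := P) G hG
  have key : ∀ {X Y : P.FullSubcategory} (z : (W.inverseImage P.ι).RightFraction X Y),
      Φ.map (z.map L' hL') = e.hom.app X ≫ z.map (P.ι ⋙ G) hιG ≫ e.inv.app Y := by
    intro X Y z
    have h := map_natIso e hcomp hιG z
    rw [← map_comp_functor L' Φ hL' hcomp, ← Category.assoc, ← h]
    simp
  have : L'.EssSurj := Localization.essSurj L' (W.inverseImage P.ι)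
  refine ⟨⟨fun {e₁ e₂} g => ?_⟩, ⟨fun {e₁ e₂} u v huv => ?_⟩⟩
  · let a₁ : L'.obj (L'.objPreimage e₁) ≅ e₁ := L'.objObjPreimageIso e₁
    let a₂ : L'.obj (L'.objPreimage e₂) ≅ e₂ := L'.objObjPreimageIso e₂
    obtain ⟨z₀, hz₀⟩ := hex (L'.objPreimage e₁).obj (L'.objPreimage e₂).obj
      (e.inv.app _ ≫ Φ.map a₁.hom ≫ g ≫ Φ.map a₂.inv ≫ e.hom.app _)
    let Z : P.FullSubcategory := ⟨z₀.X', hP z₀.s z₀.hs (L'.objPreimage e₁).2⟩
    let z : (W.inverseImage P.ι).RightFraction (L'.objPreimage e₁) (L'.objPreimage e₂) :=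
      ⟨(ObjectProperty.homMk z₀.s : Z ⟶ L'.objPreimage e₁), z₀.hs, ObjectProperty.homMk z₀.f⟩
    have hz : z.map (P.ι ⋙ G) hιG = z₀.map G hG := (push_map G hG z).symm
    refine ⟨a₁.inv ≫ z.map L' hL' ≫ a₂.hom, ?_⟩
    rw [Φ.map_comp, Φ.map_comp, key, hz, ← hz₀]
    simp [← Φ.map_comp_assoc, ← Φ.map_comp]
  · let a₁ : L'.obj (L'.objPreimage e₁) ≅ e₁ := L'.objObjPreimageIso e₁
    let a₂ : L'.obj (L'.objPreimage e₂) ≅ e₂ := L'.objObjPreimageIso e₂
    obtain ⟨z₁, hz₁⟩ := Localization.exists_rightFraction L' (W.inverseImage P.ι)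
      (a₁.hom ≫ u ≫ a₂.inv)
    obtain ⟨z₂, hz₂⟩ := Localization.exists_rightFraction L' (W.inverseImage P.ι)
      (a₁.hom ≫ v ≫ a₂.inv)
    have h3 : Φ.map (z₁.map L' hL') = Φ.map (z₂.map L' hL') := by
      rw [← hz₁, ← hz₂]
      simp [huv]
    rw [key, key] at h3
    have h4 : z₁.map (P.ι ⋙ G) hιG = z₂.map (P.ι ⋙ G) hιG := by
      simpa using h3
    rw [← push_map G hG, ← push_map G hG] at h4
    obtain ⟨Z, t₁, t₂, hs, hf, ht⟩ := hrel _ _ (push z₁) (push z₂) h4
    have h5 : MorphismProperty.RightFractionRel z₁ z₂ := by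
      let Z' : P.FullSubcategory := ⟨Z, hP (t₁ ≫ (push z₁).s) ht (L'.objPreimage e₁).2⟩
      exact ⟨Z', (ObjectProperty.homMk t₁ : Z' ⟶ z₁.X'), (ObjectProperty.homMk t₂ : Z' ⟶ z₂.X'),
        ObjectProperty.hom_ext _ hs, ObjectProperty.hom_ext _ hf, ht⟩
    have h6 : z₁.map L' hL' = z₂.map L' hL' :=
      (MorphismProperty.RightFraction.map_eq_iff L' (W.inverseImage P.ι) z₁ z₂).2 h5
    have h7 : a₁.hom ≫ u ≫ a₂.inv = a₁.hom ≫ v ≫ a₂.inv := by rw [hz₁, hz₂, h6]
    simpa using h7

end Groth.Agent.R2.H92.SubLoc
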