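import Mathlib
import Groth.Prelude.Def_Red2

/-!
# Lifting units through finitely many pairwise coprime quotients (helper92)
-/

set_option autoImplicit false
universe u

open CategoryTheory CategoryTheory.Limits AlgebraicGeometry

namespace Groth.Agent.R2.H92.UnitLift

/-- If `φ i : R → S i` are finitely many surjections with pairwise coprime kernels, and every
`r` with `φ i r = 1` for all `i` is a unit, then every family of units lifts to a unit of `R`. -/
lemma exists_unit_lift {R : Type*} [CommRing R] {ι : Type*} [Finite ι] {S : ι → Type*}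
    [∀ i, CommRing (S i)] (φ : ∀ i, R →+* S i) (hφ : ∀ i, Function.Surjective (φ i))
    (hcop : Pairwise (Function.onFun IsCoprime fun i => RingHom.ker (φ i)))
    (hunit : ∀ r : R, (∀ i, φ i r = 1) → IsUnit r)
    (b : ∀ i, (S i)ˣ) : ∃ r : Rˣ, ∀ i, φ i r = b i := by
  choose x hx using fun i => hφ i (b i)
  choose y hy using fun i => hφ i ((b i)⁻¹ : (S i)ˣ)
  obtain ⟨r, hr⟩ := Ideal.exists_forall_sub_mem_ideal hcop x
  obtain ⟨c, hc⟩ := Ideal.exists_forall_sub_mem_ideal hcop y
  have hr' : ∀ i, φ i r = b i := fun i => by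
    have := hr i
    rw [RingHom.mem_ker, map_sub, sub_eq_zero] at this
    rw [this, hx]
  have hc' : ∀ i, φ i c = ((b i)⁻¹ : (S i)ˣ) := fun i => by
    have := hc i
    rw [RingHom.mem_ker, map_sub, sub_eq_zero] at this
    rw [this, hy]
  have hu : IsUnit (r * c) := hunit _ fun i => by
    rw [map_mul, hr', hc']
    simp
  have hr_unit : IsUnit r := isUnit_of_mul_isUnit_left hu
  exact ⟨hr_unit.unit, fun i => hr' i⟩

/-- A global function on a quasi-compact scheme which does not vanish at any closed point is a
unit. -/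
lemma isUnit_of_forall_closed_point {X : Scheme.{u}} [CompactSpace X] (r : Γ(X, ⊤))
    (h : ∀ x : X, IsClosed ({x} : Set X) → x ∈ X.basicOpen r) : IsUnit r := by
  have htop : ∀ x : X, x ∈ X.basicOpen r := by
    by_contra hne
    push Not at hne
    have hcl : IsClosed ((X.basicOpen r : Set X)ᶜ) := (X.basicOpen r).isOpen.isClosed_compl
    have hnonempty : ((X.basicOpen r : Set X)ᶜ).Nonempty := hne
    obtain ⟨x, hx, hxc⟩ := hcl.exists_closed_singleton hnonempty
    exact hx (h x hxc)
  apply RingedSpace.isUnit_of_isUnit_germ X.toLocallyRingedSpace.toRingedSpace ⊤ r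
  intro x hx
  exact (X.mem_basicOpen_top r x).mp (htop x)

end Groth.Agent.R2.H92.UnitLift
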