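import Mathlib
import Groth.Prelude.Def_AlgSpMor5
import Groth.Agent.R2.H45HasAtMor
import Groth.Agent.S10175
import Groth.Agent.S10176
import Groth.Agent.S10177
import Groth.Agent.S9874

/-!
# helper93: chart diagrams of a base change square over prescribed charts of the bases

`exists_baseChange_diagram_over`: for a cartesian square `X' = X ×_Y Y'` of sheaves (`X`, `Y` algebraic
spaces), étale charts `b : h_V ⟶ Y`, `b' : h_{V'} ⟶ Y'` with a compatible `κ : V' ⟶ V`, and a point
`x'` of `X'` over a point `v'` of `V'`: there are an étale chart `a : h_U ⟶ X` with `h : U ⟶ V`, and an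
étale chart `a' : h_{U ×_V V'} ⟶ X'` through `x'`, compatible with everything.
-/

set_option autoImplicit false
set_option linter.style.haveILetI false
universe u

namespace Groth.Agent.R2.H93.ChartCube

open AlgebraicGeometry CategoryTheory CategoryTheory.Limits AlgSp

variable {S : Scheme.{u}}

theorem exists_baseChange_diagram_over {X Y X' Y' : AlgSp.Sp S} (hX : AlgSp.IsAlgSpace X)
    (hY : AlgSp.IsAlgSpace Y) {f : X ⟶ Y} {g : Y' ⟶ Y} {g' : X' ⟶ X} {f' : X' ⟶ Y'}
    (sq : IsPullback g' f' f g) {V V' : Over S} (b : (AlgSp.yon S).obj V ⟶ Y)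
    (b' : (AlgSp.yon S).obj V' ⟶ Y') (κ : V' ⟶ V) (hb : AlgSp.RepWith @Etale b)
    (hb' : AlgSp.RepWith @Etale b') (c2 : b' ≫ g = (AlgSp.yon S).map κ ≫ b)
    (x' : AlgSp.Points X') (v' : ↥V'.left)
    (hv' : AlgSp.Points.ofPt b' v' = AlgSp.Points.map f' x') :
    ∃ (U : Over S) (a : (AlgSp.yon S).obj U ⟶ X) (h : U ⟶ V)
      (a' : (AlgSp.yon S).obj (pullback h κ) ⟶ X') (w : ↥(pullback h κ).left),
      AlgSp.RepWith @Etale a ∧ AlgSp.RepWith @Etale a' ∧
      a ≫ f = (AlgSp.yon S).map h ≫ b ∧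
      a' ≫ f' = (AlgSp.yon S).map (pullback.snd h κ) ≫ b' ∧
      a' ≫ g' = (AlgSp.yon S).map (pullback.fst h κ) ≫ a ∧
      AlgSp.Points.ofPt a' w = x' ∧ (pullback.snd h κ).left w = v' := by
  -- the chart of `X ×_Y V`
  have hXV : AlgSp.IsAlgSpace (pullback f b) :=
    Groth.Agent.S9874.isAlgSpace_of_isPullback hY.diag hX (AlgSp.IsAlgSpace.yon_obj V)
      (IsPullback.of_hasPullback f b)
  obtain ⟨U, u, hue, hus⟩ := hXV.atlas
  obtain ⟨h, hh⟩ := (AlgSp.yon S).map_surjective (u ≫ pullback.snd f b)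
  have hpr1 : AlgSp.RepWith @Etale (pullback.fst f b) :=
    MorphismProperty.of_isPullback (P := AlgSp.RepWith @Etale)
      (IsPullback.of_hasPullback f b).flip hb
  -- the map `Q = X' ×_{Y'} V' ⟶ X ×_Y V`
  have hw : (pullback.fst f' b' ≫ g') ≫ f = (pullback.snd f' b' ≫ (AlgSp.yon S).map κ) ≫ b := by
    rw [Category.assoc, sq.w, ← Category.assoc, pullback.condition, Category.assoc, Category.assoc,
      c2]
  obtain ⟨ρ, hρ⟩ : ∃ ρ : pullback f' b' ⟶ pullback f b,
      ρ = pullback.lift (pullback.fst f' b' ≫ g') (pullback.snd f' b' ≫ (AlgSp.yon S).map κ) hw :=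
    ⟨_, rfl⟩
  have hρ1 : ρ ≫ pullback.fst f b = pullback.fst f' b' ≫ g' := by rw [hρ, pullback.lift_fst]
  have hρ2 : ρ ≫ pullback.snd f b = pullback.snd f' b' ≫ (AlgSp.yon S).map κ := by
    rw [hρ, pullback.lift_snd]
  have big : IsPullback (pullback.fst f' b' ≫ g') (pullback.snd f' b') f (b' ≫ g) :=
    (IsPullback.of_hasPullback f' b').paste_horiz sq
  have sqρ : IsPullback ρ (pullback.snd f' b') (pullback.snd f b) ((AlgSp.yon S).map κ) := by
    refine IsPullback.of_right ?_ hρ2 (IsPullback.of_hasPullback f b)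
    rw [hρ1, ← c2]
    exact big
  -- the chart of `Q`
  have sqκ : IsPullback ((AlgSp.yon S).map (pullback.fst h κ))
      ((AlgSp.yon S).map (pullback.snd h κ)) ((AlgSp.yon S).map h) ((AlgSp.yon S).map κ) :=
    (IsPullback.of_hasPullback h κ).map (AlgSp.yon S)
  have hw' : ((AlgSp.yon S).map (pullback.fst h κ) ≫ u) ≫ pullback.snd f b =
      (AlgSp.yon S).map (pullback.snd h κ) ≫ (AlgSp.yon S).map κ := by
    rw [Category.assoc, ← hh, sqκ.w]
  obtain ⟨φ, hφ⟩ : ∃ φ : (AlgSp.yon S).obj (pullback h κ) ⟶ pullback f' b',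
      φ = sqρ.lift ((AlgSp.yon S).map (pullback.fst h κ) ≫ u)
        ((AlgSp.yon S).map (pullback.snd h κ)) hw' := ⟨_, rfl⟩
  have hφ1 : φ ≫ ρ = (AlgSp.yon S).map (pullback.fst h κ) ≫ u := by rw [hφ, sqρ.lift_fst]
  have hφ2 : φ ≫ pullback.snd f' b' = (AlgSp.yon S).map (pullback.snd h κ) := by
    rw [hφ, sqρ.lift_snd]
  have left : IsPullback φ ((AlgSp.yon S).map (pullback.fst h κ)) ρ u := by
    refine IsPullback.of_right ?_ hφ1 sqρ.flip
    rw [hφ2, ← hh]
    exact sqκ.flip
  have hφe : AlgSp.RepWith @Etale φ :=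
    MorphismProperty.of_isPullback (P := AlgSp.RepWith @Etale) left.flip hue
  have hφs : AlgSp.RepWith @Surjective φ :=
    MorphismProperty.of_isPullback (P := AlgSp.RepWith @Surjective) left.flip hus
  have hpr1' : AlgSp.RepWith @Etale (pullback.fst f' b') :=
    MorphismProperty.of_isPullback (P := AlgSp.RepWith @Etale)
      (IsPullback.of_hasPullback f' b').flip hb'
  -- the point
  have e0 : AlgSp.Points.map b' (AlgSp.Points.ofScheme V' v') = AlgSp.Points.map f' x' := by
    rw [← AlgSp.Points.ofPt_eq_map_ofScheme]; exact hv'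
  obtain ⟨q, hq1, hq2⟩ := Groth.Agent.S10175.exists_point_of_isPullback
    (IsPullback.of_hasPullback f' b').flip (AlgSp.Points.ofScheme V' v') x' e0
  obtain ⟨w, hw0⟩ := Groth.Agent.S10177.surjective_ofPt φ hφs q
  refine ⟨U, u ≫ pullback.fst f b, h, φ ≫ pullback.fst f' b', w,
    (AlgSp.repWith_isMultiplicative (S := S) @Etale).comp_mem _ _ hue hpr1,
    (AlgSp.repWith_isMultiplicative (S := S) @Etale).comp_mem _ _ hφe hpr1', ?_, ?_, ?_, ?_, ?_⟩
  · rw [Category.assoc, pullback.condition, ← Category.assoc, ← hh]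
  · rw [Category.assoc, pullback.condition, ← Category.assoc, hφ2]
  · rw [Category.assoc, ← hρ1, ← Category.assoc, hφ1, Category.assoc]
  · rw [← AlgSp.Points.map_ofPt, hw0, hq2]
  · apply (AlgSp.Points.schemeHomeo V').injective
    have : AlgSp.Points.ofPt ((AlgSp.yon S).map (pullback.snd h κ)) w =
        AlgSp.Points.ofScheme V' v' := by
      rw [← hφ2, ← AlgSp.Points.map_ofPt, hw0, hq1]
    rw [AlgSp.Points.ofPt_eq_map_ofScheme] at this
    exact (AlgSp.Points.map_yon_map_apply (pullback.snd h κ) w).symm.trans this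

end Groth.Agent.R2.H93.ChartCube
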