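import Groth.Agent.R2.H95QcChart
import Groth.Agent.R2.H47YonSigma
import Groth.Agent.R2.H47SpColim

/-!
# Existence of quasi-compact charts for quasi-compact morphisms of algebraic spaces (helper95)

`exists_qcChart`: a quasi-compact morphism `g : V ⟶ Y` of algebraic spaces has a quasi-compact chart in
the sense of `R2/H95QcChart`: the chart of `Y` is the disjoint union of the affine opens `U_k` of an atlas,
the chart `W` of `V ×_Y U` is the disjoint union of quasi-compact atlases `W_k` of `V ×_Y U_k`.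
-/

set_option autoImplicit false
universe u
open CategoryTheory CategoryTheory.Limits AlgebraicGeometry Opposite
open AlgSp

set_option backward.isDefEq.respectTransparency false
set_option linter.style.haveILetI false

namespace Groth.Agent.R2.H95.QcCh

open Groth.Agent.S13210 Groth.Agent.R2.H48.ClosedSub Groth.Agent.R2.H95.SpEpi
  Groth.Agent.R2.H47.YonSigma Groth.Agent.R2.H47.InfSq Groth.Agent.R2.H47.SpColim

variable {S : Scheme.{u}}

/-- a disjoint union of quasi-compact morphisms (componentwise over a disjoint union of affine schemes)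
is quasi-compact. -/
theorem quasiCompact_sigmaDesc {κ : Type u} (A B : κ → Scheme.{u}) (f : ∀ k, A k ⟶ B k)
    [∀ k, QuasiCompact (f k)] :
    QuasiCompact (Sigma.desc (fun k => f k ≫ Sigma.ι B k) : (∐ A) ⟶ ∐ B) := by
  set F : (∐ A) ⟶ ∐ B := Sigma.desc (fun k => f k ≫ Sigma.ι B k) with hF
  refine IsZariskiLocalAtTarget.of_openCover (P := @QuasiCompact) (sigmaOpenCover B) (fun k => ?_)
  have H : Sigma.ι A k ≫ F = f k ≫ Sigma.ι B k := Sigma.ι_desc _ _
  have H' : F ⁻¹ᵁ (Sigma.ι B k).opensRange = (Sigma.ι A k).opensRange := by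
    ext x
    constructor
    · intro hx
      obtain ⟨j, w, rfl⟩ := (sigmaOpenCover A).exists_eq x
      simp only [sigmaOpenCover_f] at hx ⊢
      by_cases hjk : j = k
      · subst hjk
        exact ⟨w, rfl⟩
      · exfalso
        have h1 : F (Sigma.ι A j w) ∈ (Sigma.ι B j).opensRange := by
          refine ⟨f j w, ?_⟩
          rw [← Scheme.Hom.comp_apply, ← Scheme.Hom.comp_apply, Sigma.ι_desc]
        have h2 : F (Sigma.ι A j w) ∈ (Sigma.ι B k).opensRange := hx
        exact (disjoint_iff.mp (disjoint_opensRange_sigmaι B j k hjk)).le ⟨h1, h2⟩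
    · rintro ⟨w, rfl⟩
      refine ⟨f k w, ?_⟩
      rw [← Scheme.Hom.comp_apply, ← Scheme.Hom.comp_apply, H]
  have sq : IsPullback (f k) (Sigma.ι A k) (Sigma.ι B k) F :=
    IsOpenImmersion.isPullback (f k) (Sigma.ι A k) (Sigma.ι B k) F H H'
  have e : (sigmaOpenCover B).pullbackHom F k = sq.flip.isoPullback.inv ≫ f k := by
    rw [Iso.eq_inv_comp]
    exact sq.flip.isoPullback_hom_snd
  rw [e]
  infer_instance

/-- **existence of quasi-compact charts.** -/
theorem exists_qcChart {V Y : AlgSp.Sp S} (hY : AlgSp.IsAlgSpace Y) (g : V ⟶ Y)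
    (hg : AlgSp.IsQuasiCompactMor g) : Nonempty (QcChart g) := by
  obtain ⟨U₁, p₁, hp₁e, hp₁s⟩ := hY.atlas
  -- the affine opens of the atlas
  let Uk : U₁.left.affineOpens → Over S := fun k => res U₁ k.1
  let ιk : ∀ k, Uk k ⟶ U₁ := fun k => resι U₁ k.1
  let pk : ∀ k, (AlgSp.yon S).obj (Uk k) ⟶ Y := fun k => (AlgSp.yon S).map (ιk k) ≫ p₁
  haveI hUaff : ∀ k, IsAffine (Uk k).left := fun k => k.2
  -- quasi-compact atlases of the fibre products
  have hqc : ∀ k, AlgSp.IsQuasiCompactSp (pullback g (pk k)) := fun k =>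
    hg (AlgSp.IsAlgSpace.yon_obj (Uk k))
      ⟨Uk k, 𝟙 _, AlgSp.repWith_id _ _, AlgSp.repWith_id _ _, inferInstance⟩ (pk k)
      (pullback.fst g (pk k)) (pullback.snd g (pk k)) (IsPullback.of_hasPullback g (pk k))
  choose Wk ck hcke hcks hWc using hqc
  haveI := hWc
  have hckepi : ∀ k, Epi (ck k) := fun k => epi_of_etale_surj (ck k) (hcke k) (hcks k)
  let hk : ∀ k, Wk k ⟶ Uk k := fun k => (AlgSp.yon S).preimage (ck k ≫ pullback.snd g (pk k))
  have hhk : ∀ k, (AlgSp.yon S).map (hk k) = ck k ≫ pullback.snd g (pk k) := fun k =>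
    (AlgSp.yon S).map_preimage _
  let ak : ∀ k, (AlgSp.yon S).obj (Wk k) ⟶ V := fun k => ck k ≫ pullback.fst g (pk k)
  have hcommk : ∀ k, ak k ≫ g = (AlgSp.yon S).map (hk k) ≫ pk k := fun k => by
    rw [hhk, Category.assoc, Category.assoc, pullback.condition]
  haveI hqck : ∀ k, QuasiCompact (hk k).left := fun k =>
    (HasAffineProperty.iff_of_isAffine (P := @QuasiCompact)).2 (hWc k)
  -- the disjoint unions
  let U : Over S := sigmaOver Uk
  let W : Over S := sigmaOver Wk
  let d : U ⟶ U₁ := sigmaOverDesc Uk ιk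
  have hd : ∀ k, sigmaOverι Uk k ≫ d = ιk k := sigmaOverι_desc Uk ιk
  let p : (AlgSp.yon S).obj U ⟶ Y := (AlgSp.yon S).map d ≫ p₁
  let h : W ⟶ U := sigmaOverDesc Wk (fun k => hk k ≫ sigmaOverι Uk k)
  have hh : ∀ k, sigmaOverι Wk k ≫ h = hk k ≫ sigmaOverι Uk k :=
    sigmaOverι_desc Wk (fun k => hk k ≫ sigmaOverι Uk k)
  let a : (AlgSp.yon S).obj W ⟶ V :=
    Cofan.IsColimit.desc (isColimitYonSigmaOver Wk) ak
  have ha : ∀ k, (AlgSp.yon S).map (sigmaOverι Wk k) ≫ a = ak k := fun k =>
    Cofan.IsColimit.fac (isColimitYonSigmaOver Wk) ak k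
  have hpk : ∀ k, (AlgSp.yon S).map (sigmaOverι Uk k) ≫ p = pk k := fun k => by
    change (AlgSp.yon S).map (sigmaOverι Uk k) ≫ (AlgSp.yon S).map d ≫ p₁ = _
    rw [← Functor.map_comp_assoc, hd]
  -- the chart is etale surjective
  have hde : Etale d.left := by
    change Etale (Sigma.desc (fun k => (ιk k).left))
    exact IsZariskiLocalAtSource.sigmaDesc (fun k => by
      change Etale (k.1 : U₁.left.Opens).ι
      infer_instance)
  have hds : Surjective d.left := by
    change Surjective (Sigma.desc (fun k => (ιk k).left))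
    refine Surjective.sigmaDesc_of_union_range_eq_univ ?_
    rw [Set.eq_univ_iff_forall]
    intro x
    obtain ⟨_, ⟨V', hV', rfl⟩, hxV', -⟩ :=
      U₁.left.isBasis_affineOpens.exists_subset_of_mem_open (Set.mem_univ x) isOpen_univ
    refine Set.mem_iUnion.2 ⟨⟨V', hV'⟩, ?_⟩
    change x ∈ Set.range (resι U₁ V').left
    exact ⟨⟨x, hxV'⟩, rfl⟩
  have hpe : AlgSp.RepWith @Etale p := by
    have := AlgSp.repWith_isMultiplicative (S := S) @Etale
    exact (AlgSp.RepWith @Etale).comp_mem _ _ ((AlgSp.repWith_yon_map_iff @Etale d).2 hde) hp₁e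
  have hps : AlgSp.RepWith @Surjective p := by
    have := AlgSp.repWith_isMultiplicative (S := S) @Surjective
    exact (AlgSp.RepWith @Surjective).comp_mem _ _
      ((AlgSp.repWith_yon_map_iff @Surjective d).2 hds) hp₁s
  -- commutativity
  have comm : a ≫ g = (AlgSp.yon S).map h ≫ p := by
    refine Cofan.IsColimit.hom_ext (isColimitYonSigmaOver Wk) _ _ (fun k => ?_)
    calc (AlgSp.yon S).map (sigmaOverι Wk k) ≫ a ≫ g = ak k ≫ g := by
          rw [← Category.assoc, ha]
      _ = (AlgSp.yon S).map (hk k) ≫ pk k := hcommk k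
      _ = (AlgSp.yon S).map (hk k) ≫ (AlgSp.yon S).map (sigmaOverι Uk k) ≫ p := by rw [hpk]
      _ = (AlgSp.yon S).map (sigmaOverι Wk k) ≫ (AlgSp.yon S).map h ≫ p := by
          rw [← Functor.map_comp_assoc, ← hh, Functor.map_comp, Category.assoc]
  -- quasi-compactness
  have hqc : QuasiCompact h.left := by
    change QuasiCompact (Sigma.desc (fun k => (hk k ≫ sigmaOverι Uk k).left))
    exact quasiCompact_sigmaDesc (fun k => (Wk k).left) (fun k => (Uk k).left)
      (fun k => (hk k).left)
  -- the epimorphism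
  have hepi : Epi (pullback.lift a ((AlgSp.yon S).map h) comm :
      (AlgSp.yon S).obj W ⟶ pullback g p) := by
    set q : (AlgSp.yon S).obj W ⟶ pullback g p := pullback.lift a ((AlgSp.yon S).map h) comm
    have hq1 : q ≫ pullback.fst g p = a := pullback.lift_fst _ _ _
    have hq2 : q ≫ pullback.snd g p = (AlgSp.yon S).map h := pullback.lift_snd _ _ _
    -- the maps from the pieces
    have hjw : ∀ k, pullback.fst g (pk k) ≫ g =
        (pullback.snd g (pk k) ≫ (AlgSp.yon S).map (sigmaOverι Uk k)) ≫ p := fun k => by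
      rw [Category.assoc, hpk, pullback.condition]
    let jk : ∀ k, pullback g (pk k) ⟶ pullback g p := fun k =>
      pullback.lift (pullback.fst g (pk k))
        (pullback.snd g (pk k) ≫ (AlgSp.yon S).map (sigmaOverι Uk k)) (hjw k)
    have hjk1 : ∀ k, jk k ≫ pullback.fst g p = pullback.fst g (pk k) := fun k =>
      pullback.lift_fst _ _ _
    have hjk2 : ∀ k, jk k ≫ pullback.snd g p =
        pullback.snd g (pk k) ≫ (AlgSp.yon S).map (sigmaOverι Uk k) := fun k =>
      pullback.lift_snd _ _ _
    have hcj : ∀ k, ck k ≫ jk k = (AlgSp.yon S).map (sigmaOverι Wk k) ≫ q := fun k => by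
      apply pullback.hom_ext
      · rw [Category.assoc, hjk1, Category.assoc, hq1, ha]
      · rw [Category.assoc, hjk2, Category.assoc, hq2, ← Functor.map_comp, hh, Functor.map_comp,
          ← Category.assoc, hhk]
    constructor
    intro G φ ψ hφψ
    have hjφψ : ∀ k, jk k ≫ φ = jk k ≫ ψ := fun k => by
      haveI := hckepi k
      rw [← cancel_epi (ck k), ← Category.assoc, ← Category.assoc, hcj, Category.assoc,
        Category.assoc, hφψ]
    refine hom_ext_points φ ψ (fun T x => ?_)
    let b : T ⟶ U := (AlgSp.yon S).preimage (x ≫ pullback.snd g p)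
    have hb : (AlgSp.yon S).map b = x ≫ pullback.snd g p := (AlgSp.yon S).map_preimage _
    -- the open cover of `T` by the preimages of the `U_k`
    let Tk : U₁.left.affineOpens → Over S := fun k =>
      Over.mk (pullback.fst b.left (Sigma.ι (fun k => (Uk k).left) k) ≫ T.hom)
    let fk : ∀ k, Tk k ⟶ T := fun k => Over.homMk (pullback.fst b.left _) rfl
    let bk : ∀ k, Tk k ⟶ Uk k := fun k => Over.homMk (pullback.snd b.left _) (by
      change pullback.snd b.left _ ≫ (Uk k).hom = pullback.fst b.left _ ≫ T.hom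
      have h1 : (Uk k).hom = Sigma.ι (fun k => (Uk k).left) k ≫ U.hom :=
        (Over.w (sigmaOverι Uk k)).symm
      rw [h1, ← pullback.condition_assoc, Over.w b])
    have hfb : ∀ k, fk k ≫ b = bk k ≫ sigmaOverι Uk k := fun k => by
      ext
      exact pullback.condition
    have hcov : Sieve.ofArrows Tk fk ∈ AlgSp.J S T := by
      apply mem_J_of_fppf
      · intro t
        obtain ⟨k, u, hu⟩ := (sigmaOpenCover (fun k => (Uk k).left)).exists_eq (b.left t)
        obtain ⟨z, hz, -⟩ := Scheme.Pullback.exists_preimage_pullback (f := b.left)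
          (g := Sigma.ι (fun k => (Uk k).left) k) t u hu.symm
        exact ⟨k, z, hz⟩
      · intro k
        change Flat (pullback.fst b.left _)
        infer_instance
      · intro k
        change LocallyOfFinitePresentation (pullback.fst b.left _)
        infer_instance
    refine hom_ext_of_cover Tk fk hcov _ _ (fun k => ?_)
    -- lift to the piece
    have hyw : ((AlgSp.yon S).map (fk k) ≫ x ≫ pullback.fst g p) ≫ g =
        (AlgSp.yon S).map (bk k) ≫ pk k := by
      rw [Category.assoc, Category.assoc, pullback.condition, ← Category.assoc x, ← hb,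
        ← Functor.map_comp_assoc, hfb, Functor.map_comp, Category.assoc, hpk]
    let yk : (AlgSp.yon S).obj (Tk k) ⟶ pullback g (pk k) :=
      pullback.lift ((AlgSp.yon S).map (fk k) ≫ x ≫ pullback.fst g p)
        ((AlgSp.yon S).map (bk k)) hyw
    have hyk : yk ≫ jk k = (AlgSp.yon S).map (fk k) ≫ x := by
      apply pullback.hom_ext
      · rw [Category.assoc, hjk1, pullback.lift_fst, Category.assoc]
      · rw [Category.assoc, hjk2, ← Category.assoc, pullback.lift_snd, Category.assoc, ← hb,
          ← Functor.map_comp, ← Functor.map_comp, hfb]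
    rw [← Category.assoc, ← Category.assoc, ← hyk, Category.assoc, Category.assoc, hjφψ]
  exact ⟨⟨U, p, W, a, h, hpe, hps, comm, hqc, hepi⟩⟩

end Groth.Agent.R2.H95.QcCh
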