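import Mathlib
import Groth.Agent.S9964
import Groth.Agent.S10281
import Groth.Agent.S10260
import Groth.Agent.R2.H93FinFib
import Groth.Agent.R2.H93ProperLqf
import Groth.Agent.R2.H93MonoLft

/-!
# helper93: a proper family whose fibre over a point collapses to finitely many points of `Y` has image
finite over a neighbourhood of the point (Stacks 0AEJ-type), via scheme theoretic images.
-/

set_option autoImplicit false
set_option linter.style.haveILetI false
universe u

namespace Groth.Agent.R2.H93.Collapse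

open AlgebraicGeometry CategoryTheory CategoryTheory.Limits AlgSp
open Groth.Agent.R2.H45.GrpLocus Groth.Agent.R2.H45.RelDim

variable {S : Scheme.{u}}

/-- a monomorphism of algebraic spaces is injective on points. -/
theorem injective_map_of_mono {A B : AlgSp.Sp S} (hA : AlgSp.IsAlgSpace A) (hB : AlgSp.IsAlgSpace B)
    (m : A ⟶ B) (hm : Mono m) : Function.Injective (AlgSp.Points.map m) :=
  Groth.Agent.R2.H93.MonoLft.isUnivInjectiveMor_of_mono (X := ⟨A, hA⟩) (Y := ⟨B, hB⟩)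
    (ObjectProperty.homMk m) hm hB (𝟙 _) (𝟙 _) m (IsPullback.id_horiz m)

/-- every point of `Spec K` maps to the class of the field point. -/
theorem map_toHom_eq {B : AlgSp.Sp S} (k : AlgSp.FieldPt B)
    (t : AlgSp.Points ((AlgSp.yon S).obj k.pt)) : AlgSp.Points.map k.toHom t = AlgSp.Points.mk k := by
  rw [← AlgSp.Points.ofScheme_toScheme k.pt t, ← AlgSp.Points.ofPt_eq_map_ofScheme,
    AlgSp.Points.ofPt_toHom]

/-- case (a): finiteness of the fibre of the image. -/
theorem finite_fibre_a {X Y B Z0 : AlgSp.Space S} (h : X ⟶ Y) (g : Y ⟶ B) (i0 : Z0 ⟶ Y)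
    (h0 : X ⟶ Z0) (fac : h0 ≫ i0 = h) (hmono : Mono i0.hom)
    (hsurj : AlgSp.IsSurjectiveMor h0.hom) (k : AlgSp.FieldPt B.obj)
    (h3 : ∀ (Yk : AlgSp.Sp S) (gY : Yk ⟶ Y.obj) (sY : Yk ⟶ (AlgSp.yon S).obj k.pt),
      IsPullback gY sY g.hom k.toHom →
      ∀ (Xk : AlgSp.Sp S) (gX : Xk ⟶ X.obj) (hk' : Xk ⟶ Yk), IsPullback gX hk' h.hom gY →
        (Set.range (AlgSp.Points.map hk')).Finite) :
    Finite (AlgSp.Points (pullback (i0 ≫ g).hom k.toHom)) := by
  have hT : AlgSp.IsAlgSpace ((AlgSp.yon S).obj k.pt) := AlgSp.IsAlgSpace.yon_obj _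
  have sqY := IsPullback.of_hasPullback g.hom k.toHom
  have sqX := IsPullback.of_hasPullback h.hom (pullback.fst g.hom k.toHom)
  have hfinr := h3 _ _ _ sqY _ _ _ sqX
  have sqZ := IsPullback.of_hasPullback (i0 ≫ g).hom k.toHom
  have hYk : AlgSp.IsAlgSpace (pullback g.hom k.toHom) :=
    Groth.Agent.S9874.isAlgSpace_of_isPullback B.property.diag Y.property hT sqY
  have hZk : AlgSp.IsAlgSpace (pullback (i0 ≫ g).hom k.toHom) :=
    Groth.Agent.S9874.isAlgSpace_of_isPullback B.property.diag Z0.property hT sqZ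
  have hfac : h0.hom ≫ i0.hom = h.hom := congrArg (·.hom) fac
  -- the closed immersion of the fibres
  have cz : (pullback.fst (i0 ≫ g).hom k.toHom ≫ i0.hom) ≫ g.hom =
      pullback.snd (i0 ≫ g).hom k.toHom ≫ k.toHom := by
    rw [Category.assoc]
    exact pullback.condition
  obtain ⟨zY, hzY1, hzY2⟩ : ∃ zY : pullback (i0 ≫ g).hom k.toHom ⟶ pullback g.hom k.toHom,
      zY ≫ pullback.fst g.hom k.toHom = pullback.fst (i0 ≫ g).hom k.toHom ≫ i0.hom ∧
        zY ≫ pullback.snd g.hom k.toHom = pullback.snd (i0 ≫ g).hom k.toHom :=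
    ⟨pullback.lift _ _ cz, pullback.lift_fst _ _ cz, pullback.lift_snd _ _ cz⟩
  have hzYm : Mono zY := by
    refine ⟨fun {T} a b hab => ?_⟩
    apply pullback.hom_ext
    · rw [← cancel_mono i0.hom, Category.assoc, Category.assoc, ← hzY1, ← Category.assoc,
        ← Category.assoc, hab]
    · rw [← hzY2, ← Category.assoc, ← Category.assoc, hab]
  -- the surjection of the fibres
  have cx : (pullback.fst h.hom (pullback.fst g.hom k.toHom) ≫ h0.hom) ≫ (i0 ≫ g).hom =
      (pullback.snd h.hom (pullback.fst g.hom k.toHom) ≫ pullback.snd g.hom k.toHom) ≫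
        k.toHom := by
    show (pullback.fst h.hom (pullback.fst g.hom k.toHom) ≫ h0.hom) ≫ i0.hom ≫ g.hom = _
    rw [Category.assoc, ← Category.assoc h0.hom, hfac, ← Category.assoc, pullback.condition,
      Category.assoc, pullback.condition, Category.assoc]
  obtain ⟨xZ, hxZ1, hxZ2⟩ : ∃ xZ : pullback h.hom (pullback.fst g.hom k.toHom) ⟶
      pullback (i0 ≫ g).hom k.toHom,
      xZ ≫ pullback.fst (i0 ≫ g).hom k.toHom =
        pullback.fst h.hom (pullback.fst g.hom k.toHom) ≫ h0.hom ∧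
      xZ ≫ pullback.snd (i0 ≫ g).hom k.toHom =
        pullback.snd h.hom (pullback.fst g.hom k.toHom) ≫ pullback.snd g.hom k.toHom :=
    ⟨pullback.lift _ _ cx, pullback.lift_fst _ _ cx, pullback.lift_snd _ _ cx⟩
  have hcomp : xZ ≫ zY = pullback.snd h.hom (pullback.fst g.hom k.toHom) := by
    apply pullback.hom_ext
    · rw [Category.assoc, hzY1, ← Category.assoc, hxZ1, Category.assoc, hfac, pullback.condition]
    · rw [Category.assoc, hzY2, hxZ2]
  have big : IsPullback (pullback.fst h.hom (pullback.fst g.hom k.toHom))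
      (xZ ≫ pullback.snd (i0 ≫ g).hom k.toHom) (h0.hom ≫ (i0 ≫ g).hom) k.toHom := by
    have e : h0.hom ≫ (i0 ≫ g).hom = h.hom ≫ g.hom := by
      show h0.hom ≫ i0.hom ≫ g.hom = _
      rw [← Category.assoc, hfac]
    rw [hxZ2, e]
    exact sqX.paste_vert sqY
  have top : IsPullback (pullback.fst h.hom (pullback.fst g.hom k.toHom)) xZ h0.hom
      (pullback.fst (i0 ≫ g).hom k.toHom) := IsPullback.of_bot big hxZ1.symm sqZ
  have hxs : Function.Surjective (AlgSp.Points.map xZ) := by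
    intro z
    obtain ⟨x, hx⟩ := hsurj (AlgSp.Points.map (pullback.fst (i0 ≫ g).hom k.toHom) z)
    obtain ⟨p, -, hp⟩ := Groth.Agent.S10175.exists_point_of_isPullback top x z hx
    exact ⟨p, hp⟩
  have hinj := injective_map_of_mono hZk hYk zY hzYm
  have himg : (AlgSp.Points.map zY '' Set.univ).Finite := by
    refine hfinr.subset ?_
    rintro _ ⟨z, -, rfl⟩
    obtain ⟨p, rfl⟩ := hxs z
    exact ⟨p, by rw [← hcomp, AlgSp.Points.map_comp]⟩
  exact Set.finite_univ_iff.1 (Set.Finite.of_finite_image himg hinj.injOn)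


/-- case (b): finiteness of the fibre of the image over a monomorphic field point. -/
theorem finite_fibre_b {X Y B Z0 : AlgSp.Space S} (h : X ⟶ Y) (f : X ⟶ B) (g : Y ⟶ B)
    (hc : h ≫ g = f) (i0 : Z0 ⟶ Y)
    (h0 : X ⟶ Z0) (fac : h0 ≫ i0 = h) (hmono : Mono i0.hom)
    (hsurj : AlgSp.IsSurjectiveMor h0.hom) (b : AlgSp.Points B.obj)
    (hfinb : (AlgSp.Points.map h.hom '' (AlgSp.Points.map f.hom ⁻¹' {b})).Finite)
    (p : AlgSp.FieldPt B.obj) (hp : AlgSp.Points.mk p = b) (hpm : Mono p.toHom) :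
    Finite (AlgSp.Points (pullback (i0 ≫ g).hom p.toHom)) := by
  have hT : AlgSp.IsAlgSpace ((AlgSp.yon S).obj p.pt) := AlgSp.IsAlgSpace.yon_obj _
  have sqZ := IsPullback.of_hasPullback (i0 ≫ g).hom p.toHom
  have hZp : AlgSp.IsAlgSpace (pullback (i0 ≫ g).hom p.toHom) :=
    Groth.Agent.S9874.isAlgSpace_of_isPullback B.property.diag Z0.property hT sqZ
  haveI := hpm
  haveI := hmono
  have hm : Mono (pullback.fst (i0 ≫ g).hom p.toHom ≫ i0.hom) := mono_comp _ _
  have hinj := injective_map_of_mono hZp Y.property _ hm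
  have himg : (AlgSp.Points.map (pullback.fst (i0 ≫ g).hom p.toHom ≫ i0.hom) '' Set.univ).Finite := by
    refine hfinb.subset ?_
    rintro _ ⟨z, -, rfl⟩
    obtain ⟨x, hx⟩ := hsurj (AlgSp.Points.map (pullback.fst (i0 ≫ g).hom p.toHom) z)
    refine ⟨x, ?_, ?_⟩
    · show AlgSp.Points.map f.hom x = b
      have e1 : f.hom = h0.hom ≫ (i0 ≫ g).hom := by
        rw [← hc, ← fac]
        rfl
      rw [e1, AlgSp.Points.map_comp, hx, ← AlgSp.Points.map_comp, pullback.condition,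
        AlgSp.Points.map_comp, map_toHom_eq, hp]
    · have e2 : h.hom = h0.hom ≫ i0.hom := by
        rw [← fac]
        rfl
      rw [e2, AlgSp.Points.map_comp, hx, ← AlgSp.Points.map_comp]
  exact Set.finite_univ_iff.1 (Set.Finite.of_finite_image himg hinj.injOn)

/-- Stacks 0AEJ-type statement. -/
theorem main {X Y B : AlgSp.Space S} (h : X ⟶ Y) (f : X ⟶ B) (g : Y ⟶ B) (hc : h ≫ g = f)
    (b : AlgSp.Points B.obj) (k : AlgSp.FieldPt B.obj) (hk : AlgSp.Points.mk k = b)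
    (hf : AlgSp.IsProperMor f.hom) (hg1 : AlgSp.IsSeparatedMor g.hom)
    (hg2 : AlgSp.LocP @LocallyOfFiniteType g.hom)
    (h3 : (∀ (Yk : AlgSp.Sp S) (gY : Yk ⟶ Y.obj) (sY : Yk ⟶ (AlgSp.yon S).obj k.pt),
            IsPullback gY sY g.hom k.toHom →
            ∀ (Xk : AlgSp.Sp S) (gX : Xk ⟶ X.obj) (hk' : Xk ⟶ Yk), IsPullback gX hk' h.hom gY →
              (Set.range (AlgSp.Points.map hk')).Finite) ∨
          ((AlgSp.Points.map h.hom '' (AlgSp.Points.map f.hom ⁻¹' {b})).Finite ∧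
            AlgSp.IsDecent B.obj)) :
    ∃ (B' : AlgSp.Space S) (j : B' ⟶ B), AlgSp.RepWith @IsOpenImmersion j.hom ∧
      b ∈ Set.range (AlgSp.Points.map j.hom) ∧
        ∀ (YB : AlgSp.Space S) (gY : YB ⟶ Y) (sY : YB ⟶ B'),
          IsPullback gY.hom sY.hom g.hom j.hom →
          ∀ (XB : AlgSp.Space S) (gX : XB ⟶ X) (hB : XB ⟶ YB),
            IsPullback gX.hom hB.hom h.hom gY.hom →
            ∃ (Z : AlgSp.Space S) (i : Z ⟶ YB) (e : XB ⟶ Z),
              AlgSp.RepWith @IsClosedImmersion i.hom ∧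
              AlgSp.IsFiniteMor (i ≫ sY).hom ∧ e ≫ i = hB := by
  obtain ⟨Z0, i0, hZ⟩ := Groth.Agent.S9964.result h
  obtain ⟨h0', hfac'⟩ := hZ.2.1
  obtain ⟨h0, rfl⟩ : ∃ h0 : X ⟶ Z0, h0.hom = h0' := ⟨ObjectProperty.homMk h0', rfl⟩
  have fac : h0 ≫ i0 = h := by
    ext1
    exact hfac'
  obtain ⟨hprop, hsurj⟩ := Groth.Agent.S10281.result h f g hc hf hg1 hg2 i0 hZ h0 fac
  have hmono : Mono i0.hom :=
    Groth.Agent.S9928.mono_of_repWith @IsClosedImmersion
      (fun _ _ φ hφ => by haveI : IsClosedImmersion φ := hφ; infer_instance) i0.hom hZ.1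
  have hq : ∀ z : AlgSp.Points Z0.obj, AlgSp.Points.map (i0 ≫ g).hom z = b →
      AlgSp.HasAtMor Qlqf (i0 ≫ g).hom z := by
    rcases h3 with h3a | ⟨h3b, hdec⟩
    · intro z hz
      have hfin := finite_fibre_a h g i0 h0 fac hmono hsurj k h3a
      exact Groth.Agent.R2.H93.FinFib.hasAtMor_qlqf_of_finite_fibre (i0 ≫ g) hprop.1 hprop.2.1.1
        hprop.2.1.2 k _ _ _ (IsPullback.of_hasPullback _ _) hfin z (hz.trans hk.symm)
    · obtain ⟨p, hp, hpm, -⟩ := hdec b
      intro z hz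
      have hfin := finite_fibre_b h f g hc i0 h0 fac hmono hsurj b h3b p hp hpm
      exact Groth.Agent.R2.H93.FinFib.hasAtMor_qlqf_of_finite_fibre (i0 ≫ g) hprop.1 hprop.2.1.1
        hprop.2.1.2 p _ _ _ (IsPullback.of_hasPullback _ _) hfin z (hz.trans hp.symm)
  obtain ⟨B', j, hj, hb, hfinB⟩ := Groth.Agent.R2.H93.ProperLqf.exists_open_finite_of
    (fun φ h1 h2 => Groth.Agent.S10260.result φ h1 h2) (i0 ≫ g) b hprop hq
  refine ⟨B', j, hj, hb, fun YB gY sY sqYB XB gX hB sqXB => ?_⟩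
  have sqZ := IsPullback.of_hasPullback i0.hom gY.hom
  have hZalg : AlgSp.IsAlgSpace (pullback i0.hom gY.hom) :=
    Groth.Agent.S9874.isAlgSpace_of_isPullback Y.property.diag Z0.property YB.property sqZ
  let Z : AlgSp.Space S := ⟨pullback i0.hom gY.hom, hZalg⟩
  let i : Z ⟶ YB := ObjectProperty.homMk (pullback.snd i0.hom gY.hom)
  let zfst : Z ⟶ Z0 := ObjectProperty.homMk (pullback.fst i0.hom gY.hom)
  have hi : AlgSp.RepWith @IsClosedImmersion i.hom :=
    MorphismProperty.of_isPullback (P := AlgSp.RepWith @IsClosedImmersion) sqZ hZ.1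
  have ce : (gX.hom ≫ h0.hom) ≫ i0.hom = hB.hom ≫ gY.hom := by
    rw [Category.assoc, hfac', sqXB.w]
  let e : XB ⟶ Z := ObjectProperty.homMk (pullback.lift (gX.hom ≫ h0.hom) hB.hom ce)
  have he : e ≫ i = hB := by
    ext1
    exact pullback.lift_snd _ _ ce
  have sqBig : IsPullback zfst.hom (i ≫ sY).hom (i0 ≫ g).hom j.hom := sqZ.paste_vert sqYB
  exact ⟨Z, i, e, hi, hfinB Z zfst (i ≫ sY) sqBig, he⟩

end Groth.Agent.R2.H93.Collapse
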