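import Mathlib
import Groth.Agent.Lib.Helper3FibCritSch
import Groth.Agent.Lib.Helper5FiberBC

/-!
# helper93: the flat locus of `X ⟶ Y` over `Z` commutes with base change `Z' ⟶ Z`

For `f : X ⟶ Y`, `h : Y ⟶ Z` with `f ≫ h` locally of finite presentation, `h` locally of finite type,
and cartesian squares `Y' = Y ×_Z Z'`, `X' = X ×_Y Y'`:
if `f ≫ h` is flat at `pX x'` and `f'` is flat at `x'` then `f` is flat at `pX x'`
(`flat_stalkMap_of_flat_baseChange`), by the fibre criterion.
-/

set_option autoImplicit false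
set_option linter.style.haveILetI false
universe u

namespace Groth.Agent.R2.H93.FlatBC

open AlgebraicGeometry CategoryTheory CategoryTheory.Limits
  Groth.Agent.Lib.Helper3.FibCritSch Groth.Agent.Lib.Helper5

theorem flat_stalkMap_congr_point {X Y : Scheme.{u}} (f : X ⟶ Y) {p q : X} (e : p = q)
    (h : (f.stalkMap p).hom.Flat) : (f.stalkMap q).hom.Flat := by
  subst e; exact h

/-- the fibre criterion at an arbitrary point of the fibre. -/
theorem flat_stalkMap_of_flat_of_fiberMap_at {X Y S : Scheme.{u}} (f : X ⟶ Y) (g : Y ⟶ S)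
    [LocallyOfFinitePresentation (f ≫ g)] [LocallyOfFiniteType g] (x : X) (s : S)
    (w : (f ≫ g).fiber s) (hw : (f ≫ g).fiberι s w = x)
    (hflat : ((f ≫ g).stalkMap x).hom.Flat)
    (hfib : ((MoreMor.fiberMap f g s).stalkMap w).hom.Flat) : (f.stalkMap x).hom.Flat := by
  have hs : (f ≫ g) x = s := by
    have : (f ≫ g).fiberι s w ∈ Set.range ((f ≫ g).fiberι s) := ⟨w, rfl⟩
    rw [Scheme.Hom.range_fiberι, hw] at this
    exact this
  subst hs
  have hw' : w = (f ≫ g).asFiber x := by
    apply ((f ≫ g).fiberι _).isEmbedding.injective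
    rw [hw, Scheme.Hom.fiberι_asFiber]
  subst hw'
  exact flat_stalkMap_of_flat_of_fiberMap f g x hflat hfib

/-- a morphism between spectra of fields is flat. -/
lemma flat_of_fields {K K₀ : Type u} [Field K] [Field K₀]
    (c : Spec (CommRingCat.of K) ⟶ Spec (CommRingCat.of K₀)) : Flat c := by
  rw [← Spec.map_preimage c, HasRingHomProperty.Spec_iff (P := @Flat)]
  algebraize [(Spec.preimage c).hom]
  show Module.Flat K₀ K
  infer_instance

theorem flat_stalkMap_of_flat_baseChange {X Y Z X' Y' Z' : Scheme.{u}} (f : X ⟶ Y) (h : Y ⟶ Z)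
    (g : Z' ⟶ Z) (f' : X' ⟶ Y') (h' : Y' ⟶ Z') (pX : X' ⟶ X) (pY : Y' ⟶ Y)
    (sqY : IsPullback pY h' h g) (sqX : IsPullback pX f' f pY)
    [LocallyOfFinitePresentation (f ≫ h)] [LocallyOfFiniteType h] (x' : X')
    (hflat : ((f ≫ h).stalkMap (pX x')).hom.Flat) (hf' : (f'.stalkMap x').hom.Flat) :
    (f.stalkMap (pX x')).hom.Flat := by
  haveI : LocallyOfFinitePresentation f :=
    Groth.Agent.Lib.Helper6.locallyOfFinitePresentation_of_comp (g := h) inferInstance inferInstance
  haveI : LocallyOfFinitePresentation f' :=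
    MorphismProperty.of_isPullback (P := @LocallyOfFinitePresentation) sqX inferInstance
  let z' : Z' := (f' ≫ h') x'
  -- the fibre map of the base change is flat at the point over `x'`
  have hfib' : ((MoreMor.fiberMap f' h' z').stalkMap ((f' ≫ h').asFiber x')).hom.Flat := by
    refine flat_stalkMap_fiberMap_of_flat f' h' z' ((f' ≫ h').asFiber x') ?_
    exact flat_stalkMap_congr_point f' ((f' ≫ h').fiberι_asFiber x').symm hf'
  -- the map between the fibres of `h'` and `h`
  obtain ⟨φY, hφYpb, hφY⟩ : ∃ φY : h'.fiber z' ⟶ h.fiber (g z'),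
      IsPullback φY (h'.fiberToSpecResidueField z') (h.fiberToSpecResidueField (g z'))
        (Spec.map (g.residueFieldMap z')) ∧ φY ≫ h.fiberι (g z') = h'.fiberι z' ≫ pY :=
    ⟨_, isPullback_fiberToSpecResidueField_of_isPullback sqY z', pullback.lift_fst _ _ _⟩
  haveI : Flat (Spec.map (g.residueFieldMap z')) :=
    flat_of_fields (K := Z'.residueField z') (K₀ := Z.residueField (g z')) _
  haveI : Flat φY := MorphismProperty.of_isPullback (P := @Flat) hφYpb.flip inferInstance
  -- the cube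
  have sq1 : IsPullback ((f' ≫ h').fiberι z') (MoreMor.fiberMap f' h' z') f' (h'.fiberι z') :=
    Groth.Agent.Lib.Helper3.BaseMap.isPullback_baseMap f' h' (Z'.fromSpecResidueField z')
  have sq2 : IsPullback ((f ≫ h).fiberι (g z')) (MoreMor.fiberMap f h (g z')) f (h.fiberι (g z')) :=
    Groth.Agent.Lib.Helper3.BaseMap.isPullback_baseMap f h (Z.fromSpecResidueField (g z'))
  have big : IsPullback ((f' ≫ h').fiberι z' ≫ pX) (MoreMor.fiberMap f' h' z') f
      (φY ≫ h.fiberι (g z')) := by
    rw [hφY]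
    exact sq1.paste_horiz sqX
  have sqF := IsPullback.of_right' big sq2
  have hφX : sq2.lift ((f' ≫ h').fiberι z' ≫ pX) (MoreMor.fiberMap f' h' z' ≫ φY)
      (by rw [big.w, Category.assoc]) ≫ (f ≫ h).fiberι (g z') = (f' ≫ h').fiberι z' ≫ pX :=
    sq2.lift_fst _ _ _
  have hfib : ((MoreMor.fiberMap f h (g z')).stalkMap
      (sq2.lift ((f' ≫ h').fiberι z' ≫ pX) (MoreMor.fiberMap f' h' z' ≫ φY)
        (by rw [big.w, Category.assoc]) ((f' ≫ h').asFiber x'))).hom.Flat :=
    FiberBC.flat_stalkMap_of_isPullback_of_flat sqF ((f' ≫ h').asFiber x') hfib'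
      (Flat.stalkMap φY _)
  refine flat_stalkMap_of_flat_of_fiberMap_at f h (pX x') (g z') _ ?_ hflat hfib
  rw [← Scheme.Hom.comp_apply, hφX, Scheme.Hom.comp_apply, Scheme.Hom.fiberι_asFiber]

end Groth.Agent.R2.H93.FlatBC
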