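import Mathlib
import Groth.Agent.Lib.Helper5FiberRing
import Groth.Agent.Lib.Helper5FibreLN

/-!
# helper93: Gorenstein fibre rings under essentially étale local extensions

`gor_quot_iff_of_unramified`: for a flat local homomorphism `B → B'` of local rings, essentially of
finite type and with `m_B B' = m_{B'}`, and a proper ideal `I` of `B`:
`B'/IB'` is a Gorenstein local ring iff `B/I` is.
-/

set_option autoImplicit false
set_option linter.style.haveILetI false
universe u

namespace Groth.Agent.R2.H93.GorRing

open IsLocalRing LocCoh Groth.Agent.Lib.Helper5 Groth.Agent.Lib.Helper5.FiberRing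
  Groth.Agent.Lib.Helper28

theorem gor_quot_iff_of_unramified {B B' : Type u} [CommRing B] [CommRing B'] [IsLocalRing B]
    [IsLocalRing B'] [Algebra B B'] [IsLocalHom (algebraMap B B')] [Module.Flat B B']
    [Algebra.EssFiniteType B B']
    (hm : (maximalIdeal B).map (algebraMap B B') = maximalIdeal B') (I : Ideal B) (hI : I ≠ ⊤) :
    IsGorensteinLocalRing (B' ⧸ I.map (algebraMap B B')) ↔ IsGorensteinLocalRing (B ⧸ I) := by
  haveI hS : IsLocalRing (B ⧸ I) := isLocalRing_quotient hI
  have hJne : I.map (algebraMap B B') ≠ ⊤ := map_ne_top_of_isLocalHom I hI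
  haveI hT : IsLocalRing (B' ⧸ I.map (algebraMap B B')) := isLocalRing_quotient hJne
  haveI hlocST := isLocalHom_quotient_map (A := B) (A' := B') I
  haveI hflatST := flat_quotient_map' (A := B) (A' := B') I
  haveI : Module.FaithfullyFlat (B ⧸ I) (B' ⧸ I.map (algebraMap B B')) :=
    Module.FaithfullyFlat.of_flat_of_isLocalHom
  have hfield : IsGorensteinLocalRing (B' ⧸ (maximalIdeal B).map (algebraMap B B')) := by
    rw [hm]
    exact GorRing.gorLocal_of_field (ResidueField B')
  constructor
  · intro h
    haveI : IsNoetherianRing (B' ⧸ I.map (algebraMap B B')) := h.toIsNoetherian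
    haveI : IsNoetherianRing (B ⧸ I) :=
      Groth.Agent.Lib.Helper5.FibreLN.isNoetherianRing_of_faithfullyFlat (B ⧸ I)
        (B' ⧸ I.map (algebraMap B B'))
    exact ((quot_iff (A₀ := B) (B₀ := B') flatLocalIff_gor I hI).mp h).1
  · intro h
    haveI : IsNoetherianRing (B ⧸ I) := h.toIsNoetherian
    haveI : IsNoetherianRing (B' ⧸ I.map (algebraMap B B')) :=
      Algebra.EssFiniteType.isNoetherianRing (B ⧸ I) (B' ⧸ I.map (algebraMap B B'))
    exact (quot_iff (A₀ := B) (B₀ := B') flatLocalIff_gor I hI).mpr ⟨h, hfield⟩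

end Groth.Agent.R2.H93.GorRing
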