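import Mathlib
import Groth.Prelude.Def_Dual3
import Groth.Agent.R2.H93GorRing
import Groth.Agent.R2.H93HenselEtaleSch
import Groth.Agent.R2.H45HasAtMor
import Groth.Agent.Lib.Helper5FiberMor
import Groth.Agent.Lib.Helper5FiberBC

/-!
# helper93: `Dual3.IsGorensteinAt` is étale local on the source and target

* `gorAt_comp_etale_source`: for `a : U' ⟶ U` étale, `a ≫ h` is Gorenstein at `u'` iff `h` is at `a u'`.
* `flat_of_comp_etale_target`, `gorAt_comp_etale_target`: for `b : V' ⟶ V` étale, `h' ≫ b` is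
  Gorenstein at `u'` iff `h'` is.
* `etSqInv_gorAt`, `etSqInv_flatAt`: the properties are étale local on the source-and-target.
-/

set_option autoImplicit false
set_option linter.style.haveILetI false
universe u

namespace Groth.Agent.R2.H93.GorSch

open IsLocalRing AlgebraicGeometry CategoryTheory CategoryTheory.Limits LocCoh
  Groth.Agent.Lib.Helper5 Groth.Agent.Lib.Helper5.FiberMor Groth.Agent.Lib.Helper5.FiberRing
  Groth.Agent.R2.H93.HenselEtale

/-- the fibre local ring criterion in terms of `O_{X,x}/m_{f x}O_{X,x}`. -/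
theorem gorAt_iff {X Y : Scheme.{u}} (f : X ⟶ Y) (x : X) :
    Dual3.IsGorensteinAt f x ↔ (f.stalkMap x).hom.Flat ∧
      IsGorensteinLocalRing (X.presheaf.stalk x ⧸
        (maximalIdeal (Y.presheaf.stalk (f x))).map (f.stalkMap x).hom) := by
  unfold Dual3.IsGorensteinAt
  rw [fiber_stalk_iff (P := fun R _ => IsGorensteinLocalRing R) f x isoInv_gor]

theorem gorAt_comp_etale_source {U' U V : Scheme.{u}} (a : U' ⟶ U) [Etale a] (h : U ⟶ V)
    (u' : U') : Dual3.IsGorensteinAt (a ≫ h) u' ↔ Dual3.IsGorensteinAt h (a u') := by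
  have hafl : (a.stalkMap u').hom.Flat := Flat.stalkMap a u'
  have hI : (maximalIdeal (V.presheaf.stalk ((a ≫ h) u'))).map ((a ≫ h).stalkMap u').hom =
      ((maximalIdeal (V.presheaf.stalk (h (a u')))).map (h.stalkMap (a u')).hom).map
        (a.stalkMap u').hom := by
    rw [Scheme.Hom.stalkMap_comp]
    exact (Ideal.map_map _ _).symm
  have hne : (maximalIdeal (V.presheaf.stalk (h (a u')))).map (h.stalkMap (a u')).hom ≠ ⊤ :=
    (IsLocalRing.map_maximalIdeal_lt_top _).ne
  have key : IsGorensteinLocalRing (U'.presheaf.stalk u' ⧸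
        ((maximalIdeal (V.presheaf.stalk (h (a u')))).map (h.stalkMap (a u')).hom).map
          (a.stalkMap u').hom) ↔
      IsGorensteinLocalRing (U.presheaf.stalk (a u') ⧸
        (maximalIdeal (V.presheaf.stalk (h (a u')))).map (h.stalkMap (a u')).hom) := by
    have hess : (a.stalkMap u').hom.EssFiniteType := LocallyOfFiniteType.stalkMap a u'
    letI := (a.stalkMap u').hom.toAlgebra
    haveI : IsLocalHom (algebraMap (U.presheaf.stalk (a u')) (U'.presheaf.stalk u')) :=
      inferInstanceAs (IsLocalHom (a.stalkMap u').hom)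
    haveI : Module.Flat (U.presheaf.stalk (a u')) (U'.presheaf.stalk u') := hafl
    haveI : Algebra.EssFiniteType (U.presheaf.stalk (a u')) (U'.presheaf.stalk u') := hess
    exact Groth.Agent.R2.H93.GorRing.gor_quot_iff_of_unramified
      (map_maximalIdeal_stalkMap a u') _ hne
  rw [gorAt_iff, gorAt_iff]
  constructor
  · rintro ⟨h1, h2⟩
    refine ⟨flat_of_comp a h u' h1 hafl, key.mp ?_⟩
    exact isoInv_gor _ _ (Ideal.quotEquivOfEq hI) h2
  · rintro ⟨h1, h2⟩
    refine ⟨flat_comp a h u' hafl h1, ?_⟩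
    exact isoInv_gor _ _ (Ideal.quotEquivOfEq hI).symm (key.mpr h2)

theorem flat_of_comp_etale_target {U' V' V : Scheme.{u}} (h' : U' ⟶ V') (b : V' ⟶ V) [Etale b]
    (u' : U') (hfl : ((h' ≫ b).stalkMap u').hom.Flat) : (h'.stalkMap u').hom.Flat := by
  have sq := IsPullback.of_hasPullback (h' ≫ b) b
  let s : U' ⟶ pullback (h' ≫ b) b := pullback.lift (𝟙 U') h' (by simp)
  have hs1 : s ≫ pullback.fst (h' ≫ b) b = 𝟙 U' := pullback.lift_fst _ _ _
  have hs2 : s ≫ pullback.snd (h' ≫ b) b = h' := pullback.lift_snd _ _ _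
  haveI : Etale (pullback.fst (h' ≫ b) b) := inferInstance
  haveI : Etale (s ≫ pullback.fst (h' ≫ b) b) := by
    rw [hs1]; infer_instance
  haveI : Etale s := Etale.of_comp s (pullback.fst (h' ≫ b) b)
  have hsu : pullback.fst (h' ≫ b) b (s u') = u' := by
    rw [← Scheme.Hom.comp_apply, hs1]; rfl
  have h1 : ((pullback.snd (h' ≫ b) b).stalkMap (s u')).hom.Flat := by
    refine FiberBC.flat_stalkMap_of_isPullback sq (s u') ?_
    rw [hsu]
    exact hfl
  have h2 : ((s ≫ pullback.snd (h' ≫ b) b).stalkMap u').hom.Flat :=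
    flat_comp s _ u' (Flat.stalkMap s u') h1
  have h3 : ∀ {f g : U' ⟶ V'} (_ : f = g), (f.stalkMap u').hom.Flat → (g.stalkMap u').hom.Flat := by
    rintro f g rfl hh
    exact hh
  exact h3 hs2 h2

theorem gorAt_comp_etale_target {U' V' V : Scheme.{u}} (h' : U' ⟶ V') (b : V' ⟶ V) [Etale b]
    (u' : U') : Dual3.IsGorensteinAt (h' ≫ b) u' ↔ Dual3.IsGorensteinAt h' u' := by
  have hbfl : (b.stalkMap (h' u')).hom.Flat := Flat.stalkMap b (h' u')
  have hI : (maximalIdeal (V.presheaf.stalk ((h' ≫ b) u'))).map ((h' ≫ b).stalkMap u').hom =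
      (maximalIdeal (V'.presheaf.stalk (h' u'))).map (h'.stalkMap u').hom := by
    rw [Scheme.Hom.stalkMap_comp, ← map_maximalIdeal_stalkMap b (h' u')]
    exact (Ideal.map_map _ _).symm
  rw [gorAt_iff, gorAt_iff]
  constructor
  · rintro ⟨h1, h2⟩
    exact ⟨flat_of_comp_etale_target h' b u' h1, isoInv_gor _ _ (Ideal.quotEquivOfEq hI) h2⟩
  · rintro ⟨h1, h2⟩
    exact ⟨flat_comp h' b u' h1 hbfl, isoInv_gor _ _ (Ideal.quotEquivOfEq hI).symm h2⟩

open Groth.Agent.R2.H45.HasAtMor in
/-- `Dual3.IsGorensteinAt` is étale local on the source-and-target. -/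
theorem etSqInv_gorAt : EtSqInv.{u} (fun _ _ h u => Dual3.IsGorensteinAt h u) := by
  intro U U' V V' h h' a b _ _ comm u'
  change Dual3.IsGorensteinAt h' u' ↔ Dual3.IsGorensteinAt h (a u')
  rw [← gorAt_comp_etale_target h' b u', ← gorAt_comp_etale_source a h u', comm]

open Groth.Agent.R2.H45.HasAtMor in
/-- flatness at a point is étale local on the source-and-target. -/
theorem etSqInv_flatAt : EtSqInv.{u} (fun _ _ h u => (h.stalkMap u).hom.Flat) := by
  intro U U' V V' h h' a b _ _ comm u'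
  change (h'.stalkMap u').hom.Flat ↔ (h.stalkMap (a u')).hom.Flat
  have h3 : ∀ {f g : U' ⟶ V} (_ : f = g), (f.stalkMap u').hom.Flat → (g.stalkMap u').hom.Flat := by
    rintro f g rfl hh
    exact hh
  constructor
  · intro h1
    have h2 : ((h' ≫ b).stalkMap u').hom.Flat := flat_comp h' b u' h1 (Flat.stalkMap b (h' u'))
    exact flat_of_comp a h u' (h3 comm h2) (Flat.stalkMap a u')
  · intro h1
    have h2 : ((a ≫ h).stalkMap u').hom.Flat := flat_comp a h u' (Flat.stalkMap a u') h1
    exact flat_of_comp_etale_target h' b u' (h3 comm.symm h2)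

end Groth.Agent.R2.H93.GorSch
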