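import Mathlib
import Groth.Agent.R2.H93MonoLft
import Groth.Agent.R2.H47MonoIso
import Groth.Agent.S10643
import Groth.Agent.S9912
import Groth.Agent.S9947
import Groth.Agent.Lib.Helper15MonoSep

/-!
# helper93: the locus where a morphism is an isomorphism (Stacks 05XD), given the locus where it is
a closed immersion.
-/

set_option autoImplicit false
set_option linter.style.haveILetI false
universe u

namespace Groth.Agent.R2.H93.WhereIso

open AlgebraicGeometry CategoryTheory CategoryTheory.Limits AlgSp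

variable {S : Scheme.{u}}

/-- intersection of two open subspaces, in terms of factorizations. -/
theorem exists_inter {Z : AlgSp.Space S} {W1 W2 : AlgSp.Space S} (w1 : W1 ⟶ Z) (w2 : W2 ⟶ Z)
    (hw1 : AlgSp.RepWith @IsOpenImmersion w1.hom) (hw2 : AlgSp.RepWith @IsOpenImmersion w2.hom) :
    ∃ (W : AlgSp.Space S) (w : W ⟶ Z), AlgSp.RepWith @IsOpenImmersion w.hom ∧
      ∀ (Z' : AlgSp.Space S) (g : Z' ⟶ Z),
        (∃ k : Z' ⟶ W, k ≫ w = g) ↔ ((∃ k1 : Z' ⟶ W1, k1 ≫ w1 = g) ∧ (∃ k2 : Z' ⟶ W2, k2 ≫ w2 = g)) := by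
  have sq0 := IsPullback.of_hasPullback w1.hom w2.hom
  let W : AlgSp.Space S := ⟨pullback w1.hom w2.hom,
    Groth.Agent.S9874.isAlgSpace_of_isPullback Z.property.diag W1.property W2.property sq0⟩
  let p1 : W ⟶ W1 := ObjectProperty.homMk (pullback.fst w1.hom w2.hom)
  let p2 : W ⟶ W2 := ObjectProperty.homMk (pullback.snd w1.hom w2.hom)
  have hp1 : AlgSp.RepWith @IsOpenImmersion p1.hom :=
    MorphismProperty.of_isPullback (P := AlgSp.RepWith @IsOpenImmersion) sq0.flip hw2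
  have hcond : p1 ≫ w1 = p2 ≫ w2 := by
    ext1
    exact pullback.condition
  refine ⟨W, p1 ≫ w1, (AlgSp.RepWith @IsOpenImmersion).comp_mem _ _ hp1 hw1, fun Z' g => ?_⟩
  constructor
  · rintro ⟨k, rfl⟩
    exact ⟨⟨k ≫ p1, by rw [Category.assoc]⟩, ⟨k ≫ p2, by rw [Category.assoc, ← hcond]⟩⟩
  · rintro ⟨⟨k1, h1⟩, ⟨k2, h2⟩⟩
    have e : k1.hom ≫ w1.hom = k2.hom ≫ w2.hom := by
      have e1 := congrArg (fun φ => φ.hom) h1
      have e2 := congrArg (fun φ => φ.hom) h2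
      exact e1.trans e2.symm
    refine ⟨ObjectProperty.homMk (pullback.lift k1.hom k2.hom e), ?_⟩
    rw [← h1]
    ext1
    show pullback.lift k1.hom k2.hom e ≫ (pullback.fst w1.hom w2.hom ≫ w1.hom) = k1.hom ≫ w1.hom
    rw [← Category.assoc, pullback.lift_fst]

/-- a closed immersion of algebraic spaces which is flat and surjective is an isomorphism. -/
theorem isIso_of_closedImmersion_flat_surjective {A B : AlgSp.Space S} (φ : A ⟶ B)
    (h1 : AlgSp.RepWith @IsClosedImmersion φ.hom) (h2 : AlgSp.IsSurjectiveMor φ.hom)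
    (h3 : AlgSp.LocP @Flat φ.hom) : IsIso φ.hom := by
  haveI : Mono φ.hom := Groth.Agent.S9928.mono_of_repWith @IsClosedImmersion
    (fun _ _ g hg => by haveI : IsClosedImmersion g := hg; infer_instance) φ.hom h1
  have hqc : AlgSp.IsQuasiCompactMor φ.hom :=
    (Groth.Agent.S9912.result φ h1.1).1 ⟨h1.1, fun T W c' c κ sq => by
      haveI : IsClosedImmersion κ.left := h1.2 c' c κ sq
      exact (inferInstance : QuasiCompact κ.left)⟩
  exact Groth.Agent.R2.H47.MonoIso.isIso_of_mono_qc_flat_surj A.property B.property φ.hom hqc h3 h2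

/-- an isomorphism is a closed immersion, surjective and flat. -/
theorem of_isIso {A B : AlgSp.Space S} (φ : A ⟶ B) (h : IsIso φ.hom) :
    AlgSp.RepWith @IsClosedImmersion φ.hom ∧ AlgSp.IsSurjectiveMor φ.hom ∧
      AlgSp.LocP @Flat φ.hom := by
  haveI := h
  refine ⟨Groth.Agent.Lib.Helper15MonoSep.repWith_of_isIso @IsClosedImmersion φ.hom, ?_,
    Groth.Agent.S9947.locP_of_repWith_etale @Flat
      (fun g hg => by haveI : Etale g := hg; exact (inferInstance : Flat g)) φ.hom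
      (Groth.Agent.Lib.Helper15MonoSep.repWith_of_isIso @Etale φ.hom)⟩
  intro y
  refine ⟨AlgSp.Points.map (inv φ.hom) y, ?_⟩
  rw [← AlgSp.Points.map_comp, IsIso.inv_hom_id, AlgSp.Points.map_id]

theorem where_isomorphism_of {X Y Z : AlgSp.Space S}
    (f : X ⟶ Y) (p : X ⟶ Z) (q : Y ⟶ Z) (hc : f ≫ q = p)
    (h41 : ∃ (W : AlgSp.Space S) (w : W ⟶ Z), AlgSp.RepWith @IsOpenImmersion w.hom ∧
      ∀ (Z' : AlgSp.Space S) (g : Z' ⟶ Z),
        (∃ k : Z' ⟶ W, k ≫ w = g) ↔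
          ∀ (Y' : AlgSp.Space S) (gY : Y' ⟶ Y) (q' : Y' ⟶ Z'),
            IsPullback gY.hom q'.hom q.hom g.hom →
            ∀ (X' : AlgSp.Space S) (gX : X' ⟶ X) (f' : X' ⟶ Y'),
              IsPullback gX.hom f'.hom f.hom gY.hom →
                AlgSp.RepWith @IsClosedImmersion f'.hom)
    (hp1 : AlgSp.LocP @LocallyOfFinitePresentation p.hom) (hp2 : AlgSp.LocP @Flat p.hom)
    (hp3 : AlgSp.IsUnivClosedMor p.hom) (hq1 : AlgSp.LocP @LocallyOfFiniteType q.hom)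
    (hq2 : AlgSp.IsClosedMor q.hom) :
    ∃ (W : AlgSp.Space S) (w : W ⟶ Z), AlgSp.RepWith @IsOpenImmersion w.hom ∧
      ∀ (Z' : AlgSp.Space S) (g : Z' ⟶ Z),
        (∃ k : Z' ⟶ W, k ≫ w = g) ↔
          ∀ (Y' : AlgSp.Space S) (gY : Y' ⟶ Y) (q' : Y' ⟶ Z'),
            IsPullback gY.hom q'.hom q.hom g.hom →
            ∀ (X' : AlgSp.Space S) (gX : X' ⟶ X) (f' : X' ⟶ Y'),
              IsPullback gX.hom f'.hom f.hom gY.hom →
                IsIso f'.hom := by
  obtain ⟨W1, w1, hw1, hW1⟩ := h41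
  have hpcl : AlgSp.IsClosedMor p.hom :=
    hp3 Z.property (𝟙 _) (𝟙 _) p.hom (IsPullback.id_horiz p.hom)
  obtain ⟨W2, w2, hw2, hW2⟩ := Groth.Agent.S10643.result f p q hc hp1 hp2 hpcl hq1 hq2
  obtain ⟨W, w, hw, hW⟩ := exists_inter w1 w2 hw1 hw2
  refine ⟨W, w, hw, fun Z' g => ?_⟩
  rw [hW Z' g, hW1 Z' g, hW2 Z' g]
  constructor
  · rintro ⟨H1, H2⟩ Y' gY q' sqY X' gX f' sqX
    obtain ⟨h2, h3⟩ := H2 Y' gY q' sqY X' gX f' sqX
    exact isIso_of_closedImmersion_flat_surjective f' (H1 Y' gY q' sqY X' gX f' sqX) h2 h3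
  · intro H
    exact ⟨fun Y' gY q' sqY X' gX f' sqX => (of_isIso f' (H Y' gY q' sqY X' gX f' sqX)).1,
      fun Y' gY q' sqY X' gX f' sqX => (of_isIso f' (H Y' gY q' sqY X' gX f' sqX)).2⟩

end Groth.Agent.R2.H93.WhereIso
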