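import Mathlib
import Groth.Agent.S9906
import Groth.Agent.S9928
import Groth.Agent.S9874
import Groth.Agent.S10210
import Groth.Agent.S10261
import Groth.Agent.S10587
import Groth.Agent.R2.H93MonoLft
import Groth.Agent.R2.H93WhereIso
import Groth.Agent.R2.H44LimDescRep

/-!
# helper93: deformation of isomorphisms, open immersions, monomorphisms, finite locally free
morphisms along thickenings of algebraic spaces (Stacks 0CF4-type statements)

The inputs are the "etale iff" (S10596 / S10599), the "finite iff" (S10610 / S10611) and the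
topological iffs for morphisms of thickenings (S10587).
-/

set_option autoImplicit false
set_option linter.style.haveILetI false
universe u

namespace Groth.Agent.R2.H93.DeformIso

open AlgebraicGeometry CategoryTheory CategoryTheory.Limits AlgSp

variable {S : Scheme.{u}}

/-- an open immersion of algebraic spaces is etale. -/
theorem isEtaleMor_of_openImmersion {X Y : AlgSp.Space S} (f : X ⟶ Y)
    (h : AlgSp.RepWith @IsOpenImmersion f.hom) : AlgSp.IsEtaleMor f.hom := by
  intro U φ hφ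
  exact (AlgSp.repWith_isMultiplicative (S := S) @Etale).comp_mem _ _ hφ
    (Groth.Agent.S10210.repWith_etale_of_isOpenImmersion h)

/-- an open immersion of algebraic spaces is a monomorphism. -/
theorem mono_of_openImmersion {X Y : AlgSp.Space S} (f : X ⟶ Y)
    (h : AlgSp.RepWith @IsOpenImmersion f.hom) : Mono f.hom :=
  Groth.Agent.S9928.mono_of_repWith @IsOpenImmersion
    (fun _ _ g hg => by haveI : IsOpenImmersion g := hg; infer_instance) f.hom h

/-- open immersion ⇔ etale and universally injective. -/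
theorem openImmersion_iff {X Y : AlgSp.Space S} (f : X ⟶ Y) :
    AlgSp.RepWith @IsOpenImmersion f.hom ↔
      (AlgSp.IsEtaleMor f.hom ∧ AlgSp.IsUnivInjectiveMor f.hom) :=
  ⟨fun h => ⟨isEtaleMor_of_openImmersion f h,
    Groth.Agent.R2.H93.MonoLft.isUnivInjectiveMor_of_mono f (mono_of_openImmersion f h)⟩,
   fun h => Groth.Agent.S10261.result f h.1 h.2⟩

/-- isomorphism ⇔ open immersion and surjective. -/
theorem isIso_iff {X Y : AlgSp.Space S} (f : X ⟶ Y) :
    IsIso f.hom ↔ (AlgSp.RepWith @IsOpenImmersion f.hom ∧ AlgSp.IsSurjectiveMor f.hom) := by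
  constructor
  · intro h
    haveI := h
    exact ⟨Groth.Agent.Lib.Helper15MonoSep.repWith_of_isIso @IsOpenImmersion f.hom,
      (Groth.Agent.R2.H93.WhereIso.of_isIso f h).2.1⟩
  · rintro ⟨hopen, hsurj⟩
    have hsurj' : AlgSp.RepWith @Surjective f.hom :=
      (Groth.Agent.S9906.result f hopen.1).2 hsurj
    have hiso : AlgSp.RepWith (MorphismProperty.isomorphisms Scheme.{u}) f.hom := by
      refine ⟨hopen.1, fun T W c' c κ sq => ?_⟩
      have h1 : IsOpenImmersion κ.left := hopen.2 c' c κ sq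
      have h2 : Surjective κ.left := hsurj'.2 c' c κ sq
      have h3 : IsIso κ.left := (isIso_iff_isOpenImmersion_and_surjective _).2 ⟨h1, h2⟩
      exact h3
    exact Groth.Agent.R2.H44.LimDesc.isIso_of_repWith_isomorphisms Y.property _ hiso

/-- the iso and open immersion iffs for a morphism of thickenings, given the etale iff. -/
theorem iso_openImmersion_iff {X X' Y Y' : AlgSp.Space S} (iX : X ⟶ X') (iY : Y ⟶ Y')
    (f : X ⟶ Y) (f' : X' ⟶ Y') (hiX : AlgSp.IsThickMor iX.hom) (hiY : AlgSp.IsThickMor iY.hom)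
    (w : iX ≫ f' = f ≫ iY) (het : AlgSp.IsEtaleMor f.hom ↔ AlgSp.IsEtaleMor f'.hom) :
    (IsIso f.hom ↔ IsIso f'.hom) ∧
      (AlgSp.RepWith @IsOpenImmersion f.hom ↔ AlgSp.RepWith @IsOpenImmersion f'.hom) := by
  obtain ⟨hsurj, -, -, hUI, -⟩ := Groth.Agent.S10587.result iX iY f f' hiX hiY w
  have hopen : AlgSp.RepWith @IsOpenImmersion f.hom ↔ AlgSp.RepWith @IsOpenImmersion f'.hom := by
    rw [openImmersion_iff f, openImmersion_iff f', het, hUI]
  refine ⟨?_, hopen⟩
  rw [isIso_iff f, isIso_iff f', hopen, hsurj]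

/-- the diagonal situation: from a deformation situation `(f, f')` over `iB` one gets a deformation
situation `(Δ_f, Δ_{f'})` over `iB`. -/
theorem diag_situation {X X' Y Y' B B' : AlgSp.Space S} (iX : X ⟶ X') (iY : Y ⟶ Y')
    (iB : B ⟶ B') (f : X ⟶ Y) (f' : X' ⟶ Y') (g : Y ⟶ B) (g' : Y' ⟶ B')
    (hcX : IsPullback iX.hom (f ≫ g).hom (f' ≫ g').hom iB.hom)
    (hcY : IsPullback iY.hom g.hom g'.hom iB.hom) (w : iX ≫ f' = f ≫ iY) :
    ∃ (P P' : AlgSp.Space S) (iP : P ⟶ P') (Δ : X ⟶ P) (Δ' : X' ⟶ P') (g2 : P ⟶ B)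
      (g2' : P' ⟶ B') (p1' p2' : P' ⟶ X'),
      IsPullback p2'.hom p1'.hom f'.hom f'.hom ∧ g2' = p1' ≫ f' ≫ g' ∧
      IsPullback iX.hom (Δ ≫ g2).hom (Δ' ≫ g2').hom iB.hom ∧
      IsPullback iP.hom g2.hom g2'.hom iB.hom ∧ iX ≫ Δ' = Δ ≫ iP ∧ Δ' ≫ g2' = f' ≫ g' ∧
      (Mono f.hom ↔ IsIso Δ.hom) ∧ (Mono f'.hom ↔ IsIso Δ'.hom) := by
  have hw : iX.hom ≫ f'.hom = f.hom ≫ iY.hom := congrArg (fun φ => φ.hom) w
  have sqL : IsPullback iX.hom f.hom f'.hom iY.hom := IsPullback.of_bot hcX hw hcY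
  let P : AlgSp.Space S := ⟨pullback f.hom f.hom, Groth.Agent.R2.H93.MonoLft.isAlgSpace_pullback_self f⟩
  let P' : AlgSp.Space S :=
    ⟨pullback f'.hom f'.hom, Groth.Agent.R2.H93.MonoLft.isAlgSpace_pullback_self f'⟩
  let iPh : pullback f.hom f.hom ⟶ pullback f'.hom f'.hom :=
    pullback.map f.hom f.hom f'.hom f'.hom iX.hom iX.hom iY.hom hw.symm hw.symm
  let iP : P ⟶ P' := ObjectProperty.homMk iPh
  let Δ : X ⟶ P := ObjectProperty.homMk (pullback.diagonal f.hom)
  let Δ' : X' ⟶ P' := ObjectProperty.homMk (pullback.diagonal f'.hom)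
  let p1 : P ⟶ X := ObjectProperty.homMk (pullback.fst f.hom f.hom)
  let p1' : P' ⟶ X' := ObjectProperty.homMk (pullback.fst f'.hom f'.hom)
  let p2' : P' ⟶ X' := ObjectProperty.homMk (pullback.snd f'.hom f'.hom)
  have e1 : iPh ≫ pullback.snd f'.hom f'.hom = pullback.snd f.hom f.hom ≫ iX.hom :=
    pullback.lift_snd _ _ _
  have e2 : iPh ≫ pullback.fst f'.hom f'.hom = pullback.fst f.hom f.hom ≫ iX.hom :=
    pullback.lift_fst _ _ _
  have big : IsPullback (iPh ≫ pullback.snd f'.hom f'.hom) (pullback.fst f.hom f.hom) f'.hom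
      (iX.hom ≫ f'.hom) := by
    rw [e1, hw]
    exact (IsPullback.of_hasPullback f.hom f.hom).flip.paste_horiz sqL
  have sqP : IsPullback iPh (pullback.fst f.hom f.hom) (pullback.fst f'.hom f'.hom) iX.hom :=
    IsPullback.of_right big e2 (IsPullback.of_hasPullback f'.hom f'.hom).flip
  have hcP : IsPullback iPh (pullback.fst f.hom f.hom ≫ (f ≫ g).hom)
      (pullback.fst f'.hom f'.hom ≫ (f' ≫ g').hom) iB.hom := sqP.paste_vert hcX
  have eΔ : Δ ≫ (p1 ≫ f ≫ g) = f ≫ g := by
    ext1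
    show pullback.diagonal f.hom ≫ pullback.fst f.hom f.hom ≫ (f ≫ g).hom = (f ≫ g).hom
    rw [← Category.assoc, pullback.diagonal_fst, Category.id_comp]
  have eΔ' : Δ' ≫ (p1' ≫ f' ≫ g') = f' ≫ g' := by
    ext1
    show pullback.diagonal f'.hom ≫ pullback.fst f'.hom f'.hom ≫ (f' ≫ g').hom = (f' ≫ g').hom
    rw [← Category.assoc, pullback.diagonal_fst, Category.id_comp]
  refine ⟨P, P', iP, Δ, Δ', p1 ≫ f ≫ g, p1' ≫ f' ≫ g', p1', p2',
    (IsPullback.of_hasPullback f'.hom f'.hom).flip, rfl, ?_, hcP, ?_, eΔ',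
    (pullback.isIso_diagonal_iff f.hom).symm, (pullback.isIso_diagonal_iff f'.hom).symm⟩
  · rw [eΔ, eΔ']
    exact hcX
  · ext1
    show iX.hom ≫ pullback.diagonal f'.hom = pullback.diagonal f.hom ≫ iPh
    apply pullback.hom_ext
    · rw [Category.assoc, Category.assoc, pullback.diagonal_fst, e2, ← Category.assoc,
        pullback.diagonal_fst, Category.id_comp, Category.comp_id]
    · rw [Category.assoc, Category.assoc, pullback.diagonal_snd, e1, ← Category.assoc,
        pullback.diagonal_snd, Category.id_comp, Category.comp_id]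

/-- degree `d` deforms: if `f'` is finite locally free and its base change `f` along a thickening
`iY` is finite locally free of degree `d`, then `f'` is finite locally free of degree `d`. -/
theorem finLocFreeOfDeg_of_thick {X X' Y Y' : AlgSp.Space S} (iX : X ⟶ X') (iY : Y ⟶ Y')
    (f : X ⟶ Y) (f' : X' ⟶ Y') (sqL : IsPullback iX.hom f.hom f'.hom iY.hom)
    (hiY : AlgSp.IsThickMor iY.hom) (d : ℕ) (hf : AlgSp.IsFinLocFreeOfDegMor d f.hom)
    (hf' : AlgSp.IsFinLocFreeMor f'.hom) : AlgSp.IsFinLocFreeOfDegMor d f'.hom := by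
  refine ⟨hf'.1, fun U' V' c' fst' snd' sq' => ?_⟩
  have h1 : Mor2.IsFinLocFree snd'.left := hf'.2 c' fst' snd' sq'
  refine ⟨h1, fun y => ?_⟩
  obtain ⟨U, κ, c, sqU⟩ := hiY.1 c'
  have hκ : AlgSp.thick κ.left := hiY.2 c' c κ sqU
  obtain ⟨V, k, a, sqV⟩ := hf.1 c
  have hk : Mor2.IsFinLocFreeOfDeg d k.left := hf.2 c a k sqV
  -- the comparison `V ⟶ V'`
  have hpaste : IsPullback (a ≫ iX.hom) ((AlgSp.yon S).map k) f'.hom
      ((AlgSp.yon S).map κ ≫ c') := by
    rw [← sqU.w]
    exact sqV.paste_horiz sqL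
  obtain ⟨m, hm1, hm2⟩ : ∃ m : (AlgSp.yon S).obj V ⟶ (AlgSp.yon S).obj V',
      m ≫ fst' = a ≫ iX.hom ∧ m ≫ (AlgSp.yon S).map snd' =
        (AlgSp.yon S).map k ≫ (AlgSp.yon S).map κ := by
    refine ⟨sq'.lift (a ≫ iX.hom) ((AlgSp.yon S).map k ≫ (AlgSp.yon S).map κ) ?_,
      sq'.lift_fst _ _ _, sq'.lift_snd _ _ _⟩
    rw [Category.assoc]
    exact hpaste.w
  have sqm : IsPullback m ((AlgSp.yon S).map k) ((AlgSp.yon S).map snd')
      ((AlgSp.yon S).map κ) := by
    refine IsPullback.of_right ?_ hm2 sq'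
    rw [hm1]
    exact hpaste
  obtain ⟨m0, rfl⟩ := (AlgSp.yon S).map_surjective m
  have hw0 : m0 ≫ snd' = k ≫ κ := by
    apply (AlgSp.yon S).map_injective
    rw [Functor.map_comp, Functor.map_comp]
    exact sqm.w
  have sq0 : IsPullback m0.left k.left snd'.left κ.left :=
    (IsPullback.of_map (AlgSp.yon S) hw0 sqm).map (Over.forget S)
  haveI : Flat snd'.left := h1.2.1
  haveI : IsFinite snd'.left := h1.1
  haveI : Surjective κ.left := hκ.2
  obtain ⟨u, rfl⟩ := κ.left.surjective y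
  exact (Scheme.Hom.finrank_of_isPullback m0.left k.left snd'.left κ.left sq0 u).symm.trans
    (hk.2 u)

end Groth.Agent.R2.H93.DeformIso
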