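import Mathlib

/-!
# Formally unramified algebras over an algebraically closed field via dual-number points

If `B` is a finitely generated algebra over an algebraically closed field `k` and two `k`-algebra
maps `B → k[ε]` that agree modulo `ε` are equal, then `B` is formally unramified over `k`.
-/

set_option autoImplicit false
universe u

namespace Groth.Agent.R2.H93.DualNumberUnram

open TensorProduct

/-- the algebra map `b ↦ x b + y b ε` into the dual numbers attached to a ring map `x` and an
`x`-derivation `y` -/
noncomputable def dualLift {k B : Type u} [Field k] [CommRing B] [Algebra k B]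
    (x : B →ₐ[k] k) (y : B →ₗ[k] k) (hy : ∀ a b, y (a * b) = x a * y b + x b * y a) :
    B →ₐ[k] DualNumber k where
  toFun b := TrivSqZeroExt.inl (x b) + TrivSqZeroExt.inr (y b)
  map_one' := by
    have h1 : y 1 = 0 := by
      have := hy 1 1
      simp only [mul_one, map_one, one_mul] at this
      have h2 : y 1 + y 1 = y 1 + 0 := by rw [add_zero]; exact this.symm
      exact add_left_cancel h2
    ext <;> simp [h1]
  map_mul' a b := by
    ext
    · simp
    · simp [hy a b, mul_comm]
  map_zero' := by ext <;> simp
  map_add' a b := by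
    ext <;> simp [add_comm]
  commutes' c := by
    have h1 : y 1 = 0 := by
      have := hy 1 1
      simp only [mul_one, map_one, one_mul] at this
      have h2 : y 1 + y 1 = y 1 + 0 := by rw [add_zero]; exact this.symm
      exact add_left_cancel h2
    have h2 : y (algebraMap k B c) = 0 := by
      rw [Algebra.algebraMap_eq_smul_one, map_smul, h1, smul_zero]
    ext <;> simp [h2, TrivSqZeroExt.algebraMap_eq_inl]

lemma dualLift_fst {k B : Type u} [Field k] [CommRing B] [Algebra k B]
    (x : B →ₐ[k] k) (y : B →ₗ[k] k) (hy : ∀ a b, y (a * b) = x a * y b + x b * y a) (b : B) :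
    TrivSqZeroExt.fst (dualLift x y hy b) = x b := by
  simp [dualLift]

lemma dualLift_snd {k B : Type u} [Field k] [CommRing B] [Algebra k B]
    (x : B →ₐ[k] k) (y : B →ₗ[k] k) (hy : ∀ a b, y (a * b) = x a * y b + x b * y a) (b : B) :
    TrivSqZeroExt.snd (dualLift x y hy b) = y b := by
  simp [dualLift]

/-- main algebraic statement -/
theorem formallyUnramified_of_dualNumber (k B : Type u) [Field k] [IsAlgClosed k] [CommRing B]
    [Algebra k B] [Algebra.FiniteType k B]
    (H : ∀ φ₁ φ₂ : B →ₐ[k] DualNumber k,
      (TrivSqZeroExt.fstHom k k k).comp φ₁ = (TrivSqZeroExt.fstHom k k k).comp φ₂ → φ₁ = φ₂) :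
    Algebra.FormallyUnramified k B := by
  rw [Algebra.formallyUnramified_iff]
  by_contra hne
  rw [not_subsingleton_iff_nontrivial] at hne
  obtain ⟨p, hp⟩ := Module.nonempty_support_of_nontrivial (R := B) (M := Ω[B⁄k])
  obtain ⟨m, hm, hpm⟩ := Ideal.exists_le_maximal p.asIdeal p.2.ne_top
  have hmsupp : (⟨m, hm.isPrime⟩ : PrimeSpectrum B) ∈ Module.support B Ω[B⁄k] :=
    Module.mem_support_mono (show p ≤ ⟨m, hm.isPrime⟩ from hpm) hp
  rw [Module.mem_support_iff_nontrivial_residueField_tensorProduct] at hmsupp
  change Nontrivial (m.ResidueField ⊗[B] Ω[B⁄k]) at hmsupp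
  -- the residue field is `k`
  have hsurj : Function.Surjective (algebraMap B m.ResidueField) := by
    have h1 := (Ideal.bijective_algebraMap_quotient_residueField m).2
    have h2 : (algebraMap B m.ResidueField) =
        (algebraMap (B ⧸ m) m.ResidueField).comp (Ideal.Quotient.mk m) :=
      IsScalarTower.algebraMap_eq B (B ⧸ m) m.ResidueField
    rw [h2]
    exact h1.comp Ideal.Quotient.mk_surjective
  have hft : Algebra.FiniteType k m.ResidueField :=
    Algebra.FiniteType.of_surjective (IsScalarTower.toAlgHom k B m.ResidueField) hsurj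
  have hfin : Module.Finite k m.ResidueField := finite_of_finite_type_of_isJacobsonRing k _
  have hbij : Function.Bijective (algebraMap k m.ResidueField) :=
    IsAlgClosed.algebraMap_bijective_of_isIntegral
  let s : m.ResidueField ≃ₐ[k] k := (AlgEquiv.ofBijective (Algebra.ofId k m.ResidueField) hbij).symm
  -- a nonzero functional
  obtain ⟨v, hv⟩ := exists_ne (0 : m.ResidueField ⊗[B] Ω[B⁄k])
  obtain ⟨lam, hlam⟩ : ∃ lam : Module.Dual m.ResidueField (m.ResidueField ⊗[B] Ω[B⁄k]),
      lam v ≠ 0 := by
    by_contra hcon
    push Not at hcon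
    exact hv ((Module.forall_dual_apply_eq_zero_iff m.ResidueField v).1 hcon)
  -- the derivation
  let l : Ω[B⁄k] →ₗ[B] m.ResidueField :=
    (lam.restrictScalars B).comp (TensorProduct.mk B m.ResidueField Ω[B⁄k] 1)
  let D : Derivation k B m.ResidueField := l.compDer (KaehlerDifferential.D k B)
  have hD : ∃ b, D b ≠ 0 := by
    by_contra hcon
    push Not at hcon
    have hl : l = 0 := by
      apply LinearMap.ext_on_range (KaehlerDifferential.span_range_derivation k B)
      intro b
      exact hcon b
    apply hlam
    have hspan : ∀ w : m.ResidueField ⊗[B] Ω[B⁄k], lam w = 0 := by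
      intro w
      induction w using TensorProduct.induction_on with
      | zero => simp
      | tmul c ω =>
        have h1 : c ⊗ₜ[B] ω = c • ((1 : m.ResidueField) ⊗ₜ[B] ω) := by
          rw [TensorProduct.smul_tmul', smul_eq_mul, mul_one]
        rw [h1, map_smul]
        have h2 : lam ((1 : m.ResidueField) ⊗ₜ[B] ω) = l ω := rfl
        rw [h2, hl, LinearMap.zero_apply, smul_zero]
      | add a b ha hb => rw [map_add, ha, hb, add_zero]
    exact hspan v
  obtain ⟨b₀, hb₀⟩ := hD
  let x : B →ₐ[k] k := (s : m.ResidueField →ₐ[k] k).comp (IsScalarTower.toAlgHom k B m.ResidueField)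
  let y : B →ₗ[k] k := (s.toLinearMap).comp (D : B →ₗ[k] m.ResidueField)
  have hleib : ∀ a b, y (a * b) = x a * y b + x b * y a := by
    intro a b
    change s (D (a * b)) = s (algebraMap B m.ResidueField a) * s (D b) +
      s (algebraMap B m.ResidueField b) * s (D a)
    rw [D.leibniz, map_add, Algebra.smul_def, Algebra.smul_def, map_mul, map_mul]
  have hzero : ∀ a b : B, (0 : B →ₗ[k] k) (a * b) = x a * (0 : B →ₗ[k] k) b +
      x b * (0 : B →ₗ[k] k) a := by
    intro a b
    simp
  have heq := H (dualLift x 0 hzero) (dualLift x y hleib) (by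
    ext b
    change TrivSqZeroExt.fst (dualLift x 0 hzero b) = TrivSqZeroExt.fst (dualLift x y hleib b)
    rw [dualLift_fst, dualLift_fst])
  have h1 := congrArg (fun φ => TrivSqZeroExt.snd (φ b₀)) heq
  simp only [dualLift_snd] at h1
  apply hb₀
  have h2 : s (D b₀) = 0 := h1.symm
  exact (map_eq_zero_iff s s.injective).1 h2

end Groth.Agent.R2.H93.DualNumberUnram
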