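import Mathlib

/-!
# helper93: étale localization splits off a finite clopen piece through finitely many
quasi-finite points of a fibre (schemes), with elementary étale neighbourhoods
(residue field preserved), from Mathlib's `Algebra.exists_etale_isIdempotentElem_forall_liesOver_eq`.
-/

set_option autoImplicit false
set_option linter.style.haveILetI false
universe u

namespace Groth.Agent.R2.H93.SplitMultiSch

open AlgebraicGeometry CategoryTheory CategoryTheory.Limits TensorProduct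

/-- fibre-uniqueness at `u` for base changes of `φ`: a point of a base change of `φ` lying over
`u` is determined by its other projection. -/
def FU {U B : Scheme.{u}} (φ : U ⟶ B) (u : U) : Prop :=
  ∀ ⦃Z P : Scheme.{u}⦄ (q : Z ⟶ B) (p1 : P ⟶ Z) (p2 : P ⟶ U), IsPullback p1 p2 q φ →
    ∀ w w' : P, p2 w = u → p2 w' = u → p1 w = p1 w' → w = w'

theorem iso_hom_injective {A B : Scheme.{u}} (e : A ≅ B) : Function.Injective e.hom := by
  intro a b hab
  have := congrArg e.inv hab
  simpa [← Scheme.Hom.comp_apply] using this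

theorem FU.of_canonical {U B : Scheme.{u}} (φ : U ⟶ B) (u : U)
    (h : ∀ ⦃Z : Scheme.{u}⦄ (q : Z ⟶ B) (w w' : ↥(pullback q φ)), pullback.snd q φ w = u →
      pullback.snd q φ w' = u → pullback.fst q φ w = pullback.fst q φ w' → w = w') : FU φ u := by
  intro Z P q p1 p2 sq w w' hw hw' hww'
  apply iso_hom_injective sq.isoPullback
  apply h q
  · rw [← Scheme.Hom.comp_apply, sq.isoPullback_hom_snd, hw]
  · rw [← Scheme.Hom.comp_apply, sq.isoPullback_hom_snd, hw']
  · rw [← Scheme.Hom.comp_apply, ← Scheme.Hom.comp_apply, sq.isoPullback_hom_fst, hww']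

theorem FU.id {B : Scheme.{u}} (b : B) : FU (𝟙 B) b := by
  intro Z P q p1 p2 sq w w' _ _ hww'
  haveI : IsIso p1 := sq.isIso_fst_of_isIso
  exact iso_hom_injective (asIso p1) hww'

theorem FU.comp {U1 U2 B : Scheme.{u}} {φ1 : U1 ⟶ B} {φ2 : U2 ⟶ U1} {u1 : U1} {u2 : U2}
    (h1 : FU φ1 u1) (h2 : FU φ2 u2) (hu : φ2 u2 = u1) : FU (φ2 ≫ φ1) u2 := by
  intro Z P q p1 p2 sq w w' hw hw' hww'
  have hc : p1 ≫ q = (p2 ≫ φ2) ≫ φ1 := by rw [Category.assoc]; exact sq.w
  let k : P ⟶ pullback q φ1 := pullback.lift p1 (p2 ≫ φ2) hc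
  have hk1 : k ≫ pullback.fst q φ1 = p1 := pullback.lift_fst _ _ _
  have hk2 : k ≫ pullback.snd q φ1 = p2 ≫ φ2 := pullback.lift_snd _ _ _
  have sqL : IsPullback k p2 (pullback.snd q φ1) φ2 :=
    IsPullback.of_right (by rw [hk1]; exact sq) hk2 (IsPullback.of_hasPullback q φ1)
  have hkk : k w = k w' := by
    apply h1 q _ _ (IsPullback.of_hasPullback q φ1)
    · rw [← Scheme.Hom.comp_apply, hk2, Scheme.Hom.comp_apply, hw, hu]
    · rw [← Scheme.Hom.comp_apply, hk2, Scheme.Hom.comp_apply, hw', hu]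
    · rw [← Scheme.Hom.comp_apply, ← Scheme.Hom.comp_apply, hk1, hww']
  exact h2 _ _ _ sqL w w' hw hw' hkk

/-- the affine piece `Spec (R' ⊗ Γ(Z, Z0))` of the base change of `Z ⟶ S` to `Spec R' ⟶ U0 ⊆ S`. -/
theorem affine_piece {Z S : Scheme.{u}} (q : Z ⟶ S) {U0 : S.Opens} (hU0 : IsAffineOpen U0)
    {Z0 : Z.Opens} (hZ0 : IsAffineOpen Z0) (hle : Z0 ≤ q ⁻¹ᵁ U0)
    (R' : Type u) [CommRing R'] [Algebra Γ(S, U0) R'] [Algebra Γ(S, U0) Γ(Z, Z0)]
    (halg : algebraMap Γ(S, U0) Γ(Z, Z0) = (q.appLE U0 Z0 hle).hom) :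
    ∃ gZ : Spec (.of (R' ⊗[Γ(S, U0)] Γ(Z, Z0))) ⟶
        pullback q (Spec.map (CommRingCat.ofHom (algebraMap Γ(S, U0) R')) ≫ hU0.fromSpec),
      IsOpenImmersion gZ ∧
      gZ ≫ pullback.snd _ _ = Spec.map (CommRingCat.ofHom (algebraMap R' (R' ⊗[Γ(S, U0)] Γ(Z, Z0)))) ∧
      gZ ≫ pullback.fst _ _ =
        Spec.map (CommRingCat.ofHom
          (Algebra.TensorProduct.includeRight (R := Γ(S, U0)) (A := R') (B := Γ(Z, Z0))).toRingHom) ≫
          hZ0.fromSpec ∧
      Set.range gZ = pullback.fst q _ ⁻¹' (Z0 : Set Z) := by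
  let φ' : Γ(S, U0) ⟶ CommRingCat.of R' := CommRingCat.ofHom (algebraMap Γ(S, U0) R')
  let ψ' : Γ(S, U0) ⟶ Γ(Z, Z0) := CommRingCat.ofHom (algebraMap Γ(S, U0) Γ(Z, Z0))
  have hψ' : ψ' = q.appLE U0 Z0 hle := by
    apply CommRingCat.hom_ext
    exact halg
  let e₁ : Spec (.of (R' ⊗[Γ(S, U0)] Γ(Z, Z0))) ≅ pullback (Spec.map ψ') (Spec.map φ') :=
    (pullbackSpecIso _ _ _).symm ≪≫ pullbackSymmetry _ _
  have he₁ : e₁.hom ≫ pullback.fst _ _ =
      Spec.map (CommRingCat.ofHom (Algebra.TensorProduct.includeRight (R := Γ(S, U0)) (A := R')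
        (B := Γ(Z, Z0))).toRingHom) := by
    dsimp [e₁]
    rw [Category.assoc, pullbackSymmetry_hom_comp_fst]
    exact pullbackSpecIso_inv_snd ..
  have he₂ : e₁.hom ≫ pullback.snd _ _ =
      Spec.map (CommRingCat.ofHom (algebraMap R' (R' ⊗[Γ(S, U0)] Γ(Z, Z0)))) := by
    dsimp [e₁]
    rw [Category.assoc, pullbackSymmetry_hom_comp_snd]
    exact pullbackSpecIso_inv_fst' ..
  have c1 : Spec.map ψ' ≫ hU0.fromSpec = hZ0.fromSpec ≫ q := by
    rw [hψ']
    exact IsAffineOpen.SpecMap_appLE_fromSpec ..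
  let m := pullback.map (Spec.map ψ') (Spec.map φ') q (Spec.map φ' ≫ hU0.fromSpec) hZ0.fromSpec
    (𝟙 _) hU0.fromSpec c1 (by simp)
  refine ⟨e₁.hom ≫ m, inferInstance, ?_, ?_, ?_⟩
  · rw [Category.assoc, pullback.lift_snd, ← Category.assoc, he₂, Category.comp_id]
  · rw [Category.assoc, pullback.lift_fst, ← Category.assoc, he₁]
  · have hsurj : Set.range e₁.hom = Set.univ :=
      Set.range_eq_univ.2 (e₁.hom.homeomorph.surjective)
    rw [Scheme.Hom.comp_base, TopCat.coe_comp, Set.range_comp, hsurj, Set.image_univ,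
      Scheme.Pullback.range_map]
    simp only [hZ0.range_fromSpec, Scheme.Hom.id_base, TopCat.hom_id, ContinuousMap.coe_id,
      Set.range_id, Set.preimage_univ, Set.inter_univ]
    rfl

set_option backward.defeqAttrib.useBackward true in
set_option backward.isDefEq.respectTransparency false in
/-- One point (Stacks 02LN with elementary étale neighbourhood): a separated morphism locally of
finite type, quasi-finite at `x`, splits off after an étale base change `(U, u) ⟶ (S, s)` with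
`κ(u) = κ(s)` a finite clopen piece whose only point over `u` maps to `x`. -/
theorem exists_etale_split_one {X S : Scheme.{u}} (f : X ⟶ S) [LocallyOfFiniteType f]
    [IsSeparated f] {x : X} {s : S} (h : f x = s) (hx : f.QuasiFiniteAt x) :
    ∃ (U : Scheme.{u}) (g : U ⟶ S) (u : U), Etale g ∧ g u = s ∧ FU g u ∧
    ∃ (V : (pullback f g).Opens) (v : ↥(pullback f g)), IsClosed (V : Set ↥(pullback f g)) ∧
      IsFinite (V.ι ≫ pullback.snd f g) ∧ v ∈ V ∧
      pullback.fst f g v = x ∧ pullback.snd f g v = u ∧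
      ∀ v' ∈ V, pullback.snd f g v' = u → v' = v := by
  obtain ⟨_, ⟨U, hU, rfl⟩, hxU, -⟩ := S.isBasis_affineOpens.exists_subset_of_mem_open
    (Set.mem_univ (f x)) isOpen_univ
  obtain ⟨_, ⟨V, hV, rfl⟩, hxV, hUV : V ≤ f ⁻¹ᵁ U⟩ :=
    X.isBasis_affineOpens.exists_subset_of_mem_open hxU (f ⁻¹ᵁ U).2
  have : (f.appLE U V hUV).hom.FiniteType := f.finiteType_appLE hU hV hUV
  algebraize [(f.appLE U V hUV).hom]
  have : (hV.primeIdealOf ⟨x, hxV⟩).asIdeal.LiesOver (hU.primeIdealOf ⟨f x, hxU⟩).asIdeal := by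
    suffices hU.primeIdealOf ⟨f x, hxU⟩ = Spec.map (f.appLE U V hUV) (hV.primeIdealOf ⟨x, hxV⟩) from
      ⟨congr(($this).1)⟩
    apply hU.isoSpec.inv.homeomorph.injective
    apply Subtype.ext
    simp only [IsAffineOpen.primeIdealOf, Scheme.Hom.homeomorph_apply,
      ← Scheme.Hom.comp_apply, ← Scheme.Opens.ι_apply, IsAffineOpen.isoSpec_hom]
    simp
  have : Algebra.QuasiFiniteAt Γ(S, U) (hV.primeIdealOf ⟨x, hxV⟩).asIdeal :=
    hx.quasiFiniteAt hV hU hUV hxV
  obtain ⟨R, _, _, _, P, _, _, e, _, P', _, _, hP', heP', hbij, _, huniq⟩ :=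
    Algebra.exists_etale_isIdempotentElem_forall_liesOver_eq
    (hU.primeIdealOf ⟨f x, hxU⟩).asIdeal (hV.primeIdealOf ⟨x, hxV⟩).asIdeal
  have hfinR : (algebraMap R (Localization.Away e)).Finite := RingHom.finite_algebraMap.mpr ‹_›
  let φ : Γ(S, U) ⟶ .of R := CommRingCat.ofHom <| algebraMap Γ(S, U) R
  have hφ : φ.hom.Etale := RingHom.etale_algebraMap.mpr ‹_›
  have : Etale (Spec.map φ) := HasRingHomProperty.Spec_iff.mpr hφ
  obtain ⟨g, hgo, hg2', hg1', hgr⟩ := affine_piece f hU hV hUV R (RingHom.algebraMap_toAlgebra _)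
  have hg2 : g ≫ pullback.snd f (Spec.map φ ≫ hU.fromSpec) =
      Spec.map (CommRingCat.ofHom (algebraMap R (R ⊗[Γ(S, U)] Γ(X, V)))) := hg2'
  have hg1 : g ≫ pullback.fst f (Spec.map φ ≫ hU.fromSpec) =
      Spec.map (CommRingCat.ofHom (Algebra.TensorProduct.includeRight (R := Γ(S, U)) (A := R)
        (B := Γ(X, V))).toRingHom) ≫ hV.fromSpec := hg1'
  let W₁ := g ''ᵁ PrimeSpectrum.basicOpen e
  have hW₁fin : IsFinite (W₁.ι ≫ pullback.snd f _) := by
    let ι : Spec (.of (Localization.Away e)) ⟶ pullback f (Spec.map φ ≫ hU.fromSpec) :=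
      Spec.map (CommRingCat.ofHom <| algebraMap _ _) ≫ g
    have : ι.opensRange = W₁ := by
      simp only [Scheme.Hom.opensRange_comp, ι, W₁]
      congr 1
      exact TopologicalSpace.Opens.ext <| PrimeSpectrum.localization_away_comap_range _ _
    rw [← this, ← MorphismProperty.cancel_left_of_respectsIso @IsFinite
      (Scheme.Hom.isoOpensRange _).hom]
    have e1 : (Scheme.Hom.isoOpensRange ι).hom ≫ ι.opensRange.ι ≫ pullback.snd f _ =
        Spec.map (CommRingCat.ofHom (algebraMap R (Localization.Away e))) := by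
      rw [← Category.assoc, Scheme.Hom.isoOpensRange_hom_ι]
      show (Spec.map _ ≫ g) ≫ _ = _
      rw [Category.assoc, hg2, ← Spec.map_comp]
      congr 1
    rw [e1, IsFinite.SpecMap_iff]
    exact hfinR
  have : IsFinite W₁.ι := .of_comp _ (pullback.snd f _)
  have hW₁c : IsClosed (W₁ : Set ↥(pullback f (Spec.map φ ≫ hU.fromSpec))) := by
    simpa using W₁.ι.isClosedMap.isClosed_range
  have key : ∀ Q : Spec (.of (R ⊗[Γ(S, U)] Γ(X, V))),
      pullback.snd f (Spec.map φ ≫ hU.fromSpec) (g Q) = (⟨P, ‹_›⟩ : Spec (.of R)) →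
        Q.asIdeal.LiesOver P := by
    intro Q hQ
    rw [← Scheme.Hom.comp_apply, hg2] at hQ
    exact ⟨congr(($hQ).1).symm⟩
  refine ⟨Spec (.of R), Spec.map φ ≫ hU.fromSpec, ⟨P, ‹_›⟩, inferInstance, ?_, ?_,
    W₁, g ⟨P', ‹_›⟩, hW₁c, hW₁fin, ⟨⟨P', ‹_›⟩, heP', rfl⟩, ?_, ?_, ?_⟩
  · dsimp [Spec.map_apply]
    convert! hU.fromSpec_primeIdealOf ⟨f x, hxU⟩
    · exact PrimeSpectrum.ext (Ideal.over_def _ _).symm
    · simp [h]
  · apply FU.of_canonical
    intro Z q w w' hw hw' hww'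
    have hz : q (pullback.fst q (Spec.map φ ≫ hU.fromSpec) w) ∈ (U : Set S) := by
      rw [← Scheme.Hom.comp_apply, pullback.condition, Scheme.Hom.comp_apply,
        Scheme.Hom.comp_apply]
      have hr := hU.range_fromSpec
      exact hr ▸ Set.mem_range_self _
    obtain ⟨_, ⟨Z0, hZ0, rfl⟩, hzZ0, hle : Z0 ≤ q ⁻¹ᵁ U⟩ :=
      Z.isBasis_affineOpens.exists_subset_of_mem_open hz (q ⁻¹ᵁ U).2
    letI : Algebra Γ(S, U) Γ(Z, Z0) := (q.appLE U Z0 hle).hom.toAlgebra
    obtain ⟨gZ, -, h2', h1', hr⟩ := affine_piece q hU hZ0 hle R (RingHom.algebraMap_toAlgebra _)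
    have h2 : gZ ≫ pullback.snd q (Spec.map φ ≫ hU.fromSpec) =
        Spec.map (CommRingCat.ofHom (algebraMap R (R ⊗[Γ(S, U)] Γ(Z, Z0)))) := h2'
    have h1 : gZ ≫ pullback.fst q (Spec.map φ ≫ hU.fromSpec) =
        Spec.map (CommRingCat.ofHom (Algebra.TensorProduct.includeRight (R := Γ(S, U)) (A := R)
          (B := Γ(Z, Z0))).toRingHom) ≫ hZ0.fromSpec := h1'
    have hwr : w ∈ Set.range gZ := by rw [hr]; exact hzZ0
    have hwr' : w' ∈ Set.range gZ := by rw [hr]; show _ ∈ (Z0 : Set Z); rw [← hww']; exact hzZ0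
    obtain ⟨Q, rfl⟩ := hwr
    obtain ⟨Q', rfl⟩ := hwr'
    rw [← Scheme.Hom.comp_apply, h2] at hw hw'
    rw [← Scheme.Hom.comp_apply, ← Scheme.Hom.comp_apply, h1, Scheme.Hom.comp_apply,
      Scheme.Hom.comp_apply] at hww'
    have hinj := hZ0.fromSpec.isOpenEmbedding.injective hww'
    haveI : Q.asIdeal.LiesOver P := ⟨congr(($hw).1).symm⟩
    haveI : Q'.asIdeal.LiesOver P := ⟨congr(($hw').1).symm⟩
    have H₂ : Q.asIdeal.comap Algebra.TensorProduct.includeRight.toRingHom =
        Q'.asIdeal.comap Algebra.TensorProduct.includeRight.toRingHom := congr(($hinj).1)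
    have := Ideal.eq_of_comap_eq_comap_of_bijective_residueFieldMap hbij Q.asIdeal Q'.asIdeal H₂
    congr 1
    exact PrimeSpectrum.ext this
  · rw [← Scheme.Hom.comp_apply, hg1]
    trans hV.fromSpec ⟨P'.comap Algebra.TensorProduct.includeRight.toRingHom, inferInstance⟩
    · rfl
    convert! hV.fromSpec_primeIdealOf ⟨x, hxV⟩
  · rw [← Scheme.Hom.comp_apply, hg2]
    exact PrimeSpectrum.ext (P'.over_def P).symm
  · rintro v' ⟨Q, hQe, rfl⟩ hv'
    have := key Q hv'
    have hQ : Q.asIdeal = P' := huniq Q.asIdeal inferInstance inferInstance hQe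
    congr 1
    exact PrimeSpectrum.ext hQ

theorem quasiCompact_of_comp_surjective {X Y Z : Scheme.{u}} (f : X ⟶ Y) (g : Y ⟶ Z)
    [QuasiCompact (f ≫ g)] [Surjective f] : QuasiCompact g := by
  constructor
  intro K hKo hKc
  have h1 := QuasiCompact.isCompact_preimage (f := f ≫ g) K hKo hKc
  have e : g ⁻¹' K = f '' ((f ≫ g) ⁻¹' K) := by
    ext y
    constructor
    · intro hy
      obtain ⟨x, rfl⟩ := f.surjective y
      exact ⟨x, by simpa using hy, rfl⟩
    · rintro ⟨x, hx, rfl⟩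
      simpa using hx
  rw [e]
  exact h1.image f.continuous

/-- a separated morphism locally of finite type which becomes finite after precomposition with a
surjective morphism is finite. -/
theorem isFinite_of_comp_surjective {X Y Z : Scheme.{u}} (c : X ⟶ Y) (q : Y ⟶ Z)
    [LocallyOfFiniteType q] [IsSeparated q] [IsFinite (c ≫ q)] [Surjective c] : IsFinite q := by
  haveI : UniversallyClosed q := UniversallyClosed.of_comp_surjective c q
  haveI : QuasiCompact q := quasiCompact_of_comp_surjective c q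
  haveI : IsProper q := {}
  haveI : LocallyQuasiFinite q := by
    apply LocallyQuasiFinite.of_finite_preimage_singleton
    intro z
    refine ((c ≫ q).finite_preimage_singleton z).image c |>.subset ?_
    intro y hy
    obtain ⟨x, rfl⟩ := c.surjective y
    exact ⟨x, by simpa using hy, rfl⟩
  exact IsFinite.of_isProper_of_locallyQuasiFinite q

/-- the union of two opens finite over the base is finite over the base. -/
theorem isFinite_sup {P U : Scheme.{u}} (p : P ⟶ U) [LocallyOfFiniteType p] [IsSeparated p]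
    (A B : P.Opens) (hA : IsFinite (A.ι ≫ p)) (hB : IsFinite (B.ι ≫ p)) :
    IsFinite ((A ⊔ B).ι ≫ p) := by
  let cA : A.toScheme ⟶ (A ⊔ B).toScheme := P.homOfLE le_sup_left
  let cB : B.toScheme ⟶ (A ⊔ B).toScheme := P.homOfLE le_sup_right
  let c : A.toScheme ⨿ B.toScheme ⟶ (A ⊔ B).toScheme := coprod.desc cA cB
  haveI : Surjective c := by
    constructor
    rintro ⟨y, hy⟩
    rcases hy with hy | hy
    · refine ⟨(coprod.inl : A.toScheme ⟶ A.toScheme ⨿ B.toScheme) ⟨y, hy⟩, ?_⟩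
      rw [← Scheme.Hom.comp_apply, coprod.inl_desc]
      apply (A ⊔ B).ι.isOpenEmbedding.injective
      rw [← Scheme.Hom.comp_apply, Scheme.homOfLE_ι]
      rfl
    · refine ⟨(coprod.inr : B.toScheme ⟶ A.toScheme ⨿ B.toScheme) ⟨y, hy⟩, ?_⟩
      rw [← Scheme.Hom.comp_apply, coprod.inr_desc]
      apply (A ⊔ B).ι.isOpenEmbedding.injective
      rw [← Scheme.Hom.comp_apply, Scheme.homOfLE_ι]
      rfl
  have ec : c ≫ (A ⊔ B).ι ≫ p = coprod.desc (A.ι ≫ p) (B.ι ≫ p) := by
    apply coprod.hom_ext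
    · rw [coprod.inl_desc_assoc, coprod.inl_desc, ← Category.assoc, Scheme.homOfLE_ι]
    · rw [coprod.inr_desc_assoc, coprod.inr_desc, ← Category.assoc, Scheme.homOfLE_ι]
  haveI : IsFinite (c ≫ (A ⊔ B).ι ≫ p) := by rw [ec]; infer_instance
  exact isFinite_of_comp_surjective c ((A ⊔ B).ι ≫ p)

/-- base change of "locally quasi-finite on an open neighbourhood". -/
theorem quasiFiniteAt_snd_of_open {W B U1 : Scheme.{u}} (g : W ⟶ B) (φ1 : U1 ⟶ B)
    [LocallyOfFiniteType g] (O : W.Opens) (hO : LocallyQuasiFinite (O.ι ≫ g))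
    (t1 : ↥(pullback g φ1)) (ht1 : pullback.fst g φ1 t1 ∈ O) :
    (pullback.snd g φ1).QuasiFiniteAt t1 := by
  have sq1 := isPullback_morphismRestrict (pullback.fst g φ1) O
  have sq2 := sq1.paste_vert (IsPullback.of_hasPullback g φ1)
  haveI : LocallyQuasiFinite (((pullback.fst g φ1) ⁻¹ᵁ O).ι ≫ pullback.snd g φ1) :=
    MorphismProperty.of_isPullback (P := @LocallyQuasiFinite) sq2 hO
  have h1 := (((pullback.fst g φ1) ⁻¹ᵁ O).ι ≫ pullback.snd g φ1).quasiFiniteAt ⟨t1, ht1⟩
  exact Scheme.Hom.quasiFiniteAt_comp_iff_of_isOpenImmersion.1 h1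

open Classical in
/-- Several points (Stacks 02LN/04HJ-type): a separated morphism `g : W ⟶ B` locally of finite
type, quasi-finite near the points of a finite subset `ts` of the fibre over `b`, splits off after
an étale base change `(U, u) ⟶ (B, b)` a finite clopen piece whose points over `u` are exactly the
points over `u` mapping into `ts`. -/
theorem exists_etale_split_multi {W B : Scheme.{u}} (g : W ⟶ B) [LocallyOfFiniteType g]
    [IsSeparated g] (b : B) (ts : Finset W)
    (hts : ∀ t ∈ ts, g t = b ∧ ∃ O : W.Opens, t ∈ O ∧ LocallyQuasiFinite (O.ι ≫ g)) :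
    ∃ (U : Scheme.{u}) (φ : U ⟶ B) (u : U), Etale φ ∧ φ u = b ∧ FU φ u ∧
      ∀ ⦃P : Scheme.{u}⦄ (p1 : P ⟶ W) (p2 : P ⟶ U), IsPullback p1 p2 g φ →
        ∃ V : P.Opens, IsClosed (V : Set P) ∧ IsFinite (V.ι ≫ p2) ∧
          ∀ w : P, p2 w = u → (w ∈ V ↔ p1 w ∈ ts) := by
  induction ts using Finset.induction_on with
  | empty =>
    refine ⟨B, 𝟙 B, b, inferInstance, rfl, FU.id b, ?_⟩
    intro P p1 p2 sq
    refine ⟨⊥, by simp, ?_, ?_⟩
    · haveI : IsEmpty ↥(⊥ : P.Opens).toScheme := by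
        constructor
        rintro ⟨x, hx⟩
        exact hx
      infer_instance
    · intro w _
      simp
  | insert t ts' htn IH =>
    obtain ⟨ht, O, htO, hO⟩ := hts t (Finset.mem_insert_self t ts')
    obtain ⟨U1, φ1, u1, hφ1, hu1, hFU1, H1⟩ :=
      IH (fun t' ht' => hts t' (Finset.mem_insert_of_mem ht'))
    obtain ⟨t1, ht1a, ht1b⟩ := Scheme.Pullback.exists_preimage_pullback t u1 (by rw [ht, hu1])
    have hqf : (pullback.snd g φ1).QuasiFiniteAt t1 :=
      quasiFiniteAt_snd_of_open g φ1 O hO t1 (by rw [ht1a]; exact htO)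
    obtain ⟨U2, φ2, u2, hφ2, hu2, hFU2, V2, v2, hV2c, hV2f, hv2V, hv2a, hv2b, hv2u⟩ :=
      exists_etale_split_one (pullback.snd g φ1) ht1b hqf
    obtain ⟨V1, hV1c, hV1f, hV1p⟩ := H1 (pullback.fst g φ1) (pullback.snd g φ1)
      (IsPullback.of_hasPullback g φ1)
    refine ⟨U2, φ2 ≫ φ1, u2, inferInstance, by rw [Scheme.Hom.comp_apply, hu2, hu1],
      FU.comp hFU1 hFU2 hu2, ?_⟩
    intro P p1 p2 sq
    have hc : p1 ≫ g = (p2 ≫ φ2) ≫ φ1 := by rw [Category.assoc]; exact sq.w
    let k : P ⟶ pullback g φ1 := pullback.lift p1 (p2 ≫ φ2) hc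
    have hk1 : k ≫ pullback.fst g φ1 = p1 := pullback.lift_fst _ _ _
    have hk2 : k ≫ pullback.snd g φ1 = p2 ≫ φ2 := pullback.lift_snd _ _ _
    have sqL : IsPullback k p2 (pullback.snd g φ1) φ2 :=
      IsPullback.of_right (by rw [hk1]; exact sq) hk2 (IsPullback.of_hasPullback g φ1)
    obtain ⟨ε, he1, he2⟩ : ∃ ε : P ≅ pullback (pullback.snd g φ1) φ2,
        ε.hom ≫ pullback.fst _ _ = k ∧ ε.hom ≫ pullback.snd _ _ = p2 :=
      ⟨sqL.isoPullback, sqL.isoPullback_hom_fst, sqL.isoPullback_hom_snd⟩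
    haveI : LocallyOfFiniteType p2 :=
      MorphismProperty.of_isPullback (P := @LocallyOfFiniteType) sq inferInstance
    haveI : IsSeparated p2 := MorphismProperty.of_isPullback (P := @IsSeparated) sq inferInstance
    have hA : IsFinite ((k ⁻¹ᵁ V1).ι ≫ p2) :=
      MorphismProperty.of_isPullback (P := @IsFinite)
        ((isPullback_morphismRestrict k V1).paste_vert sqL) hV1f
    have hB : IsFinite ((ε.hom ⁻¹ᵁ V2).ι ≫ p2) := by
      have e : (ε.hom ⁻¹ᵁ V2).ι ≫ p2 =
          (ε.hom ∣_ V2) ≫ V2.ι ≫ pullback.snd _ _ := by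
        rw [← he2, ← Category.assoc, ← Category.assoc, morphismRestrict_ι]
      rw [e]
      infer_instance
    refine ⟨(k ⁻¹ᵁ V1) ⊔ (ε.hom ⁻¹ᵁ V2), ?_, isFinite_sup p2 _ _ hA hB, ?_⟩
    · show IsClosed ((k ⁻¹' (V1 : Set _)) ∪ (ε.hom ⁻¹' (V2 : Set _)))
      exact (hV1c.preimage k.continuous).union (hV2c.preimage ε.hom.continuous)
    · intro w hw
      have hkw2 : pullback.snd g φ1 (k w) = u1 := by
        rw [← Scheme.Hom.comp_apply, hk2, Scheme.Hom.comp_apply, hw, hu2]
      have hkw1 : pullback.fst g φ1 (k w) = p1 w := by rw [← Scheme.Hom.comp_apply, hk1]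
      have hew2 : pullback.snd (pullback.snd g φ1) φ2 (ε.hom w) = u2 := by
        rw [← Scheme.Hom.comp_apply, he2, hw]
      have hew1 : pullback.fst (pullback.snd g φ1) φ2 (ε.hom w) = k w := by
        rw [← Scheme.Hom.comp_apply, he1]
      constructor
      · rintro (hwA | hwB)
        · have := (hV1p (k w) hkw2).1 hwA
          rw [hkw1] at this
          exact Finset.mem_insert_of_mem this
        · have h1 := hv2u _ hwB hew2
          have h2 : k w = t1 := by rw [← hew1, h1, hv2a]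
          rw [← hkw1, h2, ht1a]
          exact Finset.mem_insert_self t ts'
      · intro hmem
        rcases Finset.mem_insert.1 hmem with hwt | hwts
        · right
          have h2 : k w = t1 := by
            apply hFU1 g _ _ (IsPullback.of_hasPullback g φ1) _ _ hkw2 ht1b
            rw [hkw1, hwt, ht1a]
          have h3 : ε.hom w = v2 := by
            apply hFU2 _ _ _ (IsPullback.of_hasPullback (pullback.snd g φ1) φ2) _ _ hew2 hv2b
            rw [hew1, h2, hv2a]
          show ε.hom w ∈ V2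
          rw [h3]
          exact hv2V
        · left
          show k w ∈ V1
          exact (hV1p (k w) hkw2).2 (by rw [hkw1]; exact hwts)

/-- a morphism of finite type has only finitely many points in a given fibre at which it is
quasi-finite. -/
theorem finite_quasiFiniteAt_fibre {A B : Scheme.{u}} (h : A ⟶ B) [LocallyOfFiniteType h]
    [QuasiCompact h] (b : B) : {a : A | h a = b ∧ h.QuasiFiniteAt a}.Finite := by
  haveI : LocallyOfFiniteType (h.fiberToSpecResidueField b) :=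
    MorphismProperty.pullback_snd _ _ inferInstance
  haveI : IsLocallyNoetherian (h.fiber b) :=
    LocallyOfFiniteType.isLocallyNoetherian (h.fiberToSpecResidueField b)
  haveI : IsNoetherian (h.fiber b) := {}
  have hO : {z : h.fiber b | IsOpen ({z} : Set (h.fiber b))}.Finite := by
    apply IsCompact.finite (TopologicalSpace.NoetherianSpace.isCompact _)
    rw [isDiscrete_iff_discreteTopology, discreteTopology_iff_isOpen_singleton]
    rintro ⟨z, hz⟩
    have : ({⟨z, hz⟩} : Set {z : h.fiber b | IsOpen ({z} : Set (h.fiber b))}) =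
        Subtype.val ⁻¹' {z} := by
      ext ⟨w, hw⟩
      simp [Subtype.ext_iff]
    rw [this]
    exact hz.preimage continuous_subtype_val
  refine (hO.image (h.fiberι b)).subset ?_
  rintro a ⟨rfl, hqa⟩
  exact ⟨h.asFiber a, Scheme.Hom.quasiFiniteAt_iff_isOpen_singleton_asFiber.1 hqa,
    h.fiberι_asFiber a⟩

end Groth.Agent.R2.H93.SplitMultiSch
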