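import Mathlib

/-!
# Finite algebras over a field: dimension as a sum of local contributions (helper9)

* `finrank_eq_toNat_length` : `dim_k M = (ℓ_k M).toNat` over a field.
* `finrank_eq_length_mul_finrank` : for a local `k`-algebra `L` (k a field),
  `dim_k L = ℓ_L(L) · [κ(L) : k]` (as natural numbers; both sides are `0` when infinite).
* `finrank_eq_sum_finrank_localization` : for a finite `k`-algebra `C`,
  `dim_k C = ∑_p dim_k C_p` over the primes of `C`.
-/

set_option autoImplicit false
set_option linter.style.haveILetI false

namespace Groth.Agent.R2.H9.FinAlgLen

open IsLocalRing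

theorem finrank_eq_toNat_length (k M : Type*) [Field k] [AddCommGroup M] [Module k M] :
    Module.finrank k M = (Module.length k M).toNat := by
  rw [Module.length_eq_rank, Cardinal.toNat_toENat]
  rfl

theorem finrank_eq_length_mul_finrank (k L : Type*) [Field k] [CommRing L] [IsLocalRing L]
    [Algebra k L] :
    Module.finrank k L =
      (Module.length L L).toNat * Module.finrank k (ResidueField L) := by
  haveI : IsLocalHom (algebraMap k L) := inferInstance
  have h := IsLocalRing.length_restrictScalars k L L
  have h1 : Module.length k L = Module.length L L * Module.length k (ResidueField L) := by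
    rw [h]
    congr 1
    exact (Module.length_eq_of_surjective (M := ResidueField L)
      (IsLocalRing.residue_surjective (R := k))).symm
  rw [finrank_eq_toNat_length, finrank_eq_toNat_length, h1, ENat.toNat_mul]

/-- A finite algebra over a field is the product of its localizations at its (finitely many)
primes; consequently its dimension is the sum of the dimensions of these localizations. -/
theorem finrank_eq_sum_finrank_localization (k C : Type*) [Field k] [CommRing C] [Algebra k C]
    [Module.Finite k C] [Fintype (PrimeSpectrum C)] :
    Module.finrank k C =
      ∑ p : PrimeSpectrum C, Module.finrank k (Localization.AtPrime p.asIdeal) := by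
  haveI : IsArtinianRing C := IsArtinianRing.of_finite k C
  haveI : DiscreteTopology (PrimeSpectrum C) := inferInstance
  let e : C ≃ₐ[C] PrimeSpectrum.PiLocalization C :=
    AlgEquiv.ofBijective (PrimeSpectrum.toPiLocalization C) PrimeSpectrum.toPiLocalization_bijective
  have e' : C ≃ₗ[k] (Π p : PrimeSpectrum C, Localization.AtPrime p.asIdeal) :=
    (e.toLinearEquiv.restrictScalars k)
  rw [e'.finrank_eq]
  haveI : ∀ p : PrimeSpectrum C, Module.Finite k (Localization.AtPrime p.asIdeal) := fun p =>
    Module.Finite.of_surjective
      ((LinearMap.proj p : (Π p : PrimeSpectrum C, Localization.AtPrime p.asIdeal) →ₗ[k] _).comp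
        e'.toLinearMap)
      ((Function.surjective_eval p).comp e'.surjective)
  exact Module.finrank_pi_fintype k

end Groth.Agent.R2.H9.FinAlgLen
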