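import Mathlib
import Groth.Agent.R2.H9FinAlgLen

/-!
# Finite algebras over a field: dimension as a sum over the primes of `ℓ(C_p)·[κ(p):k]` (helper9)

* `finrank_eq_finsum_local` : `C` a finite `k`-algebra, `L i` a family of localizations of `C` at
  its primes (indexed through a bijection `e : ι ≃ PrimeSpectrum C`); then
  `dim_k C = ∑ᶠ i, ℓ_{L i}(L i) · [κ(L i) : k]`.
-/

set_option autoImplicit false
set_option linter.style.haveILetI false

namespace Groth.Agent.R2.H9.FinAlgSum

open IsLocalRing Groth.Agent.R2.H9.FinAlgLen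

theorem finrank_eq_finsum_local (k C : Type*) [Field k] [CommRing C] [Algebra k C]
    [Module.Finite k C] {ι : Type*} (e : ι ≃ PrimeSpectrum C) (L : ι → Type*)
    [∀ i, CommRing (L i)] [∀ i, Algebra C (L i)] [∀ i, Algebra k (L i)]
    [∀ i, IsScalarTower k C (L i)] [∀ i, IsLocalRing (L i)]
    (hL : ∀ i, IsLocalization.AtPrime (L i) (e i).asIdeal) :
    Module.finrank k C =
      ∑ᶠ i, (Module.length (L i) (L i)).toNat * Module.finrank k (ResidueField (L i)) := by
  haveI : IsArtinianRing C := IsArtinianRing.of_finite k C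
  haveI : Finite (PrimeSpectrum C) := inferInstance
  letI : Fintype (PrimeSpectrum C) := Fintype.ofFinite _
  rw [finrank_eq_sum_finrank_localization k C, ← finsum_eq_sum_of_fintype,
    ← finsum_comp_equiv e]
  apply finsum_congr
  intro i
  rw [← finrank_eq_length_mul_finrank k (L i)]
  haveI := hL i
  let a : Localization.AtPrime (e i).asIdeal ≃ₐ[C] L i :=
    IsLocalization.algEquiv (e i).asIdeal.primeCompl _ _
  exact (a.toLinearEquiv.restrictScalars k).finrank_eq

end Groth.Agent.R2.H9.FinAlgSum
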