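import Mathlib
import Groth.Agent.R2.H9FinAlgSum

/-!
# Affine schemes finite over a field: `dim_k Γ(W) = ∑_w ℓ(O_{W,w})·[κ(w):k]` (helper9)
-/

set_option autoImplicit false
set_option linter.style.haveILetI false

universe u

open AlgebraicGeometry CategoryTheory IsLocalRing

namespace Groth.Agent.R2.H9.AffFieldSum

open Groth.Agent.R2.H9.FinAlgSum

/-- the bijection between the points of an affine scheme and the primes of its global sections. -/
noncomputable def ptEquiv (W : Scheme.{u}) [IsAffine W] : W ≃ PrimeSpectrum Γ(W, ⊤) :=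
  Equiv.ofBijective (fun w => (isAffineOpen_top W).primeIdealOf ⟨w, trivial⟩) (by
    have h1 : Function.Bijective (fun x : (⊤ : W.Opens) => (isAffineOpen_top W).primeIdealOf x) :=
      (Scheme.homeoOfIso (isAffineOpen_top W).isoSpec).bijective
    have h2 : Function.Bijective (fun w : W => (⟨w, trivial⟩ : (⊤ : W.Opens))) :=
      ⟨fun a b h => congrArg Subtype.val h, fun x => ⟨x.1, rfl⟩⟩
    exact h1.comp h2)

/-- For an affine scheme `W` whose ring of global sections is a finite algebra over a field `k`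
(through `φ`), `dim_k Γ(W) = ∑_w ℓ(O_{W,w}) · [κ(w) : k]`. -/
theorem finrank_eq_finsum_stalk (k : Type u) [Field k] (W : Scheme.{u}) [IsAffine W]
    (φ : k →+* Γ(W, ⊤)) (hfin : φ.Finite) :
    @Module.finrank k Γ(W, ⊤) _ _ φ.toAlgebra.toModule =
      ∑ᶠ w : W, (Module.length (W.presheaf.stalk w) (W.presheaf.stalk w)).toNat *
        @Module.finrank k (W.residueField w) _ _
          ((W.residue w).hom.comp ((W.presheaf.germ ⊤ w trivial).hom.comp φ)).toAlgebra.toModule := by
  letI := φ.toAlgebra
  haveI : Module.Finite k Γ(W, ⊤) := hfin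
  letI : ∀ w : W, Algebra Γ(W, ⊤) (W.presheaf.stalk w) := fun w =>
    (W.presheaf.germ ⊤ w trivial).hom.toAlgebra
  letI : ∀ w : W, Algebra k (W.presheaf.stalk w) := fun w =>
    ((W.presheaf.germ ⊤ w trivial).hom.comp φ).toAlgebra
  haveI : ∀ w : W, IsScalarTower k Γ(W, ⊤) (W.presheaf.stalk w) := fun w =>
    IsScalarTower.of_algebraMap_eq (fun r => rfl)
  have hL : ∀ w : W, IsLocalization.AtPrime (W.presheaf.stalk w) (ptEquiv W w).asIdeal := fun w =>
    (isAffineOpen_top W).isLocalization_stalk ⟨w, trivial⟩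
  rw [finrank_eq_finsum_local k Γ(W, ⊤) (ptEquiv W) (fun w => W.presheaf.stalk w) hL]
  apply finsum_congr
  intro w
  congr 1

/-- the structure map `K → Γ(T)` of a scheme over `Spec K`. -/
noncomputable abbrev sm (K : Type u) [Field K] {T : Scheme.{u}} (p : T ⟶ Spec (CommRingCat.of K)) :
    K →+* Γ(T, ⊤) :=
  ((Scheme.ΓSpecIso (CommRingCat.of K)).inv ≫ p.appTop).hom

theorem sm_finite (K : Type u) [Field K] {T : Scheme.{u}} (p : T ⟶ Spec (CommRingCat.of K))
    [IsFinite p] : (sm K p).Finite := by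
  have h1 : p.appTop.hom.Finite := p.finite_appTop
  have h2 : (Scheme.ΓSpecIso (CommRingCat.of K)).inv.hom.Finite :=
    RingHom.Finite.of_surjective _
      (ConcreteCategory.bijective_of_isIso (Scheme.ΓSpecIso (CommRingCat.of K)).inv).2
  exact h1.comp h2

theorem eq_isoSpec_comp (K : Type u) [Field K] {T : Scheme.{u}} (p : T ⟶ Spec (CommRingCat.of K))
    [IsAffine T] :
    p = T.isoSpec.hom ≫ Spec.map (CommRingCat.ofHom (sm K p)) := by
  have h1 := Scheme.isoSpec_hom_naturality p
  rw [Scheme.isoSpec_Spec_hom] at h1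
  show p = T.isoSpec.hom ≫ Spec.map ((Scheme.ΓSpecIso (CommRingCat.of K)).inv ≫ p.appTop)
  rw [Spec.map_comp, ← Category.assoc, h1, Category.assoc, ← Spec.map_comp, Iso.inv_hom_id,
    Spec.map_id, Category.comp_id]

/-- the degree of a finite flat morphism to the spectrum of a field is the dimension of the ring of
global sections. -/
theorem finrank_eq_finrank_global (K : Type u) [Field K] {T : Scheme.{u}}
    (p : T ⟶ Spec (CommRingCat.of K)) [IsFinite p] [Flat p] (s : Spec (CommRingCat.of K)) :
    p.finrank s = @Module.finrank K Γ(T, ⊤) _ _ (sm K p).toAlgebra.toModule := by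
  have haff : IsAffine T := isAffine_of_isAffineHom p
  letI : Algebra K Γ(T, ⊤) := (sm K p).toAlgebra
  have hfin : Module.Finite K Γ(T, ⊤) := sm_finite K p
  have hp := eq_isoSpec_comp K p
  have hfl : Module.Flat K Γ(T, ⊤) := inferInstance
  have hF : IsFinite (Spec.map (CommRingCat.ofHom (algebraMap K Γ(T, ⊤)))) := by
    rw [IsFinite.SpecMap_iff]
    exact (RingHom.finite_algebraMap).mpr hfin
  have hFl : Flat (Spec.map (CommRingCat.ofHom (algebraMap K Γ(T, ⊤)))) := by
    rw [Flat.SpecMap_iff]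
    exact (RingHom.flat_algebraMap_iff).mpr hfl
  have : p.finrank = (T.isoSpec.hom ≫
      Spec.map (CommRingCat.ofHom (algebraMap K Γ(T, ⊤)))).finrank := congrArg _ hp
  rw [this, Scheme.Hom.finrank_comp_left_of_isIso, Scheme.Hom.finrank_SpecMap_algebraMap,
    Module.rankAtStalk_eq_finrank_of_free]
  rfl

end Groth.Agent.R2.H9.AffFieldSum
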