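import Mathlib
import Groth.Agent.Lib.Helper5FiberStalk
import Groth.Agent.Lib.Helper4VarDim10
import Groth.Agent.R2.H9AffFieldSum

/-!
# Local rings and residue fields of the scheme-theoretic fibre: lengths and degrees (helper9)

* `length_stalk_fiber` : `ℓ(O_{X_y,z}) = ℓ_{O_{X,x}}(O_{X,x}/m_y O_{X,x})` for `z` over `x`.
* `finrank_fiber` : `[κ(x) : κ(f x)] = [κ(z) : κ(y)]` for a point `z` of the fibre `X_y` with image `x`.
* `sum_length_mul_degree` : for `f` finite and flat,
  `∑_{x ∈ f⁻¹(y)} ℓ(O_{X,x}/m_y O_{X,x}) · [κ(x) : κ(y)] = deg_y f`.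
-/

set_option autoImplicit false
set_option linter.style.haveILetI false

universe u

open AlgebraicGeometry CategoryTheory IsLocalRing

namespace Groth.Agent.R2.H9.FiberDeg

open Groth.Agent.R2.H9.AffFieldSum Groth.Agent.Lib.Helper5.FiberStalk Groth.Agent.Lib.Helper4.VarDim

section Alg

theorem length_eq_of_ringEquiv_quot {R S : Type*} [CommRing R] [CommRing S] (I : Ideal R)
    (e : S ≃+* R ⧸ I) : Module.length S S = Module.length R (R ⧸ I) := by
  letI alg : Algebra R S := (e.symm.toRingHom.comp (Ideal.Quotient.mk I)).toAlgebra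
  have halg : ∀ r, algebraMap R S r = e.symm (Ideal.Quotient.mk I r) := fun _ => rfl
  have hs : Function.Surjective (algebraMap R S) :=
    e.symm.surjective.comp Ideal.Quotient.mk_surjective
  rw [← Module.length_eq_of_surjective (M := S) hs]
  let e' : S ≃ₗ[R] R ⧸ I :=
    { e.toAddEquiv with
      map_smul' := fun r s => by
        change e (r • s) = r • e s
        rw [Algebra.smul_def, halg, map_mul, RingEquiv.apply_symm_apply, Algebra.smul_def]
        rfl }
  exact e'.length_eq

theorem finrank_eq_of_bijective {K L L' : Type u} [Field K] [Field L] [Field L'] (a : K →+* L)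
    (b : L →+* L') (hb : Function.Bijective b) :
    @Module.finrank K L _ _ a.toAlgebra.toModule =
      @Module.finrank K L' _ _ (b.comp a).toAlgebra.toModule := by
  letI := a.toAlgebra
  letI := (b.comp a).toAlgebra
  let e : L ≃ₐ[K] L' := { RingEquiv.ofBijective b hb with commutes' := fun c => rfl }
  exact e.toLinearEquiv.finrank_eq

theorem finrank_eq_of_SpecMap_comp_eq {S : Scheme.{u}} {L : Type u} [Field L] (s s' : S)
    (φ : S.residueField s ⟶ CommRingCat.of L) (φ' : S.residueField s' ⟶ CommRingCat.of L)
    (h : Spec.map φ ≫ S.fromSpecResidueField s = Spec.map φ' ≫ S.fromSpecResidueField s') :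
    @Module.finrank (S.residueField s) L _ _ φ.hom.toAlgebra.toModule =
      @Module.finrank (S.residueField s') L _ _ φ'.hom.toAlgebra.toModule := by
  have h2 : (⟨s, φ⟩ : Σ x, S.residueField x ⟶ CommRingCat.of L) = ⟨s', φ'⟩ :=
    (Scheme.SpecToEquivOfField L S).symm.injective h
  obtain ⟨rfl, h3⟩ := Sigma.mk.inj_iff.mp h2
  obtain rfl := eq_of_heq h3
  rfl

end Alg

/-- The structure map of a residue field of a scheme over `Spec K`, via `Spec`. -/
theorem SpecMap_resMap (K : Type u) [Field K] {W : Scheme.{u}} (p : W ⟶ Spec (CommRingCat.of K))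
    (w : W) :
    Spec.map (CommRingCat.ofHom ((W.residue w).hom.comp ((W.presheaf.germ ⊤ w trivial).hom.comp
      (sm K p)))) = W.fromSpecResidueField w ≫ p := by
  have h1 : p = W.toSpecΓ ≫ Spec.map p.appTop ≫
        Spec.map (Scheme.ΓSpecIso (CommRingCat.of K)).inv := by
    rw [← Scheme.toSpecΓ_naturality_assoc, ← SpecMap_ΓSpecIso_hom, ← Spec.map_comp,
      Iso.inv_hom_id, Spec.map_id, Category.comp_id]
  have h2 : CommRingCat.ofHom ((W.residue w).hom.comp ((W.presheaf.germ ⊤ w trivial).hom.comp
      (sm K p))) =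
      (Scheme.ΓSpecIso (CommRingCat.of K)).inv ≫ p.appTop ≫
        W.presheaf.germ ⊤ w trivial ≫ W.residue w := rfl
  rw [h2, Spec.map_comp, Spec.map_comp, Spec.map_comp]
  conv_rhs => rw [h1]
  rw [Scheme.fromSpecResidueField]
  simp only [Category.assoc]
  rw [Scheme.fromSpecStalk_toSpecΓ_assoc]

variable {X Y : Scheme.{u}} (f : X ⟶ Y)

/-- the local ring of the fibre at a point over `x` has the length of `O_{X,x}/m_{f x}O_{X,x}`. -/
theorem length_stalk_fiber (x : X) (z : f.fiber (f x)) (hz : f.fiberι (f x) z = x) :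
    Module.length ((f.fiber (f x)).presheaf.stalk z) ((f.fiber (f x)).presheaf.stalk z) =
      Module.length (X.presheaf.stalk x) (X.presheaf.stalk x ⧸
        Ideal.map (f.stalkMap x).hom (maximalIdeal (Y.presheaf.stalk (f x)))) := by
  obtain ⟨e⟩ := nonempty_stalk_fiber_equiv f x z hz
  exact length_eq_of_ringEquiv_quot _ e

/-- The degree of `κ(x)` over `κ(f x)` computed in the fibre. -/
theorem finrank_fiber (s : Y) (z : f.fiber s) :
    @Module.finrank (Y.residueField (f (f.fiberι s z))) (X.residueField (f.fiberι s z)) _ _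
      (f.residueFieldMap (f.fiberι s z)).hom.toAlgebra.toModule =
    @Module.finrank (Y.residueField s) ((f.fiber s).residueField z) _ _
      (((f.fiber s).residue z).hom.comp (((f.fiber s).presheaf.germ ⊤ z trivial).hom.comp
        (sm (Y.residueField s) (f.fiberToSpecResidueField s)))).toAlgebra.toModule := by
  rw [finrank_eq_of_bijective (f.residueFieldMap (f.fiberι s z)).hom
    ((f.fiberι s).residueFieldMap z).hom (residueFieldMap_bijective_of_isPreimmersion _ z)]
  have h1 : ((f.fiberι s).residueFieldMap z).hom.comp (f.residueFieldMap (f.fiberι s z)).hom =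
      ((f.fiberι s ≫ f).residueFieldMap z).hom := by
    rw [Scheme.residueFieldMap_comp]
    rfl
  rw [h1]
  have h2 := SpecMap_resMap (Y.residueField s) (f.fiberToSpecResidueField s) z
  have h3 : Spec.map ((f.fiberι s ≫ f).residueFieldMap z) ≫
      Y.fromSpecResidueField ((f.fiberι s ≫ f) z) =
      Spec.map (CommRingCat.ofHom (((f.fiber s).residue z).hom.comp
        (((f.fiber s).presheaf.germ ⊤ z trivial).hom.comp
          (sm (Y.residueField s) (f.fiberToSpecResidueField s))))) ≫
        Y.fromSpecResidueField s := by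
    rw [Scheme.Hom.SpecMap_residueFieldMap_fromSpecResidueField, f.fiber_fac s]
    erw [h2]
    rw [Category.assoc]
  exact finrank_eq_of_SpecMap_comp_eq (L := (f.fiber s).residueField z) _ _ _ _ h3

/-- the local contribution of a point `x` to the degree of `f`. -/
noncomputable def locDeg (x : X) : ℕ :=
  (Module.length (X.presheaf.stalk x) (X.presheaf.stalk x ⧸
    Ideal.map (f.stalkMap x).hom (maximalIdeal (Y.presheaf.stalk (f x))))).toNat *
    f.residueDegree x

theorem locDeg_eq_aux (x : X) (y : Y) (hy : f x = y) (w : f.fiber y) (hw : f.fiberι y w = x) :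
    (Module.length ((f.fiber y).presheaf.stalk w) ((f.fiber y).presheaf.stalk w)).toNat *
      @Module.finrank (Y.residueField y) ((f.fiber y).residueField w) _ _
        (((f.fiber y).residue w).hom.comp (((f.fiber y).presheaf.germ ⊤ w trivial).hom.comp
          (sm (Y.residueField y) (f.fiberToSpecResidueField y)))).toAlgebra.toModule =
      locDeg f x := by
  subst hy
  rw [locDeg, length_stalk_fiber f x w hw]
  congr 1
  have h := finrank_fiber f (f x) w
  change f.residueDegree (f.fiberι (f x) w) = _ at h
  rw [hw] at h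
  exact h.symm

theorem fiberι_mem (y : Y) (w : f.fiber y) : f (f.fiberι y w) = y := by
  have h : f.fiberι y w ∈ Set.range (f.fiberι y) := Set.mem_range_self w
  rw [f.range_fiberι y] at h
  exact h

/-- For `f` finite and flat, `∑_{x ∈ f⁻¹(y)} ℓ(O_{X,x}/m_y O_{X,x}) · [κ(x) : κ(y)] = deg_y f`. -/
theorem finsum_locDeg [IsFinite f] [Flat f] (y : Y) :
    ∑ᶠ x ∈ f ⁻¹' {y}, locDeg f x = f.finrank y := by
  haveI : IsFinite (f.fiberToSpecResidueField y) :=
    inferInstanceAs (IsFinite (Limits.pullback.snd f (Y.fromSpecResidueField y)))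
  haveI : Flat (f.fiberToSpecResidueField y) :=
    inferInstanceAs (Flat (Limits.pullback.snd f (Y.fromSpecResidueField y)))
  have h1 : f.finrank y = (f.fiberToSpecResidueField y).finrank
      (closedPoint (Y.residueField y)) := by
    have := Scheme.Hom.finrank_pullback_snd f (Y.fromSpecResidueField y)
      (closedPoint (Y.residueField y))
    rw [Scheme.fromSpecResidueField_apply] at this
    exact this.symm
  rw [h1, finrank_eq_finrank_global (Y.residueField y) (f.fiberToSpecResidueField y),
    finrank_eq_finsum_stalk (Y.residueField y) (f.fiber y)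
      (sm (Y.residueField y) (f.fiberToSpecResidueField y))
      (sm_finite (Y.residueField y) (f.fiberToSpecResidueField y)),
    ← finsum_set_coe_eq_finsum_mem (f ⁻¹' {y}) (f := fun x => locDeg f x),
    ← finsum_comp_equiv (f.fiberHomeo y).toEquiv]
  apply finsum_congr
  intro w
  exact (locDeg_eq_aux f (f.fiberι y w) y (fiberι_mem f y w) w rfl).symm

end Groth.Agent.R2.H9.FiberDeg
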