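import Mathlib
import Groth.Agent.R2.H93SplitMultiSch
import Groth.Agent.R2.H9FiberDeg
import Groth.Agent.Lib.Helper12Descent
import Groth.Prelude.Def_Mor2

/-!
# Fibre degrees of flat, locally quasi-finite, separated morphisms (helper93)

`FD q d t` : "the fibre of `q` over `t` has degree at least `d`".
-/

set_option autoImplicit false
set_option linter.style.haveILetI false

universe u

open AlgebraicGeometry CategoryTheory CategoryTheory.Limits IsLocalRing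

namespace Groth.Agent.R2.H93.FibDeg

open Groth.Agent.R2.H9.FiberDeg Groth.Agent.R2.H93.SplitMultiSch

section LocDeg

variable {W P T : Scheme.{u}}

/-- the local degree is insensitive to open immersions into the source. -/
theorem locDeg_openImmersion_comp (j : W ⟶ P) [IsOpenImmersion j] (q : P ⟶ T) (w : W) :
    locDeg (j ≫ q) w = locDeg q (j w) := by
  unfold locDeg
  congr 1
  · congr 1
    -- lengths
    have hst : (j ≫ q).stalkMap w = q.stalkMap (j w) ≫ j.stalkMap w := Scheme.Hom.stalkMap_comp j q w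
    have hbij : Function.Bijective (j.stalkMap w).hom :=
      ConcreteCategory.bijective_of_isIso (j.stalkMap w)
    let e : P.presheaf.stalk (j w) ≃+* W.presheaf.stalk w := RingEquiv.ofBijective _ hbij
    set I : Ideal (P.presheaf.stalk (j w)) :=
      Ideal.map (q.stalkMap (j w)).hom (maximalIdeal (T.presheaf.stalk (q (j w)))) with hI
    set I' : Ideal (W.presheaf.stalk w) :=
      Ideal.map ((j ≫ q).stalkMap w).hom (maximalIdeal (T.presheaf.stalk ((j ≫ q) w))) with hI'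
    have hII' : I' = Ideal.map (e : P.presheaf.stalk (j w) →+* W.presheaf.stalk w) I := by
      rw [hI', hI, Ideal.map_map]
      congr 1
      rw [hst]
      rfl
    have h1 : Module.length (W.presheaf.stalk w ⧸ I') (W.presheaf.stalk w ⧸ I') =
        Module.length (W.presheaf.stalk w) (W.presheaf.stalk w ⧸ I') :=
      length_eq_of_ringEquiv_quot I' (RingEquiv.refl _)
    have h2 : Module.length (W.presheaf.stalk w ⧸ I') (W.presheaf.stalk w ⧸ I') =
        Module.length (P.presheaf.stalk (j w)) (P.presheaf.stalk (j w) ⧸ I) :=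
      length_eq_of_ringEquiv_quot I (Ideal.quotientEquiv I I' e hII').symm
    rw [← h1, h2]
  · -- residue degrees
    unfold Scheme.Hom.residueDegree
    have h := Scheme.residueFieldMap_comp j q w
    have hb : Function.Bijective (j.residueFieldMap w).hom :=
      ConcreteCategory.bijective_of_isIso (j.residueFieldMap w)
    have := finrank_eq_of_bijective (q.residueFieldMap (j w)).hom (j.residueFieldMap w).hom hb
    rw [this]
    congr 1
    all_goals first | rfl | (rw [h]; rfl)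

end LocDeg

section Pieces

variable {P T : Scheme.{u}}

/-- the sum of the local degrees of `q` over the points of `W` lying over `t`. -/
noncomputable def fsum (q : P ⟶ T) (W : P.Opens) (t : T) : ℕ :=
  ∑ᶠ x ∈ ((W : Set P) ∩ q ⁻¹' {t}), locDeg q x

theorem image_ι_preimage (q : P ⟶ T) (W : P.Opens) (t : T) :
    W.ι '' ((W.ι ≫ q) ⁻¹' {t}) = (W : Set P) ∩ q ⁻¹' {t} := by
  ext x
  constructor
  · rintro ⟨w, hw, rfl⟩
    exact ⟨w.2, hw⟩
  · rintro ⟨hx, hq⟩
    exact ⟨⟨x, hx⟩, hq, rfl⟩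

theorem finite_inter_fibre (q : P ⟶ T) (W : P.Opens) [IsFinite (W.ι ≫ q)] (t : T) :
    ((W : Set P) ∩ q ⁻¹' {t}).Finite := by
  rw [← image_ι_preimage]
  exact ((W.ι ≫ q).finite_preimage_singleton t).image _

/-- **Lemma K**: the degree of a finite flat open piece is the sum of the local degrees. -/
theorem finrank_eq_fsum (q : P ⟶ T) (W : P.Opens) [IsFinite (W.ι ≫ q)] [Flat (W.ι ≫ q)] (t : T) :
    (W.ι ≫ q).finrank t = fsum q W t := by
  rw [← finsum_locDeg (W.ι ≫ q) t, fsum, ← image_ι_preimage,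
    finsum_mem_image (W.ι.isOpenEmbedding.injective.injOn)]
  apply finsum_mem_congr rfl
  intro w _
  exact locDeg_openImmersion_comp W.ι q w

theorem fsum_eq_sum (q : P ⟶ T) (W : P.Opens) (t : T)
    (hfin : ((W : Set P) ∩ q ⁻¹' {t}).Finite) :
    fsum q W t = ∑ x ∈ hfin.toFinset, locDeg q x :=
  finsum_mem_eq_finite_toFinset_sum _ hfin

theorem fsum_mono (q : P ⟶ T) (W1 W2 : P.Opens) (t : T)
    (hfin : ((W2 : Set P) ∩ q ⁻¹' {t}).Finite)
    (h : (W1 : Set P) ∩ q ⁻¹' {t} ⊆ (W2 : Set P) ∩ q ⁻¹' {t}) :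
    fsum q W1 t ≤ fsum q W2 t := by
  rw [fsum_eq_sum q W1 t (hfin.subset h), fsum_eq_sum q W2 t hfin]
  apply Finset.sum_le_sum_of_subset
  intro x hx
  simp only [Set.Finite.mem_toFinset] at hx ⊢
  exact h hx

theorem fsum_congr (q : P ⟶ T) (W1 W2 : P.Opens) (t : T)
    (h : (W1 : Set P) ∩ q ⁻¹' {t} = (W2 : Set P) ∩ q ⁻¹' {t}) :
    fsum q W1 t = fsum q W2 t := by
  unfold fsum
  rw [h]

/-- additivity over a fibrewise disjoint decomposition. -/
theorem fsum_add (q : P ⟶ T) (W W1 W2 : P.Opens) (t : T)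
    (hfin : ((W : Set P) ∩ q ⁻¹' {t}).Finite)
    (hu : (W : Set P) ∩ q ⁻¹' {t} = ((W1 : Set P) ∩ q ⁻¹' {t}) ∪ ((W2 : Set P) ∩ q ⁻¹' {t}))
    (hd : Disjoint ((W1 : Set P) ∩ q ⁻¹' {t}) ((W2 : Set P) ∩ q ⁻¹' {t})) :
    fsum q W t = fsum q W1 t + fsum q W2 t := by
  unfold fsum
  rw [hu]
  have h1 : ((W1 : Set P) ∩ q ⁻¹' {t}).Finite := hfin.subset (hu ▸ Set.subset_union_left)
  have h2 : ((W2 : Set P) ∩ q ⁻¹' {t}).Finite := hfin.subset (hu ▸ Set.subset_union_right)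
  exact finsum_mem_union hd h1 h2

/-- A piece of `q`: a base change of `q` together with a clopen part of the total space which is
finite and flat over the new base. -/
structure Piece (q : P ⟶ T) where
  T' : Scheme.{u}
  P' : Scheme.{u}
  φ : T' ⟶ T
  a : P' ⟶ P
  q' : P' ⟶ T'
  sq : IsPullback a q' q φ
  W : P'.Opens
  closed : IsClosed (W : Set P')
  fin : IsFinite (W.ι ≫ q')
  flat : Flat (W.ι ≫ q')

attribute [instance] Piece.fin Piece.flat

/-- the degree of a piece at a point of its base. -/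
noncomputable def Piece.rk {q : P ⟶ T} (w : Piece q) (t' : w.T') : ℕ := (w.W.ι ≫ w.q').finrank t'

theorem Piece.rk_eq_fsum {q : P ⟶ T} (w : Piece q) (t' : w.T') : w.rk t' = fsum w.q' w.W t' :=
  finrank_eq_fsum w.q' w.W t'

/-- the restricted square. -/
theorem isPullback_restrict {P' P'' T' T'' : Scheme.{u}} {b : P'' ⟶ P'} {q'' : P'' ⟶ T''}
    {q' : P' ⟶ T'} {ψ : T'' ⟶ T'} (sq : IsPullback b q'' q' ψ) (W : P'.Opens) :
    IsPullback (b ∣_ W) ((b ⁻¹ᵁ W).ι ≫ q'') (W.ι ≫ q') ψ :=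
  (isPullback_morphismRestrict b W).paste_vert sq

/-- base change of a piece. -/
noncomputable def Piece.pull {q : P ⟶ T} (w : Piece q) {T'' P'' : Scheme.{u}} (ψ : T'' ⟶ w.T')
    (b : P'' ⟶ w.P') (q'' : P'' ⟶ T'') (sq' : IsPullback b q'' w.q' ψ) : Piece q where
  T' := T''
  P' := P''
  φ := ψ ≫ w.φ
  a := b ≫ w.a
  q' := q''
  sq := sq'.paste_horiz w.sq
  W := b ⁻¹ᵁ w.W
  closed := w.closed.preimage b.continuous
  fin := MorphismProperty.of_isPullback (P := @IsFinite) (isPullback_restrict sq' w.W) w.fin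
  flat := MorphismProperty.of_isPullback (P := @Flat) (isPullback_restrict sq' w.W) w.flat

theorem Piece.rk_pull {q : P ⟶ T} (w : Piece q) {T'' P'' : Scheme.{u}} (ψ : T'' ⟶ w.T')
    (b : P'' ⟶ w.P') (q'' : P'' ⟶ T'') (sq' : IsPullback b q'' w.q' ψ) (t'' : T'') :
    (w.pull ψ b q'' sq').rk t'' = w.rk (ψ t'') :=
  Scheme.Hom.finrank_of_isPullback _ _ _ _ (isPullback_restrict sq' w.W) t''

/-- a piece of a base change of `q` is a piece of `q`. -/
noncomputable def Piece.trans {q : P ⟶ T} (w : Piece q) (v : Piece w.q') : Piece q where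
  T' := v.T'
  P' := v.P'
  φ := v.φ ≫ w.φ
  a := v.a ≫ w.a
  q' := v.q'
  sq := v.sq.paste_horiz w.sq
  W := v.W
  closed := v.closed
  fin := v.fin
  flat := v.flat

theorem Piece.rk_trans {q : P ⟶ T} (w : Piece q) (v : Piece w.q') (t : v.T') :
    (w.trans v).rk t = v.rk t := rfl

/-- a piece of `q` relative to a pullback square gives a piece of the base change. -/
theorem Piece.exists_lift {q : P ⟶ T} (w : Piece q) {T'' P'' : Scheme.{u}} (ψ : T'' ⟶ w.T')
    (c : P'' ⟶ P) (q'' : P'' ⟶ T'') (hsq : IsPullback c q'' q (ψ ≫ w.φ)) :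
    ∃ b : P'' ⟶ w.P', b ≫ w.a = c ∧ IsPullback b q'' w.q' ψ := by
  have hcomm : c ≫ q = (q'' ≫ ψ) ≫ w.φ := by rw [hsq.w, Category.assoc]
  refine ⟨w.sq.lift c (q'' ≫ ψ) hcomm, w.sq.lift_fst _ _ _, ?_⟩
  refine IsPullback.of_right ?_ (w.sq.lift_snd _ _ _) w.sq
  rw [w.sq.lift_fst]
  exact hsq

/-- the trivial piece with empty `W`. -/
noncomputable def Piece.empty (q : P ⟶ T) [Flat q] : Piece q where
  T' := T
  P' := P
  φ := 𝟙 T
  a := 𝟙 P
  q' := q
  sq := IsPullback.of_horiz_isIso ⟨by simp⟩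
  W := ⊥
  closed := by simp
  fin := by
    haveI : IsEmpty ((⊥ : P.Opens) : Scheme.{u}) := by
      constructor
      rintro ⟨x, hx⟩
      exact hx
    infer_instance
  flat := inferInstance

theorem exists_point_of_isPullback {A B C D : Scheme.{u}} {fst : A ⟶ B} {snd : A ⟶ C}
    {f : B ⟶ D} {g : C ⟶ D} (h : IsPullback fst snd f g) (x : B) (y : C) (hxy : f x = g y) :
    ∃ z : A, fst z = x ∧ snd z = y := by
  obtain ⟨z0, h1, h2⟩ := Scheme.Pullback.exists_preimage_pullback x y hxy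
  refine ⟨h.isoPullback.inv z0, ?_, ?_⟩
  · rw [← Scheme.Hom.comp_apply, h.isoPullback_inv_fst]; exact h1
  · rw [← Scheme.Hom.comp_apply, h.isoPullback_inv_snd]; exact h2

/-- common refinement of two pieces over points with the same image. -/
theorem Piece.exists_common {q : P ⟶ T} (w1 w2 : Piece q) (t1 : w1.T') (t2 : w2.T')
    (ht : w1.φ t1 = w2.φ t2) :
    ∃ (T3 P3 : Scheme.{u}) (ψ1 : T3 ⟶ w1.T') (ψ2 : T3 ⟶ w2.T') (q3 : P3 ⟶ T3)
      (b1 : P3 ⟶ w1.P') (b2 : P3 ⟶ w2.P') (t3 : T3),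
      ψ1 t3 = t1 ∧ ψ2 t3 = t2 ∧ b1 ≫ w1.a = b2 ≫ w2.a ∧
        IsPullback b1 q3 w1.q' ψ1 ∧ IsPullback b2 q3 w2.q' ψ2 := by
  obtain ⟨t3, h1, h2⟩ := Scheme.Pullback.exists_preimage_pullback (f := w1.φ) (g := w2.φ) t1 t2 ht
  have hsq1 : IsPullback (pullback.fst q (pullback.fst w1.φ w2.φ ≫ w1.φ))
      (pullback.snd q (pullback.fst w1.φ w2.φ ≫ w1.φ)) q (pullback.fst w1.φ w2.φ ≫ w1.φ) :=
    IsPullback.of_hasPullback _ _
  have hsq2 : IsPullback (pullback.fst q (pullback.fst w1.φ w2.φ ≫ w1.φ))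
      (pullback.snd q (pullback.fst w1.φ w2.φ ≫ w1.φ)) q (pullback.snd w1.φ w2.φ ≫ w2.φ) := by
    rw [← pullback.condition]; exact hsq1
  obtain ⟨b1, hb1, sq1⟩ := w1.exists_lift _ _ _ hsq1
  obtain ⟨b2, hb2, sq2⟩ := w2.exists_lift _ _ _ hsq2
  exact ⟨_, _, _, _, _, b1, b2, t3, h1, h2, hb1.trans hb2.symm, sq1, sq2⟩

/-- **Lemma C**: comparison of two pieces over the same point. -/
theorem Piece.rk_le_of_trace {q : P ⟶ T} (w1 w2 : Piece q) (t1 : w1.T') (t2 : w2.T')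
    (ht : w1.φ t1 = w2.φ t2)
    (H : ∀ z1 : w1.P', z1 ∈ w1.W → w1.q' z1 = t1 → ∀ z2 : w2.P', w2.q' z2 = t2 →
      w2.a z2 = w1.a z1 → z2 ∈ w2.W) :
    w1.rk t1 ≤ w2.rk t2 := by
  obtain ⟨T3, P3, ψ1, ψ2, q3, b1, b2, t3, h1, h2, hb, sq1, sq2⟩ := w1.exists_common w2 t1 t2 ht
  have e1 := w1.rk_pull ψ1 b1 q3 sq1 t3
  have e2 := w2.rk_pull ψ2 b2 q3 sq2 t3
  rw [h1] at e1
  rw [h2] at e2
  rw [← e1, ← e2, Piece.rk_eq_fsum, Piece.rk_eq_fsum]
  refine fsum_mono q3 _ _ t3 (finite_inter_fibre (w2.pull ψ2 b2 q3 sq2).q' (w2.pull ψ2 b2 q3 sq2).W t3) ?_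
  rintro z ⟨hz1, hz2⟩
  refine ⟨?_, hz2⟩
  have hzq : q3 z = t3 := hz2
  have hq1 : w1.q' (b1 z) = t1 := by
    rw [← Scheme.Hom.comp_apply, sq1.w, Scheme.Hom.comp_apply, hzq, h1]
  have hq2 : w2.q' (b2 z) = t2 := by
    rw [← Scheme.Hom.comp_apply, sq2.w, Scheme.Hom.comp_apply, hzq, h2]
  have ha : w2.a (b2 z) = w1.a (b1 z) := by
    rw [← Scheme.Hom.comp_apply, ← Scheme.Hom.comp_apply, hb]
  exact H (b1 z) hz1 hq1 (b2 z) hq2 ha

/-- a clopen part of a finite flat open piece is finite and flat. -/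
theorem isFinite_flat_of_le {P' T' : Scheme.{u}} (q' : P' ⟶ T') (D V : P'.Opens) (hDV : D ≤ V)
    (hD : IsClosed (D : Set P')) [IsFinite (V.ι ≫ q')] [Flat (V.ι ≫ q')] :
    IsFinite (D.ι ≫ q') ∧ Flat (D.ι ≫ q') := by
  have hfac : D.ι ≫ q' = P'.homOfLE hDV ≫ V.ι ≫ q' := by rw [Scheme.homOfLE_ι_assoc]
  have hcl : IsClosedImmersion (P'.homOfLE hDV) := by
    apply IsClosedImmersion.of_isPreimmersion
    have : Set.range (P'.homOfLE hDV) = V.ι ⁻¹' (D : Set P') := by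
      ext v
      constructor
      · rintro ⟨d, rfl⟩
        show V.ι (P'.homOfLE hDV d) ∈ (D : Set P')
        rw [← Scheme.Hom.comp_apply, Scheme.homOfLE_ι]
        exact d.2
      · intro hv
        refine ⟨⟨V.ι v, hv⟩, ?_⟩
        apply V.ι.isOpenEmbedding.injective
        rw [← Scheme.Hom.comp_apply, Scheme.homOfLE_ι]
        rfl
    rw [this]
    exact hD.preimage V.ι.continuous
  rw [hfac]
  exact ⟨inferInstance, inferInstance⟩

/-- strict comparison. -/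
theorem Piece.rk_succ_le_of_trace {q : P ⟶ T} (w1 w2 : Piece q) (t1 : w1.T') (t2 : w2.T')
    (ht : w1.φ t1 = w2.φ t2)
    (H : ∀ z1 : w1.P', z1 ∈ w1.W → w1.q' z1 = t1 → ∀ z2 : w2.P', w2.q' z2 = t2 →
      w2.a z2 = w1.a z1 → z2 ∈ w2.W)
    (y : w2.P') (hy : y ∈ w2.W) (hyt : w2.q' y = t2)
    (hne : ∀ z1 : w1.P', z1 ∈ w1.W → w1.q' z1 = t1 → w1.a z1 ≠ w2.a y) :
    w1.rk t1 + 1 ≤ w2.rk t2 := by
  obtain ⟨T3, P3, ψ1, ψ2, q3, b1, b2, t3, h1, h2, hb, sq1, sq2⟩ := w1.exists_common w2 t1 t2 ht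
  have e1 := w1.rk_pull ψ1 b1 q3 sq1 t3
  have e2 := w2.rk_pull ψ2 b2 q3 sq2 t3
  rw [h1] at e1
  rw [h2] at e2
  set v1 := w1.pull ψ1 b1 q3 sq1 with hv1
  set v2 := w2.pull ψ2 b2 q3 sq2 with hv2
  have hq1 : ∀ z : P3, q3 z = t3 → w1.q' (b1 z) = t1 := fun z hzq => by
    rw [← Scheme.Hom.comp_apply, sq1.w, Scheme.Hom.comp_apply, hzq, h1]
  have hq2 : ∀ z : P3, q3 z = t3 → w2.q' (b2 z) = t2 := fun z hzq => by
    rw [← Scheme.Hom.comp_apply, sq2.w, Scheme.Hom.comp_apply, hzq, h2]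
  have ha : ∀ z : P3, w2.a (b2 z) = w1.a (b1 z) := fun z => by
    rw [← Scheme.Hom.comp_apply, ← Scheme.Hom.comp_apply, hb]
  -- the point over `y`
  obtain ⟨z3, hz3y, hz3t⟩ := exists_point_of_isPullback sq2 y t3 (by rw [hyt, h2])
  -- the difference piece
  let D : P3.Opens := ⟨((b2 ⁻¹ᵁ w2.W : P3.Opens) : Set P3) \ ((b1 ⁻¹ᵁ w1.W : P3.Opens) : Set P3),
    (b2 ⁻¹ᵁ w2.W).2.sdiff (w1.closed.preimage b1.continuous)⟩
  have hDle : D ≤ b2 ⁻¹ᵁ w2.W := fun x hx => hx.1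
  have hDcl : IsClosed (D : Set P3) :=
    (w2.closed.preimage b2.continuous).sdiff (b1 ⁻¹ᵁ w1.W).2
  haveI : IsFinite ((b2 ⁻¹ᵁ w2.W).ι ≫ q3) := v2.fin
  haveI : Flat ((b2 ⁻¹ᵁ w2.W).ι ≫ q3) := v2.flat
  obtain ⟨hDf, hDfl⟩ := isFinite_flat_of_le q3 D (b2 ⁻¹ᵁ w2.W) hDle hDcl
  have hz3D : z3 ∈ D := by
    refine ⟨?_, ?_⟩
    · show b2 z3 ∈ w2.W
      rw [hz3y]; exact hy
    · intro hz1
      have hz1' : b1 z3 ∈ w1.W := hz1
      refine hne (b1 z3) hz1' (hq1 z3 hz3t) ?_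
      rw [← ha z3, hz3y]
  have hone : 1 ≤ (D.ι ≫ q3).finrank t3 := by
    have := Scheme.Hom.one_le_finrank_map (D.ι ≫ q3) ⟨z3, hz3D⟩
    have hpt : (D.ι ≫ q3) ⟨z3, hz3D⟩ = t3 := hz3t
    rwa [hpt] at this
  rw [finrank_eq_fsum] at hone
  rw [← e1, ← e2, Piece.rk_eq_fsum, Piece.rk_eq_fsum]
  have hfin2 : (((b2 ⁻¹ᵁ w2.W : P3.Opens) : Set P3) ∩ q3 ⁻¹' {t3}).Finite :=
    finite_inter_fibre q3 (b2 ⁻¹ᵁ w2.W) t3
  have hsub : ((b1 ⁻¹ᵁ w1.W : P3.Opens) : Set P3) ∩ q3 ⁻¹' {t3} ⊆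
      ((b2 ⁻¹ᵁ w2.W : P3.Opens) : Set P3) ∩ q3 ⁻¹' {t3} := by
    rintro z ⟨hz1, hz2⟩
    exact ⟨H (b1 z) hz1 (hq1 z hz2) (b2 z) (hq2 z hz2) (ha z), hz2⟩
  have hadd := fsum_add q3 (b2 ⁻¹ᵁ w2.W) (b1 ⁻¹ᵁ w1.W) D t3 hfin2 ?_ ?_
  · show fsum q3 (b1 ⁻¹ᵁ w1.W) t3 + 1 ≤ fsum q3 (b2 ⁻¹ᵁ w2.W) t3
    rw [hadd]
    exact Nat.add_le_add_left hone _
  · ext z
    constructor
    · rintro ⟨hz1, hz2⟩
      by_cases hz : z ∈ ((b1 ⁻¹ᵁ w1.W : P3.Opens) : Set P3)
      · exact Or.inl ⟨hz, hz2⟩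
      · exact Or.inr ⟨⟨hz1, hz⟩, hz2⟩
    · rintro (h | h)
      · exact hsub h
      · exact ⟨h.1.1, h.2⟩
  · rw [Set.disjoint_left]
    rintro z ⟨hz1, -⟩ ⟨hz2, -⟩
    exact hz2.2 hz1

end Pieces

section FDsec

variable {P T : Scheme.{u}}

/-- the piece `w` is saturated at `t'` with respect to the set `F` of points of `P`. -/
def Piece.SatAt {q : P ⟶ T} (w : Piece q) (t' : w.T') (F : Set P) : Prop :=
  ∀ z : w.P', w.q' z = t' → (z ∈ w.W ↔ w.a z ∈ F)

/-- **A1**: étale-local splitting off of a finite set of points in a fibre. -/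
theorem Piece.exists_etale_sat (q : P ⟶ T) [Flat q] [LocallyOfFinitePresentation q]
    [IsSeparated q] [LocallyQuasiFinite q] (t : T) (F : Finset P) (hF : ∀ x ∈ F, q x = t) :
    ∃ (w : Piece q) (t' : w.T'), Etale w.φ ∧ w.φ t' = t ∧ w.SatAt t' (F : Set P) := by
  obtain ⟨U, φ, u, hφ, hu, -, H⟩ := exists_etale_split_multi q t F
    (fun x hx => ⟨hF x hx, ⊤, trivial, inferInstance⟩)
  obtain ⟨V, hVc, hVf, hV⟩ :=
    H (pullback.fst q φ) (pullback.snd q φ) (IsPullback.of_hasPullback q φ)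
  exact ⟨⟨U, pullback q φ, φ, pullback.fst q φ, pullback.snd q φ, IsPullback.of_hasPullback q φ,
    V, hVc, hVf, inferInstance⟩, u, hφ, hu, hV⟩

/-- "the fibre of `q` over `t` has degree at least `d`". -/
def FD (q : P ⟶ T) (d : ℕ) (t : T) : Prop :=
  ∃ (w : Piece q) (t' : w.T'), w.φ t' = t ∧ d ≤ w.rk t'

theorem FD.mono {q : P ⟶ T} {d d' : ℕ} {t : T} (h : FD q d t) (hd : d' ≤ d) : FD q d' t := by
  obtain ⟨w, t', ht', hw⟩ := h
  exact ⟨w, t', ht', hd.trans hw⟩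

theorem FD.zero (q : P ⟶ T) [Flat q] (t : T) : FD q 0 t :=
  ⟨Piece.empty q, t, rfl, Nat.zero_le _⟩

/-- a piece of a base change of `q` is a piece of `q`. -/
noncomputable def Piece.ofBaseChange {P2 T2 : Scheme.{u}} {a : P2 ⟶ P} {q2 : P2 ⟶ T2} {q : P ⟶ T}
    {ψ : T2 ⟶ T} (sq : IsPullback a q2 q ψ) (v : Piece q2) : Piece q where
  T' := v.T'
  P' := v.P'
  φ := v.φ ≫ ψ
  a := v.a ≫ a
  q' := v.q'
  sq := v.sq.paste_horiz sq
  W := v.W
  closed := v.closed
  fin := v.fin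
  flat := v.flat

theorem FD.of_baseChange {P2 T2 : Scheme.{u}} {a : P2 ⟶ P} {q2 : P2 ⟶ T2} {q : P ⟶ T}
    {ψ : T2 ⟶ T} (sq : IsPullback a q2 q ψ) {d : ℕ} {t2 : T2} (h : FD q2 d t2) :
    FD q d (ψ t2) := by
  obtain ⟨v, t', ht', hd⟩ := h
  refine ⟨Piece.ofBaseChange sq v, t', ?_, hd⟩
  show (v.φ ≫ ψ) t' = _
  rw [Scheme.Hom.comp_apply, ht']

theorem FD.baseChange {P2 T2 : Scheme.{u}} {a : P2 ⟶ P} {q2 : P2 ⟶ T2} {q : P ⟶ T}
    {ψ : T2 ⟶ T} (sq : IsPullback a q2 q ψ) {d : ℕ} {t2 : T2} (h : FD q d (ψ t2)) :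
    FD q2 d t2 := by
  obtain ⟨w, t', ht', hd⟩ := h
  obtain ⟨t3, h1, h2⟩ := Scheme.Pullback.exists_preimage_pullback (f := w.φ) (g := ψ) t' t2 ht'
  have hsq3 : IsPullback (pullback.fst q2 (pullback.snd w.φ ψ))
      (pullback.snd q2 (pullback.snd w.φ ψ)) q2 (pullback.snd w.φ ψ) :=
    IsPullback.of_hasPullback _ _
  have hbig : IsPullback (pullback.fst q2 (pullback.snd w.φ ψ) ≫ a)
      (pullback.snd q2 (pullback.snd w.φ ψ)) q (pullback.fst w.φ ψ ≫ w.φ) := by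
    rw [pullback.condition]; exact hsq3.paste_horiz sq
  obtain ⟨b, hb, sqb⟩ := w.exists_lift _ _ _ hbig
  let v := w.pull _ b _ sqb
  refine ⟨⟨_, _, pullback.snd w.φ ψ, pullback.fst q2 _, pullback.snd q2 _, hsq3, b ⁻¹ᵁ w.W,
    v.closed, v.fin, v.flat⟩, t3, h2, ?_⟩
  have := w.rk_pull _ b _ sqb t3
  rw [h1] at this
  show d ≤ v.rk t3
  rw [this]; exact hd

theorem FD_baseChange_iff {P2 T2 : Scheme.{u}} {a : P2 ⟶ P} {q2 : P2 ⟶ T2} {q : P ⟶ T}
    {ψ : T2 ⟶ T} (sq : IsPullback a q2 q ψ) (d : ℕ) (t2 : T2) :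
    FD q2 d t2 ↔ FD q d (ψ t2) :=
  ⟨FD.of_baseChange sq, FD.baseChange sq⟩

theorem Piece.lfp {q : P ⟶ T} [LocallyOfFinitePresentation q] (w : Piece q) :
    LocallyOfFinitePresentation (w.W.ι ≫ w.q') := by
  haveI : LocallyOfFinitePresentation w.q' :=
    MorphismProperty.of_isPullback (P := @LocallyOfFinitePresentation) w.sq inferInstance
  infer_instance

theorem Piece.isOpen_rk_eq {q : P ⟶ T} [LocallyOfFinitePresentation q] (w : Piece q) (r : ℕ) :
    IsOpen {t'' : w.T' | w.rk t'' = r} := by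
  haveI := w.lfp
  exact (Scheme.Hom.isLocallyConstant_finrank (w.W.ι ≫ w.q')).isOpen_fiber r

/-- the locus where the fibre degree is at least `d` is open. -/
theorem isOpen_FD (q : P ⟶ T) [Flat q] [LocallyOfFinitePresentation q] [IsSeparated q]
    [LocallyQuasiFinite q] (d : ℕ) : IsOpen {t : T | FD q d t} := by
  classical
  rw [isOpen_iff_forall_mem_open]
  rintro t ⟨w1, t1, ht1, hd⟩
  have hfin := finite_inter_fibre w1.q' w1.W t1
  let F : Finset P := (hfin.image w1.a).toFinset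
  have hF : ∀ x ∈ F, q x = t := by
    intro x hx
    simp only [F, Set.Finite.mem_toFinset] at hx
    obtain ⟨z, ⟨-, hz⟩, rfl⟩ := hx
    have hz' : w1.q' z = t1 := hz
    rw [← Scheme.Hom.comp_apply, w1.sq.w, Scheme.Hom.comp_apply, hz', ht1]
  obtain ⟨w2, t2, hφ, ht2, hsat⟩ := Piece.exists_etale_sat q t F hF
  have hle : w1.rk t1 ≤ w2.rk t2 := by
    refine Piece.rk_le_of_trace w1 w2 t1 t2 (ht1.trans ht2.symm) ?_
    intro z1 hz1 hq1 z2 hq2 ha
    refine (hsat z2 hq2).2 ?_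
    rw [ha]
    simp only [F, Set.Finite.coe_toFinset]
    exact ⟨z1, ⟨hz1, hq1⟩, rfl⟩
  refine ⟨w2.φ '' {t'' | w2.rk t'' = w2.rk t2}, ?_, w2.φ.isOpenMap _ (w2.isOpen_rk_eq _),
    ⟨t2, rfl, ht2⟩⟩
  rintro _ ⟨t'', ht'', rfl⟩
  have ht3 : w2.rk t'' = w2.rk t2 := ht''
  exact ⟨w2, t'', rfl, by rw [ht3]; exact hd.trans hle⟩

end FDsec

section Main

variable {P T : Scheme.{u}}

/-- the trivial piece of `q` with a given clopen finite flat part. -/
noncomputable def Piece.self (q : P ⟶ T) (W : P.Opens) (hW : IsClosed (W : Set P))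
    [IsFinite (W.ι ≫ q)] [Flat (W.ι ≫ q)] : Piece q where
  T' := T
  P' := P
  φ := 𝟙 T
  a := 𝟙 P
  q' := q
  sq := IsPullback.of_horiz_isIso ⟨by simp⟩
  W := W
  closed := hW
  fin := inferInstance
  flat := inferInstance

theorem Piece.instances {q : P ⟶ T} [Flat q] [LocallyOfFinitePresentation q] [IsSeparated q]
    [LocallyQuasiFinite q] (w : Piece q) :
    Flat w.q' ∧ LocallyOfFinitePresentation w.q' ∧ IsSeparated w.q' ∧ LocallyQuasiFinite w.q' :=
  ⟨MorphismProperty.of_isPullback (P := @Flat) w.sq inferInstance,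
    MorphismProperty.of_isPullback (P := @LocallyOfFinitePresentation) w.sq inferInstance,
    MorphismProperty.of_isPullback (P := @IsSeparated) w.sq inferInstance,
    MorphismProperty.of_isPullback (P := @LocallyQuasiFinite) w.sq inferInstance⟩

/-- **Lemma Q**: a point of the fibre outside `W` increases the degree. -/
theorem Piece.FD_succ_of_notMem {q : P ⟶ T} [Flat q] [LocallyOfFinitePresentation q]
    [IsSeparated q] [LocallyQuasiFinite q] (w : Piece q) (t' : w.T') (z : w.P')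
    (hz : w.q' z = t') (hzW : z ∉ w.W) : FD q (w.rk t' + 1) (w.φ t') := by
  classical
  obtain ⟨i1, i2, i3, i4⟩ := w.instances
  let v1 : Piece w.q' := Piece.self w.q' w.W w.closed
  have hfin := finite_inter_fibre w.q' w.W t'
  let F : Finset w.P' := insert z hfin.toFinset
  have hF : ∀ x ∈ F, w.q' x = t' := by
    intro x hx
    simp only [F, Finset.mem_insert, Set.Finite.mem_toFinset] at hx
    rcases hx with rfl | ⟨-, hx⟩
    · exact hz
    · exact hx
  obtain ⟨v2, t2, -, ht2, hsat⟩ := Piece.exists_etale_sat w.q' t' F hF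
  obtain ⟨y, hy1, hy2⟩ := exists_point_of_isPullback v2.sq z t2 (by rw [hz, ht2])
  have hstrict : v1.rk t' + 1 ≤ v2.rk t2 := by
    refine Piece.rk_succ_le_of_trace v1 v2 t' t2 ht2.symm ?_ y ?_ hy2 ?_
    · intro z1 hz1 hq1 z2 hq2 ha
      refine (hsat z2 hq2).2 ?_
      rw [ha]
      simp only [F, Finset.coe_insert, Set.Finite.coe_toFinset]
      right
      exact ⟨hz1, hq1⟩
    · refine (hsat y hy2).2 ?_
      rw [hy1]
      simp [F]
    · intro z1 hz1 hq1 heq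
      have h1 : (v1.a z1 : w.P') = z1 := rfl
      rw [h1, hy1] at heq
      exact hzW (heq ▸ hz1)
  have hFD : FD w.q' (w.rk t' + 1) t' := ⟨v2, t2, ht2, hstrict⟩
  exact FD.of_baseChange w.sq hFD

/-- **chain lemma**: finitely many points in a fibre give a saturated piece of at least that
degree. -/
theorem exists_sat_card_le (q : P ⟶ T) [Flat q] [LocallyOfFinitePresentation q] [IsSeparated q]
    [LocallyQuasiFinite q] (t : T) (F : Finset P) (hF : ∀ x ∈ F, q x = t) :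
    ∃ (w : Piece q) (t' : w.T'), Etale w.φ ∧ w.φ t' = t ∧ w.SatAt t' (F : Set P) ∧
      F.card ≤ w.rk t' := by
  classical
  induction F using Finset.induction_on with
  | empty =>
    obtain ⟨w, t', he, ht', hsat⟩ := Piece.exists_etale_sat q t ∅ (by simp)
    exact ⟨w, t', he, ht', hsat, by simp⟩
  | insert x F0 hx ih =>
    obtain ⟨w0, t0, -, ht0, hsat0, hcard0⟩ := ih (fun y hy => hF y (Finset.mem_insert_of_mem hy))
    obtain ⟨w, t', he, ht', hsat⟩ := Piece.exists_etale_sat q t (insert x F0) hF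
    refine ⟨w, t', he, ht', hsat, ?_⟩
    obtain ⟨y, hy1, hy2⟩ := exists_point_of_isPullback w.sq x t'
      (by rw [hF x (Finset.mem_insert_self _ _), ht'])
    have hs := Piece.rk_succ_le_of_trace w0 w t0 t' (ht0.trans ht'.symm) ?_ y
      ((hsat y hy2).2 (by rw [hy1]; simp)) hy2 ?_
    · rw [Finset.card_insert_of_notMem hx]; omega
    · intro z1 hz1 hq1 z2 hq2 ha
      refine (hsat z2 hq2).2 ?_
      rw [ha]
      have := (hsat0 z1 hq1).1 hz1
      simp only [Finset.coe_insert, Set.mem_insert_iff]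
      right; exact this
    · intro z1 hz1 hq1 heq
      have := (hsat0 z1 hq1).1 hz1
      rw [heq, hy1] at this
      exact hx this

theorem FD_card (q : P ⟶ T) [Flat q] [LocallyOfFinitePresentation q] [IsSeparated q]
    [LocallyQuasiFinite q] (t : T) (F : Finset P) (hF : ∀ x ∈ F, q x = t) : FD q F.card t := by
  obtain ⟨w, t', -, ht', -, hc⟩ := exists_sat_card_le q t F hF
  exact ⟨w, t', ht', hc⟩

theorem fibre_finite_of_not_FD (q : P ⟶ T) [Flat q] [LocallyOfFinitePresentation q]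
    [IsSeparated q] [LocallyQuasiFinite q] (t : T) (r : ℕ) (h : ¬ FD q (r + 1) t) :
    (q ⁻¹' {t}).Finite := by
  by_contra hinf
  obtain ⟨F, hFsub, hFcard⟩ := Set.Infinite.exists_subset_card_eq hinf (r + 1)
  apply h
  rw [← hFcard]
  exact FD_card q t F (fun x hx => hFsub hx)

end Main

section Descent

open MorphismProperty

/-- A Zariski-local property descending along fppf covers can be checked étale locally on the
target. -/
theorem of_etale_local (Q : MorphismProperty Scheme.{u}) [IsZariskiLocalAtTarget Q]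
    [Q.DescendsAlong (@Surjective ⊓ @Flat ⊓ @LocallyOfFinitePresentation)]
    {X Y : Scheme.{u}} (f : X ⟶ Y)
    (H : ∀ y : Y, ∃ (U X' : Scheme.{u}) (φ : U ⟶ Y) (a : X' ⟶ X) (f' : X' ⟶ U),
      IsPullback a f' f φ ∧ Etale φ ∧ y ∈ Set.range φ ∧ Q f') : Q f := by
  choose U X' φ a f' hsq hφ hy hQ using H
  let A : Y → Y.Opens := fun y => ⟨Set.range (φ y), (φ y).isOpenMap.isOpen_range⟩
  have hA : iSup A = ⊤ := by
    rw [eq_top_iff]
    intro y _
    exact TopologicalSpace.Opens.mem_iSup.2 ⟨y, hy y⟩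
  rw [IsZariskiLocalAtTarget.iff_of_iSup_eq_top (P := Q) A hA]
  intro y
  have hrange : Set.range (φ y) ⊆ Set.range (A y).ι := by
    rw [Scheme.Opens.range_ι]
    exact subset_rfl
  let φ' : U y ⟶ (A y : Scheme.{u}) := IsOpenImmersion.lift (A y).ι (φ y) hrange
  have hφ' : φ' ≫ (A y).ι = φ y := IsOpenImmersion.lift_fac _ _ _
  have hright : IsPullback (f ⁻¹ᵁ A y).ι (f ∣_ A y) f (A y).ι :=
    (isPullback_morphismRestrict f (A y)).flip
  have hcomm : a y ≫ f = (f' y ≫ φ') ≫ (A y).ι := by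
    rw [Category.assoc, hφ', (hsq y).w]
  let a' : X' y ⟶ (f ⁻¹ᵁ A y : Scheme.{u}) := hright.lift (a y) (f' y ≫ φ') hcomm
  have ha'1 : a' ≫ (f ⁻¹ᵁ A y).ι = a y := hright.lift_fst _ _ _
  have ha'2 : a' ≫ (f ∣_ A y) = f' y ≫ φ' := hright.lift_snd _ _ _
  have hleft : IsPullback a' (f' y) (f ∣_ A y) φ' := by
    refine IsPullback.of_right ?_ ha'2 hright
    rw [ha'1, hφ']
    exact hsq y
  have h1 : Etale (φ' ≫ (A y).ι) := by rw [hφ']; exact hφ y
  have hφ'et : Etale φ' :=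
    MorphismProperty.of_postcomp (W := @Etale) (W' := @IsOpenImmersion) φ' (A y).ι
      inferInstance h1
  have hsurj : Surjective φ' := by
    constructor
    rintro ⟨x, u, rfl⟩
    refine ⟨u, ?_⟩
    apply (A y).ι.isOpenEmbedding.injective
    rw [← Scheme.Hom.comp_apply, hφ']
    rfl
  exact MorphismProperty.of_isPullback_of_descendsAlong
    (Q := @Surjective ⊓ @Flat ⊓ @LocallyOfFinitePresentation) hleft.flip
    ⟨⟨hsurj, inferInstance⟩, inferInstance⟩ (hQ y)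

end Descent

section MainThm

variable {P T : Scheme.{u}}

theorem isIso_top_ι (X : Scheme.{u}) : IsIso (⊤ : X.Opens).ι := by
  rw [← Scheme.topIso_hom]; infer_instance

theorem isFinite_of_top_aux {P' T' : Scheme.{u}} (q' : P' ⟶ T') (W : P'.Opens) (hW : W = ⊤)
    [fin : IsFinite (W.ι ≫ q')] [flat : Flat (W.ι ≫ q')] :
    IsFinite q' ∧ Flat q' ∧ ∀ t', q'.finrank t' = (W.ι ≫ q').finrank t' := by
  subst hW
  haveI := isIso_top_ι P'
  have h1 : IsFinite q' :=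
    (MorphismProperty.cancel_left_of_respectsIso @IsFinite (⊤ : P'.Opens).ι q').1 fin
  have h2 : Flat q' :=
    (MorphismProperty.cancel_left_of_respectsIso @Flat (⊤ : P'.Opens).ι q').1 flat
  refine ⟨h1, h2, fun t' => ?_⟩
  rw [Scheme.Hom.finrank_comp_left_of_isIso]

/-- a piece with `W = ⊤`. -/
theorem Piece.isFinite_of_top {q : P ⟶ T} (w : Piece q) (hW : w.W = ⊤) :
    IsFinite w.q' ∧ Flat w.q' ∧ ∀ t', w.q'.finrank t' = w.rk t' :=
  isFinite_of_top_aux w.q' w.W hW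

/-- the trivial piece with `W = ⊤` of a finite flat morphism. -/
noncomputable def Piece.top (q : P ⟶ T) [IsFinite q] [Flat q] : Piece q :=
  haveI := isIso_top_ι P
  Piece.self q ⊤ isClosed_univ

theorem Piece.top_rk (q : P ⟶ T) [IsFinite q] [Flat q] (t : T) :
    (Piece.top q).rk t = q.finrank t := by
  haveI := isIso_top_ι P
  show ((⊤ : P.Opens).ι ≫ q).finrank t = q.finrank t
  rw [Scheme.Hom.finrank_comp_left_of_isIso]

theorem FD_of_finite (q : P ⟶ T) [IsFinite q] [Flat q] (t : T) (d : ℕ) :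
    FD q d t ↔ d ≤ q.finrank t := by
  constructor
  · rintro ⟨w1, t1, ht1, hd⟩
    rw [← Piece.top_rk]
    refine hd.trans (Piece.rk_le_of_trace w1 (Piece.top q) t1 t ht1 ?_)
    intro _ _ _ _ _ _
    trivial
  · intro hd
    exact ⟨Piece.top q, t, rfl, by rw [Piece.top_rk]; exact hd⟩

/-- **Lemma L**: étale locally around a point where the degree is exactly `r` (and nowhere larger)
the morphism becomes finite locally free of degree `r`. -/
theorem exists_etale_full (q : P ⟶ T) [Flat q] [LocallyOfFinitePresentation q] [IsSeparated q]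
    [LocallyQuasiFinite q] (r : ℕ) (h : ∀ t, FD q r t ∧ ¬ FD q (r + 1) t) (t : T) :
    ∃ (w : Piece q) (t' : w.T'), Etale w.φ ∧ w.φ t' = t ∧ w.W = ⊤ ∧ ∀ t'', w.rk t'' = r := by
  classical
  have hfin := fibre_finite_of_not_FD q t r (h t).2
  obtain ⟨w, t', he, ht', hsat⟩ := Piece.exists_etale_sat q t hfin.toFinset (by simp)
  have hrk : w.rk t' = r := by
    apply le_antisymm
    · by_contra hlt
      push Not at hlt
      exact (h t).2 ⟨w, t', ht', hlt⟩
    · obtain ⟨w1, t1, ht1, hd⟩ := (h t).1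
      refine hd.trans (Piece.rk_le_of_trace w1 w t1 t' (ht1.trans ht'.symm) ?_)
      intro z1 hz1 hq1 z2 hq2 ha
      refine (hsat z2 hq2).2 ?_
      simp only [Set.Finite.coe_toFinset, Set.mem_preimage, Set.mem_singleton_iff]
      rw [← Scheme.Hom.comp_apply, w.sq.w, Scheme.Hom.comp_apply, hq2, ht']
  let N : w.T'.Opens := ⟨{t'' | w.rk t'' = r}, w.isOpen_rk_eq r⟩
  have hNW : ∀ z : w.P', w.q' z ∈ N → z ∈ w.W := by
    intro z hz
    by_contra hzW
    have := w.FD_succ_of_notMem (w.q' z) z rfl hzW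
    rw [show w.rk (w.q' z) = r from hz] at this
    exact (h _).2 this
  let wN := w.pull N.ι (w.q' ⁻¹ᵁ N).ι (w.q' ∣_ N) (isPullback_morphismRestrict w.q' N).flip
  refine ⟨wN, ⟨t', hrk⟩, ?_, ?_, ?_, ?_⟩
  · show Etale (N.ι ≫ w.φ)
    infer_instance
  · show (N.ι ≫ w.φ) ⟨t', hrk⟩ = t
    exact ht'
  · ext x
    simp only [TopologicalSpace.Opens.coe_top, Set.mem_univ, iff_true]
    exact hNW x.1 x.2
  · intro t''
    rw [Piece.rk_pull]
    exact t''.2

/-- **Main theorem**: `q` is finite locally free of degree `r` iff all its fibres have degree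
exactly `r`. -/
theorem isFinLocFreeOfDeg_iff (q : P ⟶ T) [Flat q] [LocallyOfFinitePresentation q] [IsSeparated q]
    [LocallyQuasiFinite q] (r : ℕ) :
    Mor2.IsFinLocFreeOfDeg r q ↔ ∀ t, FD q r t ∧ ¬ FD q (r + 1) t := by
  constructor
  · rintro ⟨⟨hf, -, -⟩, hrank⟩ t
    rw [FD_of_finite, FD_of_finite, hrank t]
    exact ⟨le_rfl, by omega⟩
  · intro h
    have hfin : IsFinite q := by
      haveI := Groth.Agent.Lib.Helper12.descendsAlong_isFinite.{u}
      apply of_etale_local @IsFinite q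
      intro t
      obtain ⟨w, t', he, ht', hW, -⟩ := exists_etale_full q r h t
      exact ⟨w.T', w.P', w.φ, w.a, w.q', w.sq, he, ⟨t', ht'⟩, (w.isFinite_of_top hW).1⟩
    refine ⟨⟨hfin, inferInstance, inferInstance⟩, fun t => ?_⟩
    obtain ⟨w, t', he, ht', hW, hrk⟩ := exists_etale_full q r h t
    obtain ⟨-, -, h3⟩ := w.isFinite_of_top hW
    rw [← ht', ← Scheme.Hom.finrank_of_isPullback _ _ _ _ w.sq t', h3, hrk]

end MainThm

end Groth.Agent.R2.H93.FibDeg
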