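import Mathlib
import Groth.Agent.R2.H93FibDeg
import Groth.Agent.R2.H9AffFieldSum

/-!
# Fibre degrees over a field: comparison with the rank of the ring of global sections (helper93)
-/

set_option autoImplicit false
set_option linter.style.haveILetI false

universe u

open AlgebraicGeometry CategoryTheory CategoryTheory.Limits IsLocalRing TopologicalSpace

namespace Groth.Agent.R2.H93.FibDegField

open Groth.Agent.R2.H93.FibDeg Groth.Agent.R2.H9.AffFieldSum

/-- sections over a clopen subset extend to global sections. -/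
theorem res_surjective_of_compl {P : Scheme.{u}} (A B : P.Opens) (hdisj : A ⊓ B = ⊥)
    (hcov : A ⊔ B = ⊤) :
    Function.Surjective (P.presheaf.map (homOfLE (le_top : A ≤ ⊤)).op).hom := by
  intro s
  let U : Bool → P.Opens := fun b => bif b then A else B
  have hsub : Subsingleton Γ(P, A ⊓ B) := by rw [hdisj]; infer_instance
  have hsub' : Subsingleton Γ(P, B ⊓ A) := by rw [inf_comm, hdisj]; infer_instance
  let sf : ∀ b : Bool, ToType (P.sheaf.1.obj (Opposite.op (U b))) := fun b =>
    Bool.rec (motive := fun b => ToType (P.sheaf.1.obj (Opposite.op (U b))))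
      (0 : Γ(P, B)) (s : Γ(P, A)) b
  have hcomp : TopCat.Presheaf.IsCompatible P.sheaf.1 U sf := by
    rintro (_ | _) (_ | _)
    · rfl
    · exact @Subsingleton.elim _ hsub' _ _
    · exact @Subsingleton.elim _ hsub _ _
    · rfl
  have hcover : (⊤ : P.Opens) ≤ iSup U := by
    rw [← hcov]
    apply sup_le
    · exact le_iSup U true
    · exact le_iSup U false
  obtain ⟨t, ht, -⟩ := P.sheaf.existsUnique_gluing' U ⊤ (fun b => homOfLE le_top) hcover sf hcomp
  exact ⟨t, ht true⟩

variable (K : Type u) [Field K] {P : Scheme.{u}} (q : P ⟶ Spec (CommRingCat.of K))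

instance : Subsingleton (Spec (CommRingCat.of K)) :=
  inferInstanceAs (Subsingleton (PrimeSpectrum K))

theorem isLocallyArtinian_spec : IsLocallyArtinian (Spec (CommRingCat.of K)) :=
  Scheme.isLocallyArtinianScheme_Spec.mpr (inferInstanceAs (IsArtinianRing K))

theorem discreteTopology [LocallyQuasiFinite q] : DiscreteTopology P := by
  haveI := isLocallyArtinian_spec K
  haveI : IsLocallyArtinian P := IsLocallyArtinian.of_locallyQuasiFinite q
  infer_instance

/-- the open subscheme on a set of points. -/
def setOpen [LocallyQuasiFinite q] (F : Set P) : P.Opens :=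
  haveI := discreteTopology K q
  ⟨F, isOpen_discrete _⟩

theorem isClosed_setOpen [LocallyQuasiFinite q] (F : Set P) :
    IsClosed (setOpen K q F : Set P) := by
  haveI := discreteTopology K q
  exact isClosed_discrete _

theorem isFinite_setOpen [LocallyQuasiFinite q] (F : Set P) (hF : F.Finite) :
    IsFinite ((setOpen K q F).ι ≫ q) := by
  haveI : Finite (setOpen K q F) := hF
  haveI : CompactSpace ↥(setOpen K q F).toScheme := Finite.compactSpace
  haveI : QuasiCompact ((setOpen K q F).ι ≫ q) :=
    (quasiCompact_iff_compactSpace _).2 inferInstance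
  haveI := isLocallyArtinian_spec K
  exact IsFinite.of_locallyQuasiFinite _

theorem sm_comp_ι (W : P.Opens) :
    sm K (W.ι ≫ q) = W.ι.appTop.hom.comp (sm K q) := by
  ext c
  simp [sm]

/-- restriction to a clopen part does not increase the rank of global sections. -/
theorem rank_le_of_clopen (W : P.Opens) (hW : IsClosed (W : Set P)) :
    @Module.rank K Γ(W, ⊤) _ _ (sm K (W.ι ≫ q)).toAlgebra.toModule ≤
      @Module.rank K Γ(P, ⊤) _ _ (sm K q).toAlgebra.toModule := by
  letI : Algebra K Γ(P, ⊤) := (sm K q).toAlgebra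
  letI : Algebra K Γ(W, ⊤) := (sm K (W.ι ≫ q)).toAlgebra
  let L : Γ(P, ⊤) →ₗ[K] Γ(W, ⊤) :=
    { toFun := W.ι.appTop.hom
      map_add' := map_add _
      map_smul' := fun c a => by
        simp only [Algebra.smul_def, RingHom.id_apply, map_mul]
        have := sm_comp_ι K q W
        have h2 := (congrArg (fun φ : K →+* Γ(W, ⊤) => φ c) this).symm
        exact congrArg (· * _) h2 }
  have hsurj : Function.Surjective L := by
    let C : P.Opens := ⟨(W : Set P)ᶜ, hW.isOpen_compl⟩
    have hdisj : (W.ι ''ᵁ ⊤) ⊓ C = ⊥ := by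
      rw [Scheme.Opens.ι_image_top]
      ext x
      simp [C]
    have hcov : (W.ι ''ᵁ ⊤) ⊔ C = ⊤ := by
      rw [Scheme.Opens.ι_image_top]
      ext x
      simp [C]
    exact res_surjective_of_compl (W.ι ''ᵁ ⊤) C hdisj hcov
  exact LinearMap.rank_le_of_surjective L hsurj

/-- **fibre degree over a field = rank of the ring of global sections.** -/
theorem FD_iff_rank [Flat q] [LocallyOfFinitePresentation q] [IsSeparated q]
    [LocallyQuasiFinite q] (d : ℕ) (pt : Spec (CommRingCat.of K)) :
    FD q d pt ↔ (d : Cardinal.{u}) ≤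
      @Module.rank K Γ(P, ⊤) _ _ (sm K q).toAlgebra.toModule := by
  classical
  constructor
  · rintro ⟨w, t', ht', hd⟩
    have hfin := finite_inter_fibre w.q' w.W t'
    set F : Set P := w.a '' ((w.W : Set w.P') ∩ w.q' ⁻¹' {t'}) with hF
    have hFfin : F.Finite := hfin.image _
    haveI := isFinite_setOpen K q F hFfin
    let v : Piece q := Piece.self q (setOpen K q F) (isClosed_setOpen K q F)
    have hle : w.rk t' ≤ v.rk pt := by
      refine Piece.rk_le_of_trace w v t' pt (Subsingleton.elim _ _) ?_
      intro z1 hz1 hq1 z2 _ ha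
      have h1 : (v.a z2 : P) = z2 := rfl
      rw [h1] at ha
      show z2 ∈ F
      rw [ha]
      exact ⟨z1, ⟨hz1, hq1⟩, rfl⟩
    have hrk : v.rk pt = @Module.finrank K Γ(setOpen K q F, ⊤) _ _
        (sm K ((setOpen K q F).ι ≫ q)).toAlgebra.toModule :=
      finrank_eq_finrank_global K ((setOpen K q F).ι ≫ q) pt
    letI : Algebra K Γ(setOpen K q F, ⊤) := (sm K ((setOpen K q F).ι ≫ q)).toAlgebra
    haveI : Module.Finite K Γ(setOpen K q F, ⊤) := sm_finite K ((setOpen K q F).ι ≫ q)
    have h1 : (d : Cardinal.{u}) ≤ (Module.finrank K Γ(setOpen K q F, ⊤) : Cardinal.{u}) := by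
      exact_mod_cast (hd.trans hle).trans hrk.le
    rw [Module.finrank_eq_rank] at h1
    exact h1.trans (rank_le_of_clopen K q (setOpen K q F) (isClosed_setOpen K q F))
  · intro hd
    by_cases hP : Finite P
    · haveI : CompactSpace P := Finite.compactSpace
      haveI : QuasiCompact q := (quasiCompact_iff_compactSpace _).2 inferInstance
      haveI := isLocallyArtinian_spec K
      haveI : IsFinite q := IsFinite.of_locallyQuasiFinite q
      rw [FD_of_finite, finrank_eq_finrank_global K q pt]
      letI : Algebra K Γ(P, ⊤) := (sm K q).toAlgebra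
      haveI : Module.Finite K Γ(P, ⊤) := sm_finite K q
      rw [← Module.finrank_eq_rank] at hd
      exact_mod_cast hd
    · rw [not_finite_iff_infinite] at hP
      obtain ⟨F, -, hFcard⟩ := Set.Infinite.exists_subset_card_eq (Set.infinite_univ (α := P)) d
      rw [← hFcard]
      exact FD_card q pt F (fun x _ => Subsingleton.elim _ _)

/-- the fibre degree at the image of a field-valued point is the rank of global sections of the
base change. -/
theorem FD_iff_rank_pullback {X S : Scheme.{u}} (f : X ⟶ S) [Flat f] [LocallyOfFinitePresentation f]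
    [IsSeparated f] [LocallyQuasiFinite f] (g : Spec (CommRingCat.of K) ⟶ S) (d : ℕ)
    (pt : Spec (CommRingCat.of K)) :
    FD f d (g pt) ↔ (d : Cardinal.{u}) ≤
      @Module.rank K Γ(pullback f g, ⊤) _ _ (sm K (pullback.snd f g)).toAlgebra.toModule := by
  rw [← FD_baseChange_iff (IsPullback.of_hasPullback f g) d pt]
  exact FD_iff_rank K (pullback.snd f g) d pt

/-- a degree function from pointwise bounds. -/
theorem exists_deg {X S : Scheme.{u}} (f : X ⟶ S) [Flat f]
    (hb : ∀ s : S, ∃ n : ℕ, ∀ d, FD f d s → d ≤ n) :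
    ∃ deg : S → ℕ, ∀ s d, FD f d s ↔ d ≤ deg s := by
  classical
  choose n hn using hb
  refine ⟨fun s => Nat.findGreatest (fun d => FD f d s) (n s), fun s d => ⟨fun h => ?_, fun h => ?_⟩⟩
  · exact Nat.le_findGreatest (hn s d h) h
  · have h0 : FD f (Nat.findGreatest (fun d => FD f d s) (n s)) s :=
      Nat.findGreatest_spec (P := fun d => FD f d s) (Nat.zero_le _) (FD.zero f s)
    exact h0.mono h

end Groth.Agent.R2.H93.FibDegField
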