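import Mathlib
import Groth.Agent.R2.H93FibDeg
import Groth.Agent.R2.H93FibDegField

/-!
# Fibre degrees of quasi-compact flat lqf separated morphisms: retrocompactness (helper93)
-/

set_option autoImplicit false
set_option linter.style.haveILetI false

universe u

open AlgebraicGeometry CategoryTheory CategoryTheory.Limits IsLocalRing TopologicalSpace

namespace Groth.Agent.R2.H93.FibDegQc

open Groth.Agent.R2.H93.FibDeg Groth.Agent.R2.H9.FiberDeg

section Restrict

variable {P T : Scheme.{u}}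

/-- an open immersion with closed range into a finite flat open piece is finite flat. -/
theorem isFinite_flat_of_openImmersion {P' T' Z : Scheme.{u}} (q' : P' ⟶ T') (V : P'.Opens)
    [IsFinite (V.ι ≫ q')] [Flat (V.ι ≫ q')] (j : Z ⟶ P') [IsOpenImmersion j]
    (hjV : Set.range j ⊆ (V : Set P')) (hcl : IsClosed (Set.range j)) :
    IsFinite (j ≫ q') ∧ Flat (j ≫ q') := by
  have hr : Set.range j ⊆ Set.range V.ι := by rw [Scheme.Opens.range_ι]; exact hjV
  let j' : Z ⟶ (V : Scheme.{u}) := IsOpenImmersion.lift V.ι j hr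
  have hj' : j' ≫ V.ι = j := IsOpenImmersion.lift_fac _ _ _
  haveI : IsOpenImmersion (j' ≫ V.ι) := by rw [hj']; infer_instance
  haveI : IsOpenImmersion j' := IsOpenImmersion.of_comp j' V.ι
  have hcl' : IsClosedImmersion j' := by
    apply IsClosedImmersion.of_isPreimmersion
    have : Set.range j' = V.ι ⁻¹' (Set.range j) := by
      ext v
      constructor
      · rintro ⟨z, rfl⟩
        refine ⟨z, ?_⟩
        rw [← hj', Scheme.Hom.comp_apply]
      · rintro ⟨z, hz⟩
        refine ⟨z, ?_⟩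
        apply V.ι.isOpenEmbedding.injective
        rw [← Scheme.Hom.comp_apply, hj', hz]
    rw [this]
    exact hcl.preimage V.ι.continuous
  have hfac : j ≫ q' = j' ≫ V.ι ≫ q' := by rw [← Category.assoc, hj']
  rw [hfac]
  exact ⟨inferInstance, inferInstance⟩

/-- the sum of local degrees over the points of an open immersion. -/
theorem fsum_openImmersion {P' T' Z : Scheme.{u}} (q' : P' ⟶ T') (j : Z ⟶ P') [IsOpenImmersion j]
    (D : P'.Opens) (hD : (D : Set P') = Set.range j) [IsFinite (j ≫ q')] [Flat (j ≫ q')]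
    (t : T') : (j ≫ q').finrank t = fsum q' D t := by
  rw [← finsum_locDeg (j ≫ q') t, fsum]
  have himg : j '' ((j ≫ q') ⁻¹' {t}) = (D : Set P') ∩ q' ⁻¹' {t} := by
    ext x
    constructor
    · rintro ⟨z, hz, rfl⟩
      exact ⟨by rw [hD]; exact ⟨z, rfl⟩, hz⟩
    · rintro ⟨hx, hq⟩
      rw [hD] at hx
      obtain ⟨z, rfl⟩ := hx
      exact ⟨z, hq, rfl⟩
  rw [← himg, finsum_mem_image (j.isOpenEmbedding.injective.injOn)]
  apply finsum_mem_congr rfl
  intro z _
  exact locDeg_openImmersion_comp j q' z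

end Restrict

section Restrict2

variable {P T : Scheme.{u}}

theorem range_ι_comp_ι {X : Scheme.{u}} (U W : X.Opens) :
    Set.range ((U.ι ⁻¹ᵁ W).ι ≫ U.ι) = (W : Set X) ∩ (U : Set X) := by
  ext x
  constructor
  · rintro ⟨z, rfl⟩
    exact ⟨z.2, z.1.2⟩
  · rintro ⟨hxW, hxU⟩
    exact ⟨⟨⟨x, hxU⟩, hxW⟩, rfl⟩

theorem restrict_aux {q : P ⟶ T} (v : Piece q) (R : P.Opens) (hR : IsClosed (R : Set P)) :
    IsFinite (((v.a ⁻¹ᵁ R).ι ⁻¹ᵁ v.W).ι ≫ (v.a ⁻¹ᵁ R).ι ≫ v.q') ∧
      Flat (((v.a ⁻¹ᵁ R).ι ⁻¹ᵁ v.W).ι ≫ (v.a ⁻¹ᵁ R).ι ≫ v.q') := by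
  have h := isFinite_flat_of_openImmersion v.q' v.W (((v.a ⁻¹ᵁ R).ι ⁻¹ᵁ v.W).ι ≫ (v.a ⁻¹ᵁ R).ι)
    (by rw [range_ι_comp_ι]; exact Set.inter_subset_left)
    (by rw [range_ι_comp_ι]; exact v.closed.inter (hR.preimage v.a.continuous))
  rwa [Category.assoc] at h

/-- restriction of a piece to a clopen part `R` of `P`. -/
noncomputable def restrictPiece {q : P ⟶ T} (v : Piece q) (R : P.Opens)
    (hR : IsClosed (R : Set P)) : Piece (R.ι ≫ q) where
  T' := v.T'
  P' := ↑(v.a ⁻¹ᵁ R)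
  φ := v.φ
  a := v.a ∣_ R
  q' := (v.a ⁻¹ᵁ R).ι ≫ v.q'
  sq := isPullback_restrict v.sq R
  W := (v.a ⁻¹ᵁ R).ι ⁻¹ᵁ v.W
  closed := v.closed.preimage (v.a ⁻¹ᵁ R).ι.continuous
  fin := (restrict_aux v R hR).1
  flat := (restrict_aux v R hR).2

theorem rk_restrictPiece {q : P ⟶ T} (v : Piece q) (R : P.Opens) (hR : IsClosed (R : Set P))
    (t' : v.T') : (restrictPiece v R hR).rk t' = fsum v.q' (v.W ⊓ v.a ⁻¹ᵁ R) t' := by
  obtain ⟨h1, h2⟩ := isFinite_flat_of_openImmersion v.q' v.W
    (((v.a ⁻¹ᵁ R).ι ⁻¹ᵁ v.W).ι ≫ (v.a ⁻¹ᵁ R).ι)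
    (by rw [range_ι_comp_ι]; exact Set.inter_subset_left)
    (by rw [range_ι_comp_ι]; exact v.closed.inter (hR.preimage v.a.continuous))
  have h := fsum_openImmersion v.q' (((v.a ⁻¹ᵁ R).ι ⁻¹ᵁ v.W).ι ≫ (v.a ⁻¹ᵁ R).ι)
    (v.W ⊓ v.a ⁻¹ᵁ R) (by rw [range_ι_comp_ι]; rfl) t'
  rw [Category.assoc] at h
  exact h

end Restrict2

section Additivity

variable {P T : Scheme.{u}}

/-- decomposition of the degree of a piece along a clopen decomposition `P = W ⊔ R` with `W` finite
flat of constant degree `r`. -/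
theorem rk_decomp {q : P ⟶ T} (W : P.Opens) [IsFinite (W.ι ≫ q)] [Flat (W.ι ≫ q)] (r : ℕ)
    (hr : ∀ t, (W.ι ≫ q).finrank t = r) (R : P.Opens) (hRc : IsClosed (R : Set P))
    (hR : (R : Set P) = (W : Set P)ᶜ) (v : Piece q) (t' : v.T') :
    ∃ m : ℕ, m ≤ r ∧ v.rk t' = m + (restrictPiece v R hRc).rk t' ∧
      ((∀ z : v.P', v.q' z = t' → v.a z ∈ W → z ∈ v.W) → m = r) := by
  haveI hfW : IsFinite ((v.a ⁻¹ᵁ W).ι ≫ v.q') :=
    MorphismProperty.of_isPullback (P := @IsFinite) (isPullback_restrict v.sq W) inferInstance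
  haveI hflW : Flat ((v.a ⁻¹ᵁ W).ι ≫ v.q') :=
    MorphismProperty.of_isPullback (P := @Flat) (isPullback_restrict v.sq W) inferInstance
  have hrW : fsum v.q' (v.a ⁻¹ᵁ W) t' = r := by
    rw [← finrank_eq_fsum, Scheme.Hom.finrank_of_isPullback _ _ _ _ (isPullback_restrict v.sq W) t',
      hr]
  refine ⟨fsum v.q' (v.W ⊓ v.a ⁻¹ᵁ W) t', ?_, ?_, ?_⟩
  · rw [← hrW]
    refine fsum_mono v.q' _ _ t' (finite_inter_fibre v.q' (v.a ⁻¹ᵁ W) t') ?_
    rintro z ⟨hz1, hz2⟩
    exact ⟨hz1.2, hz2⟩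
  · rw [rk_restrictPiece, Piece.rk_eq_fsum]
    refine fsum_add v.q' v.W _ _ t' (finite_inter_fibre v.q' v.W t') ?_ ?_
    · ext z
      constructor
      · rintro ⟨hz1, hz2⟩
        by_cases hz : v.a z ∈ W
        · exact Or.inl ⟨⟨hz1, hz⟩, hz2⟩
        · refine Or.inr ⟨⟨hz1, ?_⟩, hz2⟩
          show v.a z ∈ (R : Set P)
          rw [hR]
          exact hz
      · rintro (h | h)
        · exact ⟨h.1.1, h.2⟩
        · exact ⟨h.1.1, h.2⟩
    · rw [Set.disjoint_left]
      rintro z ⟨hz1, -⟩ ⟨hz2, -⟩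
      have h1 : v.a z ∈ (W : Set P) := hz1.2
      have h2 : v.a z ∈ (R : Set P) := hz2.2
      rw [hR] at h2
      exact h2 h1
  · intro hsat
    rw [← hrW]
    apply fsum_congr
    ext z
    constructor
    · rintro ⟨hz1, hz2⟩
      exact ⟨hz1.2, hz2⟩
    · rintro ⟨hz1, hz2⟩
      exact ⟨⟨hsat z hz2 hz1, hz1⟩, hz2⟩

/-- **additivity of the fibre degree** along a clopen decomposition with one part finite flat of
constant degree. -/
theorem FD_add_iff (q : P ⟶ T) [Flat q] [LocallyOfFinitePresentation q] [IsSeparated q]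
    [LocallyQuasiFinite q] (W : P.Opens) [IsFinite (W.ι ≫ q)] [Flat (W.ι ≫ q)] (r : ℕ)
    (hr : ∀ t, (W.ι ≫ q).finrank t = r) (R : P.Opens) (hRc : IsClosed (R : Set P))
    (hR : (R : Set P) = (W : Set P)ᶜ) (d : ℕ) (t : T) :
    FD q d t ↔ FD (R.ι ≫ q) (d - r) t := by
  classical
  constructor
  · rintro ⟨v, t', ht', hd⟩
    obtain ⟨m, hm, hdec, -⟩ := rk_decomp W r hr R hRc hR v t'
    exact ⟨restrictPiece v R hRc, t', ht', by omega⟩
  · rintro ⟨u, t1, ht1, hd⟩
    have hfin1 := finite_inter_fibre q W t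
    have hfin2 := finite_inter_fibre u.q' u.W t1
    let F : Finset P := hfin1.toFinset ∪ (hfin2.image (fun z => R.ι (u.a z))).toFinset
    have hF : ∀ x ∈ F, q x = t := by
      intro x hx
      simp only [F, Finset.mem_union, Set.Finite.mem_toFinset] at hx
      rcases hx with ⟨-, hx⟩ | ⟨z, ⟨-, hz⟩, rfl⟩
      · exact hx
      · have hz' : u.q' z = t1 := hz
        have hw := u.sq.w
        show q (R.ι (u.a z)) = t
        rw [← Scheme.Hom.comp_apply, ← Scheme.Hom.comp_apply, hw, Scheme.Hom.comp_apply, hz', ht1]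
    obtain ⟨v, t', -, ht', hsat⟩ := Piece.exists_etale_sat q t F hF
    obtain ⟨m, -, hdec, hm⟩ := rk_decomp W r hr R hRc hR v t'
    have hqa : ∀ z : v.P', v.q' z = t' → q (v.a z) = t := fun z hz => by
      rw [← Scheme.Hom.comp_apply, v.sq.w, Scheme.Hom.comp_apply, hz, ht']
    have hmr : m = r := by
      apply hm
      intro z hz hzW
      refine (hsat z hz).2 ?_
      simp only [F, Finset.coe_union, Set.Finite.coe_toFinset, Set.mem_union]
      left
      exact ⟨hzW, hqa z hz⟩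
    have hle : u.rk t1 ≤ (restrictPiece v R hRc).rk t' := by
      refine Piece.rk_le_of_trace u (restrictPiece v R hRc) t1 t' (ht1.trans ht'.symm) ?_
      intro z1 hz1 hq1 z2 hq2 ha
      show (v.a ⁻¹ᵁ R).ι z2 ∈ v.W
      have hq2' : v.q' ((v.a ⁻¹ᵁ R).ι z2) = t' := hq2
      refine (hsat _ hq2').2 ?_
      have ha' : (v.a ∣_ R) z2 = u.a z1 := ha
      have h3 : v.a ((v.a ⁻¹ᵁ R).ι z2) = R.ι ((v.a ∣_ R) z2) := by
        rw [← Scheme.Hom.comp_apply, ← Scheme.Hom.comp_apply, morphismRestrict_ι]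
      rw [h3, ha']
      simp only [F, Finset.coe_union, Set.Finite.coe_toFinset, Set.mem_union]
      right
      exact ⟨z1, ⟨hz1, hq1⟩, rfl⟩
    exact ⟨v, t', ht', by omega⟩

end Additivity

section Compact

variable {P T : Scheme.{u}}

theorem FD_one_mem_range {q : P ⟶ T} {t : T} (h : FD q 1 t) : t ∈ Set.range q := by
  obtain ⟨w, t', ht', hd⟩ := h
  rw [Piece.rk_eq_fsum] at hd
  by_contra hne
  have hempty : (w.W : Set w.P') ∩ w.q' ⁻¹' {t'} = ∅ := by
    rw [Set.eq_empty_iff_forall_notMem]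
    rintro z ⟨-, hz⟩
    have hz' : w.q' z = t' := hz
    apply hne
    refine ⟨w.a z, ?_⟩
    rw [← Scheme.Hom.comp_apply, w.sq.w, Scheme.Hom.comp_apply, hz', ht']
  rw [fsum, hempty, finsum_mem_empty] at hd
  omega

theorem quasiCompact_ι_of_isClosed {X : Scheme.{u}} (R : X.Opens) (hR : IsClosed (R : Set X)) :
    QuasiCompact R.ι := by
  haveI : IsClosedImmersion R.ι := by
    apply IsClosedImmersion.of_isPreimmersion
    rw [Scheme.Opens.range_ι]
    exact hR
  infer_instance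

/-- étale-local splitting of a quasi-compact flat lqf separated morphism around a point of the
source into a finite flat part of constant positive degree and a complement. -/
theorem exists_local_split (q : P ⟶ T) [Flat q] [LocallyOfFinitePresentation q] [IsSeparated q]
    [LocallyQuasiFinite q] [QuasiCompact q] (x : P) :
    ∃ (T' : Scheme.{u}) (φ : T' ⟶ T) (t' : T') (r : ℕ) (R : Scheme.{u}) (qR : R ⟶ T'),
      IsAffine T' ∧ Etale φ ∧ φ t' = q x ∧ 1 ≤ r ∧ Flat qR ∧ LocallyOfFinitePresentation qR ∧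
      IsSeparated qR ∧ LocallyQuasiFinite qR ∧ QuasiCompact qR ∧
      ∀ (d : ℕ) (t'' : T'), FD q d (φ t'') ↔ FD qR (d - r) t'' := by
  classical
  have hfin := q.finite_preimage_singleton (q x)
  obtain ⟨w, t', he, ht', hsat⟩ := Piece.exists_etale_sat q (q x) hfin.toFinset (by simp)
  obtain ⟨z, hz1, hz2⟩ := exists_point_of_isPullback w.sq x t' ht'.symm
  have hzW : z ∈ w.W := (hsat z hz2).2 (by rw [hz1]; simp)
  have hr1 : 1 ≤ w.rk t' := by
    have := Scheme.Hom.one_le_finrank_map (w.W.ι ≫ w.q') ⟨z, hzW⟩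
    have hpt : (w.W.ι ≫ w.q') ⟨z, hzW⟩ = t' := hz2
    rwa [hpt] at this
  obtain ⟨_, ⟨T00, hT00, rfl⟩, ht'T00, hsub0⟩ := w.T'.isBasis_affineOpens.exists_subset_of_mem_open
    (show t' ∈ {t'' | w.rk t'' = w.rk t'} from rfl) (w.isOpen_rk_eq (w.rk t'))
  obtain ⟨T0, hT0, ht'T0, hsub⟩ : ∃ T0 : w.T'.Opens, IsAffineOpen T0 ∧ t' ∈ T0 ∧
      (T0 : Set w.T') ⊆ {t'' | w.rk t'' = w.rk t'} := ⟨T00, hT00, ht'T00, hsub0⟩
  let w0 := w.pull T0.ι (w.q' ⁻¹ᵁ T0).ι (w.q' ∣_ T0) (isPullback_morphismRestrict w.q' T0).flip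
  have hrk0 : ∀ t'' : w0.T', (w0.W.ι ≫ w0.q').finrank t'' = w.rk t' := by
    intro t''
    have h1 := w.rk_pull T0.ι (w.q' ⁻¹ᵁ T0).ι (w.q' ∣_ T0)
      (isPullback_morphismRestrict w.q' T0).flip t''
    have h2 : w.rk (T0.ι t'') = w.rk t' := hsub t''.2
    exact h1.trans h2
  obtain ⟨i1, i2, i3, i4⟩ := w0.instances
  haveI : QuasiCompact w0.q' :=
    MorphismProperty.of_isPullback (P := @QuasiCompact) w0.sq inferInstance
  let R0 : w0.P'.Opens := ⟨(w0.W : Set w0.P')ᶜ, w0.closed.isOpen_compl⟩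
  have hR0c : IsClosed (R0 : Set w0.P') := w0.W.2.isClosed_compl
  haveI := quasiCompact_ι_of_isClosed R0 hR0c
  haveI : Etale w0.φ := by
    show Etale (T0.ι ≫ w.φ)
    infer_instance
  refine ⟨w0.T', w0.φ, ⟨t', ht'T0⟩, w.rk t', R0, R0.ι ≫ w0.q', hT0, inferInstance,
    (show (T0.ι ≫ w.φ) ⟨t', ht'T0⟩ = q x from ht'), hr1,
    inferInstance, inferInstance, inferInstance, inferInstance, inferInstance, ?_⟩
  intro d t''
  rw [← FD_baseChange_iff w0.sq d t'']
  exact FD_add_iff w0.q' w0.W (w.rk t') hrk0 R0 hR0c rfl d t''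

/-- **compactness of the loci of fibre degree at least `d`** over an affine base. -/
theorem isCompact_FD : ∀ (d : ℕ) {P T : Scheme.{u}} (q : P ⟶ T) [IsAffine T] [Flat q]
    [LocallyOfFinitePresentation q] [IsSeparated q] [LocallyQuasiFinite q] [QuasiCompact q],
    IsCompact {t : T | FD q d t} := by
  intro d
  induction d using Nat.strong_induction_on with
  | _ d ih =>
    intro P T q _ _ _ _ _ _
    rcases Nat.eq_zero_or_pos d with rfl | hd
    · have : {t : T | FD q 0 t} = Set.univ := by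
        ext t
        simp only [Set.mem_ofPred_eq, Set.mem_univ, iff_true]
        exact FD.zero q t
      rw [this]
      exact isCompact_univ
    · haveI : CompactSpace P := QuasiCompact.compactSpace_of_compactSpace q
      have hrange : IsCompact (Set.range q) := isCompact_range q.continuous
      choose T' φ t' r R qR hT' hφ h1 h2 h3 h4 h5 h6 h7 h8 using exists_local_split q
      have hopen : ∀ x, IsOpen (Set.range (φ x)) := fun x =>
        haveI := hφ x
        (φ x).isOpenMap.isOpen_range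
      obtain ⟨s, hs⟩ := hrange.elim_finite_subcover (fun x => Set.range (φ x)) hopen (by
        rintro _ ⟨x, rfl⟩
        exact Set.mem_iUnion.2 ⟨x, t' x, h1 x⟩)
      have heq : {t : T | FD q d t} =
          ⋃ x ∈ s, (φ x) '' {t'' | FD (qR x) (d - r x) t''} := by
        ext t
        constructor
        · intro ht
          have htr : t ∈ Set.range q := FD_one_mem_range (FD.mono ht hd)
          obtain ⟨x, hx, t'', rfl⟩ : ∃ x ∈ s, ∃ t'', (φ x) t'' = t := by
            have := hs htr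
            simp only [Set.mem_iUnion, Set.mem_range, exists_prop] at this
            exact this
          simp only [Set.mem_iUnion, Set.mem_image, Set.mem_ofPred_eq, exists_prop]
          exact ⟨x, hx, t'', (h8 x d t'').1 ht, rfl⟩
        · simp only [Set.mem_iUnion, Set.mem_image, Set.mem_ofPred_eq, exists_prop]
          rintro ⟨x, hx, t'', ht'', rfl⟩
          exact (h8 x d t'').2 ht''
      rw [heq]
      refine s.isCompact_biUnion (fun x _ => ?_)
      haveI := hT' x
      haveI := h3 x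
      haveI := h4 x
      haveI := h5 x
      haveI := h6 x
      haveI := h7 x
      exact (ih (d - r x) (by have := h2 x; omega) (qR x)).image (φ x).continuous

end Compact

section Retro

variable {X S : Scheme.{u}}

/-- over an affine open, the locus of fibre degree at least `d` is compact. -/
theorem isCompact_FD_inter_affine (f : X ⟶ S) [Flat f] [LocallyOfFinitePresentation f]
    [IsSeparated f] [LocallyQuasiFinite f] [QuasiCompact f] (d : ℕ) (V : S.Opens)
    (hV : IsAffineOpen V) : IsCompact ({s : S | FD f d s} ∩ (V : Set S)) := by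
  have sq : IsPullback (f ⁻¹ᵁ V).ι (f ∣_ V) f V.ι := (isPullback_morphismRestrict f V).flip
  haveI : IsAffine (V : Scheme.{u}) := hV
  haveI : Flat (f ∣_ V) := MorphismProperty.of_isPullback (P := @Flat) sq inferInstance
  haveI : LocallyOfFinitePresentation (f ∣_ V) :=
    MorphismProperty.of_isPullback (P := @LocallyOfFinitePresentation) sq inferInstance
  haveI : IsSeparated (f ∣_ V) :=
    MorphismProperty.of_isPullback (P := @IsSeparated) sq inferInstance
  haveI : LocallyQuasiFinite (f ∣_ V) :=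
    MorphismProperty.of_isPullback (P := @LocallyQuasiFinite) sq inferInstance
  haveI : QuasiCompact (f ∣_ V) :=
    MorphismProperty.of_isPullback (P := @QuasiCompact) sq inferInstance
  have h := (isCompact_FD d (f ∣_ V)).image V.ι.continuous
  have heq : V.ι '' {v | FD (f ∣_ V) d v} = {s : S | FD f d s} ∩ (V : Set S) := by
    ext s
    constructor
    · rintro ⟨v, hv, rfl⟩
      exact ⟨(FD_baseChange_iff sq d v).1 hv, v.2⟩
    · rintro ⟨hs, hsV⟩
      exact ⟨⟨s, hsV⟩, (FD_baseChange_iff sq d ⟨s, hsV⟩).2 hs, rfl⟩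
  rwa [heq] at h

/-- **retrocompactness of the loci of fibre degree at least `d`.** -/
theorem isRetrocompact_FD (f : X ⟶ S) [Flat f] [LocallyOfFinitePresentation f]
    [IsSeparated f] [LocallyQuasiFinite f] [QuasiCompact f] (d : ℕ) :
    IsRetrocompact {s : S | FD f d s} := by
  intro U hUc hUo
  obtain ⟨s, hs, rfl⟩ := isCompact_and_isOpen_iff_finite_and_eq_biUnion_affineOpens.mp ⟨hUc, hUo⟩
  rw [Set.inter_iUnion₂]
  exact hs.isCompact_biUnion (fun V _ => isCompact_FD_inter_affine f d V.1 V.2)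

/-- pointwise boundedness of the fibre degree of a quasi-compact morphism. -/
theorem exists_bound_FD (f : X ⟶ S) [Flat f] [LocallyOfFinitePresentation f]
    [IsSeparated f] [LocallyQuasiFinite f] [QuasiCompact f] (s : S) :
    ∃ n : ℕ, ∀ d, FD f d s → d ≤ n := by
  let K := S.residueField s
  let g : Spec (CommRingCat.of K) ⟶ S := S.fromSpecResidueField s
  have hpt : g (IsLocalRing.closedPoint K) = s := Scheme.fromSpecResidueField_apply _ _
  haveI := Groth.Agent.R2.H93.FibDegField.isLocallyArtinian_spec K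
  haveI : IsFinite (pullback.snd f g) := IsFinite.of_locallyQuasiFinite _
  letI : Algebra K Γ(pullback f g, ⊤) :=
    (Groth.Agent.R2.H9.AffFieldSum.sm K (pullback.snd f g)).toAlgebra
  haveI : Module.Finite K Γ(pullback f g, ⊤) :=
    Groth.Agent.R2.H9.AffFieldSum.sm_finite K (pullback.snd f g)
  refine ⟨Module.finrank K Γ(pullback f g, ⊤), fun d hd => ?_⟩
  rw [← hpt] at hd
  have h1 := (Groth.Agent.R2.H93.FibDegField.FD_iff_rank_pullback K f g d
    (IsLocalRing.closedPoint K)).1 hd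
  rw [← Module.finrank_eq_rank] at h1
  exact_mod_cast h1

end Retro

end Groth.Agent.R2.H93.FibDegQc
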