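import Mathlib
import Groth.Agent.R2.H93FibDeg
import Groth.Agent.R2.H93FibDegQc

/-!
# Stratifications of a qcqs scheme over which an étale morphism becomes finite (helper93)
-/

set_option autoImplicit false
set_option linter.style.haveILetI false

universe u

open AlgebraicGeometry CategoryTheory CategoryTheory.Limits TopologicalSpace Topology

namespace Groth.Agent.R2.H93.EtStrat

open Groth.Agent.R2.H93.FibDeg

/-- a finite stratification of `X` by immersions with pairwise disjoint constructible images,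
each stratum satisfying `Q`. -/
def HasStrat (X : Scheme.{u}) (Q : ∀ ⦃T : Scheme.{u}⦄, (T ⟶ X) → Prop) : Prop :=
  ∃ (ι : Type) (_ : Fintype ι) (T : ι → Scheme.{u}) (g : ∀ i, T i ⟶ X),
    (∀ i, IsImmersion (g i)) ∧ (∀ i, IsConstructible (Set.range (g i))) ∧
    Pairwise (fun i i' => Disjoint (Set.range (g i)) (Set.range (g i'))) ∧
    (⋃ i, Set.range (g i)) = Set.univ ∧ ∀ i, Q (g i)

theorem HasStrat.mono {X : Scheme.{u}} {Q Q' : ∀ ⦃T : Scheme.{u}⦄, (T ⟶ X) → Prop}
    (h : HasStrat X Q) (hQ : ∀ ⦃T : Scheme.{u}⦄ (g : T ⟶ X), Q g → Q' g) : HasStrat X Q' := by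
  obtain ⟨ι, hι, T, g, h1, h2, h3, h4, h5⟩ := h
  exact ⟨ι, hι, T, g, h1, h2, h3, h4, fun i => hQ _ (h5 i)⟩

/-- common refinement of two stratifications. -/
theorem HasStrat.inf {X : Scheme.{u}} {Q Q' : ∀ ⦃T : Scheme.{u}⦄, (T ⟶ X) → Prop}
    (h : HasStrat X Q) (h' : HasStrat X Q')
    (hQ : ∀ ⦃T T' : Scheme.{u}⦄ (g : T ⟶ X) (a : T' ⟶ T), Q g → Q (a ≫ g))
    (hQ' : ∀ ⦃T T' : Scheme.{u}⦄ (g : T ⟶ X) (a : T' ⟶ T), Q' g → Q' (a ≫ g)) :
    HasStrat X (fun _ g => Q g ∧ Q' g) := by
  obtain ⟨ι, _, T, g, h1, h2, h3, h4, h5⟩ := h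
  obtain ⟨ι', _, T', g', h1', h2', h3', h4', h5'⟩ := h'
  have hr : ∀ p : ι × ι', Set.range (pullback.fst (g p.1) (g' p.2) ≫ g p.1) =
      Set.range (g p.1) ∩ Set.range (g' p.2) := fun p =>
    Scheme.Pullback.range_fst_comp _ _
  refine ⟨ι × ι', inferInstance, fun p => pullback (g p.1) (g' p.2),
    fun p => pullback.fst (g p.1) (g' p.2) ≫ g p.1, ?_, ?_, ?_, ?_, ?_⟩
  · intro p
    haveI := h1 p.1
    haveI := h1' p.2
    infer_instance
  · intro p
    rw [hr]
    exact (h2 p.1).inter (h2' p.2)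
  · intro p p' hpp'
    rw [hr, hr]
    by_cases h : p.1 = p'.1
    · have h2 : p.2 ≠ p'.2 := fun h2 => hpp' (Prod.ext h h2)
      exact (h3' h2).mono Set.inter_subset_right Set.inter_subset_right
    · exact (h3 h).mono Set.inter_subset_left Set.inter_subset_left
  · rw [Set.eq_univ_iff_forall]
    intro x
    have hx : x ∈ ⋃ i, Set.range (g i) := by rw [h4]; trivial
    have hx' : x ∈ ⋃ i, Set.range (g' i) := by rw [h4']; trivial
    obtain ⟨i, hi⟩ := Set.mem_iUnion.mp hx
    obtain ⟨i', hi'⟩ := Set.mem_iUnion.mp hx'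
    refine Set.mem_iUnion.mpr ⟨(i, i'), ?_⟩
    rw [hr]
    exact ⟨hi, hi'⟩
  · intro p
    refine ⟨hQ _ _ (h5 p.1), ?_⟩
    show Q' (pullback.fst (g p.1) (g' p.2) ≫ g p.1)
    rw [pullback.condition]
    exact hQ' _ _ (h5' p.2)

/-- reindexing by `Fin n`. -/
theorem HasStrat.exists_fin {X : Scheme.{u}} {Q : ∀ ⦃T : Scheme.{u}⦄, (T ⟶ X) → Prop}
    (h : HasStrat X Q) :
    ∃ (n : ℕ) (T : Fin n → Scheme.{u}) (g : ∀ i, T i ⟶ X),
      (∀ i, IsImmersion (g i)) ∧ (∀ i, IsConstructible (Set.range (g i))) ∧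
      Pairwise (fun i i' => Disjoint (Set.range (g i)) (Set.range (g i'))) ∧
      (⋃ i, Set.range (g i)) = Set.univ ∧ ∀ i, Q (g i) := by
  obtain ⟨ι, _, T, g, h1, h2, h3, h4, h5⟩ := h
  let e := Fintype.equivFin ι
  refine ⟨Fintype.card ι, fun k => T (e.symm k), fun k => g (e.symm k), fun k => h1 _,
    fun k => h2 _, ?_, ?_, fun k => h5 _⟩
  · intro k k' hkk'
    exact h3 (fun h => hkk' (e.symm.injective h))
  · rw [Set.eq_univ_iff_forall]
    intro x
    have hx : x ∈ ⋃ i, Set.range (g i) := by rw [h4]; trivial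
    obtain ⟨i, hi⟩ := Set.mem_iUnion.mp hx
    refine Set.mem_iUnion.mpr ⟨e i, ?_⟩
    show x ∈ Set.range (g (e.symm (e i)))
    rw [e.symm_apply_apply]
    exact hi

section Separated

variable {U X : Scheme.{u}}

/-- a global bound for the fibre degree over a quasi-compact quasi-separated base. -/
theorem exists_global_bound [CompactSpace X] [QuasiSeparatedSpace X] (j : U ⟶ X) [Flat j]
    [LocallyOfFinitePresentation j] [IsSeparated j] [LocallyQuasiFinite j] [QuasiCompact j] :
    ∃ N : ℕ, ∀ x : X, ¬ FD j N x := by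
  let B : ℕ → Set (WithConstructibleTopology X) := fun d =>
    WithTopology.ofTopology ⁻¹' {x : X | ¬ FD j d x}
  have hBo : ∀ d, IsOpen (B d) := by
    intro d
    rw [WithConstructibleTopology.isOpen_iff]
    have hcl : IsClosed {x : X | ¬ FD j d x} := (isOpen_FD j d).isClosed_compl
    have hc : IsCompact ({x : X | ¬ FD j d x}ᶜ) := by
      have h1 := Groth.Agent.R2.H93.FibDegQc.isRetrocompact_FD j d isCompact_univ isOpen_univ
      rw [Set.inter_univ] at h1
      convert h1 using 1
      ext x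
      simp
    exact hc.isOpen_constructibleTopology_of_isClosed hcl
  have hcov : (Set.univ : Set (WithConstructibleTopology X)) ⊆ ⋃ d, B d := by
    intro x _
    obtain ⟨n, hn⟩ := Groth.Agent.R2.H93.FibDegQc.exists_bound_FD j x.ofTopology
    refine Set.mem_iUnion.mpr ⟨n + 1, ?_⟩
    show ¬ FD j (n + 1) x.ofTopology
    intro h
    have := hn _ h
    omega
  obtain ⟨t, ht⟩ := isCompact_univ.elim_finite_subcover B hBo hcov
  refine ⟨t.sup id, fun x hx => ?_⟩
  have hx' := ht (Set.mem_univ (WithTopology.toTopology _ x))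
  simp only [Set.mem_iUnion] at hx'
  obtain ⟨i, hi, hxi⟩ := hx'
  have hle : i ≤ t.sup id := Finset.le_sup (f := id) hi
  exact hxi (hx.mono hle)

end Separated

/-- the reduced induced locally closed subscheme on `O ∖ O'`, for opens `O`, `O'`. -/
theorem exists_immersion_sdiff (X : Scheme.{u}) (O O' : X.Opens) :
    ∃ (T : Scheme.{u}) (g : T ⟶ X), IsImmersion g ∧
      Set.range g = (O : Set X) \ (O' : Set X) := by
  let C : Closeds (O : Scheme.{u}) :=
    ⟨O.ι ⁻¹' ((O' : Set X)ᶜ), (O'.isOpen.isClosed_compl).preimage O.ι.continuous⟩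
  let I := Scheme.IdealSheafData.vanishingIdeal C
  refine ⟨I.subscheme, I.subschemeι ≫ O.ι, inferInstance, ?_⟩
  rw [Scheme.Hom.comp_base, TopCat.coe_comp, Set.range_comp, I.range_subschemeι]
  have : (I.support : Set (O : Scheme.{u})) = O.ι ⁻¹' ((O' : Set X)ᶜ) :=
    Scheme.IdealSheafData.coe_support_vanishingIdeal C
  rw [this, Set.image_preimage_eq_inter_range, Scheme.Opens.range_ι]
  ext x
  simp only [Set.mem_inter_iff, Set.mem_compl_iff, SetLike.mem_coe, Set.mem_sdiff]
  tauto

section Separated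

variable {U X : Scheme.{u}}

theorem locallyQuasiFinite_of_etale {X S : Scheme.{u}} (f : X ⟶ S) [Etale f] :
    LocallyQuasiFinite f := by
  constructor
  intro U hU V hV e
  have h1 := f.etale_appLE hU hV e
  algebraize [(f.appLE U V e).hom]
  have : Algebra.Etale Γ(S, U) Γ(X, V) := h1
  exact RingHom.quasiFinite_algebraMap.mpr inferInstance

/-- the separated case: stratification by the fibre degree. -/
theorem hasStrat_of_isSeparated [CompactSpace X] [QuasiSeparatedSpace X] (j : U ⟶ X) [Etale j]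
    [IsSeparated j] [QuasiCompact j] :
    HasStrat X (fun _ g => IsFinite (pullback.snd j g)) := by
  haveI := locallyQuasiFinite_of_etale j
  obtain ⟨N, hN⟩ := exists_global_bound j
  let O : ℕ → X.Opens := fun d => ⟨{x | FD j d x}, isOpen_FD j d⟩
  have hOc : ∀ d, IsConstructible (O d : Set X) := fun d =>
    (Groth.Agent.R2.H93.FibDegQc.isRetrocompact_FD j d).isConstructible (isOpen_FD j d)
  choose T g hg hr using fun d : Fin N => exists_immersion_sdiff X (O d) (O (d + 1))
  refine ⟨Fin N, inferInstance, T, g, hg, ?_, ?_, ?_, ?_⟩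
  · intro d
    rw [hr]
    exact (hOc d).sdiff (hOc (d + 1))
  · intro d d' hdd'
    rw [hr, hr, Set.disjoint_left]
    rintro x ⟨hx1, hx2⟩ ⟨hx3, hx4⟩
    rcases lt_or_gt_of_ne hdd' with h | h
    · exact hx2 (FD.mono hx3 (by exact_mod_cast h))
    · exact hx4 (FD.mono hx1 (by exact_mod_cast h))
  · rw [Set.eq_univ_iff_forall]
    intro x
    have hex : ∃ m, ¬ FD j m x := ⟨N, hN x⟩
    classical
    have hm := Nat.find_spec hex
    have hmin := fun k (hk : k < Nat.find hex) => Nat.find_min hex hk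
    have hm0 : Nat.find hex ≠ 0 := by
      intro h0
      rw [h0] at hm
      exact hm (FD.zero j x)
    obtain ⟨d, hd⟩ := Nat.exists_eq_succ_of_ne_zero hm0
    have hdN : d < N := by
      by_contra hcon
      have : N < Nat.find hex := by omega
      exact hmin N this (hN x)
    refine Set.mem_iUnion.mpr ⟨⟨d, hdN⟩, ?_⟩
    rw [hr]
    refine ⟨?_, ?_⟩
    · have := hmin d (by omega)
      push Not at this
      exact this
    · show ¬ FD j (d + 1) x
      rw [← Nat.succ_eq_add_one, ← hd]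
      exact hm
  · intro d
    have sq := IsPullback.of_hasPullback j (g d)
    have hdeg : Mor2.IsFinLocFreeOfDeg (d : ℕ) (pullback.snd j (g d)) := by
      rw [isFinLocFreeOfDeg_iff]
      intro t
      rw [FD_baseChange_iff sq, FD_baseChange_iff sq]
      have ht : (g d) t ∈ Set.range (g d) := ⟨t, rfl⟩
      rw [hr] at ht
      exact ht
    exact hdeg.1.1

end Separated

section Glue

/-- gluing finiteness over a two-element open cover whose intersection is also finite over the
base: the two pieces are then open and closed. -/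
theorem isFinite_of_open_cover_two {P T P₁ P₂ P₁₂ : Scheme.{u}} (q : P ⟶ T)
    (a₁ : P₁ ⟶ P) (a₂ : P₂ ⟶ P) (a₁₂ : P₁₂ ⟶ P) [IsOpenImmersion a₁] [IsOpenImmersion a₂]
    [IsOpenImmersion a₁₂] (h12 : Set.range a₁₂ = Set.range a₁ ∩ Set.range a₂)
    (hcov : Set.range a₁ ∪ Set.range a₂ = Set.univ)
    [IsFinite (a₁ ≫ q)] [IsFinite (a₂ ≫ q)] [IsFinite (a₁₂ ≫ q)] : IsFinite q := by
  -- the intersection is closed in `P₁`
  have hsub : Set.range a₁₂ ⊆ Set.range a₁ := by rw [h12]; exact Set.inter_subset_left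
  let b₁ : P₁₂ ⟶ P₁ := IsOpenImmersion.lift a₁ a₁₂ hsub
  have hb₁ : b₁ ≫ a₁ = a₁₂ := IsOpenImmersion.lift_fac _ _ _
  haveI : IsFinite (b₁ ≫ a₁ ≫ q) := by rw [← Category.assoc, hb₁]; infer_instance
  haveI : IsFinite b₁ := IsFinite.of_comp b₁ (a₁ ≫ q)
  have hrb : Set.range b₁ = a₁ ⁻¹' Set.range a₂ := by
    ext x
    constructor
    · rintro ⟨y, rfl⟩
      have : a₁ (b₁ y) ∈ Set.range a₁₂ := ⟨y, by rw [← hb₁]; rfl⟩
      rw [h12] at this
      exact this.2
    · intro hx
      have : a₁ x ∈ Set.range a₁₂ := by rw [h12]; exact ⟨⟨x, rfl⟩, hx⟩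
      obtain ⟨y, hy⟩ := this
      refine ⟨y, a₁.isOpenEmbedding.injective ?_⟩
      rw [← hy, ← hb₁]
      rfl
  have hcl₁ : IsClosed (a₁ ⁻¹' Set.range a₂) := by
    rw [← hrb]
    exact b₁.isClosedMap.isClosed_range
  -- `range a₂` is closed
  have hcompl : (Set.range a₂)ᶜ = a₁ '' (a₁ ⁻¹' (Set.range a₂)ᶜ) := by
    rw [Set.image_preimage_eq_inter_range]
    ext x
    simp only [Set.mem_compl_iff, Set.mem_inter_iff]
    constructor
    · intro hx
      refine ⟨hx, ?_⟩
      have : x ∈ Set.range a₁ ∪ Set.range a₂ := by rw [hcov]; trivial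
      exact this.resolve_right hx
    · exact fun h => h.1
  have hopen : IsOpen (Set.range a₂)ᶜ := by
    rw [hcompl]
    exact a₁.isOpenEmbedding.isOpenMap _ hcl₁.isOpen_compl
  let A : P.Opens := ⟨(Set.range a₂)ᶜ, hopen⟩
  have hA₁ : Set.range A.ι ⊆ Set.range a₁ := by
    rw [Scheme.Opens.range_ι]
    intro x hx
    have : x ∈ Set.range a₁ ∪ Set.range a₂ := by rw [hcov]; trivial
    exact this.resolve_right hx
  let c : (A : Scheme.{u}) ⟶ P₁ := IsOpenImmersion.lift a₁ A.ι hA₁
  have hc : c ≫ a₁ = A.ι := IsOpenImmersion.lift_fac _ _ _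
  haveI : IsOpenImmersion c := by
    have : IsOpenImmersion (c ≫ a₁) := by rw [hc]; infer_instance
    exact IsOpenImmersion.of_comp c a₁
  have hrc : Set.range c = a₁ ⁻¹' (Set.range a₂)ᶜ := by
    ext x
    constructor
    · rintro ⟨y, rfl⟩
      have : a₁ (c y) = A.ι y := by rw [← hc]; rfl
      show a₁ (c y) ∈ (Set.range a₂)ᶜ
      rw [this]
      exact y.2
    · intro hx
      refine ⟨⟨a₁ x, hx⟩, a₁.isOpenEmbedding.injective ?_⟩
      have : a₁ (c ⟨a₁ x, hx⟩) = A.ι ⟨a₁ x, hx⟩ := by rw [← hc]; rfl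
      rw [this]
      rfl
  haveI : IsClosedImmersion c := by
    apply IsClosedImmersion.of_isPreimmersion
    rw [hrc]
    exact (a₂.isOpenEmbedding.isOpen_range.isClosed_compl).preimage a₁.continuous
  haveI : IsFinite (A.ι ≫ q) := by
    rw [← hc, Category.assoc]
    infer_instance
  -- `P` is the disjoint union of `A` and `P₂`
  have hcompl' : IsCompl A.ι.opensRange a₂.opensRange := by
    have h1 : (A.ι.opensRange : Set P) = (Set.range a₂)ᶜ := by
      simp [A]
    constructor
    · rw [disjoint_iff]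
      ext x
      simp only [Opens.coe_inf, Set.mem_inter_iff, Opens.coe_bot, Set.mem_empty_iff_false,
        iff_false, not_and]
      intro hx
      rw [h1] at hx
      exact hx
    · rw [codisjoint_iff]
      ext x
      simp only [Opens.coe_sup, Set.mem_union, Opens.coe_top, Set.mem_univ, iff_true]
      rw [h1]
      by_cases hx : x ∈ Set.range a₂
      · exact Or.inr hx
      · exact Or.inl hx
  obtain ⟨hcol⟩ := nonempty_isColimit_binaryCofanMk_of_isCompl A.ι a₂ hcompl'
  let e : (A : Scheme.{u}) ⨿ P₂ ≅ P :=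
    IsColimit.coconePointUniqueUpToIso (coprodIsCoprod (A : Scheme.{u}) P₂) hcol
  have he : e.hom ≫ q = coprod.desc (A.ι ≫ q) (a₂ ≫ q) := by
    apply coprod.hom_ext
    · rw [coprod.inl_desc, ← Category.assoc]
      congr 1
      exact IsColimit.comp_coconePointUniqueUpToIso_hom (coprodIsCoprod (A : Scheme.{u}) P₂) hcol
        ⟨WalkingPair.left⟩
    · rw [coprod.inr_desc, ← Category.assoc]
      congr 1
      exact IsColimit.comp_coconePointUniqueUpToIso_hom (coprodIsCoprod (A : Scheme.{u}) P₂) hcol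
        ⟨WalkingPair.right⟩
  have : IsFinite (e.hom ≫ q) := by rw [he]; infer_instance
  exact (MorphismProperty.cancel_left_of_respectsIso @IsFinite e.hom q).mp this

end Glue

section Cover

variable {U X T : Scheme.{u}}

/-- the open immersion `W ×_X T ⟶ U ×_X T`. -/
noncomputable abbrev restrMap (j : U ⟶ X) (g : T ⟶ X) (W : U.Opens) :
    pullback (W.ι ≫ j) g ⟶ pullback j g :=
  pullback.map (W.ι ≫ j) g j g W.ι (𝟙 T) (𝟙 X) (by simp) (by simp)

theorem restrMap_snd (j : U ⟶ X) (g : T ⟶ X) (W : U.Opens) :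
    restrMap j g W ≫ pullback.snd j g = pullback.snd (W.ι ≫ j) g := by
  rw [restrMap, pullback.map, pullback.lift_snd, Category.comp_id]

theorem range_restrMap (j : U ⟶ X) (g : T ⟶ X) (W : U.Opens) :
    Set.range (restrMap j g W) = pullback.fst j g ⁻¹' (W : Set U) := by
  rw [restrMap, Scheme.Pullback.range_map]
  simp

/-- finiteness of `U ×_X T ⟶ T` from finiteness over the members of a two-element open cover of
`U` and over their intersection. -/
theorem isFinite_pullback_of_cover (j : U ⟶ X) (g : T ⟶ X) (W₁ W₂ : U.Opens)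
    (hW : W₁ ⊔ W₂ = ⊤)
    (h1 : IsFinite (pullback.snd (W₁.ι ≫ j) g)) (h2 : IsFinite (pullback.snd (W₂.ι ≫ j) g))
    (h12 : IsFinite (pullback.snd ((W₁ ⊓ W₂).ι ≫ j) g)) : IsFinite (pullback.snd j g) := by
  haveI : IsFinite (restrMap j g W₁ ≫ pullback.snd j g) := by rw [restrMap_snd]; exact h1
  haveI : IsFinite (restrMap j g W₂ ≫ pullback.snd j g) := by rw [restrMap_snd]; exact h2
  haveI : IsFinite (restrMap j g (W₁ ⊓ W₂) ≫ pullback.snd j g) := by
    rw [restrMap_snd]; exact h12
  refine isFinite_of_open_cover_two (pullback.snd j g) (restrMap j g W₁) (restrMap j g W₂)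
    (restrMap j g (W₁ ⊓ W₂)) ?_ ?_
  · rw [range_restrMap, range_restrMap, range_restrMap]
    rfl
  · rw [range_restrMap, range_restrMap, ← Set.preimage_union]
    have : (W₁ : Set U) ∪ (W₂ : Set U) = Set.univ := by
      rw [← Opens.coe_sup, hW]
      rfl
    rw [this]
    rfl

end Cover

section Induction

/-- finiteness of the base change of `j` to a stratum is inherited by smaller strata. -/
theorem isFinite_snd_precomp {U X T T' : Scheme.{u}} (j : U ⟶ X) (g : T ⟶ X) (a : T' ⟶ T)
    (h : IsFinite (pullback.snd j g)) : IsFinite (pullback.snd j (a ≫ g)) := by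
  let t : pullback j (a ≫ g) ⟶ pullback j g :=
    pullback.lift (pullback.fst j (a ≫ g)) (pullback.snd j (a ≫ g) ≫ a)
      (by rw [pullback.condition, Category.assoc])
  have outer : IsPullback (t ≫ pullback.fst j g) (pullback.snd j (a ≫ g)) j (a ≫ g) := by
    have : t ≫ pullback.fst j g = pullback.fst j (a ≫ g) := pullback.lift_fst _ _ _
    rw [this]
    exact IsPullback.of_hasPullback j (a ≫ g)
  have sq : IsPullback t (pullback.snd j (a ≫ g)) (pullback.snd j g) a :=
    IsPullback.of_right outer (pullback.lift_snd _ _ _) (IsPullback.of_hasPullback j g)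
  exact MorphismProperty.of_isPullback (P := @IsFinite) sq h

theorem hasStrat_aux : ∀ (n : ℕ) {U X : Scheme.{u}} [CompactSpace X] [QuasiSeparatedSpace X]
    [QuasiSeparatedSpace U] (j : U ⟶ X) [Etale j] (W : Fin n → U.Opens)
    (_ : ∀ i, IsAffineOpen (W i)) (_ : ⨆ i, W i = ⊤),
    HasStrat X (fun _ g => IsFinite (pullback.snd j g)) := by
  intro n
  induction n with
  | zero =>
    intro U X _ _ _ j _ W hW hcov
    haveI : IsEmpty U := by
      constructor
      intro x
      have hx : x ∈ (⨆ i, W i) := by rw [hcov]; trivial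
      obtain ⟨i, -⟩ := Opens.mem_iSup.mp hx
      exact Fin.elim0 i
    haveI : CompactSpace U := Finite.compactSpace
    exact hasStrat_of_isSeparated j
  | succ n ih =>
    intro U X _ _ _ j _ W hW hcov
    let W₀ : U.Opens := W 0
    let U₂ : U.Opens := ⨆ i : Fin n, W i.succ
    have hsup : W₀ ⊔ U₂ = ⊤ := by
      rw [eq_top_iff, ← hcov]
      refine iSup_le fun i => ?_
      refine Fin.cases ?_ (fun k => ?_) i
      · exact le_sup_left
      · exact le_sup_of_le_right (le_iSup (fun k : Fin n => W k.succ) k)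
    -- the affine piece
    haveI hW₀ : IsAffine (W₀ : Scheme.{u}) := hW 0
    haveI : IsSeparated (W₀.ι ≫ j) := by
      haveI : IsSeparated ((W₀.ι ≫ j) ≫ terminal.from X) := by
        rw [terminal.comp_from]
        infer_instance
      exact IsSeparated.of_comp (W₀.ι ≫ j) (terminal.from X)
    have h1 := hasStrat_of_isSeparated (W₀.ι ≫ j)
    -- the union of the remaining pieces
    haveI : QuasiSeparatedSpace (U₂ : Scheme.{u}) :=
      U₂.ι.isOpenEmbedding.quasiSeparatedSpace
    have h2 : HasStrat X (fun _ g => IsFinite (pullback.snd (U₂.ι ≫ j) g)) := by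
      refine ih (U₂.ι ≫ j) (fun i => U₂.ι ⁻¹ᵁ W i.succ) (fun i => ?_) ?_
      · refine (hW i.succ).preimage_of_isOpenImmersion U₂.ι ?_
        rw [Scheme.Opens.opensRange_ι]
        exact le_iSup (fun k : Fin n => W k.succ) i
      · rw [eq_top_iff]
        rintro ⟨x, hx⟩ -
        obtain ⟨i, hi⟩ := Opens.mem_iSup.mp hx
        exact Opens.mem_iSup.mpr ⟨i, hi⟩
    -- the intersection
    have hU₂c : IsCompact (U₂ : Set U) := by
      have : (U₂ : Set U) = ⋃ i : Fin n, (W i.succ : Set U) := by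
        simp [U₂]
      rw [this]
      exact isCompact_iUnion fun i => (hW i.succ).isCompact
    have hc12 : IsCompact ((W₀ ⊓ U₂ : U.Opens) : Set U) :=
      QuasiSeparatedSpace.inter_isCompact _ _ W₀.isOpen (hW 0).isCompact U₂.isOpen hU₂c
    haveI : CompactSpace ((W₀ ⊓ U₂ : U.Opens) : Scheme.{u}) := isCompact_iff_compactSpace.mp hc12
    have hfac : (W₀ ⊓ U₂).ι = U.homOfLE (inf_le_left : W₀ ⊓ U₂ ≤ W₀) ≫ W₀.ι :=
      (Scheme.homOfLE_ι U _).symm
    haveI : IsSeparated ((W₀ ⊓ U₂).ι ≫ j) := by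
      rw [hfac, Category.assoc]
      infer_instance
    have h12 := hasStrat_of_isSeparated ((W₀ ⊓ U₂).ι ≫ j)
    -- common refinement
    have key := (h1.inf h2 (fun _ _ g a h => isFinite_snd_precomp _ g a h)
      (fun _ _ g a h => isFinite_snd_precomp _ g a h)).inf h12
      (fun _ _ g a h => ⟨isFinite_snd_precomp _ g a h.1, isFinite_snd_precomp _ g a h.2⟩)
      (fun _ _ g a h => isFinite_snd_precomp _ g a h)
    refine key.mono fun T g h => ?_
    exact isFinite_pullback_of_cover j g W₀ U₂ hsup h.1.1 h.1.2 h.2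

/-- an étale morphism of quasi-compact quasi-separated schemes becomes finite over the strata of
a finite stratification of the target by constructible locally closed subschemes. -/
theorem hasStrat_of_etale {U X : Scheme.{u}} [CompactSpace U] [QuasiSeparatedSpace U]
    [CompactSpace X] [QuasiSeparatedSpace X] (j : U ⟶ X) [Etale j] :
    HasStrat X (fun _ g => IsFinite (pullback.snd j g)) := by
  obtain ⟨s, hs, hcov⟩ := isCompact_and_isOpen_iff_finite_and_eq_biUnion_affineOpens.mp
    ⟨(isCompact_univ : IsCompact (Set.univ : Set U)), isOpen_univ⟩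
  haveI := hs.fintype
  let e := Fintype.equivFin s
  refine hasStrat_aux (Fintype.card s) j (fun k => ((e.symm k : s) : U.affineOpens).1)
    (fun k => ((e.symm k : s) : U.affineOpens).2) ?_
  rw [eq_top_iff]
  intro x _
  have hx : x ∈ (Set.univ : Set U) := trivial
  rw [hcov] at hx
  simp only [Set.mem_iUnion] at hx
  obtain ⟨V, hV, hxV⟩ := hx
  refine Opens.mem_iSup.mpr ⟨e ⟨V, hV⟩, ?_⟩
  rw [e.symm_apply_apply]
  exact hxV

end Induction

end Groth.Agent.R2.H93.EtStrat
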