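import Mathlib
import Groth.Prelude.Def_AlgSpMor5
import Groth.Agent.S9874
import Groth.Agent.S10210

/-!
# helper93: the fibre of a chart morphism as an étale chart of the fibre of a morphism of spaces

`exists_etale_fiber_chart`: for a chart diagram `(a, b, h)` of `f : X ⟶ Y` and a point `v` of `V`,
the scheme theoretic fibre `h⁻¹(v)` (as a scheme over `S`) maps by a representable étale morphism
to any fibre product `X ×_Y Spec κ(v)`; the map is surjective when `U ⟶ X ×_Y V` is.
-/

set_option autoImplicit false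
set_option linter.style.haveILetI false
universe u

namespace Groth.Agent.R2.H93.FibChart

open AlgebraicGeometry CategoryTheory CategoryTheory.Limits AlgSp

variable {S : Scheme.{u}}

/-- the residue field point of `v` as a scheme over `S`. -/
noncomputable abbrev ptOver (V : Over S) (v : ↥V.left) : Over S :=
  Over.mk (V.left.fromSpecResidueField v ≫ V.hom)

/-- the morphism `Spec κ(v) ⟶ V` over `S`. -/
noncomputable abbrev ptHom (V : Over S) (v : ↥V.left) : ptOver V v ⟶ V :=
  Over.homMk (V.left.fromSpecResidueField v) rfl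

/-- the scheme theoretic fibre of `h` over `v`, as a scheme over `S`. -/
noncomputable abbrev fibOver {U V : Over S} (h : U ⟶ V) (v : ↥V.left) : Over S :=
  Over.mk (pullback.fst h.left (V.left.fromSpecResidueField v) ≫ U.hom)

theorem exists_etale_fiber_chart {X Y : AlgSp.Sp S} (hX : AlgSp.IsAlgSpace X)
    (hY : AlgSp.IsAlgSpace Y) (f : X ⟶ Y)
    {U V : Over S} (a : (AlgSp.yon S).obj U ⟶ X) (b : (AlgSp.yon S).obj V ⟶ Y) (h : U ⟶ V)
    (ha : AlgSp.RepWith @Etale a) (hb : AlgSp.RepWith @Etale b)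
    (comm : a ≫ f = (AlgSp.yon S).map h ≫ b) (v : ↥V.left)
    {P : AlgSp.Sp S} (p : P ⟶ X) (q : P ⟶ (AlgSp.yon S).obj (ptOver V v))
    (sq : IsPullback p q f ((AlgSp.yon S).map (ptHom V v) ≫ b)) :
    ∃ ι : (AlgSp.yon S).obj (fibOver h v) ⟶ P, AlgSp.RepWith @Etale ι ∧
      (AlgSp.RepWith @Surjective (pullback.lift a ((AlgSp.yon S).map h) comm) →
        AlgSp.RepWith @Surjective ι) := by
  -- the fibre of the chart as a scheme over `S`
  let pr₁ : fibOver h v ⟶ U := Over.homMk (pullback.fst h.left (V.left.fromSpecResidueField v)) rfl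
  let pr₂ : fibOver h v ⟶ ptOver V v :=
    Over.homMk (pullback.snd h.left (V.left.fromSpecResidueField v)) (by
      show pullback.snd h.left (V.left.fromSpecResidueField v) ≫
          (V.left.fromSpecResidueField v ≫ V.hom) =
        pullback.fst h.left (V.left.fromSpecResidueField v) ≫ U.hom
      rw [← Over.w h, ← Category.assoc, ← Category.assoc, pullback.condition])
  have sqU : IsPullback pr₁ pr₂ h (ptHom V v) :=
    IsPullback.of_map (Over.forget S) (Over.OverMorphism.ext pullback.condition)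
      (IsPullback.of_hasPullback h.left (V.left.fromSpecResidueField v))
  have sqU' : IsPullback ((AlgSp.yon S).map pr₁) ((AlgSp.yon S).map pr₂) ((AlgSp.yon S).map h)
      ((AlgSp.yon S).map (ptHom V v)) := sqU.map (AlgSp.yon S)
  -- `W = X ×_Y V` and `e : U ⟶ W`
  have sqW := IsPullback.of_hasPullback f b
  have hW : AlgSp.IsAlgSpace (pullback f b) :=
    Groth.Agent.S9874.isAlgSpace_of_isPullback hY.diag hX (AlgSp.IsAlgSpace.yon_obj V) sqW
  have hwX : AlgSp.RepWith @Etale (pullback.fst f b) :=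
    MorphismProperty.of_isPullback (P := AlgSp.RepWith @Etale) sqW.flip hb
  obtain ⟨e, he⟩ : ∃ e : (AlgSp.yon S).obj U ⟶ pullback f b,
      e = pullback.lift a ((AlgSp.yon S).map h) comm := ⟨_, rfl⟩
  rw [← he]
  have he1 : e ≫ pullback.fst f b = a := by rw [he, pullback.lift_fst]
  have he2 : e ≫ pullback.snd f b = (AlgSp.yon S).map h := by rw [he, pullback.lift_snd]
  have hwXe : AlgSp.IsEtaleMor (pullback.fst f b) := fun T φ hφ =>
    (AlgSp.repWith_isMultiplicative (S := S) @Etale).comp_mem _ _ hφ hwX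
  have hae : AlgSp.IsEtaleMor (e ≫ pullback.fst f b) := by
    rw [he1]
    exact fun T φ hφ => (AlgSp.repWith_isMultiplicative (S := S) @Etale).comp_mem _ _ hφ ha
  have hee : AlgSp.IsEtaleMor e :=
    Groth.Agent.S10210.isEtaleMor_of_comp (AlgSp.IsAlgSpace.yon_obj U) hW e _ hae hwXe
  have her : AlgSp.RepWith @Etale e := by
    have := hee (𝟙 _) (AlgSp.repWith_id @Etale U)
    rwa [Category.id_comp] at this
  -- the map from the fibre product to `W`
  have hwρ : p ≫ f = (q ≫ (AlgSp.yon S).map (ptHom V v)) ≫ b := by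
    rw [sq.w, Category.assoc]
  obtain ⟨ρ, hρ⟩ : ∃ ρ : P ⟶ pullback f b,
      ρ = pullback.lift p (q ≫ (AlgSp.yon S).map (ptHom V v)) hwρ := ⟨_, rfl⟩
  have hρ1 : ρ ≫ pullback.fst f b = p := by rw [hρ, pullback.lift_fst]
  have hρ2 : ρ ≫ pullback.snd f b = q ≫ (AlgSp.yon S).map (ptHom V v) := by
    rw [hρ, pullback.lift_snd]
  have sqρ : IsPullback ρ q (pullback.snd f b) ((AlgSp.yon S).map (ptHom V v)) := by
    refine IsPullback.of_right ?_ hρ2 sqW
    rw [hρ1]
    exact sq
  -- the map from the fibre of the chart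
  have hwι : ((AlgSp.yon S).map pr₁ ≫ e) ≫ pullback.snd f b =
      (AlgSp.yon S).map pr₂ ≫ (AlgSp.yon S).map (ptHom V v) := by
    rw [Category.assoc, he2, sqU'.w]
  obtain ⟨ι, hι⟩ : ∃ ι : (AlgSp.yon S).obj (fibOver h v) ⟶ P,
      ι = sqρ.lift ((AlgSp.yon S).map pr₁ ≫ e) ((AlgSp.yon S).map pr₂) hwι := ⟨_, rfl⟩
  have hι1 : ι ≫ ρ = (AlgSp.yon S).map pr₁ ≫ e := by rw [hι, sqρ.lift_fst]
  have hι2 : ι ≫ q = (AlgSp.yon S).map pr₂ := by rw [hι, sqρ.lift_snd]
  have left : IsPullback ι ((AlgSp.yon S).map pr₁) ρ e := by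
    refine IsPullback.of_right ?_ hι1 sqρ.flip
    rw [hι2, he2]
    exact sqU'.flip
  exact ⟨ι, MorphismProperty.of_isPullback (P := AlgSp.RepWith @Etale) left.flip her,
    fun hs => MorphismProperty.of_isPullback (P := AlgSp.RepWith @Surjective) left.flip hs⟩

end Groth.Agent.R2.H93.FibChart
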