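import Mathlib
import Groth.Agent.R2.H93FibDeg
import Groth.Agent.S10176
import Groth.Agent.S10177
import Groth.Prelude.Def_AlgSpDec
import Groth.Prelude.Def_W4decUnivBdd
import Groth.Prelude.Def_AlgSpMor5

/-!
# Fibre degrees of a flat, separated, locally quasi-finite morphism from a scheme to an
algebraic space (helper93)
-/

set_option autoImplicit false
set_option linter.style.haveILetI false

universe u

open AlgebraicGeometry CategoryTheory CategoryTheory.Limits AlgSp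

namespace Groth.Agent.R2.H93.FibDegSp

open Groth.Agent.R2.H93.FibDeg

variable {S : Scheme.{u}}

/-- a pullback square of representables is a pullback square of schemes. -/
theorem isPullback_left_of_yon {A B C D : Over S} {a : A ⟶ B} {b : A ⟶ C} {c : B ⟶ D} {d : C ⟶ D}
    (h : IsPullback ((AlgSp.yon S).map a) ((AlgSp.yon S).map b) ((AlgSp.yon S).map c)
      ((AlgSp.yon S).map d)) :
    IsPullback a.left b.left c.left d.left :=
  (IsPullback.of_map (AlgSp.yon S) (by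
    apply (AlgSp.yon S).map_injective
    rw [Functor.map_comp, Functor.map_comp]
    exact h.w) h).map (Over.forget S)

variable {X : AlgSp.Sp S} {W : Over S}

/-- a scheme representing the base change of `w` along `g`. -/
structure BC (w : (AlgSp.yon S).obj W ⟶ X) {T : Over S} (g : (AlgSp.yon S).obj T ⟶ X) where
  V : Over S
  fst : (AlgSp.yon S).obj V ⟶ (AlgSp.yon S).obj W
  snd : V ⟶ T
  sq : IsPullback fst ((AlgSp.yon S).map snd) w g

theorem BC.nonempty {w : (AlgSp.yon S).obj W ⟶ X} (hw : AlgSp.Representable w) {T : Over S}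
    (g : (AlgSp.yon S).obj T ⟶ X) : Nonempty (BC w g) := by
  obtain ⟨V, snd, fst, sq⟩ := hw g
  exact ⟨⟨V, fst, snd, sq⟩⟩

/-- the standing hypotheses on `w`. -/
structure Hyp (w : (AlgSp.yon S).obj W ⟶ X) : Prop where
  fl : AlgSp.RepWith @Flat w
  fp : AlgSp.RepWith @LocallyOfFinitePresentation w
  sep : AlgSp.RepWith @IsSeparated w
  qf : AlgSp.RepWith @LocallyQuasiFinite w

theorem BC.instances {w : (AlgSp.yon S).obj W ⟶ X} (hw : Hyp w) {T : Over S}
    {g : (AlgSp.yon S).obj T ⟶ X} (c : BC w g) :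
    Flat c.snd.left ∧ LocallyOfFinitePresentation c.snd.left ∧ IsSeparated c.snd.left ∧
      LocallyQuasiFinite c.snd.left :=
  ⟨hw.fl.2 g c.fst c.snd c.sq, hw.fp.2 g c.fst c.snd c.sq, hw.sep.2 g c.fst c.snd c.sq,
    hw.qf.2 g c.fst c.snd c.sq⟩

/-- compatibility of the fibre degree with pullback of the test scheme. -/
theorem BC.FD_iff {w : (AlgSp.yon S).obj W ⟶ X} {T : Over S} {g : (AlgSp.yon S).obj T ⟶ X}
    (c : BC w g) {R : Over S} (pr : R ⟶ T) (gR : (AlgSp.yon S).obj R ⟶ X)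
    (hgR : gR = (AlgSp.yon S).map pr ≫ g) (cR : BC w gR) (d : ℕ) (y : R.left) :
    FD cR.snd.left d y ↔ FD c.snd.left d (pr.left y) := by
  subst hgR
  have hcomm : cR.fst ≫ w = ((AlgSp.yon S).map cR.snd ≫ (AlgSp.yon S).map pr) ≫ g := by
    rw [cR.sq.w, Category.assoc]
  obtain ⟨b, hb⟩ := (AlgSp.yon S).map_surjective
    (c.sq.lift cR.fst ((AlgSp.yon S).map cR.snd ≫ (AlgSp.yon S).map pr) hcomm)
  have hb1 : (AlgSp.yon S).map b ≫ c.fst = cR.fst := by rw [hb]; exact c.sq.lift_fst _ _ _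
  have hb2 : (AlgSp.yon S).map b ≫ (AlgSp.yon S).map c.snd =
      (AlgSp.yon S).map cR.snd ≫ (AlgSp.yon S).map pr := by rw [hb]; exact c.sq.lift_snd _ _ _
  have hleft : IsPullback ((AlgSp.yon S).map b) ((AlgSp.yon S).map cR.snd)
      ((AlgSp.yon S).map c.snd) ((AlgSp.yon S).map pr) := by
    refine IsPullback.of_right ?_ hb2 c.sq
    rw [hb1]
    exact cR.sq
  exact FD_baseChange_iff (isPullback_left_of_yon hleft) d y

/-- the set of points of `X` over which the fibre of `w` has degree at least `d`. -/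
def DegGE (w : (AlgSp.yon S).obj W ⟶ X) (d : ℕ) : Set (AlgSp.Points X) :=
  {x | ∃ (T : Over S) (g : (AlgSp.yon S).obj T ⟶ X) (c : BC w g) (t : T.left),
    AlgSp.Points.ofPt g t = x ∧ FD c.snd.left d t}

/-- **Key lemma**: membership in `DegGE` can be tested on any representative. -/
theorem mem_DegGE_iff (hX : AlgSp.IsAlgSpace X) {w : (AlgSp.yon S).obj W ⟶ X} (hw : Hyp w)
    {T : Over S} {g : (AlgSp.yon S).obj T ⟶ X} (c : BC w g) (t : T.left) (d : ℕ) :
    AlgSp.Points.ofPt g t ∈ DegGE w d ↔ FD c.snd.left d t := by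
  constructor
  · rintro ⟨T2, g2, c2, t2, heq, hFD⟩
    obtain ⟨R, pr1, pr2', sqR⟩ := hX.representable_from_yon g2 g
    obtain ⟨pr2, rfl⟩ := (AlgSp.yon S).map_surjective pr2'
    -- sqR : IsPullback (yon.map pr2) (yon.map pr1) g2 g
    obtain ⟨y, hy2, hy1⟩ := Groth.Agent.S10176.exists_point_of_isPullback_yon sqR t2 t heq
    obtain ⟨cR⟩ := BC.nonempty hw.fl.1 ((AlgSp.yon S).map pr1 ≫ g)
    have e1 := c.FD_iff pr1 _ rfl cR d y
    have e2 := c2.FD_iff pr2 _ sqR.w.symm cR d y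
    rw [hy1] at e1
    rw [hy2] at e2
    exact e1.1 (e2.2 hFD)
  · intro h
    exact ⟨T, g, c, t, rfl, h⟩

theorem DegGE_antitone (w : (AlgSp.yon S).obj W ⟶ X) : Antitone (DegGE w) := by
  intro d d' hdd' x
  rintro ⟨T, g, c, t, hx, hFD⟩
  exact ⟨T, g, c, t, hx, hFD.mono hdd'⟩

theorem isOpen_DegGE (hX : AlgSp.IsAlgSpace X) {w : (AlgSp.yon S).obj W ⟶ X} (hw : Hyp w)
    (d : ℕ) : IsOpen (DegGE w d) := by
  rw [AlgSp.Points.isOpen_iff]
  intro T g
  obtain ⟨c⟩ := BC.nonempty hw.fl.1 g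
  obtain ⟨i1, i2, i3, i4⟩ := c.instances hw
  have : AlgSp.Points.ofPt g ⁻¹' DegGE w d = {t | FD c.snd.left d t} := by
    ext t
    exact mem_DegGE_iff hX hw c t d
  rw [this]
  exact isOpen_FD c.snd.left d

theorem DegGE_zero (hX : AlgSp.IsAlgSpace X) {w : (AlgSp.yon S).obj W ⟶ X} (hw : Hyp w) :
    DegGE w 0 = Set.univ := by
  rw [Set.eq_univ_iff_forall]
  intro x
  induction x using AlgSp.Points.ind with | h q => ?_
  obtain ⟨c⟩ := BC.nonempty hw.fl.1 q.toHom
  obtain ⟨i1, i2, i3, i4⟩ := c.instances hw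
  rw [← AlgSp.Points.ofPt_toHom q (IsLocalRing.closedPoint q.K), mem_DegGE_iff hX hw c]
  exact FD.zero _ _

theorem DegGE_eq_empty_of_bdd (hX : AlgSp.IsAlgSpace X) {w : (AlgSp.yon S).obj W ⟶ X}
    (hw : Hyp w) (n : ℕ) (hb : W4dec.DegFibresLE n w) : DegGE w (n + 1) = ∅ := by
  rw [Set.eq_empty_iff_forall_notMem]
  intro x
  induction x using AlgSp.Points.ind with | h q => ?_
  obtain ⟨c⟩ := BC.nonempty hw.fl.1 q.toHom
  obtain ⟨i1, i2, i3, i4⟩ := c.instances hw
  obtain ⟨hfin, hrk⟩ := hb q c.V c.snd c.fst c.sq.flip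
  rw [← AlgSp.Points.ofPt_toHom q (IsLocalRing.closedPoint q.K), mem_DegGE_iff hX hw c,
    FD_of_finite]
  have := hrk (IsLocalRing.closedPoint q.K)
  omega

/-- **the degree stratification detects finite locally free base changes.** -/
theorem isFinLocFreeOfDegMor_iff (hX : AlgSp.IsAlgSpace X) {w : (AlgSp.yon S).obj W ⟶ X}
    (hw : Hyp w) (r : ℕ) {T P : AlgSp.Sp S} (g : T ⟶ X) (fst : P ⟶ (AlgSp.yon S).obj W)
    (snd : P ⟶ T) (sq : IsPullback fst snd w g) :
    AlgSp.IsFinLocFreeOfDegMor r snd ↔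
      Set.range (AlgSp.Points.map g) ⊆ DegGE w r \ DegGE w (r + 1) := by
  constructor
  · intro h
    rintro _ ⟨y, rfl⟩
    induction y using AlgSp.Points.ind with | h q => ?_
    obtain ⟨V, snd', fst', sq'⟩ := h.1 q.toHom
    have hdeg : Mor2.IsFinLocFreeOfDeg r snd'.left := h.2 q.toHom fst' snd' sq'
    let c : BC w (q.toHom ≫ g) := ⟨V, fst' ≫ fst, snd', sq'.paste_horiz sq⟩
    obtain ⟨i1, i2, i3, i4⟩ := c.instances hw
    have hmain := (isFinLocFreeOfDeg_iff snd'.left r).1 hdeg (IsLocalRing.closedPoint q.K)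
    have hpt : AlgSp.Points.map g (AlgSp.Points.mk q) =
        AlgSp.Points.ofPt (q.toHom ≫ g) (IsLocalRing.closedPoint q.K) := by
      rw [← AlgSp.Points.map_ofPt, AlgSp.Points.ofPt_toHom]
    rw [hpt]
    exact ⟨(mem_DegGE_iff hX hw c _ r).2 hmain.1,
      fun h' => hmain.2 ((mem_DegGE_iff hX hw c _ (r + 1)).1 h')⟩
  · intro h
    have hrep : AlgSp.Representable snd := by
      intro U' g'
      obtain ⟨V, snd', fst'', sq''⟩ := hw.fl.1 (g' ≫ g)
      have hcomm : fst'' ≫ w = ((AlgSp.yon S).map snd' ≫ g') ≫ g := by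
        rw [sq''.w, Category.assoc]
      refine ⟨V, snd', sq.lift fst'' ((AlgSp.yon S).map snd' ≫ g') hcomm, ?_⟩
      refine IsPullback.of_right ?_ (sq.lift_snd _ _ _) sq
      rw [sq.lift_fst]
      exact sq''
    refine ⟨hrep, ?_⟩
    intro U' V g' fst' snd' sq'
    let c : BC w (g' ≫ g) := ⟨V, fst' ≫ fst, snd', sq'.paste_horiz sq⟩
    obtain ⟨i1, i2, i3, i4⟩ := c.instances hw
    show Mor2.IsFinLocFreeOfDeg r snd'.left
    rw [isFinLocFreeOfDeg_iff]
    intro u
    have hu : AlgSp.Points.ofPt (g' ≫ g) u ∈ DegGE w r \ DegGE w (r + 1) := by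
      apply h
      exact ⟨AlgSp.Points.ofPt g' u, AlgSp.Points.map_ofPt g' g u⟩
    exact ⟨(mem_DegGE_iff hX hw c u r).1 hu.1,
      fun h' => hu.2 ((mem_DegGE_iff hX hw c u (r + 1)).2 h')⟩

end Groth.Agent.R2.H93.FibDegSp
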