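import Mathlib
import Groth.Agent.Lib.Helper5LocalDim

/-!
# Dimension of quotients under a faithfully flat local homomorphism with trivial closed fibre (helper93)

`A → A'` faithfully flat local homomorphism of Noetherian local rings such that the only prime of
`A'` over `m_A` is `m_{A'}`.

* `ringKrullDim_quotient_le_of_comap`: `dim A'/P ≤ dim A/(P ∩ A)`.
* `exists_prime_comap_eq_ringKrullDim_quotient_eq`: for a prime `p` of `A` there is a prime `Q` of
  `A'` over `p` with `dim A'/Q = dim A/p`.
-/

set_option autoImplicit false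
universe u

namespace Groth.Agent.R2.H93.FlatLocalDelta

open IsLocalRing

theorem ringKrullDim_quotient_eq_coheight {R : Type*} [CommRing R] (q : PrimeSpectrum R) :
    ringKrullDim (R ⧸ q.asIdeal) = ((Order.coheight q : ℕ∞) : WithBot ℕ∞) := by
  rw [ringKrullDim_quotient, Order.coheight_eq_krullDim_Ici]
  have h : PrimeSpectrum.zeroLocus (q.asIdeal : Set R) = Set.Ici q := by
    ext p
    rw [PrimeSpectrum.mem_zeroLocus, Set.mem_Ici, SetLike.coe_subset_coe,
      PrimeSpectrum.asIdeal_le_asIdeal]
  rw [h]

variable {A A' : Type u} [CommRing A] [CommRing A'] [IsLocalRing A] [IsLocalRing A']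
  [IsNoetherianRing A] [IsNoetherianRing A'] [Algebra A A'] [Module.FaithfullyFlat A A']

theorem ringKrullDim_quotient_le_of_comap
    (hfib : ∀ q : Ideal A', ∀ _ : q.IsPrime,
      q.comap (algebraMap A A') = maximalIdeal A → q = maximalIdeal A')
    (P : Ideal A') [P.IsPrime] :
    ringKrullDim (A' ⧸ P) ≤ ringKrullDim (A ⧸ P.comap (algebraMap A A')) := by
  set p := P.comap (algebraMap A A') with hp
  have hpp : p.IsPrime := Ideal.IsPrime.comap _
  have : Nontrivial (A ⧸ p) := Ideal.Quotient.nontrivial_iff.mpr hpp.ne_top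
  have : IsLocalRing (A ⧸ p) :=
    IsLocalRing.of_surjective' (Ideal.Quotient.mk p) Ideal.Quotient.mk_surjective
  have : Nontrivial (A' ⧸ P) := Ideal.Quotient.nontrivial_iff.mpr Ideal.IsPrime.ne_top'
  have : IsLocalRing (A' ⧸ P) :=
    IsLocalRing.of_surjective' (Ideal.Quotient.mk P) Ideal.Quotient.mk_surjective
  let φ : A ⧸ p →+* A' ⧸ P := Ideal.quotientMap P (algebraMap A A') le_rfl
  have hφ : ∀ a : A, φ (Ideal.Quotient.mk p a) = Ideal.Quotient.mk P (algebraMap A A' a) :=
    fun a => Ideal.quotientMap_mk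
  have hloc1 : IsLocalHom (Ideal.Quotient.mk P) :=
    IsLocalHom.of_surjective _ Ideal.Quotient.mk_surjective
  have hloc2 : IsLocalHom (Ideal.Quotient.mk p) :=
    IsLocalHom.of_surjective _ Ideal.Quotient.mk_surjective
  have : IsLocalHom φ := by
    constructor
    intro a' ha'
    obtain ⟨a, rfl⟩ := Ideal.Quotient.mk_surjective a'
    rw [hφ] at ha'
    have h1 : IsUnit (algebraMap A A' a) := isUnit_of_map_unit (Ideal.Quotient.mk P) _ ha'
    have h2 : IsUnit a := isUnit_of_map_unit (algebraMap A A') _ h1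
    exact h2.map _
  have h := Groth.Agent.Lib.Helper5.ringKrullDim_le_add_of_isLocalHom φ
  have h0 : ringKrullDim ((A' ⧸ P) ⧸ (maximalIdeal (A ⧸ p)).map φ) ≤ 0 := by
    have : Subsingleton (PrimeSpectrum ((A' ⧸ P) ⧸ (maximalIdeal (A ⧸ p)).map φ)) := by
      let π : A' →+* (A' ⧸ P) ⧸ (maximalIdeal (A ⧸ p)).map φ :=
        (Ideal.Quotient.mk _).comp (Ideal.Quotient.mk P)
      have hπ : Function.Surjective π :=
        Ideal.Quotient.mk_surjective.comp Ideal.Quotient.mk_surjective
      have key : ∀ I : PrimeSpectrum ((A' ⧸ P) ⧸ (maximalIdeal (A ⧸ p)).map φ),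
          I.asIdeal.comap π = maximalIdeal A' := by
        intro I
        apply hfib _ (Ideal.IsPrime.comap π)
        have hmax : (maximalIdeal A) ≤ (I.asIdeal.comap π).comap (algebraMap A A') := by
          intro a ha
          rw [Ideal.mem_comap, Ideal.mem_comap]
          have : π (algebraMap A A' a) = 0 := by
            change Ideal.Quotient.mk _ (Ideal.Quotient.mk P (algebraMap A A' a)) = 0
            rw [Ideal.Quotient.eq_zero_iff_mem, ← hφ]
            apply Ideal.mem_map_of_mem
            rw [mem_maximalIdeal, mem_nonunits_iff]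
            intro hu
            exact ha (isUnit_of_map_unit (Ideal.Quotient.mk p) a hu)
          rw [this]
          exact zero_mem _
        have hne : (I.asIdeal.comap π).comap (algebraMap A A') ≠ ⊤ :=
          Ideal.IsPrime.ne_top'
        exact ((maximalIdeal.isMaximal A).eq_of_le hne hmax).symm
      constructor
      intro I J
      ext1
      apply Ideal.comap_injective_of_surjective π hπ
      rw [key I, key J]
    exact Order.krullDim_nonpos_of_subsingleton
  calc ringKrullDim (A' ⧸ P) ≤ ringKrullDim (A ⧸ p) +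
        ringKrullDim ((A' ⧸ P) ⧸ (maximalIdeal (A ⧸ p)).map φ) := h
    _ ≤ ringKrullDim (A ⧸ p) + 0 := by gcongr
    _ = ringKrullDim (A ⧸ p) := add_zero _

theorem exists_prime_comap_eq_ringKrullDim_quotient_eq
    (hfib : ∀ q : Ideal A', ∀ _ : q.IsPrime,
      q.comap (algebraMap A A') = maximalIdeal A → q = maximalIdeal A')
    (p : Ideal A) [hp : p.IsPrime] :
    ∃ (Q : Ideal A') (_ : Q.IsPrime), Q.comap (algebraMap A A') = p ∧
      ringKrullDim (A' ⧸ Q) = ringKrullDim (A ⧸ p) := by
  -- finite coheight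
  have : Nontrivial (A ⧸ p) := Ideal.Quotient.nontrivial_iff.mpr hp.ne_top
  have : IsLocalRing (A ⧸ p) :=
    IsLocalRing.of_surjective' (Ideal.Quotient.mk p) Ideal.Quotient.mk_surjective
  have hfin : Order.coheight (⟨p, hp⟩ : PrimeSpectrum A) ≠ ⊤ := by
    intro htop
    have h1 := ringKrullDim_quotient_eq_coheight (⟨p, hp⟩ : PrimeSpectrum A)
    rw [htop] at h1
    have h2 : ringKrullDim (A ⧸ p) < ⊤ := ringKrullDim_lt_top
    rw [h1] at h2
    exact absurd h2 (by simp)
  obtain ⟨n, hn⟩ := ENat.ne_top_iff_exists.mp hfin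
  obtain ⟨l, hhead, hlen⟩ := Order.exists_series_of_coheight_eq_coe (⟨p, hp⟩ : PrimeSpectrum A) hn.symm
  obtain ⟨P0, hP0⟩ := PrimeSpectrum.comap_surjective_of_faithfullyFlat (B := A') l.last
  have : P0.asIdeal.LiesOver l.last.asIdeal := ⟨by rw [← hP0]; rfl⟩
  obtain ⟨L, hLlen, hLlast, hLmap⟩ := Ideal.exists_ltSeries_of_hasGoingDown l P0.asIdeal
  have hLhead : PrimeSpectrum.comap (algebraMap A A') L.head = l.head := by
    rw [← L.toList_getElem_zero_eq_head, ← l.toList_getElem_zero_eq_head]
    rw [List.getElem_map_rev (PrimeSpectrum.comap (algebraMap A A')),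
      List.getElem_of_eq hLmap _]
  refine ⟨L.head.asIdeal, L.head.2, ?_, ?_⟩
  · have := congrArg PrimeSpectrum.asIdeal hLhead
    rw [hhead] at this
    exact this
  · apply le_antisymm
    · have h1 := ringKrullDim_quotient_le_of_comap hfib L.head.asIdeal
      have h2 : L.head.asIdeal.comap (algebraMap A A') = p := by
        have := congrArg PrimeSpectrum.asIdeal hLhead
        rw [hhead] at this
        exact this
      rw [h2] at h1
      exact h1
    · have h1 := ringKrullDim_quotient_eq_coheight (⟨p, hp⟩ : PrimeSpectrum A)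
      have h2 := ringKrullDim_quotient_eq_coheight L.head
      change ringKrullDim (A ⧸ p) = _ at h1
      rw [h1, h2, ← hn]
      have h3 : (L.length : ℕ∞) ≤ Order.coheight L.head := Order.length_le_coheight_head
      rw [hLlen, hlen] at h3
      exact_mod_cast h3

end Groth.Agent.R2.H93.FlatLocalDelta
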