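import Mathlib
import Groth.Prelude.Def_AlgSpMor5
import Groth.Agent.R2.H93GorSch
import Groth.Agent.Lib.Helper12FibreSpec
import Groth.Agent.S9874
import Groth.Agent.S10209
import Groth.Agent.S10210

/-!
# helper93: fibres of chart morphisms of a morphism of algebraic spaces with locally Noetherian fibres

* `isLocallyNoetherian_fiber_of_chart`: if the fibres of `f : X ⟶ Y` over field points are locally
  Noetherian algebraic spaces, then for every chart diagram `(a, b, h)` of `f` and every `u`, the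
  scheme theoretic fibre of `h` through `u` is locally Noetherian.
* `locPAt_iff_of_diagram`: for an étale-local property, the all-diagrams predicate `LocPAt` can be
  tested on one chart diagram.
-/

set_option autoImplicit false
set_option linter.style.haveILetI false
universe u

namespace Groth.Agent.R2.H93.GorChart

open AlgebraicGeometry CategoryTheory CategoryTheory.Limits AlgSp

variable {S : Scheme.{u}}

/-- the fibre of a chart morphism, as a scheme over `S`, is étale over the fibre of the morphism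
of spaces over the corresponding field point; hence it is locally Noetherian when the latter is. -/
theorem isLocallyNoetherian_fiber_of_chart {X Y : AlgSp.Sp S} (hX : AlgSp.IsAlgSpace X)
    (hY : AlgSp.IsAlgSpace Y) (f : X ⟶ Y)
    (hf : ∀ (k : AlgSp.FieldPt Y) (Xk : AlgSp.Sp S) (a : Xk ⟶ X) (b : Xk ⟶ (AlgSp.yon S).obj k.pt),
        IsPullback a b f k.toHom → AlgSp.IsLocNoethSp Xk)
    {U V : Over S} (a : (AlgSp.yon S).obj U ⟶ X) (b : (AlgSp.yon S).obj V ⟶ Y) (h : U ⟶ V)
    (ha : AlgSp.RepWith @Etale a) (hb : AlgSp.RepWith @Etale b)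
    (comm : a ≫ f = (AlgSp.yon S).map h ≫ b) (v : ↥V.left) :
    IsLocallyNoetherian (h.left.fiber v) := by
  -- the field point
  let k : AlgSp.FieldPt Y := AlgSp.FieldPt.ofPt b v
  let ιv : k.pt ⟶ V := Over.homMk (V.left.fromSpecResidueField v) rfl
  have hk : k.toHom = (AlgSp.yon S).map ιv ≫ b := AlgSp.FieldPt.toHom_ofPt b v
  -- the fibre of the chart as a scheme over `S`
  let Uv : Over S := Over.mk (pullback.fst h.left (V.left.fromSpecResidueField v) ≫ U.hom)
  let pr₁ : Uv ⟶ U := Over.homMk (pullback.fst h.left (V.left.fromSpecResidueField v)) rfl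
  let pr₂ : Uv ⟶ k.pt := Over.homMk (pullback.snd h.left (V.left.fromSpecResidueField v)) (by
    show pullback.snd h.left (V.left.fromSpecResidueField v) ≫
        (V.left.fromSpecResidueField v ≫ V.hom) =
      pullback.fst h.left (V.left.fromSpecResidueField v) ≫ U.hom
    rw [← Over.w h, ← Category.assoc, ← Category.assoc, pullback.condition])
  have sqU : IsPullback pr₁ pr₂ h ιv :=
    IsPullback.of_map (Over.forget S) (Over.OverMorphism.ext pullback.condition)
      (IsPullback.of_hasPullback h.left (V.left.fromSpecResidueField v))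
  have sqU' : IsPullback ((AlgSp.yon S).map pr₁) ((AlgSp.yon S).map pr₂) ((AlgSp.yon S).map h)
      ((AlgSp.yon S).map ιv) := sqU.map (AlgSp.yon S)
  -- `W = X ×_Y V` and `e : U ⟶ W`
  have sqW := IsPullback.of_hasPullback f b
  have hW : AlgSp.IsAlgSpace (pullback f b) :=
    Groth.Agent.S9874.isAlgSpace_of_isPullback hY.diag hX (AlgSp.IsAlgSpace.yon_obj V) sqW
  have hwX : AlgSp.RepWith @Etale (pullback.fst f b) :=
    MorphismProperty.of_isPullback (P := AlgSp.RepWith @Etale) sqW.flip hb
  obtain ⟨e, he⟩ : ∃ e : (AlgSp.yon S).obj U ⟶ pullback f b,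
      e = pullback.lift a ((AlgSp.yon S).map h) comm := ⟨_, rfl⟩
  have he1 : e ≫ pullback.fst f b = a := by rw [he, pullback.lift_fst]
  have he2 : e ≫ pullback.snd f b = (AlgSp.yon S).map h := by rw [he, pullback.lift_snd]
  have hwXe : AlgSp.IsEtaleMor (pullback.fst f b) := fun T φ hφ =>
    (AlgSp.repWith_isMultiplicative (S := S) @Etale).comp_mem _ _ hφ hwX
  have hae : AlgSp.IsEtaleMor (e ≫ pullback.fst f b) := by
    rw [he1]
    exact fun T φ hφ => (AlgSp.repWith_isMultiplicative (S := S) @Etale).comp_mem _ _ hφ ha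
  have hee : AlgSp.IsEtaleMor e :=
    Groth.Agent.S10210.isEtaleMor_of_comp (AlgSp.IsAlgSpace.yon_obj U) hW e _ hae hwXe
  -- the fibre of `f` over `k`
  have sqK := IsPullback.of_hasPullback f k.toHom
  have hXk : AlgSp.IsAlgSpace (pullback f k.toHom) :=
    Groth.Agent.S9874.isAlgSpace_of_isPullback hY.diag hX (AlgSp.IsAlgSpace.yon_obj k.pt) sqK
  have hwρ : pullback.fst f k.toHom ≫ f = (pullback.snd f k.toHom ≫ (AlgSp.yon S).map ιv) ≫ b := by
    rw [pullback.condition, hk, Category.assoc]
  obtain ⟨ρ, hρ⟩ : ∃ ρ : pullback f k.toHom ⟶ pullback f b,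
      ρ = pullback.lift (pullback.fst f k.toHom) (pullback.snd f k.toHom ≫ (AlgSp.yon S).map ιv)
        hwρ := ⟨_, rfl⟩
  have hρ1 : ρ ≫ pullback.fst f b = pullback.fst f k.toHom := by rw [hρ, pullback.lift_fst]
  have hρ2 : ρ ≫ pullback.snd f b = pullback.snd f k.toHom ≫ (AlgSp.yon S).map ιv := by
    rw [hρ, pullback.lift_snd]
  have sqρ : IsPullback ρ (pullback.snd f k.toHom) (pullback.snd f b) ((AlgSp.yon S).map ιv) := by
    refine IsPullback.of_right ?_ hρ2 sqW
    rw [hρ1, ← hk]
    exact sqK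
  -- the map from the fibre of the chart
  have hwι : ((AlgSp.yon S).map pr₁ ≫ e) ≫ pullback.snd f b =
      (AlgSp.yon S).map pr₂ ≫ (AlgSp.yon S).map ιv := by
    rw [Category.assoc, he2, sqU'.w]
  obtain ⟨ι, hι⟩ : ∃ ι : (AlgSp.yon S).obj Uv ⟶ pullback f k.toHom,
      ι = sqρ.lift ((AlgSp.yon S).map pr₁ ≫ e) ((AlgSp.yon S).map pr₂) hwι := ⟨_, rfl⟩
  have hι1 : ι ≫ ρ = (AlgSp.yon S).map pr₁ ≫ e := by rw [hι, sqρ.lift_fst]
  have hι2 : ι ≫ pullback.snd f k.toHom = (AlgSp.yon S).map pr₂ := by rw [hι, sqρ.lift_snd]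
  have left : IsPullback ι ((AlgSp.yon S).map pr₁) ρ e := by
    refine IsPullback.of_right ?_ hι1 sqρ.flip
    rw [hι2, he2]
    exact sqU'.flip
  have hιe : AlgSp.IsEtaleMor ι :=
    Groth.Agent.S10209.isEtaleMor_of_isPullback (AlgSp.IsAlgSpace.yon_obj U) hXk left hee
  have hιr : AlgSp.RepWith @Etale ι := by
    have := hιe (𝟙 _) (AlgSp.repWith_id @Etale Uv)
    rwa [Category.id_comp] at this
  exact Groth.Agent.Lib.Helper12.FibreSpec.isLocallyNoetherian_of_chart
    (hf k _ _ _ sqK) ι hιr

end Groth.Agent.R2.H93.GorChart
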