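import Mathlib
import Groth.Agent.R2.H93GorChart
import Groth.Agent.S0538
import Groth.Agent.S0539
import Groth.Agent.S0540

/-!
# helper93: Gorenstein algebraic spaces: local rings of étale charts, strict henselizations

* `gor_stalk_iff_of_etale`: for `g : T ⟶ T'` étale, `O_{T,t}` is Gorenstein iff `O_{T',g t}` is.
* `gor_stalk_of_chart`: on a space that is étale locally a Gorenstein scheme, all local rings of
  all étale charts are Gorenstein.
* `gor_of_isStrictHenselization`: a strict henselization of a Gorenstein local ring is Gorenstein.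
-/

set_option autoImplicit false
set_option linter.style.haveILetI false
universe u

namespace Groth.Agent.R2.H93.GorSpace

open IsLocalRing AlgebraicGeometry CategoryTheory CategoryTheory.Limits LocCoh
  Groth.Agent.Lib.Helper5 Groth.Agent.Lib.Helper5.FiberMor Groth.Agent.Lib.Helper5.FiberRing
  Groth.Agent.R2.H93.HenselEtale

variable {S : Scheme.{u}}

theorem gor_stalk_iff_of_etale {T T' : Scheme.{u}} (g : T ⟶ T') [Etale g] (t : T) :
    IsGorensteinLocalRing (T.presheaf.stalk t) ↔ IsGorensteinLocalRing (T'.presheaf.stalk (g t)) := by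
  have hfl : (g.stalkMap t).hom.Flat := Flat.stalkMap g t
  have hess : (g.stalkMap t).hom.EssFiniteType := LocallyOfFiniteType.stalkMap g t
  letI := (g.stalkMap t).hom.toAlgebra
  haveI : IsLocalHom (algebraMap (T'.presheaf.stalk (g t)) (T.presheaf.stalk t)) :=
    inferInstanceAs (IsLocalHom (g.stalkMap t).hom)
  haveI : Module.Flat (T'.presheaf.stalk (g t)) (T.presheaf.stalk t) := hfl
  haveI : Algebra.EssFiniteType (T'.presheaf.stalk (g t)) (T.presheaf.stalk t) := hess
  have key := Groth.Agent.R2.H93.GorRing.gor_quot_iff_of_unramified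
    (B := T'.presheaf.stalk (g t)) (B' := T.presheaf.stalk t)
    (map_maximalIdeal_stalkMap g t) ⊥ bot_ne_top
  have e1 : (T'.presheaf.stalk (g t) ⧸ (⊥ : Ideal (T'.presheaf.stalk (g t)))) ≃+*
      T'.presheaf.stalk (g t) := RingEquiv.quotientBot _
  have e2 : (T.presheaf.stalk t ⧸ (⊥ : Ideal (T'.presheaf.stalk (g t))).map
      (algebraMap (T'.presheaf.stalk (g t)) (T.presheaf.stalk t))) ≃+* T.presheaf.stalk t :=
    (Ideal.quotEquivOfEq (Ideal.map_bot)).trans (RingEquiv.quotientBot _)
  constructor
  · intro h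
    exact isoInv_gor _ _ e1 (key.mp (isoInv_gor _ _ e2.symm h))
  · intro h
    exact isoInv_gor _ _ e2 (key.mpr (isoInv_gor _ _ e1.symm h))

/-- on a sheaf that is étale locally a Gorenstein scheme, all local rings of all étale charts are
Gorenstein local rings. -/
theorem gor_stalk_of_chart {X : AlgSp.Sp S} (hX : AlgSp.EtaleLocally Dual3.IsGorenstein X)
    {U : Over S} (a : (AlgSp.yon S).obj U ⟶ X) (ha : AlgSp.RepWith @Etale a) (u : ↥U.left) :
    IsGorensteinLocalRing (U.left.presheaf.stalk u) := by
  obtain ⟨U0, p, hpe, hps, hU0⟩ := hX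
  obtain ⟨W, w1, w2', sq⟩ := hpe.1 a
  obtain ⟨w2, rfl⟩ := (AlgSp.yon S).map_surjective w2'
  haveI : Etale w1.left := hpe.2 _ _ w1 sq
  haveI : Surjective w1.left := hps.2 _ _ w1 sq
  haveI : Etale w2.left := ha.2 _ _ w2 sq.flip
  obtain ⟨t, rfl⟩ := w1.left.surjective u
  rw [← gor_stalk_iff_of_etale w1.left t, gor_stalk_iff_of_etale w2.left t]
  exact hU0.2 _

/-- a strict henselization of a Gorenstein local ring is a Gorenstein local ring. -/
theorem gor_of_isStrictHenselization (A R : Type u) [CommRing A] [IsLocalRing A] [CommRing R]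
    [IsLocalRing R] [Algebra A R] [IsLocalHom (algebraMap A R)]
    [Hensel.IsStrictHenselization A R] (hA : IsGorensteinLocalRing A) :
    IsGorensteinLocalRing R := by
  haveI : IsNoetherianRing A := hA.toIsNoetherian
  haveI : IsNoetherianRing R := (Groth.Agent.S0540.result A R).mp inferInstance
  haveI : Module.FaithfullyFlat A R := Groth.Agent.S0539.result A R
  have hm : Ideal.map (algebraMap A R) (maximalIdeal A) = maximalIdeal R :=
    Groth.Agent.S0538.result A R
  refine (flatLocalIff_gor A R (ResidueField R) (residue R) Ideal.Quotient.mk_surjective ?_).mpr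
    ⟨hA, GorRing.gorLocal_of_field _⟩
  rw [hm]
  exact Ideal.mk_ker

end Groth.Agent.R2.H93.GorSpace
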