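import Mathlib
import Groth.Agent.R2.H93GorSpace
import Groth.Agent.Lib.Helper3IndEtHz
import Groth.Agent.Lib.Helper3IndEtFlat
import Groth.Agent.Lib.Helper3ShQuot
import Groth.Agent.Lib.Helper28FibreTrans

/-!
# helper93: Gorenstein fibre rings and strict henselizations

* `gor_iff_of_isStrictHenselization`: `A` is a Gorenstein local ring iff its strict henselization is.
* `flat_iff_sh`: a local map `A → B` is flat iff a compatible map `A^sh → B^sh` is.
* `gor_fibre_iff_sh`: `A → B` flat with Gorenstein `B/m_A B` iff `A^sh → B^sh` flat with Gorenstein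
  `B^sh/m_{A^sh}B^sh`.
-/

set_option autoImplicit false
set_option linter.style.haveILetI false
set_option linter.unusedSectionVars false
universe u

namespace Groth.Agent.R2.H93.GorSh

open IsLocalRing LocCoh Groth.Agent.Lib.Helper5 Groth.Agent.Lib.Helper5.FiberMor
  Groth.Agent.Lib.Helper5.FiberRing Groth.Agent.Lib.Helper28 Groth.Agent.R2.H93.GorSpace

theorem gor_iff_of_isStrictHenselization (A R : Type u) [CommRing A] [IsLocalRing A] [CommRing R]
    [IsLocalRing R] [Algebra A R] [IsLocalHom (algebraMap A R)]
    [Hensel.IsStrictHenselization A R] :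
    IsGorensteinLocalRing R ↔ IsGorensteinLocalRing A := by
  refine ⟨fun hR => ?_, fun hA => gor_of_isStrictHenselization A R hA⟩
  haveI : IsNoetherianRing R := hR.toIsNoetherian
  haveI : IsNoetherianRing A := (Groth.Agent.S0540.result A R).mpr inferInstance
  haveI : Module.FaithfullyFlat A R := Groth.Agent.S0539.result A R
  have hm : Ideal.map (algebraMap A R) (maximalIdeal A) = maximalIdeal R :=
    Groth.Agent.S0538.result A R
  refine ((flatLocalIff_gor A R (ResidueField R) (residue R) Ideal.Quotient.mk_surjective ?_).mp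
    hR).1
  rw [hm]
  exact Ideal.mk_ker

section

variable {A B R' R : Type u} [CommRing A] [IsLocalRing A] [CommRing B] [IsLocalRing B]
  [CommRing R'] [IsLocalRing R'] [CommRing R] [IsLocalRing R]
  [Algebra A R'] [IsLocalHom (algebraMap A R')] [Hensel.IsStrictHenselization A R']
  [Algebra B R] [IsLocalHom (algebraMap B R)] [Hensel.IsStrictHenselization B R]
  (ψ : A →+* B) [IsLocalHom ψ] (φ : R' →+* R) [IsLocalHom φ]
  (hφ : φ.comp (algebraMap A R') = (algebraMap B R).comp ψ)

include hφ

theorem flat_iff_sh : ψ.Flat ↔ φ.Flat := by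
  letI : Algebra A B := ψ.toAlgebra
  letI : Algebra R' R := φ.toAlgebra
  letI : Algebra A R := ((algebraMap B R).comp ψ).toAlgebra
  haveI : IsScalarTower A B R := IsScalarTower.of_algebraMap_eq (fun _ => rfl)
  haveI : IsScalarTower A R' R := IsScalarTower.of_algebraMap_eq (fun x => by
    have := congr($hφ x)
    exact this.symm)
  haveI : Module.FaithfullyFlat B R := Groth.Agent.S0539.result B R
  haveI : Module.FaithfullyFlat A R' := Groth.Agent.S0539.result A R'
  have hind := Groth.Agent.Lib.Helper3.IndEt.isIndEtale_of_isStrictHenselization A R'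
  constructor
  · intro h
    haveI : Module.Flat A B := h
    haveI : Module.Flat A R := Module.Flat.trans A B R
    exact (Groth.Agent.Lib.Helper3.IndEt.flat_iff_of_isIndEtale hind R).mp inferInstance
  · intro h
    haveI : Module.Flat R' R := h
    haveI : Module.Flat A R := Module.Flat.trans A R' R
    exact flat_of_faithfullyFlat_of_flat_comp A B R

theorem map_maximalIdeal_sh :
    (maximalIdeal R').map φ = ((maximalIdeal A).map ψ).map (algebraMap B R) := by
  rw [← Groth.Agent.S0538.result A R', Ideal.map_map, Ideal.map_map, hφ]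

theorem gor_fibre_iff_sh :
    IsGorensteinLocalRing (B ⧸ (maximalIdeal A).map ψ) ↔
      IsGorensteinLocalRing (R ⧸ (maximalIdeal R').map φ) := by
  have hI : (maximalIdeal A).map ψ ≠ ⊤ := (IsLocalRing.map_maximalIdeal_lt_top ψ).ne
  haveI hS : IsLocalRing (B ⧸ (maximalIdeal A).map ψ) := isLocalRing_quotient hI
  have hJne : ((maximalIdeal A).map ψ).map (algebraMap B R) ≠ ⊤ :=
    map_ne_top_of_isLocalHom _ hI
  haveI hT : IsLocalRing (R ⧸ ((maximalIdeal A).map ψ).map (algebraMap B R)) :=
    isLocalRing_quotient hJne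
  haveI hloc := isLocalHom_quotient_map (A := B) (A' := R) ((maximalIdeal A).map ψ)
  haveI := Groth.Agent.Lib.Helper3.ShQuot.isStrictHenselization_quotient (A := B) (S := R)
    ((maximalIdeal A).map ψ)
  rw [← gor_iff_of_isStrictHenselization (B ⧸ (maximalIdeal A).map ψ)
    (R ⧸ ((maximalIdeal A).map ψ).map (algebraMap B R))]
  have e := Ideal.quotEquivOfEq (map_maximalIdeal_sh ψ φ hφ)
  exact ⟨fun h => isoInv_gor _ _ e.symm h, fun h => isoInv_gor _ _ e h⟩

end

end Groth.Agent.R2.H93.GorSh
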