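import Mathlib
import Groth.Agent.R2.H7RegImmBridge
import Groth.Agent.R2.H7LCIDesc
import Groth.Agent.R2.H7LCIBC
import Groth.Agent.S9729
import Groth.Agent.S8656
import Groth.Agent.S10265
import Groth.Prelude.Def_AlgSpMor6

/-!
# Local complete intersection morphisms of algebraic spaces: transfers from schemes (helper93)
-/

set_option autoImplicit false
set_option linter.style.haveILetI false

universe u

open AlgebraicGeometry CategoryTheory CategoryTheory.Limits AlgSp

namespace Groth.Agent.R2.H93.LciSp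

open Groth.Agent.R2.H7.LCIMor Groth.Agent.R2.H7.RegImmBridge Groth.Agent.R2.H7.LCIDesc
  Groth.Agent.R2.H7.LCIBC Groth.Agent.R2.H7.LCISmooth

theorem lci_iff_lciMor {X Y : Scheme.{u}} (f : X ⟶ Y) : AlgSp.lci f ↔ lciMor f :=
  forall_isKoszulAt_iff_lciMor f

/-- lci descends along étale surjective base change. -/
theorem lciMor_of_etale_surjective_baseChange {X Y X' Y' : Scheme.{u}} {f : X ⟶ Y} {f' : X' ⟶ Y'}
    {g' : X' ⟶ X} {g : Y' ⟶ Y} [Etale g] [Surjective g] (hc : IsPullback g' f' f g)
    (hf' : lciMor f') : lciMor f :=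
  MorphismProperty.of_isPullback_of_descendsAlong (P := lciMor.{u})
    (Q := @Surjective ⊓ @Flat ⊓ @LocallyOfFinitePresentation) hc.flip
    ⟨⟨inferInstance, inferInstance⟩, inferInstance⟩ hf'

/-- cancellation of a smooth morphism. -/
theorem lciMor_cancel_smooth {X Y Z : Scheme.{u}} (f : X ⟶ Y) (g : Y ⟶ Z) [Smooth g]
    (h : lciMor (f ≫ g)) : lciMor f :=
  (lci_iff_lciMor f).1 (fun x => Groth.Agent.S9729.result f g ((lci_iff_lciMor _).2 h) x)

theorem lciMor_of_etale {X Y : Scheme.{u}} (f : X ⟶ Y) [Etale f] : lciMor f :=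
  lciMor_of_smooth f

/-- an immersion which is lci is Koszul-regular. -/
theorem koszul_of_immersion_lciMor {X Y : Scheme.{u}} (i : X ⟶ Y) [IsImmersion i]
    (h : lciMor i) : RegImm.IsRegularImmersion .koszul i :=
  Groth.Agent.S8656.result i ((lci_iff_lciMor i).2 h) (𝟙 Y) i (Category.comp_id i)

variable {S : Scheme.{u}}

/-- a pullback square of `Over S` is a pullback square of schemes. -/
theorem isPullback_left {A B C D : Over S} {a : A ⟶ B} {b : A ⟶ C} {c : B ⟶ D} {d : C ⟶ D}
    (h : IsPullback a b c d) : IsPullback a.left b.left c.left d.left :=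
  h.map (Over.forget S)

theorem repWith_etale_comp {F G H : AlgSp.Sp S} {a : F ⟶ G} {b : G ⟶ H}
    (ha : AlgSp.RepWith @Etale a) (hb : AlgSp.RepWith @Etale b) : AlgSp.RepWith @Etale (a ≫ b) :=
  (AlgSp.repWith_isMultiplicative (S := S) @Etale).comp_mem _ _ ha hb

/-- **cancellation of a smooth morphism for lci morphisms of algebraic spaces.** -/
theorem isLCIMor_of_comp_smooth {X Y Z : AlgSp.Sp S} (hZ : AlgSp.IsAlgSpace Z) (f : X ⟶ Y)
    (q : Y ⟶ Z) (hq : AlgSp.LocP @Smooth q) (hp : AlgSp.IsLCIMor (f ≫ q)) :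
    AlgSp.IsLCIMor f := by
  intro U V a b h ha hb hcomm
  show AlgSp.lci h.left
  rw [lci_iff_lciMor]
  obtain ⟨T, c, hce, hcs⟩ := hZ.atlas
  -- V' = V ×_Z T
  obtain ⟨V', prV, prT', sqV⟩ := hce.1 (b ≫ q)
  obtain ⟨prT, rfl⟩ := (AlgSp.yon S).map_surjective prT'
  haveI hprVe : Etale prV.left := hce.2 _ _ _ sqV
  haveI hprVs : Surjective prV.left := hcs.2 _ _ _ sqV
  have hb' : AlgSp.RepWith @Etale ((AlgSp.yon S).map prV ≫ b) :=
    repWith_etale_comp ((AlgSp.repWith_yon_map_iff @Etale prV).2 hprVe) hb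
  -- the chart of `q`
  haveI hsm : Smooth prT.left := hq ((AlgSp.yon S).map prV ≫ b) c prT hb' hce (by
    rw [Category.assoc]; exact sqV.w.symm)
  -- U' = U ×_V V'
  have sqU := isPullback_left (IsPullback.of_hasPullback h prV)
  haveI : Etale (pullback.fst h prV).left :=
    MorphismProperty.of_isPullback (P := @Etale) sqU.flip hprVe
  have ha' : AlgSp.RepWith @Etale ((AlgSp.yon S).map (pullback.fst h prV) ≫ a) :=
    repWith_etale_comp ((AlgSp.repWith_yon_map_iff @Etale _).2 inferInstance) ha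
  -- the chart of `p`
  have hlci : AlgSp.lci (pullback.snd h prV ≫ prT).left :=
    hp ((AlgSp.yon S).map (pullback.fst h prV) ≫ a) c (pullback.snd h prV ≫ prT) ha' hce (by
      rw [Category.assoc, ← Category.assoc a, hcomm, Category.assoc, ← Category.assoc,
        ← Functor.map_comp, pullback.condition, Functor.map_comp, Category.assoc, Functor.map_comp,
        Category.assoc, ← sqV.w])
  rw [lci_iff_lciMor] at hlci
  have hlci' : lciMor ((pullback.snd h prV).left ≫ prT.left) := hlci
  have h2 : lciMor (pullback.snd h prV).left := lciMor_cancel_smooth _ prT.left hlci'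
  exact lciMor_of_etale_surjective_baseChange sqU h2

/-- a Koszul-regular immersion of algebraic spaces is a local complete intersection morphism. -/
theorem isLCIMor_of_regImm {X Y : AlgSp.Sp S} (i : X ⟶ Y)
    (hi : AlgSp.IsRegImmMor RegImm.Kind.koszul i) : AlgSp.IsLCIMor i := by
  intro U V a b h ha hb hcomm
  show AlgSp.lci h.left
  rw [lci_iff_lciMor]
  obtain ⟨W, snd, fst, sq⟩ := hi.1 b
  have hreg : RegImm.IsRegularImmersion .koszul snd.left := hi.2 b fst snd hb sq
  have h1 : lciMor snd.left := lciMor_of_koszulRegularImmersion _ hreg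
  have hfst : AlgSp.RepWith @Etale fst :=
    MorphismProperty.of_isPullback (P := AlgSp.RepWith @Etale) sq.flip hb
  obtain ⟨l, hl⟩ := (AlgSp.yon S).map_surjective (sq.lift a ((AlgSp.yon S).map h) hcomm)
  have hl1 : (AlgSp.yon S).map l ≫ fst = a := by rw [hl]; exact sq.lift_fst _ _ _
  have hl2 : l ≫ snd = h := by
    apply (AlgSp.yon S).map_injective
    rw [Functor.map_comp, hl]
    exact sq.lift_snd _ _ _
  haveI : Etale l.left :=
    Groth.Agent.S10265.etale_of_comp_repWith l fst hfst (by rw [hl1]; exact ha)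
  rw [← hl2]
  show lciMor (l.left ≫ snd.left)
  exact lciMor_comp _ _ (lciMor_of_etale l.left) h1

/-- precomposition with an étale morphism preserves lci. -/
theorem isLCIMor_etale_comp {U X Y : AlgSp.Sp S} (e : U ⟶ X) (he : AlgSp.IsEtaleMor e) (f : X ⟶ Y)
    (hf : AlgSp.IsLCIMor f) : AlgSp.IsLCIMor (e ≫ f) := by
  intro A B a b h ha hb hcomm
  exact hf (a ≫ e) b h (he a ha) hb (by rw [Category.assoc]; exact hcomm)

/-- a representable immersion which is lci is a Koszul-regular immersion. -/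
theorem isRegImmMor_of_isLCIMor {U P : AlgSp.Sp S} (i : U ⟶ P)
    (hi : AlgSp.RepWith @IsImmersion i) (hl : AlgSp.IsLCIMor i) :
    AlgSp.IsRegImmMor RegImm.Kind.koszul i := by
  refine ⟨hi.1, ?_⟩
  intro V W b fst snd hb sq
  haveI : IsImmersion snd.left := hi.2 b fst snd sq
  have hfst : AlgSp.RepWith @Etale fst :=
    MorphismProperty.of_isPullback (P := AlgSp.RepWith @Etale) sq.flip hb
  have h1 : AlgSp.lci snd.left := hl fst b snd hfst hb sq.w
  rw [lci_iff_lciMor] at h1
  exact koszul_of_immersion_lciMor snd.left h1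

end Groth.Agent.R2.H93.LciSp
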