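import Mathlib
import Groth.Prelude.Def_AlgSpSub
import Groth.Agent.Lib.Helper12FieldBC
import Groth.Agent.Lib.Helper12Reduced

/-!
# helper93: descent of reducedness of sheaves along base change by a flat surjective morphism

`isReducedSp_of_isPullback_flat_surjective`: if `P = Q ×_{T₀} T` with `T ⟶ T₀` a flat surjective
morphism of schemes, `Q` an algebraic space and `P` reduced, then `Q` is reduced.
-/

set_option autoImplicit false
set_option linter.style.haveILetI false
universe u

namespace Groth.Agent.R2.H93.RedDesc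

open AlgebraicGeometry CategoryTheory CategoryTheory.Limits AlgSp

variable {S : Scheme.{u}}

lemma isReducedSp_of_isPullback_flat_surjective {P Q : AlgSp.Sp S} {T T₀ : Over S}
    (c : T ⟶ T₀) [Flat c.left] [Surjective c.left]
    (hQalg : AlgSp.IsAlgSpace Q) (g : Q ⟶ (AlgSp.yon S).obj T₀)
    (l : P ⟶ Q) (g' : P ⟶ (AlgSp.yon S).obj T) (sq : IsPullback l g' g ((AlgSp.yon S).map c))
    (hP : AlgSp.IsReducedSp P) : AlgSp.IsReducedSp Q := by
  obtain ⟨V₀, a₀, ha₀e, ha₀s⟩ := hQalg.atlas
  obtain ⟨b₀, hb₀⟩ := (AlgSp.yon S).map_surjective (a₀ ≫ g)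
  let V : Over S := Over.mk (pullback.fst b₀.left c.left ≫ V₀.hom)
  let pr₁ : V ⟶ V₀ := Over.homMk (pullback.fst b₀.left c.left) rfl
  let pr₂ : V ⟶ T := Over.homMk (pullback.snd b₀.left c.left) (by
    show pullback.snd b₀.left c.left ≫ T.hom = pullback.fst b₀.left c.left ≫ V₀.hom
    rw [← Over.w c, ← Over.w b₀, ← Category.assoc, ← Category.assoc, pullback.condition])
  have sqV : IsPullback pr₁ pr₂ b₀ c :=
    IsPullback.of_map (Over.forget S) (Over.OverMorphism.ext pullback.condition)
      (IsPullback.of_hasPullback b₀.left c.left)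
  have sqVy := (sqV.map (AlgSp.yon S)).flip
  rw [hb₀] at sqVy
  obtain ⟨a, sqa⟩ : ∃ a, IsPullback a ((AlgSp.yon S).map pr₁) l a₀ :=
    ⟨_, IsPullback.of_right' sqVy sq.flip⟩
  have hae : AlgSp.RepWith @Etale a :=
    MorphismProperty.of_isPullback (P := AlgSp.RepWith @Etale) sqa.flip ha₀e
  haveI : IsReduced V.left := Groth.Agent.Lib.Helper12.FieldBC.isReduced_of_chart hP a hae
  haveI : IsReduced (pullback b₀.left c.left) := ‹IsReduced V.left›
  haveI : Flat (pullback.fst b₀.left c.left) := inferInstance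
  haveI : Surjective (pullback.fst b₀.left c.left) := inferInstance
  exact ⟨V₀, a₀, ha₀e, ha₀s,
    Groth.Agent.Lib.Helper12.Reduced.isReduced_of_flat_of_surjective (pullback.fst b₀.left c.left)⟩

end Groth.Agent.R2.H93.RedDesc
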