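import Mathlib
import Groth.Agent.R2.H93SplitMultiSch
import Groth.Agent.R2.H93SplitQf
import Groth.Agent.R2.H46FiniteSpec
import Groth.Agent.S10260
import Groth.Agent.S10215
import Groth.Agent.S9913
import Groth.Agent.S10177
import Groth.Agent.S9947
import Groth.Agent.Lib.Helper12QcPoint
import Groth.Agent.Lib.Helper15Descent
import Groth.Agent.S10265
import Groth.Agent.R2.H25MonoDiscrete
import Groth.Agent.Lib.Helper12LargestOpen

/-!
# helper93: étale localization splits off the finite clopen piece through finitely many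
quasi-finite points of a fibre (algebraic spaces; Stacks 0ADL-type).
-/

set_option autoImplicit false
set_option linter.style.haveILetI false
universe u

namespace Groth.Agent.R2.H93.SplitMulti

open AlgebraicGeometry CategoryTheory CategoryTheory.Limits AlgSp
open Groth.Agent.R2.H45.GrpLocus Groth.Agent.R2.H45.RelDim Groth.Agent.R2.H45.HasAtMor
open Groth.Agent.R2.H93.SplitMultiSch

variable {S : Scheme.{u}}

/-- `HasAtMor Qlqf` is insensitive to precomposition with an étale morphism. -/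
theorem hasAtMor_qlqf_precomp_etale {X₀ X Y : AlgSp.Sp S} (hX₀ : AlgSp.IsAlgSpace X₀)
    (hY : AlgSp.IsAlgSpace Y) (j : X₀ ⟶ X) (hj : AlgSp.RepWith @Etale j) (f : X ⟶ Y)
    (hf : AlgSp.LocP @LocallyOfFiniteType f) (hjf : AlgSp.LocP @LocallyOfFiniteType (j ≫ f))
    (x₀ : AlgSp.Points X₀) :
    AlgSp.HasAtMor Qlqf (j ≫ f) x₀ ↔ AlgSp.HasAtMor Qlqf f (AlgSp.Points.map j x₀) := by
  obtain ⟨U, V, a, b, h, u, ha, hb, comm, rfl⟩ := exists_diagram hX₀ hY (j ≫ f) x₀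
  have haj : AlgSp.RepWith @Etale (a ≫ j) :=
    (AlgSp.repWith_isMultiplicative (S := S) @Etale).comp_mem _ _ ha hj
  have e1 := hasAtMor_iff_of_diagram_on etSqInvOn_qlqf (j ≫ f) hjf a b h ha hb comm u
  have e2 := hasAtMor_iff_of_diagram_on etSqInvOn_qlqf f hf (a ≫ j) b h haj hb
    (by rw [Category.assoc]; exact comm) u
  rw [e1, AlgSp.Points.map_ofPt, e2]

open Groth.Agent.Lib.Helper12.OpenSub in
/-- the quasi-finite locus of a separated morphism, locally of finite type, from an algebraic space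
to a scheme is an open subspace which is a scheme, separated and locally quasi-finite over the
target. -/
theorem exists_scheme_lqfLocus {Y0o : Over S} {X0 : AlgSp.Sp S} (hX0 : AlgSp.IsAlgSpace X0)
    (f0 : X0 ⟶ (AlgSp.yon S).obj Y0o) (hlft : AlgSp.LocP @LocallyOfFiniteType f0)
    (hsep : AlgSp.IsSeparatedMor f0) :
    ∃ (Zs : Over S) (jZ : (AlgSp.yon S).obj Zs ⟶ X0) (gZ : Zs ⟶ Y0o),
      AlgSp.RepWith @IsOpenImmersion jZ ∧ jZ ≫ f0 = (AlgSp.yon S).map gZ ∧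
      IsSeparated gZ.left ∧ LocallyQuasiFinite gZ.left ∧ LocallyOfFiniteType gZ.left ∧
      ∀ w : AlgSp.Points X0, AlgSp.HasAtMor Qlqf f0 w →
        ∃ z : ↥Zs.left, AlgSp.Points.ofPt jZ z = w := by
  have hY0 : AlgSp.IsAlgSpace ((AlgSp.yon S).obj Y0o) := AlgSp.IsAlgSpace.yon_obj Y0o
  have hL : IsOpen {w : AlgSp.Points X0 | AlgSp.HasAtMor Qlqf f0 w} :=
    isOpen_qlqf hX0 hY0 f0 hlft
  have hincl := repWith_incl (X := X0) hL
  have hZ := isAlgSpace_obj hX0 hL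
  have hincle : AlgSp.RepWith @Etale (incl X0 {w : AlgSp.Points X0 | AlgSp.HasAtMor Qlqf f0 w}) :=
    repWith_mono (fun _ _ k hk => by haveI : IsOpenImmersion k := hk; infer_instance) hincl
  have hlftincl : AlgSp.LocP @LocallyOfFiniteType
      (incl X0 {w : AlgSp.Points X0 | AlgSp.HasAtMor Qlqf f0 w}) :=
    Groth.Agent.S9947.locP_of_repWith_etale @LocallyOfFiniteType
      (fun g hg => by haveI : Etale g := hg; infer_instance) _ hincle
  have hlftZ : AlgSp.LocP @LocallyOfFiniteType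
      (incl X0 {w : AlgSp.Points X0 | AlgSp.HasAtMor Qlqf f0 w} ≫ f0) :=
    Groth.Agent.Lib.Helper12.Proper.locP_lft_comp hX0 hY0 _ _ hlftincl hlft
  have hqfZ : AlgSp.LocP (@LocallyQuasiFinite ⊓ @LocallyOfFiniteType)
      (incl X0 {w : AlgSp.Points X0 | AlgSp.HasAtMor Qlqf f0 w} ≫ f0) := by
    rw [locP_iff_forall_hasAtMor etSqInvOn_qlqf detects_qlqf hZ hY0 _ hlftZ]
    intro z
    rw [hasAtMor_qlqf_precomp_etale hZ hY0 _ hincle f0 hlft hlftZ]
    have hmem : AlgSp.Points.map (incl X0 {w : AlgSp.Points X0 | AlgSp.HasAtMor Qlqf f0 w}) z ∈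
        Set.range (AlgSp.Points.map (incl X0 {w : AlgSp.Points X0 | AlgSp.HasAtMor Qlqf f0 w})) :=
      ⟨z, rfl⟩
    rw [range_map_incl] at hmem
    exact hmem
  have hsepZ : AlgSp.IsSeparatedMor
      (incl X0 {w : AlgSp.Points X0 | AlgSp.HasAtMor Qlqf f0 w} ≫ f0) :=
    Groth.Agent.Lib.Helper12.Proper.isSeparatedMor_comp _ _
      (Groth.Agent.Lib.Helper12.Proper.isSeparatedMor_of_mono (incl X0 _)) hsep
  let Zsp : AlgSp.Space S := ⟨obj X0 {w : AlgSp.Points X0 | AlgSp.HasAtMor Qlqf f0 w}, hZ⟩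
  let Ysp : AlgSp.Space S := ⟨(AlgSp.yon S).obj Y0o, hY0⟩
  let fZ : Zsp ⟶ Ysp :=
    ObjectProperty.homMk (incl X0 {w : AlgSp.Points X0 | AlgSp.HasAtMor Qlqf f0 w} ≫ f0)
  have hrep : AlgSp.Representable fZ.hom := Groth.Agent.S10260.result fZ hqfZ hsepZ
  obtain ⟨Zs, gZ, c, sqc⟩ := hrep (𝟙 ((AlgSp.yon S).obj Y0o))
  haveI : IsIso c := sqc.isIso_fst_of_isIso
  have hce : AlgSp.RepWith @Etale c := Groth.Agent.Lib.Helper15Descent.repWith_etale_of_isIso c
  have hcomm : (c ≫ incl X0 {w : AlgSp.Points X0 | AlgSp.HasAtMor Qlqf f0 w}) ≫ f0 =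
      (AlgSp.yon S).map gZ := by
    rw [Category.assoc]
    have := sqc.w
    rw [Category.comp_id] at this
    exact this
  have hprops := hqfZ c (𝟙 _) gZ hce (AlgSp.repWith_id @Etale Y0o)
    (by rw [Category.comp_id]; exact sqc.w.trans (Category.comp_id _))
  have hsepg : AlgSp.IsSeparatedMor ((AlgSp.yon S).map gZ) := by
    rw [← hcomm, Category.assoc]
    exact Groth.Agent.Lib.Helper12.Proper.isSeparatedMor_comp _ _
      (Groth.Agent.Lib.Helper12.Proper.isSeparatedMor_of_mono c) hsepZ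
  refine ⟨Zs, c ≫ incl X0 _, gZ, ?_, hcomm, (AlgSp.isSeparatedMor_yon_map_iff gZ).1 hsepg,
    hprops.1, hprops.2, ?_⟩
  · exact MorphismProperty.RespectsIso.precomp (P := AlgSp.RepWith @IsOpenImmersion) c _ hincl
  · intro w hw
    have hmem : w ∈ Set.range
        (AlgSp.Points.map (incl X0 {w : AlgSp.Points X0 | AlgSp.HasAtMor Qlqf f0 w})) := by
      rw [range_map_incl]; exact hw
    obtain ⟨z, rfl⟩ := hmem
    refine ⟨AlgSp.Points.toScheme Zs (AlgSp.Points.map (inv c) z), ?_⟩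
    rw [AlgSp.Points.ofPt_eq_map_ofScheme, AlgSp.Points.ofScheme_toScheme,
      ← AlgSp.Points.map_comp, IsIso.inv_hom_id_assoc]

/-- over a decent target, the base change of a morphism to a quasi-compact étale chart of the
target has finite fibres over the source on points. -/
theorem finite_fibre_of_decent {X Y : AlgSp.Space S} (f : X ⟶ Y) (hY : AlgSp.IsDecent Y.obj)
    {Y0o : Over S} [CompactSpace ↥Y0o.left] (b0 : (AlgSp.yon S).obj Y0o ⟶ Y.obj)
    (hb0 : AlgSp.RepWith @Etale b0) {X0 : AlgSp.Sp S} (prX0 : X0 ⟶ X.obj)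
    (f0 : X0 ⟶ (AlgSp.yon S).obj Y0o) (sq0 : IsPullback prX0 f0 f.hom b0)
    (x : AlgSp.Points X.obj) : {w : AlgSp.Points X0 | AlgSp.Points.map prX0 w = x}.Finite := by
  induction x using AlgSp.Points.ind with | h qx => ?_
  obtain ⟨p, hp, hm, hq⟩ := hY (AlgSp.Points.map f.hom (AlgSp.Points.mk qx))
  haveI := hm
  have hq' : AlgSp.Points.mk p = AlgSp.Points.mk (qx.map f.hom) := by rw [hp]; rfl
  obtain ⟨c, hc, -⟩ := Groth.Agent.S10215.result Y p (qx.map f.hom) hq'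
  haveI : IsAffine (qx.map f.hom).pt.left :=
    (inferInstance : IsAffine (Spec (CommRingCat.of qx.K)))
  haveI : IsAffine p.pt.left := (inferInstance : IsAffine (Spec (CommRingCat.of p.K)))
  have hqq : AlgSp.RepWith @QuasiCompact (qx.map f.hom).toHom := by
    rw [← hc]
    exact (AlgSp.repWith_isMultiplicative (S := S) @QuasiCompact).comp_mem _ _
      ((AlgSp.repWith_yon_map_iff @QuasiCompact c).2 inferInstance) hq
  obtain ⟨E, t, pr', sqE⟩ := hqq.1 b0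
  obtain ⟨pr, rfl⟩ := (AlgSp.yon S).map_surjective pr'
  haveI : QuasiCompact t.left := hqq.2 _ _ t sqE
  haveI : Etale pr.left := hb0.2 _ _ pr sqE.flip
  haveI : CompactSpace ↥E.left := QuasiCompact.compactSpace_of_compactSpace t.left
  haveI : LocallyQuasiFinite pr.left := Groth.Agent.S10265.locallyQuasiFinite_of_unramified _
  haveI : QuasiSeparatedSpace ↥(qx.map f.hom).pt.left :=
    (inferInstance : QuasiSeparatedSpace ↥(Spec (CommRingCat.of qx.K)))
  haveI : QuasiCompact pr.left := quasiCompact_of_compactSpace _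
  have hfinE : (Set.univ : Set ↥E.left).Finite := by
    have := pr.left.finite_preimage_singleton
      ((⊥ : PrimeSpectrum qx.K) : ↥(qx.map f.hom).pt.left)
    refine this.subset (fun y _ => ?_)
    exact (inferInstance : Subsingleton (PrimeSpectrum qx.K)).elim _ _
  have htm : (qx.map f.hom).toHom = qx.toHom ≫ f.hom := AlgSp.FieldPt.toHom_map f.hom qx
  obtain ⟨pr₀, hpr₀⟩ : ∃ pr₀ : E ⟶ qx.pt, pr₀ = pr := ⟨pr, rfl⟩
  have sqE' : IsPullback ((AlgSp.yon S).map pr₀) ((AlgSp.yon S).map t) (qx.toHom ≫ f.hom) b0 := by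
    have h := sqE
    rw [htm] at h
    rw [hpr₀]
    exact h
  have hεw : ((AlgSp.yon S).map pr₀ ≫ qx.toHom) ≫ f.hom = (AlgSp.yon S).map t ≫ b0 := by
    rw [Category.assoc]; exact sqE'.w
  obtain ⟨ε, hε1, hε2⟩ : ∃ ε : (AlgSp.yon S).obj E ⟶ X0,
      ε ≫ prX0 = (AlgSp.yon S).map pr₀ ≫ qx.toHom ∧ ε ≫ f0 = (AlgSp.yon S).map t :=
    ⟨sq0.lift _ _ hεw, sq0.lift_fst _ _ hεw, sq0.lift_snd _ _ hεw⟩
  have sqε : IsPullback ε ((AlgSp.yon S).map pr₀) prX0 qx.toHom := by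
    refine IsPullback.of_right ?_ hε1 sq0.flip
    rw [hε2]
    exact sqE'.flip
  refine (hfinE.image (fun e => AlgSp.Points.ofPt ε e)).subset ?_
  intro w hw
  have e : AlgSp.Points.map prX0 w = AlgSp.Points.map qx.toHom
      (AlgSp.Points.ofScheme qx.pt ((⊥ : PrimeSpectrum qx.K) : ↥qx.pt.left)) := by
    rw [hw, ← AlgSp.Points.ofPt_eq_map_ofScheme, AlgSp.Points.ofPt_toHom]
  obtain ⟨r, hr1, -⟩ := Groth.Agent.S10175.exists_point_of_isPullback sqε w _ e
  refine ⟨AlgSp.Points.toScheme E r, trivial, ?_⟩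
  show AlgSp.Points.ofPt ε (AlgSp.Points.toScheme E r) = w
  rw [AlgSp.Points.ofPt_eq_map_ofScheme, AlgSp.Points.ofScheme_toScheme, hr1]

theorem ofPt_yon_map {T T' : Over S} (φ : T ⟶ T') (t : ↥T.left) :
    AlgSp.Points.ofPt ((AlgSp.yon S).map φ) t = AlgSp.Points.ofScheme T' (φ.left t) := by
  rw [← Category.comp_id ((AlgSp.yon S).map φ), Groth.Agent.S10176.ofPt_map_comp]

/-- for a quasi-compact morphism, the base change to an affine étale chart of the target has only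
finitely many points over a given point of the chart at which it is quasi-finite. -/
theorem finite_of_quasiCompact {X Y : AlgSp.Space S} (f : X ⟶ Y)
    (hf1 : AlgSp.LocP @LocallyOfFiniteType f.hom) (hqc : AlgSp.IsQuasiCompactMor f.hom)
    {Y0o : Over S} (hY0aff : IsAffine Y0o.left) (b0 : (AlgSp.yon S).obj Y0o ⟶ Y.obj)
    {X0 : AlgSp.Sp S} (prX0 : X0 ⟶ X.obj) (f0 : X0 ⟶ (AlgSp.yon S).obj Y0o)
    (sq0 : IsPullback prX0 f0 f.hom b0) (y0 : ↥Y0o.left) :
    {w : AlgSp.Points X0 | AlgSp.Points.map f0 w = AlgSp.Points.ofScheme Y0o y0 ∧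
      AlgSp.HasAtMor Qlqf f0 w}.Finite := by
  haveI := hY0aff
  have hY0 : AlgSp.IsAlgSpace ((AlgSp.yon S).obj Y0o) := AlgSp.IsAlgSpace.yon_obj Y0o
  have hlft0 : AlgSp.LocP @LocallyOfFiniteType f0 :=
    Groth.Agent.Lib.Helper12.Proper.locP_lft_baseChange X.property Y.property hY0 sq0 hf1
  obtain ⟨A, a, hae, has, hAc⟩ :=
    hqc hY0 (Groth.Agent.S9913.isQuasiCompactSp_yon_of_compact Y0o) b0 prX0 f0 sq0
  haveI : CompactSpace ↥A.left := hAc
  obtain ⟨h, hh⟩ := (AlgSp.yon S).map_surjective (a ≫ f0)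
  have hcomm : a ≫ f0 = (AlgSp.yon S).map h ≫ 𝟙 _ := by rw [hh, Category.comp_id]
  haveI : LocallyOfFiniteType h.left :=
    hlft0 a (𝟙 _) h hae (AlgSp.repWith_id @Etale Y0o) hcomm
  haveI : QuasiCompact h.left := quasiCompact_of_compactSpace _
  refine ((finite_quasiFiniteAt_fibre h.left y0).image (AlgSp.Points.ofPt a)).subset ?_
  rintro w ⟨hw1, hw2⟩
  obtain ⟨a0, rfl⟩ := Groth.Agent.S10177.surjective_ofPt a has w
  refine ⟨a0, ⟨?_, ?_⟩, rfl⟩
  · apply (AlgSp.Points.schemeEquiv Y0o).injective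
    show AlgSp.Points.ofScheme Y0o (h.left a0) = AlgSp.Points.ofScheme Y0o y0
    rw [← hw1, AlgSp.Points.map_ofPt, ← hh, ofPt_yon_map]
  · obtain ⟨W, ha0W, hW1, -⟩ := (hasAtMor_iff_of_diagram_on etSqInvOn_qlqf f0 hlft0 a (𝟙 _) h hae
      (AlgSp.repWith_id @Etale Y0o) hcomm a0).1 hw2
    haveI := hW1
    have h1 := (W.ι ≫ h.left).quasiFiniteAt ⟨a0, ha0W⟩
    exact Scheme.Hom.quasiFiniteAt_comp_iff_of_isOpenImmersion.1 h1

open Classical in
/-- Assembly: given finiteness of the set of points over `(y0, xs)` on affine étale charts of the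
target, étale localization splits off the finite clopen piece through `xs`. -/
theorem exists_split_multi {X Y : AlgSp.Space S} (f : X ⟶ Y) (y : AlgSp.Points Y.obj)
    (xs : Finset (AlgSp.Points X.obj))
    (hf1 : AlgSp.LocP @LocallyOfFiniteType f.hom) (hf2 : AlgSp.IsSeparatedMor f.hom)
    (hf3 : ∀ x ∈ xs, AlgSp.HasAtMor Qlqf f.hom x)
    (hfin : ∀ (Y0o : Over S) (b0 : (AlgSp.yon S).obj Y0o ⟶ Y.obj), IsAffine Y0o.left →
      AlgSp.RepWith @Etale b0 → ∀ (X0 : AlgSp.Sp S) (prX0 : X0 ⟶ X.obj)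
        (f0 : X0 ⟶ (AlgSp.yon S).obj Y0o), IsPullback prX0 f0 f.hom b0 → ∀ y0 : ↥Y0o.left,
        AlgSp.Points.ofPt b0 y0 = y →
        {w : AlgSp.Points X0 | AlgSp.Points.map f0 w = AlgSp.Points.ofScheme Y0o y0 ∧
          AlgSp.Points.map prX0 w ∈ xs}.Finite) :
    ∃ (U : AlgSp.Space S) (a : U ⟶ Y) (u : AlgSp.Points U.obj), AlgSp.IsEtaleMor a.hom ∧
      AlgSp.Points.map a.hom u = y ∧
      ∀ (P : AlgSp.Space S) (prX : P ⟶ X) (prU : P ⟶ U),
        IsPullback prX.hom prU.hom f.hom a.hom →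
        ∃ (V : AlgSp.Space S) (jV : V ⟶ P), AlgSp.RepWith @IsOpenImmersion jV.hom ∧
          AlgSp.RepWith @IsClosedImmersion jV.hom ∧ AlgSp.IsFiniteMor (jV ≫ prU).hom ∧
          (∀ v : AlgSp.Points V.obj, AlgSp.Points.map (jV ≫ prU).hom v = u →
            AlgSp.Points.map (jV ≫ prX).hom v ∈ xs) ∧
          ∀ w : AlgSp.Points P.obj, w ∉ Set.range (AlgSp.Points.map jV.hom) →
            AlgSp.Points.map prU.hom w = u → AlgSp.Points.map prX.hom w ∉ xs := by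
  obtain ⟨Y0o, b0, y0, hY0aff, hb0, hy0⟩ := Groth.Agent.R2.H46.FiniteSpec.exists_affine_chart Y y
  have sq0 : IsPullback (pullback.fst f.hom b0) (pullback.snd f.hom b0) f.hom b0 :=
    IsPullback.of_hasPullback f.hom b0
  obtain ⟨X0, prX0, f0, sq0⟩ : ∃ (X0 : AlgSp.Sp S) (prX0 : X0 ⟶ X.obj)
      (f0 : X0 ⟶ (AlgSp.yon S).obj Y0o), IsPullback prX0 f0 f.hom b0 := ⟨_, _, _, sq0⟩
  have hY0 : AlgSp.IsAlgSpace ((AlgSp.yon S).obj Y0o) := AlgSp.IsAlgSpace.yon_obj Y0o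
  have hX0 : AlgSp.IsAlgSpace X0 :=
    Groth.Agent.S9874.isAlgSpace_of_isPullback Y.property.diag X.property hY0 sq0
  have hlft0 : AlgSp.LocP @LocallyOfFiniteType f0 :=
    Groth.Agent.Lib.Helper12.Proper.locP_lft_baseChange X.property Y.property hY0 sq0 hf1
  have hsep0 : AlgSp.IsSeparatedMor f0 :=
    Groth.Agent.Lib.Helper12.Proper.isSeparatedMor_baseChange sq0 hf2
  obtain ⟨Zs, jZ, gZ, hjZ, hjZf, hgsep, hglqf, hglft, hZpts⟩ :=
    exists_scheme_lqfLocus hX0 f0 hlft0 hsep0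
  have hT0 := hfin Y0o b0 hY0aff hb0 X0 prX0 f0 sq0 y0 hy0
  have hT0qf : ∀ w : AlgSp.Points X0, AlgSp.Points.map prX0 w ∈ xs → AlgSp.HasAtMor Qlqf f0 w :=
    fun w hw => (bcInv_qlqf X.property Y.property hY0 sq0 hf1 w).2 (hf3 _ hw)
  haveI : Mono jZ := Groth.Agent.Lib.Helper12.LargestOpen.mono_of_open jZ hjZ
  have hinj : Function.Injective (AlgSp.Points.ofPt jZ) := by
    intro a b hab
    rw [AlgSp.Points.ofPt_eq_map_ofScheme, AlgSp.Points.ofPt_eq_map_ofScheme jZ] at hab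
    exact (AlgSp.Points.schemeEquiv Zs).injective
      (Groth.Agent.R2.H25.MonoDiscrete.injective_map_of_mono jZ hab)
  have hTs : (AlgSp.Points.ofPt jZ ⁻¹' {w : AlgSp.Points X0 |
      AlgSp.Points.map f0 w = AlgSp.Points.ofScheme Y0o y0 ∧
        AlgSp.Points.map prX0 w ∈ xs}).Finite := hT0.preimage hinj.injOn
  let ts : Finset ↥Zs.left := hTs.toFinset
  have hts_mem : ∀ t : ↥Zs.left, t ∈ ts ↔
      (AlgSp.Points.map f0 (AlgSp.Points.ofPt jZ t) = AlgSp.Points.ofScheme Y0o y0 ∧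
        AlgSp.Points.map prX0 (AlgSp.Points.ofPt jZ t) ∈ xs) := by
    intro t
    rw [Set.Finite.mem_toFinset]
    rfl
  haveI := hgsep
  haveI := hglft
  have hts : ∀ t ∈ ts, gZ.left t = y0 ∧
      ∃ O : Zs.left.Opens, t ∈ O ∧ LocallyQuasiFinite (O.ι ≫ gZ.left) := by
    intro t ht
    have hw1 := ((hts_mem t).1 ht).1
    refine ⟨?_, ⊤, trivial, by haveI := hglqf; infer_instance⟩
    apply (AlgSp.Points.schemeEquiv Y0o).injective
    show AlgSp.Points.ofScheme Y0o (gZ.left t) = AlgSp.Points.ofScheme Y0o y0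
    rw [← hw1, AlgSp.Points.map_ofPt, hjZf, ofPt_yon_map]
  obtain ⟨U, φ, u, hφ, hφu, -, H⟩ := exists_etale_split_multi gZ.left y0 ts hts
  let Uo : Over S := Over.mk (φ ≫ Y0o.hom)
  let φo : Uo ⟶ Y0o := Over.homMk φ rfl
  have sqZ : IsPullback (pullback.fst gZ φo) (pullback.snd gZ φo) gZ φo :=
    IsPullback.of_hasPullback gZ φo
  obtain ⟨Pz, p1, p2, sqZ⟩ : ∃ (Pz : Over S) (p1 : Pz ⟶ Zs) (p2 : Pz ⟶ Uo),
      IsPullback p1 p2 gZ φo := ⟨_, _, _, sqZ⟩
  have sqZs : IsPullback p1.left p2.left gZ.left φ := sqZ.map (Over.forget S)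
  obtain ⟨V, hVc, hVf, hVp⟩ := H p1.left p2.left sqZs
  let Vo : Over S := Over.mk (V.ι ≫ Pz.hom)
  let ιV : Vo ⟶ Pz := Over.homMk V.ι rfl
  have hφe : AlgSp.RepWith @Etale ((AlgSp.yon S).map φo) :=
    (AlgSp.repWith_yon_map_iff @Etale φo).2 hφ
  have hae : AlgSp.RepWith @Etale ((AlgSp.yon S).map φo ≫ b0) :=
    (AlgSp.repWith_isMultiplicative (S := S) @Etale).comp_mem _ _ hφe hb0
  let Usp : AlgSp.Space S := ⟨(AlgSp.yon S).obj Uo, AlgSp.IsAlgSpace.yon_obj Uo⟩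
  let a : Usp ⟶ Y := ObjectProperty.homMk ((AlgSp.yon S).map φo ≫ b0)
  have haE : AlgSp.IsEtaleMor a.hom := fun T ξ hξ =>
    (AlgSp.repWith_isMultiplicative (S := S) @Etale).comp_mem _ _ hξ hae
  refine ⟨Usp, a, AlgSp.Points.ofScheme Uo u, haE, ?_, ?_⟩
  · show AlgSp.Points.map ((AlgSp.yon S).map φo ≫ b0) (AlgSp.Points.ofScheme Uo u) = y
    rw [← AlgSp.Points.ofPt_eq_map_ofScheme, Groth.Agent.S10176.ofPt_map_comp, ← hy0]
    congr 1
  · intro P prX prU sq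
    have sq' : IsPullback prX.hom prU.hom f.hom ((AlgSp.yon S).map φo ≫ b0) := sq
    -- the map to `X0`
    have hκw : prX.hom ≫ f.hom = (prU.hom ≫ (AlgSp.yon S).map φo) ≫ b0 := by
      rw [Category.assoc]; exact sq'.w
    obtain ⟨κ, hκ1, hκ2⟩ : ∃ κ : P.obj ⟶ X0, κ ≫ prX0 = prX.hom ∧
        κ ≫ f0 = prU.hom ≫ (AlgSp.yon S).map φo :=
      ⟨sq0.lift _ _ hκw, sq0.lift_fst _ _ hκw, sq0.lift_snd _ _ hκw⟩
    have sqκ : IsPullback κ prU.hom f0 ((AlgSp.yon S).map φo) :=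
      IsPullback.of_right (by rw [hκ1]; exact sq') hκ2 sq0
    have hψw : ((AlgSp.yon S).map p1 ≫ jZ) ≫ f0 = (AlgSp.yon S).map p2 ≫ (AlgSp.yon S).map φo := by
      rw [Category.assoc, hjZf, ← Functor.map_comp, sqZ.w, Functor.map_comp]
    obtain ⟨ψ, hψ1, hψ2⟩ : ∃ ψ : (AlgSp.yon S).obj Pz ⟶ P.obj,
        ψ ≫ κ = (AlgSp.yon S).map p1 ≫ jZ ∧ ψ ≫ prU.hom = (AlgSp.yon S).map p2 :=
      ⟨sqκ.lift _ _ hψw, sqκ.lift_fst _ _ hψw, sqκ.lift_snd _ _ hψw⟩
    have sqψ : IsPullback ψ ((AlgSp.yon S).map p1) κ jZ := by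
      refine IsPullback.of_right ?_ hψ1 sqκ.flip
      rw [hψ2, hjZf]
      exact (sqZ.map (AlgSp.yon S)).flip
    have hψo : AlgSp.RepWith @IsOpenImmersion ψ :=
      MorphismProperty.of_isPullback (P := AlgSp.RepWith @IsOpenImmersion) sqψ.flip hjZ
    have hjo : AlgSp.RepWith @IsOpenImmersion ((AlgSp.yon S).map ιV ≫ ψ) :=
      (AlgSp.repWith_isMultiplicative (S := S) @IsOpenImmersion).comp_mem _ _
        ((AlgSp.repWith_yon_map_iff @IsOpenImmersion ιV).2 (inferInstance : IsOpenImmersion V.ι))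
        hψo
    let Vsp : AlgSp.Space S := ⟨(AlgSp.yon S).obj Vo, AlgSp.IsAlgSpace.yon_obj Vo⟩
    let jV : Vsp ⟶ P := ObjectProperty.homMk ((AlgSp.yon S).map ιV ≫ ψ)
    have ecomp : (jV ≫ prU).hom = (AlgSp.yon S).map (ιV ≫ p2) := by
      show ((AlgSp.yon S).map ιV ≫ ψ) ≫ prU.hom = _
      rw [Category.assoc, hψ2, ← Functor.map_comp]
    have ecompX : (jV ≫ prX).hom = (AlgSp.yon S).map (ιV ≫ p1) ≫ jZ ≫ prX0 := by
      show ((AlgSp.yon S).map ιV ≫ ψ) ≫ prX.hom = _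
      rw [← hκ1, Category.assoc, ← Category.assoc ψ, hψ1, Functor.map_comp, Category.assoc,
        Category.assoc]
    haveI : IsFinite (ιV ≫ p2).left := hVf
    have hfinV : AlgSp.IsFiniteMor (jV ≫ prU).hom := by
      rw [ecomp]
      exact Groth.Agent.R2.H93.SplitQf.isFiniteMor_yon_map (ιV ≫ p2)
    have hsepU : AlgSp.IsSeparatedMor prU.hom :=
      Groth.Agent.Lib.Helper12.Proper.isSeparatedMor_baseChange sq hf2
    have hprop : AlgSp.IsProperMor (jV ≫ prU).hom :=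
      Groth.Agent.R2.H93.FinProps.isProperMor_of_isFiniteMor _ hfinV
    have hUCj : AlgSp.IsUnivClosedMor jV.hom :=
      ((Groth.Agent.S10278.result jV (jV ≫ prU) prU rfl hsepU).1 hprop.2.2).1
    have hUCr : AlgSp.RepWith @UniversallyClosed jV.hom :=
      (Groth.Agent.S9922.result jV hjo.1).2 hUCj
    have hjc : AlgSp.RepWith @IsClosedImmersion jV.hom :=
      ⟨hjo.1, fun T W c' c κ' sqκ' => by
        haveI : IsOpenImmersion κ'.left := hjo.2 c' c κ' sqκ'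
        haveI : UniversallyClosed κ'.left := hUCr.2 c' c κ' sqκ'
        exact Groth.Agent.R2.H93.MonoLft.isClosedImmersion_of_mono_lft_univClosed κ'.left⟩
    refine ⟨Vsp, jV, hjo, hjc, hfinV, ?_, ?_⟩
    · intro v hv
      obtain ⟨v0, rfl⟩ : ∃ v0 : ↥Vo.left, AlgSp.Points.ofScheme Vo v0 = v :=
        ⟨AlgSp.Points.toScheme Vo v, AlgSp.Points.ofScheme_toScheme Vo v⟩
      rw [ecomp, ← AlgSp.Points.ofPt_eq_map_ofScheme, ofPt_yon_map] at hv
      have hv2 : p2.left (V.ι v0) = u := (AlgSp.Points.schemeEquiv Uo).injective hv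
      have hmem : p1.left (V.ι v0) ∈ ts := (hVp (V.ι v0) hv2).1 v0.2
      have hw2 := ((hts_mem _).1 hmem).2
      rw [ecompX, ← AlgSp.Points.ofPt_eq_map_ofScheme, Groth.Agent.S10176.ofPt_map_comp,
        ← AlgSp.Points.map_ofPt]
      exact hw2
    · intro w hw hwu hwx
      apply hw
      have hw0f : AlgSp.Points.map f0 (AlgSp.Points.map κ w) = AlgSp.Points.ofScheme Y0o y0 := by
        rw [← AlgSp.Points.map_comp, hκ2, AlgSp.Points.map_comp, hwu,
          ← AlgSp.Points.ofPt_eq_map_ofScheme, ofPt_yon_map]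
        congr 1
      have hw0x : AlgSp.Points.map prX0 (AlgSp.Points.map κ w) ∈ xs := by
        rw [← AlgSp.Points.map_comp, hκ1]; exact hwx
      obtain ⟨z, hz⟩ := hZpts _ (hT0qf _ hw0x)
      have hzts : z ∈ ts := (hts_mem z).2 (by rw [hz]; exact ⟨hw0f, hw0x⟩)
      obtain ⟨r, hr1, hr2⟩ := Groth.Agent.S10175.exists_point_of_isPullback sqψ w
        (AlgSp.Points.ofScheme Zs z)
        (by rw [← AlgSp.Points.ofPt_eq_map_ofScheme, hz])
      obtain ⟨r0, rfl⟩ : ∃ r0 : ↥Pz.left, AlgSp.Points.ofScheme Pz r0 = r :=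
        ⟨AlgSp.Points.toScheme Pz r, AlgSp.Points.ofScheme_toScheme Pz r⟩
      rw [← AlgSp.Points.ofPt_eq_map_ofScheme, ofPt_yon_map] at hr2
      have hr2' : p1.left r0 = z :=
        (AlgSp.Points.schemeEquiv Zs).injective hr2
      have hr3 : p2.left r0 = u := by
        apply (AlgSp.Points.schemeEquiv Uo).injective
        show AlgSp.Points.ofScheme Uo (p2.left r0) = AlgSp.Points.ofScheme Uo u
        rw [← hwu, ← hr1, ← AlgSp.Points.map_comp, hψ2, ← AlgSp.Points.ofPt_eq_map_ofScheme,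
          ofPt_yon_map]
      have hr0V : r0 ∈ V := (hVp r0 hr3).2 (by rw [hr2']; exact hzts)
      refine ⟨AlgSp.Points.ofScheme Vo ⟨r0, hr0V⟩, ?_⟩
      show AlgSp.Points.map ((AlgSp.yon S).map ιV ≫ ψ) (AlgSp.Points.ofScheme Vo ⟨r0, hr0V⟩) = w
      rw [← AlgSp.Points.ofPt_eq_map_ofScheme, Groth.Agent.S10176.ofPt_map_comp, ← hr1,
        ← AlgSp.Points.ofPt_eq_map_ofScheme]
      rfl

end Groth.Agent.R2.H93.SplitMulti
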