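import Mathlib
import Groth.Prelude.Def_AlgSpInf
import Groth.Agent.R2.H93ChartCube
import Groth.Agent.R2.H47ThickTop
import Groth.Agent.R2.H45HasAt
import Groth.Agent.S10176

/-!
# helper93: chart cubes for a base change along a thickening of algebraic spaces

For `X' ⟶ Y' ⟶ B'` and its base change `X ⟶ Y ⟶ B` along a thickening `iB : B ⟶ B'`, through every
point of `X` there is a compatible system of étale scheme charts `U' ⟶ V' ⟶ W'` of `X' ⟶ Y' ⟶ B'`
with `W'` affine, `W = W' ×_{B'} B` a scheme chart of `B`, and `V' ×_{W'} W`, `U' ×_{V'} (V' ×_{W'} W)`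
charts of `Y`, `X`.
-/

set_option autoImplicit false
set_option linter.style.haveILetI false
universe u

namespace Groth.Agent.R2.H93.ThickChart

open AlgebraicGeometry CategoryTheory CategoryTheory.Limits AlgSp Groth.Agent.R2.H45.HasAt

variable {S : Scheme.{u}}

/-- an étale chart through a point can be chosen affine. -/
theorem exists_affine_chart {X : AlgSp.Sp S} (hX : AlgSp.IsAlgSpace X) (x : AlgSp.Points X) :
    ∃ (U : Over S) (a : (AlgSp.yon S).obj U ⟶ X) (u : ↥U.left),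
      IsAffine U.left ∧ AlgSp.RepWith @Etale a ∧ AlgSp.Points.ofPt a u = x := by
  obtain ⟨U0, a0, u0, ha0, -, hu0⟩ := exists_chart hX x
  obtain ⟨_, ⟨O0, hO, rfl⟩, hu0O, -⟩ := U0.left.isBasis_affineOpens.exists_subset_of_mem_open
    (Set.mem_univ u0) isOpen_univ
  obtain ⟨O, rfl⟩ : ∃ O : U0.left.Opens, O = O0 := ⟨O0, rfl⟩
  let U : Over S := Over.mk (O.ι ≫ U0.hom)
  let j : U ⟶ U0 := Over.homMk O.ι rfl
  haveI : IsAffine U.left := hO
  haveI : Etale j.left := by change Etale O.ι; infer_instance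
  refine ⟨U, (AlgSp.yon S).map j ≫ a0, (⟨u0, hu0O⟩ : ↥O), hO, ?_, ?_⟩
  · exact (AlgSp.RepWith @Etale).comp_mem _ _ ((AlgSp.repWith_yon_map_iff _ _).2 inferInstance) ha0
  · rw [Groth.Agent.S10176.ofPt_map_comp]
    exact hu0

theorem exists_thick_chart {X X' Y Y' B B' : AlgSp.Space S} (iX : X ⟶ X') (iY : Y ⟶ Y')
    (iB : B ⟶ B') (f : X ⟶ Y) (f' : X' ⟶ Y') (g : Y ⟶ B) (g' : Y' ⟶ B')
    (hcX : IsPullback iX.hom (f ≫ g).hom (f' ≫ g').hom iB.hom)
    (hcY : IsPullback iY.hom g.hom g'.hom iB.hom) (w : iX ≫ f' = f ≫ iY)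
    (hB : AlgSp.IsThickMor iB.hom) (x : AlgSp.Points X.obj) :
    ∃ (U' V' W' W : Over S) (a' : (AlgSp.yon S).obj U' ⟶ X'.obj)
      (b' : (AlgSp.yon S).obj V' ⟶ Y'.obj) (c' : (AlgSp.yon S).obj W' ⟶ B'.obj)
      (c : (AlgSp.yon S).obj W ⟶ B.obj) (k1 : U' ⟶ V') (k2 : V' ⟶ W') (κ : W ⟶ W')
      (bY : (AlgSp.yon S).obj (pullback k2 κ) ⟶ Y.obj)
      (aX : (AlgSp.yon S).obj (pullback k1 (pullback.fst k2 κ)) ⟶ X.obj)
      (u : ↥(pullback k1 (pullback.fst k2 κ)).left),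
      IsAffine W'.left ∧ AlgSp.RepWith @Etale a' ∧ AlgSp.RepWith @Etale b' ∧
      AlgSp.RepWith @Etale c' ∧ AlgSp.RepWith @Etale c ∧ AlgSp.RepWith @Etale bY ∧
      AlgSp.RepWith @Etale aX ∧
      IsPullback c ((AlgSp.yon S).map κ) iB.hom c' ∧
      a' ≫ f'.hom = (AlgSp.yon S).map k1 ≫ b' ∧ b' ≫ g'.hom = (AlgSp.yon S).map k2 ≫ c' ∧
      bY ≫ g.hom = (AlgSp.yon S).map (pullback.snd k2 κ) ≫ c ∧
      bY ≫ iY.hom = (AlgSp.yon S).map (pullback.fst k2 κ) ≫ b' ∧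
      aX ≫ f.hom = (AlgSp.yon S).map (pullback.snd k1 (pullback.fst k2 κ)) ≫ bY ∧
      aX ≫ iX.hom = (AlgSp.yon S).map (pullback.fst k1 (pullback.fst k2 κ)) ≫ a' ∧
      AlgSp.Points.ofPt aX u = x := by
  have hw : iX.hom ≫ f'.hom = f.hom ≫ iY.hom := congrArg (fun φ => φ.hom) w
  have sqL : IsPullback iX.hom f.hom f'.hom iY.hom := IsPullback.of_bot hcX hw hcY
  -- an affine chart of `B'` through the image point
  obtain ⟨W', c', w', hW', hc', hw'⟩ := exists_affine_chart B'.property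
    (AlgSp.Points.map iB.hom (AlgSp.Points.map g.hom (AlgSp.Points.map f.hom x)))
  -- its pullback to `B`
  obtain ⟨W, κ, c, sqW⟩ := hB.1 c'
  have hc : AlgSp.RepWith @Etale c :=
    MorphismProperty.of_isPullback (P := AlgSp.RepWith @Etale) sqW.flip hc'
  have hκ : AlgSp.thick κ.left := hB.2 c' c κ sqW
  have hκhomeo := Groth.Agent.R2.H47.ThickTop.isHomeomorph_of_thick κ.left hκ
  obtain ⟨w0, hw0⟩ := hκhomeo.bijective.2 w'
  have hiBinj : Function.Injective (AlgSp.Points.map iB.hom) :=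
    (Groth.Agent.R2.H47.ThickTop.isHomeomorph_points_map iB.hom hB).bijective.1
  have hw0' : AlgSp.Points.ofPt c w0 =
      AlgSp.Points.map g.hom (AlgSp.Points.map f.hom x) := by
    apply hiBinj
    rw [AlgSp.Points.map_ofPt, sqW.w, Groth.Agent.S10176.ofPt_map_comp, hw0, hw']
  -- the cube over `Y`
  obtain ⟨V', b', k2, bY, wY, hb', hbY, e1, e2, e3, hwY, hwY'⟩ :=
    Groth.Agent.R2.H93.ChartCube.exists_baseChange_diagram_over Y'.property B'.property hcY
      c' c κ hc' hc sqW.w (AlgSp.Points.map f.hom x) w0 hw0'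
  -- the cube over `X`
  obtain ⟨U', a', k1, aX, u, ha', haX, e4, e5, e6, hu, hu'⟩ :=
    Groth.Agent.R2.H93.ChartCube.exists_baseChange_diagram_over X'.property Y'.property sqL
      b' bY (pullback.fst k2 κ) hb' hbY e3 x wY hwY
  exact ⟨U', V', W', W, a', b', c', c, k1, k2, κ, bY, aX, u, hW', ha', hb', hc', hc, hbY, haX,
    sqW, e4, e1, e2, e3, e5, e6, hu⟩

end Groth.Agent.R2.H93.ThickChart
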