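import Mathlib
import Groth.Agent.R2.H93ThickChart
import Groth.Agent.Lib.Helper12LocPNbhd
import Groth.Agent.Lib.Helper12LocPCases

/-!
# helper93: deforming étale-local properties along a base change by a thickening (algebraic spaces)

`locP_of_thick_chart`: for `X' ⟶ Y' ⟶ B'` and its base change `X ⟶ Y ⟶ B` along a thickening
`iB : B ⟶ B'`, and a property `P` of morphisms of schemes which is étale local on the
source-and-target (`Good P`): if on every chart cube `P (U ⟶ V)` implies `P (U' ⟶ V')`, then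
`LocP P f` implies `LocP P f'`.
-/

set_option autoImplicit false
set_option linter.style.haveILetI false
universe u

namespace Groth.Agent.R2.H93.ThickLocP

open AlgebraicGeometry CategoryTheory CategoryTheory.Limits AlgSp
  Groth.Agent.Lib.Helper12.LocPCases

variable {S : Scheme.{u}}

/-- the squares of schemes underlying a chart cube. -/
theorem scheme_squares {U' V' W' W : Over S} (k1 : U' ⟶ V') (k2 : V' ⟶ W') (κ : W ⟶ W') :
    IsPullback (pullback.fst k1 (pullback.fst k2 κ)).left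
      ((pullback.snd k1 (pullback.fst k2 κ)).left ≫ (pullback.snd k2 κ).left)
      (k1.left ≫ k2.left) κ.left ∧
    IsPullback (pullback.fst k2 κ).left (pullback.snd k2 κ).left k2.left κ.left ∧
    IsPullback (pullback.fst k1 (pullback.fst k2 κ)).left
      (pullback.snd k1 (pullback.fst k2 κ)).left k1.left (pullback.fst k2 κ).left := by
  have hcYs : IsPullback (pullback.fst k2 κ).left (pullback.snd k2 κ).left k2.left κ.left :=
    (IsPullback.of_hasPullback k2 κ).map (Over.forget S)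
  have sqLs : IsPullback (pullback.fst k1 (pullback.fst k2 κ)).left
      (pullback.snd k1 (pullback.fst k2 κ)).left k1.left (pullback.fst k2 κ).left :=
    (IsPullback.of_hasPullback k1 (pullback.fst k2 κ)).map (Over.forget S)
  exact ⟨sqLs.paste_vert hcYs, hcYs, sqLs⟩

theorem surjective_map_of_thick {X X' B B' : AlgSp.Space S} (iX : X ⟶ X') (iB : B ⟶ B')
    (p : X ⟶ B) (p' : X' ⟶ B') (hcX : IsPullback iX.hom p.hom p'.hom iB.hom)
    (hB : AlgSp.IsThickMor iB.hom) : Function.Surjective (AlgSp.Points.map iX.hom) :=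
  (Groth.Agent.R2.H47.ThickTop.isHomeomorph_points_map iX.hom
    (Groth.Agent.R2.H47.ThickTop.isThickMor_of_isPullback hcX.flip hB)).bijective.2

theorem locP_of_thick_chart {P : MorphismProperty Scheme.{u}} (hP : Good P)
    [IsZariskiLocalAtSource P] {X X' Y Y' B B' : AlgSp.Space S} (iX : X ⟶ X') (iY : Y ⟶ Y')
    (iB : B ⟶ B') (f : X ⟶ Y) (f' : X' ⟶ Y') (g : Y ⟶ B) (g' : Y' ⟶ B')
    (hcX : IsPullback iX.hom (f ≫ g).hom (f' ≫ g').hom iB.hom)
    (hcY : IsPullback iY.hom g.hom g'.hom iB.hom) (w : iX ≫ f' = f ≫ iY)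
    (hB : AlgSp.IsThickMor iB.hom)
    (H : ∀ (U' V' W' W : Over S) (a' : (AlgSp.yon S).obj U' ⟶ X'.obj)
      (b' : (AlgSp.yon S).obj V' ⟶ Y'.obj) (c' : (AlgSp.yon S).obj W' ⟶ B'.obj)
      (c : (AlgSp.yon S).obj W ⟶ B.obj) (k1 : U' ⟶ V') (k2 : V' ⟶ W') (κ : W ⟶ W'),
      IsAffine W'.left → AlgSp.RepWith @Etale a' → AlgSp.RepWith @Etale b' →
      AlgSp.RepWith @Etale c' → IsPullback c ((AlgSp.yon S).map κ) iB.hom c' →
      a' ≫ f'.hom = (AlgSp.yon S).map k1 ≫ b' → b' ≫ g'.hom = (AlgSp.yon S).map k2 ≫ c' →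
      P (pullback.snd k1 (pullback.fst k2 κ)).left → P k1.left)
    (hf : AlgSp.LocP P f.hom) : AlgSp.LocP P f'.hom := by
  haveI := hP.comp
  rw [Groth.Agent.Lib.Helper12.LocPNbhd.locP_iff_forall_hasAtMor hP X'.property Y'.property]
  intro x'
  obtain ⟨x, rfl⟩ := surjective_map_of_thick iX iB (f ≫ g) (f' ≫ g') hcX hB x'
  obtain ⟨U', V', W', W, a', b', c', c, k1, k2, κ, bY, aX, u, hW', ha', hb', hc', hc, hbY, haX,
    sqW, e1, e2, e3, e4, e5, e6, hu⟩ :=
    Groth.Agent.R2.H93.ThickChart.exists_thick_chart iX iY iB f f' g g' hcX hcY w hB x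
  have hPk1 : P k1.left :=
    H U' V' W' W a' b' c' c k1 k2 κ hW' ha' hb' hc' sqW e1 e2 (hf aX bY _ haX hbY e5)
  have hpt : AlgSp.Points.ofPt a' ((pullback.fst k1 (pullback.fst k2 κ)).left u) =
      AlgSp.Points.map iX.hom x := by
    rw [← Groth.Agent.S10176.ofPt_map_comp, ← e6, ← AlgSp.Points.map_ofPt, hu]
  exact ⟨U', V', a', b', k1, _, ha', hb', e1, hpt, ⊤, trivial,
    P.comp_mem _ _ (hP.hEt _ inferInstance) hPk1⟩

end Groth.Agent.R2.H93.ThickLocP
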