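import Mathlib

/-!
# Transcendence degree of a compositum (helper93)

* `trdeg_le_of_generated`: if a field `F` is generated (as a field) by the images of `K` and `L`,
  which agree on `k`, then `trdeg_L F ≤ trdeg_k K`.
-/

set_option autoImplicit false
universe u

namespace Groth.Agent.R2.H93.TrdegCompositum

open Cardinal

theorem trdeg_le_of_generated {k K L F : Type u} [Field k] [Field K] [Field L] [Field F]
    (a : k →+* K) (b : k →+* L) (i : K →+* F) (j : L →+* F) (hcomm : i.comp a = j.comp b)
    (hgen : ∀ E : Subfield F, (∀ x, i x ∈ E) → (∀ y, j y ∈ E) → E = ⊤) :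
    @Algebra.trdeg L F _ _ j.toAlgebra ≤ @Algebra.trdeg k K _ _ a.toAlgebra := by
  let _ := a.toAlgebra
  let _ := j.toAlgebra
  obtain ⟨ι, x, hx⟩ := exists_isTranscendenceBasis' k K
  have hcard : #ι = Algebra.trdeg k K := hx.cardinalMk_eq_trdeg
  have halg : Algebra.IsAlgebraic (Algebra.adjoin k (Set.range x)) K := hx.isAlgebraic
  set S : Set F := Set.range (fun t => i (x t)) with hS
  -- the ring hom between the adjoins
  have hmem : ∀ z : Algebra.adjoin k (Set.range x), i z ∈ Algebra.adjoin L S := by
    rintro ⟨z, hz⟩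
    induction hz using Algebra.adjoin_induction with
    | mem y hy =>
      obtain ⟨t, rfl⟩ := hy
      exact Algebra.subset_adjoin ⟨t, rfl⟩
    | algebraMap c =>
      have : i (algebraMap k K c) = algebraMap L F (b c) := by
        change (i.comp a) c = j (b c)
        rw [hcomm]; rfl
      change i (algebraMap k K c) ∈ _
      rw [this]
      exact Subalgebra.algebraMap_mem _ _
    | add y z _ _ hy hz =>
      change i (y + z) ∈ _
      rw [map_add]; exact Subalgebra.add_mem _ hy hz
    | mul y z _ _ hy hz =>
      change i (y * z) ∈ _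
      rw [map_mul]; exact Subalgebra.mul_mem _ hy hz
  let f : Algebra.adjoin k (Set.range x) →+* Algebra.adjoin L S :=
    (i.comp (Algebra.adjoin k (Set.range x)).val.toRingHom).codRestrict
      (Algebra.adjoin L S).toSubring hmem
  have hf : Function.Injective f := by
    intro y z hyz
    have := congrArg Subtype.val hyz
    exact Subtype.ext (i.injective this)
  have hfg : (algebraMap (Algebra.adjoin L S) F).comp f =
      i.comp (algebraMap (Algebra.adjoin k (Set.range x)) K) := by
    ext z; rfl
  -- the subfield of algebraic elements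
  let E : Subfield F :=
    { (Subalgebra.algebraicClosure (Algebra.adjoin L S) F).toSubring with
      inv_mem' := fun z hz => IsAlgebraic.inv hz }
  have hE : E = ⊤ := by
    apply hgen
    · intro y
      change IsAlgebraic (Algebra.adjoin L S) (i y)
      exact (halg.isAlgebraic y).ringHom_of_comp_eq f i hf hfg
    · intro y
      change IsAlgebraic (Algebra.adjoin L S) (j y)
      exact isAlgebraic_algebraMap (⟨j y, Subalgebra.algebraMap_mem _ y⟩ : Algebra.adjoin L S)
  have hF : Algebra.IsAlgebraic (Algebra.adjoin L S) F := by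
    constructor
    intro z
    have : z ∈ E := by rw [hE]; trivial
    exact this
  calc Algebra.trdeg L F ≤ #S := Algebra.IsAlgebraic.trdeg_le_cardinalMk L S
    _ ≤ #ι := Cardinal.mk_range_le
    _ = Algebra.trdeg k K := hcard

open TensorProduct in
/-- If `x` is algebraically independent over the field `k` in `K`, then `L[x] → L ⊗[k] K` is
injective. -/
theorem injective_aeval_tmul {k K L : Type u} [Field k] [CommRing K] [CommRing L] [Algebra k K]
    [Algebra k L] {ι : Type*} (x : ι → K) (hx : AlgebraicIndependent k x) :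
    Function.Injective
      (MvPolynomial.aeval (fun t => (1 : L) ⊗ₜ[k] x t) : MvPolynomial ι L →ₐ[L] L ⊗[k] K) := by
  have h1 : (MvPolynomial.aeval (fun t => (1 : L) ⊗ₜ[k] x t) : MvPolynomial ι L →ₐ[L] L ⊗[k] K) =
      (Algebra.TensorProduct.map (AlgHom.id L L) (MvPolynomial.aeval x : MvPolynomial ι k →ₐ[k] K)).comp
        (MvPolynomial.algebraTensorAlgEquiv k L).symm.toAlgHom := by
    apply MvPolynomial.algHom_ext
    intro t
    simp
  rw [h1, AlgHom.coe_comp]
  refine Function.Injective.comp ?_ (MvPolynomial.algebraTensorAlgEquiv k L).symm.injective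
  have : Function.Injective (MvPolynomial.aeval x : MvPolynomial ι k →ₐ[k] K) := hx
  exact Module.Flat.lTensor_preserves_injective_linearMap (M := L)
    (MvPolynomial.aeval x : MvPolynomial ι k →ₐ[k] K).toLinearMap this

open TensorProduct in
/-- Existence of a "generic" prime of a ring `R` receiving `K` and `L` and mapping to `L ⊗[k] K`:
every field-valued point of `R` whose kernel lies in `P` has transcendence degree over `L` at least
`trdeg_k K`. -/
theorem exists_prime_trdeg_le {k K L R : Type u} [Field k] [Field K] [Field L] [CommRing R]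
    (a : k →+* K) (b : k →+* L) (inl : K →+* R) (inr : L →+* R)
    (hρ : letI := a.toAlgebra; letI := b.toAlgebra
      ∃ ρ : R →+* L ⊗[k] K, (∀ y, ρ (inl y) = 1 ⊗ₜ y) ∧ (∀ z, ρ (inr z) = z ⊗ₜ 1)) :
    ∃ P : Ideal R, P.IsPrime ∧ ∀ (L' F : Type u) [Field L'] [Field F] (θ : R →+* F)
      (j' : L' →+* F) (e : L →+* L'), Function.Surjective e → j'.comp e = θ.comp inr →
      RingHom.ker θ ≤ P →
      @Algebra.trdeg k K _ _ a.toAlgebra ≤ @Algebra.trdeg L' F _ _ j'.toAlgebra := by
  let _ := a.toAlgebra
  let _ := b.toAlgebra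
  obtain ⟨ρ, hρl, hρr⟩ := hρ
  obtain ⟨ι, x, hx⟩ := exists_isTranscendenceBasis' k K
  have hcard : #ι = Algebra.trdeg k K := hx.cardinalMk_eq_trdeg
  let ψ : MvPolynomial ι L →+* R := MvPolynomial.eval₂Hom inr (fun t => inl (x t))
  have h1 : ρ.comp ψ =
      (MvPolynomial.aeval (fun t => (1 : L) ⊗ₜ[k] x t) : MvPolynomial ι L →ₐ[L] L ⊗[k] K).toRingHom := by
    apply MvPolynomial.ringHom_ext
    · intro z
      simp [ψ, hρr, Algebra.TensorProduct.algebraMap_apply]
    · intro t
      simp [ψ, hρl]
  have hψ : Function.Injective ψ := by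
    have h2 : Function.Injective (ρ.comp ψ) := by
      rw [h1]
      exact injective_aeval_tmul x hx.1
    exact Function.Injective.of_comp (f := ρ) h2
  -- the prime
  have hdisj : Disjoint ((⊥ : Ideal R) : Set R)
      ((nonZeroDivisors (MvPolynomial ι L)).map ψ : Submonoid R) := by
    rw [Set.disjoint_left]
    rintro r hr ⟨q, hq, rfl⟩
    have hr0 : ψ q = 0 := hr
    have : q = 0 := hψ (by rw [hr0, map_zero])
    exact nonZeroDivisors.ne_zero hq this
  obtain ⟨P, hP, _, hPdisj⟩ := Ideal.exists_le_prime_disjoint (⊥ : Ideal R) _ hdisj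
  refine ⟨P, hP, ?_⟩
  intro L' F _ _ θ j' e he hje hker
  let _ := j'.toAlgebra
  rw [← hcard]
  let y : ι → F := fun t => θ (inl (x t))
  have hy : AlgebraicIndependent L' y := by
    rw [algebraicIndependent_iff_injective_aeval, injective_iff_map_eq_zero]
    intro q' hq'
    obtain ⟨q, rfl⟩ := MvPolynomial.map_surjective e he q'
    have h3 : MvPolynomial.aeval y (MvPolynomial.map e q) = θ (ψ q) := by
      have : (MvPolynomial.aeval y : MvPolynomial ι L' →ₐ[L'] F).toRingHom.comp (MvPolynomial.map e) =
          θ.comp ψ := by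
        apply MvPolynomial.ringHom_ext
        · intro z
          have : algebraMap L' F (e z) = θ (inr z) := by
            change (j'.comp e) z = _
            rw [hje]; rfl
          simp [ψ, this]
        · intro t
          simp [ψ, y]
      exact congrArg (fun g => g q) this
    rw [h3] at hq'
    have h4 : ψ q ∈ P := hker hq'
    by_contra hq0
    have hq0' : q ≠ 0 := fun h => hq0 (by rw [h, map_zero])
    have h5 : ψ q ∈ ((nonZeroDivisors (MvPolynomial ι L)).map ψ : Submonoid R) :=
      ⟨q, mem_nonZeroDivisors_of_ne_zero hq0', rfl⟩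
    exact Set.disjoint_left.mp hPdisj h4 h5
  exact hy.cardinalMk_le_trdeg

end Groth.Agent.R2.H93.TrdegCompositum
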