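import Mathlib
import Groth.Agent.Lib.Helper20ResFld
import Groth.Agent.R2.H93TrdegCompositum

/-!
# Transcendence degree of residue fields of points of a fibre product (helper93)

For `t ∈ X ×_S Y` with projections `x`, `y`, `s`:
* `trdeg_snd_le`: `trdeg(κ(t)/κ(y)) ≤ trdeg(κ(x)/κ(s))`;
* `exists_point_trdeg_ge`: for given `x`, `y` over the same `s` there is a point `t` over `(x, y)`
  with `trdeg(κ(x)/κ(s)) ≤ trdeg(κ(t)/κ(y))`.
-/

set_option autoImplicit false
universe u
open CategoryTheory CategoryTheory.Limits AlgebraicGeometry Opposite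

namespace Groth.Agent.R2.H93.TrdegFibre

open Scheme.Pullback Groth.Agent.Lib.Helper20.ResFld Groth.Agent.R2.H93.TrdegCompositum

variable {X Y S : Scheme.{u}} (f : X ⟶ S) (g : Y ⟶ S)

theorem trdeg_snd_le (t : ↑(pullback f g)) :
    @Algebra.trdeg ↑(Y.residueField ((pullback.snd f g).base t)) ↑((pullback f g).residueField t) _ _
        ((pullback.snd f g).residueFieldMap t).hom.toAlgebra ≤
    @Algebra.trdeg ↑(S.residueField (f.base ((pullback.fst f g).base t)))
        ↑(X.residueField ((pullback.fst f g).base t)) _ _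
        (f.residueFieldMap ((pullback.fst f g).base t)).hom.toAlgebra := by
  have hcomm := residueFieldCongr_inv_residueFieldMap_ofPoint (f := f) (g := g) t
  refine trdeg_le_of_generated (f.residueFieldMap ((pullback.fst f g).base t)).hom
    ((S.residueFieldCongr (Triplet.ofPoint t).hy).inv ≫ g.residueFieldMap (Triplet.ofPoint t).y).hom
    ((pullback.fst f g).residueFieldMap t).hom ((pullback.snd f g).residueFieldMap t).hom ?_ ?_
  · ext c
    have h2 := congr($hcomm c)
    exact h2
  · intro E h1 h2
    exact subfield_eq_top t E h1 h2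

theorem tensorInr_tensorCongr {T₁ T₂ : Triplet f g} (e : T₁ = T₂) :
    T₁.tensorInr ≫ (Triplet.tensorCongr e).hom =
      (Y.residueFieldCongr (congrArg Triplet.y e)).hom ≫ T₂.tensorInr := by
  subst e
  simp

theorem tensorInl_tensorCongr {T₁ T₂ : Triplet f g} (e : T₁ = T₂) :
    T₁.tensorInl ≫ (Triplet.tensorCongr e).hom =
      (X.residueFieldCongr (congrArg Triplet.x e)).hom ≫ T₂.tensorInl := by
  subst e
  simp

set_option backward.isDefEq.respectTransparency false in
theorem toResidueField_eq_zero_iff (R : CommRingCat.{u}) (p : Spec R) (r : R) :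
    toResidueField R p r = 0 ↔ r ∈ p.asIdeal := by
  have hinj : Function.Injective (Scheme.Spec.residueFieldIso R p).inv :=
    (ConcreteCategory.bijective_of_isIso (Scheme.Spec.residueFieldIso R p).inv).1
  have h1 : toResidueField R p r =
      (Scheme.Spec.residueFieldIso R p).inv (algebraMap R p.asIdeal.ResidueField r) := rfl
  rw [h1, map_eq_zero_iff _ hinj, Ideal.algebraMap_residueField_eq_zero]

open TensorProduct in
theorem exists_point_trdeg_ge (x : X) (y : Y) (h : f.base x = g.base y) :
    ∃ t : ↑(pullback f g), (pullback.fst f g).base t = x ∧ (pullback.snd f g).base t = y ∧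
      @Algebra.trdeg ↑(S.residueField (f.base x)) ↑(X.residueField x) _ _
          (f.residueFieldMap x).hom.toAlgebra ≤
      @Algebra.trdeg ↑(Y.residueField ((pullback.snd f g).base t))
          ↑((pullback f g).residueField t) _ _
          ((pullback.snd f g).residueFieldMap t).hom.toAlgebra := by
  let T : Triplet f g := ⟨x, y, f.base x, rfl, h.symm⟩
  let a : ↑(S.residueField (f.base x)) →+* ↑(X.residueField x) :=
    ((S.residueFieldCongr T.hx).inv ≫ f.residueFieldMap T.x).hom
  let b : ↑(S.residueField (f.base x)) →+* ↑(Y.residueField y) :=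
    ((S.residueFieldCongr T.hy).inv ≫ g.residueFieldMap T.y).hom
  have ha : a = (f.residueFieldMap x).hom := by
    ext c; rfl
  let _ := a.toAlgebra
  let _ := b.toAlgebra
  have hcond : ((S.residueFieldCongr T.hx).inv ≫ f.residueFieldMap T.x) ≫
      CommRingCat.ofHom (Algebra.TensorProduct.includeRight :
        ↑(X.residueField x) →ₐ[↑(S.residueField (f.base x))]
          ↑(Y.residueField y) ⊗[↑(S.residueField (f.base x))] ↑(X.residueField x)).toRingHom =
      ((S.residueFieldCongr T.hy).inv ≫ g.residueFieldMap T.y) ≫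
      CommRingCat.ofHom (Algebra.TensorProduct.includeLeft :
        ↑(Y.residueField y) →ₐ[↑(S.residueField (f.base x))]
          ↑(Y.residueField y) ⊗[↑(S.residueField (f.base x))] ↑(X.residueField x)).toRingHom := by
    ext c
    change (1 : ↑(Y.residueField y)) ⊗ₜ[↑(S.residueField (f.base x))] (a c) = (b c) ⊗ₜ 1
    have h1 : a c = c • (1 : ↑(X.residueField x)) := by
      rw [Algebra.smul_def, mul_one]; rfl
    have h2 : b c = c • (1 : ↑(Y.residueField y)) := by
      rw [Algebra.smul_def, mul_one]; rfl
    rw [h1, h2, TensorProduct.tmul_smul, TensorProduct.smul_tmul']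
  let ρ : T.tensor ⟶ CommRingCat.of
      (↑(Y.residueField y) ⊗[↑(S.residueField (f.base x))] ↑(X.residueField x)) :=
    pushout.desc _ _ hcond
  have hρl : T.tensorInl ≫ ρ = CommRingCat.ofHom (Algebra.TensorProduct.includeRight :
        ↑(X.residueField x) →ₐ[↑(S.residueField (f.base x))]
          ↑(Y.residueField y) ⊗[↑(S.residueField (f.base x))] ↑(X.residueField x)).toRingHom :=
    pushout.inl_desc _ _ _
  have hρr : T.tensorInr ≫ ρ = CommRingCat.ofHom (Algebra.TensorProduct.includeLeft :
        ↑(Y.residueField y) →ₐ[↑(S.residueField (f.base x))]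
          ↑(Y.residueField y) ⊗[↑(S.residueField (f.base x))] ↑(X.residueField x)).toRingHom :=
    pushout.inr_desc _ _ _
  obtain ⟨P, hP, hprop⟩ := exists_prime_trdeg_le a b T.tensorInl.hom T.tensorInr.hom
    ⟨ρ.hom, fun c => congr($hρl c), fun c => congr($hρr c)⟩
  let p : Spec T.tensor := ⟨P, hP⟩
  refine ⟨T.SpecTensorTo p, T.fst_SpecTensorTo_apply p, T.snd_SpecTensorTo_apply p, ?_⟩
  have hT : Triplet.ofPoint (T.SpecTensorTo p) = T := T.ofPoint_SpecTensorTo p
  have key : (Triplet.tensorCongr hT.symm).hom ≫
      ofPointTensor (T.SpecTensorTo p) ≫ Scheme.Hom.residueFieldMap T.SpecTensorTo p =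
      toResidueField T.tensor p := by
    apply Spec.map_injective
    rw [SpecMap_toResidueField, Spec.map_comp, Spec.map_comp, Category.assoc]
    exact Triplet.Spec_ofPointTensor_SpecTensorTo T p
  have hsurj : Function.Surjective (Y.residueFieldCongr (congrArg Triplet.y hT.symm)).hom.hom :=
    (ConcreteCategory.bijective_of_isIso (Y.residueFieldCongr (congrArg Triplet.y hT.symm)).hom).2
  have hcomm : (Y.residueFieldCongr (congrArg Triplet.y hT.symm)).hom ≫
      (pullback.snd f g).residueFieldMap (T.SpecTensorTo p) =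
      T.tensorInr ≫ (Triplet.tensorCongr hT.symm).hom ≫ ofPointTensor (T.SpecTensorTo p) := by
    rw [← Category.assoc, tensorInr_tensorCongr, Category.assoc]
    congr 1
    exact (pushout.inr_desc _ _ _).symm
  have hker : RingHom.ker ((Triplet.tensorCongr hT.symm).hom ≫
      ofPointTensor (T.SpecTensorTo p)).hom ≤ P := by
    intro r hr
    rw [RingHom.mem_ker] at hr
    have h1 : toResidueField T.tensor p r = 0 := by
      rw [← key]
      change (Scheme.Hom.residueFieldMap T.SpecTensorTo p)
        (((Triplet.tensorCongr hT.symm).hom ≫ ofPointTensor (T.SpecTensorTo p)).hom r) = 0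
      rw [hr, map_zero]
    exact (toResidueField_eq_zero_iff T.tensor p r).mp h1
  have hfin := hprop _ _ ((Triplet.tensorCongr hT.symm).hom ≫ ofPointTensor (T.SpecTensorTo p)).hom
    ((pullback.snd f g).residueFieldMap (T.SpecTensorTo p)).hom
    (Y.residueFieldCongr (congrArg Triplet.y hT.symm)).hom.hom hsurj ?_ hker
  · rw [ha] at hfin
    exact hfin
  · have := congrArg CommRingCat.Hom.hom hcomm
    exact this

end Groth.Agent.R2.H93.TrdegFibre
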