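import Mathlib
import Groth.Agent.R2.H93MonoLft
import Groth.Agent.S10640
import Groth.Agent.S10278
import Groth.Agent.Lib.Helper12Proper

/-!
# helper93: the locus where a morphism is a closed immersion (Stacks 05XA), modulo the closed
immersion criterion `hCI` (= S10614 (b)), which needs "separated + lqf ⇒ representable".
-/

set_option autoImplicit false
set_option linter.style.haveILetI false
universe u

namespace Groth.Agent.R2.H93.WhereCI

open AlgebraicGeometry CategoryTheory CategoryTheory.Limits AlgSp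
open Groth.Agent.R2.H93.MonoLft

variable {S : Scheme.{u}}

theorem where_closedImmersion_of
    (hCI : ∀ {A B : AlgSp.Space S} (φ : A ⟶ B), AlgSp.RepWith @IsClosedImmersion φ.hom ↔
      (AlgSp.IsUnivClosedMor φ.hom ∧
        AlgSp.LocP (@LocallyOfFiniteType ⊓ @FormallyUnramified) φ.hom ∧
        AlgSp.IsUnivInjectiveMor φ.hom))
    {X Y Z : AlgSp.Space S} (f : X ⟶ Y) (p : X ⟶ Z) (q : Y ⟶ Z) (hc : f ≫ q = p)
    (hp1 : AlgSp.LocP @LocallyOfFiniteType p.hom) (hp2 : AlgSp.IsUnivClosedMor p.hom)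
    (hq : AlgSp.IsSeparatedMor q.hom) :
    ∃ (W : AlgSp.Space S) (w : W ⟶ Z), AlgSp.RepWith @IsOpenImmersion w.hom ∧
      ∀ (Z' : AlgSp.Space S) (g : Z' ⟶ Z),
        (∃ k : Z' ⟶ W, k ≫ w = g) ↔
          ∀ (Y' : AlgSp.Space S) (gY : Y' ⟶ Y) (q' : Y' ⟶ Z'),
            IsPullback gY.hom q'.hom q.hom g.hom →
            ∀ (X' : AlgSp.Space S) (gX : X' ⟶ X) (f' : X' ⟶ Y'),
              IsPullback gX.hom f'.hom f.hom gY.hom →
                AlgSp.RepWith @IsClosedImmersion f'.hom := by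
  have hXXalg := isAlgSpace_pullback_self f
  let XX : AlgSp.Space S := ⟨pullback f.hom f.hom, hXXalg⟩
  let pr0 : XX ⟶ X := ObjectProperty.homMk (pullback.fst f.hom f.hom)
  let pr1 : XX ⟶ X := ObjectProperty.homMk (pullback.snd f.hom f.hom)
  have hXX : IsPullback pr0.hom pr1.hom f.hom f.hom := IsPullback.of_hasPullback f.hom f.hom
  have hfUC : AlgSp.IsUnivClosedMor f.hom := ((Groth.Agent.S10278.result f p q hc hq).1 hp2).1
  have hpcl : AlgSp.IsClosedMor p.hom :=
    hp2 Z.property (𝟙 _) (𝟙 _) p.hom (IsPullback.id_horiz p.hom)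
  have hpr1 : AlgSp.IsClosedMor pr1.hom := hfUC X.property f.hom pr0.hom pr1.hom hXX
  have hcomp : AlgSp.IsClosedMor (pr1 ≫ p).hom := by
    show IsClosedMap (AlgSp.Points.map (pr1.hom ≫ p.hom))
    have : AlgSp.Points.map (pr1.hom ≫ p.hom) =
        AlgSp.Points.map p.hom ∘ AlgSp.Points.map pr1.hom :=
      funext (AlgSp.Points.map_comp _ _)
    rw [this]
    exact IsClosedMap.comp hpcl hpr1
  obtain ⟨W, w, hw, hW⟩ := Groth.Agent.S10640.result f p q hc XX pr0 pr1 hXX hp1 hpcl hcomp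
  refine ⟨W, w, hw, fun Z' g => ?_⟩
  rw [hW Z' g]
  constructor
  · intro H Y' gY q' sqY X' gX f' sqX
    obtain ⟨h1, h2⟩ := H Y' gY q' sqY X' gX f' sqX
    have hq' : AlgSp.IsSeparatedMor q'.hom :=
      Groth.Agent.Lib.Helper12.Proper.isSeparatedMor_baseChange sqY hq
    have sqP : IsPullback gX.hom (f'.hom ≫ q'.hom) p.hom g.hom := by
      have h := sqX.paste_vert sqY
      rw [← hc]
      exact h
    have hp' : AlgSp.IsUnivClosedMor (f' ≫ q').hom := fun T T' hT t fst snd sq' =>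
      hp2 hT (t ≫ g.hom) (fst ≫ gX.hom) snd (sq'.paste_horiz sqP)
    have hf'UC : AlgSp.IsUnivClosedMor f'.hom :=
      ((Groth.Agent.S10278.result f' (f' ≫ q') q' rfl hq').1 hp').1
    exact (hCI f').2 ⟨hf'UC, h1, h2⟩
  · intro H Y' gY q' sqY X' gX f' sqX
    have h := (hCI f').1 (H Y' gY q' sqY X' gX f' sqX)
    exact ⟨h.2.1, h.2.2⟩

end Groth.Agent.R2.H93.WhereCI
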