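import Mathlib
import Groth.Agent.R2.H1AlgzSpec
import Groth.Agent.Lib.Helper23PB
import Groth.Agent.Lib.Helper23Serre

/-!
# PROJ:algz (S0): the structure-sheaf system on an adic tower (helper94, for helper64's [CLSUB])

* `trans_pullbackUnitIso f` : the transition `O_Y ⟶ f_* O_X` attached to `f^* O_Y ≅ O_X` is `ClSub.unitToPush f`;
* `epi_unitToPush` : `ClSub.unitToPush f` is an epimorphism for a closed immersion `f`;
* `unitSys T : T.Mod` : the compatible system `k ↦ O_{X_k}`, with `unitSys_tr`;
* for a tower map `c : TowerMap T (X ↘ Spec A)`: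
  `compHom c n : O_X / I^(n+1) O_X ⟶ (c n)_* O_{X_n}` with `modPowπ_compHom`, `compHom_pushTrans`, `epi_compHom`;
  `complToPush c : Formal.completion I O_X ⟶ pushTower c (unitSys T)` with `complToPush_app`.
-/

set_option autoImplicit false
set_option linter.style.haveILetI false
universe u
open CategoryTheory CategoryTheory.Limits AlgebraicGeometry TopologicalSpace Opposite

namespace Groth.Agent.R2.H94.AlgzUnitSys

open Groth.Agent.R2.H1.TowerMod Groth.Agent.R2.H1.AlgzSpec Groth.Agent.R2.H1.FibreKer
  Groth.Agent.R2.H1.Tower Groth.Agent.Lib.Helper23.PB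

section oneStep

variable {X Y : Scheme.{u}} (f : X ⟶ Y)

set_option backward.isDefEq.respectTransparency.types false in
/-- the transition morphism attached to `f^* O_Y ≅ O_X` is the restriction morphism `O_Y ⟶ f_* O_X` -/
theorem trans_pullbackUnitIso :
    trans f (Coh.structureModule Y) (Coh.structureModule X) (pullbackUnitIso f) =
      ClSub.unitToPush f := by
  have h := (Scheme.Modules.pullbackPushforwardAdjunction f).homEquiv_unit
    (X := Coh.structureModule Y) (Y := Coh.structureModule X) (f := pullbackUnitHom f)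
  have h2 : (Scheme.Modules.pullbackPushforwardAdjunction f).homEquiv _ _ (pullbackUnitHom f) =
      SheafOfModules.unitToPushforwardObjUnit.{u} f.toRingCatSheafHom :=
    SheafOfModules.pullbackPushforwardAdjunction_homEquiv_pullbackObjUnitToUnit.{u}
      f.toRingCatSheafHom
  have h3 : trans f (Coh.structureModule Y) (Coh.structureModule X) (pullbackUnitIso f) =
      SheafOfModules.unitToPushforwardObjUnit.{u} f.toRingCatSheafHom := h.symm.trans h2
  rw [h3]
  apply Scheme.Modules.hom_ext
  intro U
  ext s
  rfl

theorem unitToPush_app (U : Y.Opens) (s : Γ(Y, U)) :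
    (ClSub.unitToPush f).app U s = (f.app U).hom s := rfl

/-- `O_Y ⟶ f_* O_X` is an epimorphism for a closed immersion `f` -/
theorem epi_unitToPush [IsClosedImmersion f] : Epi (ClSub.unitToPush f) := by
  apply Groth.Agent.Lib.Helper23.Serre.epi_of_locally_surjective
  intro V t x hx
  obtain ⟨_, ⟨V', hV', rfl⟩, hxV', hle⟩ :=
    Y.isBasis_affineOpens.exists_subset_of_mem_open hx V.isOpen
  refine ⟨V', hle, hxV', ?_⟩
  obtain ⟨a, ha⟩ := f.app_surjective V' hV'
    (((Scheme.Modules.pushforward f).obj (Coh.structureModule X)).presheaf.map (homOfLE hle).op t)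
  exact ⟨a, ha⟩

/-- the restriction morphisms compose -/
theorem unitToPush_comp_congr {Z : Scheme.{u}} (g : Y ⟶ Z) (h : X ⟶ Z) (e : f ≫ g = h) :
    ClSub.unitToPush g ≫ (Scheme.Modules.pushforward g).map (ClSub.unitToPush f) ≫
      (show (Scheme.Modules.pushforward g).obj
          ((Scheme.Modules.pushforward f).obj (Coh.structureModule X)) ⟶
        (Scheme.Modules.pushforward (f ≫ g)).obj (Coh.structureModule X) from 𝟙 _) ≫
      (Scheme.Modules.pushforwardCongr e).hom.app (Coh.structureModule X) =
        ClSub.unitToPush h := by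
  subst e
  apply Scheme.Modules.hom_ext
  intro U
  ext s
  have h1 : (ClSub.unitToPush g ≫ (Scheme.Modules.pushforward g).map (ClSub.unitToPush f) ≫
      (show (Scheme.Modules.pushforward g).obj
          ((Scheme.Modules.pushforward f).obj (Coh.structureModule X)) ⟶
        (Scheme.Modules.pushforward (f ≫ g)).obj (Coh.structureModule X) from 𝟙 _) ≫
      (Scheme.Modules.pushforwardCongr (rfl : f ≫ g = f ≫ g)).hom.app
        (Coh.structureModule X)).app U s =
      (Coh.structureModule X).presheaf.map (eqToHom (rfl : (f ≫ g) ⁻¹ᵁ U = (f ≫ g) ⁻¹ᵁ U)).op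
        ((f.app (g ⁻¹ᵁ U)).hom ((g.app U).hom s)) := rfl
  rw [h1, eqToHom_refl, op_id, CategoryTheory.Functor.map_id]
  rfl

end oneStep

variable {A : Type u} [CommRing A] {I : Ideal A}

/-- the structure-sheaf system `k ↦ O_{X_k}` on an adic tower -/
noncomputable def unitSys (T : Sys I) : T.Mod where
  F k := Coh.structureModule (T.Xs k)
  ψ k := pullbackUnitIso (T.i k)
  hq k := Groth.Agent.Lib.Helper23.Serre.isQuasicoherent_structureModule' (T.Xs k)

@[simp]
theorem unitSys_F (T : Sys I) (k : ℕ) : (unitSys T).F k = Coh.structureModule (T.Xs k) := rfl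

theorem unitSys_ψ (T : Sys I) (k : ℕ) : (unitSys T).ψ k = pullbackUnitIso (T.i k) := rfl

/-- the transitions of the structure-sheaf system are the restriction morphisms -/
theorem unitSys_tr (T : Sys I) (k : ℕ) : (unitSys T).tr k = ClSub.unitToPush (T.i k) :=
  trans_pullbackUnitIso (T.i k)

section comp

variable {T : Sys I} {X : Scheme.{u}} [X.Over (Spec (CommRingCat.of A))]
  (c : TowerMap T (X ↘ Spec (CommRingCat.of A)))

theorem smulMod_unitToPush (n : ℕ) (a : A) (ha : a ∈ I ^ (n + 1)) :
    Formal.smulMod A (Coh.structureModule X) a ≫ ClSub.unitToPush (c.c n) = 0 := by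
  apply Scheme.Modules.hom_ext
  intro U
  ext s
  have h1 : (Formal.smulMod A (Coh.structureModule X) a ≫ ClSub.unitToPush (c.c n)).app U s =
      ((c.c n).app U).hom ((ρ (X ↘ Spec (CommRingCat.of A)) U).hom a * (show Γ(X, U) from s)) := rfl
  rw [h1, map_mul, ρ_comp, c.hq n, T.ρ_eq_zero n _ a ha, zero_mul]
  rfl

theorem smulFamily_unitToPush (n : ℕ) :
    Formal.smulFamily (I ^ (n + 1)) (Coh.structureModule X) ≫ ClSub.unitToPush (c.c n) = 0 := by
  apply Sigma.hom_ext
  intro a
  rw [comp_zero, ← Category.assoc]
  have h : Sigma.ι (fun _ : ↥(I ^ (n + 1)) => Coh.structureModule X) a ≫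
      Formal.smulFamily (I ^ (n + 1)) (Coh.structureModule X) =
        Formal.smulMod A (Coh.structureModule X) (a : A) := by
    unfold Formal.smulFamily
    exact Sigma.ι_desc _ _
  rw [h]
  exact smulMod_unitToPush c n a a.2

/-- the map `O_X / I^(n+1) O_X ⟶ (c n)_* O_{X_n}` induced by the restriction morphism -/
noncomputable def compHom (n : ℕ) : Formal.modPow I (n + 1) (Coh.structureModule X) ⟶
    (Scheme.Modules.pushforward (c.c n)).obj (Coh.structureModule (T.Xs n)) :=
  cokernel.desc _ (ClSub.unitToPush (c.c n)) (smulFamily_unitToPush c n)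

@[reassoc (attr := simp)]
theorem modPowπ_compHom (n : ℕ) :
    Formal.modPowπ I (n + 1) (Coh.structureModule X) ≫ compHom c n = ClSub.unitToPush (c.c n) :=
  cokernel.π_desc _ _ _

theorem epi_modPowπ (n : ℕ) (M : X.Modules) : Epi (Formal.modPowπ I n M) :=
  inferInstanceAs (Epi (cokernel.π _))

/-- the restriction morphisms are compatible with the transitions of the pushed-forward tower -/
theorem unitToPush_pushTrans (n : ℕ) :
    ClSub.unitToPush (c.c (n + 1)) ≫ pushTrans c (unitSys T) n = ClSub.unitToPush (c.c n) := by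
  have e : pushTrans c (unitSys T) n =
      (Scheme.Modules.pushforward (c.c (n + 1))).map (ClSub.unitToPush (T.i n)) ≫
        (show (Scheme.Modules.pushforward (c.c (n + 1))).obj
            ((Scheme.Modules.pushforward (T.i n)).obj (Coh.structureModule (T.Xs n))) ⟶
          (Scheme.Modules.pushforward (T.i n ≫ c.c (n + 1))).obj (Coh.structureModule (T.Xs n)) from 𝟙 _) ≫
        (Scheme.Modules.pushforwardCongr (c.hc n)).hom.app (Coh.structureModule (T.Xs n)) := by
    unfold pushTrans
    rw [unitSys_tr]
    rfl
  rw [e]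
  exact unitToPush_comp_congr (T.i n) (c.c (n + 1)) (c.c n) (c.hc n)

theorem compHom_pushTrans (n : ℕ) :
    compHom c (n + 1) ≫ pushTrans c (unitSys T) n =
      Formal.modPowTrans I (n + 1) (Coh.structureModule X) ≫ compHom c n := by
  haveI := epi_modPowπ (I := I) (n + 1 + 1) (Coh.structureModule X)
  rw [← cancel_epi (Formal.modPowπ I (n + 1 + 1) (Coh.structureModule X))]
  have h1 : Formal.modPowπ I (n + 1 + 1) (Coh.structureModule X) ≫ compHom c (n + 1) ≫
      pushTrans c (unitSys T) n = ClSub.unitToPush (c.c n) := by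
    rw [← Category.assoc, modPowπ_compHom]
    exact unitToPush_pushTrans c n
  have h2 : Formal.modPowπ I (n + 1 + 1) (Coh.structureModule X) ≫
      Formal.modPowTrans I (n + 1) (Coh.structureModule X) ≫ compHom c n =
        ClSub.unitToPush (c.c n) := by
    rw [← Category.assoc, Formal.modPowπ_trans, modPowπ_compHom]
  exact h1.trans h2.symm

/-- `O_X / I^(n+1) O_X ⟶ (c n)_* O_{X_n}` is an epimorphism when `c n` is a closed immersion -/
theorem epi_compHom (n : ℕ) [IsClosedImmersion (c.c n)] : Epi (compHom c n) := by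
  haveI : Epi (Formal.modPowπ I (n + 1) (Coh.structureModule X) ≫ compHom c n) := by
    rw [modPowπ_compHom]
    exact epi_unitToPush (c.c n)
  exact epi_of_epi (Formal.modPowπ I (n + 1) (Coh.structureModule X)) (compHom c n)

/-- the morphism of systems `(O_X / I^(n+1) O_X)_n ⟶ ((c n)_* O_{X_n})_n` -/
noncomputable def complToPush :
    Formal.completion I (Coh.structureModule X) ⟶ pushTower c (unitSys T) :=
  NatTrans.ofOpSequence (fun n => compHom c n) (fun n => by
    unfold Formal.completion pushTower
    rw [Functor.ofOpSequence_map_homOfLE_succ, Functor.ofOpSequence_map_homOfLE_succ]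
    exact (compHom_pushTrans c n).symm)

@[simp]
theorem complToPush_app (n : ℕ) : (complToPush c).app (op n) = compHom c n := rfl

/-- the component of `complToPush` descends the restriction morphism through `modPowπ` -/
theorem modPowπ_complToPush_app (n : ℕ) :
    (show Coh.structureModule X ⟶ (Formal.completion I (Coh.structureModule X)).obj (op n) from
      Formal.modPowπ I (n + 1) (Coh.structureModule X)) ≫ (complToPush c).app (op n) =
    (show Coh.structureModule X ⟶ (pushTower c (unitSys T)).obj (op n) from
      ClSub.unitToPush (c.c n)) :=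
  modPowπ_compHom c n

theorem epi_complToPush_app (hc : ∀ n, IsClosedImmersion (c.c n)) (n : ℕ) :
    Epi ((complToPush c).app (op n)) := by
  haveI := hc n
  exact epi_compHom c n

end comp

end Groth.Agent.R2.H94.AlgzUnitSys
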