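import Mathlib
import Groth.Agent.R2.H41CptSpec
set_option backward.isDefEq.respectTransparency.types false

/-!
# PROJ:compact, (F) PkgCoyo (helper94)

`CohDer.IsCompactObject X` iff `Hom(X, -) : D ⥤ Ab` preserves (small) coproducts.
-/

set_option autoImplicit false
universe v u
open CategoryTheory CategoryTheory.Limits Opposite

namespace Groth.Agent.R2.H94.CptCoyo

section DS

variable {ι : Type v} [DecidableEq ι] (G : ι → AddCommGrpCat.{v})

/-- the direct sum cofan in `Ab` -/
noncomputable def dsCofan : Cofan G :=
  Cofan.mk (AddCommGrpCat.of (DirectSum ι (fun i => G i)))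
    (fun i => AddCommGrpCat.ofHom (DirectSum.of (fun i => G i) i))

/-- the direct sum is the coproduct in `Ab` -/
noncomputable def dsCofanIsColimit : IsColimit (dsCofan G) :=
  Cofan.IsColimit.mk _
    (fun t => AddCommGrpCat.ofHom (DirectSum.toAddMonoid (fun i => (t.inj i).hom)))
    (fun t j => by
      ext x
      change DirectSum.toAddMonoid (fun i => (t.inj i).hom) (DirectSum.of (fun i => G i) j x) = _
      rw [DirectSum.toAddMonoid_of])
    (fun t m h => by
      ext : 1
      apply DirectSum.addHom_ext
      intro i x
      change m.hom (DirectSum.of (fun i => G i) i x) =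
        DirectSum.toAddMonoid (fun i => (t.inj i).hom) (DirectSum.of (fun i => G i) i x)
      rw [DirectSum.toAddMonoid_of, ← h i]
      rfl)

end DS

variable {D : Type u} [Category.{v} D] [Preadditive D] [HasCoproducts.{v} D]

open Classical in
lemma homSumToHomCoprod_eq (X : D) {ι : Type v} (E : ι → D) :
    CohDer.homSumToHomCoprod X E =
      DirectSum.toAddMonoid
        (fun i => ((preadditiveCoyoneda.obj (op X)).map (Sigma.ι E i)).hom) := by
  apply DirectSum.addHom_ext
  intro i f
  refine Eq.trans ?_ (DirectSum.toAddMonoid_of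
    (fun i => ((preadditiveCoyoneda.obj (op X)).map (Sigma.ι E i)).hom) i f).symm
  unfold CohDer.homSumToHomCoprod
  rw [DirectSum.toAddMonoid_of]
  rfl

theorem pkgCoyo : Groth.Agent.R2.H41.CptSpec.PkgCoyo.{v, u} := by
  classical
  intro D _ _ _ X
  constructor
  · intro hX ι
    apply (config := { allowSynthFailures := true }) preservesColimitsOfShape_of_discrete
    intro E
    let F := preadditiveCoyoneda.obj (op X)
    let G : ι → AddCommGrpCat.{v} := fun i => F.obj (E i)
    let e : DirectSum ι (fun i => G i) ≃+ (X ⟶ ∐ E) :=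
      AddEquiv.ofBijective (CohDer.homSumToHomCoprod X E) (hX ι E)
    have hcolim : IsColimit (Cofan.mk (F.obj (∐ E)) fun j => F.map (Sigma.ι E j) :
        Cofan fun j => F.obj (E j)) := by
      refine IsColimit.ofIsoColimit (dsCofanIsColimit G) (Cocone.ext e.toAddCommGrpIso ?_)
      rintro ⟨i⟩
      ext f
      change CohDer.homSumToHomCoprod X E (DirectSum.of (fun i => X ⟶ E i) i f) = f ≫ Sigma.ι E i
      rw [homSumToHomCoprod_eq]
      exact DirectSum.toAddMonoid_of
        (fun i => ((preadditiveCoyoneda.obj (op X)).map (Sigma.ι E i)).hom) i f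
    exact preservesColimit_of_preserves_colimit_cocone (coproductIsCoproduct E)
      ((isColimitMapCoconeCofanMkEquiv F E (Sigma.ι E)).symm hcolim)
  · intro h ι E
    let F := preadditiveCoyoneda.obj (op X)
    let G : ι → AddCommGrpCat.{v} := fun i => F.obj (E i)
    haveI := h ι
    have h2 : IsColimit (Cofan.mk (F.obj (∐ E)) fun j => F.map (Sigma.ι E j) :
        Cofan fun j => F.obj (E j)) :=
      isColimitMapCoconeCofanMkEquiv F E (Sigma.ι E)
        (isColimitOfPreserves F (coproductIsCoproduct E))
    let i := IsColimit.coconePointUniqueUpToIso (dsCofanIsColimit G) h2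
    have hi : i.hom = AddCommGrpCat.ofHom (CohDer.homSumToHomCoprod X E) := by
      rw [homSumToHomCoprod_eq]
      rfl
    have hb : Function.Bijective i.hom.hom :=
      (ConcreteCategory.bijective_of_isIso i.hom)
    rw [hi] at hb
    exact hb

end Groth.Agent.R2.H94.CptCoyo
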