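import Groth.Agent.R2.H41CptSpec
import Groth.Agent.R2.H41ResInst
set_option backward.isDefEq.respectTransparency.types false

/-!
# PROJ:compact, (K) PkgQcGen (helper94)

If every object of the site is covered by quasi-compact objects, every module is a quotient of a
direct sum of `j_{U!}O` with `U` quasi-compact.
-/

set_option autoImplicit false
universe u
open CategoryTheory CategoryTheory.Limits Opposite

namespace Groth.Agent.R2.H94.CptQcGen

open Groth.Agent.R2.H41.TypeASpec Groth.Agent.Lib.Helper17.Hyp Groth.Agent.R2.H32.TypeAConv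

theorem pkgQcGen : Groth.Agent.R2.H41.CptSpec.PkgQcGen.{u} := by
  intro C _ J O hcov X
  let Q : C → Prop := fun U => CohCx.IsQcObject ((presheafToSheaf J (Type u)).obj (yoneda.obj U))
  let ι : Type u := Σ U : {U : C // Q U}, ((fr O).obj U.1 ⟶ X)
  let E' : ι → ModSite.Mod O := fun k => (fr O).obj k.1.1
  let E : ι → ModSite.Mod O := fun k => ModSite.freeOn O k.1.1
  let e : ∐ E ≅ ∐ E' := Sigma.mapIso (fun k => (frIso O k.1.1).symm)
  let π' : ∐ E' ⟶ X := Sigma.desc (fun k => k.2)
  refine ⟨ι, E, e.hom ≫ π', fun k => ⟨k.1.1, k.1.2, rfl⟩, ?_⟩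
  haveI : Epi π' := by
    apply Abelian.epi_of_cokernel_π_eq_zero
    have hL := locFr_frModR (J := J) (ModSite.ringSh O)
    apply hL.gen
    intro V s
    obtain ⟨R, hR, hRq⟩ := hcov V
    refine hL.sep V _ R hR ?_
    intro W g hg
    obtain ⟨U, a, b, hU, hab⟩ := hRq g hg
    have h : (fr O).map b ≫ s = Sigma.ι E' ⟨⟨U, hU⟩, (fr O).map b ≫ s⟩ ≫ π' := by
      simp [π']
    have h2 : (fr O).map g = (fr O).map a ≫ (fr O).map b := by
      rw [← Functor.map_comp, hab]
    change (fr O).map g ≫ s ≫ cokernel.π π' = 0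
    rw [h2, Category.assoc, ← Category.assoc ((fr O).map b), h, Category.assoc,
      cokernel.condition, comp_zero, comp_zero]
  exact epi_comp _ _

end Groth.Agent.R2.H94.CptQcGen
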