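import Mathlib
import Groth.Agent.R2.H41CptSpec
import Groth.Agent.Lib.Helper23FreeOn
set_option backward.isDefEq.respectTransparency.types false

/-!
# PROJ:compact, (J) PkgSecIso (helper94)

`Hom(j_{W!}O, -) ≅ Γ(W, -)` as functors `Mod O ⥤ Ab`.
-/

set_option autoImplicit false
universe u
open CategoryTheory CategoryTheory.Limits Opposite

namespace Groth.Agent.R2.H94.CptSecIso

open Groth.Agent.Lib.Helper23FreeOn

variable {C : Type u} [SmallCategory C] {J : GrothendieckTopology C}
  (O : Sheaf J CommRingCat.{u})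

/-- the universal section of `j_{W!}O` over `W` -/
noncomputable def univ (W : C) : (ModSite.freeOn O W).val.obj (op W) :=
  homEquiv O (ModSite.freeOn O W) W (𝟙 _)

lemma homEquiv_eq (M : ModSite.Mod O) (W : C) (h : ModSite.freeOn O W ⟶ M) :
    homEquiv O M W h = h.val.app (op W) (univ O W) := by
  rw [univ, ← homEquiv_comp, Category.id_comp]

/-- `Hom(j_{W!}O, M) ≃+ M(W)` -/
noncomputable def homAddEquiv (M : ModSite.Mod O) (W : C) :
    (ModSite.freeOn O W ⟶ M) ≃+ M.val.obj (op W) :=
  { homEquiv O M W with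
    map_add' := fun h h' => by
      change homEquiv O M W (h + h') = homEquiv O M W h + homEquiv O M W h'
      rw [homEquiv_eq, homEquiv_eq, homEquiv_eq]
      rfl }

lemma homAddEquiv_apply (M : ModSite.Mod O) (W : C) (h : ModSite.freeOn O W ⟶ M) :
    homAddEquiv O M W h = homEquiv O M W h := rfl

theorem pkgSecIso : Groth.Agent.R2.H41.CptSpec.PkgSecIso.{u} := by
  intro C _ J O W
  refine ⟨NatIso.ofComponents (fun M => (homAddEquiv O M W).toAddCommGrpIso) ?_⟩
  intro M N p
  ext h
  exact homEquiv_comp O h p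

end Groth.Agent.R2.H94.CptSecIso
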