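import Mathlib

/-!
# Swap action on powers of the pairwise diagonal ideal in a tensor power `A^{⊗ n}`
-/

set_option autoImplicit false

open TensorProduct

namespace Groth.Agent.R2.H94.DiagSwap

variable (k : Type*) [Field k] (A : Type*) [CommRing A] [Algebra k A] (n : ℕ)

/-- `reindex` as an algebra hom. -/
noncomputable def reindexAlgHom (σ : Equiv.Perm (Fin n)) :
    (⨂[k] _ : Fin n, A) →ₐ[k] (⨂[k] _ : Fin n, A) :=
  AlgHom.ofLinearMap (PiTensorProduct.reindex k (fun _ : Fin n => A) σ).toLinearMap
    (by
      show PiTensorProduct.reindex k (fun _ : Fin n => A) σ (1 : ⨂[k] _ : Fin n, A) = 1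
      rw [PiTensorProduct.one_def, PiTensorProduct.reindex_tprod]
      rfl)
    (by
      refine (LinearMap.map_mul_iff _).mpr ?_
      ext x y
      simp only [LinearMap.compMultilinearMap_apply, LinearMap.compr₂_apply, LinearMap.mul_apply',
        LinearMap.compl₂_apply, LinearMap.coe_comp, Function.comp_apply,
        PiTensorProduct.tprod_mul_tprod, LinearEquiv.coe_coe, PiTensorProduct.reindex_tprod]
      rfl)

theorem reindexAlgHom_apply (σ : Equiv.Perm (Fin n)) (x : ⨂[k] _ : Fin n, A) :
    reindexAlgHom k A n σ x = PiTensorProduct.reindex k (fun _ : Fin n => A) σ x := rfl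

theorem reindexAlgHom_single (σ : Equiv.Perm (Fin n)) (l : Fin n) (a : A) :
    reindexAlgHom k A n σ (PiTensorProduct.singleAlgHom (R := k) (A := fun _ : Fin n => A) l a) =
      PiTensorProduct.singleAlgHom (R := k) (A := fun _ : Fin n => A) (σ l) a := by
  show PiTensorProduct.reindex k (fun _ : Fin n => A) σ
      (PiTensorProduct.tprod k (MonoidHom.mulSingle (fun _ : Fin n => A) l a)) =
    PiTensorProduct.tprod k (MonoidHom.mulSingle (fun _ : Fin n => A) (σ l) a)
  rw [PiTensorProduct.reindex_tprod]
  congr 1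
  ext i
  simp only [MonoidHom.mulSingle_apply, Pi.mulSingle_apply]
  by_cases h : i = σ l
  · subst h; simp
  · rw [if_neg h, if_neg]
    intro h'
    apply h
    rw [← h', Equiv.apply_symm_apply]

/-- the diagonal ideal -/
noncomputable def diagIdeal (i j : Fin n) : Ideal (⨂[k] _ : Fin n, A) :=
  Ideal.span (Set.range fun a : A =>
        PiTensorProduct.singleAlgHom (R := k) (A := fun _ : Fin n => A) i a -
        PiTensorProduct.singleAlgHom (R := k) (A := fun _ : Fin n => A) j a)

variable {k A n}

theorem swap_sub_mem (i j : Fin n) (r : ⨂[k] _ : Fin n, A) :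
    reindexAlgHom k A n (Equiv.swap i j) r - r ∈ diagIdeal k A n i j := by
  have h : (Ideal.Quotient.mkₐ k (diagIdeal k A n i j)).comp (reindexAlgHom k A n (Equiv.swap i j)) =
      Ideal.Quotient.mkₐ k (diagIdeal k A n i j) := by
    apply PiTensorProduct.algHom_ext
    intro l
    ext a
    simp only [AlgHom.coe_comp, Function.comp_apply, reindexAlgHom_single, Ideal.Quotient.mkₐ_eq_mk]
    rw [Ideal.Quotient.eq]
    by_cases hi : l = i
    · subst hi
      rw [Equiv.swap_apply_left]
      have : PiTensorProduct.singleAlgHom (R := k) (A := fun _ : Fin n => A) j a -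
          PiTensorProduct.singleAlgHom (R := k) (A := fun _ : Fin n => A) l a =
          - (PiTensorProduct.singleAlgHom (R := k) (A := fun _ : Fin n => A) l a -
          PiTensorProduct.singleAlgHom (R := k) (A := fun _ : Fin n => A) j a) := by ring
      rw [this]
      exact neg_mem (Ideal.subset_span ⟨a, rfl⟩)
    · by_cases hj : l = j
      · subst hj
        rw [Equiv.swap_apply_right]
        exact Ideal.subset_span ⟨a, rfl⟩
      · rw [Equiv.swap_apply_of_ne_of_ne hi hj, sub_self]
        exact Ideal.zero_mem _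
  have := DFunLike.congr_fun h r
  simp only [AlgHom.coe_comp, Function.comp_apply, Ideal.Quotient.mkₐ_eq_mk] at this
  exact Ideal.Quotient.eq.mp this


theorem swap_add_mem_sq (i j : Fin n) (g : ⨂[k] _ : Fin n, A) (hg : g ∈ diagIdeal k A n i j) :
    reindexAlgHom k A n (Equiv.swap i j) g + g ∈ (diagIdeal k A n i j) ^ 2 := by
  set J := diagIdeal k A n i j with hJ
  set T := reindexAlgHom k A n (Equiv.swap i j) with hT
  have hsq : J ^ 2 ≤ J := Ideal.pow_le_self two_ne_zero
  refine Submodule.span_induction (p := fun g _ => T g + g ∈ J ^ 2) ?_ ?_ ?_ ?_ hg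
  · rintro _ ⟨a, rfl⟩
    simp only [map_sub, hT, reindexAlgHom_single, Equiv.swap_apply_left, Equiv.swap_apply_right]
    rw [sub_add_sub_cancel, sub_self]
    exact Ideal.zero_mem _
  · simp
  · intro x y _ _ hx hy
    have : T (x + y) + (x + y) = (T x + x) + (T y + y) := by rw [map_add]; ring
    rw [this]
    exact Ideal.add_mem _ hx hy
  · intro r x hxJ hx
    have hTx : T x ∈ J := by
      have : T x = (T x + x) - x := by ring
      rw [this]
      exact Ideal.sub_mem _ (hsq hx) hxJ
    have : T (r • x) + r • x = (T r - r) * T x + r * (T x + x) := by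
      rw [smul_eq_mul, map_mul]; ring
    rw [this, pow_two]
    refine Ideal.add_mem _ (Ideal.mul_mem_mul (swap_sub_mem i j r) hTx) ?_
    rw [← pow_two]
    exact Ideal.mul_mem_left _ _ hx

theorem swap_sub_neg_one_pow_mem (i j : Fin n) (s : ℕ) :
    ∀ y ∈ (diagIdeal k A n i j) ^ s,
      reindexAlgHom k A n (Equiv.swap i j) y - (-1) ^ s * y ∈ (diagIdeal k A n i j) ^ (s + 1) := by
  set J := diagIdeal k A n i j with hJ
  set T := reindexAlgHom k A n (Equiv.swap i j) with hT
  induction s with
  | zero =>
    intro y _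
    simpa using swap_sub_mem i j y
  | succ s ih =>
    intro y hy
    rw [pow_succ] at hy
    refine Submodule.mul_induction_on hy ?_ ?_
    · intro y hy g hg
      have hu := ih y hy
      have hv := swap_add_mem_sq i j g hg
      set u := T y - (-1) ^ s * y with hu_def
      set v := T g + g with hv_def
      have : T (y * g) - (-1) ^ (s + 1) * (y * g) = u * v - u * g + (-1) ^ s * y * v := by
        rw [map_mul, hu_def, hv_def, pow_succ]; ring
      rw [this]
      have h1 : u * v ∈ J ^ (s + 1 + 1) := by
        have : u * v ∈ J ^ (s + 1) * J ^ 2 := Ideal.mul_mem_mul hu hv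
        rw [← pow_add] at this
        exact Ideal.pow_le_pow_right (by omega) this
      have h2 : u * g ∈ J ^ (s + 1 + 1) := by
        rw [pow_succ (J) (s + 1)]
        exact Ideal.mul_mem_mul hu hg
      have h3 : (-1) ^ s * y * v ∈ J ^ (s + 1 + 1) := by
        have : y * v ∈ J ^ s * J ^ 2 := Ideal.mul_mem_mul hy hv
        rw [← pow_add] at this
        rw [mul_assoc]
        exact Ideal.mul_mem_left _ _ this
      exact Ideal.add_mem _ (Ideal.sub_mem _ h1 h2) h3
    · intro x y hx hy
      have : T (x + y) - (-1) ^ (s + 1) * (x + y) =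
          (T x - (-1) ^ (s + 1) * x) + (T y - (-1) ^ (s + 1) * y) := by rw [map_add]; ring
      rw [this]
      exact Ideal.add_mem _ hx hy

/-- A swap-invariant element of an odd power of the diagonal ideal lies in the next (even) power,
when `2` is invertible. -/
theorem mem_pow_even_of_invariant [CharZero k] (i j : Fin n) (m : ℕ) (hm : 1 ≤ m)
    (x : ⨂[k] _ : Fin n, A)
    (hx : PiTensorProduct.reindex k (fun _ : Fin n => A) (Equiv.swap i j) x = x)
    (hmem : x ∈ (diagIdeal k A n i j) ^ (2 * m - 1)) :
    x ∈ (diagIdeal k A n i j) ^ (2 * m) := by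
  have h := swap_sub_neg_one_pow_mem i j (2 * m - 1) x hmem
  rw [reindexAlgHom_apply, hx] at h
  have h2 : 2 * m - 1 + 1 = 2 * m := by omega
  rw [h2] at h
  have hodd : Odd (2 * m - 1) := ⟨m - 1, by omega⟩
  rw [hodd.neg_one_pow] at h
  have : x = (2⁻¹ : k) • (x - -1 * x) := by
    rw [neg_one_mul, sub_neg_eq_add, ← two_smul k x, smul_smul, inv_mul_cancel₀ two_ne_zero, one_smul]
  rw [this]
  exact Submodule.smul_of_tower_mem _ _ h

end Groth.Agent.R2.H94.DiagSwap
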