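import Mathlib

/-!
# The symmetric cube: invariants restricted to a diagonal are the kernel of `2 a db - b da`

For a commutative `k`-algebra `A` over a field of characteristic zero, the image of the `S₃`-invariants of
`A ⊗ A ⊗ A` under restriction to the diagonal of the first two factors is exactly the kernel of
`D : A ⊗ A → Ω[A/k]`, `a ⊗ b ↦ 2 a db - b da`, and `D` is surjective.
-/

set_option autoImplicit false

open TensorProduct

namespace Groth.Agent.R2.H94.DiagSym3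

variable (k : Type*) [Field k] (A : Type*) [CommRing A] [Algebra k A]

/-- the three inclusions `A → A ⊗ (A ⊗ A)` -/
noncomputable def i1 : A →ₐ[k] A ⊗[k] (A ⊗[k] A) := Algebra.TensorProduct.includeLeft
noncomputable def i2 : A →ₐ[k] A ⊗[k] (A ⊗[k] A) :=
  (Algebra.TensorProduct.includeRight).comp Algebra.TensorProduct.includeLeft
noncomputable def i3 : A →ₐ[k] A ⊗[k] (A ⊗[k] A) :=
  (Algebra.TensorProduct.includeRight).comp Algebra.TensorProduct.includeRight

/-- swap of the first two factors -/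
noncomputable def s1 : A ⊗[k] (A ⊗[k] A) →ₐ[k] A ⊗[k] (A ⊗[k] A) :=
  (Algebra.TensorProduct.leftComm k A A A : A ⊗[k] (A ⊗[k] A) ≃ₐ[k] A ⊗[k] (A ⊗[k] A))
/-- swap of the last two factors -/
noncomputable def s2 : A ⊗[k] (A ⊗[k] A) →ₐ[k] A ⊗[k] (A ⊗[k] A) :=
  Algebra.TensorProduct.map (AlgHom.id k A)
    (Algebra.TensorProduct.comm k A A : A ⊗[k] A →ₐ[k] A ⊗[k] A)
/-- restriction to the diagonal of the first two factors -/
noncomputable def rA : A ⊗[k] (A ⊗[k] A) →ₐ[k] A ⊗[k] A :=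
  Algebra.TensorProduct.productMap Algebra.TensorProduct.includeLeft (AlgHom.id k (A ⊗[k] A))

variable {k A}

theorem tmul_eq (a b c : A) : a ⊗ₜ[k] (b ⊗ₜ[k] c) = i1 k A a * i2 k A b * i3 k A c := by
  simp [i1, i2, i3]

@[simp] theorem s1_i1 (a : A) : s1 k A (i1 k A a) = i2 k A a := by
  simp [s1, i1, i2, Algebra.TensorProduct.one_def]
@[simp] theorem s1_i2 (a : A) : s1 k A (i2 k A a) = i1 k A a := by
  simp [s1, i1, i2, Algebra.TensorProduct.one_def]
@[simp] theorem s1_i3 (a : A) : s1 k A (i3 k A a) = i3 k A a := by simp [s1, i3]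
@[simp] theorem s2_i1 (a : A) : s2 k A (i1 k A a) = i1 k A a := by simp [s2, i1]
@[simp] theorem s2_i2 (a : A) : s2 k A (i2 k A a) = i3 k A a := by simp [s2, i2, i3]
@[simp] theorem s2_i3 (a : A) : s2 k A (i3 k A a) = i2 k A a := by simp [s2, i2, i3]
@[simp] theorem rA_i1 (a : A) : rA k A (i1 k A a) = a ⊗ₜ[k] 1 := by simp [rA, i1]
@[simp] theorem rA_i2 (a : A) : rA k A (i2 k A a) = a ⊗ₜ[k] 1 := by simp [rA, i2]
@[simp] theorem rA_i3 (a : A) : rA k A (i3 k A a) = 1 ⊗ₜ[k] a := by simp [rA, i3]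


variable (k A)

/-- The image under `rA` of the `S₃`-invariant tensors, as a `k`-submodule of `A ⊗ A`. -/
noncomputable def W : Submodule k (A ⊗[k] A) :=
  ((LinearMap.eqLocus (s1 k A).toLinearMap LinearMap.id) ⊓
    (LinearMap.eqLocus (s2 k A).toLinearMap LinearMap.id)).map (rA k A).toLinearMap

variable {k A}

theorem mem_W {y : A ⊗[k] A} :
    y ∈ W k A ↔ ∃ x : A ⊗[k] (A ⊗[k] A), s1 k A x = x ∧ s2 k A x = x ∧ rA k A x = y := by
  simp only [W, Submodule.mem_map, Submodule.mem_inf, LinearMap.mem_eqLocus, AlgHom.toLinearMap_apply,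
    LinearMap.id_coe, id_eq]
  constructor
  · rintro ⟨x, ⟨h1, h2⟩, h3⟩; exact ⟨x, h1, h2, h3⟩
  · rintro ⟨x, h1, h2, h3⟩; exact ⟨x, ⟨h1, h2⟩, h3⟩

/-- `e₁(a) = 2 (a ⊗ 1) + 1 ⊗ a` lies in `W`. -/
theorem e1_mem_W (a : A) : (2 : ℕ) • (a ⊗ₜ[k] (1 : A)) + (1 : A) ⊗ₜ[k] a ∈ W k A := by
  rw [mem_W]
  refine ⟨i1 k A a + i2 k A a + i3 k A a, ?_, ?_, ?_⟩
  · simp only [map_add, s1_i1, s1_i2, s1_i3]; ring
  · simp only [map_add, s2_i1, s2_i2, s2_i3]; ring
  · simp only [map_add, rA_i1, rA_i2, rA_i3, two_smul]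

variable [CharZero k]

/-- The key explicit preimage: `(c ⊗ d) * g_a * g_b ∈ W`, where `g_a = 1 ⊗ a - a ⊗ 1`. -/
theorem pure_mul_gen_mul_gen_mem_W (c d a b : A) :
    (c ⊗ₜ[k] d) * ((1 : A) ⊗ₜ[k] a - a ⊗ₜ[k] (1 : A)) * ((1 : A) ⊗ₜ[k] b - b ⊗ₜ[k] (1 : A)) ∈ W k A := by
  rw [mem_W]
  -- F p q t := d_t (c_p + c_q) ((a_t - a_p)(b_t - b_q) + (a_t - a_q)(b_t - b_p))
  let F : (A →ₐ[k] A ⊗[k] (A ⊗[k] A)) → (A →ₐ[k] A ⊗[k] (A ⊗[k] A)) →
      (A →ₐ[k] A ⊗[k] (A ⊗[k] A)) → A ⊗[k] (A ⊗[k] A) := fun p q t =>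
    t d * (p c + q c) * ((t a - p a) * (t b - q b) + (t a - q a) * (t b - p b))
  refine ⟨(4⁻¹ : k) • (F (i1 k A) (i2 k A) (i3 k A) + F (i3 k A) (i2 k A) (i1 k A) +
    F (i1 k A) (i3 k A) (i2 k A)), ?_, ?_, ?_⟩
  · simp only [F, map_smul, map_add, map_mul, map_sub, s1_i1, s1_i2, s1_i3]
    congr 1; ring
  · simp only [F, map_smul, map_add, map_mul, map_sub, s2_i1, s2_i2, s2_i3]
    congr 1; ring
  · simp only [F, map_smul, map_add, map_mul, map_sub, rA_i1, rA_i2, rA_i3]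
    have h4 : (4⁻¹ : k) • ((4 : A ⊗[k] A) * ((c ⊗ₜ[k] d) * ((1 : A) ⊗ₜ[k] a - a ⊗ₜ[k] (1 : A)) *
        ((1 : A) ⊗ₜ[k] b - b ⊗ₜ[k] (1 : A)))) =
        (c ⊗ₜ[k] d) * ((1 : A) ⊗ₜ[k] a - a ⊗ₜ[k] (1 : A)) * ((1 : A) ⊗ₜ[k] b - b ⊗ₜ[k] (1 : A)) := by
      rw [Algebra.smul_def, ← mul_assoc]
      have : (algebraMap k (A ⊗[k] A)) 4⁻¹ * 4 = 1 := by
        have : (4 : A ⊗[k] A) = algebraMap k (A ⊗[k] A) 4 := (map_ofNat (algebraMap k (A ⊗[k] A)) 4).symm
        rw [this, ← map_mul, inv_mul_cancel₀ (by norm_num : (4 : k) ≠ 0), map_one]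
      rw [this, one_mul]
    rw [← h4]
    congr 1
    have hc : c ⊗ₜ[k] d = (c ⊗ₜ[k] (1 : A)) * ((1 : A) ⊗ₜ[k] d) := by simp
    rw [hc]
    ring


theorem sq_ideal_le_W (y : A ⊗[k] A) (hy : y ∈ (KaehlerDifferential.ideal k A) ^ 2) : y ∈ W k A := by
  have key : ∀ (a b : A) (z : A ⊗[k] A),
      z * (((1 : A) ⊗ₜ[k] a - a ⊗ₜ[k] (1 : A)) * ((1 : A) ⊗ₜ[k] b - b ⊗ₜ[k] (1 : A))) ∈ W k A := by
    intro a b z
    induction z using TensorProduct.induction_on with
    | zero => rw [zero_mul]; exact Submodule.zero_mem _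
    | tmul c d =>
      rw [← mul_assoc]
      exact pure_mul_gen_mul_gen_mem_W c d a b
    | add z₁ z₂ h₁ h₂ =>
      rw [add_mul]
      exact Submodule.add_mem _ h₁ h₂
  rw [pow_two, ← KaehlerDifferential.span_range_eq_ideal, Ideal.span_mul_span'] at hy
  have : ∀ z : A ⊗[k] A, z * y ∈ W k A := by
    refine Submodule.span_induction (p := fun y _ => ∀ z : A ⊗[k] A, z * y ∈ W k A) ?_ ?_ ?_ ?_ hy
    · rintro _ ⟨_, ⟨a, rfl⟩, _, ⟨b, rfl⟩, rfl⟩ z
      exact key a b z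
    · intro z; rw [mul_zero]; exact Submodule.zero_mem _
    · intro u v _ _ hu hv z
      rw [mul_add]; exact Submodule.add_mem _ (hu z) (hv z)
    · intro c u _ hu z
      rw [smul_eq_mul, ← mul_assoc]; exact hu (z * c)
  simpa using this 1

section Dmap

variable (D : A ⊗[k] A →ₗ[k] Ω[A⁄k])
  (hD : ∀ a b : A, D (a ⊗ₜ[k] b) =
    (2 : A) • (a • KaehlerDifferential.D k A b) - b • KaehlerDifferential.D k A a)

include hD

theorem D_eq (y : A ⊗[k] A) :
    D y = (3 : ℕ) • (KaehlerDifferential.D k A).tensorProductTo y -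
      KaehlerDifferential.D k A (Algebra.TensorProduct.lmul' k y) := by
  induction y using TensorProduct.induction_on with
  | zero => simp
  | tmul a b =>
    rw [hD, Derivation.tensorProductTo_tmul, Algebra.TensorProduct.lmul'_apply_tmul, Derivation.leibniz,
      ofNat_smul_eq_nsmul (R := ℕ)]
    module
  | add y₁ y₂ h₁ h₂ =>
    rw [map_add, map_add, map_add, map_add, h₁, h₂, smul_add]
    abel

theorem mem_sq_of_D_eq_zero (y : A ⊗[k] A) (hy : Algebra.TensorProduct.lmul' k y = 0) (hDy : D y = 0) :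
    y ∈ (KaehlerDifferential.ideal k A) ^ 2 := by
  have h1 := D_eq D hD y
  rw [hDy, hy, map_zero, sub_zero] at h1
  have h2 : (KaehlerDifferential.D k A).tensorProductTo y = 0 := by
    have h3 : ((3 : ℕ) : k) • (KaehlerDifferential.D k A).tensorProductTo y = 0 := by
      rw [Nat.cast_smul_eq_nsmul]; exact h1.symm
    exact (smul_eq_zero.mp h3).resolve_left (by norm_num)
  have hyI : y ∈ KaehlerDifferential.ideal k A := hy
  have h4 := KaehlerDifferential.D_tensorProductTo (R := k) (S := A) ⟨y, hyI⟩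
  rw [h2] at h4
  exact (Ideal.toCotangent_eq_zero _ _).mp h4.symm


theorem mem_W_of_D_eq_zero (y : A ⊗[k] A) (hDy : D y = 0) : y ∈ W k A := by
  set a : A := Algebra.TensorProduct.lmul' k y with ha
  set e : A ⊗[k] A := (2 : ℕ) • (a ⊗ₜ[k] (1 : A)) + (1 : A) ⊗ₜ[k] a with he
  have heW : e ∈ W k A := e1_mem_W a
  have hme : Algebra.TensorProduct.lmul' k e = (3 : ℕ) • a := by
    rw [he, map_add, map_nsmul, Algebra.TensorProduct.lmul'_apply_tmul,
      Algebra.TensorProduct.lmul'_apply_tmul, mul_one, one_mul]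
    module
  have hDe : D e = 0 := by
    rw [D_eq D hD e, hme, he, map_add, map_nsmul, Derivation.tensorProductTo_tmul,
      Derivation.tensorProductTo_tmul, map_nsmul, Derivation.map_one_eq_zero]
    module
  set y' : A ⊗[k] A := y - (3⁻¹ : k) • e with hy'
  have hmy' : Algebra.TensorProduct.lmul' k y' = 0 := by
    rw [hy', map_sub, map_smul, hme, ← Nat.cast_smul_eq_nsmul k, smul_smul]
    have : (3⁻¹ : k) * ((3 : ℕ) : k) = 1 := by norm_num
    rw [this, one_smul, ← ha, sub_self]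
  have hDy' : D y' = 0 := by
    rw [hy', map_sub, map_smul, hDy, hDe, smul_zero, sub_zero]
  have h1 : y' ∈ W k A := sq_ideal_le_W y' (mem_sq_of_D_eq_zero D hD y' hmy' hDy')
  have h2 : y = y' + (3⁻¹ : k) • e := by rw [hy']; abel
  rw [h2]
  exact Submodule.add_mem _ h1 (Submodule.smul_mem _ _ heW)

theorem D_rA_eq_zero_of_invariant (x : A ⊗[k] (A ⊗[k] A)) (h1 : s1 k A x = x) (h2 : s2 k A x = x) :
    D (rA k A x) = 0 := by
  -- the averaging operator
  let N : A ⊗[k] (A ⊗[k] A) →ₗ[k] A ⊗[k] (A ⊗[k] A) :=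
    LinearMap.id + (s1 k A).toLinearMap + (s2 k A).toLinearMap +
      (s1 k A).toLinearMap ∘ₗ (s2 k A).toLinearMap + (s2 k A).toLinearMap ∘ₗ (s1 k A).toLinearMap +
      (s1 k A).toLinearMap ∘ₗ (s2 k A).toLinearMap ∘ₗ (s1 k A).toLinearMap
  have hN : N x = (6 : k) • x := by
    simp only [N, LinearMap.add_apply, LinearMap.id_coe, id_eq, AlgHom.toLinearMap_apply,
      LinearMap.coe_comp, Function.comp_apply, h1, h2]
    module
  have hzero : D ∘ₗ (rA k A).toLinearMap ∘ₗ N = 0 := by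
    apply TensorProduct.ext_threefold'
    intro a b c
    simp only [N, LinearMap.coe_comp, Function.comp_apply, LinearMap.add_apply, LinearMap.id_coe,
      id_eq, AlgHom.toLinearMap_apply, LinearMap.zero_apply, map_add]
    simp only [tmul_eq, map_mul, s1_i1, s1_i2, s1_i3, s2_i1, s2_i2, s2_i3, rA_i1, rA_i2, rA_i3,
      Algebra.TensorProduct.tmul_mul_tmul, mul_one, one_mul, hD, Derivation.leibniz,
      mul_one]
    module
  have h3 : D (rA k A (N x)) = 0 := by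
    have := LinearMap.congr_fun hzero x
    simpa using this
  rw [hN, map_smul, map_smul] at h3
  exact (smul_eq_zero.mp h3).resolve_left (by norm_num)

theorem D_surjective : Function.Surjective D := by
  intro ω
  obtain ⟨y, rfl⟩ := KaehlerDifferential.tensorProductTo_surjective k A ω
  refine ⟨(3⁻¹ : k) • y + (6⁻¹ : k) • ((1 : A) ⊗ₜ[k] (Algebra.TensorProduct.lmul' k y)), ?_⟩
  rw [map_add, map_smul, map_smul, D_eq D hD y, D_eq D hD ((1 : A) ⊗ₜ[k] _),
    Derivation.tensorProductTo_tmul, Algebra.TensorProduct.lmul'_apply_tmul, one_mul, one_smul]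
  set t := (KaehlerDifferential.D k A).tensorProductTo y
  set u := (KaehlerDifferential.D k A) ((Algebra.TensorProduct.lmul' k) y)
  have e3 : (3 : ℕ) • t = (3 : k) • t := by rw [← Nat.cast_smul_eq_nsmul k]; norm_num
  have e3' : (3 : ℕ) • u = (3 : k) • u := by rw [← Nat.cast_smul_eq_nsmul k]; norm_num
  rw [e3, e3']
  module

end Dmap

end Groth.Agent.R2.H94.DiagSym3
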