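import Mathlib
import Groth.Agent.R2.H94DiagSym3

/-!
# The symmetric cube, transposition invariants: restriction to the two diagonals and the map
`ψ(a ⊗ u, b ⊗ v) = 2 a du - v db`.
-/

set_option autoImplicit false

open TensorProduct

namespace Groth.Agent.R2.H94.DiagSym3b

open Groth.Agent.R2.H94.DiagSym3

variable (k : Type*) [Field k] (A : Type*) [CommRing A] [Algebra k A]

/-- restriction to the diagonal of the last two factors, repeated coordinate first: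
`a ⊗ (u ⊗ v) ↦ uv ⊗ a`. -/
noncomputable def rB : A ⊗[k] (A ⊗[k] A) →ₐ[k] A ⊗[k] A :=
  Algebra.TensorProduct.productMap (Algebra.TensorProduct.includeRight : A →ₐ[k] A ⊗[k] A)
    ((Algebra.TensorProduct.includeLeft : A →ₐ[k] A ⊗[k] A).comp (Algebra.TensorProduct.lmul' k))

variable {k A}

@[simp] theorem rB_i1 (a : A) : rB k A (i1 k A a) = 1 ⊗ₜ[k] a := by simp [rB, i1]
@[simp] theorem rB_i2 (a : A) : rB k A (i2 k A a) = a ⊗ₜ[k] 1 := by simp [rB, i2]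
@[simp] theorem rB_i3 (a : A) : rB k A (i3 k A a) = a ⊗ₜ[k] 1 := by simp [rB, i3]

variable (k A)

/-- The image of the `s2`-invariant tensors under `(rA, rB)`. -/
noncomputable def V : Submodule k ((A ⊗[k] A) × (A ⊗[k] A)) :=
  (LinearMap.eqLocus (s2 k A).toLinearMap LinearMap.id).map
    ((rA k A).toLinearMap.prod (rB k A).toLinearMap)

variable {k A}

theorem mem_V {pq : (A ⊗[k] A) × (A ⊗[k] A)} :
    pq ∈ V k A ↔ ∃ x : A ⊗[k] (A ⊗[k] A), s2 k A x = x ∧ rA k A x = pq.1 ∧ rB k A x = pq.2 := by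
  simp only [V, Submodule.mem_map, LinearMap.mem_eqLocus, AlgHom.toLinearMap_apply,
    LinearMap.id_coe, id_eq, LinearMap.prod_apply]
  constructor
  · rintro ⟨x, h1, h2⟩
    exact ⟨x, h1, congrArg Prod.fst h2, congrArg Prod.snd h2⟩
  · rintro ⟨x, h1, h2, h3⟩
    exact ⟨x, h1, Prod.ext h2 h3⟩

/-- `(a ⊗ 1, 1 ⊗ a) ∈ V`. -/
theorem base_mem_V (a : A) : ((a ⊗ₜ[k] (1 : A), (1 : A) ⊗ₜ[k] a) : (A ⊗[k] A) × (A ⊗[k] A)) ∈ V k A := by
  rw [mem_V]
  exact ⟨i1 k A a, by simp, by simp, by simp⟩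

variable [CharZero k]

/-- `(0, (c ⊗ d) g_a g_b) ∈ V`. -/
theorem zero_pure_gen_gen_mem_V (c d a b : A) :
    ((0, (c ⊗ₜ[k] d) * ((1 : A) ⊗ₜ[k] a - a ⊗ₜ[k] (1 : A)) * ((1 : A) ⊗ₜ[k] b - b ⊗ₜ[k] (1 : A))) :
      (A ⊗[k] A) × (A ⊗[k] A)) ∈ V k A := by
  rw [mem_V]
  refine ⟨(4⁻¹ : k) • ((i2 k A c + i3 k A c) * i1 k A d *
    ((i1 k A a - i2 k A a) * (i1 k A b - i3 k A b) + (i1 k A a - i3 k A a) * (i1 k A b - i2 k A b))),
    ?_, ?_, ?_⟩
  · simp only [map_smul, map_add, map_mul, map_sub, s2_i1, s2_i2, s2_i3]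
    congr 1; ring
  · simp only [map_smul, map_add, map_mul, map_sub, rA_i1, rA_i2, rA_i3]
    have : ((c ⊗ₜ[k] (1 : A) + (1 : A) ⊗ₜ[k] c) * d ⊗ₜ[k] (1 : A) *
        ((a ⊗ₜ[k] (1 : A) - a ⊗ₜ[k] (1 : A)) * (b ⊗ₜ[k] (1 : A) - (1 : A) ⊗ₜ[k] b) +
          (a ⊗ₜ[k] (1 : A) - (1 : A) ⊗ₜ[k] a) * (b ⊗ₜ[k] (1 : A) - b ⊗ₜ[k] (1 : A)))) = 0 := by
      ring
    rw [this, smul_zero]
  · simp only [map_smul, map_add, map_mul, map_sub, rB_i1, rB_i2, rB_i3]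
    have h4 : (4⁻¹ : k) • ((4 : A ⊗[k] A) * ((c ⊗ₜ[k] d) * ((1 : A) ⊗ₜ[k] a - a ⊗ₜ[k] (1 : A)) *
        ((1 : A) ⊗ₜ[k] b - b ⊗ₜ[k] (1 : A)))) =
        (c ⊗ₜ[k] d) * ((1 : A) ⊗ₜ[k] a - a ⊗ₜ[k] (1 : A)) * ((1 : A) ⊗ₜ[k] b - b ⊗ₜ[k] (1 : A)) := by
      rw [Algebra.smul_def, ← mul_assoc]
      have : (algebraMap k (A ⊗[k] A)) 4⁻¹ * 4 = 1 := by
        have : (4 : A ⊗[k] A) = algebraMap k (A ⊗[k] A) 4 :=
          (map_ofNat (algebraMap k (A ⊗[k] A)) 4).symm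
        rw [this, ← map_mul, inv_mul_cancel₀ (by norm_num : (4 : k) ≠ 0), map_one]
      rw [this, one_mul]
    rw [← h4]
    congr 1
    have hc : c ⊗ₜ[k] d = (c ⊗ₜ[k] (1 : A)) * ((1 : A) ⊗ₜ[k] d) := by simp
    rw [hc]
    ring


theorem zero_sq_mem_V (z : A ⊗[k] A) (hz : z ∈ (KaehlerDifferential.ideal k A) ^ 2) :
    ((0, z) : (A ⊗[k] A) × (A ⊗[k] A)) ∈ V k A := by
  have key : ∀ (a b : A) (w : A ⊗[k] A),
      ((0, w * (((1 : A) ⊗ₜ[k] a - a ⊗ₜ[k] (1 : A)) * ((1 : A) ⊗ₜ[k] b - b ⊗ₜ[k] (1 : A)))) :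
        (A ⊗[k] A) × (A ⊗[k] A)) ∈ V k A := by
    intro a b w
    induction w using TensorProduct.induction_on with
    | zero => rw [zero_mul]; exact Submodule.zero_mem _
    | tmul c d =>
      rw [← mul_assoc]
      exact zero_pure_gen_gen_mem_V c d a b
    | add w₁ w₂ h₁ h₂ =>
      rw [add_mul]
      have := Submodule.add_mem _ h₁ h₂
      simpa using this
  rw [pow_two, ← KaehlerDifferential.span_range_eq_ideal, Ideal.span_mul_span'] at hz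
  have : ∀ w : A ⊗[k] A, ((0, w * z) : (A ⊗[k] A) × (A ⊗[k] A)) ∈ V k A := by
    refine Submodule.span_induction
      (p := fun z _ => ∀ w : A ⊗[k] A, ((0, w * z) : (A ⊗[k] A) × (A ⊗[k] A)) ∈ V k A) ?_ ?_ ?_ ?_ hz
    · rintro _ ⟨_, ⟨a, rfl⟩, _, ⟨b, rfl⟩, rfl⟩ w
      exact key a b w
    · intro w; rw [mul_zero]; exact Submodule.zero_mem _
    · intro u v _ _ hu hv w
      rw [mul_add]
      have := Submodule.add_mem _ (hu w) (hv w)
      simpa using this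
    · intro c u _ hu w
      rw [smul_eq_mul, ← mul_assoc]; exact hu (w * c)
  simpa using this 1

/-- `((c ⊗ d) g_a, -2 (c ⊗ d) g_a) ∈ V`. -/
theorem pure_gen_mem_V (c d a : A) :
    (((c ⊗ₜ[k] d) * ((1 : A) ⊗ₜ[k] a - a ⊗ₜ[k] (1 : A)),
      (-2 : ℤ) • ((c ⊗ₜ[k] d) * ((1 : A) ⊗ₜ[k] a - a ⊗ₜ[k] (1 : A)))) :
      (A ⊗[k] A) × (A ⊗[k] A)) ∈ V k A := by
  -- x = c(t) [d(u)(a(u) - a(t)) + d(v)(a(v) - a(t))]
  have hx : (((c ⊗ₜ[k] d) * ((1 : A) ⊗ₜ[k] a - a ⊗ₜ[k] (1 : A)),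
      (-2 : ℤ) • ((c ⊗ₜ[k] d) * ((1 : A) ⊗ₜ[k] a - a ⊗ₜ[k] (1 : A))) +
        (2 : ℤ) • ((a ⊗ₜ[k] (1 : A) - (1 : A) ⊗ₜ[k] a) * (d ⊗ₜ[k] c - c ⊗ₜ[k] d))) :
      (A ⊗[k] A) × (A ⊗[k] A)) ∈ V k A := by
    rw [mem_V]
    refine ⟨i1 k A c * (i2 k A d * (i2 k A a - i1 k A a) + i3 k A d * (i3 k A a - i1 k A a)),
      ?_, ?_, ?_⟩
    · simp only [map_add, map_mul, map_sub, s2_i1, s2_i2, s2_i3]
      ring
    · simp only [map_add, map_mul, map_sub, rA_i1, rA_i2, rA_i3]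
      have hc : c ⊗ₜ[k] d = (c ⊗ₜ[k] (1 : A)) * ((1 : A) ⊗ₜ[k] d) := by simp
      rw [hc]
      ring
    · simp only [map_add, map_mul, map_sub, rB_i1, rB_i2, rB_i3]
      have hc : c ⊗ₜ[k] d = (c ⊗ₜ[k] (1 : A)) * ((1 : A) ⊗ₜ[k] d) := by simp
      have hd : d ⊗ₜ[k] c = (d ⊗ₜ[k] (1 : A)) * ((1 : A) ⊗ₜ[k] c) := by simp
      rw [hc, hd]
      simp only [zsmul_eq_mul, Int.cast_neg, Int.cast_ofNat]
      ring
  have hz : (2 : ℤ) • ((a ⊗ₜ[k] (1 : A) - (1 : A) ⊗ₜ[k] a) * (d ⊗ₜ[k] c - c ⊗ₜ[k] d)) ∈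
      (KaehlerDifferential.ideal k A) ^ 2 := by
    refine Submodule.smul_of_tower_mem _ _ ?_
    rw [pow_two]
    refine Ideal.mul_mem_mul ?_ ?_
    · simp [RingHom.mem_ker]
    · simp [RingHom.mem_ker, mul_comm]
  have := Submodule.sub_mem _ hx (zero_sq_mem_V _ hz)
  simpa using this


theorem ideal_mem_V (p : A ⊗[k] A) (hp : p ∈ KaehlerDifferential.ideal k A) :
    ((p, (-2 : ℤ) • p) : (A ⊗[k] A) × (A ⊗[k] A)) ∈ V k A := by
  have key : ∀ (a : A) (w : A ⊗[k] A),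
      ((w * ((1 : A) ⊗ₜ[k] a - a ⊗ₜ[k] (1 : A)), (-2 : ℤ) • (w * ((1 : A) ⊗ₜ[k] a - a ⊗ₜ[k] (1 : A)))) :
        (A ⊗[k] A) × (A ⊗[k] A)) ∈ V k A := by
    intro a w
    induction w using TensorProduct.induction_on with
    | zero => rw [zero_mul, smul_zero]; exact (V k A).zero_mem
    | tmul c d => exact pure_gen_mem_V c d a
    | add w₁ w₂ h₁ h₂ =>
      rw [add_mul, smul_add]
      have := Submodule.add_mem _ h₁ h₂
      simpa using this
  rw [← KaehlerDifferential.span_range_eq_ideal] at hp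
  have : ∀ w : A ⊗[k] A, ((w * p, (-2 : ℤ) • (w * p)) : (A ⊗[k] A) × (A ⊗[k] A)) ∈ V k A := by
    refine Submodule.span_induction
      (p := fun p _ => ∀ w : A ⊗[k] A,
        ((w * p, (-2 : ℤ) • (w * p)) : (A ⊗[k] A) × (A ⊗[k] A)) ∈ V k A) ?_ ?_ ?_ ?_ hp
    · rintro _ ⟨a, rfl⟩ w
      exact key a w
    · intro w; rw [mul_zero, smul_zero]; exact (V k A).zero_mem
    · intro u v _ _ hu hv w
      rw [mul_add, smul_add]
      have := Submodule.add_mem _ (hu w) (hv w)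
      simpa using this
    · intro c u _ hu w
      rw [smul_eq_mul, ← mul_assoc]; exact hu (w * c)
  simpa using this 1

section Psi

variable (ψ : (A ⊗[k] A) × (A ⊗[k] A) →ₗ[k] Ω[A⁄k])
  (hψ : ∀ a u b v : A, ψ (a ⊗ₜ[k] u, b ⊗ₜ[k] v) =
    (2 : A) • (a • KaehlerDifferential.D k A u) - v • KaehlerDifferential.D k A b)

include hψ

theorem psi_eq (p q : A ⊗[k] A) :
    ψ (p, q) = (2 : ℕ) • (KaehlerDifferential.D k A).tensorProductTo p +
      (KaehlerDifferential.D k A).tensorProductTo q -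
      KaehlerDifferential.D k A (Algebra.TensorProduct.lmul' k q) := by
  have h1 : ∀ p : A ⊗[k] A, ψ (p, 0) = (2 : ℕ) • (KaehlerDifferential.D k A).tensorProductTo p := by
    intro p
    induction p using TensorProduct.induction_on with
    | zero => rw [map_zero, smul_zero]; exact map_zero ψ
    | tmul a u =>
      have := hψ a u 0 0
      rw [TensorProduct.zero_tmul] at this
      rw [this, Derivation.tensorProductTo_tmul, map_zero]
      module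
    | add p₁ p₂ h₁ h₂ =>
      have : ((p₁ + p₂, 0) : (A ⊗[k] A) × (A ⊗[k] A)) = (p₁, 0) + (p₂, 0) := by simp
      rw [this, map_add, h₁, h₂, map_add, smul_add]
  have h2 : ∀ q : A ⊗[k] A, ψ (0, q) = (KaehlerDifferential.D k A).tensorProductTo q -
      KaehlerDifferential.D k A (Algebra.TensorProduct.lmul' k q) := by
    intro q
    induction q using TensorProduct.induction_on with
    | zero => rw [map_zero, map_zero, map_zero, sub_zero]; exact map_zero ψ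
    | tmul b v =>
      have := hψ 0 0 b v
      rw [TensorProduct.zero_tmul] at this
      rw [this, Derivation.tensorProductTo_tmul, Algebra.TensorProduct.lmul'_apply_tmul,
        Derivation.leibniz, map_zero]
      module
    | add q₁ q₂ h₁ h₂ =>
      have : ((0, q₁ + q₂) : (A ⊗[k] A) × (A ⊗[k] A)) = (0, q₁) + (0, q₂) := by simp
      rw [this, map_add, h₁, h₂, map_add, map_add, map_add]
      abel
  have : ((p, q) : (A ⊗[k] A) × (A ⊗[k] A)) = (p, 0) + (0, q) := by simp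
  rw [this, map_add, h1, h2]
  abel

theorem mem_V_of_psi_eq_zero (p q : A ⊗[k] A)
    (hm : Algebra.TensorProduct.lmul' k p = Algebra.TensorProduct.lmul' k q)
    (h0 : ψ (p, q) = 0) : ((p, q) : (A ⊗[k] A) × (A ⊗[k] A)) ∈ V k A := by
  set a : A := Algebra.TensorProduct.lmul' k p with ha
  set p' : A ⊗[k] A := p - a ⊗ₜ[k] (1 : A) with hp'
  set q' : A ⊗[k] A := q - (1 : A) ⊗ₜ[k] a with hq'
  have hmp' : Algebra.TensorProduct.lmul' k p' = 0 := by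
    rw [hp', map_sub, Algebra.TensorProduct.lmul'_apply_tmul, mul_one, sub_self]
  have hmq' : Algebra.TensorProduct.lmul' k q' = 0 := by
    rw [hq', map_sub, Algebra.TensorProduct.lmul'_apply_tmul, one_mul, ← hm, sub_self]
  have hψ' : ψ (p', q') = 0 := by
    have : ((p', q') : (A ⊗[k] A) × (A ⊗[k] A)) = (p, q) - (a ⊗ₜ[k] (1 : A), (1 : A) ⊗ₜ[k] a) := by
      simp [hp', hq']
    rw [this, map_sub, h0, psi_eq ψ hψ, Derivation.tensorProductTo_tmul,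
      Derivation.tensorProductTo_tmul, Algebra.TensorProduct.lmul'_apply_tmul]
    simp
  -- z = q' + 2 p' ∈ I²
  have hz : q' + (2 : ℕ) • p' ∈ (KaehlerDifferential.ideal k A) ^ 2 := by
    have hzI : q' + (2 : ℕ) • p' ∈ KaehlerDifferential.ideal k A := by
      show Algebra.TensorProduct.lmul' k (q' + (2 : ℕ) • p') = 0
      rw [map_add, map_nsmul, hmp', hmq', smul_zero, add_zero]
    have h4 := KaehlerDifferential.D_tensorProductTo (R := k) (S := A) ⟨_, hzI⟩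
    have h5 : (KaehlerDifferential.D k A).tensorProductTo (q' + (2 : ℕ) • p') = 0 := by
      have := psi_eq ψ hψ p' q'
      rw [hψ', hmq', map_zero, sub_zero] at this
      rw [map_add, map_nsmul, add_comm]
      exact this.symm
    rw [h5] at h4
    exact (Ideal.toCotangent_eq_zero _ _).mp h4.symm
  have e : ((p, q) : (A ⊗[k] A) × (A ⊗[k] A)) =
      (a ⊗ₜ[k] (1 : A), (1 : A) ⊗ₜ[k] a) + ((p', (-2 : ℤ) • p') + (0, q' + (2 : ℕ) • p')) := by
    ext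
    · simp [hp']
    · simp only [hq', hp', Prod.snd_add]
      module
  rw [e]
  exact Submodule.add_mem _ (base_mem_V a)
    (Submodule.add_mem _ (ideal_mem_V p' hmp') (zero_sq_mem_V _ hz))


theorem psi_eq_zero_of_invariant (x : A ⊗[k] (A ⊗[k] A)) (h2 : s2 k A x = x) :
    ψ (rA k A x, rB k A x) = 0 := by
  let N : A ⊗[k] (A ⊗[k] A) →ₗ[k] A ⊗[k] (A ⊗[k] A) := LinearMap.id + (s2 k A).toLinearMap
  have hN : N x = (2 : k) • x := by
    simp only [N, LinearMap.add_apply, LinearMap.id_coe, id_eq, AlgHom.toLinearMap_apply, h2]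
    module
  have hzero : ψ ∘ₗ ((rA k A).toLinearMap.prod (rB k A).toLinearMap) ∘ₗ N = 0 := by
    apply TensorProduct.ext_threefold'
    intro a b c
    show ψ (rA k A (a ⊗ₜ[k] (b ⊗ₜ[k] c) + s2 k A (a ⊗ₜ[k] (b ⊗ₜ[k] c))),
      rB k A (a ⊗ₜ[k] (b ⊗ₜ[k] c) + s2 k A (a ⊗ₜ[k] (b ⊗ₜ[k] c)))) = 0
    rw [psi_eq ψ hψ]
    simp only [map_add, tmul_eq, map_mul, s2_i1, s2_i2, s2_i3, rA_i1, rA_i2, rA_i3,
      rB_i1, rB_i2, rB_i3,
      Algebra.TensorProduct.tmul_mul_tmul, mul_one, one_mul, Derivation.tensorProductTo_tmul,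
      Algebra.TensorProduct.lmul'_apply_tmul, Derivation.leibniz]
    module
  have h3 : ψ (rA k A (N x), rB k A (N x)) = 0 := by
    exact LinearMap.congr_fun hzero x
  rw [hN, map_smul, map_smul] at h3
  have : ((2 : k) • rA k A x, (2 : k) • rB k A x) = (2 : k) • ((rA k A x, rB k A x) :
      (A ⊗[k] A) × (A ⊗[k] A)) := by simp
  rw [this, map_smul] at h3
  exact (smul_eq_zero.mp h3).resolve_left (by norm_num)

theorem exists_psi_eq (ω : Ω[A⁄k]) : ∃ p q : A ⊗[k] A,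
    Algebra.TensorProduct.lmul' k p = Algebra.TensorProduct.lmul' k q ∧ ψ (p, q) = ω := by
  obtain ⟨p₀, rfl⟩ := Ideal.toCotangent_surjective (KaehlerDifferential.ideal k A) ω
  refine ⟨(2⁻¹ : k) • (p₀ : A ⊗[k] A), 0, ?_, ?_⟩
  · rw [map_smul, map_zero]
    have : Algebra.TensorProduct.lmul' k (p₀ : A ⊗[k] A) = 0 := p₀.2
    rw [this, smul_zero]
  · have : (((2⁻¹ : k) • (p₀ : A ⊗[k] A), 0) : (A ⊗[k] A) × (A ⊗[k] A)) =
        (2⁻¹ : k) • (((p₀ : A ⊗[k] A), 0) : (A ⊗[k] A) × (A ⊗[k] A)) := by simp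
    rw [this, map_smul, psi_eq ψ hψ, map_zero, map_zero, map_zero, add_zero, sub_zero,
      KaehlerDifferential.D_tensorProductTo, ← Nat.cast_smul_eq_nsmul k, smul_smul]
    have : (2⁻¹ : k) * ((2 : ℕ) : k) = 1 := by norm_num
    rw [this, one_smul]

end Psi

end Groth.Agent.R2.H94.DiagSym3b
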