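import Mathlib
import Groth.Prelude.Def_Wider
import Groth.Agent.S6965
import Groth.Agent.S1746

/-!
# Ext modules into a dualizing complex over a Noetherian local ring (helper94)

For a Noetherian local ring `A` and `ω : D(A)` we write `E^i(M) = Hom_{D(A)}(M[0], ω[i])`.

* `finite_hom_dualizing`: `E^i(M)` is a finite `A`-module for finite `M` (wraps S6965 + S1746).
* `subsingleton_hom_of_residue`: vanishing propagation: if `E^i(k) = 0` for all `i` in an upward
  closed set `S` of degrees then `E^i(M) = 0` for all finite `M` and `i ∈ S`.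
-/
set_option autoImplicit false
universe u
open CategoryTheory CategoryTheory.Limits
attribute [local instance] HasDerivedCategory.standard

namespace Groth.Agent.R2.H94.DualExt

open DerivedCategory Pretriangulated Dual

variable {A : Type u} [CommRing A]

/-- the zero module has no maps to anything -/
lemma subsingleton_hom_of_subsingleton (M : Type u) [AddCommGroup M] [Module A M] [Subsingleton M]
    (Y : Dual.D A) : Subsingleton (Dual.inD A M ⟶ Y) := by
  have hz : IsZero (Dual.inD A M) :=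
    (DerivedCategory.singleFunctor (ModuleCat.{u} A) 0).map_isZero
      (ModuleCat.isZero_of_subsingleton (ModuleCat.of A M))
  exact ⟨fun f g => hz.eq_of_src f g⟩

/-- invariance under linear equivalences -/
lemma subsingleton_hom_of_linearEquiv {M M' : Type u} [AddCommGroup M] [Module A M]
    [AddCommGroup M'] [Module A M'] (e : M ≃ₗ[A] M') (Y : Dual.D A)
    (h : Subsingleton (Dual.inD A M ⟶ Y)) : Subsingleton (Dual.inD A M' ⟶ Y) := by
  let e' : Dual.inD A M ≅ Dual.inD A M' :=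
    (DerivedCategory.singleFunctor (ModuleCat.{u} A) 0).mapIso e.toModuleIso
  refine ⟨fun f g => ?_⟩
  have := h.elim (e'.hom ≫ f) (e'.hom ≫ g)
  exact (cancel_epi e'.hom).1 this

section ses

variable {N₁ N₂ N₃ : Type u} [AddCommGroup N₁] [Module A N₁] [AddCommGroup N₂] [Module A N₂]
  [AddCommGroup N₃] [Module A N₃] (f : N₁ →ₗ[A] N₂) (g : N₂ →ₗ[A] N₃)
  (hf : Function.Injective f) (hg : Function.Surjective g) (hfg : Function.Exact f g)

include hf hg hfg

/-- the distinguished triangle of a short exact sequence of modules -/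
lemma exists_triangle : ∃ δ : Dual.inD A N₃ ⟶ (Dual.inD A N₁)⟦(1 : ℤ)⟧,
    Triangle.mk ((DerivedCategory.singleFunctor (ModuleCat.{u} A) 0).map (ModuleCat.ofHom f))
      ((DerivedCategory.singleFunctor (ModuleCat.{u} A) 0).map (ModuleCat.ofHom g)) δ ∈
      distTriang (Dual.D A) := by
  have hS : (ModuleCat.shortComplexOfCompEqZero f g hfg.linearMap_comp_eq_zero).ShortExact :=
    ModuleCat.shortComplex_shortExact _ hfg hf hg
  exact ⟨hS.singleδ, hS.singleTriangle_distinguished⟩

/-- middle term of a short exact sequence -/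
lemma subsingleton_hom_mid (Y : Dual.D A) (h1 : Subsingleton (Dual.inD A N₁ ⟶ Y))
    (h3 : Subsingleton (Dual.inD A N₃ ⟶ Y)) : Subsingleton (Dual.inD A N₂ ⟶ Y) := by
  obtain ⟨δ, hT⟩ := exists_triangle f g hf hg hfg
  have key : ∀ φ : Dual.inD A N₂ ⟶ Y, φ = 0 := by
    intro φ
    obtain ⟨ψ, hψ⟩ := Triangle.yoneda_exact₂ _ hT φ (h1.elim _ _)
    have hψ0 : ψ = 0 := h3.elim _ _
    rw [hψ, hψ0]
    exact comp_zero
  exact ⟨fun a b => by rw [key a, key b]⟩

end ses

/-- **Nakayama step**: in a distinguished triangle `X --x--> X --> Z --> X[1]` with `x` in the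
maximal ideal, if `Hom(X, Y)` is a finite module and `Hom(Z, Y[1]) = 0` then `Hom(X, Y) = 0`. -/
lemma subsingleton_hom_of_smul_triangle [IsLocalRing A] {X Z Y : Dual.D A} (x : A)
    (hx : x ∈ IsLocalRing.maximalIdeal A) (g : X ⟶ Z) (δ : Z ⟶ X⟦(1 : ℤ)⟧)
    (hT : Triangle.mk (x • 𝟙 X) g δ ∈ distTriang (Dual.D A))
    (hfin : Module.Finite A (X ⟶ Y)) (hZ : Subsingleton (Z ⟶ Y⟦(1 : ℤ)⟧)) :
    Subsingleton (X ⟶ Y) := by
  have key : ∀ φ : X ⟶ Y, ∃ φ' : X ⟶ Y, φ = x • φ' := by
    intro φ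
    have hrot := rot_of_distTriang _ hT
    have h0 : δ ≫ φ⟦(1 : ℤ)⟧' = 0 := hZ.elim _ _
    obtain ⟨ψ, hψ⟩ := Triangle.yoneda_exact₃ _ hrot (φ⟦(1 : ℤ)⟧') h0
    have hψ2 : φ⟦(1 : ℤ)⟧' = (-(x • 𝟙 X)⟦(1 : ℤ)⟧') ≫ ψ := hψ
    obtain ⟨ψ', hψ'⟩ : ∃ ψ' : X ⟶ Y, ψ'⟦(1 : ℤ)⟧' = ψ :=
      (shiftFunctor (Dual.D A) (1 : ℤ)).map_surjective ψ
    refine ⟨-ψ', ?_⟩
    apply (shiftFunctor (Dual.D A) (1 : ℤ)).map_injective
    rw [hψ2, ← hψ']
    simp [Functor.map_smul]
  have htop : (⊤ : Submodule A (X ⟶ Y)) = ⊥ := by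
    apply Submodule.eq_bot_of_le_smul_of_le_jacobson_bot (IsLocalRing.maximalIdeal A) ⊤ hfin.1 ?_ ?_
    · intro φ _
      obtain ⟨φ', rfl⟩ := key φ
      exact Submodule.smul_mem_smul hx Submodule.mem_top
    · rw [IsLocalRing.jacobson_eq_maximalIdeal ⊥ bot_ne_top]
  refine ⟨fun a b => ?_⟩
  have ha : a ∈ (⊤ : Submodule A (X ⟶ Y)) := Submodule.mem_top
  have hb : b ∈ (⊤ : Submodule A (X ⟶ Y)) := Submodule.mem_top
  rw [htop] at ha hb
  rw [(Submodule.mem_bot A).1 ha, (Submodule.mem_bot A).1 hb]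

/-- Nakayama step for a module and a regular element of the maximal ideal. -/
lemma subsingleton_hom_of_regular [IsLocalRing A] (M : Type u) [AddCommGroup M] [Module A M]
    (x : A) (hx : x ∈ IsLocalRing.maximalIdeal A) (hreg : IsSMulRegular M x) (Y : Dual.D A)
    (hfin : Module.Finite A (Dual.inD A M ⟶ Y))
    (hQ : Subsingleton (Dual.inD A (QuotSMulTop x M) ⟶ Y⟦(1 : ℤ)⟧)) :
    Subsingleton (Dual.inD A M ⟶ Y) := by
  set f : M →ₗ[A] M := (x • 𝟙 (ModuleCat.of A M) : ModuleCat.of A M ⟶ ModuleCat.of A M).hom with hf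
  have hfx : ∀ m : M, f m = x • m := fun m => by simp [hf]
  set g : M →ₗ[A] QuotSMulTop x M := Submodule.mkQ _ with hg
  have hinj : Function.Injective f := by
    intro a b hab
    rw [hfx, hfx] at hab
    exact hreg hab
  have hsurj : Function.Surjective g := Submodule.mkQ_surjective _
  have hex : Function.Exact f g := by
    intro y
    rw [hg, Submodule.mkQ_apply, Submodule.Quotient.mk_eq_zero,
      Submodule.mem_smul_pointwise_iff_exists]
    constructor
    · rintro ⟨z, -, rfl⟩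
      exact ⟨z, hfx z⟩
    · rintro ⟨z, rfl⟩
      exact ⟨z, Submodule.mem_top, (hfx z).symm⟩
  obtain ⟨δ, hT⟩ := exists_triangle f g hinj hsurj hex
  have hmap : (DerivedCategory.singleFunctor (ModuleCat.{u} A) 0).map (ModuleCat.ofHom f) =
      x • 𝟙 (Dual.inD A M) := by
    rw [hf, ModuleCat.ofHom_hom, Functor.map_smul, CategoryTheory.Functor.map_id]
  rw [hmap] at hT
  exact subsingleton_hom_of_smul_triangle x hx _ δ hT hfin hQ

lemma subsingleton_hom_of_iso_right {X Y Y' : Dual.D A} (e : Y ≅ Y')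
    (h : Subsingleton (X ⟶ Y)) : Subsingleton (X ⟶ Y') := by
  refine ⟨fun f g => ?_⟩
  have := h.elim (f ≫ e.inv) (g ≫ e.inv)
  exact (cancel_mono e.inv).1 this

lemma subsingleton_hom_of_iso_left {X X' Y : Dual.D A} (e : X ≅ X')
    (h : Subsingleton (X ⟶ Y)) : Subsingleton (X' ⟶ Y) := by
  refine ⟨fun f g => ?_⟩
  have := h.elim (e.hom ≫ f) (e.hom ≫ g)
  exact (cancel_epi e.hom).1 this

/-- `Hom(X, ω[i+1]) = 0` gives `Hom(X, ω[i][1]) = 0` -/
lemma subsingleton_hom_shift_succ {X ω : Dual.D A} (i : ℤ)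
    (h : Subsingleton (X ⟶ ω⟦i + 1⟧)) : Subsingleton (X ⟶ (ω⟦i⟧)⟦(1 : ℤ)⟧) :=
  subsingleton_hom_of_iso_right ((shiftFunctorAdd' (Dual.D A) i 1 (i + 1) rfl).app ω) h

/-- **Vanishing propagation.**  Let `A` be a Noetherian local ring with residue field `k` and
`ω ∈ D(A)` such that all `Hom(M[0], ω[i])` are finite modules for finite `M`.  If `S` is an
upward closed set of degrees and `Hom(k[0], ω[i]) = 0` for all `i ∈ S`, then
`Hom(M[0], ω[i]) = 0` for all finite `M` and all `i ∈ S`. -/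
theorem subsingleton_hom_of_residue [IsLocalRing A] [IsNoetherianRing A] (ω : Dual.D A)
    (hfin : ∀ (M : Type u) [AddCommGroup M] [Module A M] [Module.Finite A M] (i : ℤ),
      Module.Finite A (Dual.inD A M ⟶ ω⟦i⟧))
    (S : Set ℤ) (hS : ∀ i ∈ S, i + 1 ∈ S)
    (hk : ∀ i ∈ S, Subsingleton (Dual.inD A (A ⧸ IsLocalRing.maximalIdeal A) ⟶ ω⟦i⟧))
    (M : Type u) [AddCommGroup M] [Module A M] [Module.Finite A M] (i : ℤ) (hi : i ∈ S) :
    Subsingleton (Dual.inD A M ⟶ ω⟦i⟧) := by
  classical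
  -- the statement for modules killed by an ideal
  have main : ∀ I : Ideal A, ∀ (N : Type u) [AddCommGroup N] [Module A N] [Module.Finite A N],
      (∀ a ∈ I, ∀ n : N, a • n = 0) → ∀ i ∈ S, Subsingleton (Dual.inD A N ⟶ ω⟦i⟧) := by
    intro I
    induction I using IsNoetherian.induction with
    | _ I IH =>
    intro N _ _ hNfin
    refine IsNoetherianRing.induction_on_isQuotientEquivQuotientPrime A hNfin
      (motive := fun (N' : Type u) [AddCommGroup N'] [Module A N'] [Module.Finite A N'] =>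
        (∀ a ∈ I, ∀ n : N', a • n = 0) → ∀ i ∈ S, Subsingleton (Dual.inD A N' ⟶ ω⟦i⟧)) ?_ ?_ ?_
    · intro N' _ _ _ _ _ j _
      exact subsingleton_hom_of_subsingleton N' _
    · intro N' _ _ _ p e hkill j hj
      have hIp : I ≤ p.asIdeal := by
        intro a ha
        have h1 := hkill a ha (e.symm 1)
        rw [← map_smul, LinearEquiv.map_eq_zero_iff] at h1
        have h2 : Ideal.Quotient.mk p.asIdeal a = 0 := by
          have : a • (1 : A ⧸ p.asIdeal) = Ideal.Quotient.mk p.asIdeal a := by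
            rw [Algebra.smul_def, mul_one]
            rfl
          rw [← this]
          exact h1
        exact Ideal.Quotient.eq_zero_iff_mem.1 h2
      have hpkill : ∀ a ∈ p.asIdeal, ∀ n : N', a • n = 0 := by
        intro a ha n
        have : e (a • n) = 0 := by
          rw [map_smul]
          obtain ⟨b, hb⟩ := Ideal.Quotient.mk_surjective (e n)
          rw [← hb, Algebra.smul_def]
          have : algebraMap A (A ⧸ p.asIdeal) a = 0 := Ideal.Quotient.eq_zero_iff_mem.2 ha
          rw [this, zero_mul]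
        exact (LinearEquiv.map_eq_zero_iff e).1 this
      rcases lt_or_eq_of_le hIp with hlt | heq
      · exact IH p.asIdeal hlt N' hpkill j hj
      · -- `I = p`
        by_cases hpm : p.asIdeal = IsLocalRing.maximalIdeal A
        · have e2 : (A ⧸ IsLocalRing.maximalIdeal A) ≃ₗ[A] N' :=
            (Submodule.quotEquivOfEq _ _ hpm.symm).trans e.symm
          exact subsingleton_hom_of_linearEquiv e2 _ (hk j hj)
        · have hple : p.asIdeal ≤ IsLocalRing.maximalIdeal A :=
            IsLocalRing.le_maximalIdeal p.2.ne_top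
          obtain ⟨x, hxm, hxp⟩ := SetLike.exists_of_lt (lt_of_le_of_ne hple hpm)
          -- regularity of `x` on `A ⧸ p`
          have hreg : IsSMulRegular (A ⧸ p.asIdeal) x := by
            intro a b hab
            have h1 : Ideal.Quotient.mk p.asIdeal x * (a - b) = 0 := by
              have h2 : x • a = x • b := hab
              rw [Algebra.smul_def, Algebra.smul_def] at h2
              rw [mul_sub]
              exact sub_eq_zero.2 h2
            have hx0 : Ideal.Quotient.mk p.asIdeal x ≠ 0 := fun h =>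
              hxp (Ideal.Quotient.eq_zero_iff_mem.1 h)
            haveI := p.2
            rcases mul_eq_zero.1 h1 with h | h
            · exact absurd h hx0
            · exact sub_eq_zero.1 h
          -- the quotient is killed by a bigger ideal
          have hJ : I < p.asIdeal ⊔ Ideal.span {x} := by
            rw [heq]
            refine lt_of_le_of_ne le_sup_left ?_
            intro h
            apply hxp
            rw [h]
            exact Ideal.mem_sup_right (Ideal.mem_span_singleton_self x)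
          have hQkill : ∀ a ∈ p.asIdeal ⊔ Ideal.span {x},
              ∀ n : QuotSMulTop x (A ⧸ p.asIdeal), a • n = 0 := by
            intro a ha n
            obtain ⟨n, rfl⟩ := Submodule.mkQ_surjective _ n
            obtain ⟨b, hb, c, hc, rfl⟩ := Submodule.mem_sup.1 ha
            obtain ⟨d, rfl⟩ := Ideal.mem_span_singleton'.1 hc
            rw [← map_smul, Submodule.mkQ_apply, Submodule.Quotient.mk_eq_zero,
              Submodule.mem_smul_pointwise_iff_exists]
            refine ⟨d • n, Submodule.mem_top, ?_⟩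
            rw [add_smul]
            have hb0 : b • n = 0 := by
              obtain ⟨n', rfl⟩ := Ideal.Quotient.mk_surjective n
              rw [Algebra.smul_def]
              have : algebraMap A (A ⧸ p.asIdeal) b = 0 := Ideal.Quotient.eq_zero_iff_mem.2 hb
              rw [this, zero_mul]
            rw [hb0, zero_add, mul_smul, smul_comm]
          have hQ := IH _ hJ (QuotSMulTop x (A ⧸ p.asIdeal)) hQkill (j + 1) (hS j hj)
          have h3 := subsingleton_hom_of_regular (A ⧸ p.asIdeal) x hxm hreg (ω⟦j⟧)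
            (hfin (A ⧸ p.asIdeal) j) (subsingleton_hom_shift_succ j hQ)
          exact subsingleton_hom_of_linearEquiv e.symm _ h3
    · intro N₁ _ _ _ N₂ _ _ _ N₃ _ _ _ f g hf hg hfg h1 h3 hkill j hj
      have hk1 : ∀ a ∈ I, ∀ n : N₁, a • n = 0 := by
        intro a ha n
        apply hf
        rw [map_smul, map_zero]
        exact hkill a ha (f n)
      have hk3 : ∀ a ∈ I, ∀ n : N₃, a • n = 0 := by
        intro a ha n
        obtain ⟨n', rfl⟩ := hg n
        rw [← map_smul, hkill a ha n', map_zero]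
      exact subsingleton_hom_mid f g hf hg hfg _ (h1 hk1 j hj) (h3 hk3 j hj)
  exact main ⊥ M (fun a ha n => by rw [(Submodule.mem_bot A).1 ha, zero_smul]) i hi

/-- cohomology of a module placed in degree `0` -/
lemma finite_HD_inD (M : Type u) [AddCommGroup M] [Module A M] [Module.Finite A M] (i : ℤ) :
    Module.Finite A (Dual.HD A (Dual.inD A M) i) := by
  by_cases hi : i = 0
  · subst hi
    let e : (homologyFunctor (ModuleCat.{u} A) 0).obj
        ((DerivedCategory.singleFunctor (ModuleCat.{u} A) 0).obj (ModuleCat.of A M)) ≅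
        ModuleCat.of A M :=
      (singleFunctorCompHomologyFunctorIso (ModuleCat.{u} A) 0).app (ModuleCat.of A M)
    exact Module.Finite.equiv e.symm.toLinearEquiv
  · have hz : IsZero ((homologyFunctor (ModuleCat.{u} A) i).obj (Dual.inD A M)) := by
      rcases lt_or_gt_of_ne hi with h | h
      · exact isZero_of_isGE _ 0 i h
      · exact isZero_of_isLE _ 0 i h
    have := ModuleCat.subsingleton_of_isZero hz
    infer_instance

lemma hasFiniteInjDim_of_isDualizing (ω : Dual.D A) (hω : Dual.IsDualizing A ω) :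
    DRing.HasFiniteInjDim A ω := by
  obtain ⟨a, b, h⟩ := hω.finite_injective_dimension
  exact ⟨a, b, ((Groth.Agent.S6965.result A ω a b).out 1 0).1 (fun N i1 i2 i hi => @h N i1 i2 i hi)⟩

/-- `Hom(K, ω[i])` is a finite module when `K` has finite cohomology modules -/
lemma finite_hom_dualizing' [IsNoetherianRing A] (ω : Dual.D A) (hω : Dual.IsDualizing A ω)
    (K : Dual.D A) (hK : ∀ i : ℤ, Module.Finite A (Dual.HD A K i)) (i : ℤ) :
    Module.Finite A (K ⟶ ω⟦i⟧) :=
  Groth.Agent.S1746.result A K ω hK hω.finite_cohomology (hasFiniteInjDim_of_isDualizing ω hω) i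

/-- `E^i(M) = Hom(M[0], ω[i])` is a finite module for a finite module `M` -/
lemma finite_hom_dualizing [IsNoetherianRing A] (ω : Dual.D A) (hω : Dual.IsDualizing A ω)
    (M : Type u) [AddCommGroup M] [Module A M] [Module.Finite A M] (i : ℤ) :
    Module.Finite A (Dual.inD A M ⟶ ω⟦i⟧) :=
  finite_hom_dualizing' ω hω _ (finite_HD_inD M) i

/-- the residue field as a quotient module -/
noncomputable def residueEquiv [IsLocalRing A] :
    (A ⧸ IsLocalRing.maximalIdeal A) ≃ₗ[A] IsLocalRing.ResidueField A :=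
  LinearEquiv.refl A _

/-- **Vanishing in positive degrees** for a normalized dualizing complex. -/
theorem subsingleton_hom_pos [IsLocalRing A] [IsNoetherianRing A] (ω : Dual.D A)
    (hω : Dual.IsDualizing A ω) (hn : Dual.IsNormalized A ω)
    (M : Type u) [AddCommGroup M] [Module A M] [Module.Finite A M] (i : ℤ) (hi : 0 < i) :
    Subsingleton (Dual.inD A M ⟶ ω⟦i⟧) := by
  refine subsingleton_hom_of_residue ω (fun M _ _ _ i => finite_hom_dualizing ω hω M i)
    {j | 0 < j} (fun j (hj : 0 < j) => show 0 < j + 1 by omega) ?_ M i hi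
  intro j (hj : 0 < j)
  exact subsingleton_hom_of_linearEquiv residueEquiv.symm _ (hn j (by omega))

/-- **Nonvanishing.**  For a dualizing complex `ω` over a Noetherian local ring some
`Hom(k[0], ω[i])` is nonzero (otherwise `ω = 0` by vanishing propagation and the injective
amplitude criterion, contradicting `A ≃ End ω`). -/
theorem exists_hom_residue_nontrivial [IsLocalRing A] [IsNoetherianRing A] (ω : Dual.D A)
    (hω : Dual.IsDualizing A ω) :
    ∃ i : ℤ, Nontrivial (Dual.inD A (A ⧸ IsLocalRing.maximalIdeal A) ⟶ ω⟦i⟧) := by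
  by_contra hno
  have hk : ∀ i : ℤ, Subsingleton (Dual.inD A (A ⧸ IsLocalRing.maximalIdeal A) ⟶ ω⟦i⟧) := by
    intro i
    by_contra h
    exact hno ⟨i, not_subsingleton_iff_nontrivial.1 h⟩
  have hall : ∀ (M : Type u) [AddCommGroup M] [Module A M] [Module.Finite A M] (i : ℤ),
      Subsingleton (Dual.inD A M ⟶ ω⟦i⟧) := fun M _ _ _ i =>
    subsingleton_hom_of_residue ω (fun M _ _ _ i => finite_hom_dualizing ω hω M i)
      Set.univ (fun _ _ => Set.mem_univ _) (fun j _ => hk j) M i (Set.mem_univ _)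
  -- hence `ω` has injective amplitude in `[1, 0]`, so `ω = 0`
  have hamp : DRing.HasInjAmplitudeIn A 1 0 ω :=
    ((Groth.Agent.S6965.result A ω 1 0).out 2 0).1 (fun I i _ => hall (A ⧸ I) i)
  obtain ⟨E, hE, -, ⟨e⟩⟩ := hamp
  have hEz : IsZero E := by
    rw [IsZero.iff_id_eq_zero]
    apply HomologicalComplex.hom_ext
    intro n
    exact (hE n (by omega)).eq_of_src _ _
  have hωz : IsZero ω := (DerivedCategory.Q.map_isZero hEz).of_iso e.symm
  -- contradiction with `A ≃ End ω`
  have h1 := hω.toEnd_bijective.1 (a₁ := (1 : A)) (a₂ := 0) (hωz.eq_of_src _ _)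
  exact one_ne_zero h1

/-- extension along the first map of a distinguished triangle when `Hom(X₃, Y[1]) = 0` -/
lemma exists_extension_of_triangle {X₁ X₂ X₃ Y : Dual.D A} (f : X₁ ⟶ X₂) (g : X₂ ⟶ X₃)
    (δ : X₃ ⟶ X₁⟦(1 : ℤ)⟧) (hT : Triangle.mk f g δ ∈ distTriang (Dual.D A))
    (h : Subsingleton (X₃ ⟶ Y⟦(1 : ℤ)⟧)) (φ : X₁ ⟶ Y) : ∃ ψ : X₂ ⟶ Y, φ = f ≫ ψ := by
  have hrot := rot_of_distTriang _ (rot_of_distTriang _ hT)
  have h0 : δ ≫ φ⟦(1 : ℤ)⟧' = 0 := h.elim _ _
  obtain ⟨ψ, hψ⟩ := Triangle.yoneda_exact₂ _ hrot (φ⟦(1 : ℤ)⟧') h0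
  have hψ2 : φ⟦(1 : ℤ)⟧' = (-f⟦(1 : ℤ)⟧') ≫ ψ := hψ
  obtain ⟨ψ', hψ'⟩ : ∃ ψ' : X₂ ⟶ Y, ψ'⟦(1 : ℤ)⟧' = ψ :=
    (shiftFunctor (Dual.D A) (1 : ℤ)).map_surjective ψ
  refine ⟨-ψ', ?_⟩
  apply (shiftFunctor (Dual.D A) (1 : ℤ)).map_injective
  rw [hψ2, ← hψ']
  simp

/-- `Hom(X, ω[i-1]) = 0` gives `Hom(X[1], ω[i]) = 0` -/
lemma subsingleton_hom_shift_left {X ω : Dual.D A} (i i' : ℤ) (hi : i' + 1 = i)
    (h : Subsingleton (X ⟶ ω⟦i'⟧)) : Subsingleton (X⟦(1 : ℤ)⟧ ⟶ ω⟦i⟧) := by
  let β := (shiftFunctorAdd' (Dual.D A) i' 1 i hi).app ω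
  refine ⟨fun f g => ?_⟩
  obtain ⟨f', hf'⟩ := (shiftFunctor (Dual.D A) (1 : ℤ)).map_surjective (f ≫ β.hom)
  obtain ⟨g', hg'⟩ := (shiftFunctor (Dual.D A) (1 : ℤ)).map_surjective (g ≫ β.hom)
  have : f' = g' := h.elim _ _
  rw [this, hg'] at hf'
  exact ((cancel_mono β.hom).1 hf').symm

/-- converse direction: `Hom(X[1], ω[i]) = 0` gives `Hom(X, ω[i-1]) = 0` -/
lemma subsingleton_hom_unshift_left {X ω : Dual.D A} (i i' : ℤ) (hi : i' + 1 = i)
    (h : Subsingleton (X⟦(1 : ℤ)⟧ ⟶ ω⟦i⟧)) : Subsingleton (X ⟶ ω⟦i'⟧) := by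
  let β := (shiftFunctorAdd' (Dual.D A) i' 1 i hi).app ω
  refine ⟨fun f g => ?_⟩
  apply (shiftFunctor (Dual.D A) (1 : ℤ)).map_injective
  have := h.elim (f⟦(1 : ℤ)⟧' ≫ β.inv) (g⟦(1 : ℤ)⟧' ≫ β.inv)
  exact (cancel_mono β.inv).1 this

/-- `Hom(H[-j], ω[i]) = Hom(H[0], ω[i+j])` -/
lemma subsingleton_hom_single (H : ModuleCat.{u} A) (ω : Dual.D A) (i j : ℤ)
    (h : Subsingleton ((DerivedCategory.singleFunctor (ModuleCat.{u} A) 0).obj H ⟶ ω⟦i + j⟧)) :
    Subsingleton ((DerivedCategory.singleFunctor (ModuleCat.{u} A) j).obj H ⟶ ω⟦i⟧) := by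
  obtain ⟨α, -⟩ : ∃ α : (shiftFunctor (Dual.D A) j).obj
      ((singleFunctor (ModuleCat.{u} A) j).obj H) ≅ (singleFunctor (ModuleCat.{u} A) 0).obj H,
      α = ((DerivedCategory.singleFunctors (ModuleCat.{u} A)).shiftIso j 0 j (by lia)).app H :=
    ⟨_, rfl⟩
  let β := (shiftFunctorAdd' (Dual.D A) i j (i + j) rfl).app ω
  refine ⟨fun f g => ?_⟩
  apply (shiftFunctor (Dual.D A) j).map_injective
  have := h.elim (α.inv ≫ f⟦j⟧' ≫ β.inv) (α.inv ≫ g⟦j⟧' ≫ β.inv)
  have h2 := (cancel_epi α.inv).1 this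
  exact (cancel_mono β.inv).1 h2

end Groth.Agent.R2.H94.DualExt
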