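import Mathlib
import Groth.Prelude.Def_Wider
import Groth.Agent.R2.H94DualExt
import Groth.Agent.Lib.Helper28DepthLoc

/-!
# Depth via Ext into a normalized dualizing complex (helper94)

For a Noetherian local ring `A` with normalized dualizing complex `ω` and a nonzero finite module
`M`, `depth M` is the least `δ ≥ 0` with `Hom(M[0], ω[-δ]) ≠ 0`.
-/
set_option autoImplicit false
universe u
open CategoryTheory CategoryTheory.Limits
attribute [local instance] HasDerivedCategory.standard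

namespace Groth.Agent.R2.H94.DualDepth

open DerivedCategory Pretriangulated Dual Groth.Agent.R2.H94.DualExt

variable {A : Type u} [CommRing A]

lemma subsingleton_hom_cast {X ω : Dual.D A} {a b : ℤ} (h : a = b)
    (hs : Subsingleton (X ⟶ ω⟦a⟧)) : Subsingleton (X ⟶ ω⟦b⟧) := h ▸ hs

lemma nontrivial_hom_cast {X ω : Dual.D A} {a b : ℤ} (h : a = b)
    (hs : Nontrivial (X ⟶ ω⟦a⟧)) : Nontrivial (X ⟶ ω⟦b⟧) := h ▸ hs

/-- `Hom(X, ω[i']) = 0` with `i + 1 = i'` gives `Hom(X, ω[i][1]) = 0` -/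
lemma subsingleton_hom_shift_succ' {X ω : Dual.D A} (i i' : ℤ) (hi : i + 1 = i')
    (h : Subsingleton (X ⟶ ω⟦i'⟧)) : Subsingleton (X ⟶ (ω⟦i⟧)⟦(1 : ℤ)⟧) :=
  subsingleton_hom_of_iso_right ((shiftFunctorAdd' (Dual.D A) i 1 i' hi).app ω) h

variable [IsLocalRing A] [IsNoetherianRing A]

/-- for a normalized dualizing complex, `Hom(k[0], ω[0]) ≠ 0` -/
lemma nontrivial_hom_residue (ω : Dual.D A) (hω : Dual.IsDualizing A ω)
    (hn : Dual.IsNormalized A ω) :
    Nontrivial (Dual.inD A (A ⧸ IsLocalRing.maximalIdeal A) ⟶ ω⟦(0 : ℤ)⟧) := by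
  obtain ⟨i, hi⟩ := exists_hom_residue_nontrivial ω hω
  by_cases h0 : i = 0
  · subst h0
    exact hi
  · exfalso
    have := subsingleton_hom_of_linearEquiv residueEquiv.symm _ (hn i h0)
    exact false_of_nontrivial_of_subsingleton
      (Dual.inD A (A ⧸ IsLocalRing.maximalIdeal A) ⟶ ω⟦i⟧)

/-- depth zero: `Hom(M[0], ω[0]) ≠ 0` -/
lemma nontrivial_hom_of_depth_zero (ω : Dual.D A) (hω : Dual.IsDualizing A ω)
    (hn : Dual.IsNormalized A ω) (M : Type u) [AddCommGroup M] [Module A M] [Module.Finite A M]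
    (h0 : LocCoh.depth A M = 0) : Nontrivial (Dual.inD A M ⟶ ω⟦(0 : ℤ)⟧) := by
  have hass : IsAssociatedPrime (IsLocalRing.maximalIdeal A) M :=
    (Groth.Agent.Lib.Helper28.depth_eq_zero_iff).1 h0
  obtain ⟨-, f, hf⟩ := (isAssociatedPrime_iff_exists_injective_linearMap _ M).1 hass
  set g : M →ₗ[A] M ⧸ LinearMap.range f := Submodule.mkQ _ with hg
  have hsurj : Function.Surjective g := Submodule.mkQ_surjective _
  have hex : Function.Exact f g := by
    intro y
    rw [hg, Submodule.mkQ_apply, Submodule.Quotient.mk_eq_zero]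
    rfl
  obtain ⟨δ, hT⟩ := exists_triangle f g hf hsurj hex
  have hvan : Subsingleton (Dual.inD A (M ⧸ LinearMap.range f) ⟶ (ω⟦(0 : ℤ)⟧)⟦(1 : ℤ)⟧) :=
    subsingleton_hom_shift_succ' 0 1 (by norm_num)
      (subsingleton_hom_pos ω hω hn (M ⧸ LinearMap.range f) 1 one_pos)
  haveI := nontrivial_hom_residue ω hω hn
  obtain ⟨φ, hφ⟩ := exists_ne (0 : Dual.inD A (A ⧸ IsLocalRing.maximalIdeal A) ⟶ ω⟦(0 : ℤ)⟧)
  obtain ⟨ψ, hψ⟩ := exists_extension_of_triangle _ _ δ hT hvan φ
  refine ⟨ψ, 0, ?_⟩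
  rintro rfl
  apply hφ
  rw [hψ, comp_zero]

omit [IsLocalRing A] [IsNoetherianRing A] in
/-- the distinguished triangle `M --x--> M --> M/xM --> M[1]` of a regular element -/
lemma exists_triangle_of_regular (M : Type u) [AddCommGroup M] [Module A M]
    (x : A) (hreg : IsSMulRegular M x) :
    ∃ (g : Dual.inD A M ⟶ Dual.inD A (QuotSMulTop x M))
      (δ : Dual.inD A (QuotSMulTop x M) ⟶ (Dual.inD A M)⟦(1 : ℤ)⟧),
      Triangle.mk (x • 𝟙 (Dual.inD A M)) g δ ∈ distTriang (Dual.D A) := by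
  set f : M →ₗ[A] M := (x • 𝟙 (ModuleCat.of A M) : ModuleCat.of A M ⟶ ModuleCat.of A M).hom with hf
  have hfx : ∀ m : M, f m = x • m := fun m => by simp [hf]
  set g : M →ₗ[A] QuotSMulTop x M := Submodule.mkQ _ with hg
  have hinj : Function.Injective f := by
    intro a b hab
    rw [hfx, hfx] at hab
    exact hreg hab
  have hsurj : Function.Surjective g := Submodule.mkQ_surjective _
  have hex : Function.Exact f g := by
    intro y
    rw [hg, Submodule.mkQ_apply, Submodule.Quotient.mk_eq_zero,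
      Submodule.mem_smul_pointwise_iff_exists]
    constructor
    · rintro ⟨z, -, rfl⟩
      exact ⟨z, hfx z⟩
    · rintro ⟨z, rfl⟩
      exact ⟨z, Submodule.mem_top, (hfx z).symm⟩
  obtain ⟨δ, hT⟩ := exists_triangle f g hinj hsurj hex
  have hmap : (DerivedCategory.singleFunctor (ModuleCat.{u} A) 0).map (ModuleCat.ofHom f) =
      x • 𝟙 (Dual.inD A M) := by
    rw [hf, ModuleCat.ofHom_hom, Functor.map_smul, CategoryTheory.Functor.map_id]
  rw [hmap] at hT
  exact ⟨_, δ, hT⟩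

/-- **Main induction**: if `depth M = n` then `Hom(M[0], ω[-δ]) = 0` for `δ < n` and
`Hom(M[0], ω[-n]) ≠ 0`. -/
theorem hom_of_depth_eq (ω : Dual.D A) (hω : Dual.IsDualizing A ω)
    (hn : Dual.IsNormalized A ω) (n : ℕ) :
    ∀ (M : Type u) [AddCommGroup M] [Module A M] [Module.Finite A M],
      LocCoh.depth A M = n →
      (∀ δ : ℕ, δ < n → Subsingleton (Dual.inD A M ⟶ ω⟦(-(δ : ℤ))⟧)) ∧
        Nontrivial (Dual.inD A M ⟶ ω⟦(-(n : ℤ))⟧) := by
  induction n with
  | zero =>
    intro M _ _ _ hd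
    refine ⟨fun δ hδ => absurd hδ (Nat.not_lt_zero _), ?_⟩
    have := nontrivial_hom_of_depth_zero ω hω hn M (by simpa using hd)
    exact nontrivial_hom_cast (by simp) this
  | succ n ih =>
    intro M _ _ _ hd
    have hMnt : Nontrivial M := by
      by_contra h
      rw [not_nontrivial_iff_subsingleton] at h
      rw [Groth.Agent.Lib.Helper28.depth_eq_top_of_subsingleton] at hd
      exact ENat.top_ne_natCast _ hd
    have hIM := Groth.Agent.Lib.Helper28.maximalIdeal_smul_top_ne_top (R := A) (M := M)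
    have h1 : 1 ≤ LocCoh.idealDepth (IsLocalRing.maximalIdeal A) M := by
      show 1 ≤ LocCoh.depth A M
      rw [hd]
      norm_cast
      omega
    obtain ⟨x, hx, hreg⟩ := (Groth.Agent.Lib.Helper28.one_le_idealDepth_iff hIM).1 h1
    have hq := Groth.Agent.Lib.Helper28.idealDepth_quotSMulTop_add_one
      (IsLocalRing.maximalIdeal A) M hIM x hx hreg
    have hdq : LocCoh.depth A (QuotSMulTop x M) = n := by
      have h2 : LocCoh.idealDepth (IsLocalRing.maximalIdeal A) (QuotSMulTop x M) + 1 =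
          (n : ℕ∞) + 1 := by
        rw [hq]
        exact_mod_cast hd
      exact ENat.add_left_injective_of_ne_top ENat.one_ne_top h2
    obtain ⟨ihA, ihB⟩ := ih (QuotSMulTop x M) hdq
    have hA : ∀ δ : ℕ, δ < n + 1 → Subsingleton (Dual.inD A M ⟶ ω⟦(-(δ : ℤ))⟧) := by
      intro δ hδ
      apply subsingleton_hom_of_regular M x hx hreg _ (finite_hom_dualizing ω hω M _)
      rcases Nat.eq_zero_or_pos δ with rfl | hpos
      · exact subsingleton_hom_shift_succ' _ 1 (by simp)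
          (subsingleton_hom_pos ω hω hn _ 1 one_pos)
      · exact subsingleton_hom_shift_succ' _ (-((δ - 1 : ℕ) : ℤ)) (by omega)
          (ihA (δ - 1) (by omega))
    refine ⟨hA, ?_⟩
    obtain ⟨g, δ, hT⟩ := exists_triangle_of_regular M x hreg
    obtain ⟨ψ, hψ⟩ := exists_ne (0 : Dual.inD A (QuotSMulTop x M) ⟶ ω⟦(-(n : ℤ))⟧)
    have hgψ : g ≫ ψ = 0 := (hA n (by omega)).elim _ _
    obtain ⟨ψ', hψ'⟩ := Triangle.yoneda_exact₃ _ hT ψ hgψ
    by_contra hnt
    rw [not_nontrivial_iff_subsingleton] at hnt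
    have hs := subsingleton_hom_shift_left (-(n : ℤ)) (-((n + 1 : ℕ) : ℤ))
      (by push_cast; ring) hnt
    apply hψ
    rw [hψ']
    have : ψ' = 0 := hs.elim _ _
    rw [this]
    exact comp_zero

/-- **Depth via Ext into a normalized dualizing complex.** -/
theorem depth_eq_iff (ω : Dual.D A) (hω : Dual.IsDualizing A ω)
    (hn : Dual.IsNormalized A ω) (M : Type u) [AddCommGroup M] [Module A M] [Module.Finite A M]
    [Nontrivial M] (n : ℕ) :
    LocCoh.depth A M = n ↔
      ((∀ δ : ℕ, δ < n → Subsingleton (Dual.inD A M ⟶ ω⟦(-(δ : ℤ))⟧)) ∧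
        Nontrivial (Dual.inD A M ⟶ ω⟦(-(n : ℤ))⟧)) := by
  constructor
  · exact hom_of_depth_eq ω hω hn n M
  · rintro ⟨hA, hB⟩
    have hne : LocCoh.depth A M ≠ ⊤ :=
      Groth.Agent.Lib.Helper28.idealDepth_ne_top
        (Groth.Agent.Lib.Helper28.maximalIdeal_smul_top_ne_top (R := A) (M := M))
    obtain ⟨d, hd⟩ := ENat.ne_top_iff_exists.1 hne
    obtain ⟨hA', hB'⟩ := hom_of_depth_eq ω hω hn d M hd.symm
    rcases lt_trichotomy d n with h | h | h
    · exfalso
      have := hA d h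
      exact false_of_nontrivial_of_subsingleton (Dual.inD A M ⟶ ω⟦(-(d : ℤ))⟧)
    · rw [← hd, h]
    · exfalso
      have := hA' n h
      exact false_of_nontrivial_of_subsingleton (Dual.inD A M ⟶ ω⟦(-(n : ℤ))⟧)


end Groth.Agent.R2.H94.DualDepth
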