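import Mathlib
import Groth.Prelude.Def_Wider
import Groth.Agent.R2.H94DualExt
import Groth.Agent.R2.H94DualDepth

/-!
# Vanishing of Ext into a normalized dualizing complex below minus the dimension (helper94)

For a Noetherian local ring `A` with normalized dualizing complex `ω` and a finite module `M` with
`dim Supp M ≤ d`, `Hom(M[0], ω[i]) = 0` for `i < -d`.  Consequence: the Cohen–Macaulay criterion.
-/
set_option autoImplicit false
universe u
open CategoryTheory CategoryTheory.Limits
attribute [local instance] HasDerivedCategory.standard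

namespace Groth.Agent.R2.H94.DualDim

open DerivedCategory Pretriangulated Dual Groth.Agent.R2.H94.DualExt Groth.Agent.R2.H94.DualDepth

variable {A : Type u} [CommRing A]

/-- an element outside a prime is regular on the quotient -/
lemma isSMulRegular_quotient_prime (p : Ideal A) [p.IsPrime] (x : A) (hxp : x ∉ p) :
    IsSMulRegular (A ⧸ p) x := by
  intro a b hab
  have h1 : Ideal.Quotient.mk p x * (a - b) = 0 := by
    have h2 : x • a = x • b := hab
    rw [Algebra.smul_def, Algebra.smul_def] at h2
    rw [mul_sub]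
    exact sub_eq_zero.2 h2
  have hx0 : Ideal.Quotient.mk p x ≠ 0 := fun h => hxp (Ideal.Quotient.eq_zero_iff_mem.1 h)
  rcases mul_eq_zero.1 h1 with h | h
  · exact absurd h hx0
  · exact sub_eq_zero.1 h

variable [IsLocalRing A] [IsNoetherianRing A]

/-- one step of the induction on the dimension -/
lemma vanishing_step (ω : Dual.D A) (hω : Dual.IsDualizing A ω) (hn : Dual.IsNormalized A ω)
    (d : ℕ)
    (hQ : ∀ (Q : Type u) [AddCommGroup Q] [Module A Q] [Module.Finite A Q],
      Module.supportDim A Q + 1 ≤ (d : WithBot ℕ∞) → ∀ i : ℤ, i < -(d : ℤ) →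
        Subsingleton (Dual.inD A Q ⟶ ω⟦i + 1⟧))
    (M : Type u) [AddCommGroup M] [Module A M] [hM : Module.Finite A M]
    (hdim : Module.supportDim A M ≤ (d : WithBot ℕ∞)) (i : ℤ) (hi : i < -(d : ℤ)) :
    Subsingleton (Dual.inD A M ⟶ ω⟦i⟧) := by
  revert hdim
  refine IsNoetherianRing.induction_on_isQuotientEquivQuotientPrime A hM
    (motive := fun (N' : Type u) [AddCommGroup N'] [Module A N'] [Module.Finite A N'] =>
      Module.supportDim A N' ≤ (d : WithBot ℕ∞) → Subsingleton (Dual.inD A N' ⟶ ω⟦i⟧)) ?_ ?_ ?_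
  · intro N' _ _ _ _ _
    exact subsingleton_hom_of_subsingleton N' _
  · intro N' _ _ _ p e hdim
    by_cases hpm : p.asIdeal = IsLocalRing.maximalIdeal A
    · have e2 : (A ⧸ IsLocalRing.maximalIdeal A) ≃ₗ[A] N' :=
        (Submodule.quotEquivOfEq _ _ hpm.symm).trans e.symm
      have hi0 : i ≠ 0 := by
        have : (0 : ℤ) ≤ d := Int.natCast_nonneg d
        omega
      exact subsingleton_hom_of_linearEquiv e2 _
        (subsingleton_hom_of_linearEquiv residueEquiv.symm _ (hn i hi0))
    · have hple : p.asIdeal ≤ IsLocalRing.maximalIdeal A :=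
        IsLocalRing.le_maximalIdeal p.2.ne_top
      obtain ⟨x, hxm, hxp⟩ := SetLike.exists_of_lt (lt_of_le_of_ne hple hpm)
      haveI := p.2
      have hreg : IsSMulRegular (A ⧸ p.asIdeal) x := isSMulRegular_quotient_prime _ x hxp
      have hdimQ : Module.supportDim A (QuotSMulTop x (A ⧸ p.asIdeal)) + 1 ≤ (d : WithBot ℕ∞) := by
        rw [Module.supportDim_quotSMulTop_succ_eq_supportDim hreg hxm,
          ← Module.supportDim_eq_of_equiv e]
        exact hdim
      have h1 := hQ (QuotSMulTop x (A ⧸ p.asIdeal)) hdimQ i hi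
      have h3 := subsingleton_hom_of_regular (A ⧸ p.asIdeal) x hxm hreg (ω⟦i⟧)
        (finite_hom_dualizing ω hω (A ⧸ p.asIdeal) i) (subsingleton_hom_shift_succ i h1)
      exact subsingleton_hom_of_linearEquiv e.symm _ h3
  · intro N₁ _ _ _ N₂ _ _ _ N₃ _ _ _ f g hf hg hfg h1 h3 hdim
    exact subsingleton_hom_mid f g hf hg hfg _
      (h1 ((Module.supportDim_le_of_injective f hf).trans hdim))
      (h3 ((Module.supportDim_le_of_surjective g hg).trans hdim))

/-- **Vanishing below minus the dimension.** -/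
theorem subsingleton_hom_of_lt_neg_supportDim (ω : Dual.D A) (hω : Dual.IsDualizing A ω)
    (hn : Dual.IsNormalized A ω) (d : ℕ) :
    ∀ (M : Type u) [AddCommGroup M] [Module A M] [Module.Finite A M],
      Module.supportDim A M ≤ (d : WithBot ℕ∞) → ∀ i : ℤ, i < -(d : ℤ) →
        Subsingleton (Dual.inD A M ⟶ ω⟦i⟧) := by
  induction d with
  | zero =>
    intro M _ _ _ hdim i hi
    refine vanishing_step ω hω hn 0 ?_ M hdim i hi
    intro Q _ _ _ hQ j _
    have hbot : Module.supportDim A Q = ⊥ := by
      by_contra hne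
      obtain ⟨e, he⟩ := WithBot.ne_bot_iff_exists.1 hne
      rw [← he] at hQ
      simp at hQ
    have := (Module.supportDim_eq_bot_iff_subsingleton (R := A) (M := Q)).1 hbot
    exact subsingleton_hom_of_subsingleton Q _
  | succ d ih =>
    intro M _ _ _ hdim i hi
    refine vanishing_step ω hω hn (d + 1) ?_ M hdim i hi
    intro Q _ _ _ hQ j hj
    have hle : Module.supportDim A Q ≤ (d : WithBot ℕ∞) := by
      by_cases hne : Module.supportDim A Q = ⊥
      · rw [hne]
        exact bot_le
      · obtain ⟨e, he⟩ := WithBot.ne_bot_iff_exists.1 hne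
        rw [← he] at hQ ⊢
        have h1 : ((e + 1 : ℕ∞) : WithBot ℕ∞) ≤ (((d : ℕ∞) + 1 : ℕ∞) : WithBot ℕ∞) := by
          simpa using hQ
        have h2 : e + 1 ≤ (d : ℕ∞) + 1 := WithBot.coe_le_coe.1 h1
        have h3 : e ≤ (d : ℕ∞) := (ENat.add_le_add_iff_right ENat.one_ne_top).1 h2
        exact_mod_cast WithBot.coe_le_coe.2 h3
    exact ih Q hle (j + 1) (by push_cast at hj; omega)

end Groth.Agent.R2.H94.DualDim
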