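import Mathlib
import Groth.Prelude.Def_Wider
import Groth.Agent.S6965
import Groth.Agent.R2.H94DualExt

/-!
# `Hom_{D(A)}(A[0], K[j])` versus `H^j(K)` (helper94)

* `subsingleton_hom_of_exactAt`: no nonzero maps `P[-j] ⟶ E` in `D(A)` when `P` is projective and
  `E` is exact in degree `j`.
* `subsingleton_hom_ring_iff`: `Hom_{D(A)}(A[0], K[j]) = 0 ↔ H^j(K) = 0`.
-/
set_option autoImplicit false
universe u
open CategoryTheory CategoryTheory.Limits
attribute [local instance] HasDerivedCategory.standard

namespace Groth.Agent.R2.H94.HomFree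

open DerivedCategory Pretriangulated Dual HomologicalComplex Groth.Agent.R2.H94.DualExt

section gen
universe w v' u'
variable {C : Type u'} [Category.{v'} C] [Abelian C] [HasDerivedCategory.{w} C]

lemma exists_chain_map_proj (S L : CochainComplex C ℤ) [S.IsKProjective]
    (φ : Q.obj S ⟶ Q.obj L) : ∃ f : S ⟶ L, Q.map f = φ := by
  obtain ⟨g, hg⟩ := (CochainComplex.IsKProjective.Qh_map_bijective S
    ((HomotopyCategory.quotient C (ComplexShape.up ℤ)).obj L)).2 φ
  obtain ⟨f, rfl⟩ := (HomotopyCategory.quotient C (ComplexShape.up ℤ)).map_surjective g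
  exact ⟨f, hg⟩

omit [HasDerivedCategory.{w} C] in
/-- a chain map from a projective object placed in degree `j` to a complex exact in degree `j`
is null-homotopic -/
lemma nonempty_homotopy_of_exactAt (E : CochainComplex C ℤ) (j : ℤ) (hE : E.ExactAt j)
    (P : C) [Projective P]
    (c : (single C (ComplexShape.up ℤ) j).obj P ⟶ E) : Nonempty (Homotopy c 0) := by
  classical
  -- the lift in degree `j`
  have hlift : ∃ l : ((single C (ComplexShape.up ℤ) j).obj P).X j ⟶ E.X (j - 1),
      l ≫ E.d (j - 1) j = c.f j := by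
    have hex : (E.sc' (j - 1) j (j + 1)).Exact :=
      (E.exactAt_iff' (j - 1) j (j + 1) (by simp) (by simp)).1 hE
    haveI : Projective (((single C (ComplexShape.up ℤ) j).obj P).X j) :=
      Projective.of_iso (singleObjXSelf (ComplexShape.up ℤ) j P).symm inferInstance
    have h0 : c.f j ≫ E.d j (j + 1) = 0 := by
      rw [c.comm j (j + 1), HomologicalComplex.single_obj_d, zero_comp]
    exact ⟨hex.liftFromProjective (c.f j) h0, hex.liftFromProjective_comp (c.f j) h0⟩
  refine ⟨{
    hom := fun i k => if h : ∃ l : ((single C (ComplexShape.up ℤ) j).obj P).X i ⟶ E.X k,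
      k + 1 = i ∧ l ≫ E.d k i = c.f i then h.choose else 0
    zero := ?_
    comm := ?_ }⟩
  · intro i k hik
    rw [dif_neg]
    rintro ⟨l, hl, -⟩
    exact hik hl
  · intro i
    by_cases hi : i = j
    · subst hi
      rw [dNext_eq _ (show (ComplexShape.up ℤ).Rel i (i + 1) by simp),
        prevD_eq _ (show (ComplexShape.up ℤ).Rel (i - 1) i by simp),
        HomologicalComplex.single_obj_d, zero_comp, zero_add, HomologicalComplex.zero_f, add_zero]
      have hex : ∃ l : ((single C (ComplexShape.up ℤ) i).obj P).X i ⟶ E.X (i - 1),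
          i - 1 + 1 = i ∧ l ≫ E.d (i - 1) i = c.f i := by
        obtain ⟨l, hl⟩ := hlift
        exact ⟨l, by ring, hl⟩
      rw [dif_pos hex]
      exact hex.choose_spec.2.symm
    · exact (isZero_single_obj_X (ComplexShape.up ℤ) j P i hi).eq_of_src _ _

/-- no nonzero maps `P[-j] ⟶ E` in the derived category when `P` is projective and `E` is exact
in degree `j` -/
lemma Q_map_eq_zero_of_exactAt (E : CochainComplex C ℤ) (j : ℤ) (hE : E.ExactAt j)
    (P : C) [Projective P]
    (c : (single C (ComplexShape.up ℤ) j).obj P ⟶ E) : Q.map c = 0 := by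
  obtain ⟨h⟩ := nonempty_homotopy_of_exactAt E j hE P c
  rw [DerivedCategory.Q_map_eq_of_homotopy _ h, Functor.map_zero]

omit [HasDerivedCategory.{w} C] in
lemma isKProjective_single (j : ℤ) (P : C) [Projective P] :
    CochainComplex.IsKProjective ((single C (ComplexShape.up ℤ) j).obj P) := by
  have hproj : ∀ n : ℤ, Projective (((single C (ComplexShape.up ℤ) j).obj P).X n) := by
    intro n
    by_cases hn : n = j
    · subst hn
      exact Projective.of_iso (singleObjXSelf (ComplexShape.up ℤ) n _).symm inferInstance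
    · exact (isZero_single_obj_X (ComplexShape.up ℤ) j _ n hn).projective
  have hle : CochainComplex.IsStrictlyLE ((single C (ComplexShape.up ℤ) j).obj P) j := by
    rw [CochainComplex.isStrictlyLE_iff]
    intro n hn
    exact isZero_single_obj_X (ComplexShape.up ℤ) j _ n (by lia)
  exact CochainComplex.isKProjective_of_projective _ j

lemma subsingleton_hom_of_exactAt (E : CochainComplex C ℤ) (j : ℤ) (hE : E.ExactAt j)
    (P : C) [Projective P] :
    Subsingleton ((DerivedCategory.singleFunctor C j).obj P ⟶ Q.obj E) := by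
  haveI := isKProjective_single j P
  have key : ∀ φ : Q.obj ((single C (ComplexShape.up ℤ) j).obj P) ⟶ Q.obj E, φ = 0 := by
    intro φ
    obtain ⟨c, rfl⟩ := exists_chain_map_proj _ E φ
    exact Q_map_eq_zero_of_exactAt E j hE P c
  exact ⟨fun a b => (key a).trans (key b).symm⟩

end gen

variable {A : Type u} [CommRing A]

/-- `Hom(H[-j], K) = 0` gives `Hom(H[0], K[j]) = 0` -/
lemma subsingleton_hom_single' (H : ModuleCat.{u} A) (K : Dual.D A) (j : ℤ)
    (h : Subsingleton ((DerivedCategory.singleFunctor (ModuleCat.{u} A) j).obj H ⟶ K)) :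
    Subsingleton ((DerivedCategory.singleFunctor (ModuleCat.{u} A) 0).obj H ⟶ K⟦j⟧) := by
  obtain ⟨α, -⟩ : ∃ α : (shiftFunctor (Dual.D A) j).obj
      ((singleFunctor (ModuleCat.{u} A) j).obj H) ≅ (singleFunctor (ModuleCat.{u} A) 0).obj H,
      α = ((DerivedCategory.singleFunctors (ModuleCat.{u} A)).shiftIso j 0 j (by lia)).app H :=
    ⟨_, rfl⟩
  refine ⟨fun f g => ?_⟩
  obtain ⟨f', hf'⟩ := (shiftFunctor (Dual.D A) j).map_surjective (α.hom ≫ f)
  obtain ⟨g', hg'⟩ := (shiftFunctor (Dual.D A) j).map_surjective (α.hom ≫ g)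
  have : f' = g' := h.elim _ _
  rw [this, hg'] at hf'
  exact ((cancel_epi α.hom).1 hf').symm

/-- **`Hom_{D(A)}(A[0], K[j]) = 0 ↔ H^j(K) = 0`** -/
theorem subsingleton_hom_ring_iff (K : Dual.D A) (j : ℤ) :
    Subsingleton (Dual.inD A A ⟶ K⟦j⟧) ↔ Subsingleton (Dual.HD A K j) := by
  obtain ⟨E, ⟨e⟩⟩ : ∃ E : DRing.Cx A, Nonempty (Q.obj E ≅ K) :=
    ⟨_, ⟨Q.objObjPreimageIso K⟩⟩
  have hH : Subsingleton (Dual.HD A K j) ↔ E.ExactAt j := by
    rw [HomologicalComplex.exactAt_iff_isZero_homology]
    let i1 : (homologyFunctor (ModuleCat.{u} A) j).obj K ≅ E.homology j :=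
      (homologyFunctor (ModuleCat.{u} A) j).mapIso e.symm ≪≫
        (homologyFunctorFactors (ModuleCat.{u} A) j).app E
    constructor
    · intro h
      exact (ModuleCat.isZero_of_subsingleton _).of_iso i1.symm
    · intro h
      exact ModuleCat.subsingleton_of_isZero (h.of_iso i1)
  rw [hH]
  constructor
  · intro h
    have h' : Subsingleton (Dual.inD A (A ⧸ (⊥ : Ideal A)) ⟶ K⟦j⟧) :=
      subsingleton_hom_of_linearEquiv (Submodule.quotEquivOfEqBot ⊥ rfl).symm _ h
    exact Groth.Agent.S6965.exactAt_of_Q_map_eq_zero E j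
      (fun c => Groth.Agent.S6965.Q_map_eq_zero j K _ h' E e c)
  · intro h
    apply subsingleton_hom_single'
    haveI : Projective (ModuleCat.of A A) :=
      ModuleCat.projective_of_categoryTheory_projective _
    exact subsingleton_hom_of_iso_right e (subsingleton_hom_of_exactAt E j h (ModuleCat.of A A))

/-- nontrivial version -/
theorem nontrivial_hom_ring_iff (K : Dual.D A) (j : ℤ) :
    Nontrivial (Dual.inD A A ⟶ K⟦j⟧) ↔ Nontrivial (Dual.HD A K j) := by
  rw [← not_subsingleton_iff_nontrivial, ← not_subsingleton_iff_nontrivial,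
    subsingleton_hom_ring_iff]

end Groth.Agent.R2.H94.HomFree
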