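import Mathlib
import Groth.Prelude.Def_Wider
import Groth.Agent.R2.H94DualExt
import Groth.Agent.R2.H94DualDepth
import Groth.Agent.R2.H94DualDim
import Groth.Agent.R2.H94HomFree
import Groth.Agent.S5170
import Groth.Agent.S5155
import Groth.Agent.S0302
import Groth.Agent.S0973

/-!
# Normalized dualizing complexes over Artinian local rings (helper94)

Over a Noetherian local ring of dimension `0`, a normalized dualizing complex is the injective hull
of the residue field placed in degree `0`.
-/
set_option autoImplicit false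
universe u
open CategoryTheory CategoryTheory.Limits
attribute [local instance] HasDerivedCategory.standard

namespace Groth.Agent.R2.H94.DualArtin

open DerivedCategory Pretriangulated Dual Groth.Agent.R2.H94.DualExt Groth.Agent.R2.H94.DualDepth
  Groth.Agent.R2.H94.DualDim Groth.Agent.R2.H94.HomFree

variable {A : Type u} [CommRing A]

/-- `Hom_A(M, W) ≃ Hom_{D(A)}(M[0], W[0])`, `A`-linearly -/
noncomputable def homSingleEquiv (M W : Type u) [AddCommGroup M] [Module A M] [AddCommGroup W]
    [Module A W] : (M →ₗ[A] W) ≃ₗ[A] (Dual.inD A M ⟶ Dual.inD A W) :=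
  (ModuleCat.homLinearEquiv (S := A) (M := ModuleCat.of A M) (N := ModuleCat.of A W)).symm ≪≫ₗ
    LinearEquiv.ofBijective
      ((DerivedCategory.singleFunctor (ModuleCat.{u} A) 0).mapLinearMap A)
      ⟨fun _ _ hab => (DerivedCategory.singleFunctor (ModuleCat.{u} A) 0).map_injective hab,
        fun b => (DerivedCategory.singleFunctor (ModuleCat.{u} A) 0).map_surjective b⟩

/-- Baer's criterion through `Ext¹(A/J, W) = 0` computed in the derived category -/
lemma injective_of_ext_vanishing (W : Type u) [AddCommGroup W] [Module A W]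
    (h : ∀ J : Ideal A, Subsingleton (Dual.inD A (A ⧸ J) ⟶ (Dual.inD A W)⟦(1 : ℤ)⟧)) :
    Module.Injective A W := by
  apply Module.Baer.injective
  intro J g
  obtain ⟨δ, hT⟩ := exists_triangle (J.subtype) (Submodule.mkQ J) J.injective_subtype
    (Submodule.mkQ_surjective J) (LinearMap.exact_subtype_mkQ J)
  obtain ⟨ψ, hψ⟩ := exists_extension_of_triangle _ _ δ hT (h J)
    ((DerivedCategory.singleFunctor (ModuleCat.{u} A) 0).map (ModuleCat.ofHom g))
  obtain ⟨g', hg'⟩ := (DerivedCategory.singleFunctor (ModuleCat.{u} A) 0).map_surjective ψ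
  refine ⟨g'.hom, fun x hx => ?_⟩
  have h1 : ModuleCat.ofHom g = ModuleCat.ofHom J.subtype ≫ g' :=
    (DerivedCategory.singleFunctor (ModuleCat.{u} A) 0).map_injective
      (by rw [hψ, ← hg', Functor.map_comp])
  have h2 := congrArg (fun m => m.hom ⟨x, hx⟩) h1
  simpa using h2.symm

/-- for an injective module `W` over a local ring, `length Hom(M, W) = length M * length Hom(k, W)`
for modules of finite length -/
lemma length_hom_eq_mul [IsLocalRing A] (W : Type u) [AddCommGroup W] [Module A W]
    (hW : Module.Injective A W) (M : Type u) [AddCommGroup M] [Module A M]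
    (hM : IsFiniteLength A M) :
    Module.length A (M →ₗ[A] W) =
      Module.length A M * Module.length A (IsLocalRing.ResidueField A →ₗ[A] W) := by
  induction hM with
  | of_subsingleton =>
    rw [Module.length_eq_zero, Module.length_eq_zero, zero_mul]
  | @of_simple_quotient M _ _ N _ hN ih =>
    obtain ⟨e⟩ := Groth.Agent.S5170.nonempty_equiv_residueField_of_simple (A := A) (M ⧸ N)
    rw [Groth.Agent.S5170.length_hom_eq_add hW N, ih, (LinearEquiv.congrLeft W A e).length_eq,
      Module.length_eq_add_of_exact N.subtype N.mkQ N.injective_subtype N.mkQ_surjective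
        (LinearMap.exact_subtype_mkQ N), Module.length_eq_one A (M ⧸ N), add_mul, one_mul, add_comm]

/-- a natural number in `ℕ∞` form: `a = a * s * s` with `a ≠ 0, ⊤` forces `s = 1` -/
lemma enat_eq_one_of_eq_mul_mul {a s : ℕ∞} (ha0 : a ≠ 0) (hat : a ≠ ⊤) (h : a = a * s * s) :
    s = 1 := by
  have hs : s ≠ ⊤ := by
    rintro rfl
    rw [ENat.mul_top ha0, ENat.top_mul (ENat.top_ne_zero)] at h
    exact hat h
  lift a to ℕ using hat
  lift s to ℕ using hs
  have ha0' : a ≠ 0 := by exact_mod_cast ha0
  have h' : a = a * s * s := by exact_mod_cast h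
  have h2 : a * 1 = a * (s * s) := by rw [mul_one, ← mul_assoc]; exact h'
  have h3 : 1 = s * s := Nat.eq_of_mul_eq_mul_left (Nat.pos_of_ne_zero ha0') h2
  have : s = 1 := Nat.eq_one_of_mul_eq_one_left h3.symm
  exact_mod_cast this

variable [IsLocalRing A] [IsNoetherianRing A]

/-- **Dimension zero**: a normalized dualizing complex over an Artinian local ring is the
injective hull of the residue field in degree `0`. -/
theorem dualizing_iso_hull_of_dim_zero (h0 : ringKrullDim A = 0) (ω : Dual.D A)
    (hω : Dual.IsDualizing A ω) (hn : Dual.IsNormalized A ω) (E : Type u) [AddCommGroup E]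
    [Module A E] (f : IsLocalRing.ResidueField A →ₗ[A] E) (hf : InjHull.IsInjectiveHull f) :
    Nonempty (ω ≅ Dual.inD A E) := by
  -- vanishing of all `Ext^i`, `i ≠ 0`
  have hvan : ∀ (M : Type u) [AddCommGroup M] [Module A M] [Module.Finite A M] (i : ℤ),
      i ≠ 0 → Subsingleton (Dual.inD A M ⟶ ω⟦i⟧) := by
    intro M _ _ _ i hi
    rcases lt_or_gt_of_ne hi with h | h
    · refine subsingleton_hom_of_lt_neg_supportDim ω hω hn 0 M ?_ i (by simpa using h)
      refine (Module.supportDim_le_ringKrullDim A M).trans ?_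
      rw [h0]
      rfl
    · exact subsingleton_hom_pos ω hω hn M i h
  -- cohomology concentrated in degree `0`
  have hH : ∀ i : ℤ, i ≠ 0 → IsZero ((homologyFunctor (ModuleCat.{u} A) i).obj ω) := by
    intro i hi
    have := (subsingleton_hom_ring_iff ω i).1 (hvan A i hi)
    exact ModuleCat.isZero_of_subsingleton _
  haveI : ω.IsGE 0 := (DerivedCategory.isGE_iff ω 0).2 (fun i hi => hH i (by omega))
  haveI : ω.IsLE 0 := (DerivedCategory.isLE_iff ω 0).2 (fun i hi => hH i (by omega))
  obtain ⟨e0⟩ := Groth.Agent.S0973.iso_single_of_amp ω 0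
  obtain ⟨W, hWdef⟩ : ∃ W : ModuleCat.{u} A, W = (homologyFunctor (ModuleCat.{u} A) 0).obj ω :=
    ⟨_, rfl⟩
  rw [← hWdef] at e0
  have e : ω ≅ Dual.inD A W := e0
  haveI : Module.Finite A W := by
    rw [hWdef]
    exact hω.finite_cohomology 0
  -- `W` is injective
  have hWinj : Module.Injective A W := injective_of_ext_vanishing W (fun J => by
    have := hvan (A ⧸ J) 1 one_ne_zero
    exact subsingleton_hom_of_iso_right ((shiftFunctor (Dual.D A) (1 : ℤ)).mapIso e) this)
  -- Artinian
  haveI : IsArtinianRing A := by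
    rw [isArtinianRing_iff_isNoetherianRing_krullDimLE_zero]
    exact ⟨inferInstance, ⟨le_of_eq h0⟩⟩
  have hfl : ∀ (M : Type u) [AddCommGroup M] [Module A M] [Module.Finite A M],
      IsFiniteLength A M := fun M _ _ _ =>
    isFiniteLength_iff_isNoetherian_isArtinian.2 ⟨inferInstance, inferInstance⟩
  -- lengths
  have hlenW : Module.length A W = Module.length A A *
      Module.length A (IsLocalRing.ResidueField A →ₗ[A] W) := by
    rw [← length_hom_eq_mul W hWinj A (hfl A)]
    exact (LinearMap.ringLmapEquivSelf A A W).symm.length_eq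
  have hlenEnd : Module.length A (W →ₗ[A] W) = Module.length A W *
      Module.length A (IsLocalRing.ResidueField A →ₗ[A] W) :=
    length_hom_eq_mul W hWinj W (hfl W)
  have hEnd : Module.length A (W →ₗ[A] W) = Module.length A A := by
    have e1 : (W →ₗ[A] W) ≃ₗ[A] (Dual.inD A W ⟶ Dual.inD A W) := homSingleEquiv W W
    have e2 : (Dual.inD A W ⟶ Dual.inD A W) ≃ₗ[A] (ω ⟶ ω) := Linear.homCongr A e.symm e.symm
    have e3 : A ≃ₗ[A] (ω ⟶ ω) :=
      LinearEquiv.ofBijective (LinearMap.toSpanSingleton A (ω ⟶ ω) (𝟙 ω)) hω.toEnd_bijective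
    rw [e1.length_eq, e2.length_eq, e3.length_eq]
  have hs : Module.length A (IsLocalRing.ResidueField A →ₗ[A] W) = 1 := by
    apply enat_eq_one_of_eq_mul_mul (a := Module.length A A)
    · exact (Module.length_pos (R := A) (M := A)).ne'
    · exact Module.length_ne_top_iff.2 (hfl A)
    · rw [← hlenW, ← hlenEnd, hEnd]
  haveI hsimple : IsSimpleModule A (IsLocalRing.ResidueField A →ₗ[A] W) :=
    Module.length_eq_one_iff.1 hs
  -- power torsion
  have hpt : LocCoh.IsPowerTorsion (IsLocalRing.maximalIdeal A) W := by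
    obtain ⟨n, hn'⟩ := IsArtinianRing.isNilpotent_jacobson_bot (R := A)
    rw [IsLocalRing.jacobson_eq_maximalIdeal ⊥ bot_ne_top] at hn'
    intro w
    refine ⟨n, fun a ha => ?_⟩
    rw [hn'] at ha
    rw [(Submodule.mem_bot A).1 ha, zero_smul]
  obtain ⟨f', hf'⟩ := (Groth.Agent.S5155.result A W).2 ⟨hWinj, hpt, hsimple⟩
  obtain ⟨eWE, -⟩ := Groth.Agent.S0302.result A (IsLocalRing.ResidueField A) W E f' hf' f hf
  exact ⟨e ≪≫ (DerivedCategory.singleFunctor (ModuleCat.{u} A) 0).mapIso eWE.toModuleIso⟩


end Groth.Agent.R2.H94.DualArtin
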