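import Mathlib
import Groth.Prelude.Def_Wider
import Groth.Agent.R2.H94DualExt
import Groth.Agent.R2.H94DualDepth
import Groth.Agent.R2.H94DualDim

/-!
# Dimension of the support of Ext into a normalized dualizing complex (helper94)

For a Noetherian local ring `A` with normalized dualizing complex `ω` and a finite module `M`,
`dim Supp Hom(M[0], ω[-k]) ≤ k`.
-/
set_option autoImplicit false
universe u
open CategoryTheory CategoryTheory.Limits
attribute [local instance] HasDerivedCategory.standard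

namespace Groth.Agent.R2.H94.DualSupp

open DerivedCategory Pretriangulated Dual Groth.Agent.R2.H94.DualExt Groth.Agent.R2.H94.DualDepth
  Groth.Agent.R2.H94.DualDim
open scoped Pointwise

section general

variable {R : Type*} [CommRing R] {E E' E'' : Type*} [AddCommGroup E] [Module R E]
  [AddCommGroup E'] [Module R E'] [AddCommGroup E''] [Module R E'']

/-- support of the middle term of an exact sequence -/
lemma support_subset_union_of_exact (u : E'' →ₗ[R] E) (v : E →ₗ[R] E')
    (h : Function.Exact u v) :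
    Module.support R E ⊆ Module.support R E'' ∪ Module.support R E' := by
  intro p hp
  by_contra hnot
  rw [Set.mem_union, not_or] at hnot
  obtain ⟨h1, h2⟩ := hnot
  rw [Module.notMem_support_iff'] at h1 h2
  have h3 : p ∉ Module.support R E := by
    rw [Module.notMem_support_iff']
    intro e
    obtain ⟨r, hr, hre⟩ := h2 (v e)
    have hv : v (r • e) = 0 := by rw [map_smul, hre]
    obtain ⟨e'', he''⟩ := (h (r • e)).1 hv
    obtain ⟨s, hs, hse⟩ := h1 e''
    refine ⟨s * r, ?_, ?_⟩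
    · intro hmem
      rcases p.2.mem_or_mem hmem with h' | h'
      · exact hs h'
      · exact hr h'
    · rw [mul_smul, ← he'', ← map_smul, hse, map_zero]
  exact h3 hp

/-- dimension of the support: union bound (supports are closed under specialization) -/
lemma supportDim_le_of_support_subset_union
    (hsub : Module.support R E ⊆ Module.support R E'' ∪ Module.support R E')
    (b : WithBot ℕ∞) (h1 : Module.supportDim R E'' ≤ b) (h2 : Module.supportDim R E' ≤ b) :
    Module.supportDim R E ≤ b := by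
  unfold Module.supportDim Order.krullDim
  refine iSup_le fun l => ?_
  rcases hsub (l.head).2 with h0 | h0
  · let l' : LTSeries (Module.support R E'') :=
      { length := l.length
        toFun := fun i => ⟨(l i).1, Module.mem_support_mono (l.head_le i) h0⟩
        step := fun i => l.step i }
    exact (Order.LTSeries.length_le_krullDim l').trans h1
  · let l' : LTSeries (Module.support R E') :=
      { length := l.length
        toFun := fun i => ⟨(l i).1, Module.mem_support_mono (l.head_le i) h0⟩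
        step := fun i => l.step i }
    exact (Order.LTSeries.length_le_krullDim l').trans h2

lemma supportDim_le_of_exact (u : E'' →ₗ[R] E) (v : E →ₗ[R] E')
    (h : Function.Exact u v) (b : WithBot ℕ∞) (h1 : Module.supportDim R E'' ≤ b)
    (h2 : Module.supportDim R E' ≤ b) : Module.supportDim R E ≤ b :=
  supportDim_le_of_support_subset_union (support_subset_union_of_exact u v h) b h1 h2

/-- a module killed by the maximal ideal has support of dimension `≤ 0` -/
lemma supportDim_le_zero_of_smul_eq_zero [IsLocalRing R]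
    (hkill : ∀ a ∈ IsLocalRing.maximalIdeal R, ∀ e : E, a • e = 0) :
    Module.supportDim R E ≤ 0 := by
  unfold Module.supportDim
  have hsub : ∀ p ∈ Module.support R E, p = IsLocalRing.closedPoint R := by
    intro p hp
    have hle : IsLocalRing.maximalIdeal R ≤ p.asIdeal := by
      refine le_trans ?_ (Module.annihilator_le_of_mem_support hp)
      intro a ha
      rw [Module.mem_annihilator]
      exact hkill a ha
    apply PrimeSpectrum.ext
    exact (le_antisymm (IsLocalRing.le_maximalIdeal p.2.ne_top) hle)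
  haveI : Subsingleton (Module.support R E) :=
    ⟨fun a b => Subtype.ext ((hsub a.1 a.2).trans (hsub b.1 b.2).symm)⟩
  exact Order.krullDim_nonpos_of_subsingleton

end general

variable {A : Type u} [CommRing A]

/-- the `A`-linear exact sequence `Hom(N₃, Y) → Hom(N₂, Y) → Hom(N₁, Y)` of a short exact sequence
of modules -/
lemma exact_hom_of_ses {N₁ N₂ N₃ : Type u} [AddCommGroup N₁] [Module A N₁] [AddCommGroup N₂]
    [Module A N₂] [AddCommGroup N₃] [Module A N₃] (f : N₁ →ₗ[A] N₂) (g : N₂ →ₗ[A] N₃)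
    (hf : Function.Injective f) (hg : Function.Surjective g) (hfg : Function.Exact f g)
    (Y : Dual.D A) :
    Function.Exact
      (Linear.leftComp A Y
        ((DerivedCategory.singleFunctor (ModuleCat.{u} A) 0).map (ModuleCat.ofHom g)))
      (Linear.leftComp A Y
        ((DerivedCategory.singleFunctor (ModuleCat.{u} A) 0).map (ModuleCat.ofHom f))) := by
  obtain ⟨δ, hT⟩ := exists_triangle f g hf hg hfg
  intro φ
  constructor
  · intro h
    obtain ⟨ψ, hψ⟩ := Triangle.yoneda_exact₂ _ hT φ h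
    exact ⟨ψ, hψ.symm⟩
  · rintro ⟨ψ, rfl⟩
    have h0 := comp_distTriang_mor_zero₁₂ _ hT
    show (DerivedCategory.singleFunctor (ModuleCat.{u} A) 0).map (ModuleCat.ofHom f) ≫
      (DerivedCategory.singleFunctor (ModuleCat.{u} A) 0).map (ModuleCat.ofHom g) ≫ ψ = 0
    rw [← Category.assoc]
    have h1 : (DerivedCategory.singleFunctor (ModuleCat.{u} A) 0).map (ModuleCat.ofHom f) ≫
      (DerivedCategory.singleFunctor (ModuleCat.{u} A) 0).map (ModuleCat.ofHom g) = 0 := h0
    rw [h1, zero_comp]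

/-- invariance of the support dimension of `Hom(M[0], Y)` under linear equivalences -/
lemma supportDim_hom_le_of_linearEquiv {M M' : Type u} [AddCommGroup M] [Module A M]
    [AddCommGroup M'] [Module A M'] (e : M ≃ₗ[A] M') (Y : Dual.D A) :
    Module.supportDim A (Dual.inD A M' ⟶ Y) ≤ Module.supportDim A (Dual.inD A M ⟶ Y) := by
  let e' : Dual.inD A M ≅ Dual.inD A M' :=
    (DerivedCategory.singleFunctor (ModuleCat.{u} A) 0).mapIso e.toModuleIso
  refine Module.supportDim_le_of_injective (Linear.leftComp A Y e'.hom) ?_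
  intro a b hab
  exact (cancel_epi e'.hom).1 hab

variable [IsLocalRing A] [IsNoetherianRing A]

omit [IsNoetherianRing A] in
/-- `Hom(k[0], Y)` has support of dimension `≤ 0` -/
lemma supportDim_hom_residue_le (Y : Dual.D A) :
    Module.supportDim A (Dual.inD A (A ⧸ IsLocalRing.maximalIdeal A) ⟶ Y) ≤ 0 := by
  apply supportDim_le_zero_of_smul_eq_zero
  intro a ha φ
  have h1 : a • 𝟙 (ModuleCat.of A (A ⧸ IsLocalRing.maximalIdeal A)) = 0 := by
    apply ModuleCat.hom_ext
    apply LinearMap.ext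
    intro y
    obtain ⟨y, rfl⟩ := Ideal.Quotient.mk_surjective y
    simp only [ModuleCat.hom_smul, ModuleCat.hom_id, LinearMap.smul_apply, LinearMap.id_coe,
      id_eq, ModuleCat.hom_zero, LinearMap.zero_apply]
    rw [Algebra.smul_def]
    have : algebraMap A (A ⧸ IsLocalRing.maximalIdeal A) a = 0 :=
      Ideal.Quotient.eq_zero_iff_mem.2 ha
    rw [this, zero_mul]
  have h2 : a • 𝟙 (Dual.inD A (A ⧸ IsLocalRing.maximalIdeal A)) = 0 := by
    rw [← (DerivedCategory.singleFunctor (ModuleCat.{u} A) 0).map_id, ← Functor.map_smul, h1,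
      Functor.map_zero]
  have h3 : a • φ = (a • 𝟙 (Dual.inD A (A ⧸ IsLocalRing.maximalIdeal A))) ≫ φ := by
    rw [Linear.smul_comp, Category.id_comp]
  rw [h3, h2, zero_comp]

/-- the regular-element step for the support dimension -/
lemma supportDim_hom_le_of_regular (M : Type u) [AddCommGroup M] [Module A M]
    (x : A) (hx : x ∈ IsLocalRing.maximalIdeal A) (hreg : IsSMulRegular M x) (Y : Dual.D A)
    (hfin : Module.Finite A (Dual.inD A M ⟶ Y)) :
    Module.supportDim A (Dual.inD A M ⟶ Y) ≤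
      Module.supportDim A (Dual.inD A (QuotSMulTop x M) ⟶ Y⟦(1 : ℤ)⟧) + 1 := by
  obtain ⟨g, δ, hT⟩ := exists_triangle_of_regular M x hreg
  let Ψ : (Dual.inD A M ⟶ Y) →ₗ[A] (Dual.inD A (QuotSMulTop x M) ⟶ Y⟦(1 : ℤ)⟧) :=
    (Linear.leftComp A _ δ).comp ((shiftFunctor (Dual.D A) (1 : ℤ)).mapLinearMap A)
  have hΨ : ∀ φ : Dual.inD A M ⟶ Y, Ψ φ = δ ≫ φ⟦(1 : ℤ)⟧' := fun φ => rfl
  have hker1 : ∀ φ : Dual.inD A M ⟶ Y, Ψ φ = 0 → ∃ φ' : Dual.inD A M ⟶ Y, φ = x • φ' := by
    intro φ h0
    rw [hΨ] at h0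
    have hrot := rot_of_distTriang _ hT
    obtain ⟨ψ, hψ⟩ := Triangle.yoneda_exact₃ _ hrot (φ⟦(1 : ℤ)⟧') h0
    have hψ2 : φ⟦(1 : ℤ)⟧' = (-(x • 𝟙 (Dual.inD A M))⟦(1 : ℤ)⟧') ≫ ψ := hψ
    obtain ⟨ψ', hψ'⟩ : ∃ ψ' : Dual.inD A M ⟶ Y, ψ'⟦(1 : ℤ)⟧' = ψ :=
      (shiftFunctor (Dual.D A) (1 : ℤ)).map_surjective ψ
    refine ⟨-ψ', ?_⟩
    apply (shiftFunctor (Dual.D A) (1 : ℤ)).map_injective
    rw [hψ2, ← hψ']
    simp [Functor.map_smul]
  have hker2 : ∀ φ : Dual.inD A M ⟶ Y, Ψ (x • φ) = 0 := by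
    intro φ
    have h0 : δ ≫ (x • 𝟙 (Dual.inD A M))⟦(1 : ℤ)⟧' = 0 := comp_distTriang_mor_zero₃₁ _ hT
    have h1 : x • φ = (x • 𝟙 (Dual.inD A M)) ≫ φ := by
      rw [Linear.smul_comp, Category.id_comp]
    rw [hΨ, h1, Functor.map_comp, ← Category.assoc, h0, zero_comp]
  have hle : x • (⊤ : Submodule A (Dual.inD A M ⟶ Y)) ≤ LinearMap.ker Ψ := by
    intro φ hφ
    obtain ⟨φ', -, rfl⟩ := (Submodule.mem_smul_pointwise_iff_exists _ _ _).1 hφ
    exact hker2 φ'
  let Ψ' : QuotSMulTop x (Dual.inD A M ⟶ Y) →ₗ[A]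
      (Dual.inD A (QuotSMulTop x M) ⟶ Y⟦(1 : ℤ)⟧) :=
    Submodule.liftQ _ Ψ hle
  have hinj : Function.Injective Ψ' := by
    rw [← LinearMap.ker_eq_bot]
    apply Submodule.ker_liftQ_eq_bot
    intro φ hφ
    obtain ⟨φ', rfl⟩ := hker1 φ hφ
    exact (Submodule.mem_smul_pointwise_iff_exists _ _ _).2 ⟨φ', Submodule.mem_top, rfl⟩
  calc Module.supportDim A (Dual.inD A M ⟶ Y)
      ≤ Module.supportDim A (QuotSMulTop x (Dual.inD A M ⟶ Y)) + 1 :=
        Module.supportDim_le_supportDim_quotSMulTop_succ hx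
    _ ≤ Module.supportDim A (Dual.inD A (QuotSMulTop x M) ⟶ Y⟦(1 : ℤ)⟧) + 1 :=
        add_le_add_left (Module.supportDim_le_of_injective Ψ' hinj) 1

/-- one step of the induction -/
lemma support_step (ω : Dual.D A) (hω : Dual.IsDualizing A ω) (i : ℤ) (b : WithBot ℕ∞)
    (hb0 : 0 ≤ b)
    (hQ : ∀ (Q : Type u) [AddCommGroup Q] [Module A Q] [Module.Finite A Q],
      Module.supportDim A (Dual.inD A Q ⟶ (ω⟦i⟧)⟦(1 : ℤ)⟧) + 1 ≤ b)
    (M : Type u) [AddCommGroup M] [Module A M] [hM : Module.Finite A M] :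
    Module.supportDim A (Dual.inD A M ⟶ ω⟦i⟧) ≤ b := by
  refine IsNoetherianRing.induction_on_isQuotientEquivQuotientPrime A hM
    (motive := fun (N' : Type u) [AddCommGroup N'] [Module A N'] [Module.Finite A N'] =>
      Module.supportDim A (Dual.inD A N' ⟶ ω⟦i⟧) ≤ b) ?_ ?_ ?_
  · intro N' _ _ _ _
    have := subsingleton_hom_of_subsingleton N' (ω⟦i⟧)
    rw [Module.supportDim_eq_bot_of_subsingleton]
    exact bot_le
  · intro N' _ _ _ p e
    refine (supportDim_hom_le_of_linearEquiv e.symm _).trans ?_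
    by_cases hpm : p.asIdeal = IsLocalRing.maximalIdeal A
    · refine (supportDim_hom_le_of_linearEquiv
        (Submodule.quotEquivOfEq _ _ hpm.symm) _).trans ?_
      exact (supportDim_hom_residue_le _).trans hb0
    · have hple : p.asIdeal ≤ IsLocalRing.maximalIdeal A :=
        IsLocalRing.le_maximalIdeal p.2.ne_top
      obtain ⟨x, hxm, hxp⟩ := SetLike.exists_of_lt (lt_of_le_of_ne hple hpm)
      haveI := p.2
      have hreg : IsSMulRegular (A ⧸ p.asIdeal) x := isSMulRegular_quotient_prime _ x hxp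
      exact (supportDim_hom_le_of_regular (A ⧸ p.asIdeal) x hxm hreg (ω⟦i⟧)
        (finite_hom_dualizing ω hω (A ⧸ p.asIdeal) i)).trans (hQ _)
  · intro N₁ _ _ _ N₂ _ _ _ N₃ _ _ _ f g hf hg hfg h1 h3
    exact supportDim_le_of_exact _ _ (exact_hom_of_ses f g hf hg hfg _) b h3 h1

/-- **Support bound**: `dim Supp Hom(M[0], ω[-k]) ≤ k`. -/
theorem supportDim_hom_le (ω : Dual.D A) (hω : Dual.IsDualizing A ω)
    (hn : Dual.IsNormalized A ω) (k : ℕ) :
    ∀ (M : Type u) [AddCommGroup M] [Module A M] [Module.Finite A M],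
      Module.supportDim A (Dual.inD A M ⟶ ω⟦(-(k : ℤ))⟧) ≤ (k : WithBot ℕ∞) := by
  induction k with
  | zero =>
    intro M _ _ _
    refine support_step ω hω _ _ (by simp) ?_ M
    intro Q _ _ _
    have hs : Subsingleton (Dual.inD A Q ⟶ (ω⟦(-((0 : ℕ) : ℤ))⟧)⟦(1 : ℤ)⟧) :=
      subsingleton_hom_shift_succ' _ 1 (by simp) (subsingleton_hom_pos ω hω hn Q 1 one_pos)
    rw [Module.supportDim_eq_bot_of_subsingleton]
    simp
  | succ k ih =>
    intro M _ _ _
    refine support_step ω hω _ _ (by positivity) ?_ M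
    intro Q _ _ _
    let e := (shiftFunctorAdd' (Dual.D A) (-((k + 1 : ℕ) : ℤ)) 1 (-(k : ℤ))
      (by push_cast; ring)).app ω
    have h1 : Module.supportDim A (Dual.inD A Q ⟶ (ω⟦(-((k + 1 : ℕ) : ℤ))⟧)⟦(1 : ℤ)⟧) ≤
        Module.supportDim A (Dual.inD A Q ⟶ ω⟦(-(k : ℤ))⟧) := by
      refine Module.supportDim_le_of_injective (Linear.rightComp A _ e.inv) ?_
      intro a b hab
      exact (cancel_mono e.inv).1 hab
    calc Module.supportDim A (Dual.inD A Q ⟶ (ω⟦(-((k + 1 : ℕ) : ℤ))⟧)⟦(1 : ℤ)⟧) + 1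
        ≤ Module.supportDim A (Dual.inD A Q ⟶ ω⟦(-(k : ℤ))⟧) + 1 := add_le_add_left h1 1
      _ ≤ (k : WithBot ℕ∞) + 1 := add_le_add_left (ih Q) 1
      _ = ((k + 1 : ℕ) : WithBot ℕ∞) := by push_cast; rfl


end Groth.Agent.R2.H94.DualSupp
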