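import Mathlib
import Groth.Agent.R2.H41EpsSpec

/-!
# helper94: PROJ:eps-serre, Pkg1

`ε_* = (SiteCmp.eps h O).push` is full and faithful on sheaves of modules: a sheaf of modules for `J`
and its direct image have the same underlying presheaf of modules.
-/

set_option autoImplicit false
universe u
open CategoryTheory CategoryTheory.Limits Opposite

namespace Groth.Agent.R2.H94.Eps1

variable {C : Type u} [SmallCategory C] {J J' : GrothendieckTopology C} (h : J' ≤ J)
  (O : Sheaf J CommRingCat.{u})

theorem faithful_push : (SiteCmp.eps h O).push.Faithful := by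
  refine ⟨fun {F F'} g g' hgg' => ?_⟩
  apply SheafOfModules.hom_ext
  apply PresheafOfModules.hom_ext
  intro X
  ext m
  have h1 := congrArg (fun t => (t.val.app X).hom m) hgg'
  exact h1

theorem full_push : (SiteCmp.eps h O).push.Full := by
  refine ⟨fun {F F'} φ => ?_⟩
  let ψ₀ : F.val.presheaf ⟶ F'.val.presheaf := (PresheafOfModules.toPresheaf _).map φ.val
  have lin : ∀ (X : Cᵒᵖ) (r : (ModSite.ringSh O).obj.obj X) (m : F.val.obj X),
      ψ₀.app X (r • m) = r • ψ₀.app X m := by
    intro X r m
    exact (φ.val.app X).hom.map_smul r m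
  refine ⟨⟨PresheafOfModules.homMk ψ₀ lin⟩, ?_⟩
  apply SheafOfModules.hom_ext
  apply PresheafOfModules.hom_ext
  intro X
  ext m
  rfl

theorem pkg1 : Groth.Agent.R2.H41.EpsSpec.Pkg1.{u} := by
  intro C _ J J' h O
  exact ⟨full_push h O, faithful_push h O⟩

end Groth.Agent.R2.H94.Eps1
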