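import Mathlib
import Groth.Agent.R2.H41EpsSpec

/-!
# helper94: PROJ:eps-serre, Pkg3 (pure category theory)

`L ⊣ R` adjunction of abelian categories, `R` fully faithful, `L` left exact, `A` weak Serre in the
source of `R`, and `R` preserves epimorphisms with kernel in `A`.  Then the essential image
`A.map R` is a weak Serre class.
-/

set_option autoImplicit false
universe v₁ v₂ u₁ u₂ u
open CategoryTheory CategoryTheory.Limits

namespace Groth.Agent.R2.H94.Eps3

section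

variable {𝒜 : Type u₁} [Category.{v₁} 𝒜] [Abelian 𝒜] {ℬ : Type u₂} [Category.{v₂} ℬ] [Abelian ℬ]
  (L : ℬ ⥤ 𝒜) (R : 𝒜 ⥤ ℬ) (adj : L ⊣ R) [R.Full] [R.Faithful] [PreservesFiniteLimits L]
  (A : ObjectProperty 𝒜) [WSerre.IsWeakSerre A]
  (hR : ∀ S : ShortComplex 𝒜, S.ShortExact → A S.X₁ → Epi (R.map S.g))

omit [R.Full] [R.Faithful] [PreservesFiniteLimits L] in
include adj in
theorem containsZero : (A.map R).ContainsZero := by
  have : R.IsRightAdjoint := adj.isRightAdjoint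
  obtain ⟨Z, hZ, hAZ⟩ := A.exists_prop_of_containsZero
  exact ⟨⟨R.obj Z, R.map_isZero hZ, A.prop_map_obj R hAZ⟩⟩

omit [R.Faithful] [PreservesFiniteLimits L] in
include adj in
theorem closedUnderKernels : (A.map R).IsClosedUnderKernels := by
  have : PreservesLimitsOfSize.{0, 0} R := adj.rightAdjoint_preservesLimits
  refine ⟨?_⟩
  rintro _ ⟨f, k, hk, ⟨X₁, hX₁, ⟨e₁⟩⟩, ⟨X₂, hX₂, ⟨e₂⟩⟩⟩
  obtain ⟨g, hg⟩ : ∃ g : X₁ ⟶ X₂, R.map g = e₁.hom ≫ f ≫ e₂.inv := ⟨R.preimage _, R.map_preimage _⟩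
  refine ⟨kernel g, A.prop_kernel g hX₁ hX₂, ⟨?_⟩⟩
  have e : kernel f ≅ k.pt := IsLimit.conePointUniqueUpToIso (limit.isLimit (parallelPair f 0)) hk
  refine PreservesKernel.iso R g ≪≫ kernel.mapIso (R.map g) f e₁ e₂ ?_ ≪≫ e
  rw [hg]; simp

omit [R.Faithful] [PreservesFiniteLimits L] in
include adj hR in
theorem closedUnderCokernels : (A.map R).IsClosedUnderCokernels := by
  have : PreservesLimitsOfSize.{0, 0} R := adj.rightAdjoint_preservesLimits
  refine ⟨?_⟩
  rintro _ ⟨f, c, hc, ⟨X₁, hX₁, ⟨e₁⟩⟩, ⟨X₂, hX₂, ⟨e₂⟩⟩⟩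
  obtain ⟨g, hg⟩ : ∃ g : X₁ ⟶ X₂, R.map g = e₁.hom ≫ f ≫ e₂.inv := ⟨R.preimage _, R.map_preimage _⟩
  have hcok : A (cokernel g) := A.prop_cokernel g hX₁ hX₂
  have hker : A (kernel g) := A.prop_kernel g hX₁ hX₂
  have him : A (Abelian.image g) := A.prop_kernel (cokernel.π g) hX₂ hcok
  -- first short exact sequence `0 → ker g → X₁ → im g → 0`
  let S₁ : ShortComplex 𝒜 := ShortComplex.mk (kernel.ι g) (Abelian.factorThruImage g) (by
    rw [← cancel_mono (Abelian.image.ι g)]; simp)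
  have hS₁ : S₁.ShortExact := by
    refine ShortComplex.ShortExact.mk' ?_ (inferInstanceAs (Mono (kernel.ι g)))
      (inferInstanceAs (Epi (Abelian.factorThruImage g)))
    refine ShortComplex.exact_of_f_is_kernel _ ?_
    have : IsLimit (KernelFork.ofι (kernel.ι g) (show kernel.ι g ≫ g = 0 by simp)) :=
      kernelIsKernel g
    exact isKernelOfComp (Abelian.image.ι g) _ this _ (Abelian.image.fac g)
  have hepi₁ : Epi (R.map (Abelian.factorThruImage g)) := hR S₁ hS₁ hker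
  -- second short exact sequence `0 → im g → X₂ → coker g → 0`
  let S₂ : ShortComplex 𝒜 := ShortComplex.mk (Abelian.image.ι g) (cokernel.π g) (by simp)
  have hS₂ : S₂.ShortExact := by
    refine ShortComplex.ShortExact.mk' ?_ (inferInstanceAs (Mono (Abelian.image.ι g)))
      (inferInstanceAs (Epi (cokernel.π g)))
    exact ShortComplex.exact_of_f_is_kernel _ (kernelIsKernel (cokernel.π g))
  have hepi₂ : Epi (R.map (cokernel.π g)) := hR S₂ hS₂ him
  have hex₂ : (S₂.map R).Exact :=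
    hS₂.exact.map_of_mono_of_preservesKernel R hS₂.mono_f inferInstance
  -- the complex `R X₁ → R X₂ → R (coker g)` is exact with epi on the right
  let T : ShortComplex ℬ := ShortComplex.mk (R.map g) (R.map (cokernel.π g)) (by
    rw [← R.map_comp]; simp)
  let φ : T ⟶ S₂.map R :=
    { τ₁ := R.map (Abelian.factorThruImage g)
      τ₂ := 𝟙 _
      τ₃ := 𝟙 _
      comm₁₂ := by
        change R.map (Abelian.factorThruImage g) ≫ R.map (Abelian.image.ι g) = R.map g ≫ 𝟙 _
        rw [← R.map_comp, Abelian.image.fac, Category.comp_id]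
      comm₂₃ := by
        change 𝟙 _ ≫ R.map (cokernel.π g) = R.map (cokernel.π g) ≫ 𝟙 _
        simp }
  have : Epi φ.τ₁ := hepi₁
  have : IsIso φ.τ₂ := inferInstanceAs (IsIso (𝟙 _))
  have : Mono φ.τ₃ := inferInstanceAs (Mono (𝟙 _))
  have hT : T.Exact := (ShortComplex.exact_iff_of_epi_of_isIso_of_mono φ).2 hex₂
  have : Epi T.g := hepi₂
  have hTc : IsColimit (CokernelCofork.ofπ T.g T.zero) := hT.gIsCokernel
  refine ⟨cokernel g, hcok, ⟨?_⟩⟩
  have e : cokernel f ≅ c.pt :=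
    IsColimit.coconePointUniqueUpToIso (colimit.isColimit (parallelPair f 0)) hc
  have e' : cokernel (R.map g) ≅ R.obj (cokernel g) :=
    IsColimit.coconePointUniqueUpToIso (colimit.isColimit (parallelPair (R.map g) 0)) hTc
  refine e'.symm ≪≫ cokernel.mapIso (R.map g) f e₁ e₂ ?_ ≪≫ e
  rw [hg]; simp

include adj hR in
theorem closedUnderExtensions : (A.map R).IsClosedUnderExtensions := by
  have : PreservesLimitsOfSize.{0, 0} R := adj.rightAdjoint_preservesLimits
  have : PreservesColimitsOfSize.{0, 0} L := adj.leftAdjoint_preservesColimits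
  have : L.IsLeftAdjoint := adj.isLeftAdjoint
  refine ⟨?_⟩
  rintro S hS ⟨X₁, hX₁, ⟨e₁⟩⟩ ⟨X₃, hX₃, ⟨e₃⟩⟩
  have hSL : (S.map L).ShortExact := hS.map_of_exact L
  have h₁ : A (L.obj S.X₁) :=
    A.prop_of_iso ((asIso (adj.counit.app X₁)).symm ≪≫ L.mapIso e₁) hX₁
  have h₃ : A (L.obj S.X₃) :=
    A.prop_of_iso ((asIso (adj.counit.app X₃)).symm ≪≫ L.mapIso e₃) hX₃
  have h₂ : A (L.obj S.X₂) := A.prop_X₂_of_shortExact hSL h₁ h₃
  have hepi : Epi (R.map (L.map S.g)) := hR (S.map L) hSL h₁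
  have hSLR : ((S.map L).map R).ShortExact := by
    refine ShortComplex.ShortExact.mk'
      (hSL.exact.map_of_mono_of_preservesKernel R hSL.mono_f inferInstance) ?_ hepi
    have : Mono (L.map S.f) := hSL.mono_f
    exact inferInstanceAs (Mono (R.map (L.map S.f)))
  let φ : S ⟶ (S.map L).map R :=
    { τ₁ := adj.unit.app S.X₁
      τ₂ := adj.unit.app S.X₂
      τ₃ := adj.unit.app S.X₃
      comm₁₂ := (adj.unit.naturality S.f).symm
      comm₂₃ := (adj.unit.naturality S.g).symm }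
  have : IsIso φ.τ₁ := adj.isIso_unit_app_of_iso e₁.symm
  have : IsIso φ.τ₃ := adj.isIso_unit_app_of_iso e₃.symm
  have : IsIso φ.τ₂ := ShortComplex.isIso₂_of_shortExact_of_isIso₁₃ φ hS hSLR
  exact ⟨L.obj S.X₂, h₂, ⟨(asIso φ.τ₂).symm⟩⟩

include adj hR in
theorem isWeakSerre_map : WSerre.IsWeakSerre (A.map R) := by
  have := containsZero L R adj A
  have := closedUnderKernels L R adj A
  have := closedUnderCokernels L R adj A hR
  have := closedUnderExtensions L R adj A hR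
  exact {}

end

theorem pkg3 : Groth.Agent.R2.H41.EpsSpec.Pkg3.{u} := by
  intro 𝒜 _ _ ℬ _ _ L R adj _ _ _ A _ hR
  exact isWeakSerre_map L R adj A hR

end Groth.Agent.R2.H94.Eps3
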