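import Mathlib

/-!
# F-finiteness of power series rings over perfect fields and of finite type algebras
-/

set_option autoImplicit false

namespace Groth.Agent.R2.H94.FFinite

open PowerSeries

theorem charP_powerSeries (p : ℕ) (k : Type*) [CommRing k] [CharP k p] : CharP (PowerSeries k) p :=
  charP_of_injective_algebraMap (R := k) (A := PowerSeries k)
    (by
      intro a b h
      have := congrArg (PowerSeries.coeff 0) h
      simpa [PowerSeries.algebraMap_apply] using this) p

theorem pow_char_eq (p : ℕ) [Fact p.Prime] (k : Type*) [CommRing k] [CharP k p] (f : PowerSeries k) :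
    f ^ p = (PowerSeries.expand p (Fact.out : p.Prime).ne_zero f).map (frobenius k p) :=
  (MvPowerSeries.map_frobenius_expand (σ := Unit) (R := k) p (Fact.out : p.Prime).ne_zero (f := f)).symm

theorem coeff_pow_char (p : ℕ) [Fact p.Prime] (k : Type*) [CommRing k] [CharP k p] (f : PowerSeries k)
    (m : ℕ) : coeff m (f ^ p) = if p ∣ m then (coeff (m / p) f) ^ p else 0 := by
  rw [pow_char_eq, PowerSeries.coeff_map, PowerSeries.coeff_expand]
  split_ifs
  · simp [frobenius_def]
  · simp

/-- Frobenius of `k⟦X⟧` is finite when `k` is a perfect field of char p. -/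
theorem frobenius_powerSeries_finite (p : ℕ) [Fact p.Prime] (k : Type*) [Field k] [CharP k p]
    [PerfectRing k p] :
    haveI := charP_powerSeries p k
    (frobenius (PowerSeries k) p).Finite := by
  classical
  haveI := charP_powerSeries p k
  have hp : 0 < p := (Fact.out : p.Prime).pos
  rw [RingHom.Finite]
  refine @Module.Finite.of_fg_top _ _ _ _ (frobenius (PowerSeries k) p).toAlgebra.toModule
    ⟨(Finset.range p).image (fun i => (X : PowerSeries k) ^ i), ?_⟩
  rw [eq_top_iff]
  rintro f -
  -- decomposition
  let g : ℕ → PowerSeries k := fun i =>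
    PowerSeries.mk (fun n => (frobeniusEquiv k p).symm (coeff (p * n + i) f))
  have hf : f = ∑ i ∈ Finset.range p, (g i) ^ p * X ^ i := by
    ext m
    rw [map_sum]
    simp only [PowerSeries.coeff_mul_X_pow']
    rw [Finset.sum_eq_single (m % p)]
    · rw [if_pos (Nat.mod_le _ _), coeff_pow_char, if_pos (Nat.dvd_sub_mod m)]
      simp only [g, coeff_mk]
      rw [← frobenius_def, ← frobeniusEquiv_apply, RingEquiv.apply_symm_apply]
      congr 1
      have h1 := Nat.div_add_mod m p
      have h2 : (m - m % p) / p = m / p := by
        have : m - m % p = p * (m / p) := by omega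
        rw [this, Nat.mul_div_cancel_left _ hp]
      rw [h2, h1]
    · intro i hi hne
      split_ifs with h1
      · rw [coeff_pow_char, if_neg]
        intro hdvd
        apply hne
        have hi' : i < p := Finset.mem_range.mp hi
        obtain ⟨c, hc⟩ := hdvd
        have : m = p * c + i := by omega
        rw [this, Nat.mul_add_mod, Nat.mod_eq_of_lt hi']
      · rfl
    · intro h
      exact absurd (Finset.mem_range.mpr (Nat.mod_lt _ hp)) h
  rw [hf]
  refine Submodule.sum_mem _ (fun i hi => ?_)
  have : (g i) ^ p * X ^ i =
      @HSMul.hSMul _ _ _ (@instHSMul _ _ (frobenius (PowerSeries k) p).toAlgebra.toSMul) (g i)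
        ((X : PowerSeries k) ^ i) := rfl
  rw [this]
  refine @Submodule.smul_mem _ _ _ _ (frobenius (PowerSeries k) p).toAlgebra.toModule _ _ (g i)
    (@Submodule.subset_span _ _ _ _ (frobenius (PowerSeries k) p).toAlgebra.toModule _ _ ?_)
  exact Finset.mem_coe.mpr (Finset.mem_image.mpr ⟨i, hi, rfl⟩)

/-- F-finiteness passes to finite type algebras. -/
theorem frobenius_finite_of_finiteType (p : ℕ) [Fact p.Prime] (R : Type*) [CommRing R] [CharP R p]
    (hR : (frobenius R p).Finite)
    (A : Type*) [CommRing A] [CharP A p] [Algebra R A] [Algebra.FiniteType R A] :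
    (frobenius A p).Finite := by
  -- `frobenius A p` is integral
  have hint : (frobenius A p).IsIntegral := by
    intro a
    refine ⟨Polynomial.X ^ p - Polynomial.C a, Polynomial.monic_X_pow_sub_C _ (Fact.out : p.Prime).ne_zero, ?_⟩
    simp [frobenius_def]
  have hcomm : (frobenius A p).comp (algebraMap R A) = (algebraMap R A).comp (frobenius R p) := by
    ext r; simp [frobenius_def]
  have hft : (frobenius A p).FiniteType := by
    apply RingHom.FiniteType.of_comp_finiteType (f := algebraMap R A)
    rw [hcomm]
    exact RingHom.FiniteType.comp (RingHom.finiteType_algebraMap.mpr inferInstance) hR.finiteType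
  exact RingHom.IsIntegral.to_finite hint hft

end Groth.Agent.R2.H94.FFinite
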