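import Mathlib

/-!
# Group cohomology of uniquely `|G|`-divisible modules vanishes in positive degrees
(via Shapiro's lemma for the trivial subgroup and the trace map).
-/

set_option autoImplicit false

namespace Groth.Agent.R2.H94.GrpCohDiv

open CategoryTheory CategoryTheory.Limits

universe u
variable {k G : Type u} [CommRing k] [Group G] [Fintype G] (M : Rep.{u} k G)

/-- The canonical map `M → coind_1^G M`, `m ↦ (h ↦ ρ(h) m)`. -/
noncomputable def toCoind :
    M ⟶ Rep.coind (⊥ : Subgroup G).subtype (Rep.res (⊥ : Subgroup G).subtype M) :=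
  Rep.ofHom (ρ := M.ρ)
    { toFun := fun m => ⟨fun h => M.ρ h m, by
        intro g h
        simp [map_mul]⟩
      map_add' := by
        intro a b
        ext h
        simp
      map_smul' := by
        intro c a
        ext h
        simp
      isIntertwining' := by
        intro g
        ext m h
        show (M.ρ h) ((M.ρ g) m) = M.ρ (h * g) m
        rw [map_mul]; rfl }

/-- The trace map `coind_1^G M → M`, `f ↦ ∑ h, ρ(h⁻¹) (f h)`. -/
noncomputable def fromCoind :
    Rep.coind (⊥ : Subgroup G).subtype (Rep.res (⊥ : Subgroup G).subtype M) ⟶ M :=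
  Rep.ofHom (σ := M.ρ)
    { toFun := fun f => ∑ h : G, M.ρ h⁻¹ (f.1 h)
      map_add' := by
        intro a b
        simp [Finset.sum_add_distrib]
      map_smul' := by
        intro c a
        simp [Finset.smul_sum]
      isIntertwining' := by
        intro g
        ext f
        show ∑ h : G, M.ρ h⁻¹ (f.1 (h * g)) = M.ρ g (∑ h : G, M.ρ h⁻¹ (f.1 h))
        rw [map_sum]
        refine Fintype.sum_equiv (Equiv.mulRight g) _ _ (fun h => ?_)
        simp only [Equiv.coe_mulRight, mul_inv_rev]
        rw [← Module.End.mul_apply, ← map_mul, mul_inv_cancel_left] }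

theorem toCoind_fromCoind_apply (m : M) :
    (toCoind M ≫ fromCoind M).hom m = Fintype.card G • m := by
  show ∑ h : G, M.ρ h⁻¹ (M.ρ h m) = _
  simp [← Module.End.mul_apply, ← map_mul]


theorem isZero_groupCohomology_coind_succ (n : ℕ) :
    IsZero (groupCohomology
      (Rep.coind (⊥ : Subgroup G).subtype (Rep.res (⊥ : Subgroup G).subtype M)) (n + 1)) :=
  (isZero_groupCohomology_succ_of_subsingleton
    (Rep.res (⊥ : Subgroup G).subtype M) n).of_iso
    (groupCohomology.coindIso (Rep.res (⊥ : Subgroup G).subtype M) (n + 1))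

/-- If multiplication by `|G|` is bijective on `M`, then `H^{n+1}(G, M) = 0`. -/
theorem isZero_groupCohomology_succ_of_bijective_card_smul
    (hM : Function.Bijective (fun m : M => Fintype.card G • m)) (n : ℕ) :
    IsZero (groupCohomology M (n + 1)) := by
  set f : M ⟶ M := toCoind M ≫ fromCoind M with hf
  haveI : IsIso f := by
    haveI : IsIso ((forget (Rep.{u} k G)).map f) := by
      rw [isIso_iff_bijective]
      convert hM using 1
      ext m
      exact toCoind_fromCoind_apply M m
    exact isIso_of_reflects_iso f (forget (Rep.{u} k G))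
  have h0 : (groupCohomology.functor k G (n + 1)).map f = 0 := by
    rw [hf, Functor.map_comp]
    have hz : IsZero ((groupCohomology.functor k G (n + 1)).obj
        (Rep.coind (⊥ : Subgroup G).subtype (Rep.res (⊥ : Subgroup G).subtype M))) :=
      isZero_groupCohomology_coind_succ M n
    rw [hz.eq_of_tgt ((groupCohomology.functor k G (n + 1)).map (toCoind M)) 0, zero_comp]
  have hz : IsZero ((groupCohomology.functor k G (n + 1)).obj M) := by
    rw [IsZero.iff_id_eq_zero]
    have h1 : 𝟙 ((groupCohomology.functor k G (n + 1)).obj M) =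
        (groupCohomology.functor k G (n + 1)).map f ≫
          inv ((groupCohomology.functor k G (n + 1)).map f) := by
      rw [IsIso.hom_inv_id]
    rw [h1]
    simp only [h0, zero_comp]
  exact hz

/-- If `φ : A ⟶ B` is a surjective morphism of representations of a finite group `G` whose kernel is
uniquely `|G|`-divisible, then `φ` induces bijections on `H^n`, `n ≥ 1`. -/
theorem bijective_map_of_ker_uniquely_divisible {A B : Rep.{u} k G} (φ : A ⟶ B)
    (hsurj : Function.Surjective φ.hom)
    (hinj : ∀ x : A, φ.hom x = 0 → Fintype.card G • x = 0 → x = 0)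
    (hdiv : ∀ x : A, φ.hom x = 0 → ∃ y : A, φ.hom y = 0 ∧ Fintype.card G • y = x)
    (n : ℕ) (hn : 1 ≤ n) :
    Function.Bijective ((groupCohomology.functor k G n).map φ).hom := by
  haveI : Epi φ := (Rep.epi_iff_surjective φ).2 hsurj
  set K := kernel φ with hK
  set ι := kernel.ι φ with hι
  set X : ShortComplex (Rep.{u} k G) := ShortComplex.mk ι φ (kernel.condition φ) with hXdef
  have hX : X.ShortExact :=
    { exact := ShortComplex.exact_kernel φ
      mono_f := inferInstanceAs (Mono (kernel.ι φ))
      epi_g := inferInstanceAs (Epi φ) }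
  have hιinj : Function.Injective ι.hom := (Rep.mono_iff_injective ι).1 hX.mono_f
  have hker : ∀ y, φ.hom y = 0 → ∃ x, ι.hom x = y := by
    have h := (ShortComplex.moduleCat_exact_iff _).mp
      (hX.exact.map (forget₂ (Rep.{u} k G) (ModuleCat k)))
    intro y hy
    exact h y hy
  have hιφ : ∀ x, φ.hom (ι.hom x) = 0 := by
    intro x
    have := kernel.condition φ
    have h2 := congrArg (fun f => f.hom x) this
    exact h2
  -- multiplication by |G| is bijective on K
  have hKbij : Function.Bijective (fun m : K => Fintype.card G • m) := by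
    constructor
    · intro x y hxy
      have h1 : Fintype.card G • (x - y) = 0 := by
        rw [smul_sub]; exact sub_eq_zero.mpr hxy
      have h2 : ι.hom (x - y) = 0 := by
        apply hinj _ (hιφ _)
        rw [← map_nsmul, h1, map_zero]
      have h3 : x - y = 0 := hιinj (by rw [h2, map_zero])
      exact sub_eq_zero.mp h3
    · intro y
      obtain ⟨z, hz0, hz⟩ := hdiv (ι.hom y) (hιφ y)
      obtain ⟨x, hx⟩ := hker z hz0
      refine ⟨x, hιinj ?_⟩
      show ι.hom (Fintype.card G • x) = ι.hom y
      rw [map_nsmul, hx, hz]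
  obtain ⟨m, rfl⟩ : ∃ m, n = m + 1 := ⟨n - 1, by omega⟩
  have hz1 : IsZero (groupCohomology K (m + 1)) :=
    isZero_groupCohomology_succ_of_bijective_card_smul K hKbij m
  have hz2 : IsZero (groupCohomology K (m + 1 + 1)) :=
    isZero_groupCohomology_succ_of_bijective_card_smul K hKbij (m + 1)
  have e2 := groupCohomology.mapShortComplex₂_exact hX (m + 1)
  have e3 := groupCohomology.mapShortComplex₃_exact hX (i := m + 1) (j := m + 1 + 1) rfl
  haveI : Mono ((groupCohomology.functor k G (m + 1)).map φ) :=
    e2.mono_g (hz1.eq_of_src _ _)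
  haveI : Epi ((groupCohomology.functor k G (m + 1)).map φ) :=
    e3.epi_f (hz2.eq_of_tgt _ _)
  exact ⟨(ModuleCat.mono_iff_injective _).1 inferInstance,
    (ModuleCat.epi_iff_surjective _).1 inferInstance⟩

section LocalRing

open IsLocalRing

theorem eq_one_of_pow_eq_one_of_residue {R : Type*} [CommRing R] [IsLocalRing R] (N : ℕ)
    (hN : ((N : ℕ) : ResidueField R) ≠ 0) (u : R) (hu : u ^ N = 1) (hres : residue R u = 1) :
    u = 1 := by
  have h1 : (u - 1) * ∑ i ∈ Finset.range N, u ^ i = 0 := by
    rw [mul_comm, geom_sum_mul, hu, sub_self]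
  have h2 : IsUnit (∑ i ∈ Finset.range N, u ^ i) := by
    rw [← IsLocalRing.residue_ne_zero_iff_isUnit]
    rw [map_sum]
    simp only [map_pow, hres, one_pow, Finset.sum_const, Finset.card_range, nsmul_eq_mul, mul_one]
    exact hN
  have := h2.mul_left_eq_zero.mp h1
  exact sub_eq_zero.mp this

theorem exists_pow_eq_of_residue {R : Type*} [CommRing R] [HenselianLocalRing R] (N : ℕ) (hN0 : 0 < N)
    (hN : ((N : ℕ) : ResidueField R) ≠ 0) (u : R) (hres : residue R u = 1) :
    ∃ v : R, v ^ N = u ∧ residue R v = 1 := by
  have hmonic : (Polynomial.X ^ N - Polynomial.C u : Polynomial R).Monic :=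
    Polynomial.monic_X_pow_sub_C u hN0.ne'
  obtain ⟨v, hv, hv1⟩ := HenselianLocalRing.is_henselian (Polynomial.X ^ N - Polynomial.C u) hmonic 1
    (by
      simp only [Polynomial.eval_sub, Polynomial.eval_pow, Polynomial.eval_X, one_pow,
        Polynomial.eval_C]
      rw [← IsLocalRing.residue_eq_zero_iff, map_sub, map_one, hres, sub_self])
    (by
      simp only [Polynomial.derivative_sub, Polynomial.derivative_X_pow, Polynomial.derivative_C,
        sub_zero, Polynomial.eval_mul, Polynomial.eval_C, Polynomial.eval_pow, Polynomial.eval_X,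
        one_pow, mul_one]
      rw [← IsLocalRing.residue_ne_zero_iff_isUnit, map_natCast]
      exact hN)
  refine ⟨v, ?_, ?_⟩
  · have := hv
    simp only [Polynomial.IsRoot, Polynomial.eval_sub, Polynomial.eval_pow, Polynomial.eval_X,
      Polynomial.eval_C] at this
    exact sub_eq_zero.mp this
  · rw [← IsLocalRing.residue_eq_zero_iff, map_sub, map_one] at hv1
    exact sub_eq_zero.mp hv1

end LocalRing

end Groth.Agent.R2.H94.GrpCohDiv
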