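import Mathlib
import Groth.Agent.R2.LeadH399Spec
import Groth.Agent.Lib.Helper1StalkTensorC
import Groth.Agent.Lib.Helper2RankLoc
import Groth.Agent.Lib.Helper18PBUnit2
import Groth.Agent.Lib.Helper23SecTw3
set_option backward.isDefEq.respectTransparency.types false

/-!
# PROJ:h399, [FW2] (helper94): flatness over the base is insensitive to invertible twists
-/

set_option autoImplicit false
set_option linter.style.haveILetI false
universe u
open CategoryTheory CategoryTheory.Limits AlgebraicGeometry TopologicalSpace Opposite TensorProduct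
  MonoidalCategory

namespace Groth.Agent.R2.H94.H399

open Groth.Agent.Lib.Helper1.StalkTensor Groth.Agent.R2.Lead.H399Spec

section Algebra

/-- if `M` is a `B`-module, flat over `A` through `φ : A → B`, and `N` is a free `B`-module, then
`M ⊗_B N` is flat over `A` through `φ`. -/
lemma flat_compHom_tensor_free {A B : Type u} [CommRing A] [CommRing B] (φ : A →+* B)
    (M N T : Type u) [AddCommGroup M] [Module B M] [AddCommGroup N] [Module B N] [Module.Free B N]
    [AddCommGroup T] [Module B T] (E : T ≃ₗ[B] M ⊗[B] N)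
    (hM : @Module.Flat A M _ _ (Module.compHom M φ)) :
    @Module.Flat A T _ _ (Module.compHom T φ) := by
  classical
  letI : Module A M := Module.compHom M φ
  letI : Module A T := Module.compHom T φ
  haveI : Module.Flat A M := hM
  let ι := Module.Free.ChooseBasisIndex B N
  let b : Module.Basis ι B N := Module.Free.chooseBasis B N
  let E₂ : T ≃ₗ[B] (ι →₀ M) := E ≪≫ₗ
    (TensorProduct.congr (LinearEquiv.refl B M) b.repr) ≪≫ₗ
      TensorProduct.finsuppScalarRight B B M ι
  let E₃ : T ≃ₗ[A] (ι →₀ M) :=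
    { E₂.toAddEquiv with
      map_smul' := fun a t => by
        change E₂ (φ a • t) = a • E₂ t
        rw [E₂.map_smul]
        ext i
        rfl }
  let E₄ : (ι →₀ M) ≃ₗ[A] Π₀ _ : ι, M := finsuppLequivDFinsupp A
  exact Module.Flat.of_linearEquiv (E₃ ≪≫ₗ E₄)

end Algebra

variable {X : Scheme.{u}}

/-- the stalk of the tensor product of two `O_X`-modules -/
noncomputable def stalkTensorEquiv (F L : X.Modules) (x : X) :
    (CohB1.tensorMod F L).presheaf.stalk x ≃ₗ[X.presheaf.stalk x]
      (F.presheaf.stalk x) ⊗[X.presheaf.stalk x] (L.presheaf.stalk x) :=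
  (LinearEquiv.ofBijective (smₗ (etaX (toPM F ⊗ toPM L)) x)
    (sm_etaX_bijective (toPM F ⊗ toPM L) x)).symm ≪≫ₗ αLin (toPM F) (toPM L) x

theorem fw2 : FW2Stmt.{u} := by
  intro X Y f F L hL hF x
  haveI := Groth.Agent.Lib.Helper23.SecTw.isQuasicoherent_of_isInvertible L hL
  obtain ⟨U, n, hxU, ⟨e⟩⟩ := Groth.Agent.Helper18PBUnit.isFinLocFree_of_isInvertible hL x
  haveI hfree : Module.Free (X.presheaf.stalk x) (L.presheaf.stalk x) :=
    (Groth.Agent.Lib.Helper2.RankLoc.fibreRank_eq_of_restrict_iso_freeMod U.ι L e ⟨x, hxU⟩).1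
  exact flat_compHom_tensor_free (f.stalkMap x).hom (F.presheaf.stalk x) (L.presheaf.stalk x)
    ((CohB1.tensorMod F L).presheaf.stalk x) (stalkTensorEquiv F L x) (hF x)

end Groth.Agent.R2.H94.H399
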