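import Groth.Agent.R2.H94HypSmooth
set_option autoImplicit false
namespace Groth.Agent.R2.H94.HirzCharts

open Polynomial Groth.Agent.R2.H94.HypSmooth

universe u

variable {k : Type u} [Field k]

lemma natDegree_lt_of_coeff_eq_zero {A : k[X]} {m : ℕ} (hm : 0 < m) (hA : A.natDegree ≤ m)
    (h0 : A.coeff m = 0) : A.natDegree < m := by
  rcases hA.lt_or_eq with h | h
  · exact h
  · exfalso
    rw [← h, coeff_natDegree, leadingCoeff_eq_zero] at h0
    subst h0
    simp at h
    omega

lemma isCoprime_X_pow_of_coeff_zero_ne_zero {A : k[X]} (N : ℕ) (h : A.coeff 0 ≠ 0) :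
    IsCoprime A (X ^ N) := by
  apply IsCoprime.pow_right
  have h1 : A = C (A.coeff 0) + X * A.divX := by
    conv_lhs => rw [← divX_mul_X_add A]
    ring
  rw [h1]
  apply IsCoprime.add_mul_left_left
  exact ⟨C (A.coeff 0)⁻¹, 0, by rw [zero_mul, add_zero, ← C_mul, inv_mul_cancel₀ h, C_1]⟩

/-- resultant vs. coprimality, including the point at infinity -/
theorem isCoprime_of_resultant_ne_zero (A B : k[X]) (m n : ℕ) (hm : 0 < m) (hn : 0 < n)
    (hA : A.natDegree ≤ m) (hB : B.natDegree ≤ n) (h : resultant A B m n ≠ 0) :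
    IsCoprime A B ∧ IsCoprime (reflect m A) (reflect n B) := by
  obtain ⟨p, q, hp, hq, e⟩ := exists_mul_add_mul_eq_C_resultant A B hA hB (Or.inl hm.ne')
  have hp' : p.natDegree ≤ n := by
    rcases eq_or_ne p 0 with rfl | hp0
    · simp
    · exact (natDegree_lt_iff_degree_lt hp0).mpr hp |>.le
  have hq' : q.natDegree ≤ m := by
    rcases eq_or_ne q 0 with rfl | hq0
    · simp
    · exact (natDegree_lt_iff_degree_lt hq0).mpr hq |>.le
  have hinv : C (resultant A B m n)⁻¹ * C (resultant A B m n) = (1 : k[X]) := by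
    rw [← C_mul, inv_mul_cancel₀ h, C_1]
  constructor
  · refine ⟨C (resultant A B m n)⁻¹ * p, C (resultant A B m n)⁻¹ * q, ?_⟩
    linear_combination C (resultant A B m n)⁻¹ * e + hinv
  · have e2 := congrArg (reflect (m + n)) e
    rw [reflect_add, reflect_mul A p hA hp', add_comm m n, reflect_mul B q hB hq', reflect_C] at e2
    -- not both leading coefficients vanish
    have hlead : A.coeff m ≠ 0 ∨ B.coeff n ≠ 0 := by
      by_contra hcon
      push Not at hcon
      apply h
      apply resultant_eq_zero_of_lt_lt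
      · exact natDegree_lt_of_coeff_eq_zero hm hA hcon.1
      · exact natDegree_lt_of_coeff_eq_zero hn hB hcon.2
    have hXN : X ^ (n + m) = reflect m A * (C (resultant A B m n)⁻¹ * reflect n p) +
        reflect n B * (C (resultant A B m n)⁻¹ * reflect m q) := by
      linear_combination (-C (resultant A B m n)⁻¹) * e2 - X ^ (n + m) * hinv
    rcases hlead with hl | hl
    · have h1 : IsCoprime (reflect m A) (X ^ (n + m)) :=
        isCoprime_X_pow_of_coeff_zero_ne_zero _ (by rw [coeff_reflect, revAt_zero]; exact hl)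
      rw [hXN, add_comm] at h1
      exact (IsCoprime.of_add_mul_left_right h1).of_mul_right_left
    · have h1 : IsCoprime (reflect n B) (X ^ (n + m)) :=
        isCoprime_X_pow_of_coeff_zero_ne_zero _ (by rw [coeff_reflect, revAt_zero]; exact hl)
      rw [hXN] at h1
      exact ((IsCoprime.of_add_mul_left_right h1).of_mul_right_left).symm



theorem resultant_ne_zero_of_isCoprime (A B : k[X]) (m n : ℕ)
    (hA : A.natDegree ≤ m) (hB : B.natDegree ≤ n) (h1 : IsCoprime A B)
    (h2 : IsCoprime (reflect m A) (reflect n B)) : resultant A B m n ≠ 0 := by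
  have hlead : A.coeff m ≠ 0 ∨ B.coeff n ≠ 0 := by
    by_contra hcon
    push Not at hcon
    obtain ⟨a, b, hab⟩ := h2
    have := congrArg (fun p => p.coeff 0) hab
    simp only [coeff_add, mul_coeff_zero, coeff_reflect, revAt_zero, hcon.1, hcon.2, mul_zero,
      add_zero, coeff_one_zero] at this
    exact zero_ne_one this
  have hres : resultant A B ≠ 0 := resultant_ne_zero A B h1
  rcases hlead with hl | hl
  · have hdeg : A.natDegree = m := le_antisymm hA (le_natDegree_of_ne_zero hl)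
    obtain ⟨j, rfl⟩ := Nat.exists_eq_add_of_le hB
    rw [resultant_add_right_deg _ _ _ _ _ le_rfl, ← hdeg]
    exact mul_ne_zero (pow_ne_zero _ (by rw [hdeg]; exact hl)) hres
  · have hdeg : B.natDegree = n := le_antisymm hB (le_natDegree_of_ne_zero hl)
    obtain ⟨j, rfl⟩ := Nat.exists_eq_add_of_le hA
    rw [resultant_add_left_deg _ _ _ _ _ le_rfl, ← hdeg]
    refine mul_ne_zero (mul_ne_zero (pow_ne_zero _ (by simp)) (pow_ne_zero _ ?_)) hres
    rw [hdeg]; exact hl



/-- embed `k[X]` into `k[t,w]` via `X ↦ t = X 0` -/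
noncomputable def toMv : k[X] →ₐ[k] MvPolynomial (Fin 2) k :=
  Polynomial.aeval (MvPolynomial.X 0)

/-- retraction `t ↦ X`, `w ↦ 0` -/
noncomputable def ofMv : MvPolynomial (Fin 2) k →ₐ[k] k[X] :=
  MvPolynomial.aeval ![Polynomial.X, 0]

lemma ofMv_toMv (A : k[X]) : ofMv (toMv A) = A := by
  have : (ofMv.comp toMv : k[X] →ₐ[k] k[X]) = AlgHom.id k _ := by
    apply Polynomial.algHom_ext
    simp [ofMv, toMv]
  exact AlgHom.congr_fun this A

lemma toMv_injective : Function.Injective (toMv : k[X] → MvPolynomial (Fin 2) k) :=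
  Function.LeftInverse.injective ofMv_toMv

lemma ofMv_X1 : ofMv (MvPolynomial.X 1 : MvPolynomial (Fin 2) k) = 0 := by
  simp [ofMv]

/-- first chart equation `A(t) + B(t) w` -/
noncomputable def F1 (A B : k[X]) : MvPolynomial (Fin 2) k := toMv A + toMv B * MvPolynomial.X 1
/-- second chart equation `A(t) w + B(t)` -/
noncomputable def F2 (A B : k[X]) : MvPolynomial (Fin 2) k := toMv A * MvPolynomial.X 1 + toMv B

lemma F1_ne_zero {A B : k[X]} (h : A ≠ 0 ∨ B ≠ 0) : F1 A B ≠ 0 := by
  intro h0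
  have hA : A = 0 := by
    have := congrArg ofMv h0
    simpa [F1, ofMv_toMv, ofMv_X1] using this
  have hB : B = 0 := by
    rw [F1, hA, map_zero, zero_add] at h0
    rcases mul_eq_zero.mp h0 with h1 | h1
    · exact toMv_injective (by rw [h1, map_zero])
    · exact absurd h1 (MvPolynomial.X_ne_zero _)
  rcases h with h | h
  · exact h hA
  · exact h hB

lemma F2_ne_zero {A B : k[X]} (h : A ≠ 0 ∨ B ≠ 0) : F2 A B ≠ 0 := by
  intro h0
  have hB : B = 0 := by
    have := congrArg ofMv h0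
    simpa [F2, ofMv_toMv, ofMv_X1] using this
  have hA : A = 0 := by
    rw [F2, hB, map_zero, add_zero] at h0
    rcases mul_eq_zero.mp h0 with h1 | h1
    · exact toMv_injective (by rw [h1, map_zero])
    · exact absurd h1 (MvPolynomial.X_ne_zero _)
  rcases h with h | h
  · exact h hA
  · exact h hB

lemma pderiv_toMv (i : Fin 2) (A : k[X]) :
    MvPolynomial.pderiv i (toMv A) = toMv (derivative A) * MvPolynomial.pderiv i (MvPolynomial.X 0) := by
  rw [toMv, Derivation.map_aeval, smul_eq_mul]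

lemma pderiv0_toMv (A : k[X]) : MvPolynomial.pderiv 0 (toMv A) = toMv (derivative A) := by
  rw [pderiv_toMv, MvPolynomial.pderiv_X_self, mul_one]

lemma pderiv1_toMv (A : k[X]) : MvPolynomial.pderiv 1 (toMv A) = 0 := by
  rw [pderiv_toMv, MvPolynomial.pderiv_X_of_ne (by decide), mul_zero]

lemma pderiv0_F1 (A B : k[X]) : MvPolynomial.pderiv 0 (F1 A B) =
    toMv (derivative A) + toMv (derivative B) * MvPolynomial.X 1 := by
  rw [F1, map_add, Derivation.leibniz, pderiv0_toMv, pderiv0_toMv,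
    MvPolynomial.pderiv_X_of_ne (by decide)]
  simp only [smul_eq_mul, mul_zero, zero_add]
  ring

lemma pderiv1_F1 (A B : k[X]) : MvPolynomial.pderiv 1 (F1 A B) = toMv B := by
  rw [F1, map_add, Derivation.leibniz, pderiv1_toMv, pderiv1_toMv, MvPolynomial.pderiv_X_self]
  simp

lemma pderiv0_F2 (A B : k[X]) : MvPolynomial.pderiv 0 (F2 A B) =
    toMv (derivative A) * MvPolynomial.X 1 + toMv (derivative B) := by
  rw [F2, map_add, Derivation.leibniz, pderiv0_toMv, pderiv0_toMv,
    MvPolynomial.pderiv_X_of_ne (by decide)]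
  simp only [smul_eq_mul, mul_zero, zero_add]
  ring

lemma pderiv1_F2 (A B : k[X]) : MvPolynomial.pderiv 1 (F2 A B) = toMv A := by
  rw [F2, map_add, Derivation.leibniz, pderiv1_toMv, pderiv1_toMv, MvPolynomial.pderiv_X_self]
  simp



theorem jac_top_of_isCoprime {A B : k[X]} (h : IsCoprime A B) :
    jac (F1 A B) = ⊤ ∧ jac (F2 A B) = ⊤ := by
  obtain ⟨a, b, hab⟩ := h
  have hab' : toMv a * toMv A + toMv b * toMv B = 1 := by
    rw [← map_mul, ← map_mul, ← map_add, hab, map_one]
  constructor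
  · rw [Ideal.eq_top_iff_one]
    have hB : toMv B ∈ jac (F1 A B) :=
      Ideal.mem_sup_right (Ideal.subset_span ⟨1, pderiv1_F1 A B⟩)
    have hF : F1 A B ∈ jac (F1 A B) :=
      Ideal.mem_sup_left (Ideal.mem_span_singleton_self _)
    have hA : toMv A ∈ jac (F1 A B) := by
      have : toMv A = F1 A B - MvPolynomial.X 1 * toMv B := by rw [F1]; ring
      rw [this]
      exact Ideal.sub_mem _ hF (Ideal.mul_mem_left _ _ hB)
    rw [← hab']
    exact Ideal.add_mem _ (Ideal.mul_mem_left _ _ hA) (Ideal.mul_mem_left _ _ hB)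
  · rw [Ideal.eq_top_iff_one]
    have hA : toMv A ∈ jac (F2 A B) :=
      Ideal.mem_sup_right (Ideal.subset_span ⟨1, pderiv1_F2 A B⟩)
    have hF : F2 A B ∈ jac (F2 A B) :=
      Ideal.mem_sup_left (Ideal.mem_span_singleton_self _)
    have hB : toMv B ∈ jac (F2 A B) := by
      have : toMv B = F2 A B - MvPolynomial.X 1 * toMv A := by rw [F2]; ring
      rw [this]
      exact Ideal.sub_mem _ hF (Ideal.mul_mem_left _ _ hA)
    rw [← hab']
    exact Ideal.add_mem _ (Ideal.mul_mem_left _ _ hA) (Ideal.mul_mem_left _ _ hB)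

/-- a `k`-point (with values in a field extension) killing the Jacobian ideal shows it is proper -/
lemma jac_ne_top_of_point {K : Type u} [Field K] [Algebra k K] (f : MvPolynomial (Fin 2) k)
    (φ : MvPolynomial (Fin 2) k →ₐ[k] K) (h0 : φ f = 0)
    (h1 : φ (MvPolynomial.pderiv 0 f) = 0) (h2 : φ (MvPolynomial.pderiv 1 f) = 0) :
    jac f ≠ ⊤ := by
  intro htop
  have hle : jac f ≤ RingHom.ker φ.toRingHom := by
    refine sup_le ?_ ?_
    · rw [Ideal.span_le]
      rintro x hx
      rw [Set.mem_singleton_iff.mp hx]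
      exact h0
    · rw [Ideal.span_le]
      rintro x ⟨i, rfl⟩
      fin_cases i
      · exact h1
      · exact h2
  have : (1 : MvPolynomial (Fin 2) k) ∈ RingHom.ker φ.toRingHom := hle (htop ▸ Submodule.mem_top)
  rw [RingHom.mem_ker] at this
  simp at this

theorem isCoprime_of_jac_top {A B : k[X]} (h1 : jac (F1 A B) = ⊤) (h2 : jac (F2 A B) = ⊤) :
    IsCoprime A B := by
  by_contra hcop
  have hne : Ideal.span {A, B} ≠ ⊤ := by
    intro h
    apply hcop
    rw [Ideal.eq_top_iff_one, Ideal.mem_span_pair] at h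
    obtain ⟨a, b, hab⟩ := h
    exact ⟨a, b, hab⟩
  obtain ⟨m, hm, hle⟩ := Ideal.exists_le_maximal _ hne
  letI : Field (k[X] ⧸ m) := Ideal.Quotient.field m
  let π : k[X] →ₐ[k] (k[X] ⧸ m) := Ideal.Quotient.mkₐ k m
  have hπA : π A = 0 := Ideal.Quotient.eq_zero_iff_mem.mpr (hle (Ideal.subset_span (by simp)))
  have hπB : π B = 0 := Ideal.Quotient.eq_zero_iff_mem.mpr (hle (Ideal.subset_span (by simp)))
  -- evaluation at the point `(t₀, w₀)`
  let φ : (k[X] ⧸ m) → (MvPolynomial (Fin 2) k →ₐ[k] (k[X] ⧸ m)) := fun w₀ =>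
    MvPolynomial.aeval ![π X, w₀]
  have hφ : ∀ w₀ (p : k[X]), φ w₀ (toMv p) = π p := by
    intro w₀ p
    have : ((φ w₀).comp toMv : k[X] →ₐ[k] _) = π := by
      apply Polynomial.algHom_ext
      simp [φ, toMv]
    exact AlgHom.congr_fun this p
  have hφX : ∀ w₀, φ w₀ (MvPolynomial.X 1) = w₀ := by
    intro w₀; simp [φ]
  by_cases hB' : π (derivative B) = 0
  · -- point (t₀, 0) on chart 2
    refine jac_ne_top_of_point (F2 A B) (φ 0) ?_ ?_ ?_ h2
    · rw [F2, map_add, map_mul, hφ, hφ, hπA, hπB]; simp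
    · rw [pderiv0_F2, map_add, map_mul, hφ, hφ, hφX, hB']; simp
    · rw [pderiv1_F2, hφ, hπA]
  · -- point (t₀, -A'(t₀)/B'(t₀)) on chart 1
    refine jac_ne_top_of_point (F1 A B) (φ (-(π (derivative A)) / π (derivative B))) ?_ ?_ ?_ h1
    · rw [F1, map_add, map_mul, hφ, hφ, hπA, hπB]; simp
    · rw [pderiv0_F1, map_add, map_mul, hφ, hφ, hφX]
      field_simp
      ring
    · rw [pderiv1_F1, hφ, hπB]



/-- polynomial with given coefficient vector -/
noncomputable def polyOf {m : ℕ} (v : Fin (m + 1) → k) : k[X] :=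
  ∑ j : Fin (m + 1), C (v j) * X ^ (j : ℕ)

lemma natDegree_polyOf_le {m : ℕ} (v : Fin (m + 1) → k) : (polyOf v).natDegree ≤ m := by
  apply natDegree_sum_le_of_forall_le
  intro j _
  exact (natDegree_C_mul_X_pow_le _ _).trans (Nat.lt_succ_iff.mp j.2)

lemma coeff_polyOf {m : ℕ} (v : Fin (m + 1) → k) (i : Fin (m + 1)) :
    (polyOf v).coeff i = v i := by
  rw [polyOf, finsetSum_coeff, Finset.sum_eq_single i]
  · simp
  · intro j _ hj
    rw [coeff_C_mul_X_pow, if_neg]
    exact fun h => hj (Fin.ext h.symm)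
  · simp

lemma polyOf_ne_zero {m : ℕ} {v : Fin (m + 1) → k} (hv : v ≠ 0) : polyOf v ≠ 0 := by
  intro h
  apply hv
  funext i
  rw [← coeff_polyOf v i, h, coeff_zero, Pi.zero_apply]

lemma reflect_sum {ι : Type*} (s : Finset ι) (f : ι → k[X]) (N : ℕ) :
    reflect N (∑ i ∈ s, f i) = ∑ i ∈ s, reflect N (f i) := by
  classical
  induction s using Finset.induction_on with
  | empty => simp
  | insert a s ha ih => rw [Finset.sum_insert ha, Finset.sum_insert ha, reflect_add, ih]

lemma reflect_polyOf {m : ℕ} (v : Fin (m + 1) → k) :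
    reflect m (polyOf v) = ∑ j : Fin (m + 1), C (v j) * X ^ (m - (j : ℕ)) := by
  rw [polyOf, reflect_sum]
  refine Finset.sum_congr rfl fun j _ => ?_
  rw [reflect_C_mul_X_pow, revAt_le (Nat.lt_succ_iff.mp j.2)]

lemma toMv_polyOf {m : ℕ} (v : Fin (m + 1) → k) :
    toMv (polyOf v) = ∑ j : Fin (m + 1), MvPolynomial.C (v j) * MvPolynomial.X 0 ^ (j : ℕ) := by
  rw [polyOf, map_sum]
  refine Finset.sum_congr rfl fun j _ => ?_
  simp [toMv]

lemma toMv_reflect_polyOf {m : ℕ} (v : Fin (m + 1) → k) :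
    toMv (reflect m (polyOf v)) =
      ∑ j : Fin (m + 1), MvPolynomial.C (v j) * MvPolynomial.X 0 ^ (m - (j : ℕ)) := by
  rw [reflect_polyOf, map_sum]
  refine Finset.sum_congr rfl fun j _ => ?_
  simp [toMv]


/-- the two `t`-charts (or the two `s`-charts) are smooth iff the polynomials are coprime -/
theorem smooth_charts_iff_isCoprime {A B : k[X]} (h : A ≠ 0 ∨ B ≠ 0) :
    (Algebra.Smooth k (MvPolynomial (Fin 2) k ⧸ Ideal.span {F1 A B}) ∧
      Algebra.Smooth k (MvPolynomial (Fin 2) k ⧸ Ideal.span {F2 A B})) ↔ IsCoprime A B := by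
  rw [smooth_iff_jac_top _ (F1_ne_zero h), smooth_iff_jac_top _ (F2_ne_zero h)]
  exact ⟨fun ⟨h1, h2⟩ => isCoprime_of_jac_top h1 h2, jac_top_of_isCoprime⟩

end Groth.Agent.R2.H94.HirzCharts
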