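import Mathlib
import Groth.Agent.Lib.Helper7JacCrit
import Groth.Agent.R2.H94ExtPowAnn

/-!
# Jacobian criterion for a hypersurface in a smooth algebra, pointwise form (helper94)

`A → B` formally smooth, `R = B/(g)` with `g` a nonzerodivisor, `p` a prime of `R`:
* `formallySmooth_localization_iff_exists_derivation`: `R_p` is formally smooth over `A` iff some
  `A`-derivation `D` of `B` has `D g ∉ p`.
-/
set_option autoImplicit false
universe u

open TensorProduct

namespace Groth.Agent.R2.H94.HypJac

open Groth.Agent.Lib.Helper7.JacCrit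

section transport

variable {A : Type u} {B : Type u} {R : Type u} [CommRing A] [CommRing B] [CommRing R]
  [Algebra A B] [Algebra B R] [Algebra A R] [IsScalarTower A B R]

/-- the quotient `B ⧸ (g)` is `R` -/
noncomputable def quotEquiv (g : B) (hsurj : Function.Surjective (algebraMap B R))
    (hker : RingHom.ker (algebraMap B R) = Ideal.span {g}) : (B ⧸ Ideal.span {g}) ≃ₐ[A] R :=
  (Ideal.quotientEquivAlgOfEq A (show Ideal.span {g} = RingHom.ker (IsScalarTower.toAlgHom A B R) from
    hker.symm)).trans
    (Ideal.quotientKerAlgEquivOfSurjective (f := IsScalarTower.toAlgHom A B R) hsurj)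

theorem quotEquiv_mk (g : B) (hsurj : Function.Surjective (algebraMap B R))
    (hker : RingHom.ker (algebraMap B R) = Ideal.span {g}) (b : B) :
    quotEquiv (A := A) g hsurj hker (Ideal.Quotient.mk _ b) = algebraMap B R b := by
  simp [quotEquiv]

/-- transport of localizations at primes along an algebra isomorphism -/
noncomputable def locEquiv {S S' : Type u} [CommRing S] [CommRing S'] [Algebra A S] [Algebra A S']
    (e : S ≃ₐ[A] S') (P : Ideal S) [P.IsPrime] (P' : Ideal S') [P'.IsPrime]
    (h : P'.comap (e : S →+* S') = P) :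
    Localization.AtPrime P ≃ₐ[A] Localization.AtPrime P' := by
  have H : Submonoid.map (e : S ≃+* S').toMonoidHom P.primeCompl = P'.primeCompl := by
    ext y
    constructor
    · rintro ⟨x, hx, rfl⟩
      intro hy
      apply hx
      rw [← h]
      exact hy
    · intro hy
      refine ⟨e.symm y, ?_, by simp⟩
      intro hx
      apply hy
      rw [← h] at hx
      simpa using hx
  refine AlgEquiv.ofRingEquiv
    (f := IsLocalization.ringEquivOfRingEquiv (Localization.AtPrime P) (Localization.AtPrime P')
      (e : S ≃+* S') H) ?_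
  intro a
  rw [IsScalarTower.algebraMap_apply A S (Localization.AtPrime P),
    IsLocalization.ringEquivOfRingEquiv_eq,
    IsScalarTower.algebraMap_apply A S' (Localization.AtPrime P')]
  congr 1
  exact e.commutes a

end transport

/-- **Pointwise Jacobian criterion for a hypersurface.** -/
theorem formallySmooth_localization_iff_exists_derivation
    {A B R : Type u} [CommRing A] [CommRing B] [CommRing R]
    [Algebra A B] [Algebra B R] [Algebra A R] [IsScalarTower A B R] [Algebra.FormallySmooth A B]
    (g : B) (hg : IsSMulRegular B g) (hsurj : Function.Surjective (algebraMap B R))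
    (hker : RingHom.ker (algebraMap B R) = Ideal.span {g}) (p : Ideal R) [p.IsPrime] :
    Algebra.FormallySmooth A (Localization.AtPrime p) ↔
      ∃ D : Derivation A B B, algebraMap B R (D g) ∉ p := by
  classical
  set J : Ideal B := Ideal.span {g} with hJ
  set q : Ideal B := p.comap (algebraMap B R) with hq
  have hgq : g ∈ q := by
    show algebraMap B R g ∈ p
    have : g ∈ RingHom.ker (algebraMap B R) := hker ▸ Ideal.mem_span_singleton_self g
    rw [RingHom.mem_ker.1 this]
    exact zero_mem _
  have hJq : J ≤ q := (Ideal.span_singleton_le_iff_mem _).2 hgq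
  haveI hp' : (q.map (Ideal.Quotient.mk J)).IsPrime :=
    Ideal.map_isPrime_of_surjective Ideal.Quotient.mk_surjective (by rw [Ideal.mk_ker]; exact hJq)
  let e := quotEquiv (A := A) g hsurj hker
  have hcomap : p.comap ((e : (B ⧸ J) ≃ₐ[A] R) : (B ⧸ J) →+* R) = q.map (Ideal.Quotient.mk J) := by
    ext y
    obtain ⟨b, rfl⟩ := Ideal.Quotient.mk_surjective y
    rw [Ideal.mem_comap]
    have h1 : ((e : (B ⧸ J) ≃ₐ[A] R) : (B ⧸ J) →+* R) (Ideal.Quotient.mk J b) = algebraMap B R b :=
      quotEquiv_mk g hsurj hker b
    rw [h1]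
    constructor
    · intro hb
      exact Ideal.mem_map_of_mem _ hb
    · intro hb
      have h2 : b ∈ (q.map (Ideal.Quotient.mk J)).comap (Ideal.Quotient.mk J) := hb
      rw [comap_map_mk J q hJq] at h2
      exact h2
  let eL := locEquiv e (q.map (Ideal.Quotient.mk J)) p hcomap
  have hiff : Algebra.FormallySmooth A (Localization.AtPrime p) ↔
      Algebra.FormallySmooth A (Localization.AtPrime (q.map (Ideal.Quotient.mk J))) :=
    ⟨fun h => Algebra.FormallySmooth.of_equiv eL.symm, fun h => Algebra.FormallySmooth.of_equiv eL⟩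
  rw [hiff, jacobian_criterion J q hJq (Submodule.fg_span_singleton g)]
  constructor
  · rintro ⟨m, f, D, hf, hspan, hdet⟩
    by_contra hno
    have hDq : ∀ D : Derivation A B B, D g ∈ q := by
      intro D
      by_contra hD
      exact hno ⟨D, hD⟩
    rcases Nat.eq_zero_or_pos m with rfl | hm
    · have hr : Set.range (fun i : Fin 0 => algebraMap B (Localization.AtPrime q) (f i)) = ∅ :=
        Set.range_eq_empty _
      rw [hr, Ideal.span_empty] at hspan
      have hg0 : algebraMap B (Localization.AtPrime q) g = 0 := by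
        have h3 : algebraMap B (Localization.AtPrime q) g ∈
            J.map (algebraMap B (Localization.AtPrime q)) :=
          Ideal.mem_map_of_mem _ (Ideal.mem_span_singleton_self g)
        rw [hspan] at h3
        exact h3
      rw [IsLocalization.map_eq_zero_iff q.primeCompl] at hg0
      obtain ⟨⟨t, ht⟩, htg⟩ := hg0
      have ht0 : t = 0 := by
        apply hg
        simp only [smul_eq_mul, mul_zero]
        rw [mul_comm]
        exact htg
      exact ht (ht0 ▸ zero_mem q)
    · apply hdet
      have hentries : ∀ i j, D j (f i) ∈ q := by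
        intro i j
        obtain ⟨b, hb⟩ := Ideal.mem_span_singleton'.1 (hf i)
        rw [← hb, Derivation.leibniz, smul_eq_mul, smul_eq_mul]
        exact Ideal.add_mem _ (Ideal.mul_mem_left _ _ (hDq _)) (Ideal.mul_mem_right _ _ hgq)
      have h4 : Ideal.Quotient.mk q (Matrix.det (Matrix.of fun i j => D j (f i))) = 0 := by
        rw [RingHom.map_det]
        have hz : (Ideal.Quotient.mk q).mapMatrix (Matrix.of fun i j => D j (f i)) = 0 := by
          ext i j
          simp [Ideal.Quotient.eq_zero_iff_mem, hentries]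
        rw [hz]
        haveI : Nonempty (Fin m) := ⟨⟨0, hm⟩⟩
        exact Matrix.det_zero
      exact Ideal.Quotient.eq_zero_iff_mem.1 h4
  · rintro ⟨D, hD⟩
    refine ⟨1, fun _ => g, fun _ => D, fun _ => Ideal.mem_span_singleton_self g, ?_, ?_⟩
    · rw [Ideal.map_span, Set.image_singleton]
      congr 1
      ext y
      simp
    · rw [Matrix.det_fin_one]
      exact hD

section fibre

variable {A B R : Type*} [CommRing A] [CommRing B] [CommRing R]
  [Algebra A B] [Algebra B R] [Algebra A R] [IsScalarTower A B R]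

/-- For `R = B/(g)` the kernel of `R ⊗ Ω_B → Ω_R` is spanned by `1 ⊗ dg`. -/
theorem ker_mapBaseChange_eq_span (g : B) (hsurj : Function.Surjective (algebraMap B R))
    (hker : RingHom.ker (algebraMap B R) = Ideal.span {g}) :
    LinearMap.ker (KaehlerDifferential.mapBaseChange A B R) =
      Submodule.span R {(1 : R) ⊗ₜ[B] KaehlerDifferential.D A B g} := by
  have hg0 : algebraMap B R g = 0 := by
    have : g ∈ RingHom.ker (algebraMap B R) := hker ▸ Ideal.mem_span_singleton_self g
    exact RingHom.mem_ker.1 this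
  apply le_antisymm
  · intro x hx
    have hex := KaehlerDifferential.exact_kerCotangentToTensor_mapBaseChange A B R hsurj
    obtain ⟨c, rfl⟩ := (hex x).1 hx
    obtain ⟨⟨y, hy⟩, rfl⟩ := Ideal.toCotangent_surjective _ c
    rw [KaehlerDifferential.kerCotangentToTensor_toCotangent]
    have hy' : y ∈ Ideal.span {g} := hker ▸ hy
    obtain ⟨b, rfl⟩ := Ideal.mem_span_singleton'.1 hy'
    show (1 : R) ⊗ₜ[B] KaehlerDifferential.D A B (b * g) ∈ _
    rw [Derivation.leibniz, TensorProduct.tmul_add, TensorProduct.tmul_smul, TensorProduct.tmul_smul]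
    have h2 : g • ((1 : R) ⊗ₜ[B] KaehlerDifferential.D A B b) = 0 := by
      rw [TensorProduct.smul_tmul', Algebra.smul_def, hg0, zero_mul, TensorProduct.zero_tmul]
    rw [h2, add_zero, ← algebraMap_smul R b]
    exact Submodule.smul_mem _ _ (Submodule.subset_span rfl)
  · rw [Submodule.span_le, Set.singleton_subset_iff, SetLike.mem_coe, LinearMap.mem_ker,
      KaehlerDifferential.mapBaseChange_tmul, KaehlerDifferential.map_D, hg0, map_zero, smul_zero]

variable (A) (R) (K : Type*) [Field K] [Algebra R K]

/-- the class of `dg` in the fibre `K ⊗ (R ⊗ Ω_B)` -/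
noncomputable def v0 (g : B) : K ⊗[R] (R ⊗[B] Ω[B⁄A]) :=
  (1 : K) ⊗ₜ[R] ((1 : R) ⊗ₜ[B] KaehlerDifferential.D A B g)

theorem baseChange_mapBaseChange_surjective (hsurj : Function.Surjective (algebraMap B R)) :
    Function.Surjective (LinearMap.baseChange K (KaehlerDifferential.mapBaseChange A B R)) :=
  LinearMap.lTensor_surjective K (KaehlerDifferential.mapBaseChange_surjective A B R hsurj)

theorem baseChange_mapBaseChange_v0 (g : B) (hg0 : algebraMap B R g = 0) :
    LinearMap.baseChange K (KaehlerDifferential.mapBaseChange A B R) (v0 A R K g) = 0 := by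
  rw [v0, LinearMap.baseChange_tmul, KaehlerDifferential.mapBaseChange_tmul,
    KaehlerDifferential.map_D, hg0, map_zero, smul_zero, tmul_zero]

/-- if `dg` vanishes in the fibre, `K ⊗ (R ⊗ Ω_B) → K ⊗ Ω_R` is injective -/
theorem baseChange_mapBaseChange_injective (g : B) (hsurj : Function.Surjective (algebraMap B R))
    (hker : RingHom.ker (algebraMap B R) = Ideal.span {g}) (h0 : v0 A R K g = 0) :
    Function.Injective (LinearMap.baseChange K (KaehlerDifferential.mapBaseChange A B R)) := by
  rw [← LinearMap.ker_eq_bot, LinearMap.ker_eq_bot']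
  intro x hx
  set w : R ⊗[B] Ω[B⁄A] := (1 : R) ⊗ₜ[B] KaehlerDifferential.D A B g with hw
  have hex : Function.Exact (LinearMap.toSpanSingleton R (R ⊗[B] Ω[B⁄A]) w)
      (KaehlerDifferential.mapBaseChange A B R) := by
    intro y
    rw [← LinearMap.mem_ker, ker_mapBaseChange_eq_span g hsurj hker, Submodule.mem_span_singleton]
    constructor
    · rintro ⟨a, rfl⟩
      exact ⟨a, rfl⟩
    · rintro ⟨a, rfl⟩
      exact ⟨a, rfl⟩
  have hex' := lTensor_exact K hex (KaehlerDifferential.mapBaseChange_surjective A B R hsurj)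
  have hx' : (LinearMap.lTensor K (KaehlerDifferential.mapBaseChange A B R)) x = 0 := hx
  obtain ⟨z, rfl⟩ := (hex' x).1 hx'
  have key : ∀ z : K ⊗[R] R,
      (LinearMap.lTensor K (LinearMap.toSpanSingleton R (R ⊗[B] Ω[B⁄A]) w)) z = 0 := by
    intro z
    induction z using TensorProduct.induction_on with
    | zero => simp
    | tmul k r =>
      rw [LinearMap.lTensor_tmul, LinearMap.toSpanSingleton_apply, TensorProduct.tmul_smul]
      have : k ⊗ₜ[R] w = k • v0 A R K g := by
        rw [v0, TensorProduct.smul_tmul', smul_eq_mul, mul_one]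
      rw [this, h0, smul_zero, smul_zero]
    | add a b ha hb => rw [map_add, ha, hb, add_zero]
  exact key z

theorem finrank_fibre_eq_of_v0_eq_zero (g : B) (hsurj : Function.Surjective (algebraMap B R))
    (hker : RingHom.ker (algebraMap B R) = Ideal.span {g}) (h0 : v0 A R K g = 0) :
    Module.finrank K (K ⊗[R] Ω[R⁄A]) = Module.finrank K (K ⊗[R] (R ⊗[B] Ω[B⁄A])) :=
  (LinearEquiv.ofBijective (LinearMap.baseChange K (KaehlerDifferential.mapBaseChange A B R))
    ⟨baseChange_mapBaseChange_injective A R K g hsurj hker h0,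
      baseChange_mapBaseChange_surjective A R K hsurj⟩).finrank_eq.symm

theorem finrank_fibre_lt_of_v0_ne_zero [Module.Finite B Ω[B⁄A]] (g : B)
    (hsurj : Function.Surjective (algebraMap B R)) (hg0 : algebraMap B R g = 0)
    (h0 : v0 A R K g ≠ 0) :
    Module.finrank K (K ⊗[R] Ω[R⁄A]) < Module.finrank K (K ⊗[R] (R ⊗[B] Ω[B⁄A])) := by
  set Ψ := LinearMap.baseChange K (KaehlerDifferential.mapBaseChange A B R) with hΨ
  have h1 := LinearMap.finrank_range_add_finrank_ker Ψ
  have h2 : LinearMap.range Ψ = ⊤ :=
    LinearMap.range_eq_top.2 (baseChange_mapBaseChange_surjective A R K hsurj)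
  rw [h2, finrank_top] at h1
  have h3 : 0 < Module.finrank K (LinearMap.ker Ψ) := by
    refine (Module.finrank_pos_iff_exists_ne_zero (R := K) (M := LinearMap.ker Ψ)).2 ?_
    exact ⟨⟨v0 A R K g, baseChange_mapBaseChange_v0 A R K g hg0⟩, fun h => h0 (congrArg Subtype.val h)⟩
  omega

theorem finrank_fibre_ambient [Module.Finite B Ω[B⁄A]] [Module.Flat B Ω[B⁄A]] (n : ℕ)
    (hn : ∀ p : PrimeSpectrum B, Module.rankAtStalk (Ω[B⁄A]) p = n) :
    Module.finrank K (K ⊗[R] (R ⊗[B] Ω[B⁄A])) = n := by
  have h1 := Module.rankAtStalk_eq_finrank_of_free (R := K) (M := K ⊗[R] (R ⊗[B] Ω[B⁄A]))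
  have h2 := congrFun h1 ⟨⊥, Ideal.isPrime_bot⟩
  rw [Module.rankAtStalk_baseChange, Module.rankAtStalk_baseChange, hn] at h2
  simpa using h2.symm

variable [Algebra B K] [IsScalarTower B R K]

theorem v0_ne_zero_of_derivation (g : B) (D : Derivation A B B)
    (hD : algebraMap B K (D g) ≠ 0) : v0 A R K g ≠ 0 := by
  intro h0
  apply hD
  let ψ' : Ω[B⁄A] →ₗ[B] K := (Algebra.linearMap B K) ∘ₗ D.liftKaehlerDifferential
  let L : K ⊗[R] (R ⊗[B] Ω[B⁄A]) →ₗ[K] K :=
    LinearMap.liftBaseChange K (LinearMap.liftBaseChange R ψ')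
  have hL : L (v0 A R K g) = algebraMap B K (D g) := by
    simp [L, v0, ψ']
  rw [← hL, h0, map_zero]

theorem v0_eq_zero_of_forall [Module.Projective B Ω[B⁄A]] (g : B)
    (h : ∀ D : Derivation A B B, algebraMap B K (D g) = 0) : v0 A R K g = 0 := by
  classical
  obtain ⟨s, hs⟩ := Module.projective_def'.1 (inferInstance : Module.Projective B Ω[B⁄A])
  have hdg : KaehlerDifferential.D A B g =
      Finsupp.linearCombination B id (s (KaehlerDifferential.D A B g)) := by
    have := LinearMap.congr_fun hs (KaehlerDifferential.D A B g)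
    exact this.symm
  have hc : ∀ ω : Ω[B⁄A], algebraMap B K (s (KaehlerDifferential.D A B g) ω) = 0 := by
    intro ω
    exact h ((Finsupp.lapply ω ∘ₗ s).compDer (KaehlerDifferential.D A B))
  rw [v0, hdg, Finsupp.linearCombination_apply, Finsupp.sum, TensorProduct.tmul_sum,
    TensorProduct.tmul_sum]
  refine Finset.sum_eq_zero fun ω _ => ?_
  rw [id, TensorProduct.tmul_smul, ← algebraMap_smul R (s (KaehlerDifferential.D A B g) ω),
    TensorProduct.tmul_smul, TensorProduct.smul_tmul', Algebra.smul_def, mul_one,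
    ← IsScalarTower.algebraMap_apply, hc, TensorProduct.zero_tmul]

end fibre

end Groth.Agent.R2.H94.HypJac
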