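import Mathlib

/-!
# Jacobian criterion for a global hypersurface `R[σ]/(f)` (helper94)

* `formallySmooth_of_principal` : abstract sufficiency for an extension with principal kernel.
* `formallySmooth_of_jacobian_top` : if `(f, ∂f/∂xᵢ) = ⊤` then `R[σ]/(f)` is formally smooth.
* `jacobian_top_of_formallySmooth` : if `f` is a non-zero-divisor and `R[σ]/(f)` is formally
  smooth, then `(f, ∂f/∂xᵢ) = ⊤`.
* `smooth_iff_jac_top` : over a field, for `f ≠ 0`: `k[σ]/(f)` smooth iff `(f, ∂f/∂xᵢ) = ⊤`.
-/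

set_option autoImplicit false

namespace Groth.Agent.R2.H94.HypSmooth

open MvPolynomial KaehlerDifferential TensorProduct Algebra

universe u v w

section general
variable {R : Type u} {S : Type v} [CommRing R] [CommRing S] [Algebra R S]

/-- abstract Jacobian criterion, sufficiency: an extension `P → S` with `P` formally smooth and
principal kernel `(f)`, such that `∑ aᵢ dᵢ(f) ≡ 1 mod f` for some `R`-derivations `dᵢ` of `P`. -/
theorem formallySmooth_of_principal {ι : Type*} [Fintype ι] (P : Algebra.Extension.{w} R S)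
    [Algebra.FormallySmooth R P.Ring] (f : P.Ring) (hker : P.ker = Ideal.span {f})
    (d : ι → Derivation R P.Ring P.Ring) (a : ι → P.Ring) (c : P.Ring)
    (hca : c * f + ∑ i, a i * d i f = 1) : Algebra.FormallySmooth R S := by
  classical
  rw [Algebra.Extension.formallySmooth_iff_split_injection P]
  have hfk : f ∈ P.ker := by rw [hker]; exact Ideal.mem_span_singleton_self f
  let fbar : P.Cotangent := Extension.Cotangent.mk ⟨f, hfk⟩
  have hf0 : ∀ m : P.Cotangent, f • m = 0 := by
    intro m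
    apply Algebra.Extension.Cotangent.ext
    rw [Algebra.Extension.Cotangent.val_smul']
    exact Algebra.Extension.Cotangent.smul_eq_zero_of_mem f hfk _
  let dd : Derivation R P.Ring P.Cotangent :=
    ∑ i, a i • (LinearMap.toSpanSingleton P.Ring P.Cotangent fbar).compDer (d i)
  refine ⟨(dd.liftKaehlerDifferential).liftBaseChange S, ?_⟩
  ext y
  obtain ⟨x, rfl⟩ := Algebra.Extension.Cotangent.mk_surjective y
  rw [LinearMap.comp_apply, Algebra.Extension.cotangentComplex_mk, LinearMap.liftBaseChange_tmul,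
    one_smul, LinearMap.id_apply, Derivation.liftKaehlerDifferential_comp_D]
  obtain ⟨x, hx⟩ := x
  obtain ⟨p, rfl⟩ := Ideal.mem_span_singleton'.mp (hker ▸ hx)
  have h1 : dd f = fbar := by
    have hsum : ∀ (s : Finset ι) (D : ι → Derivation R P.Ring P.Cotangent) (x : P.Ring),
        (∑ i ∈ s, D i) x = ∑ i ∈ s, D i x := by
      intro s D x
      have := congrFun (map_sum (Derivation.coeFnAddMonoidHom (R := R) (A := P.Ring)
        (M := P.Cotangent)) D s) x
      rw [Finset.sum_apply] at this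
      exact this
    have : dd f = (∑ i, a i * d i f) • fbar := by
      rw [Finset.sum_smul]
      show (∑ i, a i • (LinearMap.toSpanSingleton P.Ring P.Cotangent fbar).compDer (d i)) f = _
      rw [hsum]
      refine Finset.sum_congr rfl fun i _ => ?_
      rw [Derivation.smul_apply, mul_smul]
      rfl
    rw [this, show ∑ i, a i * d i f = 1 - c * f by linear_combination hca, sub_smul, one_smul,
      mul_smul, hf0, smul_zero, sub_zero]
  rw [Derivation.leibniz, h1, hf0, add_zero]
  show p • Extension.Cotangent.mk ⟨f, hfk⟩ = _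
  rw [← map_smul]
  rfl

end general

variable {R : Type u} [CommRing R] {σ : Type v} [Fintype σ]

/-- differential of a polynomial as the sum of its partials -/
lemma D_eq_sum_pderiv (f : MvPolynomial σ R) :
    D R (MvPolynomial σ R) f = ∑ i, pderiv i f • D R (MvPolynomial σ R) (X i) := by
  classical
  have h := (mvPolynomialBasis R σ).sum_repr (D R _ f)
  simp only [mvPolynomialBasis_repr_apply, mvPolynomialBasis_apply] at h
  exact h.symm

/-- the Jacobian ideal of `f` -/
noncomputable def jac (f : MvPolynomial σ R) : Ideal (MvPolynomial σ R) :=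
  Ideal.span {f} ⊔ Ideal.span (Set.range fun i => pderiv i f)

lemma exists_of_jac_top (f : MvPolynomial σ R) (h : jac f = ⊤) :
    ∃ (c : MvPolynomial σ R) (a : σ → MvPolynomial σ R), c * f + ∑ i, a i * pderiv i f = 1 := by
  have h1 : (1 : MvPolynomial σ R) ∈ jac f := h ▸ Submodule.mem_top
  obtain ⟨y, hy, z, hz, hyz⟩ := Submodule.mem_sup.mp h1
  obtain ⟨c, rfl⟩ := Ideal.mem_span_singleton'.mp hy
  obtain ⟨a, rfl⟩ := (Ideal.mem_span_range_iff_exists_fun).mp hz
  exact ⟨c, a, hyz⟩

theorem formallySmooth_of_jacobian_top (f : MvPolynomial σ R) (h : jac f = ⊤) :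
    Algebra.FormallySmooth R (MvPolynomial σ R ⧸ Ideal.span {f}) := by
  obtain ⟨c, a, hca⟩ := exists_of_jac_top f h
  let P' : Algebra.Extension R (MvPolynomial σ R ⧸ Ideal.span {f}) :=
    Algebra.Extension.ofSurjective (Ideal.Quotient.mkₐ R (Ideal.span {f}))
      (Ideal.Quotient.mkₐ_surjective R _)
  haveI : Algebra.FormallySmooth R P'.Ring :=
    inferInstanceAs (Algebra.FormallySmooth R (MvPolynomial σ R))
  have hker : P'.ker = Ideal.span {f} :=
    show RingHom.ker (Ideal.Quotient.mk (Ideal.span {f})) = _ from Ideal.mk_ker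
  exact formallySmooth_of_principal P' f hker (fun i => pderiv i) a c hca

lemma jac_top_aux (f : MvPolynomial σ R) (hf : f ∈ nonZeroDivisors (MvPolynomial σ R))
    {A : Type w} [CommRing A] [Algebra (MvPolynomial σ R) A]
    (l : A ⊗[MvPolynomial σ R] Ω[MvPolynomial σ R⁄R] →ₗ[MvPolynomial σ R]
      (Ideal.span {f}).Cotangent)
    (kc : (Ideal.span {f}).Cotangent →ₗ[MvPolynomial σ R]
      A ⊗[MvPolynomial σ R] Ω[MvPolynomial σ R⁄R])
    (hkc : ∀ x : Ideal.span {f}, kc ((Ideal.span {f}).toCotangent x) =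
      (1 : A) ⊗ₜ[MvPolynomial σ R] D R (MvPolynomial σ R) x.1)
    (hl : ∀ y, l (kc y) = y) : jac f = ⊤ := by
  classical
  have hfI : f ∈ Ideal.span {f} := Ideal.mem_span_singleton_self f
  have h1 : kc ((Ideal.span {f}).toCotangent ⟨f, hfI⟩)
      = ∑ i, pderiv i f • ((1 : A) ⊗ₜ[MvPolynomial σ R]
          D R (MvPolynomial σ R) (X i)) := by
    rw [hkc, D_eq_sum_pderiv, TensorProduct.tmul_sum]
    simp only [TensorProduct.tmul_smul]
  have h2 : (Ideal.span {f}).toCotangent ⟨f, hfI⟩ =
      ∑ i, pderiv i f • l ((1 : A) ⊗ₜ[MvPolynomial σ R]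
          D R (MvPolynomial σ R) (X i)) := by
    rw [← hl ((Ideal.span {f}).toCotangent ⟨f, hfI⟩), h1, map_sum]
    simp only [map_smul]
  have h3 : ∀ i, ∃ b : MvPolynomial σ R, ∃ hb : b * f ∈ Ideal.span {f},
      (Ideal.span {f}).toCotangent ⟨b * f, hb⟩ =
      l ((1 : A) ⊗ₜ[MvPolynomial σ R] D R (MvPolynomial σ R) (X i)) := by
    intro i
    obtain ⟨y, hy⟩ := Ideal.toCotangent_surjective (Ideal.span {f})
      (l ((1 : A) ⊗ₜ[MvPolynomial σ R] D R (MvPolynomial σ R) (X i)))
    obtain ⟨b, hb⟩ := Ideal.mem_span_singleton'.mp y.2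
    refine ⟨b, hb ▸ y.2, ?_⟩
    rw [← hy]
    congr 1
    exact Subtype.ext hb
  choose b hb hb2 using h3
  have h4 : (Ideal.span {f}).toCotangent (⟨f, hfI⟩ - ∑ i, pderiv i f • ⟨b i * f, hb i⟩) = 0 := by
    rw [map_sub, map_sum]
    simp only [map_smul, hb2]
    rw [← h2, sub_self]
  rw [Ideal.toCotangent_eq_zero, Ideal.span_singleton_pow] at h4
  simp only [Submodule.coe_sub, Submodule.coe_sum, Submodule.coe_smul, smul_eq_mul] at h4
  obtain ⟨c, hc⟩ := Ideal.mem_span_singleton'.mp h4
  have h5 : (1 - ∑ i, pderiv i f * b i - c * f) * f = 0 := by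
    have : ∑ i, pderiv i f * (b i * f) = (∑ i, pderiv i f * b i) * f := by
      rw [Finset.sum_mul]; exact Finset.sum_congr rfl fun i _ => by ring
    rw [this] at hc
    linear_combination (-1 : MvPolynomial σ R) * hc
  have h6 := (mem_nonZeroDivisors_iff.mp hf).2 _ h5
  have h7 : (1 : MvPolynomial σ R) = c * f + ∑ i, pderiv i f * b i := by
    linear_combination h6
  rw [jac, Ideal.eq_top_iff_one, h7]
  refine Ideal.add_mem _ (Ideal.mem_sup_left (Ideal.mul_mem_left _ _ (Ideal.mem_span_singleton_self f)))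
    (Ideal.mem_sup_right (Ideal.sum_mem _ fun i _ => Ideal.mul_mem_right _ _
      (Ideal.subset_span ⟨i, rfl⟩)))

lemma jac_top_aux' (f : MvPolynomial σ R) (hf : f ∈ nonZeroDivisors (MvPolynomial σ R))
    {A : Type w} [CommRing A] [Algebra (MvPolynomial σ R) A]
    (I : Ideal (MvPolynomial σ R)) (hI : I = Ideal.span {f})
    (l : A ⊗[MvPolynomial σ R] Ω[MvPolynomial σ R⁄R] →ₗ[MvPolynomial σ R] I.Cotangent)
    (kc : I.Cotangent →ₗ[MvPolynomial σ R] A ⊗[MvPolynomial σ R] Ω[MvPolynomial σ R⁄R])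
    (hkc : ∀ x : I, kc (I.toCotangent x) =
      (1 : A) ⊗ₜ[MvPolynomial σ R] D R (MvPolynomial σ R) x.1)
    (hl : ∀ y, l (kc y) = y) : jac f = ⊤ := by
  subst hI
  exact jac_top_aux f hf l kc hkc hl

theorem jacobian_top_of_formallySmooth (f : MvPolynomial σ R)
    (hf : f ∈ nonZeroDivisors (MvPolynomial σ R))
    (hs : Algebra.FormallySmooth R (MvPolynomial σ R ⧸ Ideal.span {f})) :
    jac f = ⊤ := by
  obtain ⟨l, hl⟩ := (Algebra.FormallySmooth.iff_split_injection (R := R) (P := MvPolynomial σ R)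
    (A := MvPolynomial σ R ⧸ Ideal.span {f}) Ideal.Quotient.mk_surjective).mp hs
  exact jac_top_aux' f hf _ Ideal.mk_ker l _ (fun x => rfl) (fun y => LinearMap.congr_fun hl y)


/-- Jacobian criterion for a hypersurface over a field. -/
theorem smooth_iff_jac_top {k : Type u} [Field k] (f : MvPolynomial σ k) (hf : f ≠ 0) :
    Algebra.Smooth k (MvPolynomial σ k ⧸ Ideal.span {f}) ↔ jac f = ⊤ := by
  constructor
  · intro h
    exact jacobian_top_of_formallySmooth f (mem_nonZeroDivisors_of_ne_zero hf) h.formallySmooth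
  · intro h
    exact ⟨formallySmooth_of_jacobian_top f h,
      Algebra.FinitePresentation.quotient ⟨{f}, by simp⟩⟩

end Groth.Agent.R2.H94.HypSmooth
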