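import Mathlib

/-!
# Integer computation for S19221 (helper94)
-/

set_option autoImplicit false

namespace Groth.Agent.R2.H94.K4Wedge

/-- integer cycle vectors -/
def zZ (c : Fin 2) (i j l : Fin 4) (c' : Fin 2) (a b : Fin 4) : ℤ :=
  if c' = c then
    ((if a = i ∧ b = j then 1 else 0) + (if a = j ∧ b = l then 1 else 0) + (if a = l ∧ b = i then 1 else 0)
      - (if a = j ∧ b = i then 1 else 0) - (if a = l ∧ b = j then 1 else 0) - (if a = i ∧ b = l then 1 else 0))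
  else 0

def vZ : Fin 4 → (Fin 2 → Fin 4 → Fin 4 → ℤ) := ![zZ 0 0 1 2, zZ 1 0 1 2, zZ 0 0 2 3, zZ 1 0 2 3]
def cc : Fin 4 → Fin 2 := ![0,0,1,1]
def bb : Fin 4 → Fin 4 := ![1,2,1,2]

set_option maxRecDepth 100000 in
theorem sumZ : ∑ σ : Equiv.Perm (Fin 4),
    Matrix.det (Matrix.of fun i j => vZ i (cc j) (σ.symm 0) (σ.symm (bb j))) = -12 := by
  decide

end Groth.Agent.R2.H94.K4Wedge
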