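import Mathlib
import Groth.Agent.Lib.Helper5IntDim

set_option autoImplicit false
universe u
open TensorProduct

namespace Groth.Agent.R2.H94.OmegaGen

section gen

variable {A : Type u} [CommRing A] (M : Type u) [AddCommGroup M] [Module A M] [Module.Finite A M]

/-- **Nakayama**: if the fibre of a finite module `M` at a maximal ideal `𝔪` has dimension `≤ r`,
then for every prime `p ⊆ 𝔪` the localization `M_p` is generated by `≤ r` elements. -/
lemma exists_finset_span_localizedModule (𝔪 : Ideal A) [𝔪.IsMaximal] (p : Ideal A) [p.IsPrime]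
    (hp : p ≤ 𝔪) (r : ℕ)
    (hr : ∃ t : Finset M, t.card ≤ r ∧
      Submodule.span A (t : Set M) ⊔ 𝔪 • (⊤ : Submodule A M) = ⊤) :
    ∃ s : Finset (LocalizedModule p.primeCompl M), s.card ≤ r ∧
      Submodule.span (Localization.AtPrime p) (s : Set (LocalizedModule p.primeCompl M)) = ⊤ := by
  classical
  obtain ⟨t, htr, ht⟩ := hr
  -- Nakayama on the quotient `M ⧸ N`
  set N : Submodule A M := Submodule.span A (t : Set M) with hN
  obtain ⟨a, ha1, ha⟩ : ∃ a : A, a - 1 ∈ 𝔪 ∧ ∀ m : M, a • m ∈ N := by
    have hfg : (⊤ : Submodule A (M ⧸ N)).FG := Module.Finite.fg_top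
    have hle : (⊤ : Submodule A (M ⧸ N)) ≤ 𝔪 • ⊤ := by
      intro x _
      obtain ⟨m, rfl⟩ := N.mkQ_surjective x
      have hm : m ∈ N ⊔ 𝔪 • (⊤ : Submodule A M) := by rw [ht]; exact Submodule.mem_top
      obtain ⟨n, hn, y, hy, rfl⟩ := Submodule.mem_sup.1 hm
      rw [map_add, Submodule.mkQ_apply, (Submodule.Quotient.mk_eq_zero N).2 hn, zero_add]
      have : N.mkQ y ∈ Submodule.map N.mkQ (𝔪 • (⊤ : Submodule A M)) := ⟨y, hy, rfl⟩
      rw [Submodule.map_smul''] at this
      exact Submodule.smul_mono le_rfl le_top this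
    obtain ⟨a, ha1, ha⟩ :=
      Submodule.exists_sub_one_mem_and_smul_eq_zero_of_fg_of_le_smul 𝔪 ⊤ hfg hle
    refine ⟨a, ha1, fun m => ?_⟩
    have := ha (N.mkQ m) Submodule.mem_top
    rw [← map_smul, Submodule.mkQ_apply, Submodule.Quotient.mk_eq_zero] at this
    exact this
  have hap : a ∈ p.primeCompl := by
    intro hmem
    have h1 : a ∈ 𝔪 := hp hmem
    have : (1 : A) ∈ 𝔪 := by
      have := 𝔪.sub_mem h1 ha1
      simpa using this
    exact (Ideal.IsMaximal.ne_top ‹_›) ((Ideal.eq_top_iff_one _).2 this)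
  refine ⟨t.image (LocalizedModule.mkLinearMap p.primeCompl M), Finset.card_image_le.trans htr, ?_⟩
  rw [eq_top_iff]
  intro x _
  induction x using LocalizedModule.induction_on with
  | h m s =>
    -- `mk m s = (1/(a s)) • mk (a • m) 1`
    have h1 : LocalizedModule.mk m s =
        (Localization.mk 1 (⟨a, hap⟩ * s) : Localization.AtPrime p) •
          LocalizedModule.mkLinearMap p.primeCompl M (a • m) := by
      rw [LocalizedModule.mkLinearMap_apply, LocalizedModule.mk_smul_mk, one_smul]
      rw [LocalizedModule.mk_eq]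
      refine ⟨1, ?_⟩
      simp only [one_smul, mul_one, Submonoid.smul_def, mul_smul]
      rw [smul_comm]
    rw [h1]
    refine Submodule.smul_mem _ _ ?_
    have h2 : a • m ∈ N := ha m
    -- image of `N` lies in the span
    have h3 : Submodule.map (LocalizedModule.mkLinearMap p.primeCompl M) N ≤
        (Submodule.span (Localization.AtPrime p)
          ((t.image (LocalizedModule.mkLinearMap p.primeCompl M) : Finset _) :
            Set (LocalizedModule p.primeCompl M))).restrictScalars A := by
      rw [hN, Submodule.map_span, Submodule.span_le]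
      rintro _ ⟨y, hy, rfl⟩
      apply Submodule.subset_span
      simp only [Finset.coe_image]
      exact ⟨y, hy, rfl⟩
    exact h3 ⟨a • m, h2, rfl⟩

end gen

section fibre

variable {A : Type u} [CommRing A] (M : Type u) [AddCommGroup M] [Module A M] [Module.Finite A M]

/-- from a bound on the dimension of the fibre `(A ⧸ 𝔪) ⊗ M` to generators modulo `𝔪 M` -/
lemma exists_finset_span_sup_smul (𝔪 : Ideal A) [h𝔪 : 𝔪.IsMaximal] (r : ℕ)
    (hr : Module.finrank (A ⧸ 𝔪) ((A ⧸ 𝔪) ⊗[A] M) ≤ r) :
    ∃ t : Finset M, t.card ≤ r ∧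
      Submodule.span A (t : Set M) ⊔ 𝔪 • (⊤ : Submodule A M) = ⊤ := by
  classical
  letI : Field (A ⧸ 𝔪) := Ideal.Quotient.field 𝔪
  set W := M ⧸ (𝔪 • (⊤ : Submodule A M)) with hW
  have hsurjA : Function.Surjective (algebraMap A (A ⧸ 𝔪)) := Ideal.Quotient.mk_surjective
  -- the fibre as a quotient
  let e : ((A ⧸ 𝔪) ⊗[A] M) ≃ₗ[A ⧸ 𝔪] W :=
    (TensorProduct.quotTensorEquivQuotSMul M 𝔪).extendScalarsOfSurjective hsurjA
  have hfr : Module.finrank (A ⧸ 𝔪) W ≤ r := by
    rw [← e.finrank_eq]
    exact hr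
  haveI : Module.Finite (A ⧸ 𝔪) W := Module.Finite.of_surjective e.toLinearMap e.surjective
  let b := Module.finBasis (A ⧸ 𝔪) W
  have hmk : Function.Surjective (Submodule.mkQ (𝔪 • (⊤ : Submodule A M))) :=
    Submodule.mkQ_surjective _
  choose m hm using fun i => hmk (b i)
  refine ⟨Finset.univ.image m, ?_, ?_⟩
  · refine Finset.card_image_le.trans ?_
    rw [Finset.card_univ, Fintype.card_fin]
    exact hfr
  · have h1 : Submodule.map (Submodule.mkQ (𝔪 • (⊤ : Submodule A M)))
        (Submodule.span A ((Finset.univ.image m : Finset M) : Set M)) = ⊤ := by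
      rw [Submodule.map_span, eq_top_iff]
      have h2 : (Submodule.span (A ⧸ 𝔪) (Set.range b)).restrictScalars A =
          Submodule.span A (Set.range b) :=
        Submodule.restrictScalars_span A (A ⧸ 𝔪) hsurjA (Set.range b)
      rw [b.span_eq] at h2
      have h3 : Set.range b = (Submodule.mkQ (𝔪 • (⊤ : Submodule A M))) ''
          ((Finset.univ.image m : Finset M) : Set M) := by
        ext w
        simp only [Set.mem_range, Finset.coe_image, Finset.coe_univ, Set.image_univ, Set.mem_image,
          exists_exists_eq_and]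
        constructor
        · rintro ⟨i, rfl⟩
          exact ⟨i, hm i⟩
        · rintro ⟨i, rfl⟩
          exact ⟨i, (hm i).symm⟩
      rw [← h3, ← h2]
      exact le_rfl
    have h4 := Submodule.comap_map_eq (Submodule.mkQ (𝔪 • (⊤ : Submodule A M)))
      (Submodule.span A ((Finset.univ.image m : Finset M) : Set M))
    rw [h1, Submodule.comap_top, Submodule.ker_mkQ] at h4
    exact h4.symm

end fibre


section fibre

/-- the dimension of the fibre of a module does not change under extension of the residue field -/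
lemma finrank_fibre_field_ext {A : Type u} [CommRing A]
    (M : Type u) [AddCommGroup M] [Module A M]
    (k L : Type u) [Field k] [Field L] [Algebra A k] [Algebra A L] [Algebra k L]
    [IsScalarTower A k L] :
    Module.finrank L (L ⊗[A] M) = Module.finrank k (k ⊗[A] M) := by
  have e2 : L ⊗[k] (k ⊗[A] M) ≃ₗ[L] L ⊗[A] M :=
    TensorProduct.AlgebraTensorModule.cancelBaseChange A k L L M
  rw [← e2.finrank_eq, Module.finrank_baseChange]

/-- at a point whose residue field is the base field, the fibre of the Kähler differentials is a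
quotient of the cotangent space -/
lemma finrank_fibre_kaehler_le (F R : Type u) [Field F] [CommRing R] [Algebra F R] [IsLocalRing R]
    [IsNoetherianRing R]
    (hsurj : Function.Surjective (algebraMap F (IsLocalRing.ResidueField R))) :
    Module.finrank (IsLocalRing.ResidueField R) ((IsLocalRing.ResidueField R) ⊗[R] Ω[R⁄F]) ≤
      Module.finrank (IsLocalRing.ResidueField R) (IsLocalRing.CotangentSpace R) := by
  set κ := IsLocalRing.ResidueField R with hκ
  have hs : Function.Surjective (algebraMap R κ) := IsLocalRing.residue_surjective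
  have hex := KaehlerDifferential.exact_kerCotangentToTensor_mapBaseChange F R κ hs
  have hsub : Subsingleton (Ω[κ⁄F]) := KaehlerDifferential.subsingleton_of_surjective F κ hsurj
  have hsurj2 : Function.Surjective (KaehlerDifferential.kerCotangentToTensor F R κ) := by
    intro y
    exact (hex y).1 (Subsingleton.elim _ _)
  have hker : RingHom.ker (algebraMap R κ) = IsLocalRing.maximalIdeal R := IsLocalRing.ker_residue
  let e := Ideal.Cotangent.equivOfEq _ _ hker
  let g : IsLocalRing.CotangentSpace R →ₗ[R] κ ⊗[R] Ω[R⁄F] :=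
    (KaehlerDifferential.kerCotangentToTensor F R κ).comp e.symm.toLinearMap
  have hg : Function.Surjective g := hsurj2.comp e.symm.surjective
  let g' : IsLocalRing.CotangentSpace R →ₗ[κ] κ ⊗[R] Ω[R⁄F] := g.extendScalarsOfSurjective hs
  exact LinearMap.finrank_le_finrank_of_surjective (f := g') hg

/-- the fibre of `Ω_{A/K}` at a `K'`-rational point of the base change `T = K' ⊗ A` is a quotient
of the cotangent space of the local ring of `T` at that point. -/
lemma finrank_fibre_le_cotangent (K K' A T : Type u) [Field K] [Field K'] [CommRing A] [CommRing T]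
    [Algebra K K'] [Algebra K A] [Algebra K T] [Algebra K' T] [Algebra A T]
    [IsScalarTower K K' T] [IsScalarTower K A T] [Algebra.IsPushout K K' A T]
    (𝔫 : Ideal T) [𝔫.IsPrime] [IsNoetherianRing T]
    (hsurj : Function.Surjective
      (algebraMap K' (IsLocalRing.ResidueField (Localization.AtPrime 𝔫)))) :
    Module.finrank (IsLocalRing.ResidueField (Localization.AtPrime 𝔫))
      ((IsLocalRing.ResidueField (Localization.AtPrime 𝔫)) ⊗[A] Ω[A⁄K]) ≤
    Module.finrank (IsLocalRing.ResidueField (Localization.AtPrime 𝔫))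
      (IsLocalRing.CotangentSpace (Localization.AtPrime 𝔫)) := by
  set R := Localization.AtPrime 𝔫 with hR
  set L := IsLocalRing.ResidueField R with hL
  haveI : IsNoetherianRing R := IsLocalization.isNoetherianRing 𝔫.primeCompl R inferInstance
  haveI : Algebra.FormallyEtale T R := Algebra.FormallyEtale.of_isLocalization 𝔫.primeCompl
  let e1 : L ⊗[T] (T ⊗[A] Ω[A⁄K]) ≃ₗ[L] L ⊗[A] Ω[A⁄K] :=
    TensorProduct.AlgebraTensorModule.cancelBaseChange A T L L _
  let e2 : T ⊗[A] Ω[A⁄K] ≃ₗ[T] Ω[T⁄K'] := KaehlerDifferential.tensorKaehlerEquiv K K' A T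
  let e3 : L ⊗[T] (T ⊗[A] Ω[A⁄K]) ≃ₗ[L] L ⊗[T] Ω[T⁄K'] :=
    TensorProduct.AlgebraTensorModule.congr (LinearEquiv.refl L L) e2
  let e4 : L ⊗[R] (R ⊗[T] Ω[T⁄K']) ≃ₗ[L] L ⊗[T] Ω[T⁄K'] :=
    TensorProduct.AlgebraTensorModule.cancelBaseChange T R L L _
  let e5 : R ⊗[T] Ω[T⁄K'] ≃ₗ[R] Ω[R⁄K'] :=
    KaehlerDifferential.tensorKaehlerEquivOfFormallyEtale K' T R
  let e6 : L ⊗[R] (R ⊗[T] Ω[T⁄K']) ≃ₗ[L] L ⊗[R] Ω[R⁄K'] :=
    TensorProduct.AlgebraTensorModule.congr (LinearEquiv.refl L L) e5
  rw [← e1.finrank_eq, e3.finrank_eq, ← e4.finrank_eq, e6.finrank_eq]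
  exact finrank_fibre_kaehler_le K' R hsurj

end fibre

end Groth.Agent.R2.H94.OmegaGen

namespace Groth.Agent.R2.H94.OmegaGen

attribute [local instance] Algebra.TensorProduct.rightAlgebra

lemma isIntegral_tensor_right (K K' A : Type u) [Field K] [Field K'] [CommRing A] [Algebra K K']
    [Algebra K A] [Algebra.IsIntegral K K'] : Algebra.IsIntegral A (K' ⊗[K] A) := by
  constructor
  intro z
  induction z using TensorProduct.induction_on with
  | zero => exact isIntegral_zero
  | tmul x y =>
    have h1 : IsIntegral A ((x ⊗ₜ[K] (1 : A)) : K' ⊗[K] A) := by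
      have hx : IsIntegral K x := Algebra.IsIntegral.isIntegral x
      exact IsIntegral.map_of_comp_eq (R := K) (S := K') (T := A) (U := K' ⊗[K] A)
        (algebraMap K A)
        (Algebra.TensorProduct.includeLeftRingHom (R := K) (A := K') (B := A))
        (RingHom.ext fun c => by
          change (1 : K') ⊗ₜ[K] (algebraMap K A c) = (algebraMap K K' c) ⊗ₜ[K] (1 : A)
          rw [Algebra.algebraMap_eq_smul_one, Algebra.algebraMap_eq_smul_one,
            TensorProduct.smul_tmul]) hx
    have h2 : (x ⊗ₜ[K] y : K' ⊗[K] A) = y • (x ⊗ₜ[K] (1 : A)) := by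
      rw [Algebra.smul_def, Algebra.TensorProduct.right_algebraMap_apply,
        Algebra.TensorProduct.tmul_mul_tmul, one_mul, mul_one]
    rw [h2]
    exact IsIntegral.smul _ h1
  | add x y hx hy => exact hx.add hy

end Groth.Agent.R2.H94.OmegaGen

namespace Groth.Agent.R2.H94.OmegaGen

attribute [local instance] Algebra.TensorProduct.rightAlgebra

theorem main
    {K : Type u} [Field K] {A : Type u} [CommRing A] [Algebra K A] [Algebra.FiniteType K A]
    [IsDomain (TensorProduct K (AlgebraicClosure K) A)]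
    (hhyp : ∀ (q : Ideal (TensorProduct K (AlgebraicClosure K) A)) [q.IsPrime],
      (Module.finrank (IsLocalRing.ResidueField (Localization.AtPrime q))
          (IsLocalRing.CotangentSpace (Localization.AtPrime q)) : ℕ∞) ≤ q.height + 1)
    (d : ℕ) (hd : ringKrullDim A = d) (p : Ideal A) [p.IsPrime] :
    ∃ s : Finset (LocalizedModule p.primeCompl (KaehlerDifferential K A)),
      s.card ≤ d + 1 ∧ Submodule.span (Localization.AtPrime p)
        (s : Set (LocalizedModule p.primeCompl (KaehlerDifferential K A))) = ⊤ := by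
  classical
  obtain ⟨𝔪, h𝔪, hp𝔪⟩ := Ideal.exists_le_maximal p (Ideal.IsPrime.ne_top inferInstance)
  haveI := h𝔪
  haveI hint : Algebra.IsIntegral A (AlgebraicClosure K ⊗[K] A) :=
    isIntegral_tensor_right K (AlgebraicClosure K) A
  have hinj : Function.Injective (algebraMap A (AlgebraicClosure K ⊗[K] A)) :=
    Algebra.TensorProduct.includeRight_injective (R := K) (A := AlgebraicClosure K) (B := A)
      (algebraMap K (AlgebraicClosure K)).injective
  obtain ⟨𝔫, h𝔫max, h𝔫⟩ := Ideal.exists_ideal_over_maximal_of_isIntegral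
    (S := AlgebraicClosure K ⊗[K] A) 𝔪 (by
      rw [(RingHom.injective_iff_ker_eq_bot _).mp hinj]; exact bot_le)
  haveI := h𝔫max
  haveI : 𝔫.IsPrime := h𝔫max.isPrime
  haveI : Algebra.FiniteType (AlgebraicClosure K) (AlgebraicClosure K ⊗[K] A) := inferInstance
  haveI : IsNoetherianRing (AlgebraicClosure K ⊗[K] A) :=
    Algebra.FiniteType.isNoetherianRing (AlgebraicClosure K) _
  have hsurjTL : Function.Surjective (algebraMap (AlgebraicClosure K ⊗[K] A)
      (IsLocalRing.ResidueField (Localization.AtPrime 𝔫))) :=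
    Ideal.algebraMap_residueField_surjective 𝔫
  haveI : Algebra.FiniteType (AlgebraicClosure K)
      (IsLocalRing.ResidueField (Localization.AtPrime 𝔫)) :=
    Algebra.FiniteType.of_surjective
      (IsScalarTower.toAlgHom (AlgebraicClosure K) (AlgebraicClosure K ⊗[K] A)
        (IsLocalRing.ResidueField (Localization.AtPrime 𝔫))) hsurjTL
  haveI : Module.Finite (AlgebraicClosure K)
      (IsLocalRing.ResidueField (Localization.AtPrime 𝔫)) :=
    finite_of_finite_type_of_isJacobsonRing _ _
  have hsurj : Function.Surjective (algebraMap (AlgebraicClosure K)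
      (IsLocalRing.ResidueField (Localization.AtPrime 𝔫))) :=
    IsAlgClosed.algebraMap_bijective_of_isIntegral.2
  have h1 := finrank_fibre_le_cotangent K (AlgebraicClosure K) A (AlgebraicClosure K ⊗[K] A) 𝔫 hsurj
  have h2 := hhyp 𝔫
  have h3 : 𝔫.height ≤ (d : ℕ∞) := by
    have ha : (𝔫.height : WithBot ℕ∞) ≤ ringKrullDim (AlgebraicClosure K ⊗[K] A) :=
      Ideal.height_le_ringKrullDim_of_ne_top (Ideal.IsPrime.ne_top inferInstance)
    have hb : ringKrullDim (AlgebraicClosure K ⊗[K] A) ≤ ringKrullDim A :=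
      Groth.Agent.Lib.Helper5.ringKrullDim_le_of_isIntegral A _
    rw [hd] at hb
    exact WithBot.coe_le_coe.mp (ha.trans hb)
  have h4 : Module.finrank (IsLocalRing.ResidueField (Localization.AtPrime 𝔫))
      ((IsLocalRing.ResidueField (Localization.AtPrime 𝔫)) ⊗[A] Ω[A⁄K]) ≤ d + 1 := by
    have h5 : (Module.finrank (IsLocalRing.ResidueField (Localization.AtPrime 𝔫))
        (IsLocalRing.CotangentSpace (Localization.AtPrime 𝔫)) : ℕ∞) ≤ ((d + 1 : ℕ) : ℕ∞) := by
      refine h2.trans ?_
      push_cast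
      gcongr
    exact h1.trans (by exact_mod_cast h5)
  -- the residue field of `A` at `𝔪` maps to `L`
  have hker : ∀ a ∈ 𝔪, algebraMap A (IsLocalRing.ResidueField (Localization.AtPrime 𝔫)) a = 0 := by
    intro a ha
    have ha' : algebraMap A (AlgebraicClosure K ⊗[K] A) a ∈ 𝔫 := by
      rw [← h𝔫] at ha
      exact ha
    rw [IsScalarTower.algebraMap_apply A (AlgebraicClosure K ⊗[K] A)
      (IsLocalRing.ResidueField (Localization.AtPrime 𝔫)),
      IsScalarTower.algebraMap_apply (AlgebraicClosure K ⊗[K] A) (Localization.AtPrime 𝔫)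
      (IsLocalRing.ResidueField (Localization.AtPrime 𝔫))]
    rw [IsLocalRing.ResidueField.algebraMap_eq, IsLocalRing.residue_eq_zero_iff]
    exact (IsLocalization.AtPrime.to_map_mem_maximal_iff _ 𝔫 _).mpr ha'
  letI : Field (A ⧸ 𝔪) := Ideal.Quotient.field 𝔪
  letI : Algebra (A ⧸ 𝔪) (IsLocalRing.ResidueField (Localization.AtPrime 𝔫)) :=
    (Ideal.Quotient.lift 𝔪 (algebraMap A _) hker).toAlgebra
  haveI : IsScalarTower A (A ⧸ 𝔪) (IsLocalRing.ResidueField (Localization.AtPrime 𝔫)) :=
    IsScalarTower.of_algebraMap_eq (fun x => rfl)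
  have h6 := finrank_fibre_field_ext (A := A) (Ω[A⁄K]) (A ⧸ 𝔪)
    (IsLocalRing.ResidueField (Localization.AtPrime 𝔫))
  exact exists_finset_span_localizedModule _ 𝔪 p hp𝔪 (d + 1)
    (exists_finset_span_sup_smul _ 𝔪 (d + 1) (by rw [← h6]; exact h4))

end Groth.Agent.R2.H94.OmegaGen
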