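import Mathlib

/-!
# Rational maximizers of `ℓ·y/√q(y)` on the orthant (helper94, for S19138)
-/

set_option autoImplicit false

namespace Groth.Agent.R2.H94.RatMax

open Matrix

variable {n : ℕ}

/-- the real linear form -/
noncomputable def Lr (ℓ : Fin n → ℚ) (y : Fin n → ℝ) : ℝ := (fun i => (ℓ i : ℝ)) ⬝ᵥ y

/-- the real matrix -/
noncomputable def Br (B : Matrix (Fin n) (Fin n) ℚ) : Matrix (Fin n) (Fin n) ℝ :=
  B.map (fun r : ℚ => (r : ℝ))

/-- the quadratic form -/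
noncomputable def Q (B : Matrix (Fin n) (Fin n) ℚ) (y : Fin n → ℝ) : ℝ := y ⬝ᵥ (Br B) *ᵥ y

/-- the polar form -/
noncomputable def β (B : Matrix (Fin n) (Fin n) ℚ) (x y : Fin n → ℝ) : ℝ :=
  x ⬝ᵥ (Br B) *ᵥ y + y ⬝ᵥ (Br B) *ᵥ x

/-- the objective function -/
noncomputable def f (ℓ : Fin n → ℚ) (B : Matrix (Fin n) (Fin n) ℚ) (y : Fin n → ℝ) : ℝ :=
  Lr ℓ y / Real.sqrt (Q B y)

variable (ℓ : Fin n → ℚ) (B : Matrix (Fin n) (Fin n) ℚ)

lemma Lr_add (x y : Fin n → ℝ) : Lr ℓ (x + y) = Lr ℓ x + Lr ℓ y := by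
  simp [Lr, dotProduct_add]

lemma Lr_smul (c : ℝ) (y : Fin n → ℝ) : Lr ℓ (c • y) = c * Lr ℓ y := by
  simp [Lr, dotProduct_smul]

lemma Q_add_smul (x u : Fin n → ℝ) (t : ℝ) :
    Q B (x + t • u) = Q B x + t * β B x u + t ^ 2 * Q B u := by
  simp only [Q, β, mulVec_add, mulVec_smul, dotProduct_add, add_dotProduct, smul_dotProduct,
    dotProduct_smul, smul_eq_mul]
  ring

lemma Q_smul (c : ℝ) (y : Fin n → ℝ) : Q B (c • y) = c ^ 2 * Q B y := by
  simp only [Q, mulVec_smul, smul_dotProduct, dotProduct_smul, smul_eq_mul]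
  ring

lemma Q_zero : Q B 0 = 0 := by simp [Q]

lemma f_smul {c : ℝ} (hc : 0 < c) (y : Fin n → ℝ) : f ℓ B (c • y) = f ℓ B y := by
  unfold f
  rw [Lr_smul, Q_smul, Real.sqrt_mul (sq_nonneg c), Real.sqrt_sq hc.le]
  by_cases h : Real.sqrt (Q B y) = 0
  · simp [h]
  · field_simp

lemma β_comm (x y : Fin n → ℝ) : β B x y = β B y x := by
  unfold β; ring



lemma continuous_Lr : Continuous (Lr ℓ) := by
  unfold Lr
  simp only [dotProduct]
  fun_prop

lemma continuous_Q : Continuous (Q B) := by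
  unfold Q
  simp only [dotProduct, mulVec]
  fun_prop

theorem exists_max (hpos : ∀ y : Fin n → ℝ, (∀ i, 0 ≤ y i) → y ≠ 0 → 0 < Q B y) (hn : 0 < n) :
    ∃ y : Fin n → ℝ, (∀ i, 0 ≤ y i) ∧ y ≠ 0 ∧
      ∀ y' : Fin n → ℝ, (∀ i, 0 ≤ y' i) → y' ≠ 0 → f ℓ B y' ≤ f ℓ B y := by
  have hne : (stdSimplex ℝ (Fin n)).Nonempty := ⟨_, single_mem_stdSimplex ℝ ⟨0, hn⟩⟩
  have hne0 : ∀ y ∈ stdSimplex ℝ (Fin n), y ≠ 0 := by
    intro y hy h0
    have := hy.2
    simp [h0] at this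
  have hcont : ContinuousOn (f ℓ B) (stdSimplex ℝ (Fin n)) := by
    unfold f
    refine ContinuousOn.div (continuous_Lr ℓ).continuousOn
      ((Real.continuous_sqrt.comp (continuous_Q B)).continuousOn) ?_
    intro y hy
    exact (Real.sqrt_pos.mpr (hpos y hy.1 (hne0 y hy))).ne'
  obtain ⟨y₀, hy₀, hmax⟩ := (isCompact_stdSimplex (𝕜 := ℝ) (ι := Fin n)).exists_isMaxOn hne hcont
  refine ⟨y₀, hy₀.1, hne0 y₀ hy₀, fun y' h1 h2 => ?_⟩
  have hs : 0 < ∑ i, y' i := by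
    obtain ⟨i, hi⟩ : ∃ i, y' i ≠ 0 := by
      by_contra hcon
      push Not at hcon
      exact h2 (funext hcon)
    exact Finset.sum_pos' (fun i _ => h1 i) ⟨i, Finset.mem_univ i, lt_of_le_of_ne (h1 i) (Ne.symm hi)⟩
  have hmem : (∑ i, y' i)⁻¹ • y' ∈ stdSimplex ℝ (Fin n) := by
    refine ⟨fun i => ?_, ?_⟩
    · simp only [Pi.smul_apply, smul_eq_mul]
      exact mul_nonneg (inv_nonneg.mpr hs.le) (h1 i)
    · simp only [Pi.smul_apply, smul_eq_mul, ← Finset.mul_sum]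
      exact inv_mul_cancel₀ hs.ne'
  have h3 : f ℓ B ((∑ i, y' i)⁻¹ • y') ≤ f ℓ B y₀ := hmax hmem
  rwa [f_smul ℓ B (inv_pos.mpr hs)] at h3



/-- maximizers on the punctured orthant -/
def IsMax (y : Fin n → ℝ) : Prop :=
  (∀ i, 0 ≤ y i) ∧ y ≠ 0 ∧ ∀ y' : Fin n → ℝ, (∀ i, 0 ≤ y' i) → y' ≠ 0 → f ℓ B y' ≤ f ℓ B y

/-- support -/
noncomputable def supp (y : Fin n → ℝ) : Finset (Fin n) := Finset.univ.filter (fun i => y i ≠ 0)

lemma mem_supp {y : Fin n → ℝ} {i : Fin n} : i ∈ supp y ↔ y i ≠ 0 := by simp [supp]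

/-- small perturbations supported on the support stay in the orthant -/
lemma exists_delta (y w : Fin n → ℝ) (hy : ∀ i, 0 ≤ y i) (hw : ∀ i, y i = 0 → w i = 0) :
    ∃ δ : ℝ, 0 < δ ∧ ∀ t : ℝ, |t| ≤ δ → ∀ i, 0 ≤ (y + t • w) i := by
  classical
  by_cases hF : (supp y).Nonempty
  · obtain ⟨i₀, hi₀, hmin⟩ := Finset.exists_min_image (supp y) y hF
    have hm : 0 < y i₀ := lt_of_le_of_ne (hy i₀) (Ne.symm (mem_supp.mp hi₀))
    set W : ℝ := ∑ i, |w i| with hW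
    have hW0 : 0 ≤ W := Finset.sum_nonneg fun i _ => abs_nonneg _
    refine ⟨y i₀ / (W + 1), div_pos hm (by linarith), fun t ht i => ?_⟩
    simp only [Pi.add_apply, Pi.smul_apply, smul_eq_mul]
    by_cases hi : y i = 0
    · rw [hi, hw i hi]; simp
    · have hyi : y i₀ ≤ y i := hmin i (mem_supp.mpr hi)
      have hwi : |w i| ≤ W := Finset.single_le_sum (fun j _ => abs_nonneg (w j)) (Finset.mem_univ i)
      have h1 : |t * w i| ≤ y i₀ := by
        rw [abs_mul]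
        calc |t| * |w i| ≤ (y i₀ / (W + 1)) * W := mul_le_mul ht hwi (abs_nonneg _) (by positivity)
          _ = y i₀ * (W / (W + 1)) := by ring
          _ ≤ y i₀ * 1 := by
              apply mul_le_mul_of_nonneg_left _ hm.le
              rw [div_le_one (by linarith)]; linarith
          _ = y i₀ := mul_one _
      have := neg_abs_le (t * w i)
      linarith
  · refine ⟨1, one_pos, fun t _ i => ?_⟩
    have hi : y i = 0 := by
      by_contra h
      exact hF ⟨i, mem_supp.mpr h⟩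
    simp [hi, hw i hi]



/-- step (a): a `Q`-null direction in the support of a maximizer is `Lr`-null. -/
lemma Lr_eq_zero_of_null (hpos : ∀ y : Fin n → ℝ, (∀ i, 0 ≤ y i) → y ≠ 0 → 0 < Q B y)
    {y : Fin n → ℝ} (hy : IsMax ℓ B y) (w : Fin n → ℝ)
    (hw : ∀ i, y i = 0 → w i = 0) (hQ : ∀ t : ℝ, Q B (y + t • w) = Q B y) : Lr ℓ w = 0 := by
  obtain ⟨δ, hδ, hδ'⟩ := exists_delta y w hy.1 hw
  have hQy : 0 < Q B y := hpos y hy.1 hy.2.1
  have hs : 0 < Real.sqrt (Q B y) := Real.sqrt_pos.mpr hQy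
  have key : ∀ t : ℝ, |t| ≤ δ → t * Lr ℓ w ≤ 0 := by
    intro t ht
    have hne : y + t • w ≠ 0 := by
      intro h0
      have := hQ t
      rw [h0, Q_zero] at this
      linarith
    have := hy.2.2 (y + t • w) (hδ' t ht) hne
    unfold f at this
    rw [hQ t, div_le_div_iff_of_pos_right hs, Lr_add, Lr_smul] at this
    linarith
  have h1 := key δ (by rw [abs_of_pos hδ])
  have h2 := key (-δ) (by rw [abs_neg, abs_of_pos hδ])
  nlinarith

/-- step (b) with a negative coordinate -/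
lemma exists_smaller_supp_aux (hpos : ∀ y : Fin n → ℝ, (∀ i, 0 ≤ y i) → y ≠ 0 → 0 < Q B y)
    {y : Fin n → ℝ} (hy : IsMax ℓ B y) (w : Fin n → ℝ)
    (hw : ∀ i, y i = 0 → w i = 0) (hQ : ∀ t : ℝ, Q B (y + t • w) = Q B y)
    (hneg : ∃ i, w i < 0) :
    ∃ y' : Fin n → ℝ, IsMax ℓ B y' ∧ (supp y').card < (supp y).card := by
  classical
  have hLw : Lr ℓ w = 0 := Lr_eq_zero_of_null ℓ B hpos hy w hw hQ
  have hQy : 0 < Q B y := hpos y hy.1 hy.2.1
  let N : Finset (Fin n) := Finset.univ.filter (fun i => w i < 0)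
  have hN : N.Nonempty := by
    obtain ⟨i, hi⟩ := hneg
    exact ⟨i, by simp [N, hi]⟩
  obtain ⟨i₁, hi₁, hmin⟩ := Finset.exists_min_image N (fun i => y i / (- w i)) hN
  have hwi₁ : w i₁ < 0 := by simpa [N] using hi₁
  have hyi₁ : 0 < y i₁ := by
    refine lt_of_le_of_ne (hy.1 i₁) (fun h => ?_)
    have := hw i₁ h.symm
    linarith
  set t₀ : ℝ := y i₁ / (- w i₁) with ht₀
  have ht₀pos : 0 < t₀ := div_pos hyi₁ (by linarith)
  have hnn : ∀ i, 0 ≤ (y + t₀ • w) i := by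
    intro i
    simp only [Pi.add_apply, Pi.smul_apply, smul_eq_mul]
    by_cases hwi : w i < 0
    · have h1 : t₀ ≤ y i / (- w i) := hmin i (by simp [N, hwi])
      rw [le_div_iff₀ (by linarith)] at h1
      linarith
    · have : 0 ≤ t₀ * w i := mul_nonneg ht₀pos.le (not_lt.mp hwi)
      linarith [hy.1 i]
  have hzero : (y + t₀ • w) i₁ = 0 := by
    simp only [Pi.add_apply, Pi.smul_apply, smul_eq_mul, ht₀]
    have : w i₁ ≠ 0 := hwi₁.ne
    field_simp
    ring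
  have hne : y + t₀ • w ≠ 0 := by
    intro h0
    have := hQ t₀
    rw [h0, Q_zero] at this
    linarith
  refine ⟨y + t₀ • w, ⟨hnn, hne, fun y' h1 h2 => ?_⟩, ?_⟩
  · have : f ℓ B (y + t₀ • w) = f ℓ B y := by
      unfold f
      rw [hQ, Lr_add, Lr_smul, hLw, mul_zero, add_zero]
    rw [this]
    exact hy.2.2 y' h1 h2
  · apply Finset.card_lt_card
    rw [Finset.ssubset_iff_of_subset]
    · refine ⟨i₁, mem_supp.mpr hyi₁.ne', fun h => (mem_supp.mp h) hzero⟩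
    · intro i hi
      rw [mem_supp] at hi ⊢
      intro h0
      apply hi
      simp [h0, hw i h0]

/-- step (b): a nonzero `Q`-null direction in the support of a maximizer yields a maximizer of
smaller support. -/
lemma exists_smaller_supp (hpos : ∀ y : Fin n → ℝ, (∀ i, 0 ≤ y i) → y ≠ 0 → 0 < Q B y)
    {y : Fin n → ℝ} (hy : IsMax ℓ B y) (w : Fin n → ℝ) (hw0 : w ≠ 0)
    (hw : ∀ i, y i = 0 → w i = 0) (hQ : ∀ t : ℝ, Q B (y + t • w) = Q B y) :
    ∃ y' : Fin n → ℝ, IsMax ℓ B y' ∧ (supp y').card < (supp y).card := by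
  obtain ⟨i, hi⟩ : ∃ i, w i ≠ 0 := by
    by_contra hcon
    push Not at hcon
    exact hw0 (funext hcon)
  rcases lt_or_gt_of_ne hi with h | h
  · exact exists_smaller_supp_aux ℓ B hpos hy w hw hQ ⟨i, h⟩
  · refine exists_smaller_supp_aux ℓ B hpos hy (-w) (fun j hj => by simp [hw j hj]) (fun t => ?_)
      ⟨i, by simpa using h⟩
    have := hQ (-t)
    rwa [neg_smul, ← smul_neg] at this



/-- a maximizer of minimal support -/
lemma exists_min_supp (h : ∃ y, IsMax ℓ B y) :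
    ∃ y, IsMax ℓ B y ∧ ∀ y', IsMax ℓ B y' → (supp y).card ≤ (supp y').card := by
  classical
  have hex : ∃ m : ℕ, ∃ y, IsMax ℓ B y ∧ (supp y).card = m := by
    obtain ⟨y, hy⟩ := h
    exact ⟨_, y, hy, rfl⟩
  obtain ⟨y, hy, hcard⟩ := Nat.find_spec hex
  refine ⟨y, hy, fun y' hy' => ?_⟩
  rw [hcard]
  exact Nat.find_min' hex ⟨y', hy', rfl⟩

/-- the symmetrized real matrix -/
noncomputable def Ar (B : Matrix (Fin n) (Fin n) ℚ) : Matrix (Fin n) (Fin n) ℝ := Br B + (Br B)ᵀ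

lemma β_eq (x w : Fin n → ℝ) : β B x w = x ⬝ᵥ (Ar B) *ᵥ w := by
  unfold β Ar
  rw [add_mulVec, dotProduct_add, mulVec_transpose, dotProduct_comm x (w ᵥ* Br B),
    ← dotProduct_mulVec]

lemma β_self (w : Fin n → ℝ) : β B w w = 2 * Q B w := by
  unfold β Q; ring

/-- if `(A w)_i = 0` on the support of `x`, then `β x w = 0` -/
lemma β_eq_zero (x w : Fin n → ℝ) (h : ∀ i, x i ≠ 0 → ((Ar B) *ᵥ w) i = 0) : β B x w = 0 := by
  rw [β_eq, dotProduct]
  refine Finset.sum_eq_zero fun i _ => ?_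
  by_cases hi : x i = 0
  · rw [hi, zero_mul]
  · rw [h i hi, mul_zero]

/-- Step 3: nondegeneracy on the support of a minimal maximizer. -/
theorem eq_zero_of_minimal (hpos : ∀ y : Fin n → ℝ, (∀ i, 0 ≤ y i) → y ≠ 0 → 0 < Q B y)
    {y : Fin n → ℝ} (hy : IsMax ℓ B y)
    (hmin : ∀ y', IsMax ℓ B y' → (supp y).card ≤ (supp y').card)
    (w : Fin n → ℝ) (hw : ∀ i, y i = 0 → w i = 0)
    (hAw : ∀ i, y i ≠ 0 → ((Ar B) *ᵥ w) i = 0) : w = 0 := by
  by_contra hw0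
  have hQ : ∀ t : ℝ, Q B (y + t • w) = Q B y := by
    intro t
    have h1 : β B y w = 0 := β_eq_zero B y w hAw
    have h2 : Q B w = 0 := by
      have := β_eq_zero B w w (fun i hi => hAw i (fun h => hi (hw i h)))
      rw [β_self] at this
      linarith
    rw [Q_add_smul, h1, h2]
    ring
  obtain ⟨y', hy', hlt⟩ := exists_smaller_supp ℓ B hpos hy w hw0 hw hQ
  exact absurd (hmin y' hy') (not_le.mpr hlt)



lemma lin_coeff_zero {a b δ : ℝ} (hδ : 0 < δ) (h : ∀ t : ℝ, |t| ≤ δ → 0 ≤ t * b + t ^ 2 * a) :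
    b = 0 := by
  by_contra hb
  have ha : 0 < 2 * (|a| + 1) := by positivity
  rcases lt_or_gt_of_ne hb with hb | hb
  · -- b < 0, take t = ε > 0
    set ε := min δ (-b / (2 * (|a| + 1))) with hε
    have hε0 : 0 < ε := lt_min hδ (div_pos (by linarith) ha)
    have h1 : ε ≤ δ := min_le_left _ _
    have h2 : ε * (2 * (|a| + 1)) ≤ -b := by
      have := min_le_right δ (-b / (2 * (|a| + 1)))
      rw [← hε, le_div_iff₀ ha] at this
      exact this
    have h3 := h ε (by rw [abs_of_pos hε0]; exact h1)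
    have h4 : a ≤ |a| := le_abs_self a
    nlinarith [mul_pos hε0 hε0, abs_nonneg a]
  · -- b > 0, take t = -ε
    set ε := min δ (b / (2 * (|a| + 1))) with hε
    have hε0 : 0 < ε := lt_min hδ (div_pos hb ha)
    have h1 : ε ≤ δ := min_le_left _ _
    have h2 : ε * (2 * (|a| + 1)) ≤ b := by
      have := min_le_right δ (b / (2 * (|a| + 1)))
      rw [← hε, le_div_iff₀ ha] at this
      exact this
    have h3 := h (-ε) (by rw [abs_neg, abs_of_pos hε0]; exact h1)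
    have h4 : a ≤ |a| := le_abs_self a
    nlinarith [mul_pos hε0 hε0, abs_nonneg a]



lemma Lr_zero : Lr ℓ 0 = 0 := by simp [Lr]

/-- squared form of the maximality inequality -/
lemma sq_ineq (hpos : ∀ y : Fin n → ℝ, (∀ i, 0 ≤ y i) → y ≠ 0 → 0 < Q B y)
    {y : Fin n → ℝ} (hy : IsMax ℓ B y) (_hL : 0 < Lr ℓ y)
    (y' : Fin n → ℝ) (h1 : ∀ i, 0 ≤ y' i) (hL' : 0 < Lr ℓ y') :
    (Lr ℓ y') ^ 2 * Q B y ≤ (Lr ℓ y) ^ 2 * Q B y' := by
  have hne : y' ≠ 0 := by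
    intro h0; rw [h0, Lr_zero] at hL'; exact lt_irrefl _ hL'
  have hQy : 0 < Q B y := hpos y hy.1 hy.2.1
  have hQy' : 0 < Q B y' := hpos y' h1 hne
  have hs : 0 < Real.sqrt (Q B y) := Real.sqrt_pos.mpr hQy
  have hs' : 0 < Real.sqrt (Q B y') := Real.sqrt_pos.mpr hQy'
  have h := hy.2.2 y' h1 hne
  unfold f at h
  rw [div_le_div_iff₀ hs' hs] at h
  have h2 := mul_self_le_mul_self (by positivity) h
  have e1 : Real.sqrt (Q B y) * Real.sqrt (Q B y) = Q B y := Real.mul_self_sqrt hQy.le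
  have e2 : Real.sqrt (Q B y') * Real.sqrt (Q B y') = Q B y' := Real.mul_self_sqrt hQy'.le
  calc (Lr ℓ y') ^ 2 * Q B y = (Lr ℓ y' * Real.sqrt (Q B y)) * (Lr ℓ y' * Real.sqrt (Q B y)) := by
        linear_combination (-(Lr ℓ y') ^ 2) * e1
    _ ≤ (Lr ℓ y * Real.sqrt (Q B y')) * (Lr ℓ y * Real.sqrt (Q B y')) := h2
    _ = (Lr ℓ y) ^ 2 * Q B y' := by linear_combination (Lr ℓ y) ^ 2 * e2

/-- Step 4: the first-order condition at a maximizer. -/
theorem first_order (hpos : ∀ y : Fin n → ℝ, (∀ i, 0 ≤ y i) → y ≠ 0 → 0 < Q B y)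
    {y : Fin n → ℝ} (hy : IsMax ℓ B y) (hL : 0 < Lr ℓ y) (i : Fin n) (hi : y i ≠ 0) :
    Lr ℓ y * ((Ar B) *ᵥ y) i = 2 * Q B y * (ℓ i : ℝ) := by
  classical
  set w : Fin n → ℝ := Pi.single i 1 with hw
  have hwz : ∀ j, y j = 0 → w j = 0 := by
    intro j hj
    have : j ≠ i := fun h => hi (h ▸ hj)
    simp [hw, this]
  have hLw : Lr ℓ w = (ℓ i : ℝ) := by simp [Lr, hw]
  have hβ : β B y w = ((Ar B) *ᵥ y) i := by
    rw [β_comm, β_eq, hw, single_one_dotProduct]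
  obtain ⟨δ₁, hδ₁, hδ₁'⟩ := exists_delta y w hy.1 hwz
  set δ := min δ₁ (Lr ℓ y / (|(ℓ i : ℝ)| + 1)) with hδ
  have hδ0 : 0 < δ := lt_min hδ₁ (div_pos hL (by positivity))
  have key : ∀ t : ℝ, |t| ≤ δ → 0 ≤ t * ((Lr ℓ y) ^ 2 * β B y w - 2 * Lr ℓ y * Lr ℓ w * Q B y) +
      t ^ 2 * ((Lr ℓ y) ^ 2 * Q B w - (Lr ℓ w) ^ 2 * Q B y) := by
    intro t ht
    have ht1 : |t| ≤ δ₁ := ht.trans (min_le_left _ _)
    have ht2 : |t| * (|(ℓ i : ℝ)| + 1) ≤ Lr ℓ y := by
      have := ht.trans (min_le_right _ _)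
      rwa [le_div_iff₀ (by positivity)] at this
    have hLpos : 0 < Lr ℓ (y + t • w) := by
      rw [Lr_add, Lr_smul, hLw]
      have h1 : -(|t| * |(ℓ i : ℝ)|) ≤ t * (ℓ i : ℝ) := by
        rw [← abs_mul]; exact neg_abs_le _
      have h2 : |t| * |(ℓ i : ℝ)| < Lr ℓ y ∨ |t| = 0 := by
        by_cases h0 : |t| = 0
        · exact Or.inr h0
        · left
          have : 0 < |t| := lt_of_le_of_ne (abs_nonneg t) (Ne.symm h0)
          nlinarith
      rcases h2 with h2 | h2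
      · linarith
      · rw [abs_eq_zero] at h2; rw [h2]; simpa using hL
    have := sq_ineq ℓ B hpos hy hL (y + t • w) (hδ₁' t ht1) hLpos
    rw [Q_add_smul, Lr_add, Lr_smul] at this
    nlinarith
  have hb := lin_coeff_zero hδ0 key
  rw [hLw, hβ] at hb
  have : Lr ℓ y * (Lr ℓ y * ((Ar B) *ᵥ y) i - 2 * Q B y * (ℓ i : ℝ)) = 0 := by
    linear_combination hb
  rcases mul_eq_zero.mp this with h | h
  · exact absurd h hL.ne'
  · linarith



lemma Ar_eq_map : Ar B = (B + Bᵀ).map (fun r : ℚ => (r : ℝ)) := by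
  ext i j
  simp [Ar, Br]

lemma Ar_mulVec_cast (x : Fin n → ℚ) (i : Fin n) :
    ((Ar B) *ᵥ (fun j => (x j : ℝ))) i = (((B + Bᵀ) *ᵥ x) i : ℚ) := by
  rw [Ar_eq_map]
  exact ((Rat.castHom ℝ).map_mulVec (B + Bᵀ) x i).symm

/-- Step 5: a rational point proportional to a minimal maximizer. -/
theorem exists_rat_proportional (hpos : ∀ y : Fin n → ℝ, (∀ i, 0 ≤ y i) → y ≠ 0 → 0 < Q B y)
    {y : Fin n → ℝ} (hy : IsMax ℓ B y) (hL : 0 < Lr ℓ y)
    (hmin : ∀ y', IsMax ℓ B y' → (supp y).card ≤ (supp y').card) :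
    ∃ (x : Fin n → ℚ) (c : ℝ), 0 < c ∧ (fun i => (x i : ℝ)) = c • y := by
  classical
  have hQy : 0 < Q B y := hpos y hy.1 hy.2.1
  -- the subspace of vectors supported on supp y
  let V : Submodule ℚ (Fin n → ℚ) :=
    { carrier := {x | ∀ i, y i = 0 → x i = 0}
      add_mem' := fun {a b} ha hb i hi => by simp [ha i hi, hb i hi]
      zero_mem' := fun i _ => rfl
      smul_mem' := fun c a ha i hi => by simp [ha i hi] }
  let T₀ : (Fin n → ℚ) →ₗ[ℚ] (Fin n → ℚ) :=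
    LinearMap.pi fun i => if y i = 0 then 0 else (LinearMap.proj i) ∘ₗ (B + Bᵀ).mulVecLin
  have hT₀ : ∀ (x : Fin n → ℚ) (i : Fin n), T₀ x i = if y i = 0 then 0 else ((B + Bᵀ) *ᵥ x) i := by
    intro x i
    simp only [T₀, LinearMap.pi_apply]
    split_ifs
    · simp
    · simp only [LinearMap.comp_apply, LinearMap.proj_apply, Matrix.mulVecLin_apply]
  have hT₀V : ∀ x : V, T₀ x ∈ V := by
    intro x i hi
    rw [hT₀, if_pos hi]
  let T : V →ₗ[ℚ] V := LinearMap.codRestrict V (T₀ ∘ₗ V.subtype) hT₀V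
  have hTinj : Function.Injective T := by
    rw [← LinearMap.ker_eq_bot, LinearMap.ker_eq_bot']
    intro x hx
    have hx' : ∀ i, y i ≠ 0 → ((B + Bᵀ) *ᵥ x.1) i = 0 := by
      intro i hi
      have := congrFun (congrArg Subtype.val hx) i
      simp only [T, LinearMap.codRestrict_apply, LinearMap.comp_apply, Submodule.subtype_apply,
        hT₀, if_neg hi] at this
      exact this
    have h0 : (fun j => ((x.1 j : ℚ) : ℝ)) = 0 := by
      apply eq_zero_of_minimal ℓ B hpos hy hmin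
      · intro i hi
        simp [x.2 i hi]
      · intro i hi
        rw [Ar_mulVec_cast, hx' i hi, Rat.cast_zero]
    apply Subtype.ext
    funext i
    have := congrFun h0 i
    simpa using this
  have hTsurj : Function.Surjective T := LinearMap.injective_iff_surjective.mp hTinj
  let ℓF : V := ⟨fun i => if y i = 0 then 0 else ℓ i, fun i hi => by simp [hi]⟩
  obtain ⟨x, hx⟩ := hTsurj ℓF
  have hx' : ∀ i, y i ≠ 0 → ((B + Bᵀ) *ᵥ x.1) i = ℓ i := by
    intro i hi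
    have := congrFun (congrArg Subtype.val hx) i
    simp only [T, LinearMap.codRestrict_apply, LinearMap.comp_apply, Submodule.subtype_apply,
      hT₀, if_neg hi, ℓF] at this
    exact this
  -- the constant
  set c : ℝ := 2 * Q B y / Lr ℓ y with hc
  have hc0 : 0 < c := div_pos (by linarith) hL
  have hfo : ∀ i, y i ≠ 0 → ((Ar B) *ᵥ y) i = c * (ℓ i : ℝ) := by
    intro i hi
    have := first_order ℓ B hpos hy hL i hi
    rw [hc]
    field_simp
    linarith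
  refine ⟨x.1, c⁻¹, inv_pos.mpr hc0, ?_⟩
  have hw : (fun j => ((x.1 j : ℚ) : ℝ)) - c⁻¹ • y = 0 := by
    apply eq_zero_of_minimal ℓ B hpos hy hmin
    · intro i hi
      simp [x.2 i hi, hi]
    · intro i hi
      rw [mulVec_sub, mulVec_smul, Pi.sub_apply, Pi.smul_apply, Ar_mulVec_cast, hx' i hi,
        hfo i hi, smul_eq_mul]
      field_simp
      ring
  exact sub_eq_zero.mp hw



/-- **Main theorem**: the maximum of `ℓ·y/√q(y)` on the punctured orthant is attained at a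
rational point. -/
theorem exists_rat_max (hpos : ∀ y : Fin n → ℝ, (∀ i, 0 ≤ y i) → y ≠ 0 → 0 < Q B y)
    (hℓ : ∃ y : Fin n → ℝ, (∀ i, 0 ≤ y i) ∧ 0 < Lr ℓ y) :
    ∃ x : Fin n → ℚ, (∀ i, 0 ≤ x i) ∧ x ≠ 0 ∧
      ∀ y : Fin n → ℝ, (∀ i, 0 ≤ y i) → y ≠ 0 → f ℓ B y ≤ f ℓ B (fun i => (x i : ℝ)) := by
  obtain ⟨y₁, hy₁, hL₁⟩ := hℓ
  have hy₁0 : y₁ ≠ 0 := by
    intro h0; rw [h0, Lr_zero] at hL₁; exact lt_irrefl _ hL₁
  have hn : 0 < n := by
    rcases Nat.eq_zero_or_pos n with h | h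
    · subst h
      exact absurd (Subsingleton.elim y₁ 0) hy₁0
    · exact h
  obtain ⟨y₀, h1, h2, h3⟩ := exists_max ℓ B hpos hn
  obtain ⟨y, hy, hmin⟩ := exists_min_supp ℓ B ⟨y₀, h1, h2, h3⟩
  have hL : 0 < Lr ℓ y := by
    have hf₁ : 0 < f ℓ B y₁ := div_pos hL₁ (Real.sqrt_pos.mpr (hpos y₁ hy₁ hy₁0))
    have hf : 0 < f ℓ B y := lt_of_lt_of_le hf₁ (hy.2.2 y₁ hy₁ hy₁0)
    unfold f at hf
    have hs : 0 < Real.sqrt (Q B y) := Real.sqrt_pos.mpr (hpos y hy.1 hy.2.1)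
    rcases div_pos_iff.mp hf with h | h
    · exact h.1
    · linarith [h.2]
  obtain ⟨x, c, hc, hxc⟩ := exists_rat_proportional ℓ B hpos hy hL hmin
  refine ⟨x, fun i => ?_, fun h0 => ?_, fun y' h1' h2' => ?_⟩
  · have := congrFun hxc i
    simp only [Pi.smul_apply, smul_eq_mul] at this
    have h : (0 : ℝ) ≤ (x i : ℝ) := by rw [this]; exact mul_nonneg hc.le (hy.1 i)
    exact_mod_cast h
  · apply hy.2.1
    have : c • y = 0 := by
      rw [← hxc, h0]; funext i; simp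
    rcases smul_eq_zero.mp this with h | h
    · exact absurd h hc.ne'
    · exact h
  · rw [hxc, f_smul ℓ B hc]
    exact hy.2.2 y' h1' h2'

end Groth.Agent.R2.H94.RatMax
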