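import Mathlib
import Groth.Agent.R2.H41ResSpec
import Groth.Agent.R2.H41TypeA16
import Groth.Agent.R2.H32TypeAConv

/-!
# PROJ:pres, PkgInst (helper94): coproducts of modules `j_{U!} O_U` form a good class in `Mod O`
-/

set_option autoImplicit false
universe u
open CategoryTheory CategoryTheory.Limits Opposite

namespace Groth.Agent.R2.H94.ResInst

open Groth.Agent.R2.H41.ResSpec Groth.Agent.Lib.Helper17.Hyp Groth.Agent.R2.H41.TypeASpec
open Groth.Agent.R2.H41.TypeA16 Groth.Agent.R2.H32.TypeAConv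

variable {C : Type u} [SmallCategory C] {J : GrothendieckTopology C} (O : Sheaf J CommRingCat.{u})

lemma isFreeSum_of_iso {X Y : ModSite.Mod O} (e : X ≅ Y) (h : IsFreeSum O X) : IsFreeSum O Y := by
  obtain ⟨ι, U, ⟨i⟩⟩ := h
  exact ⟨ι, U, ⟨e.symm ≪≫ i⟩⟩

lemma isFreeSum_of_isZero {X : ModSite.Mod O} (hX : IsZero X) : IsFreeSum O X := by
  have h0 : IsZero (∐ fun j : PEmpty.{u + 1} => ModSite.freeOn O (PEmpty.elim j : C)) := by
    rw [IsZero.iff_id_eq_zero]
    apply Sigma.hom_ext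
    intro j
    exact j.elim
  exact ⟨PEmpty.{u + 1}, PEmpty.elim, ⟨hX.iso h0⟩⟩

lemma isFreeSum_biprod {X Y : ModSite.Mod O} (hX : IsFreeSum O X) (hY : IsFreeSum O Y) :
    IsFreeSum O (X ⊞ Y) := by
  obtain ⟨ι, U, ⟨i⟩⟩ := hX
  obtain ⟨κ, V, ⟨j⟩⟩ := hY
  let f : ι ⊕ κ → ModSite.Mod O := fun z => ModSite.freeOn O (Sum.elim U V z)
  have e : (∐ f) ≅ (∐ fun a => f (.inl a)) ⊞ (∐ fun b => f (.inr b)) := sumIso f
  exact ⟨ι ⊕ κ, Sum.elim U V, ⟨biprod.mapIso i j ≪≫ e.symm⟩⟩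

/-- the index type of all sections of `M` over objects of the site -/
abbrev Idx (M : ModSite.Mod O) : Type u := Σ U : C, ((fr O).obj U ⟶ M)

/-- the canonical cover of `M` by a coproduct of modules `j_{U!} O_U` -/
noncomputable def cov (M : ModSite.Mod O) :
    (∐ fun z : Idx O M => ModSite.freeOn O z.1) ⟶ M :=
  Sigma.desc fun z => (frIso O z.1).inv ≫ z.2

lemma epi_cov (M : ModSite.Mod O) : Epi (cov O M) := by
  have hloc : LocFr J (fr O) := locFr_frModR (ModSite.ringSh O)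
  apply Abelian.epi_of_cokernel_π_eq_zero
  apply hloc.gen
  intro U s
  have h1 : s = ((frIso O U).hom ≫
      Sigma.ι (fun z : Idx O M => ModSite.freeOn O z.1) ⟨U, s⟩) ≫ cov O M := by
    rw [cov, Category.assoc, Sigma.ι_desc, Iso.hom_inv_id_assoc]
  rw [h1, Category.assoc, cokernel.condition, comp_zero]

lemma cover (M : ModSite.Mod O) : ∃ (Q : ModSite.Mod O) (π : Q ⟶ M), IsFreeSum O Q ∧ Epi π :=
  ⟨_, cov O M, ⟨Idx O M, fun z => z.1, ⟨Iso.refl _⟩⟩, epi_cov O M⟩

theorem pkgInst : PkgInst.{u} := by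
  intro C _ J O
  exact { iso := fun e h => isFreeSum_of_iso O e h
          zero := fun _ h => isFreeSum_of_isZero O h
          biprod := fun _ _ hX hY => isFreeSum_biprod O hX hY
          cover := fun M => cover O M }

end Groth.Agent.R2.H94.ResInst
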