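import Mathlib
import Groth.Agent.R2.H41ResSpec

/-!
# PROJ:pres, PkgStep (helper94): factorisation `K ⟶ K' ⟶ T` with `K ⟶ K'` termwise split with
cokernels in `P` and `K' ⟶ T` a termwise epimorphic quasi-isomorphism

Construction: choose `r_T : Q_T ⟶ T` termwise epi with terms in `P` (PkgResZ), `K̃ := K ⊞ Q_T`,
`g̃ := (g, r_T) : K̃ ⟶ T` (termwise epi), `N := ker g̃`, `r : Q ⟶ N` a termwise epi quasi-isomorphism
with terms in `P` (PkgResZ), `ψ := r ≫ ι_N : Q ⟶ K̃`, `K' := mappingCone ψ`, and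
`g' : mappingCone ψ ⟶ mappingCone ι_N ⟶ T` (`mappingCone.map` followed by Mathlib's
`descShortComplex`, both quasi-isomorphisms).
-/

set_option autoImplicit false
universe w v u
open CategoryTheory CategoryTheory.Limits Opposite

namespace Groth.Agent.R2.H94.ResStep

open CochainComplex HomologicalComplex Pretriangulated
open Groth.Agent.R2.H41.ResSpec

variable {𝒜 : Type u} [Category.{v} 𝒜] [Abelian 𝒜]

/-- the map induced on mapping cones by a pair of quasi-isomorphisms is a quasi-isomorphism -/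
lemma quasiIso_mappingCone_map {K₁ L₁ K₂ L₂ : CochainComplex 𝒜 ℤ} (φ₁ : K₁ ⟶ L₁) (φ₂ : K₂ ⟶ L₂)
    (a : K₁ ⟶ K₂) (b : L₁ ⟶ L₂) (comm : φ₁ ≫ b = a ≫ φ₂) (ha : QuasiIso a) (hb : QuasiIso b) :
    QuasiIso (mappingCone.map φ₁ φ₂ a b comm) := by
  letI : HasDerivedCategory 𝒜 := HasDerivedCategory.standard 𝒜
  rw [← DerivedCategory.isIso_Q_map_iff_quasiIso]
  let ψ := DerivedCategory.Q.mapTriangle.map (mappingCone.triangleMap φ₁ φ₂ a b comm)
  have h₁ : IsIso ψ.hom₁ := (DerivedCategory.isIso_Q_map_iff_quasiIso (φ := a)).2 ha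
  have h₂ : IsIso ψ.hom₂ := (DerivedCategory.isIso_Q_map_iff_quasiIso (φ := b)).2 hb
  exact isIso₃_of_isIso₁₂ ψ (DerivedCategory.mappingCone_triangle_distinguished φ₁)
    (DerivedCategory.mappingCone_triangle_distinguished φ₂) h₁ h₂

/-- the terms of a mapping cone -/
noncomputable def coneXIso {Q L : CochainComplex 𝒜 ℤ} (ψ : Q ⟶ L) (j : ℤ) :
    (mappingCone ψ).X j ≅ Q.X (j + 1) ⊞ L.X j where
  hom := biprod.lift ((mappingCone.fst ψ).1.v j (j + 1) rfl)
    ((mappingCone.snd ψ).v j j (add_zero j))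
  inv := biprod.desc ((mappingCone.inl ψ).v (j + 1) j (by omega)) ((mappingCone.inr ψ).f j)
  hom_inv_id := by
    rw [biprod.lift_desc]
    exact mappingCone.id_X ψ j (j + 1) rfl
  inv_hom_id := by
    apply biprod.hom_ext' <;> apply biprod.hom_ext <;> simp

lemma isZero_biprod' {X Y : 𝒜} (hX : IsZero X) (hY : IsZero Y) : IsZero (X ⊞ Y) := by
  rw [IsZero.iff_id_eq_zero]
  apply biprod.hom_ext
  · exact hX.eq_of_tgt _ _
  · exact hY.eq_of_tgt _ _

lemma isStrictlyLE_mappingCone {Q L : CochainComplex 𝒜 ℤ} (ψ : Q ⟶ L) (b : ℤ)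
    [Q.IsStrictlyLE b] [L.IsStrictlyLE b] : (mappingCone ψ).IsStrictlyLE b := by
  rw [isStrictlyLE_iff]
  intro j hj
  exact IsZero.of_iso (isZero_biprod' (Q.isZero_of_isStrictlyLE b (j + 1) (by omega))
    (L.isZero_of_isStrictlyLE b j hj)) (coneXIso ψ j)

lemma isStrictlyLE_biprod (K L : CochainComplex 𝒜 ℤ) (b : ℤ)
    [K.IsStrictlyLE b] [L.IsStrictlyLE b] : (K ⊞ L).IsStrictlyLE b := by
  rw [isStrictlyLE_iff]
  intro j hj
  exact IsZero.of_iso (isZero_biprod' (K.isZero_of_isStrictlyLE b j hj)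
    (L.isZero_of_isStrictlyLE b j hj)) (biprodXIso K L j)

lemma isStrictlyLE_of_mono {N L : CochainComplex 𝒜 ℤ} (ι : N ⟶ L) [Mono ι] (b : ℤ)
    [L.IsStrictlyLE b] : N.IsStrictlyLE b := by
  rw [isStrictlyLE_iff]
  intro j hj
  haveI : Mono (ι.f j) := inferInstance
  exact IsZero.of_mono (ι.f j) (L.isZero_of_isStrictlyLE b j hj)


/-- cokernel of a split mono with explicit complement -/
lemma nonempty_cokernel_iso_of_splitting {A X B : 𝒜} (ι : A ⟶ X) (π : X ⟶ B) (ρ : X ⟶ A)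
    (s : B ⟶ X) (h1 : ι ≫ ρ = 𝟙 A) (h2 : s ≫ π = 𝟙 B) (h3 : ρ ≫ ι + π ≫ s = 𝟙 X) :
    Nonempty (cokernel ι ≅ B) := by
  have w : ι ≫ π = 0 := by
    have key : ι ≫ π = ι ≫ π + ι ≫ π := by
      calc ι ≫ π = ι ≫ (ρ ≫ ι + π ≫ s) ≫ π := by rw [h3, Category.id_comp]
        _ = (ι ≫ ρ) ≫ ι ≫ π + ι ≫ π ≫ (s ≫ π) := by
            simp only [Preadditive.add_comp, Preadditive.comp_add, Category.assoc]
        _ = ι ≫ π + ι ≫ π := by rw [h1, h2, Category.id_comp, Category.comp_id]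
    have h0 : ι ≫ π + 0 = ι ≫ π + ι ≫ π := by rw [add_zero]; exact key
    exact (add_left_cancel h0).symm
  let S : ShortComplex 𝒜 := ShortComplex.mk ι π w
  let sp : S.Splitting := { r := ρ, s := s, f_r := h1, s_g := h2, id := h3 }
  exact ⟨IsColimit.coconePointUniqueUpToIso (colimit.isColimit _) sp.gIsCokernel⟩

theorem pkgStep (hZ : PkgResZ.{v, u}) : PkgStep.{v, u} := by
  intro 𝒜 _ _ P hP b K T _ _ g hK
  -- step 1: a termwise epi `Q_T ⟶ T`
  obtain ⟨QT, rT, hQT_le, hQT_P, -, hrT_epi⟩ := hZ P hP b T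
  haveI := hQT_le
  let Kt : CochainComplex 𝒜 ℤ := K ⊞ QT
  let gt : Kt ⟶ T := biprod.desc g rT
  haveI hKt_le : Kt.IsStrictlyLE b := isStrictlyLE_biprod K QT b
  have hgt_epi : ∀ j, Epi (gt.f j) := by
    intro j
    haveI := hrT_epi j
    have e : (biprod.inr : QT ⟶ Kt).f j ≫ gt.f j = rT.f j := by
      rw [← HomologicalComplex.comp_f, biprod.inr_desc]
    exact epi_of_epi_fac e
  haveI : Epi gt := HomologicalComplex.epi_of_epi_f _ hgt_epi
  -- step 2: the kernel
  let N : CochainComplex 𝒜 ℤ := kernel gt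
  let ιN : N ⟶ Kt := kernel.ι gt
  let S : ShortComplex (CochainComplex 𝒜 ℤ) := ShortComplex.mk ιN gt (kernel.condition gt)
  have hS : S.ShortExact :=
    { exact := ShortComplex.exact_of_f_is_kernel _ (kernelIsKernel gt)
      mono_f := inferInstanceAs (Mono (kernel.ι gt))
      epi_g := inferInstanceAs (Epi gt) }
  haveI hN_le : N.IsStrictlyLE b := isStrictlyLE_of_mono ιN b
  -- step 3: resolve the kernel
  obtain ⟨Q, r, hQ_le, hQ_P, hr_qi, -⟩ := hZ P hP b N
  haveI := hQ_le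
  let ψ : Q ⟶ Kt := r ≫ ιN
  let K' : CochainComplex 𝒜 ℤ := mappingCone ψ
  let i : K ⟶ K' := biprod.inl ≫ mappingCone.inr ψ
  have comm : ψ ≫ 𝟙 Kt = r ≫ ιN := Category.comp_id _
  let m : K' ⟶ mappingCone ιN := mappingCone.map ψ ιN r (𝟙 Kt) comm
  let g' : K' ⟶ T := m ≫ mappingCone.descShortComplex S
  have hinr : mappingCone.inr ψ ≫ g' = gt := by
    change mappingCone.inr ψ ≫ mappingCone.map ψ ιN r (𝟙 Kt) comm ≫
      mappingCone.descShortComplex S = gt
    rw [mappingCone.map, mappingCone.inr_desc_assoc, Category.id_comp]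
    exact mappingCone.inr_descShortComplex S
  refine ⟨K', i, g', isStrictlyLE_mappingCone ψ b, ?_, ?_, ?_, ?_, ?_⟩
  · -- terms in `P`
    intro j
    exact hP.iso (coneXIso ψ j).symm (hP.biprod _ _ (hQ_P _)
      (hP.iso (biprodXIso K QT j).symm (hP.biprod _ _ (hK j) (hQT_P j))))
  · -- factorisation
    change (biprod.inl ≫ mappingCone.inr ψ) ≫ g' = g
    rw [Category.assoc, hinr, biprod.inl_desc]
  · -- quasi-isomorphism
    haveI : QuasiIso m := quasiIso_mappingCone_map ψ ιN r (𝟙 Kt) comm hr_qi inferInstance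
    haveI : QuasiIso (mappingCone.descShortComplex S) := mappingCone.quasiIso_descShortComplex hS
    exact inferInstanceAs (QuasiIso (m ≫ mappingCone.descShortComplex S))
  · -- termwise epi
    intro j
    haveI := hgt_epi j
    have e : (mappingCone.inr ψ).f j ≫ g'.f j = gt.f j := by
      rw [← HomologicalComplex.comp_f, hinr]
    exact epi_of_epi_fac e
  · -- termwise split with cokernel in `P`
    intro j
    let ρ : K'.X j ⟶ K.X j :=
      (mappingCone.snd ψ).v j j (add_zero j) ≫ (biprod.fst : Kt ⟶ K).f j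
    have h1 : i.f j ≫ ρ = 𝟙 (K.X j) := by
      change ((biprod.inl : K ⟶ Kt) ≫ mappingCone.inr ψ).f j ≫
        (mappingCone.snd ψ).v j j (add_zero j) ≫ (biprod.fst : Kt ⟶ K).f j = 𝟙 _
      rw [HomologicalComplex.comp_f, Category.assoc, mappingCone.inr_f_snd_v_assoc,
        ← HomologicalComplex.comp_f, biprod.inl_fst, HomologicalComplex.id_f]
    refine ⟨ρ, h1, ?_⟩
    let π : K'.X j ⟶ Q.X (j + 1) ⊞ QT.X j :=
      biprod.lift ((mappingCone.fst ψ).1.v j (j + 1) rfl)
        ((mappingCone.snd ψ).v j j (add_zero j) ≫ (biprod.snd : Kt ⟶ QT).f j)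
    let s : Q.X (j + 1) ⊞ QT.X j ⟶ K'.X j :=
      biprod.desc ((mappingCone.inl ψ).v (j + 1) j (by omega))
        ((biprod.inr : QT ⟶ Kt).f j ≫ (mappingCone.inr ψ).f j)
    have hsnd : (biprod.inr : QT ⟶ Kt).f j ≫ (biprod.snd : Kt ⟶ QT).f j = 𝟙 _ := by
      rw [← HomologicalComplex.comp_f, biprod.inr_snd, HomologicalComplex.id_f]
    have htot : (biprod.fst : Kt ⟶ K).f j ≫ (biprod.inl : K ⟶ Kt).f j +
        (biprod.snd : Kt ⟶ QT).f j ≫ (biprod.inr : QT ⟶ Kt).f j = 𝟙 (Kt.X j) := by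
      rw [← HomologicalComplex.comp_f, ← HomologicalComplex.comp_f,
        ← HomologicalComplex.add_f_apply, biprod.total, HomologicalComplex.id_f]
    have h2 : s ≫ π = 𝟙 _ := by
      apply biprod.hom_ext' <;> apply biprod.hom_ext
      · simp only [s, π, Category.assoc, biprod.inl_desc_assoc, biprod.lift_fst,
          Category.id_comp, biprod.inl_fst]
        exact mappingCone.inl_v_fst_v ψ (j + 1) j rfl
      · simp only [s, π, Category.assoc, biprod.inl_desc_assoc, biprod.lift_snd,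
          Category.id_comp, biprod.inl_snd]
        rw [mappingCone.inl_v_snd_v_assoc, zero_comp]
      · simp only [s, π, Category.assoc, biprod.inr_desc_assoc, biprod.lift_fst,
          Category.id_comp, biprod.inr_fst]
        rw [mappingCone.inr_f_fst_v, comp_zero]
      · simp only [s, π, Category.assoc, biprod.inr_desc_assoc, biprod.lift_snd,
          Category.id_comp, biprod.inr_snd]
        rw [mappingCone.inr_f_snd_v_assoc, hsnd]
    have h3 : ρ ≫ i.f j + π ≫ s = 𝟙 _ := by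
      change ((mappingCone.snd ψ).v j j (add_zero j) ≫ (biprod.fst : Kt ⟶ K).f j) ≫
        ((biprod.inl : K ⟶ Kt) ≫ mappingCone.inr ψ).f j + π ≫ s = 𝟙 _
      rw [biprod.lift_desc, HomologicalComplex.comp_f]
      have e : ((mappingCone.snd ψ).v j j (add_zero j) ≫ (biprod.fst : Kt ⟶ K).f j) ≫
          (biprod.inl : K ⟶ Kt).f j ≫ (mappingCone.inr ψ).f j +
          ((mappingCone.fst ψ).1.v j (j + 1) rfl ≫ (mappingCone.inl ψ).v (j + 1) j (by omega) +
          ((mappingCone.snd ψ).v j j (add_zero j) ≫ (biprod.snd : Kt ⟶ QT).f j) ≫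
            (biprod.inr : QT ⟶ Kt).f j ≫ (mappingCone.inr ψ).f j) =
          (mappingCone.fst ψ).1.v j (j + 1) rfl ≫ (mappingCone.inl ψ).v (j + 1) j (by omega) +
          (mappingCone.snd ψ).v j j (add_zero j) ≫
            ((biprod.fst : Kt ⟶ K).f j ≫ (biprod.inl : K ⟶ Kt).f j +
              (biprod.snd : Kt ⟶ QT).f j ≫ (biprod.inr : QT ⟶ Kt).f j) ≫
            (mappingCone.inr ψ).f j := by
        simp only [Preadditive.add_comp, Preadditive.comp_add, Category.assoc]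
        abel
      rw [e, htot, Category.id_comp]
      exact mappingCone.id_X ψ j (j + 1) rfl
    obtain ⟨e⟩ := nonempty_cokernel_iso_of_splitting (i.f j) π ρ s h1 h2 h3
    exact hP.iso e.symm (hP.biprod _ _ (hQ_P _) (hQT_P j))

end Groth.Agent.R2.H94.ResStep
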