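import Mathlib
import Groth.Agent.Lib.Helper20SmoothSec

/-!
# helper94: PROJ:smooth-boot, PKG-D

An étale multisection of affine space over `ℤ` meeting a given open of the fibre of
`Spec B[x] → Spec B` over a point.
-/

set_option autoImplicit false
universe u

namespace Groth.Agent.R2.H94.SBD

open Groth.Agent.Lib.Helper20.EtResExt Groth.Agent.Lib.Helper20.SmoothSec

/-- Lifting finitely many elements of a finite separable extension of the residue field at `p` to an
étale algebra (extracted from `Helper20.SmoothSec.exists_etale_eval_notMem`). -/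
theorem exists_etale_lift_points {R : Type u} [CommRing R] (p : Ideal R) [p.IsPrime]
    (L : Type u) [Field L] [Algebra p.ResidueField L] [FiniteDimensional p.ResidueField L]
    [Algebra.IsSeparable p.ResidueField L] (n : ℕ) (a : Fin n → L) :
    ∃ (R' : Type u) (_ : CommRing R') (_ : Algebra R R') (_ : Algebra.Etale R R')
      (ψ : R' →+* L) (r : Fin n → R'),
      ψ.comp (algebraMap R R') =
        (algebraMap p.ResidueField L).comp (algebraMap R p.ResidueField) ∧ ∀ i, ψ (r i) = a i := by
  obtain ⟨A₁, _, _, hA₁, p₁, _, hp₁, e, he⟩ := exists_etale_residueField_equiv p L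
  obtain ⟨⟨d, hd⟩, hint⟩ := IsLocalization.exist_integer_multiples_of_finite
    (nonZeroDivisors (A₁ ⧸ p₁)) (fun i => e.symm (a i))
  choose m' hm' using hint
  obtain ⟨c, rfl⟩ := Ideal.Quotient.mk_surjective d
  have hm : ∀ i, ∃ m : A₁, Ideal.Quotient.mk p₁ m = m' i := fun i => Ideal.Quotient.mk_surjective _
  choose m hm using hm
  have hd0 : algebraMap (A₁ ⧸ p₁) p₁.ResidueField (Ideal.Quotient.mk p₁ c) ≠ 0 := by
    rw [Ne, map_eq_zero_iff _ (IsFractionRing.injective (A₁ ⧸ p₁) p₁.ResidueField)]
    exact nonZeroDivisors.ne_zero hd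
  let ψ₁ : A₁ →+* L := (e : p₁.ResidueField →+* L).comp (algebraMap A₁ p₁.ResidueField)
  have hψ₁c : ψ₁ c ≠ 0 := by
    change e (algebraMap A₁ p₁.ResidueField c) ≠ 0
    rw [Ne, map_eq_zero_iff _ e.injective, ← Ideal.algebraMap_quotient_residueField_mk]
    exact hd0
  have hunit : IsUnit (ψ₁ c) := hψ₁c.isUnit
  let ψ : Localization.Away c →+* L := IsLocalization.Away.lift c hunit
  have hψ : ∀ y : A₁, ψ (algebraMap A₁ (Localization.Away c) y) = ψ₁ y :=
    fun y => IsLocalization.Away.lift_eq c hunit y
  have hψR : ψ.comp (algebraMap R (Localization.Away c)) =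
      (algebraMap p.ResidueField L).comp (algebraMap R p.ResidueField) := by
    ext x
    rw [RingHom.comp_apply, RingHom.comp_apply,
      IsScalarTower.algebraMap_apply R A₁ (Localization.Away c), hψ]
    change e (algebraMap A₁ p₁.ResidueField (algebraMap R A₁ x)) = _
    rw [← he, RingHom.comp_apply, Ideal.ResidueField.map_algebraMap]
    rfl
  refine ⟨Localization.Away c, inferInstance, inferInstance, inferInstance, ψ,
    fun i => IsLocalization.mk' (Localization.Away c) (m i)
      (⟨c, Submonoid.mem_powers c⟩ : Submonoid.powers c), hψR, ?_⟩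
  intro i
  have h1 : ψ (IsLocalization.mk' (Localization.Away c) (m i)
      (⟨c, Submonoid.mem_powers c⟩ : Submonoid.powers c)) * ψ₁ c = ψ₁ (m i) := by
    rw [← hψ c, ← map_mul, ← hψ (m i)]
    congr 1
    exact IsLocalization.mk'_spec _ _ _
  have h2 : ψ₁ (m i) = a i * ψ₁ c := by
    change e (algebraMap A₁ p₁.ResidueField (m i)) = a i * e (algebraMap A₁ p₁.ResidueField c)
    rw [← Ideal.algebraMap_quotient_residueField_mk, ← Ideal.algebraMap_quotient_residueField_mk,
      hm i, hm' i, Algebra.smul_def, map_mul, RingEquiv.apply_symm_apply, mul_comm]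
  rw [h2] at h1
  exact mul_right_cancel₀ hψ₁c h1

/-- Étale-ness over `ℤ` does not depend on the `ℤ`-algebra structure and passes to `ULift`. -/
theorem etale_int_ulift (A : Type) [CommRing A] (inst : Algebra ℤ A)
    (h : @Algebra.Etale ℤ A _ _ inst) :
    @Algebra.Etale ℤ (ULift.{u} A) _ _ (Ring.toIntAlgebra _) := by
  obtain rfl : inst = Ring.toIntAlgebra A := Subsingleton.elim _ _
  letI : Algebra ℤ (ULift.{u} A) := Ring.toIntAlgebra _
  have e : A ≃ₐ[ℤ] ULift.{u} A :=
    { (ULift.ringEquiv (R := A)).symm with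
      commutes' := fun z => by simp }
  exact Algebra.Etale.of_equiv e

theorem pkgD {B : Type u} [CommRing B] (n : ℕ) (O : Set (PrimeSpectrum (MvPolynomial (Fin n) B)))
    (hO : IsOpen O) (o₀ : PrimeSpectrum (MvPolynomial (Fin n) B)) (ho₀ : o₀ ∈ O) :
    ∃ (A' : Type u) (_ : CommRing A') (_ : Algebra.Etale ℤ A') (r : Fin n → A')
      (y : PrimeSpectrum A') (o : PrimeSpectrum (MvPolynomial (Fin n) B)), o ∈ O ∧
      o.comap (MvPolynomial.C : B →+* MvPolynomial (Fin n) B) =
        o₀.comap (MvPolynomial.C : B →+* MvPolynomial (Fin n) B) ∧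
      o.comap (MvPolynomial.map (Int.castRingHom B)) =
        y.comap (MvPolynomial.aeval r : MvPolynomial (Fin n) ℤ →ₐ[ℤ] A').toRingHom := by
  classical
  obtain ⟨_, ⟨P, rfl⟩, ho₀P, hPsub⟩ :=
    PrimeSpectrum.isTopologicalBasis_basic_opens.exists_subset_of_mem_open ho₀ hO
  -- the point of `Spec B` and its residue field
  let u : Ideal B := o₀.asIdeal.comap (MvPolynomial.C : B →+* MvPolynomial (Fin n) B)
  have hu : u.IsPrime := Ideal.comap_isPrime _ _
  let K := u.ResidueField
  let Ω := AlgebraicClosure K
  let β : B →+* Ω := (algebraMap K Ω).comp (algebraMap B K)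
  have hβker : RingHom.ker β = u := by
    ext b
    rw [RingHom.mem_ker, RingHom.comp_apply, map_eq_zero_iff _ (algebraMap K Ω).injective,
      Ideal.algebraMap_residueField_eq_zero]
  -- the prime of `ℤ` below and its residue field
  let p : Ideal ℤ := u.comap (Int.castRingHom B)
  have hp : p.IsPrime := Ideal.comap_isPrime _ _
  let k := p.ResidueField
  letI algkΩ : Algebra k Ω :=
    ((algebraMap K Ω).comp (Ideal.ResidueField.map p u (Int.castRingHom B) rfl)).toAlgebra
  let ks := SeparableClosure k
  have : Infinite ks := infinite_of_isSepClosed ks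
  let ι : ks →ₐ[k] Ω := IsAlgClosed.lift
  -- `P` does not vanish in the fibre
  have hF : MvPolynomial.map β P ≠ 0 := by
    intro h0
    apply ho₀P
    have h1 : P ∈ Ideal.map MvPolynomial.C u := by
      rw [MvPolynomial.mem_map_C_iff]
      intro m
      have := congrArg (MvPolynomial.coeff m) h0
      rw [MvPolynomial.coeff_map, MvPolynomial.coeff_zero] at this
      rw [← hβker, RingHom.mem_ker]
      exact this
    have h2 : Ideal.map MvPolynomial.C u ≤ o₀.asIdeal := by
      rw [Ideal.map_le_iff_le_comap]
    exact h2 h1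
  -- a separable point where `P` does not vanish
  obtain ⟨x, hx, hxP⟩ : ∃ x ∈ Set.pi Set.univ (fun _ : Fin n => Set.range ι),
      MvPolynomial.eval x (MvPolynomial.map β P) ≠ 0 := by
    by_contra hcon
    push Not at hcon
    apply hF
    refine MvPolynomial.funext_set (fun _ : Fin n => Set.range ι)
      (fun _ => Set.infinite_range_of_injective ι.injective) ?_
    intro x hx
    rw [hcon x hx, map_zero]
  have hx' : ∀ i, ∃ a' : ks, ι a' = x i := fun i => hx i (Set.mem_univ i)
  choose a' ha' using hx'
  let L := IntermediateField.adjoin k (Set.range a')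
  have hfd : FiniteDimensional k L :=
    IntermediateField.finiteDimensional_adjoin (fun x _ => Algebra.IsIntegral.isIntegral x)
  have hsep : Algebra.IsSeparable k L := inferInstance
  let a : Fin n → L := fun i => ⟨a' i, IntermediateField.subset_adjoin k _ ⟨i, rfl⟩⟩
  obtain ⟨R', _, instR', hR', ψ, r, -, hr⟩ := exists_etale_lift_points p L n a
  have hEt : @Algebra.Etale ℤ (ULift.{u} R') _ _ (Ring.toIntAlgebra _) :=
    etale_int_ulift R' instR' hR'
  clear hR'
  clear instR'
  -- the two maps to `Ω`
  let α : ULift.{u} R' →+* Ω :=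
    (ι : ks →+* Ω).comp ((algebraMap L ks).comp (ψ.comp (ULift.ringEquiv (R := R')).toRingHom))
  let γ : MvPolynomial (Fin n) B →+* Ω := MvPolynomial.eval₂Hom β x
  refine ⟨ULift.{u} R', inferInstance, hEt, fun i => ULift.up (r i),
    ⟨RingHom.ker α, RingHom.ker_isPrime α⟩, ⟨RingHom.ker γ, RingHom.ker_isPrime γ⟩, ?_, ?_, ?_⟩
  · apply hPsub
    change P ∉ RingHom.ker γ
    rw [RingHom.mem_ker]
    rw [MvPolynomial.eval_map] at hxP
    exact hxP
  · apply PrimeSpectrum.ext
    change (RingHom.ker γ).comap MvPolynomial.C = u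
    have hγC : γ.comp MvPolynomial.C = β := by
      ext b
      simp [γ]
    rw [RingHom.comap_ker, hγC]
    exact hβker
  · apply PrimeSpectrum.ext
    change (RingHom.ker γ).comap (MvPolynomial.map (Int.castRingHom B)) =
      (RingHom.ker α).comap (MvPolynomial.aeval fun i => ULift.up (r i)).toRingHom
    rw [RingHom.comap_ker, RingHom.comap_ker]
    congr 1
    apply MvPolynomial.ringHom_ext
    · intro z
      simp
    · intro i
      have h1 : α (ULift.up (r i)) = x i := by
        change ι (algebraMap L ks (ψ (r i))) = x i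
        rw [hr i]
        exact ha' i
      simp [γ, h1]

/-- PKG-D, restated over a general base ring (post #2084 of PROJ:smooth-boot). -/
theorem pkgD_gen {A B : Type u} [CommRing A] [CommRing B] (φ : A →+* B) (n : ℕ)
    (O : Set (PrimeSpectrum (MvPolynomial (Fin n) B))) (hO : IsOpen O)
    (o₀ : PrimeSpectrum (MvPolynomial (Fin n) B)) (ho₀ : o₀ ∈ O) :
    ∃ (A' : Type u) (_ : CommRing A') (ψ : A →+* A') (_ : ψ.Etale) (r : Fin n → A')
      (y : PrimeSpectrum A') (o : PrimeSpectrum (MvPolynomial (Fin n) B)), o ∈ O ∧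
      o.comap (MvPolynomial.C : B →+* MvPolynomial (Fin n) B) =
        o₀.comap (MvPolynomial.C : B →+* MvPolynomial (Fin n) B) ∧
      o.comap (MvPolynomial.map φ) = y.comap (MvPolynomial.eval₂Hom ψ r) := by
  classical
  obtain ⟨_, ⟨P, rfl⟩, ho₀P, hPsub⟩ :=
    PrimeSpectrum.isTopologicalBasis_basic_opens.exists_subset_of_mem_open ho₀ hO
  -- the point of `Spec B` and its residue field
  let u : Ideal B := o₀.asIdeal.comap (MvPolynomial.C : B →+* MvPolynomial (Fin n) B)
  have hu : u.IsPrime := Ideal.comap_isPrime _ _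
  let K := u.ResidueField
  let Ω := AlgebraicClosure K
  let β : B →+* Ω := (algebraMap K Ω).comp (algebraMap B K)
  have hβker : RingHom.ker β = u := by
    ext b
    rw [RingHom.mem_ker, RingHom.comp_apply, map_eq_zero_iff _ (algebraMap K Ω).injective,
      Ideal.algebraMap_residueField_eq_zero]
  -- the prime of `A` below and its residue field
  let p : Ideal A := u.comap φ
  have hp : p.IsPrime := Ideal.comap_isPrime _ _
  let k := p.ResidueField
  letI algkΩ : Algebra k Ω :=
    ((algebraMap K Ω).comp (Ideal.ResidueField.map p u φ rfl)).toAlgebra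
  have halg : ∀ z : k, algebraMap k Ω z =
      algebraMap K Ω (Ideal.ResidueField.map p u φ rfl z) := fun _ => rfl
  let ks := SeparableClosure k
  have : Infinite ks := infinite_of_isSepClosed ks
  let ι : ks →ₐ[k] Ω := IsAlgClosed.lift
  -- `P` does not vanish in the fibre
  have hF : MvPolynomial.map β P ≠ 0 := by
    intro h0
    apply ho₀P
    have h1 : P ∈ Ideal.map MvPolynomial.C u := by
      rw [MvPolynomial.mem_map_C_iff]
      intro m
      have := congrArg (MvPolynomial.coeff m) h0
      rw [MvPolynomial.coeff_map, MvPolynomial.coeff_zero] at this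
      rw [← hβker, RingHom.mem_ker]
      exact this
    have h2 : Ideal.map MvPolynomial.C u ≤ o₀.asIdeal := by
      rw [Ideal.map_le_iff_le_comap]
    exact h2 h1
  -- a separable point where `P` does not vanish
  obtain ⟨x, hx, hxP⟩ : ∃ x ∈ Set.pi Set.univ (fun _ : Fin n => Set.range ι),
      MvPolynomial.eval x (MvPolynomial.map β P) ≠ 0 := by
    by_contra hcon
    push Not at hcon
    apply hF
    refine MvPolynomial.funext_set (fun _ : Fin n => Set.range ι)
      (fun _ => Set.infinite_range_of_injective ι.injective) ?_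
    intro x hx
    rw [hcon x hx, map_zero]
  have hx' : ∀ i, ∃ a' : ks, ι a' = x i := fun i => hx i (Set.mem_univ i)
  choose a' ha' using hx'
  let L := IntermediateField.adjoin k (Set.range a')
  have hfd : FiniteDimensional k L :=
    IntermediateField.finiteDimensional_adjoin (fun x _ => Algebra.IsIntegral.isIntegral x)
  have hsep : Algebra.IsSeparable k L := inferInstance
  let a : Fin n → L := fun i => ⟨a' i, IntermediateField.subset_adjoin k _ ⟨i, rfl⟩⟩
  obtain ⟨R', _, instR', hR', ψ, r, hψ, hr⟩ := exists_etale_lift_points p L n a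
  -- the two maps to `Ω`
  let α : R' →+* Ω := (ι : ks →+* Ω).comp ((algebraMap L ks).comp ψ)
  let γ : MvPolynomial (Fin n) B →+* Ω := MvPolynomial.eval₂Hom β x
  refine ⟨R', inferInstance, algebraMap A R', RingHom.etale_algebraMap.mpr hR', r,
    ⟨RingHom.ker α, RingHom.ker_isPrime α⟩, ⟨RingHom.ker γ, RingHom.ker_isPrime γ⟩, ?_, ?_, ?_⟩
  · apply hPsub
    change P ∉ RingHom.ker γ
    rw [RingHom.mem_ker]
    rw [MvPolynomial.eval_map] at hxP
    exact hxP
  · apply PrimeSpectrum.ext
    change (RingHom.ker γ).comap MvPolynomial.C = u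
    have hγC : γ.comp MvPolynomial.C = β := by
      ext b
      simp [γ]
    rw [RingHom.comap_ker, hγC]
    exact hβker
  · apply PrimeSpectrum.ext
    change (RingHom.ker γ).comap (MvPolynomial.map φ) =
      (RingHom.ker α).comap (MvPolynomial.eval₂Hom (algebraMap A R') r)
    rw [RingHom.comap_ker, RingHom.comap_ker]
    congr 1
    apply MvPolynomial.ringHom_ext
    · intro z
      have h1 : α (algebraMap A R' z) = β (φ z) := by
        change ι (algebraMap L ks (ψ (algebraMap A R' z))) = _
        have h2 : ψ (algebraMap A R' z) = algebraMap k L (algebraMap A k z) :=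
          congrArg (fun t => t z) hψ
        rw [h2, ← IsScalarTower.algebraMap_apply k L ks, AlgHom.commutes, halg,
          Ideal.ResidueField.map_algebraMap]
        rfl
      simp [γ, h1]
    · intro i
      have h1 : α (r i) = x i := by
        change ι (algebraMap L ks (ψ (r i))) = x i
        rw [hr i]
        exact ha' i
      simp [γ, h1]

end Groth.Agent.R2.H94.SBD
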