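import Mathlib

/-!
# Seidenberg's theorem (helper94)

A derivation of a noetherian `ℚ`-algebra `A` extends to the integral closure of `A` in its total
ring of fractions.
-/

set_option autoImplicit false
set_option linter.unusedSectionVars false
universe u
open PowerSeries Finset Nat TensorProduct

namespace Groth.Agent.R2.H94.Seidenberg


variable {A Q : Type u} [CommRing A] [CommRing Q] [Algebra A Q]

/-- if `c • A[x] ⊆ A` inside `Q` for a regular `c` and `A` is noetherian, then `x` is integral. -/
lemma isIntegral_of_mul_pow_mem [IsNoetherianRing A] (c : A) (hc : IsSMulRegular Q (algebraMap A Q c))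
    (x : Q) (h : ∀ m : ℕ, ∃ a : A, algebraMap A Q a = algebraMap A Q c * x ^ m) : IsIntegral A x := by
  classical
  set S := Algebra.adjoin A {x} with hS
  refine IsIntegral.of_mem_of_fg S ?_ x (Algebra.subset_adjoin rfl)
  -- multiplication by `c` maps `S` into the image of `A`
  let μ : Q →ₗ[A] Q := LinearMap.mulLeft A (algebraMap A Q c)
  have hμ : Function.Injective μ := fun a b hab => hc hab
  have hle : S.toSubmodule.map μ ≤ LinearMap.range (Algebra.linearMap A Q) := by
    rw [Submodule.map_le_iff_le_comap]
    rw [hS, Algebra.adjoin_eq_span]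
    refine Submodule.span_le.mpr ?_
    intro y hy
    obtain ⟨m, rfl⟩ := Submonoid.mem_closure_singleton.mp hy
    obtain ⟨a, ha⟩ := h m
    exact ⟨a, by simpa [μ] using ha⟩
  have hfg : (S.toSubmodule.map μ).FG := by
    haveI : IsNoetherian A (LinearMap.range (Algebra.linearMap A Q)) :=
      isNoetherian_range (Algebra.linearMap A Q)
    have := isNoetherian_def.mp ‹IsNoetherian A (LinearMap.range (Algebra.linearMap A Q))›
      ((S.toSubmodule.map μ).comap (LinearMap.range (Algebra.linearMap A Q)).subtype)
    have h2 := this.map (LinearMap.range (Algebra.linearMap A Q)).subtype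
    rwa [Submodule.map_comap_subtype, inf_of_le_right hle] at h2
  exact Submodule.fg_of_fg_map_injective μ hμ hfg


variable (A) in
/-- `G ∈ A[[t]]` has a regular constant term and `G f^m ∈ A[[t]]` for all `m`. -/
def Good (f : PowerSeries Q) (G : PowerSeries A) : Prop :=
  IsSMulRegular Q (algebraMap A Q (constantCoeff G)) ∧
    ∀ m : ℕ, ∃ H : PowerSeries A,
      PowerSeries.map (algebraMap A Q) H = PowerSeries.map (algebraMap A Q) G * f ^ m

/-- the shift of a power series: `(f - f₀)/t`. -/
noncomputable def shiftPS {S : Type u} [CommRing S] (f : PowerSeries S) : PowerSeries S :=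
  PowerSeries.mk fun n => coeff (n + 1) f

lemma eq_C_add_X_mul_shiftPS {S : Type u} [CommRing S] (f : PowerSeries S) :
    f = C (constantCoeff f) + X * shiftPS f := by
  rw [add_comm]
  exact PowerSeries.eq_X_mul_shift_add_const f

lemma constantCoeff_map' {R S : Type u} [CommRing R] [CommRing S] (g : R →+* S) (p : PowerSeries R) :
    constantCoeff (PowerSeries.map g p) = g (constantCoeff p) := by
  rw [← PowerSeries.coeff_zero_eq_constantCoeff_apply, PowerSeries.coeff_map,
    PowerSeries.coeff_zero_eq_constantCoeff_apply]

lemma Good.isIntegral_constantCoeff [IsNoetherianRing A] {f : PowerSeries Q} {G : PowerSeries A}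
    (h : Good A f G) : IsIntegral A (constantCoeff f) := by
  refine isIntegral_of_mul_pow_mem (constantCoeff G) h.1 _ ?_
  intro m
  obtain ⟨H, hH⟩ := h.2 m
  refine ⟨constantCoeff H, ?_⟩
  have := congrArg constantCoeff hH
  rw [map_mul, map_pow, constantCoeff_map', constantCoeff_map'] at this
  exact this

lemma Good.shift {f : PowerSeries Q} {G : PowerSeries A} (h : Good A f G) :
    Good A (shiftPS f) (C (constantCoeff G) * G) := by
  classical
  set ι := algebraMap A Q with hι
  set c₀ := constantCoeff G with hc₀
  set f₀ := constantCoeff f with hf₀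
  choose H hH using h.2
  have ha : ∀ j, ι (constantCoeff (H j)) = ι c₀ * f₀ ^ j := by
    intro j
    have := congrArg constantCoeff (hH j)
    rw [map_mul, map_pow, constantCoeff_map', constantCoeff_map'] at this
    exact this
  refine ⟨?_, ?_⟩
  · have : constantCoeff (C c₀ * G) = c₀ * c₀ := by simp [hc₀]
    rw [this, map_mul]
    exact h.1.mul h.1
  · intro m
    -- the candidate
    let H'' : PowerSeries A := ∑ i ∈ Finset.range (m + 1),
      H i * C ((-1) ^ (m - i) * constantCoeff (H (m - i))) * C ((m.choose i : ℕ) : A)
    refine ⟨PowerSeries.mk fun n => coeff (n + m) H'', ?_⟩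
    have key : X ^ m * (PowerSeries.map ι (C c₀ * G) * shiftPS f ^ m) = PowerSeries.map ι H'' := by
      have h1 : X * shiftPS f = f - C f₀ := by
        have := eq_C_add_X_mul_shiftPS f
        rw [eq_sub_iff_add_eq, add_comm]
        exact this.symm
      have h2 : X ^ m * (PowerSeries.map ι (C c₀ * G) * shiftPS f ^ m) =
          C (ι c₀) * PowerSeries.map ι G * (f - C f₀) ^ m := by
        rw [← h1, mul_pow, map_mul, PowerSeries.map_C]
        ring
      rw [h2, sub_eq_add_neg, add_pow, Finset.mul_sum, map_sum]
      refine Finset.sum_congr rfl fun i hi => ?_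
      rw [map_mul, map_mul, hH i, PowerSeries.map_C, PowerSeries.map_C, map_mul, map_pow, map_neg,
        map_one, ha (m - i), map_natCast]
      have : (-C f₀ : PowerSeries Q) ^ (m - i) = C ((-1) ^ (m - i) * f₀ ^ (m - i)) := by
        rw [neg_pow, map_mul, map_pow, map_pow, map_neg, map_one]
      rw [this]
      simp only [map_mul, map_pow, map_neg, map_one, map_natCast]
      ring
    ext n
    have h3 := congrArg (coeff (n + m)) key
    rw [PowerSeries.coeff_X_pow_mul] at h3
    rw [h3, PowerSeries.coeff_map, PowerSeries.coeff_map, PowerSeries.coeff_mk]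

theorem Good.isIntegral_coeff [IsNoetherianRing A] (n : ℕ) : ∀ {f : PowerSeries Q} {G : PowerSeries A},
    Good A f G → IsIntegral A (coeff n f) := by
  induction n with
  | zero =>
    intro f G h
    rw [PowerSeries.coeff_zero_eq_constantCoeff_apply]
    exact h.isIntegral_constantCoeff
  | succ n ih =>
    intro f G h
    have := ih h.shift
    rwa [shiftPS, PowerSeries.coeff_mk] at this



section exp

variable {k Q : Type u} [Field k] [CharZero k] [CommRing Q] [Algebra k Q]

/-- The general Leibniz rule. -/
theorem iterate_apply_mul (D : Derivation k Q Q) (n : ℕ) (a b : Q) :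
    D^[n] (a * b) = ∑ ij ∈ antidiagonal n, choose n ij.1 • (D^[ij.1] a * D^[ij.2] b) := by
  induction n with
  | zero => simp
  | succ n ih =>
    rw [sum_antidiagonal_choose_succ_nsmul (M := Q) (fun i j => D^[i] a * D^[j] b) n]
    simp only [Function.iterate_succ_apply', ih, map_sum, map_nsmul, Derivation.leibniz, smul_add,
      sum_add_distrib]
    congr 1
    refine sum_congr rfl fun ⟨i, j⟩ hij ↦ ?_
    rw [n.choose_symm_of_eq_add (mem_antidiagonal.1 hij).symm]
    simp only [smul_eq_mul, mul_comm]

/-- `exp(tD)` as a map `Q → Q[[t]]`. -/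
noncomputable def expD (D : Derivation k Q Q) (q : Q) : PowerSeries Q :=
  PowerSeries.mk fun n => ((n.factorial : k)⁻¹) • D^[n] q

lemma coeff_expD (D : Derivation k Q Q) (q : Q) (n : ℕ) :
    coeff n (expD D q) = ((n.factorial : k)⁻¹) • D^[n] q := by
  rw [expD, PowerSeries.coeff_mk]

lemma iterate_one (D : Derivation k Q Q) (n : ℕ) (hn : n ≠ 0) : D^[n] (1 : Q) = 0 := by
  obtain ⟨m, rfl⟩ := Nat.exists_eq_succ_of_ne_zero hn
  rw [Function.iterate_succ_apply, Derivation.map_one_eq_zero]
  clear hn
  induction m with
  | zero => rfl
  | succ m ih => rw [Function.iterate_succ_apply', ih, map_zero]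

lemma expD_one (D : Derivation k Q Q) : expD D 1 = 1 := by
  ext n
  rw [coeff_expD, PowerSeries.coeff_one]
  split_ifs with h
  · subst h; simp
  · rw [iterate_one D n h, smul_zero]

lemma expD_mul (D : Derivation k Q Q) (a b : Q) : expD D (a * b) = expD D a * expD D b := by
  ext n
  rw [coeff_expD, PowerSeries.coeff_mul, iterate_apply_mul, Finset.smul_sum]
  refine sum_congr rfl fun ⟨i, j⟩ hij ↦ ?_
  rw [coeff_expD, coeff_expD, smul_mul_smul_comm]
  have hn : n = i + j := (mem_antidiagonal.1 hij).symm
  subst hn
  rw [← Nat.cast_smul_eq_nsmul k, smul_smul]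
  congr 1
  have h1 : ((i + j).choose i : k) * (i.factorial : k) * (j.factorial : k) = ((i + j).factorial : k) := by
    have := Nat.add_choose_mul_factorial_mul_factorial j i
    rw [add_comm j i] at this
    have h2 : (i + j).choose i * i.factorial * j.factorial = (i + j).factorial := by
      rw [← this]; ring
    exact_mod_cast h2
  have hi : (i.factorial : k) ≠ 0 := Nat.cast_ne_zero.mpr (Nat.factorial_ne_zero i)
  have hj : (j.factorial : k) ≠ 0 := Nat.cast_ne_zero.mpr (Nat.factorial_ne_zero j)
  have hij' : ((i + j).factorial : k) ≠ 0 := Nat.cast_ne_zero.mpr (Nat.factorial_ne_zero _)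
  field_simp
  exact h1

lemma expD_pow (D : Derivation k Q Q) (a : Q) (m : ℕ) : expD D (a ^ m) = expD D a ^ m := by
  induction m with
  | zero => rw [pow_zero, pow_zero, expD_one]
  | succ m ih => rw [pow_succ, pow_succ, expD_mul, ih]

end exp



section ext

variable {k A : Type u} [Field k] [CommRing A] [Algebra k A]

/-- extension of a derivation to the total ring of fractions -/
noncomputable def extendD (D : Derivation k A A) : Derivation k (FractionRing A) (FractionRing A) :=
  haveI : Algebra.FormallyEtale A (FractionRing A) :=
    Algebra.FormallyEtale.of_isLocalization (nonZeroDivisors A)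
  let e := KaehlerDifferential.tensorKaehlerEquivOfFormallyEtale k A (FractionRing A)
  let ℓ : Ω[A⁄k] →ₗ[A] FractionRing A :=
    (Algebra.linearMap A (FractionRing A)).comp D.liftKaehlerDifferential
  let ℓQ : FractionRing A ⊗[A] Ω[A⁄k] →ₗ[FractionRing A] FractionRing A :=
    LinearMap.liftBaseChange (FractionRing A) ℓ
  (ℓQ.comp e.symm.toLinearMap).compDer (KaehlerDifferential.D k (FractionRing A))

lemma extendD_algebraMap (D : Derivation k A A) (a : A) :
    extendD D (algebraMap A (FractionRing A) a) = algebraMap A (FractionRing A) (D a) := by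
  haveI : Algebra.FormallyEtale A (FractionRing A) :=
    Algebra.FormallyEtale.of_isLocalization (nonZeroDivisors A)
  change (LinearMap.liftBaseChange (FractionRing A)
    ((Algebra.linearMap A (FractionRing A)).comp D.liftKaehlerDifferential))
    ((KaehlerDifferential.tensorKaehlerEquivOfFormallyEtale k A (FractionRing A)).symm
      (KaehlerDifferential.D k (FractionRing A) (algebraMap A (FractionRing A) a))) = _
  rw [KaehlerDifferential.tensorKaehlerEquivOfFormallyEtale_symm_D_algebraMap,
    LinearMap.liftBaseChange_tmul, one_smul]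
  simp

end ext


section main

variable {k A : Type u} [Field k] [CharZero k] [CommRing A] [Algebra k A]

lemma iterate_extendD_algebraMap (D : Derivation k A A) (n : ℕ) (a : A) :
    (extendD D)^[n] (algebraMap A (FractionRing A) a) = algebraMap A (FractionRing A) (D^[n] a) := by
  induction n with
  | zero => rfl
  | succ n ih => rw [Function.iterate_succ_apply', Function.iterate_succ_apply', ih, extendD_algebraMap]

lemma map_expD (D : Derivation k A A) (a : A) :
    PowerSeries.map (algebraMap A (FractionRing A)) (expD D a) =
      expD (extendD D) (algebraMap A (FractionRing A) a) := by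
  ext n
  rw [PowerSeries.coeff_map, coeff_expD, coeff_expD, iterate_extendD_algebraMap,
    ← IsScalarTower.toAlgHom_apply k A (FractionRing A), map_smul]
  rfl

lemma exists_common_denom (x : FractionRing A) (hx : IsIntegral A x) :
    ∃ c : nonZeroDivisors A, ∀ m : ℕ, ∃ a : A,
      algebraMap A (FractionRing A) a = algebraMap A (FractionRing A) c * x ^ m := by
  classical
  obtain ⟨s, hs⟩ := hx.fg_adjoin_singleton
  obtain ⟨b, hb⟩ := IsLocalization.exist_integer_multiples_of_finset (nonZeroDivisors A) s
  refine ⟨b, fun m => ?_⟩
  have hmem : x ^ m ∈ Submodule.span A (s : Set (FractionRing A)) := by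
    rw [hs]
    exact pow_mem (Algebra.subset_adjoin (R := A) (Set.mem_singleton x)) m
  have hall : ∀ y ∈ Submodule.span A (s : Set (FractionRing A)),
      IsLocalization.IsInteger A ((b : A) • y) := by
    intro y hy
    induction hy using Submodule.span_induction with
    | mem y hy => exact hb y hy
    | zero => rw [smul_zero]; exact IsLocalization.isInteger_zero
    | add y z _ _ hy hz => rw [smul_add]; exact IsLocalization.isInteger_add hy hz
    | smul r y _ hy => rw [smul_comm]; exact IsLocalization.isInteger_smul hy
  obtain ⟨a, ha⟩ := hall _ hmem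
  exact ⟨a, by rw [ha, Algebra.smul_def]⟩

/-- **Seidenberg**: the extension of `D` to the total ring of fractions preserves the integral
closure. -/
theorem isIntegral_extendD [IsNoetherianRing A] (D : Derivation k A A) (x : FractionRing A)
    (hx : IsIntegral A x) : IsIntegral A (extendD D x) := by
  obtain ⟨c, hc⟩ := exists_common_denom x hx
  choose a ha using hc
  have hgood : Good A (expD (extendD D) x) (expD D (c : A)) := by
    refine ⟨?_, fun m => ⟨expD D (a m), ?_⟩⟩
    · have h0 : constantCoeff (expD D (c : A)) = (c : A) := by
        rw [← PowerSeries.coeff_zero_eq_constantCoeff_apply, coeff_expD]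
        simp
      rw [h0]
      have hu : IsUnit (algebraMap A (FractionRing A) (c : A)) :=
        IsLocalization.map_units (FractionRing A) c
      exact hu.isSMulRegular _
    · rw [map_expD, map_expD, ha m, expD_mul, expD_pow]
  have := hgood.isIntegral_coeff 1
  rw [coeff_expD] at this
  simpa using this

end main

end Groth.Agent.R2.H94.Seidenberg
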