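import Mathlib
import Groth.Agent.Lib.Helper7JacCrit

/-!
# Smoothness along a section (helper94, for S19149)
-/

set_option autoImplicit false
namespace Groth.Agent.R2.H94.UnitSec

open Submodule TensorProduct KaehlerDifferential

universe u v w

/-- extend a linear map on `p` vanishing on `p ⊓ p'` to `p ⊔ p'`, by zero on `p'`. -/
lemma exists_extend_sup {R : Type*} {M : Type*} {T : Type*} [Ring R] [AddCommGroup M] [Module R M]
    [AddCommGroup T] [Module R T] (p p' : Submodule R M) (f : p →ₗ[R] T)
    (hf : ∀ x : p, (x : M) ∈ p' → f x = 0) :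
    ∃ g : ↥(p ⊔ p') →ₗ[R] T, (∀ x : ↥(p ⊔ p'), ∀ hx : (x : M) ∈ p, g x = f ⟨x, hx⟩) ∧
      (∀ x : ↥(p ⊔ p'), (x : M) ∈ p' → g x = 0) := by
  have hle : comap p.subtype p ⊓ comap p.subtype p' ≤ LinearMap.ker f := by
    intro x hx
    exact hf x hx.2
  let g : ↥(p ⊔ p') →ₗ[R] T :=
    (liftQ _ f hle) ∘ₗ (LinearMap.quotientInfEquivSupQuotient p p').symm.toLinearMap ∘ₗ
      (comap (p ⊔ p').subtype p').mkQ
  refine ⟨g, ?_, ?_⟩
  · intro x hx
    simp only [g, LinearMap.comp_apply, mkQ_apply, LinearEquiv.coe_coe]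
    rw [LinearMap.quotientInfEquivSupQuotient_symm_apply_left p p' x hx]
    rfl
  · intro x hx
    simp only [g, LinearMap.comp_apply, mkQ_apply, LinearEquiv.coe_coe]
    rw [LinearMap.quotientInfEquivSupQuotient_symm_apply_eq_zero_iff.mpr hx, map_zero]

section

variable {R A : Type u} [CommRing R] [CommRing A] [Algebra R A] (ε : A →ₐ[R] R) (J : Ideal A)
variable {T : Type v} [AddCommGroup T] [Module A T] [Module R T] [IsScalarTower R A T]

omit [Module R T] [IsScalarTower R A T] in
/-- a linear map on `J` into a module killed by `I` vanishes on `I * J`. -/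
lemma map_eq_zero_of_mem_mul (hT : ∀ a ∈ RingHom.ker ε, ∀ t : T, a • t = 0) (Ψ : J →ₗ[A] T)
    (y : A) (hy : y ∈ RingHom.ker ε * J) (hyJ : y ∈ J) : Ψ ⟨y, hyJ⟩ = 0 := by
  have hle : RingHom.ker ε * J ≤ (LinearMap.ker Ψ).map J.subtype := by
    rw [Ideal.mul_le]
    intro i hi j hj
    refine ⟨i • ⟨j, hj⟩, ?_, by simp⟩
    rw [SetLike.mem_coe, LinearMap.mem_ker, map_smul, hT i hi]
  obtain ⟨x, hx, hxy⟩ := hle hy
  have : (⟨y, hyJ⟩ : J) = x := Subtype.ext hxy.symm
  rw [this]
  exact hx


/-- **Key construction.** If `J ∩ I² = IJ` and `I/(J+I²)` is `R`-projective, every `A`-linear map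
`Ψ : J → T` into a module killed by `I` extends to an `R`-derivation `A → T`. -/
theorem exists_derivation (hJI : J ≤ RingHom.ker ε)
    (h2 : J ⊓ RingHom.ker ε ^ 2 = RingHom.ker ε * J)
    (h3 : Module.Projective R (↥(RingHom.ker ε) ⧸
      Submodule.comap (RingHom.ker ε).subtype (J ⊔ RingHom.ker ε ^ 2)))
    (hT : ∀ a ∈ RingHom.ker ε, ∀ t : T, a • t = 0) (Ψ : J →ₗ[A] T) :
    ∃ D : Derivation R A T, ∀ j : J, D j = Ψ j := by
  classical
  -- extension of Ψ to J ⊔ I² by zero
  obtain ⟨g, hg1, hg2⟩ := exists_extend_sup (R := A) (M := A) J (RingHom.ker ε ^ 2) Ψ (by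
    intro x hx
    exact map_eq_zero_of_mem_mul ε J hT Ψ x.1 (h2 ▸ ⟨x.2, hx⟩) x.2)
  -- the R-linear section
  let N' : Submodule A ↥(RingHom.ker ε) :=
    Submodule.comap (RingHom.ker ε).subtype (J ⊔ RingHom.ker ε ^ 2)
  obtain ⟨s, hs⟩ := Module.projective_lifting_property (N'.mkQ.restrictScalars R)
    (LinearMap.id : (↥(RingHom.ker ε) ⧸ N') →ₗ[R] _) (Submodule.mkQ_surjective N')
  have hs' : ∀ z, N'.mkQ (s z) = z := fun z => LinearMap.congr_fun hs z
  have hmem : ∀ x : ↥(RingHom.ker ε), ((x - s (N'.mkQ x) : ↥(RingHom.ker ε)) : A) ∈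
      J ⊔ RingHom.ker ε ^ 2 := by
    intro x
    have : x - s (N'.mkQ x) ∈ N' := by
      rw [← Submodule.Quotient.mk_eq_zero, Submodule.Quotient.mk_sub]
      change N'.mkQ x - N'.mkQ (s (N'.mkQ x)) = 0
      rw [hs', sub_self]
    exact this
  let φ₀ : ↥(RingHom.ker ε) → T := fun x => g ⟨((x - s (N'.mkQ x) : ↥(RingHom.ker ε)) : A), hmem x⟩
  have hφadd : ∀ x y, φ₀ (x + y) = φ₀ x + φ₀ y := by
    intro x y
    simp only [φ₀]
    rw [← map_add]
    congr 1
    apply Subtype.ext
    simp only [map_add, Submodule.coe_add, Submodule.coe_sub]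
    ring
  have hφsmul : ∀ (r : R) x, φ₀ (r • x) = r • φ₀ x := by
    intro r x
    simp only [φ₀]
    rw [← LinearMap.map_smul_of_tower]
    congr 1
    apply Subtype.ext
    simp only [Submodule.coe_sub, Submodule.coe_smul_of_tower, smul_sub]
    rw [LinearMap.map_smul_of_tower, map_smul]
    simp
  have hφN : ∀ (x : ↥(RingHom.ker ε)) (hx : (x : A) ∈ J ⊔ RingHom.ker ε ^ 2),
      φ₀ x = g ⟨x, hx⟩ := by
    intro x hx
    have h0 : N'.mkQ x = 0 := by
      rw [Submodule.mkQ_apply, Submodule.Quotient.mk_eq_zero]; exact hx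
    simp only [φ₀]
    congr 1
    apply Subtype.ext
    simp [h0]
  -- augmentation part
  have hεmem : ∀ a : A, a - algebraMap R A (ε a) ∈ RingHom.ker ε := by
    intro a
    rw [RingHom.mem_ker, map_sub, AlgHom.commutes]
    simp
  let d₀ : A → T := fun a => φ₀ ⟨a - algebraMap R A (ε a), hεmem a⟩
  have hsm : ∀ (a : A) (t : T), a • t = ε a • t := by
    intro a t
    have := hT _ (hεmem a) t
    rw [sub_smul, sub_eq_zero, algebraMap_smul] at this
    exact this
  let D₀ : A →ₗ[R] T :=
    { toFun := d₀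
      map_add' := by
        intro a b
        simp only [d₀]
        rw [← hφadd]
        congr 1
        apply Subtype.ext
        simp only [map_add, Submodule.coe_add]
        ring
      map_smul' := by
        intro r a
        simp only [d₀, RingHom.id_apply]
        rw [← hφsmul]
        congr 1
        apply Subtype.ext
        simp only [map_smul, Submodule.coe_smul_of_tower, smul_sub, smul_eq_mul]
        rw [Algebra.smul_def r (algebraMap R A (ε a)), ← map_mul] }
  refine ⟨Derivation.mk' D₀ ?_, ?_⟩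
  · intro a b
    show d₀ (a * b) = a • d₀ b + b • d₀ a
    rw [hsm a, hsm b]
    simp only [d₀]
    have hprod : (a - algebraMap R A (ε a)) * (b - algebraMap R A (ε b)) ∈ RingHom.ker ε ^ 2 := by
      rw [pow_two]; exact Ideal.mul_mem_mul (hεmem a) (hεmem b)
    have hprodI : (a - algebraMap R A (ε a)) * (b - algebraMap R A (ε b)) ∈ RingHom.ker ε :=
      Ideal.pow_le_self two_ne_zero hprod
    have hdecomp : (⟨a * b - algebraMap R A (ε (a * b)), hεmem (a * b)⟩ : ↥(RingHom.ker ε)) =
        ⟨_, hprodI⟩ + (ε a • ⟨b - algebraMap R A (ε b), hεmem b⟩ +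
          ε b • ⟨a - algebraMap R A (ε a), hεmem a⟩) := by
      apply Subtype.ext
      simp only [map_mul, Submodule.coe_add, Submodule.coe_smul_of_tower, Algebra.smul_def]
      ring
    rw [hdecomp, hφadd, hφadd, hφsmul, hφsmul,
      hφN ⟨_, hprodI⟩ (Ideal.mem_sup_right hprod), hg2 _ hprod, zero_add]
  · intro j
    show d₀ j = Ψ j
    simp only [d₀]
    have hj0 : ε (j : A) = 0 := hJI j.2
    have hjmem : ((⟨(j : A) - algebraMap R A (ε j), hεmem j⟩ : ↥(RingHom.ker ε)) : A) ∈
        J ⊔ RingHom.ker ε ^ 2 := by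
      simp only [hj0, map_zero, sub_zero]
      exact Ideal.mem_sup_left j.2
    rw [hφN _ hjmem, hg1 _ (by simp only [hj0, map_zero, sub_zero]; exact j.2)]
    congr 1
    apply Subtype.ext
    simp [hj0]

end

section X

variable {R A Aq S K : Type*} [CommRing R] [CommRing A] [CommRing Aq] [CommRing S] [Field K]
  [Algebra R A] [Algebra A Aq] [Algebra R Aq] [IsScalarTower R A Aq]
  (M : Submonoid A) [IsLocalization M Aq]
  [Algebra Aq S] [Algebra R S] [IsScalarTower R Aq S]
  [Algebra S K] [Algebra Aq K] [IsScalarTower Aq S K]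
  [Algebra A K] [IsScalarTower A Aq K] [Algebra R K] [IsScalarTower R A K] [IsScalarTower R Aq K]

omit [Algebra R A] [Algebra A Aq] [Algebra R Aq] [IsScalarTower R A Aq] [Algebra Aq S] [Algebra R S]
  [IsScalarTower R Aq S] [Algebra S K] [IsScalarTower Aq S K] [Algebra A K] [IsScalarTower A Aq K]
  [Algebra R K] [IsScalarTower R A K] [IsScalarTower R Aq K] in
/-- elements of `Aq` vanishing in `K` kill `K ⊗[Aq] N`. -/
lemma smul_eq_zero_of_algebraMap_eq_zero {N : Type*} [AddCommGroup N] [Module Aq N]
    (b : Aq) (hb0 : algebraMap Aq K b = 0) (t : K ⊗[Aq] N) : b • t = 0 := by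
  induction t using TensorProduct.induction_on with
  | zero => simp
  | tmul k n => rw [TensorProduct.smul_tmul', Algebra.smul_def, hb0, zero_mul, zero_tmul]
  | add x y hx hy => rw [smul_add, hx, hy, add_zero]

omit [Algebra R S] [IsScalarTower R Aq S] [IsScalarTower R A K] in
include M in
theorem injective_cotangentComplexBaseChange (J : Ideal A)
    (hker : RingHom.ker (algebraMap Aq S) = J.map (algebraMap A Aq))
    (D₀ : Derivation R A (K ⊗[Aq] ↥(RingHom.ker (algebraMap Aq S))))
    (hD : ∀ (j : A) (hj : algebraMap A Aq j ∈ RingHom.ker (algebraMap Aq S)), j ∈ J →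
      D₀ j = (1 : K) ⊗ₜ[Aq] ⟨algebraMap A Aq j, hj⟩) :
    Function.Injective (cotangentComplexBaseChange R S Aq K) := by
  classical
  haveI : Algebra.FormallyEtale A Aq := Algebra.FormallyEtale.of_isLocalization M
  -- extend the derivation to the localization
  let l₁ : Aq ⊗[A] Ω[A⁄R] →ₗ[Aq] (K ⊗[Aq] ↥(RingHom.ker (algebraMap Aq S))) :=
    LinearMap.liftBaseChange Aq D₀.liftKaehlerDifferential
  let l₂ : Ω[Aq⁄R] →ₗ[Aq] (K ⊗[Aq] ↥(RingHom.ker (algebraMap Aq S))) :=
    l₁ ∘ₗ (tensorKaehlerEquivOfFormallyEtale R A Aq).symm.toLinearMap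
  let Dq : Derivation R Aq (K ⊗[Aq] ↥(RingHom.ker (algebraMap Aq S))) := l₂.compDer (D R Aq)
  have hDq : ∀ a : A, Dq (algebraMap A Aq a) = D₀ a := by
    intro a
    show l₁ ((tensorKaehlerEquivOfFormallyEtale R A Aq).symm (D R Aq (algebraMap A Aq a))) = _
    rw [tensorKaehlerEquivOfFormallyEtale_symm_D_algebraMap]
    simp [l₁]
  have hDqker : ∀ (b : Aq) (hb : b ∈ RingHom.ker (algebraMap Aq S)),
      Dq b = (1 : K) ⊗ₜ[Aq] ⟨b, hb⟩ := by
    intro b hb
    have hb' : b ∈ J.map (algebraMap A Aq) := hker ▸ hb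
    obtain ⟨⟨j, s⟩, hjs⟩ := (IsLocalization.mem_map_algebraMap_iff M Aq).mp hb'
    have hjker : algebraMap A Aq j ∈ RingHom.ker (algebraMap Aq S) := by
      rw [← hjs]; exact Ideal.mul_mem_right _ _ hb
    have h1 : Dq (b * algebraMap A Aq s) = algebraMap A Aq s • Dq b := by
      rw [Derivation.leibniz, smul_eq_zero_of_algebraMap_eq_zero b (by
        rw [IsScalarTower.algebraMap_apply Aq S K, (RingHom.mem_ker).mp hb, map_zero]), zero_add]
    have h2 : Dq (b * algebraMap A Aq s) = algebraMap A Aq s • ((1 : K) ⊗ₜ[Aq] ⟨b, hb⟩) := by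
      rw [hjs, hDq, hD j hjker j.2, ← TensorProduct.tmul_smul]
      congr 1
      apply Subtype.ext
      simp only [Submodule.coe_smul, smul_eq_mul]
      rw [← hjs, mul_comm]
    exact (IsLocalization.map_units Aq s).smul_left_cancel.mp (h1.symm.trans h2)
  let L : K ⊗[Aq] Ω[Aq⁄R] →ₗ[K] (K ⊗[Aq] ↥(RingHom.ker (algebraMap Aq S))) :=
    LinearMap.liftBaseChange K Dq.liftKaehlerDifferential
  have hL : ∀ x, L (cotangentComplexBaseChange R S Aq K x) = x := by
    intro x
    induction x using TensorProduct.induction_on with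
    | zero => simp
    | tmul a b =>
      rw [cotangentComplexBaseChange_tmul, map_smul, kerToTensor_apply]
      simp only [L, LinearMap.liftBaseChange_tmul, Derivation.liftKaehlerDifferential_comp_D,
        one_smul]
      rw [hDqker b.1 b.2, TensorProduct.smul_tmul', smul_eq_mul, mul_one]
    | add x y hx hy => rw [map_add, map_add, hx, hy]
  exact Function.LeftInverse.injective hL

end X


section final

open IsLocalRing Groth.Agent.Lib.Helper7.JacCrit

universe u'

theorem formallySmooth_localization_quotient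
    {R A : Type u'} [CommRing R] [CommRing A] [Algebra R A] [Algebra.Smooth R A]
    (ε : A →ₐ[R] R) (J : Ideal A) (hJI : J ≤ RingHom.ker ε) (h1 : J.FG)
    (h2 : J ⊓ RingHom.ker ε ^ 2 = RingHom.ker ε * J)
    (h3 : Module.Projective R (↥(RingHom.ker ε) ⧸
      Submodule.comap (RingHom.ker ε).subtype (J ⊔ RingHom.ker ε ^ 2)))
    (q : Ideal A) [q.IsPrime] (hIq : RingHom.ker ε ≤ q) [(q.map (Ideal.Quotient.mk J)).IsPrime] :
    Algebra.FormallySmooth R (Localization.AtPrime (q.map (Ideal.Quotient.mk J))) := by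
  classical
  have hJq : J ≤ q := hJI.trans hIq
  letI alg : Algebra (Localization.AtPrime q) (Localization.AtPrime (q.map (Ideal.Quotient.mk J))) :=
    (locQuot J q hJq).toAlgebra
  have halg : ∀ z, algebraMap (Localization.AtPrime q)
      (Localization.AtPrime (q.map (Ideal.Quotient.mk J))) z = locQuot J q hJq z := fun _ => rfl
  haveI tower1 : IsScalarTower A (Localization.AtPrime q)
      (Localization.AtPrime (q.map (Ideal.Quotient.mk J))) :=
    IsScalarTower.of_algebraMap_eq fun b => by
      rw [halg, locQuot_algebraMap,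
        IsScalarTower.algebraMap_apply A (A ⧸ J) (Localization.AtPrime (q.map (Ideal.Quotient.mk J)))]
      rfl
  haveI tower2 : IsScalarTower R (Localization.AtPrime q)
      (Localization.AtPrime (q.map (Ideal.Quotient.mk J))) :=
    IsScalarTower.of_algebraMap_eq fun r => by
      rw [IsScalarTower.algebraMap_apply R A (Localization.AtPrime (q.map (Ideal.Quotient.mk J))),
        IsScalarTower.algebraMap_apply R A (Localization.AtPrime q),
        ← IsScalarTower.algebraMap_apply A (Localization.AtPrime q)]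
  haveI : Algebra.FormallySmooth A (Localization.AtPrime q) :=
    Algebra.FormallySmooth.of_isLocalization q.primeCompl
  haveI : Algebra.FormallySmooth R (Localization.AtPrime q) :=
    Algebra.FormallySmooth.comp R A (Localization.AtPrime q)
  haveI : Algebra.EssFiniteType A (Localization.AtPrime q) := .of_isLocalization _ q.primeCompl
  haveI : Algebra.EssFiniteType R (Localization.AtPrime q) := .comp _ A _
  haveI : Module.Free (Localization.AtPrime q) Ω[Localization.AtPrime q⁄R] :=
    Module.free_of_flat_of_isLocalRing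
  haveI : IsScalarTower A (Localization.AtPrime (q.map (Ideal.Quotient.mk J)))
      (ResidueField (Localization.AtPrime (q.map (Ideal.Quotient.mk J)))) :=
    IsScalarTower.of_algebraMap_eq (fun a => rfl)
  haveI : IsScalarTower A (Localization.AtPrime q)
      (ResidueField (Localization.AtPrime (q.map (Ideal.Quotient.mk J)))) :=
    .to₁₂₄ A (Localization.AtPrime q) (Localization.AtPrime (q.map (Ideal.Quotient.mk J))) _
  have hsurj : Function.Surjective (algebraMap (Localization.AtPrime q)
      (Localization.AtPrime (q.map (Ideal.Quotient.mk J)))) := locQuot_surjective J q hJq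
  have hkerEq : RingHom.ker (algebraMap (Localization.AtPrime q)
      (Localization.AtPrime (q.map (Ideal.Quotient.mk J)))) =
      J.map (algebraMap A (Localization.AtPrime q)) := ker_locQuot J q hJq
  have hfg : (RingHom.ker (algebraMap (Localization.AtPrime q)
      (Localization.AtPrime (q.map (Ideal.Quotient.mk J))))).FG := by
    rw [hkerEq]; exact h1.map _
  rw [Algebra.FormallySmooth.iff_injective_cotangentComplexBaseChange (Localization.AtPrime q)
    (ResidueField (Localization.AtPrime (q.map (Ideal.Quotient.mk J)))) hsurj hfg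
    (by rw [← IsLocalRing.ker_residue]; exact le_rfl)]
  haveI : IsScalarTower R A (ResidueField (Localization.AtPrime (q.map (Ideal.Quotient.mk J)))) :=
    IsScalarTower.of_algebraMap_eq (fun r => by
      show residue _ (algebraMap R (Localization.AtPrime (q.map (Ideal.Quotient.mk J))) r) =
        residue _ (algebraMap A (Localization.AtPrime (q.map (Ideal.Quotient.mk J)))
          (algebraMap R A r))
      rw [← IsScalarTower.algebraMap_apply R A])
  haveI : IsScalarTower R (Localization.AtPrime q)
      (ResidueField (Localization.AtPrime (q.map (Ideal.Quotient.mk J)))) :=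
    IsScalarTower.of_algebraMap_eq (fun r => by
      show residue _ (algebraMap R (Localization.AtPrime (q.map (Ideal.Quotient.mk J))) r) =
        residue _ (algebraMap (Localization.AtPrime q)
          (Localization.AtPrime (q.map (Ideal.Quotient.mk J)))
          (algebraMap R (Localization.AtPrime q) r))
      rw [← IsScalarTower.algebraMap_apply R (Localization.AtPrime q)])
  -- the module `T = K ⊗ ker` is killed by `q`
  have hqK : ∀ a ∈ q, algebraMap A
      (ResidueField (Localization.AtPrime (q.map (Ideal.Quotient.mk J)))) a = 0 := by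
    intro a ha
    show residue _ (algebraMap A (Localization.AtPrime (q.map (Ideal.Quotient.mk J))) a) = 0
    rw [residue_eq_zero_iff,
      IsScalarTower.algebraMap_apply A (A ⧸ J) (Localization.AtPrime (q.map (Ideal.Quotient.mk J))),
      IsLocalization.AtPrime.to_map_mem_maximal_iff _ (q.map (Ideal.Quotient.mk J))]
    exact Ideal.mem_map_of_mem _ ha
  have hT : ∀ a ∈ RingHom.ker ε, ∀ t : (ResidueField (Localization.AtPrime
      (q.map (Ideal.Quotient.mk J)))) ⊗[Localization.AtPrime q]
      ↥(RingHom.ker (algebraMap (Localization.AtPrime q)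
        (Localization.AtPrime (q.map (Ideal.Quotient.mk J))))), a • t = 0 := by
    intro a ha t
    rw [← algebraMap_smul (Localization.AtPrime q) a t]
    apply smul_eq_zero_of_algebraMap_eq_zero
    rw [← IsScalarTower.algebraMap_apply A (Localization.AtPrime q)]
    exact hqK a (hIq ha)
  have hJker : ∀ j ∈ J, algebraMap A (Localization.AtPrime q) j ∈
      RingHom.ker (algebraMap (Localization.AtPrime q)
        (Localization.AtPrime (q.map (Ideal.Quotient.mk J)))) := by
    intro j hj
    rw [hkerEq]; exact Ideal.mem_map_of_mem _ hj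
  let Ψ₀ : J →ₗ[A] ↥(RingHom.ker (algebraMap (Localization.AtPrime q)
        (Localization.AtPrime (q.map (Ideal.Quotient.mk J))))) :=
    { toFun := fun j => ⟨algebraMap A (Localization.AtPrime q) j, hJker j j.2⟩
      map_add' := fun x y => Subtype.ext (by simp)
      map_smul' := fun a x => Subtype.ext (by simp [Algebra.smul_def]) }
  let Ψ : J →ₗ[A] (ResidueField (Localization.AtPrime
      (q.map (Ideal.Quotient.mk J)))) ⊗[Localization.AtPrime q]
      ↥(RingHom.ker (algebraMap (Localization.AtPrime q)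
        (Localization.AtPrime (q.map (Ideal.Quotient.mk J))))) :=
    ((TensorProduct.mk (Localization.AtPrime q) (ResidueField (Localization.AtPrime
      (q.map (Ideal.Quotient.mk J)))) _ 1).restrictScalars A) ∘ₗ Ψ₀
  obtain ⟨D₀, hD₀⟩ := exists_derivation ε J hJI h2 h3 hT Ψ
  refine injective_cotangentComplexBaseChange q.primeCompl J hkerEq D₀ ?_
  intro j hj hjJ
  rw [hD₀ ⟨j, hjJ⟩]
  rfl


end final

end Groth.Agent.R2.H94.UnitSec
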