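import Mathlib
import Groth.Prelude.Def_Curves

/-!
# Absolutely integrally closed local domains and locality for Zariski and finite coverings (helper95)
-/

set_option autoImplicit false
universe u

namespace Groth.Agent.R2.H95.AICLocal

open Polynomial

section Algebra

variable {A : Type*} [CommRing A] (hA : Curves.IsAIC A)

include hA in
/-- Over an absolutely integrally closed ring, an element of a domain killed by a monic
polynomial lies in the image of the base ring. -/
theorem mem_range_of_monic_aeval_eq_zero {D : Type*} [CommRing D] [IsDomain D] [Algebra A D]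
    (b : D) : ∀ (n : ℕ) (f : A[X]), f.Monic → f.natDegree = n → aeval b f = 0 →
      b ∈ (algebraMap A D).range := by
  intro n
  induction n with
  | zero =>
    intro f hf hn h0
    rw [hf.natDegree_eq_zero] at hn
    rw [hn, map_one] at h0
    exact absurd h0 one_ne_zero
  | succ n ih =>
    intro f hf hn h0
    have : Nontrivial A := (algebraMap A D).domain_nontrivial
    obtain ⟨r, hr⟩ := hA f hf (by omega)
    have hroot : IsRoot f r := hr
    have hfac := (mul_divByMonic_eq_iff_isRoot (p := f) (a := r)).mpr hroot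
    set g := f /ₘ (X - C r) with hg
    have hXr : (X - C r : A[X]).Monic := monic_X_sub_C r
    have hgm : g.Monic := hXr.of_mul_monic_left (by rw [hfac]; exact hf)
    have hdeg : g.natDegree = n := by
      have := hXr.natDegree_mul hgm
      rw [hfac, hn, natDegree_X_sub_C] at this
      omega
    rw [← hfac, map_mul, map_sub, aeval_X, aeval_C] at h0
    rcases mul_eq_zero.mp h0 with h | h
    · exact ⟨r, (sub_eq_zero.mp h).symm⟩
    · exact ih g hgm hdeg h

include hA in
theorem algebraMap_surjective_of_isIntegral {D : Type*} [CommRing D] [IsDomain D] [Algebra A D]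
    [Algebra.IsIntegral A D] : Function.Surjective (algebraMap A D) := by
  intro b
  obtain ⟨f, hf, h0⟩ := Algebra.IsIntegral.isIntegral (R := A) b
  exact mem_range_of_monic_aeval_eq_zero hA b _ f hf rfl (by rwa [← aeval_def] at h0)

include hA in
/-- A retraction of an integral algebra over an absolutely integrally closed ring, from a prime
lying over zero. -/
theorem exists_retraction {B : Type*} [CommRing B] [Algebra A B] [Algebra.IsIntegral A B]
    (q : Ideal B) [q.IsPrime] (hq : q.comap (algebraMap A B) = ⊥) :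
    ∃ ρ : B →+* A, ρ.comp (algebraMap A B) = RingHom.id A := by
  have hinj : Function.Injective (algebraMap A (B ⧸ q)) := by
    rw [injective_iff_map_eq_zero]
    intro a ha
    rw [← Ideal.Quotient.mk_algebraMap, Ideal.Quotient.eq_zero_iff_mem] at ha
    have : a ∈ q.comap (algebraMap A B) := ha
    rwa [hq] at this
  have hsurj := algebraMap_surjective_of_isIntegral hA (D := B ⧸ q)
  let e : A ≃+* (B ⧸ q) := RingEquiv.ofBijective (algebraMap A (B ⧸ q)) ⟨hinj, hsurj⟩
  refine ⟨e.symm.toRingHom.comp (Ideal.Quotient.mk q), ?_⟩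
  ext a
  change e.symm (Ideal.Quotient.mk q (algebraMap A B a)) = a
  rw [RingEquiv.symm_apply_eq]
  rfl

include hA in
theorem exists_retraction_ringHom {B : Type*} [CommRing B] (φ : A →+* B) (hφ : φ.IsIntegral)
    (q : Ideal B) [q.IsPrime] (hq : q.comap φ = ⊥) :
    ∃ ρ : B →+* A, ρ.comp φ = RingHom.id A := by
  let := φ.toAlgebra
  have : Algebra.IsIntegral A B := ⟨hφ⟩
  exact exists_retraction hA q hq

end Algebra

section Scheme

open CategoryTheory CategoryTheory.Limits AlgebraicGeometry TopologicalSpace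

/-- `P` is local for jointly surjective families of `Q`-morphisms. -/
def IsLocalFor (P : Scheme.{u}) (Q : MorphismProperty Scheme.{u}) : Prop :=
  ∀ (X : Scheme.{u}) (R : Presieve X), R ∈ Scheme.precoverage Q X →
    ∀ g : P ⟶ X, ∃ (Y : Scheme.{u}) (w : Y ⟶ X) (h : P ⟶ Y), R w ∧ h ≫ w = g

theorem IsLocalFor.of_iso {P P' : Scheme.{u}} {Q : MorphismProperty Scheme.{u}}
    (e : P ≅ P') (hP : IsLocalFor P Q) : IsLocalFor P' Q := by
  intro X R hR g
  obtain ⟨Y, w, h, hw, hfac⟩ := hP X R hR (e.hom ≫ g)
  exact ⟨Y, w, e.inv ≫ h, hw, by rw [Category.assoc, hfac, Iso.inv_hom_id_assoc]⟩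

theorem IsLocalFor.exists_lift {P : Scheme.{u}} {Q : MorphismProperty Scheme.{u}}
    (hP : IsLocalFor P Q) {X : Scheme.{u}} {ι : Type*} (Y : ι → Scheme.{u}) (f : ∀ i, Y i ⟶ X)
    (hsurj : ∀ x, ∃ i, x ∈ Set.range (f i)) (hQ : ∀ i, Q (f i)) (g : P ⟶ X) :
    ∃ (i : ι) (h : P ⟶ Y i), h ≫ f i = g := by
  obtain ⟨Y', w, h, hw, hfac⟩ := hP X (.ofArrows Y f)
    ((Scheme.ofArrows_mem_precoverage_iff Q).mpr ⟨hsurj, hQ⟩) g
  cases hw with
  | mk i => exact ⟨i, h, hfac⟩

theorem IsLocalFor.nonempty {P : Scheme.{u}} {Q : MorphismProperty Scheme.{u}}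
    (hP : IsLocalFor P Q) : Nonempty P := by
  by_contra hne
  rw [not_nonempty_iff] at hne
  obtain ⟨Y, w, h, hw, -⟩ := hP P ⊥ (Scheme.bot_mem_precoverage Q P) (𝟙 P)
  exact hw

/-- A quasi-separated scheme local for quasi-compact Zariski coverings is affine. -/
theorem IsLocalFor.isAffine {P : Scheme.{u}} [QuasiSeparatedSpace P]
    (hP : IsLocalFor P (@IsOpenImmersion ⊓ @QuasiCompact)) : IsAffine P := by
  obtain ⟨i, h, hfac⟩ := hP.exists_lift P.affineCover.X P.affineCover.f
    (fun x => ⟨P.affineCover.idx x, P.affineCover.covers x⟩)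
    (fun i => ⟨inferInstance, by
      have : CompactSpace (P.affineCover.X i) := by
        change CompactSpace (Spec _)
        infer_instance
      infer_instance⟩) (𝟙 P)
  have hse : IsSplitEpi (P.affineCover.f i) := ⟨⟨⟨h, hfac⟩⟩⟩
  have hiso : IsIso (P.affineCover.f i) := isIso_of_mono_of_isSplitEpi _
  have : IsAffine (P.affineCover.X i) := by
    change IsAffine (Spec _)
    infer_instance
  exact IsAffine.of_isIso (inv (P.affineCover.f i))

theorem nontrivial_of_isLocalFor {A : CommRingCat.{u}} {Q : MorphismProperty Scheme.{u}}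
    (hP : IsLocalFor (Spec A) Q) : Nontrivial A := by
  obtain ⟨x⟩ := hP.nonempty
  exact (PrimeSpectrum.nonempty_iff_nontrivial (R := A)).mp ⟨x⟩

/-- A ring map `φ : A ⟶ B` such that `Spec A ⟶ Spec A` lifts through `Spec φ` has a retraction. -/
theorem exists_retraction_of_lift {A B : CommRingCat.{u}} (φ : A ⟶ B)
    (h : Spec A ⟶ Spec B) (hfac : h ≫ Spec.map φ = 𝟙 (Spec A)) :
    ∃ ψ : B ⟶ A, φ ≫ ψ = 𝟙 A := by
  refine ⟨Spec.preimage h, Spec.map_injective ?_⟩
  rw [Spec.map_comp, Spec.map_preimage, hfac, Spec.map_id]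

theorem mem_range_SpecMap_localizationAway {A : CommRingCat.{u}} (c : A) (x : Spec A)
    (hx : c ∉ (x : PrimeSpectrum A).asIdeal) :
    x ∈ Set.range (Spec.map (CommRingCat.ofHom (algebraMap A (Localization.Away c)))) := by
  have h1 : x ∈ (Spec.map (CommRingCat.ofHom (algebraMap A (Localization.Away c)))).opensRange := by
    rw [Scheme.Hom.opensRange_localizationAway]
    exact hx
  exact h1

theorem isLocalRing_of_isLocalFor {A : CommRingCat.{u}}
    (hP : IsLocalFor (Spec A) (@IsOpenImmersion ⊓ @QuasiCompact)) : IsLocalRing A := by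
  have : Nontrivial A := nontrivial_of_isLocalFor hP
  refine IsLocalRing.of_is_unit_or_is_unit_of_add_one ?_
  intro a b hab
  let c : Bool → A := fun i => if i then a else b
  obtain ⟨i, h, hfac⟩ := hP.exists_lift
    (fun i : Bool => Spec (CommRingCat.of (Localization.Away (c i))))
    (fun i => Spec.map (CommRingCat.ofHom (algebraMap A (Localization.Away (c i)))))
    (fun x => by
      have hx : a ∉ (x : PrimeSpectrum A).asIdeal ∨ b ∉ (x : PrimeSpectrum A).asIdeal := by
        by_contra hcon
        push Not at hcon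
        have h1 : (1 : A) ∈ (x : PrimeSpectrum A).asIdeal := hab ▸ Ideal.add_mem _ hcon.1 hcon.2
        exact (x : PrimeSpectrum A).isPrime.ne_top ((Ideal.eq_top_iff_one _).mpr h1)
      rcases hx with hx | hx
      · exact ⟨true, mem_range_SpecMap_localizationAway a x hx⟩
      · exact ⟨false, mem_range_SpecMap_localizationAway b x hx⟩)
    (fun i => ⟨inferInstance, inferInstance⟩) (𝟙 _)
  obtain ⟨ψ, hψ⟩ := exists_retraction_of_lift _ h hfac
  have hu : IsUnit (c i) := by
    have h1 : IsUnit (algebraMap A (Localization.Away (c i)) (c i)) :=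
      IsLocalization.Away.algebraMap_isUnit (c i)
    have h2 := h1.map ψ.hom
    have h3 : ψ.hom (algebraMap A (Localization.Away (c i)) (c i)) = c i := by
      have := congrArg (fun t => t.hom (c i)) hψ
      simpa using this
    rwa [h3] at h2
  cases i with
  | true => exact Or.inl hu
  | false => exact Or.inr hu

theorem mem_range_SpecMap_quotient {A : CommRingCat.{u}} (I : Ideal A) (x : Spec A)
    (hx : I ≤ (x : PrimeSpectrum A).asIdeal) :
    x ∈ Set.range (Spec.map (CommRingCat.ofHom (Ideal.Quotient.mk I))) := by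
  have h1 : ∀ y : PrimeSpectrum A, I ≤ y.asIdeal →
      y ∈ Set.range (PrimeSpectrum.comap (Ideal.Quotient.mk I)) := by
    intro y hy
    rw [_root_.range_comap_of_surjective _ _ Ideal.Quotient.mk_surjective,
      Ideal.mk_ker, PrimeSpectrum.mem_zeroLocus]
    exact hy
  exact h1 x hx

theorem isDomain_of_isLocalFor {A : CommRingCat.{u}}
    (hP : IsLocalFor (Spec A) @IsFinite) : IsDomain A := by
  have : Nontrivial A := nontrivial_of_isLocalFor hP
  have hnzd : NoZeroDivisors A := by
    refine ⟨?_⟩
    intro a b hab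
    let c : Bool → A := fun i => if i then a else b
    obtain ⟨i, h, hfac⟩ := hP.exists_lift
      (fun i : Bool => Spec (CommRingCat.of (A ⧸ Ideal.span {c i})))
      (fun i => Spec.map (CommRingCat.ofHom (Ideal.Quotient.mk (Ideal.span {c i}))))
      (fun x => by
        have hx : a ∈ (x : PrimeSpectrum A).asIdeal ∨ b ∈ (x : PrimeSpectrum A).asIdeal := by
          apply (x : PrimeSpectrum A).isPrime.mem_or_mem
          rw [hab]
          exact Ideal.zero_mem _
        rcases hx with hx | hx
        · exact ⟨true, mem_range_SpecMap_quotient (Ideal.span {a}) x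
            ((Ideal.span_singleton_le_iff_mem _).mpr hx)⟩
        · exact ⟨false, mem_range_SpecMap_quotient (Ideal.span {b}) x
            ((Ideal.span_singleton_le_iff_mem _).mpr hx)⟩)
      (fun i => (IsFinite.SpecMap_iff _).mpr
        (RingHom.Finite.of_surjective _ Ideal.Quotient.mk_surjective)) (𝟙 _)
    obtain ⟨ψ, hψ⟩ := exists_retraction_of_lift _ h hfac
    have hz : c i = 0 := by
      have h3 : ψ.hom (Ideal.Quotient.mk (Ideal.span {c i}) (c i)) = c i := by
        have := congrArg (fun t => t.hom (c i)) hψ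
        simpa using this
      rw [← h3, Ideal.Quotient.eq_zero_iff_mem.mpr (Ideal.mem_span_singleton_self _), map_zero]
    cases i with
    | true => exact Or.inl hz
    | false => exact Or.inr hz
  exact NoZeroDivisors.to_isDomain A

theorem isAIC_of_isLocalFor {A : CommRingCat.{u}}
    (hP : IsLocalFor (Spec A) @IsFinite) : Curves.IsAIC A := by
  have hdom : IsDomain A := isDomain_of_isLocalFor hP
  intro f hf hdeg
  have hfin : Module.Finite A (AdjoinRoot f) := hf.finite_adjoinRoot
  have hint : Algebra.IsIntegral A (AdjoinRoot f) := Algebra.IsIntegral.of_finite A _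
  have hinj : Function.Injective (algebraMap A (AdjoinRoot f)) := by
    rw [AdjoinRoot.algebraMap_eq]
    refine AdjoinRoot.of.injective_of_degree_ne_zero ?_
    intro h0
    rw [Polynomial.degree_eq_natDegree hf.ne_zero] at h0
    have : f.natDegree = 0 := by exact_mod_cast h0
    omega
  obtain ⟨i, h, hfac⟩ := hP.exists_lift (fun _ : Unit => Spec (CommRingCat.of (AdjoinRoot f)))
    (fun _ => Spec.map (CommRingCat.ofHom (algebraMap A (AdjoinRoot f))))
    (fun x => ⟨(), by
      have h1 : ∀ y : PrimeSpectrum A,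
          y ∈ Set.range (PrimeSpectrum.comap (algebraMap A (AdjoinRoot f))) := by
        intro y
        obtain ⟨Q, -, hQ, hQc⟩ := Ideal.exists_ideal_over_prime_of_isIntegral (S := AdjoinRoot f)
          y.asIdeal ⊥ (by
            rw [Ideal.comap_bot_of_injective _ hinj]
            exact bot_le)
        exact ⟨⟨Q, hQ⟩, PrimeSpectrum.ext hQc⟩
      exact h1 x⟩)
    (fun _ => (IsFinite.SpecMap_iff _).mpr (RingHom.finite_algebraMap.mpr hfin)) (𝟙 _)
  obtain ⟨ψ, hψ⟩ := exists_retraction_of_lift _ h hfac
  refine ⟨ψ.hom (AdjoinRoot.root f), ?_⟩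
  have hcomp : ψ.hom.comp (AdjoinRoot.of f) = RingHom.id A := by
    ext a
    have := congrArg (fun t => t.hom a) hψ
    simpa using this
  have h1 := Polynomial.hom_eval₂ f (AdjoinRoot.of f) ψ.hom (AdjoinRoot.root f)
  rw [AdjoinRoot.eval₂_root, map_zero, hcomp, Polynomial.eval₂_id] at h1
  exact h1.symm

theorem exists_mem_of_mem_precoverage {Q : MorphismProperty Scheme.{u}} {X : Scheme.{u}}
    {R : Presieve X} (hR : R ∈ Scheme.precoverage Q X) (x : X) :
    ∃ (Y : Scheme.{u}) (w : Y ⟶ X), R w ∧ Q w ∧ ∃ y : Y, w y = x := by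
  obtain ⟨Y, w, hw, y, hy⟩ := (Presieve.mem_comap_jointlySurjectivePrecoverage_iff _).mp hR.1 x
  exact ⟨Y, w, hw, hR.2 hw, y, hy⟩

/-- The spectrum of a local ring is local for Zariski coverings. -/
theorem isLocalFor_of_isLocalRing {A : CommRingCat.{u}} [IsLocalRing A]
    {Q : MorphismProperty Scheme.{u}} (hQ : Q ≤ @IsOpenImmersion) : IsLocalFor (Spec A) Q := by
  intro X R hR g
  obtain ⟨Y, w, hw, hQw, y, hy⟩ := exists_mem_of_mem_precoverage hR (g (IsLocalRing.closedPoint A))
  have hoi : IsOpenImmersion w := hQ _ hQw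
  have hrange : Set.range g ⊆ Set.range w := by
    rintro _ ⟨z, rfl⟩
    have hspec : z ⤳ IsLocalRing.closedPoint A := IsLocalRing.specializes_closedPoint z
    have h2 := hspec.map g.continuous
    exact w.isOpenEmbedding.isOpen_range.stableUnderGeneralization h2 ⟨y, hy⟩
  exact ⟨Y, w, IsOpenImmersion.lift w g hrange, hw, IsOpenImmersion.lift_fac _ _ _⟩

/-- The spectrum of an absolutely integrally closed domain is local for finite coverings. -/
theorem isLocalFor_finite_of_isAIC {A : CommRingCat.{u}} [IsDomain A] (hA : Curves.IsAIC A) :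
    IsLocalFor (Spec A) @IsFinite := by
  intro X R hR g
  let η : Spec A := (⟨⊥, Ideal.isPrime_bot⟩ : PrimeSpectrum A)
  obtain ⟨Y, w, hw, hfin, y, hy⟩ := exists_mem_of_mem_precoverage hR (g η)
  have hwfin : IsFinite w := hfin
  obtain ⟨z, hz1, -⟩ := Scheme.Pullback.exists_preimage_pullback (f := g) (g := w) η y hy.symm
  have haff : IsAffine (pullback g w) := isAffine_of_isAffineHom (pullback.fst g w)
  let φ : A ⟶ Γ(pullback g w, ⊤) := Spec.preimage ((pullback g w).isoSpec.inv ≫ pullback.fst g w)
  have hφ : Spec.map φ = (pullback g w).isoSpec.inv ≫ pullback.fst g w := Spec.map_preimage _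
  have hφfin : IsFinite (Spec.map φ) := by rw [hφ]; infer_instance
  have hφint : φ.hom.IsIntegral := ((IsFinite.SpecMap_iff φ).mp hφfin).to_isIntegral
  let q : PrimeSpectrum Γ(pullback g w, ⊤) := (pullback g w).isoSpec.hom z
  have hq : q.asIdeal.comap φ.hom = ⊥ := by
    have h1 : (Spec.map φ) ((pullback g w).isoSpec.hom z) = η := by
      rw [hφ, ← Scheme.Hom.comp_apply, Iso.hom_inv_id_assoc]
      exact hz1
    exact congrArg PrimeSpectrum.asIdeal h1
  obtain ⟨ρ, hρ⟩ := exists_retraction_ringHom hA φ.hom hφint q.asIdeal hq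
  let s : Spec A ⟶ pullback g w := Spec.map (CommRingCat.ofHom ρ) ≫ (pullback g w).isoSpec.inv
  have hs : s ≫ pullback.fst g w = 𝟙 _ := by
    rw [Category.assoc, ← hφ, ← Spec.map_comp, ← Spec.map_id]
    congr 1
    ext a
    exact RingHom.congr_fun hρ a
  refine ⟨Y, w, s ≫ pullback.snd g w, hw, ?_⟩
  rw [Category.assoc, ← pullback.condition, ← Category.assoc, hs, Category.id_comp]

/-- A quasi-separated scheme is local for quasi-compact Zariski coverings and for finite coverings
if and only if it is the spectrum of an absolutely integrally closed local domain. -/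
theorem isLocalFor_zariski_and_finite_iff (P : Scheme.{u}) [QuasiSeparatedSpace P] :
    (IsLocalFor P (@IsOpenImmersion ⊓ @QuasiCompact) ∧ IsLocalFor P @IsFinite) ↔
    (IsAffine P ∧ IsLocalRing Γ(P, ⊤) ∧ IsDomain Γ(P, ⊤) ∧ Curves.IsAIC Γ(P, ⊤)) := by
  constructor
  · rintro ⟨hZ, hF⟩
    have haff : IsAffine P := hZ.isAffine
    have hZ' := hZ.of_iso P.isoSpec
    have hF' := hF.of_iso P.isoSpec
    exact ⟨haff, isLocalRing_of_isLocalFor hZ', isDomain_of_isLocalFor hF',
      isAIC_of_isLocalFor hF'⟩
  · rintro ⟨haff, hloc, hdom, haic⟩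
    exact ⟨(isLocalFor_of_isLocalRing inf_le_left).of_iso P.isoSpec.symm,
      (isLocalFor_finite_of_isAIC haic).of_iso P.isoSpec.symm⟩

end Scheme

end Groth.Agent.R2.H95.AICLocal
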