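import Groth.Agent.R2.H47MonoIso
import Groth.Agent.R2.H95SchDenseSp
import Groth.Agent.Lib.Helper12SchDenseExt
import Groth.Agent.Lib.Helper12LocPCases

/-!
# fppf surjections of algebraic spaces are effective epimorphisms of fppf sheaves (helper95)

* `exists_fppf_lift`: sections of the target lift fppf locally.
* `epi_of_fppf`: a surjective, flat, locally finitely presented morphism of algebraic spaces is an
  epimorphism in `AlgSp.Sp S`.
* `exists_desc_of_fppf`: hence (every epimorphism of sheaves of sets being regular) a morphism out of the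
  source that coequalizes the kernel pair descends to the target.
* `eq_of_eq_on_dense`: two morphisms from a scheme to a sheaf `Y` separated over `B` that agree over `B`
  and on a schematically dense open are equal.
-/

set_option autoImplicit false
universe u
open CategoryTheory CategoryTheory.Limits AlgebraicGeometry
open AlgSp

namespace Groth.Agent.R2.H95.FppfEpi

open Groth.Agent.S13210 Groth.Agent.R2.H95.SchDenseSp Opposite

variable {S : Scheme.{u}}

/-- local lifting along a surjective flat locally finitely presented morphism of algebraic spaces: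
every `h_T ⟶ Z` lifts to `X` after an fppf covering `U ⟶ T`. -/
lemma exists_fppf_lift {X Z : AlgSp.Sp S} (hX : AlgSp.IsAlgSpace X) (hZ : AlgSp.IsAlgSpace Z)
    (g : X ⟶ Z) (hgs : AlgSp.IsSurjectiveMor g) (hgf : AlgSp.LocP @Flat g)
    (hgp : AlgSp.LocP @LocallyOfFinitePresentation g) (T : Over S)
    (x : (AlgSp.yon S).obj T ⟶ Z) :
    ∃ (U : Over S) (u : U ⟶ T) (l : (AlgSp.yon S).obj U ⟶ X), Flat u.left ∧
      LocallyOfFinitePresentation u.left ∧ Surjective u.left ∧
      l ≫ g = (AlgSp.yon S).map u ≫ x := by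
  have sq : IsPullback (pullback.fst g x) (pullback.snd g x) g x := IsPullback.of_hasPullback g x
  have hAlg : AlgSp.IsAlgSpace (pullback g x) :=
    Groth.Agent.S9874.isAlgSpace_of_isPullback hZ.diag hX (AlgSp.IsAlgSpace.yon_obj T) sq
  obtain ⟨U, p, hpe, hps⟩ := hAlg.atlas
  obtain ⟨u, hu⟩ := (AlgSp.yon S).map_surjective (p ≫ pullback.snd g x)
  have hflπ : AlgSp.LocP @Flat (pullback.snd g x) :=
    Groth.Agent.Lib.Helper12.LocPCases.good_flat.locP_baseChange hX hZ
      (AlgSp.IsAlgSpace.yon_obj T) sq hgf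
  have hflat : Flat u.left :=
    hflπ p (𝟙 _) u hpe (AlgSp.repWith_id _ T) (by rw [hu, Category.comp_id])
  have hfpπ : AlgSp.LocP @LocallyOfFinitePresentation (pullback.snd g x) :=
    Groth.Agent.Lib.Helper12.LocPCases.good_lfp.locP_baseChange hX hZ
      (AlgSp.IsAlgSpace.yon_obj T) sq hgp
  have hfp : LocallyOfFinitePresentation u.left :=
    hfpπ p (𝟙 _) u hpe (AlgSp.repWith_id _ T) (by rw [hu, Category.comp_id])
  have hsπ : AlgSp.IsSurjectiveMor (pullback.snd g x) :=
    Groth.Agent.S9907.result (X := ⟨X, hX⟩) (Y := ⟨Z, hZ⟩) (Y' := ⟨_, AlgSp.IsAlgSpace.yon_obj T⟩)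
      ⟨g⟩ ⟨x⟩ _ _ sq hgs
  have hsurj : Surjective u.left := by
    refine ⟨fun t => ?_⟩
    obtain ⟨z, hz⟩ := hsπ (AlgSp.Points.schemeHomeo T t)
    obtain ⟨u0, hu0⟩ := Groth.Agent.S10177.surjective_ofPt p hps z
    refine ⟨u0, ?_⟩
    have h1 : AlgSp.Points.ofPt ((AlgSp.yon S).map u) u0 = AlgSp.Points.schemeHomeo T t := by
      rw [hu, ← AlgSp.Points.map_ofPt, hu0, hz]
    have h2 := AlgSp.Points.toScheme_ofPt u u0
    rw [h1] at h2
    rw [← h2]
    exact AlgSp.Points.toScheme_ofScheme T t
  refine ⟨U, u, p ≫ pullback.fst g x, hflat, hfp, hsurj, ?_⟩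
  rw [Category.assoc, pullback.condition, ← Category.assoc, hu]

/-- a surjective flat locally finitely presented morphism of algebraic spaces is an epimorphism of
fppf sheaves. -/
theorem epi_of_fppf {X Z : AlgSp.Sp S} (hX : AlgSp.IsAlgSpace X) (hZ : AlgSp.IsAlgSpace Z)
    (g : X ⟶ Z) (hgs : AlgSp.IsSurjectiveMor g) (hgf : AlgSp.LocP @Flat g)
    (hgp : AlgSp.LocP @LocallyOfFinitePresentation g) : Epi g := by
  rw [← Sheaf.isLocallySurjective_iff_epi]
  constructor
  intro T s
  obtain ⟨U, u, l, hfl, hfp, hsurj, hl⟩ :=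
    exists_fppf_lift hX hZ g hgs hgf hgp T ((yEquiv T Z).symm s)
  have hmem : Sieve.ofArrows (fun _ : PUnit.{1} => U) (fun _ => u) ∈ AlgSp.J S T := by
    rw [GrothendieckTopology.mem_over_iff, Sieve.overEquiv_ofArrows]
    apply Precoverage.generate_mem_toGrothendieck
    refine (Scheme.ofArrows_mem_precoverage_iff
      (fun {A B : Scheme.{u}} (m : A ⟶ B) => Flat m ∧ LocallyOfFinitePresentation m)).2 ?_
    refine ⟨fun t => ?_, fun _ => ⟨hfl, hfp⟩⟩
    obtain ⟨u0, hu0⟩ := u.left.surjective t
    exact ⟨PUnit.unit, u0, hu0⟩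
  refine (AlgSp.J S).superset_covering ?_ hmem
  rw [Sieve.ofArrows, Sieve.generate_le_iff]
  rintro _ _ ⟨W⟩
  refine ⟨yEquiv _ _ l, ?_⟩
  have h1 := yEquiv_comp l g
  rw [hl] at h1
  rw [← h1, ← Groth.Agent.Lib.Helper12.ZarGlue.map_yEquiv, Equiv.apply_symm_apply]

/-- two morphisms from a scheme to a sheaf `Y` separated over `B`, which agree over `B` and on a
schematically dense open, are equal. -/
lemma eq_of_eq_on_dense {Y B : AlgSp.Sp S} (pY : Y ⟶ B) (hY : AlgSp.IsSeparatedMor pY)
    {T : Over S} (a b : (AlgSp.yon S).obj T ⟶ Y) (hab : a ≫ pY = b ≫ pY)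
    (W : T.left.Opens) (hW : CInt.IsSchematicallyDense W)
    (hWab : (AlgSp.yon S).map (opnι T W) ≫ a = (AlgSp.yon S).map (opnι T W) ≫ b) : a = b := by
  obtain ⟨E, e, fstE, sqE⟩ := hY.1 (pullback.lift a b hab)
  have hce : IsClosedImmersion e.left := hY.2 _ _ e sqE
  have ha : (AlgSp.yon S).map e ≫ a = fstE := by
    have h1 := congrArg (· ≫ pullback.fst pY pY) sqE.w
    simp only [Category.assoc, pullback.diagonal_fst, pullback.lift_fst, Category.comp_id] at h1
    exact h1.symm
  have hb : (AlgSp.yon S).map e ≫ b = fstE := by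
    have h1 := congrArg (· ≫ pullback.snd pY pY) sqE.w
    simp only [Category.assoc, pullback.diagonal_snd, pullback.lift_snd, Category.comp_id] at h1
    exact h1.symm
  have hlw : ((AlgSp.yon S).map (opnι T W) ≫ a) ≫ pullback.diagonal pY =
      (AlgSp.yon S).map (opnι T W) ≫ pullback.lift a b hab := by
    apply pullback.hom_ext
    · rw [Category.assoc, Category.assoc, Category.assoc, pullback.diagonal_fst,
        pullback.lift_fst, Category.comp_id]
    · rw [Category.assoc, Category.assoc, Category.assoc, pullback.diagonal_snd,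
        pullback.lift_snd, Category.comp_id, hWab]
  obtain ⟨l, hl'⟩ := (AlgSp.yon S).map_surjective (sqE.lift _ _ hlw)
  have hl : l ≫ e = opnι T W := (AlgSp.yon S).map_injective (by
    rw [Functor.map_comp, hl']
    exact sqE.lift_snd _ _ _)
  have hiso : IsIso e.left :=
    Groth.Agent.Lib.Helper12.SchDense.isIso_of_isSchematicallyDense_factors e.left W hW l.left
      (congrArg Over.Hom.left hl)
  have : IsIso ((Over.forget S).map e) := hiso
  have : IsIso e := isIso_of_reflects_iso e (Over.forget S)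
  rw [← cancel_epi ((AlgSp.yon S).map e), ha, hb]

/-- a morphism out of the source of an fppf surjection of algebraic spaces which coequalizes the kernel pair
descends to the target. -/
theorem exists_desc_of_fppf {X Z : AlgSp.Sp S} (hX : AlgSp.IsAlgSpace X) (hZ : AlgSp.IsAlgSpace Z)
    (g : X ⟶ Z) (hgs : AlgSp.IsSurjectiveMor g) (hgf : AlgSp.LocP @Flat g)
    (hgp : AlgSp.LocP @LocallyOfFinitePresentation g) {Y : AlgSp.Sp S} (f : X ⟶ Y)
    (hagree : pullback.fst g g ≫ f = pullback.snd g g ≫ f) : ∃ h : Z ⟶ Y, g ≫ h = f := by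
  have hepi : Epi g := epi_of_fppf hX hZ g hgs hgf hgp
  have hreg : IsRegularEpi g := IsRegularEpiCategory.regularEpiOfEpi g
  have heff : EffectiveEpi g := inferInstance
  refine ⟨EffectiveEpi.desc g f (fun {W} g₁ g₂ h12 => ?_), EffectiveEpi.fac g f _⟩
  calc g₁ ≫ f = pullback.lift g₁ g₂ h12 ≫ pullback.fst g g ≫ f := by
        rw [pullback.lift_fst_assoc]
    _ = pullback.lift g₁ g₂ h12 ≫ pullback.snd g g ≫ f := by rw [hagree]
    _ = g₂ ≫ f := by rw [pullback.lift_snd_assoc]

end Groth.Agent.R2.H95.FppfEpi
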