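import Groth.Prelude.Def_W4c6nonredquotmfGoodQuot
import Groth.Prelude.Def_W4bk4git07Quot
import Groth.Prelude.Def_AlgGrp
import Mathlib.AlgebraicGeometry.PullbackCarrier
import Mathlib.AlgebraicGeometry.Morphisms.Affine

/-!
# H95 — restricting an action and a good quotient to the preimage of an open
-/

set_option autoImplicit false
universe u
open CategoryTheory MonoidalCategory CartesianMonoidalCategory MonObj AlgebraicGeometry Topology
open CategoryTheory.Limits

namespace Groth.Agent.R2.H95.GoodQuotOpen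

variable {S : Scheme.{u}}

/-- `G ×_S X' = (G ×_S X) ×_X X'`. -/
theorem isPullback_whiskerLeft (G : Over S) {X' X : Over S} (j : X' ⟶ X) :
    IsPullback (G ◁ j).left (snd G X').left (snd G X).left j.left := by
  have t : IsPullback (pullback.fst G.hom X.hom) (pullback.snd G.hom X.hom) G.hom X.hom :=
    IsPullback.of_hasPullback G.hom X.hom
  have s : IsPullback ((G ◁ j).left ≫ pullback.fst G.hom X.hom) (pullback.snd G.hom X'.hom)
      G.hom (j.left ≫ X.hom) := by
    rw [Over.whiskerLeft_left_fst, Over.w j]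
    exact IsPullback.of_hasPullback G.hom X'.hom
  exact IsPullback.of_right s (Over.whiskerLeft_left_snd j) t

theorem isOpenImmersion_whiskerLeft (G : Over S) {X' X : Over S} (j : X' ⟶ X)
    [IsOpenImmersion j.left] : IsOpenImmersion (G ◁ j).left :=
  MorphismProperty.of_isPullback (isPullback_whiskerLeft G j).flip inferInstance

/-- Points of `G ×_S X` lying over the image of `j` come from `G ×_S X'`. -/
theorem exists_preimage_whiskerLeft (G : Over S) {X' X : Over S} (j : X' ⟶ X)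
    (p : ↥(G ⊗ X).left) (x' : ↥X'.left) (hp : (snd G X).left.base p = j.left.base x') :
    ∃ p' : ↥(G ⊗ X').left, (G ◁ j).left.base p' = p ∧ (snd G X').left.base p' = x' :=
  Scheme.exists_preimage_of_isPullback (isPullback_whiskerLeft G j) p x' hp

variable {G : Over S} [GrpObj G]

/-- Sections pulled back along an invariant morphism are invariant. -/
theorem isInvSection_app {X Y : Over S} {a : AlgGrp.Action G X} {φ : X ⟶ Y}
    (h : GIT.IsInvariant a φ) (U : Y.left.Opens) (s : Γ(Y.left, U)) :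
    GIT.IsInvSection a φ U (φ.left.app U s) := by
  unfold GIT.IsInvSection
  rw [Scheme.Hom.app_eq_appLE, ← CommRingCat.comp_apply, ← CommRingCat.comp_apply,
    Scheme.Hom.appLE_comp_appLE, Scheme.Hom.appLE_comp_appLE]
  have key : ∀ {f g : (G ⊗ X).left ⟶ Y.left} (e : f = g) (V : (G ⊗ X).left.Opens)
      (h1 : V ≤ f ⁻¹ᵁ U) (h2 : V ≤ g ⁻¹ᵁ U), f.appLE U V h1 = g.appLE U V h2 := by
    intro f g e V h1 h2
    subst e
    rfl
  rw [key h.left]

end Groth.Agent.R2.H95.GoodQuotOpen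

namespace Groth.Agent.R2.H95.GoodQuotOpen

variable {S : Scheme.{u}} {G X Y XU YU : Over S} [GrpObj G]

section restrict

/-- The saturation in `X` of a subset of the open subscheme `XU`: add the complement of `XU`. -/
def sat (jU : XU ⟶ X) (W : Set ↥XU.left) : Set ↥X.left :=
  jU.left.base '' W ∪ (Set.range jU.left.base)ᶜ

theorem mem_sat_iff (jU : XU ⟶ X) [IsOpenImmersion jU.left] (W : Set ↥XU.left) (w : ↥XU.left) :
    jU.left.base w ∈ sat jU W ↔ w ∈ W := by
  constructor
  · rintro (⟨w', hw', he⟩ | hc)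
    · have : w' = w := jU.left.isOpenEmbedding.injective he
      exact this ▸ hw'
    · exact absurd ⟨w, rfl⟩ hc
  · intro hw
    exact Or.inl ⟨w, hw, rfl⟩

theorem isClosed_sat (jU : XU ⟶ X) [IsOpenImmersion jU.left] (W : Set ↥XU.left)
    (hW : IsClosed W) : IsClosed (sat jU W) := by
  obtain ⟨C, hC, rfl⟩ := jU.left.isOpenEmbedding.isInducing.isClosed_iff.mp hW
  have : sat jU (jU.left.base ⁻¹' C) = C ∪ (Set.range jU.left.base)ᶜ := by
    ext x
    constructor
    · rintro (⟨w, hw, rfl⟩ | hc)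
      · exact Or.inl hw
      · exact Or.inr hc
    · rintro (hx | hc)
      · by_cases hxV : x ∈ Set.range jU.left.base
        · obtain ⟨w, rfl⟩ := hxV
          exact Or.inl ⟨w, hx, rfl⟩
        · exact Or.inr hxV
      · exact Or.inr hc
  rw [this]
  exact hC.union jU.left.isOpenEmbedding.isOpen_range.isClosed_compl

variable {a : AlgGrp.Action G X} {φ : X ⟶ Y} {aU : AlgGrp.Action G XU} {jU : XU ⟶ X}
  {jY : YU.left ⟶ Y.left} {φU : XU ⟶ YU}

theorem mem_range_iff [IsOpenImmersion jU.left] [IsOpenImmersion jY] (hrange : φ.left ⁻¹ᵁ jY.opensRange = jU.left.opensRange) (x : ↥X.left) :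
    x ∈ Set.range jU.left.base ↔ φ.left.base x ∈ Set.range jY.base := by
  have : x ∈ jU.left.opensRange ↔ x ∈ φ.left ⁻¹ᵁ jY.opensRange := by rw [hrange]
  exact this

theorem isInvariantSet_sat [IsOpenImmersion jU.left] [IsOpenImmersion jY] (hinv : GIT.IsInvariant a φ)
    (hrange : φ.left ⁻¹ᵁ jY.opensRange = jU.left.opensRange)
    (haU : aU.act ≫ jU = (G ◁ jU) ≫ a.act) (W : Set ↥XU.left)
    (hW : NRQuot.IsInvariantSet aU W) : NRQuot.IsInvariantSet a (sat jU W) := by
  intro p hp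
  rcases hp with ⟨w, hw, he⟩ | hc
  · obtain ⟨p', hp', hs'⟩ := exists_preimage_whiskerLeft G jU p w he.symm
    have h1 : aU.act.left.base p' ∈ W := hW p' (by rw [hs']; exact hw)
    have h2 : jU.left.base (aU.act.left.base p') = a.act.left.base p := by
      have := congrArg (fun f => f.left) haU
      simp only [Over.comp_left] at this
      rw [← hp', ← Scheme.Hom.comp_apply, this, Scheme.Hom.comp_apply]
    exact Or.inl ⟨_, h1, h2⟩
  · refine Or.inr ?_
    intro hmem
    apply hc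
    rw [mem_range_iff hrange] at hmem ⊢
    have h3 : φ.left.base (a.act.left.base p) = φ.left.base ((snd G X).left.base p) := by
      rw [← Scheme.Hom.comp_apply, ← Scheme.Hom.comp_apply, hinv.left]
    rw [← h3]
    exact hmem

theorem affine_restrict [IsOpenImmersion jU.left] [IsOpenImmersion jY]
    (haff : IsAffineHom φ.left) (hφU : φU.left ≫ jY = jU.left ≫ φ.left)
    (hrange : φ.left ⁻¹ᵁ jY.opensRange = jU.left.opensRange) : IsAffineHom φU.left :=
  MorphismProperty.of_isPullback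
    (IsOpenImmersion.isPullback φU.left jU.left jY φ.left hφU.symm hrange).flip haff

theorem inv_restrict [IsOpenImmersion jY] (hinv : GIT.IsInvariant a φ)
    (haU : aU.act ≫ jU = (G ◁ jU) ≫ a.act)
    (hφU : φU.left ≫ jY = jU.left ≫ φ.left) : GIT.IsInvariant aU φU := by
  unfold GIT.IsInvariant
  apply Over.OverMorphism.ext
  rw [Over.comp_left, Over.comp_left, ← cancel_mono jY]
  simp only [Category.assoc, hφU]
  have h1 : aU.act.left ≫ jU.left = (G ◁ jU).left ≫ a.act.left := by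
    have := congrArg (fun f => f.left) haU
    simpa only [Over.comp_left] using this
  have h2 : (G ◁ jU).left ≫ (snd G X).left = (snd G XU).left ≫ jU.left :=
    Over.whiskerLeft_left_snd jU
  rw [reassoc_of% h1, hinv.left, reassoc_of% h2]

theorem closed_restrict [IsOpenImmersion jU.left] [IsOpenImmersion jY]
    (h : NRQuot.IsGoodQuot a φ)
    (haU : aU.act ≫ jU = (G ◁ jU) ≫ a.act)
    (hφU : φU.left ≫ jY = jU.left ≫ φ.left)
    (hrange : φ.left ⁻¹ᵁ jY.opensRange = jU.left.opensRange)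
    (W : Set ↥XU.left) (hW : IsClosed W) (hWinv : NRQuot.IsInvariantSet aU W) :
    IsClosed (φU.left.base '' W) := by
  have hc : IsClosed (φ.left.base '' sat jU W) :=
    h.closed _ (isClosed_sat jU W hW) (isInvariantSet_sat h.inv hrange haU W hWinv)
  have h1 : φU.left.base '' W = jY.base ⁻¹' (φ.left.base '' sat jU W) := by
    ext u
    constructor
    · rintro ⟨w, hw, rfl⟩
      refine ⟨jU.left.base w, (mem_sat_iff jU W w).mpr hw, ?_⟩
      rw [← Scheme.Hom.comp_apply, ← hφU, Scheme.Hom.comp_apply]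
    · rintro ⟨x, hx, he⟩
      have hxV : x ∈ Set.range jU.left.base := by
        rw [mem_range_iff hrange, he]
        exact ⟨u, rfl⟩
      obtain ⟨w, rfl⟩ := hxV
      refine ⟨w, (mem_sat_iff jU W w).mp hx, ?_⟩
      apply jY.isOpenEmbedding.injective
      rw [← Scheme.Hom.comp_apply, hφU, Scheme.Hom.comp_apply]
      exact he
  rw [h1]
  exact hc.preimage jY.continuous

theorem inter_restrict [IsOpenImmersion jU.left] [IsOpenImmersion jY]
    (h : NRQuot.IsGoodQuot a φ)
    (haU : aU.act ≫ jU = (G ◁ jU) ≫ a.act)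
    (hφU : φU.left ≫ jY = jU.left ≫ φ.left)
    (hrange : φ.left ⁻¹ᵁ jY.opensRange = jU.left.opensRange)
    (J : Type u) (W : J → Set ↥XU.left) (hW : ∀ i, IsClosed (W i))
    (hWinv : ∀ i, NRQuot.IsInvariantSet aU (W i)) :
    φU.left.base '' (⋂ i, W i) = ⋂ i, φU.left.base '' (W i) := by
  apply Set.Subset.antisymm (Set.image_iInter_subset _ _)
  intro u hu
  have h1 : jY.base u ∈ ⋂ i, φ.left.base '' sat jU (W i) := by
    rw [Set.mem_iInter]
    intro i
    obtain ⟨w, hw, rfl⟩ := Set.mem_iInter.mp hu i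
    refine ⟨jU.left.base w, (mem_sat_iff jU (W i) w).mpr hw, ?_⟩
    rw [← Scheme.Hom.comp_apply, ← hφU, Scheme.Hom.comp_apply]
  rw [← h.inter J (fun i => sat jU (W i)) (fun i => isClosed_sat jU (W i) (hW i))
    (fun i => isInvariantSet_sat h.inv hrange haU (W i) (hWinv i))] at h1
  obtain ⟨x, hx, he⟩ := h1
  have hxV : x ∈ Set.range jU.left.base := by
    rw [mem_range_iff hrange, he]
    exact ⟨u, rfl⟩
  obtain ⟨w, rfl⟩ := hxV
  refine ⟨w, ?_, ?_⟩
  · rw [Set.mem_iInter]
    intro i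
    exact (mem_sat_iff jU (W i) w).mp (Set.mem_iInter.mp hx i)
  · apply jY.isOpenEmbedding.injective
    rw [← Scheme.Hom.comp_apply, hφU, Scheme.Hom.comp_apply]
    exact he

end restrict

end Groth.Agent.R2.H95.GoodQuotOpen

namespace Groth.Agent.R2.H95.GoodQuotOpen

section appLE

theorem appLE_congr' {X Y : Scheme.{u}} {f g : X ⟶ Y} (e : f = g) (U : Y.Opens) (V : X.Opens)
    (h1 : V ≤ f ⁻¹ᵁ U) (h2 : V ≤ g ⁻¹ᵁ U) : f.appLE U V h1 = g.appLE U V h2 := by
  subst e
  rfl

/-- For an open immersion `f`, the map on sections from an open inside the range to its full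
preimage is bijective. -/
theorem appLE_bijective {X Y : Scheme.{u}} (f : X ⟶ Y) [IsOpenImmersion f] (O : Y.Opens)
    (hO : O ≤ f.opensRange) (W : X.Opens) (e : W = f ⁻¹ᵁ O) :
    Function.Bijective (f.appLE O W e.le) := by
  subst e
  rw [Scheme.Hom.appLE_eq_app]
  have := f.isIso_app O hO
  exact ConcreteCategory.bijective_of_isIso (f.app O)

end appLE

variable {S : Scheme.{u}} {G X Y XU YU : Over S} [GrpObj G]

section sections

variable {a : AlgGrp.Action G X} {φ : X ⟶ Y} {aU : AlgGrp.Action G XU} {jU : XU ⟶ X}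
  {jY : YU.left ⟶ Y.left} {φU : XU ⟶ YU}

theorem preimage_preimage_image [IsOpenImmersion jY]
    (hφU : φU.left ≫ jY = jU.left ≫ φ.left) (U' : YU.left.Opens) :
    jU.left ⁻¹ᵁ (φ.left ⁻¹ᵁ (jY ''ᵁ U')) = φU.left ⁻¹ᵁ U' := by
  rw [← Scheme.Hom.comp_preimage, ← hφU, Scheme.Hom.comp_preimage, jY.preimage_image_eq]

theorem preimage_image_le_opensRange [IsOpenImmersion jU.left] [IsOpenImmersion jY]
    (hrange : φ.left ⁻¹ᵁ jY.opensRange = jU.left.opensRange) (U' : YU.left.Opens) :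
    φ.left ⁻¹ᵁ (jY ''ᵁ U') ≤ jU.left.opensRange := by
  rw [← hrange]
  apply Scheme.Hom.preimage_mono
  rintro _ ⟨u, -, rfl⟩
  exact ⟨u, rfl⟩

/-- Invariance of a section of `X` over `φ⁻¹(jY(U'))` can be tested after restriction to `XU`. -/
theorem isInvSection_restrict_iff [IsOpenImmersion jU.left] [IsOpenImmersion jY]
    (haU : aU.act ≫ jU = (G ◁ jU) ≫ a.act)
    (hφU : φU.left ≫ jY = jU.left ≫ φ.left)
    (hrange : φ.left ⁻¹ᵁ jY.opensRange = jU.left.opensRange)
    (U' : YU.left.Opens) (f : Γ(X.left, φ.left ⁻¹ᵁ (jY ''ᵁ U'))) :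
    GIT.IsInvSection aU φU U'
        (jU.left.appLE (φ.left ⁻¹ᵁ (jY ''ᵁ U')) (φU.left ⁻¹ᵁ U')
          (preimage_preimage_image hφU U').ge f) ↔
      GIT.IsInvSection a φ (jY ''ᵁ U') f := by
  have h1 : aU.act.left ≫ jU.left = (G ◁ jU).left ≫ a.act.left := by
    have := congrArg (fun f => f.left) haU
    simpa only [Over.comp_left] using this
  have h2 : (snd G XU).left ≫ jU.left = (G ◁ jU).left ≫ (snd G X).left :=
    (Over.whiskerLeft_left_snd jU).symm
  have hψ : IsOpenImmersion (G ◁ jU).left := isOpenImmersion_whiskerLeft G jU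
  -- the two opens
  set O : (G ⊗ X).left.Opens := a.act.left ⁻¹ᵁ (φ.left ⁻¹ᵁ (jY ''ᵁ U')) ⊓
    (snd G X).left ⁻¹ᵁ (φ.left ⁻¹ᵁ (jY ''ᵁ U')) with hOdef
  set OU : (G ⊗ XU).left.Opens := aU.act.left ⁻¹ᵁ (φU.left ⁻¹ᵁ U') ⊓
    (snd G XU).left ⁻¹ᵁ (φU.left ⁻¹ᵁ U') with hOUdef
  have hA : (G ◁ jU).left ⁻¹ᵁ (a.act.left ⁻¹ᵁ (φ.left ⁻¹ᵁ (jY ''ᵁ U'))) =
      aU.act.left ⁻¹ᵁ (φU.left ⁻¹ᵁ U') := by
    rw [← Scheme.Hom.comp_preimage (G ◁ jU).left a.act.left, ← h1,
      Scheme.Hom.comp_preimage aU.act.left jU.left, preimage_preimage_image hφU U']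
  have hB : (G ◁ jU).left ⁻¹ᵁ ((snd G X).left ⁻¹ᵁ (φ.left ⁻¹ᵁ (jY ''ᵁ U'))) =
      (snd G XU).left ⁻¹ᵁ (φU.left ⁻¹ᵁ U') := by
    rw [← Scheme.Hom.comp_preimage (G ◁ jU).left (snd G X).left, ← h2,
      Scheme.Hom.comp_preimage (snd G XU).left jU.left, preimage_preimage_image hφU U']
  have hOU : OU = (G ◁ jU).left ⁻¹ᵁ O := by
    rw [hOUdef, hOdef, Scheme.Hom.preimage_inf, hA, hB]
  have hOrange : O ≤ (G ◁ jU).left.opensRange := by
    intro p hp
    have hp2 : (snd G X).left.base p ∈ φ.left ⁻¹ᵁ (jY ''ᵁ U') := hp.2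
    obtain ⟨w, hw⟩ := preimage_image_le_opensRange hrange U' hp2
    obtain ⟨p', hp', -⟩ := exists_preimage_whiskerLeft G jU p w hw.symm
    exact ⟨p', hp'⟩
  have hbij := appLE_bijective (G ◁ jU).left O hOrange OU hOU
  unfold GIT.IsInvSection
  have e1 : aU.act.left.appLE (φU.left ⁻¹ᵁ U') OU inf_le_left
      (jU.left.appLE (φ.left ⁻¹ᵁ (jY ''ᵁ U')) (φU.left ⁻¹ᵁ U')
        (preimage_preimage_image hφU U').ge f) =
      (G ◁ jU).left.appLE O OU hOU.le
        (a.act.left.appLE (φ.left ⁻¹ᵁ (jY ''ᵁ U')) O inf_le_left f) := by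
    rw [← CommRingCat.comp_apply, ← CommRingCat.comp_apply, Scheme.Hom.appLE_comp_appLE,
      Scheme.Hom.appLE_comp_appLE]
    rw [appLE_congr' h1]
  have e2 : (snd G XU).left.appLE (φU.left ⁻¹ᵁ U') OU inf_le_right
      (jU.left.appLE (φ.left ⁻¹ᵁ (jY ''ᵁ U')) (φU.left ⁻¹ᵁ U')
        (preimage_preimage_image hφU U').ge f) =
      (G ◁ jU).left.appLE O OU hOU.le
        ((snd G X).left.appLE (φ.left ⁻¹ᵁ (jY ''ᵁ U')) O inf_le_right f) := by
    rw [← CommRingCat.comp_apply, ← CommRingCat.comp_apply, Scheme.Hom.appLE_comp_appLE,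
      Scheme.Hom.appLE_comp_appLE]
    rw [appLE_congr' h2]
  rw [e1, e2]
  exact hbij.1.eq_iff

theorem sections_restrict [IsOpenImmersion jU.left] [IsOpenImmersion jY]
    (h : NRQuot.IsGoodQuot a φ)
    (haU : aU.act ≫ jU = (G ◁ jU) ≫ a.act)
    (hφU : φU.left ≫ jY = jU.left ≫ φ.left)
    (hrange : φ.left ⁻¹ᵁ jY.opensRange = jU.left.opensRange)
    (U' : YU.left.Opens) :
    Function.Injective (φU.left.app U') ∧
      Set.range (φU.left.app U') = {f | GIT.IsInvSection aU φU U' f} := by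
  obtain ⟨hinj, hran⟩ := h.sections (jY ''ᵁ U')
  -- the two comparison isomorphisms
  have heY : Function.Bijective (jY.appLE (jY ''ᵁ U') U' (jY.preimage_image_eq U').ge) :=
    appLE_bijective jY (jY ''ᵁ U') (by rintro _ ⟨u, -, rfl⟩; exact ⟨u, rfl⟩) U'
      (jY.preimage_image_eq U').symm
  have heX : Function.Bijective (jU.left.appLE (φ.left ⁻¹ᵁ (jY ''ᵁ U')) (φU.left ⁻¹ᵁ U')
      (preimage_preimage_image hφU U').ge) :=
    appLE_bijective jU.left _ (preimage_image_le_opensRange hrange U') _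
      (preimage_preimage_image hφU U').symm
  -- the commutation
  have hcomm : jY.appLE (jY ''ᵁ U') U' (jY.preimage_image_eq U').ge ≫ φU.left.app U' =
      φ.left.app (jY ''ᵁ U') ≫ jU.left.appLE (φ.left ⁻¹ᵁ (jY ''ᵁ U')) (φU.left ⁻¹ᵁ U')
        (preimage_preimage_image hφU U').ge := by
    rw [Scheme.Hom.app_eq_appLE, Scheme.Hom.appLE_comp_appLE, Scheme.Hom.app_eq_appLE,
      Scheme.Hom.appLE_comp_appLE]
    exact appLE_congr' hφU _ _ _ _
  have hcomm' : ∀ s, φU.left.app U' (jY.appLE (jY ''ᵁ U') U' (jY.preimage_image_eq U').ge s) =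
      jU.left.appLE (φ.left ⁻¹ᵁ (jY ''ᵁ U')) (φU.left ⁻¹ᵁ U')
        (preimage_preimage_image hφU U').ge (φ.left.app (jY ''ᵁ U') s) := by
    intro s
    rw [← CommRingCat.comp_apply, hcomm, CommRingCat.comp_apply]
  constructor
  · intro s₁ s₂ he
    obtain ⟨t₁, rfl⟩ := heY.2 s₁
    obtain ⟨t₂, rfl⟩ := heY.2 s₂
    rw [hcomm', hcomm'] at he
    rw [hinj (heX.1 he)]
  · apply Set.Subset.antisymm
    · rintro _ ⟨s, rfl⟩
      exact isInvSection_app (inv_restrict h.inv haU hφU) U' s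
    · intro f' hf'
      obtain ⟨f, rfl⟩ := heX.2 f'
      have hf : GIT.IsInvSection a φ (jY ''ᵁ U') f :=
        (isInvSection_restrict_iff haU hφU hrange U' f).mp hf'
      have hf2 : f ∈ Set.range (φ.left.app (jY ''ᵁ U')) := by
        rw [hran]
        exact hf
      obtain ⟨s, rfl⟩ := hf2
      exact ⟨jY.appLE (jY ''ᵁ U') U' (jY.preimage_image_eq U').ge s, hcomm' s⟩

/-- A good quotient restricts to a good quotient over an open of the base. -/
theorem isGoodQuot_restrict [IsOpenImmersion jU.left] [IsOpenImmersion jY]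
    (h : NRQuot.IsGoodQuot a φ)
    (haU : aU.act ≫ jU = (G ◁ jU) ≫ a.act)
    (hφU : φU.left ≫ jY = jU.left ≫ φ.left)
    (hrange : φ.left ⁻¹ᵁ jY.opensRange = jU.left.opensRange) :
    NRQuot.IsGoodQuot aU φU where
  affine := affine_restrict h.affine hφU hrange
  inv := inv_restrict h.inv haU hφU
  sections := sections_restrict h haU hφU hrange
  closed := closed_restrict h haU hφU hrange
  inter := inter_restrict h haU hφU hrange

end sections

end Groth.Agent.R2.H95.GoodQuotOpen
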