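import Groth.Agent.R2.H95QcChart
import Groth.Agent.R2.H44LimRed
import Groth.Agent.Lib.Helper10SchDense

/-!
# Charts computing the scheme theoretic image: quasi-compact or reduced source (helper95)

`KerChart g` generalises `QcChart g` of `R2/H95QcChart`: instead of quasi-compactness of `h : W ⟶ U`
it only records that the kernel of `h` commutes with ETALE base change.  This holds when `h` is
quasi-compact (flat base change) and when `W` is reduced
(`ker_eq_comap_of_isPullback_of_isReduced`).  All consequences (`invariant`, `isSchImage`,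
`exists_iso_of_isSchImage`, `exists_isPullback_of_isSchImage`) hold for `KerChart`.
-/

set_option autoImplicit false
universe u
open CategoryTheory CategoryTheory.Limits AlgebraicGeometry Opposite
open AlgSp

set_option backward.isDefEq.respectTransparency false
set_option linter.style.haveILetI false

namespace Groth.Agent.R2.H95.KerCh

open Groth.Agent.S13210 Groth.Agent.R2.H48.ClosedSub Groth.Agent.R2.H48.SchImage
  Groth.Agent.R2.H95.SpEpi Groth.Agent.R2.H95.QcCh

/-- **smooth base change of the scheme theoretic image of a morphism with reduced source.** -/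
theorem ker_eq_comap_of_isPullback_of_isReduced {X Y X' Y' : Scheme.{u}} {f : X ⟶ Y} {g : Y' ⟶ Y}
    {g' : X' ⟶ X} {f' : X' ⟶ Y'} (sq : IsPullback g' f' f g) [IsReduced X] [Smooth g] :
    f'.ker = f.ker.comap g := by
  haveI : Smooth g' := MorphismProperty.of_isPullback sq.flip inferInstance
  haveI : IsReduced X' := Groth.Agent.Lib.Helper12.Reduced.isReduced_of_smooth g'
  have hopen : IsOpenMap g := g.isOpenMap
  have hr' : Set.range f' = g ⁻¹' Set.range f := by
    have e : f' = sq.isoPullback.hom ≫ pullback.snd f g := (sq.isoPullback_hom_snd).symm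
    rw [e, Scheme.Hom.comp_base, TopCat.coe_comp, Set.range_comp,
      Set.range_eq_univ.2 sq.isoPullback.hom.surjective, Set.image_univ,
      Scheme.Pullback.range_snd]
  rw [Groth.Agent.Lib.Helper10.RedInd.ker_eq_vanishingIdeal_of_isReduced f',
    Groth.Agent.Lib.Helper10.RedInd.ker_eq_vanishingIdeal_of_isReduced f]
  set C : TopologicalSpace.Closeds Y := .closure (Set.range f) with hC
  have hredC : IsReduced (Scheme.IdealSheafData.vanishingIdeal C).subscheme :=
    Groth.Agent.Lib.Helper10.RedInd.isReduced_subscheme_vanishingIdeal C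
  haveI : Smooth (pullback.snd g (Scheme.IdealSheafData.vanishingIdeal C).subschemeι) :=
    MorphismProperty.pullback_snd _ _ inferInstance
  haveI : IsReduced (pullback g (Scheme.IdealSheafData.vanishingIdeal C).subschemeι) :=
    Groth.Agent.Lib.Helper12.Reduced.isReduced_of_smooth
      (pullback.snd g (Scheme.IdealSheafData.vanishingIdeal C).subschemeι)
  change _ = (pullback.fst g (Scheme.IdealSheafData.vanishingIdeal C).subschemeι).ker
  rw [Groth.Agent.Lib.Helper10.RedInd.ker_eq_vanishingIdeal_of_isReduced]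
  congr 1
  ext1
  simp only [TopologicalSpace.Closeds.coe_closure]
  rw [hr', Scheme.Pullback.range_fst, Scheme.IdealSheafData.range_subschemeι,
    Scheme.IdealSheafData.coe_support_vanishingIdeal, hC, TopologicalSpace.Closeds.coe_closure,
    ← hopen.preimage_closure_eq_closure_preimage g.continuous]
  exact ((isClosed_closure.preimage g.continuous).closure_eq).symm

variable {S : Scheme.{u}}

/-- a chart of a morphism of fppf sheaves whose kernel ideal commutes with etale base change. -/
structure KerChart {V Y : AlgSp.Sp S} (g : V ⟶ Y) where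
  /-- the chart of the target -/
  U : Over S
  /-- the chart map -/
  p : (AlgSp.yon S).obj U ⟶ Y
  /-- the chart of the fibre product -/
  W : Over S
  /-- the map to the source -/
  a : (AlgSp.yon S).obj W ⟶ V
  /-- the map of charts -/
  h : W ⟶ U
  hpe : AlgSp.RepWith @Etale p
  hps : AlgSp.RepWith @Surjective p
  comm : a ≫ g = (AlgSp.yon S).map h ≫ p
  epi : Epi (pullback.lift a ((AlgSp.yon S).map h) comm : (AlgSp.yon S).obj W ⟶ pullback g p)
  fbc : ∀ {R : Over S} (t : R ⟶ U), Etale t.left →
    (pullback.snd h t).left.ker = h.left.ker.comap t.left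

/-- a quasi-compact chart is a kernel chart (flat base change). -/
noncomputable def _root_.Groth.Agent.R2.H95.QcCh.QcChart.toKerChart {V Y : AlgSp.Sp S} {g : V ⟶ Y}
    (c : QcChart g) : KerChart g where
  U := c.U
  p := c.p
  W := c.W
  a := c.a
  h := c.h
  hpe := c.hpe
  hps := c.hps
  comm := c.comm
  epi := c.epi
  fbc := fun t ht => by
    haveI := c.qc
    haveI : Etale t.left := ht
    exact Groth.Agent.R2.H83.SchImgBC.ker_eq_comap_of_isPullback
      ((IsPullback.of_hasPullback c.h t).map (Over.forget S))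

namespace KerChart

variable {V Y : AlgSp.Sp S} {g : V ⟶ Y} (c : KerChart g)

/-- the ideal of the scheme theoretic image on the chart. -/
noncomputable def ideal : c.U.left.IdealSheafData := c.h.left.ker

/-- every point of `V ×_Y R` factors through the scheme theoretic image of the base change of `h`. -/
theorem ker_le_ker_of_point {R W' : Over S} {t : R ⟶ c.U} {w' : W' ⟶ c.W} {h' : W' ⟶ R}
    (sq : IsPullback w' h' c.h t) {T : Over S} (x : (AlgSp.yon S).obj T ⟶ V) (b : T ⟶ R)
    (hxb : x ≫ g = (AlgSp.yon S).map (b ≫ t) ≫ c.p) : h'.left.ker ≤ b.left.ker := by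
  obtain ⟨q, hq2, hqe⟩ : ∃ q : (AlgSp.yon S).obj c.W ⟶ pullback g c.p,
      q ≫ pullback.snd g c.p = (AlgSp.yon S).map c.h ∧ Epi q :=
    ⟨_, pullback.lift_snd _ _ _, c.epi⟩
  let r' : (AlgSp.yon S).obj T ⟶ pullback g c.p := pullback.lift x ((AlgSp.yon S).map (b ≫ t)) hxb
  have hr'2 : r' ≫ pullback.snd g c.p = (AlgSp.yon S).map (b ≫ t) := pullback.lift_snd _ _ _
  haveI : Epi (pullback.fst r' q) := epi_of_isPullback (IsPullback.of_hasPullback r' q)
  have sqW := sq.map (AlgSp.yon S)
  have hcomp : pullback.snd r' q ≫ (AlgSp.yon S).map c.h =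
      (pullback.fst r' q ≫ (AlgSp.yon S).map b) ≫ (AlgSp.yon S).map t := by
    calc pullback.snd r' q ≫ (AlgSp.yon S).map c.h
        = (pullback.snd r' q ≫ q) ≫ pullback.snd g c.p := by rw [Category.assoc, hq2]
      _ = (pullback.fst r' q ≫ r') ≫ pullback.snd g c.p := by rw [pullback.condition]
      _ = (pullback.fst r' q ≫ (AlgSp.yon S).map b) ≫ (AlgSp.yon S).map t := by
          rw [Category.assoc, hr'2, Functor.map_comp, Category.assoc]
  let ℓ' : pullback r' q ⟶ (AlgSp.yon S).obj W' :=
    sqW.lift (pullback.snd r' q) (pullback.fst r' q ≫ (AlgSp.yon S).map b) hcomp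
  have hℓ' : ℓ' ≫ (AlgSp.yon S).map h' = pullback.fst r' q ≫ (AlgSp.yon S).map b :=
    sqW.lift_snd _ _ _
  obtain ⟨k, hk⟩ := (le_ker_iff_fac_yon h'.left.ker h').1 le_rfl
  obtain ⟨d, -, hd⟩ := exists_lift_of_epi_mono (pullback.fst r' q)
    ((AlgSp.yon S).map (ιU h'.left.ker)) (ℓ' ≫ k) ((AlgSp.yon S).map b) (by
      rw [Category.assoc, hk, hℓ'])
  exact (le_ker_iff_fac_yon h'.left.ker b).2 ⟨d, hd⟩

/-- every point of `V ×_Y U` factors through `V(ker h)`. -/
theorem ideal_le_ker_of_point {T : Over S} (x : (AlgSp.yon S).obj T ⟶ V) (b : T ⟶ c.U)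
    (hxb : x ≫ g = (AlgSp.yon S).map b ≫ c.p) : c.ideal ≤ b.left.ker :=
  c.ker_le_ker_of_point (t := 𝟙 c.U) IsPullback.of_id_fst x b (by rwa [Category.comp_id])

/-- the ideal of a kernel chart is invariant under `U ×_Y U`. -/
theorem invariant : Invariant c.p c.ideal := by
  intro T b₁ b₂ hb hle
  obtain ⟨pr₁, hpr₁⟩ := (AlgSp.yon S).map_surjective (c.hpe.rep.fst c.p)
  have sqR := c.hpe.rep.isPullback c.p
  rw [← hpr₁] at sqR
  set pr₂ := c.hpe.rep.snd c.p with hpr₂
  have het2 : Etale pr₂.left := c.hpe.property_snd c.p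
  have het1 : Etale pr₁.left := c.hpe.property c.p _ pr₁ sqR.flip
  obtain ⟨r, hr⟩ := (AlgSp.yon S).map_surjective (sqR.lift _ _ hb)
  have hr1 : r ≫ pr₁ = b₁ := by
    apply (AlgSp.yon S).map_injective
    rw [Functor.map_comp, hr]; exact sqR.lift_fst _ _ _
  have hr2 : r ≫ pr₂ = b₂ := by
    apply (AlgSp.yon S).map_injective
    rw [Functor.map_comp, hr]; exact sqR.lift_snd _ _ _
  have e1 : b₁.left = r.left ≫ pr₁.left := by rw [← hr1]; rfl
  have e2 : b₂.left = r.left ≫ pr₂.left := by rw [← hr2]; rfl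
  have sq2 := IsPullback.of_hasPullback c.h pr₂
  have F1 : (pullback.snd c.h pr₁).left.ker = c.ideal.comap pr₁.left := c.fbc pr₁ het1
  have F2 : (pullback.snd c.h pr₂).left.ker = c.ideal.comap pr₂.left := c.fbc pr₂ het2
  rw [e1, Scheme.Hom.ker_comp, Scheme.IdealSheafData.le_map_iff_comap_le, ← F1] at hle
  rw [e2, Scheme.Hom.ker_comp, Scheme.IdealSheafData.le_map_iff_comap_le, ← F2]
  refine le_trans ?_ hle
  refine c.ker_le_ker_of_point sq2 ((AlgSp.yon S).map (pullback.fst c.h pr₁) ≫ c.a)
    (pullback.snd c.h pr₁) ?_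
  rw [Category.assoc, c.comm, ← Functor.map_comp_assoc, pullback.condition, Functor.map_comp,
    Functor.map_comp, Category.assoc, Category.assoc, sqR.w]

/-- `g` factors through the closed subsheaf cut out by the ideal of a kernel chart. -/
theorem exists_factor : ∃ g' : V ⟶ obj c.p c.ideal, g' ≫ incl c.p c.ideal = g := by
  refine exists_lift c.p g (fun T x T' c' b hcb => ?_)
  refine c.ideal_le_ker_of_point ((AlgSp.yon S).map c' ≫ x) b ?_
  rw [Category.assoc]
  exact hcb

/-- **the scheme theoretic image of a morphism with a kernel chart.** -/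
theorem isSchImage : AlgSp.IsSchImage g (incl c.p c.ideal) := by
  refine ⟨repWith_incl c.invariant c.hpe c.hps, c.exists_factor, ?_⟩
  intro Z' i' _ hi' hf''
  obtain ⟨f'', hf''⟩ := hf''
  obtain ⟨J', hJ'⟩ := exists_cutsOut c.p hi'
  haveI : Mono i' := Groth.Agent.S9928.mono_of_repWith @IsClosedImmersion (fun X Y g hg => by
    haveI : IsClosedImmersion g := hg
    infer_instance) i' hi'
  refine exists_factor_of_le c.invariant c.hpe c.hps hJ' ?_
  rw [ideal, hJ' c.W c.h]
  exact ⟨c.a ≫ f'', by rw [Category.assoc, hf'', c.comm]⟩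

/-- any scheme theoretic image of `g` is isomorphic over `Y` to the one of the chart. -/
theorem exists_iso_of_isSchImage (hY : AlgSp.IsAlgSpace Y) {Z : AlgSp.Sp S} (i : Z ⟶ Y)
    (hZ : AlgSp.IsAlgSpace Z) (hi : AlgSp.IsSchImage g i) :
    ∃ e : Z ≅ obj c.p c.ideal, e.hom ≫ incl c.p c.ideal = i := by
  have hc := c.isSchImage
  obtain ⟨k₁, hk₁⟩ := hi.2.2 (incl c.p c.ideal)
    (isAlgSpace_obj hY c.invariant c.hpe c.hps) hc.1 hc.2.1
  obtain ⟨k₂, hk₂⟩ := hc.2.2 i hZ hi.1 hi.2.1
  haveI : Mono i := Groth.Agent.S9928.mono_of_repWith @IsClosedImmersion (fun X Y g hg => by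
    haveI : IsClosedImmersion g := hg
    infer_instance) i hi.1
  refine ⟨⟨k₁, k₂, ?_, ?_⟩, hk₁⟩
  · rw [← cancel_mono i, Category.assoc, hk₂, hk₁, Category.id_comp]
  · rw [← cancel_mono (incl c.p c.ideal), Category.assoc, hk₁, hk₂, Category.id_comp]

end KerChart

end Groth.Agent.R2.H95.KerCh
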