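import Groth.Prelude.Def_W4c6modpairsegaMP
import Groth.Agent.Lib.Helper20EffCartier

/-!
# H95 — small toolkit for modulus pairs (effective Cartier ideal sheaves)

General-purpose lemmas about `BlowUp.IsEffCartierIdeal`, `ModPair.interior` and scheme-theoretic
images, used for the `ModPair` statements.
-/

set_option autoImplicit false
universe u
open CategoryTheory CategoryTheory.Limits AlgebraicGeometry TopologicalSpace

namespace Groth.Agent.R2.H95.ModPairLib

open Groth.Agent.Lib.Helper20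

/-- Membership in the support of a principal ideal sheaf on an affine open. -/
theorem mem_support_iff_notMem_basicOpen {X : Scheme.{u}} (A : X.IdealSheafData) {V : X.Opens}
    (hV : IsAffineOpen V) (x : Γ(X, V)) (hA : A.ideal ⟨V, hV⟩ = Ideal.span {x}) (q : X)
    (hq : q ∈ V) : q ∈ A.support ↔ q ∉ X.basicOpen x := by
  rw [Scheme.IdealSheafData.mem_support_iff_of_mem (U := ⟨V, hV⟩) hq, hA,
    Scheme.zeroLocus_span, Scheme.zeroLocus_singleton]
  rfl

/-- A section whose basic open is everything is a unit. -/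
theorem isUnit_of_le_basicOpen {X : Scheme.{u}} {U : X.Opens} (f : Γ(X, U))
    (h : U ≤ X.basicOpen f) : IsUnit f :=
  RingedSpace.isUnit_of_isUnit_germ X.toRingedSpace U f fun x hx =>
    (X.mem_basicOpen f x hx).mp (h hx)

set_option backward.isDefEq.respectTransparency.types false in
/-- Quasi-compactness of an open inclusion can be checked on an affine cover. -/
theorem quasiCompact_ι_of_cover {Y : Scheme.{u}} {U₀ : Y.Opens} {ι : Type*}
    (V : ι → Y.affineOpens) (hcover : ⨆ i, ((V i : Y.affineOpens) : Y.Opens) = ⊤)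
    (h : ∀ i, IsCompact (((V i).1 : Set Y) ∩ (U₀ : Set Y))) : QuasiCompact U₀.ι := by
  rw [HasAffineProperty.iff_of_iSup_eq_top (P := @QuasiCompact)
      (Q := fun X _ _ _ => CompactSpace X) V hcover]
  intro i
  show CompactSpace ↥(U₀.ι ⁻¹ᵁ (V i).1)
  suffices hc : IsCompact ((U₀.ι ⁻¹ᵁ (V i).1 : U₀.toScheme.Opens) : Set U₀.toScheme) from
    isCompact_iff_compactSpace.mp hc
  rw [U₀.ι.isOpenEmbedding.isInducing.isCompact_iff]
  have himg : U₀.ι.base '' (U₀.ι ⁻¹ᵁ (V i).1 : Set U₀) = ((V i).1 : Set Y) ∩ (U₀ : Set Y) := by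
    ext z
    constructor
    · rintro ⟨w, hw, rfl⟩
      exact ⟨hw, w.2⟩
    · rintro ⟨hzV, hz0⟩
      exact ⟨⟨z, hz0⟩, hzV, rfl⟩
  rw [himg]
  exact h i

/-- The interior of a modulus pair meets an affine open on which the modulus is principal in
the basic open of the generator. -/
theorem inter_interior_eq_basicOpen {S : Scheme.{u}} (I : S.IdealSheafData) {W : S.Opens}
    (hW : IsAffineOpen W) (x : Γ(S, W)) (hx : I.ideal ⟨W, hW⟩ = Ideal.span {x}) :
    (W : Set S) ∩ (ModPair.interior I : Set S) = (S.basicOpen x : Set S) := by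
  ext z
  constructor
  · rintro ⟨hzW, hz⟩
    have hz' : z ∉ I.support := hz
    rw [mem_support_iff_notMem_basicOpen I hW x hx z hzW, not_not] at hz'
    exact hz'
  · intro hz
    have hzW : z ∈ W := S.basicOpen_le x hz
    refine ⟨hzW, ?_⟩
    show z ∉ I.support
    rw [mem_support_iff_notMem_basicOpen I hW x hx z hzW, not_not]
    exact hz

/-- The inclusion of the interior of a modulus pair is quasi-compact (it is even affine). -/
theorem quasiCompact_interior_ι {S : Scheme.{u}} {I : S.IdealSheafData}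
    (hI : BlowUp.IsEffCartierIdeal I) : QuasiCompact (ModPair.interior I).ι := by
  choose W hsW x hx hIx using hI
  have hcover : ⨆ s, ((W s : S.affineOpens) : S.Opens) = ⊤ := by
    rw [eq_top_iff]
    rintro s -
    exact Opens.mem_iSup.mpr ⟨s, hsW s⟩
  refine quasiCompact_ι_of_cover W hcover fun s => ?_
  rw [inter_interior_eq_basicOpen I (W s).2 (x s) (hIx s)]
  exact ((W s).2.basicOpen (x s)).isCompact

/-- Every point of a modulus pair is a specialisation of a point of the interior. -/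
theorem exists_specializes_of_isEffCartierIdeal {S : Scheme.{u}} {I : S.IdealSheafData}
    (hI : BlowUp.IsEffCartierIdeal I) (s : S) :
    ∃ u : S, u ∈ ModPair.interior I ∧ u ⤳ s := by
  obtain ⟨W, hsW, x, hx, hIx⟩ := hI s
  have hW : IsAffineOpen W.1 := W.2
  set 𝔭 := hW.primeIdealOf ⟨s, hsW⟩ with h𝔭
  obtain ⟨q, hq, hq𝔭⟩ := Ideal.exists_minimalPrimes_le (I := ⊥) (J := 𝔭.asIdeal) bot_le
  have hqprime : q.IsPrime := hq.1.1
  have hxq : x ∉ q := fun h =>
    (Ideal.disjoint_nonZeroDivisors_of_mem_minimalPrimes hq).le_bot ⟨h, hx⟩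
  let y : Spec Γ(S, W.1) := (⟨q, hqprime⟩ : PrimeSpectrum Γ(S, W.1))
  have hy𝔭 : y ⤳ 𝔭 := (PrimeSpectrum.le_iff_specializes y 𝔭).mp hq𝔭
  have hspec : hW.fromSpec.base y ⤳ hW.fromSpec.base 𝔭 :=
    hy𝔭.map hW.fromSpec.continuous
  have h𝔭s : hW.fromSpec.base 𝔭 = s := hW.fromSpec_primeIdealOf ⟨s, hsW⟩
  rw [h𝔭s] at hspec
  refine ⟨hW.fromSpec.base y, ?_, hspec⟩
  have hyW : hW.fromSpec.base y ∈ W.1 := by
    have h0 : hW.fromSpec.base y ∈ hW.fromSpec.opensRange := ⟨y, rfl⟩
    rwa [hW.opensRange_fromSpec] at h0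
  show hW.fromSpec.base y ∉ I.support
  rw [mem_support_iff_notMem_basicOpen I hW x hIx _ hyW, not_not]
  have h1 : y ∈ hW.fromSpec ⁻¹ᵁ S.basicOpen x := by
    rw [hW.fromSpec_preimage_basicOpen]
    exact hxq
  exact h1

/-- If a quasi-compact morphism lands in the interior of a modulus pair, the modulus restricted
to its scheme-theoretic image is again effective Cartier. -/
theorem isEffCartierIdeal_comap_imageι {V S : Scheme.{u}} (f : V ⟶ S) [QuasiCompact f]
    {I : S.IdealSheafData} (hI : BlowUp.IsEffCartierIdeal I)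
    (hf : ∀ w : V, f.base w ∈ ModPair.interior I) :
    BlowUp.IsEffCartierIdeal (I.comap f.imageι) := by
  intro v
  obtain ⟨W, hsW, x, hx, hIx⟩ := hI (f.imageι.base v)
  have hW' : IsAffineOpen (f.imageι ⁻¹ᵁ W.1) := W.2.preimage f.imageι
  refine ⟨⟨f.imageι ⁻¹ᵁ W.1, hW'⟩, hsW, (f.imageι.app W.1).hom x, ?_, ?_⟩
  · -- nonzerodivisor
    have hunit : IsUnit ((f.toImage.app (f.imageι ⁻¹ᵁ W.1)).hom ((f.imageι.app W.1).hom x)) := by
      apply isUnit_of_le_basicOpen
      intro w hw
      have h1 : f.toImage ⁻¹ᵁ (f.image.basicOpen ((f.imageι.app W.1).hom x)) =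
          V.basicOpen ((f.toImage.app (f.imageι ⁻¹ᵁ W.1)).hom ((f.imageι.app W.1).hom x)) :=
        Scheme.preimage_basicOpen f.toImage _
      have h2 : f.imageι ⁻¹ᵁ (S.basicOpen x) = f.image.basicOpen ((f.imageι.app W.1).hom x) :=
        Scheme.preimage_basicOpen f.imageι _
      rw [← h1, ← h2]
      show f.imageι.base (f.toImage.base w) ∈ S.basicOpen x
      have h3 : f.imageι.base (f.toImage.base w) = f.base w := by
        rw [← Scheme.Hom.comp_apply, f.toImage_imageι]
      have h4 : f.base w ∈ W.1 := by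
        rw [← h3]
        exact hw
      have h5 : f.base w ∉ I.support := hf w
      rw [mem_support_iff_notMem_basicOpen I W.2 x hIx _ h4, not_not] at h5
      rw [h3]
      exact h5
    rw [mem_nonZeroDivisors_iff_right]
    intro z hz
    obtain ⟨a, rfl⟩ := f.ker.subschemeι_app_surjective W z
    have h6 := congrArg (f.toImage.app (f.imageι ⁻¹ᵁ W.1)).hom hz
    rw [map_mul, map_zero] at h6
    have h7 : (f.toImage.app (f.imageι ⁻¹ᵁ W.1)).hom ((f.imageι.app W.1).hom a) = 0 :=
      (hunit.mul_left_eq_zero).mp h6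
    exact f.toImage_app_injective W (by rw [h7, map_zero])
  · rw [EffCartier.ideal_comap_eq_map f.imageι I hW' W.2 le_rfl, hIx, Ideal.map_span,
      Set.image_singleton, Scheme.Hom.appLE_eq_app]

end Groth.Agent.R2.H95.ModPairLib
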