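import Mathlib

/-!
# H95 — devissage along a nilpotent ideal with free graded pieces (algebraic core of S6063)
-/

set_option autoImplicit false
open TensorProduct

namespace Groth.Agent.R2.H95.NilpDev

variable {A : Type*} [CommRing A] (J : Ideal A) {M : Type*} [AddCommGroup M] [Module A M]

/-- The canonical map `M → (A/J) ⊗ M`. -/
noncomputable def pi : M →ₗ[A] (A ⧸ J) ⊗[A] M := TensorProduct.mk A (A ⧸ J) M 1

theorem pi_apply (m : M) : pi J m = (1 : A ⧸ J) ⊗ₜ[A] m := rfl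

theorem pi_eq_zero_iff (m : M) : pi J m = 0 ↔ m ∈ J • (⊤ : Submodule A M) := by
  rw [pi_apply, ← (quotTensorEquivQuotSMul M J).map_eq_zero_iff]
  have h1 : (1 : A ⧸ J) = Ideal.Quotient.mk J 1 := rfl
  rw [h1, quotTensorEquivQuotSMul_mk_tmul, one_smul, Submodule.Quotient.mk_eq_zero]

theorem pi_surjective : Function.Surjective (pi J : M → (A ⧸ J) ⊗[A] M) := by
  intro x
  induction x using TensorProduct.induction_on with
  | zero => exact ⟨0, map_zero _⟩
  | tmul r m =>
    obtain ⟨a, rfl⟩ := Ideal.Quotient.mk_surjective r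
    refine ⟨a • m, ?_⟩
    rw [pi_apply, TensorProduct.tmul_smul, TensorProduct.smul_tmul']
    congr 1
    rw [Algebra.smul_def, mul_one]
    rfl
  | add x y hx hy =>
    obtain ⟨a, rfl⟩ := hx
    obtain ⟨b, rfl⟩ := hy
    exact ⟨a + b, map_add _ _ _⟩

/-- The image of `(J • ⊤) ⊗ P` in `M ⊗ P`. -/
noncomputable def NP (M : Type*) [AddCommGroup M] [Module A M] (P : Type*) [AddCommGroup P]
    [Module A P] : Submodule A (M ⊗[A] P) :=
  LinearMap.range ((J • (⊤ : Submodule A M)).subtype.rTensor P)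

theorem tmul_mem_NP {P : Type*} [AddCommGroup P] [Module A P] {m : M}
    (hm : m ∈ J • (⊤ : Submodule A M)) (p : P) : m ⊗ₜ[A] p ∈ NP J M P :=
  ⟨(⟨m, hm⟩ : ↥(J • (⊤ : Submodule A M))) ⊗ₜ[A] p, rfl⟩

theorem lTensor_mem_NP {P Q : Type*} [AddCommGroup P] [Module A P] [AddCommGroup Q] [Module A Q]
    (g : P →ₗ[A] Q) {τ : M ⊗[A] P} (hτ : τ ∈ NP J M P) : g.lTensor M τ ∈ NP J M Q := by
  obtain ⟨ν, rfl⟩ := hτ
  refine ⟨g.lTensor _ ν, ?_⟩
  rw [← LinearMap.comp_apply, ← LinearMap.comp_apply]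
  congr 1
  exact TensorProduct.ext' fun _ _ => rfl

/-- A linear functional `M → A/J` vanishes on `J • ⊤`, hence its tensor with `P` kills `NP`. -/
theorem rTensor_eq_zero_of_mem_NP {P : Type*} [AddCommGroup P] [Module A P]
    (ρ : M →ₗ[A] A ⧸ J) {τ : M ⊗[A] P} (hτ : τ ∈ NP J M P) : ρ.rTensor P τ = 0 := by
  obtain ⟨ν, rfl⟩ := hτ
  rw [← LinearMap.comp_apply, ← LinearMap.rTensor_comp]
  have h0 : ρ ∘ₗ (J • (⊤ : Submodule A M)).subtype = 0 := by
    ext ⟨m, hm⟩
    simp only [LinearMap.comp_apply, Submodule.subtype_apply, LinearMap.zero_apply]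
    refine Submodule.smul_induction_on hm ?_ ?_
    · intro j hj n _
      rw [map_smul, Algebra.smul_def, Ideal.Quotient.algebraMap_eq,
        Ideal.Quotient.eq_zero_iff_mem.mpr hj, zero_mul]
    · intro x y hx hy
      rw [map_add, hx, hy, add_zero]
  rw [h0, LinearMap.rTensor_zero, LinearMap.zero_apply]


theorem NP_eq_ker (P : Type*) [AddCommGroup P] [Module A P] :
    NP J M P = LinearMap.ker ((pi J : M →ₗ[A] (A ⧸ J) ⊗[A] M).rTensor P) := by
  have hex : Function.Exact (J • (⊤ : Submodule A M)).subtype (pi J : M →ₗ[A] (A ⧸ J) ⊗[A] M) := by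
    intro m
    rw [pi_eq_zero_iff]
    constructor
    · intro hm
      exact ⟨⟨m, hm⟩, rfl⟩
    · rintro ⟨⟨m', hm'⟩, rfl⟩
      exact hm'
  have := rTensor_exact P hex (pi_surjective J)
  rw [LinearMap.exact_iff] at this
  exact this.symm

/-- A basis of `N` over `A/J` detects vanishing in `N ⊗[A] P` through its coordinate functionals. -/
theorem eq_zero_of_coord {N : Type*} [AddCommGroup N] [Module A N] [Module (A ⧸ J) N]
    [IsScalarTower A (A ⧸ J) N] {Λ : Type*} (b : Module.Basis Λ (A ⧸ J) N)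
    {P : Type*} [AddCommGroup P] [Module A P] (x : N ⊗[A] P)
    (h : ∀ l, ((b.coord l).restrictScalars A).rTensor P x = 0) : x = 0 := by
  classical
  let e : N ⊗[A] P ≃ₗ[A] (Λ →₀ (A ⧸ J) ⊗[A] P) :=
    (LinearEquiv.rTensor P (b.repr.restrictScalars A)) ≪≫ₗ
      TensorProduct.finsuppLeft A A (A ⧸ J) P Λ
  apply e.injective
  rw [map_zero]
  ext l
  rw [Finsupp.zero_apply, ← h l]
  show TensorProduct.finsuppLeft A A (A ⧸ J) P Λ
    ((LinearEquiv.rTensor P (b.repr.restrictScalars A)) x) l = _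
  rw [TensorProduct.finsuppLeft_apply]
  show (LinearMap.rTensor P (Finsupp.lapply l))
    ((LinearMap.rTensor P (b.repr.restrictScalars A).toLinearMap) x) = _
  rw [← LinearMap.comp_apply, ← LinearMap.rTensor_comp]
  rfl

/-- **Lemma X**: if `(A/J) ⊗ M` is free over `A/J`, and the family `g w : B → C w` detects
membership in `J • ⊤`, then `M ⊗ -` of the family detects membership in `NP`. -/
theorem mem_NP_of_forall {Λ : Type*} (b : Module.Basis Λ (A ⧸ J) ((A ⧸ J) ⊗[A] M))
    {B : Type*} [AddCommGroup B] [Module A B] {ι : Type*} {C : ι → Type*}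
    [∀ w, AddCommGroup (C w)] [∀ w, Module A (C w)] (g : ∀ w, B →ₗ[A] C w)
    (h0 : ∀ β : B, (∀ w, g w β ∈ J • (⊤ : Submodule A (C w))) → β ∈ J • (⊤ : Submodule A B))
    (τ : M ⊗[A] B) (hτ : ∀ w, (g w).lTensor M τ ∈ NP J M (C w)) : τ ∈ NP J M B := by
  rw [NP_eq_ker, LinearMap.mem_ker]
  apply eq_zero_of_coord J b
  intro l
  set ρ : M →ₗ[A] A ⧸ J := ((b.coord l).restrictScalars A) ∘ₗ pi J with hρ
  have h1 : ((b.coord l).restrictScalars A).rTensor B ((pi J : M →ₗ[A] _).rTensor B τ)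
      = ρ.rTensor B τ := by
    rw [← LinearMap.comp_apply, ← LinearMap.rTensor_comp]
  rw [h1]
  -- `ρ.rTensor B τ ∈ (A/J) ⊗ B` is `pi J β` for some `β`.
  obtain ⟨β, hβ⟩ := pi_surjective J (ρ.rTensor B τ)
  rw [← hβ, pi_eq_zero_iff]
  apply h0
  intro w
  rw [← pi_eq_zero_iff]
  have h2 : pi J (g w β) = (g w).lTensor (A ⧸ J) (pi J β) := by
    rw [pi_apply, pi_apply, LinearMap.lTensor_tmul]
  rw [h2, hβ]
  have h3 : (g w).lTensor (A ⧸ J) (ρ.rTensor B τ) = ρ.rTensor (C w) ((g w).lTensor M τ) := by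
    rw [← LinearMap.comp_apply, ← LinearMap.comp_apply, LinearMap.lTensor_comp_rTensor,
      LinearMap.rTensor_comp_lTensor]
  rw [h3]
  exact rTensor_eq_zero_of_mem_NP J ρ (hτ w)

/-- The multiplication map `I ⊗ P → P`. -/
noncomputable def mu (I : Ideal A) (P : Type*) [AddCommGroup P] [Module A P] : ↥I ⊗[A] P →ₗ[A] P :=
  (TensorProduct.lid A P).toLinearMap ∘ₗ (Submodule.subtype I).rTensor P

theorem mu_tmul (I : Ideal A) {P : Type*} [AddCommGroup P] [Module A P] (x : ↥I) (p : P) :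
    mu I P (x ⊗ₜ[A] p) = (x : A) • p := by
  simp [mu]

theorem mu_injective_of_flat (I : Ideal A) (P : Type*) [AddCommGroup P] [Module A P]
    [Module.Flat A P] : Function.Injective (mu I P) := by
  unfold mu
  rw [LinearMap.coe_comp]
  exact (TensorProduct.lid A P).injective.comp
    (Module.Flat.rTensor_preserves_injective_linearMap _ Subtype.val_injective)

theorem mu_lTensor (I : Ideal A) {P Q : Type*} [AddCommGroup P] [Module A P] [AddCommGroup Q]
    [Module A Q] (g : P →ₗ[A] Q) (τ : ↥I ⊗[A] P) : mu I Q (g.lTensor _ τ) = g (mu I P τ) := by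
  induction τ using TensorProduct.induction_on with
  | zero => simp
  | tmul x p => rw [LinearMap.lTensor_tmul, mu_tmul, mu_tmul, map_smul]
  | add x y hx hy => rw [map_add, map_add, hx, hy, map_add, map_add]

theorem exists_mu_eq (I : Ideal A) {P : Type*} [AddCommGroup P] [Module A P] {t : P}
    (ht : t ∈ I • (⊤ : Submodule A P)) : ∃ τ, mu I P τ = t := by
  refine Submodule.smul_induction_on ht ?_ ?_
  · intro i hi p _
    exact ⟨(⟨i, hi⟩ : ↥I) ⊗ₜ[A] p, mu_tmul I _ _⟩
  · rintro x y ⟨a, rfl⟩ ⟨b, rfl⟩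
    exact ⟨a + b, map_add _ _ _⟩

theorem coe_mem_pow_succ_of_mem_smul_top (k : ℕ) {x : ↥(J ^ k)}
    (hx : x ∈ J • (⊤ : Submodule A ↥(J ^ k))) : (x : A) ∈ J ^ (k + 1) := by
  refine Submodule.smul_induction_on hx ?_ ?_
  · intro j hj y _
    rw [pow_succ']
    exact Ideal.mul_mem_mul hj y.2
  · intro x y hx hy
    exact Ideal.add_mem _ hx hy

theorem mu_mem_of_mem_NP (k : ℕ) {P : Type*} [AddCommGroup P] [Module A P] {τ : ↥(J ^ k) ⊗[A] P}
    (hτ : τ ∈ NP J (↥(J ^ k)) P) : mu (J ^ k) P τ ∈ (J ^ (k + 1)) • (⊤ : Submodule A P) := by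
  obtain ⟨ν, rfl⟩ := hτ
  induction ν using TensorProduct.induction_on with
  | zero => simp
  | tmul x p =>
    rw [LinearMap.rTensor_tmul, mu_tmul]
    exact Submodule.smul_mem_smul (coe_mem_pow_succ_of_mem_smul_top J k x.2) Submodule.mem_top
  | add x y hx hy =>
    rw [map_add, map_add]
    exact Submodule.add_mem _ hx hy

/-- **Main algebraic devissage.**  `J` nilpotent with `(A/J) ⊗ J^k` free over `A/J` for all `k`;
`g w : B → C w` a family of `A`-linear maps into flat `A`-modules which detects membership in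
`J • ⊤`.  Then the family is jointly injective. -/
theorem eq_zero_of_forall (hJ : IsNilpotent J)
    (hfree : ∀ k : ℕ, Module.Free (A ⧸ J) ((A ⧸ J) ⊗[A] ↥(J ^ k)))
    {B : Type*} [AddCommGroup B] [Module A B] {ι : Type*} {C : ι → Type*}
    [∀ w, AddCommGroup (C w)] [∀ w, Module A (C w)] [∀ w, Module.Flat A (C w)]
    (g : ∀ w, B →ₗ[A] C w)
    (h0 : ∀ β : B, (∀ w, g w β ∈ J • (⊤ : Submodule A (C w))) → β ∈ J • (⊤ : Submodule A B))
    (t : B) (ht : ∀ w, g w t = 0) : t = 0 := by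
  have key : ∀ k : ℕ, t ∈ (J ^ k) • (⊤ : Submodule A B) := by
    intro k
    induction k with
    | zero =>
      rw [pow_zero, Ideal.one_eq_top, Submodule.top_smul]
      exact Submodule.mem_top
    | succ k ih =>
      obtain ⟨τ, rfl⟩ := exists_mu_eq (J ^ k) ih
      have := hfree k
      apply mu_mem_of_mem_NP J k
      apply mem_NP_of_forall J (Module.Free.chooseBasis (A ⧸ J) ((A ⧸ J) ⊗[A] ↥(J ^ k))) g h0
      intro w
      have h1 : (g w).lTensor _ τ = 0 := by
        apply mu_injective_of_flat (J ^ k) (C w)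
        rw [mu_lTensor, ht w, map_zero]
      rw [h1]
      exact Submodule.zero_mem _
  obtain ⟨n, hn⟩ := hJ
  have := key n
  rw [hn] at this
  simpa using this


/-- Ring-hom form of `eq_zero_of_forall`. -/
theorem eq_zero_of_forall_ringHom {A B : Type*} [CommRing A] [CommRing B] (J : Ideal A)
    (hJ : IsNilpotent J)
    (hfree : ∀ k : ℕ, Module.Free (A ⧸ J) ((A ⧸ J) ⊗[A] ↥(J ^ k)))
    {ι : Type*} {C : ι → Type*} [∀ w, CommRing (C w)]
    (φ : A →+* B) (ψ : ∀ w, A →+* C w) (g : ∀ w, B →+* C w)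
    (hg : ∀ w, (g w).comp φ = ψ w) (hflat : ∀ w, (ψ w).Flat)
    (h0 : ∀ β : B, (∀ w, g w β ∈ J.map (ψ w)) → β ∈ J.map φ)
    (t : B) (ht : ∀ w, g w t = 0) : t = 0 := by
  letI := φ.toAlgebra
  letI : ∀ w, Algebra A (C w) := fun w => (ψ w).toAlgebra
  haveI : ∀ w, Module.Flat A (C w) := fun w => hflat w
  let g' : ∀ w, B →ₗ[A] C w := fun w =>
    { toFun := g w
      map_add' := map_add _
      map_smul' := fun a b => by
        rw [Algebra.smul_def, Algebra.smul_def, map_mul, RingHom.id_apply]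
        congr 1
        exact congrArg (fun f => f a) (hg w) }
  refine eq_zero_of_forall J hJ hfree g' ?_ t ht
  intro β hβ
  rw [Ideal.smul_top_eq_map]
  refine h0 β fun w => ?_
  have := hβ w
  rw [Ideal.smul_top_eq_map] at this
  exact this

end Groth.Agent.R2.H95.NilpDev
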