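import Groth.Agent.R2.H48SchImage
import Groth.Agent.Lib.Helper9ShfGrp

/-!
# Epi/mono lifting in fppf sheaves and factorisation through closed subschemes (helper95)

* `hom_ext_points`: maps out of an fppf sheaf are determined by their values on scheme points.
* `exists_lift_of_epi_mono`: the diagonal filler of a commutative square `epi / mono` in `AlgSp.Sp S`.
* `epi_of_isPullback`: base change of an epimorphism of sheaves is an epimorphism.
* `le_ker_iff_fac`: `I ≤ b.ker` iff `b` factors through the closed subscheme `V(I)` (over `S`).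
-/

set_option autoImplicit false
universe u
open CategoryTheory CategoryTheory.Limits AlgebraicGeometry Opposite
open AlgSp

set_option backward.isDefEq.respectTransparency false
set_option linter.style.haveILetI false

namespace Groth.Agent.R2.H95.SpEpi

open Groth.Agent.S13210 Groth.Agent.R2.H48.ClosedSub

variable {S : Scheme.{u}}

/-- maps out of a sheaf agree if they agree on all scheme valued points. -/
theorem hom_ext_points {F G : AlgSp.Sp S} (l l' : F ⟶ G)
    (h : ∀ (T : Over S) (x : (AlgSp.yon S).obj T ⟶ F), x ≫ l = x ≫ l') : l = l' := by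
  apply ObjectProperty.hom_ext
  ext ⟨T⟩ s
  have h1 := h T ((yEquiv T F).symm s)
  rw [yEquiv_symm_comp, yEquiv_symm_comp] at h1
  exact (yEquiv T G).symm.injective h1

/-- the diagonal filler for an epimorphism against a monomorphism of fppf sheaves. -/
theorem exists_lift_of_epi_mono {A B C D : AlgSp.Sp S} (e : A ⟶ B) [Epi e] (m : C ⟶ D) [Mono m]
    (u : A ⟶ C) (v : B ⟶ D) (w : u ≫ m = e ≫ v) : ∃ d : B ⟶ C, e ≫ d = u ∧ d ≫ m = v := by
  obtain ⟨d, hd⟩ := Groth.Agent.Lib.Helper9.ToposLike.exists_desc_of_epi e inferInstance u (by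
    intro W a₁ a₂ ha
    rw [← cancel_mono m, Category.assoc, Category.assoc, w, ← Category.assoc, ← Category.assoc, ha])
  refine ⟨d, hd, ?_⟩
  rw [← cancel_epi e, ← Category.assoc, hd, w]

/-- base change of an epimorphism of fppf sheaves (`f` is the bottom, `f'` the top arrow). -/
theorem epi_of_isPullback {X' Y' X Y : AlgSp.Sp S} {f' : X' ⟶ Y'} {i₁ : X' ⟶ X} {i₂ : Y' ⟶ Y}
    {f : X ⟶ Y} (h : IsPullback f' i₁ i₂ f) [Epi f] : Epi f' :=
  Groth.Agent.Lib.Helper9.ToposLike.epi_of_isPullback h inferInstance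

/-- `I ≤ b.ker` iff `b` factors through the closed subscheme cut out by `I`. -/
theorem le_ker_iff_fac {U : Over S} (I : U.left.IdealSheafData) {T : Over S} (b : T ⟶ U) :
    I ≤ b.left.ker ↔ ∃ b' : T ⟶ ZU I, b' ≫ ιU I = b := by
  constructor
  · intro hle
    have hle' : I.subschemeι.ker ≤ b.left.ker := by rwa [Scheme.IdealSheafData.ker_subschemeι]
    let l : T.left ⟶ (ZU I).left := IsClosedImmersion.lift I.subschemeι b.left hle'
    have hl : l ≫ I.subschemeι = b.left := IsClosedImmersion.lift_fac _ _ _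
    refine ⟨Over.homMk l (by
      change l ≫ I.subschemeι ≫ U.hom = T.hom
      rw [← Category.assoc, hl, Over.w b]), ?_⟩
    ext
    exact hl
  · rintro ⟨b', rfl⟩
    have h1 := Scheme.Hom.le_ker_comp b'.left I.subschemeι
    rwa [Scheme.IdealSheafData.ker_subschemeι] at h1

/-- sheaf level version of `le_ker_iff_fac`. -/
theorem le_ker_iff_fac_yon {U : Over S} (I : U.left.IdealSheafData) {T : Over S} (b : T ⟶ U) :
    I ≤ b.left.ker ↔ ∃ b' : (AlgSp.yon S).obj T ⟶ (AlgSp.yon S).obj (ZU I),
      b' ≫ (AlgSp.yon S).map (ιU I) = (AlgSp.yon S).map b := by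
  rw [le_ker_iff_fac]
  constructor
  · rintro ⟨b', rfl⟩
    exact ⟨(AlgSp.yon S).map b', by rw [Functor.map_comp]⟩
  · rintro ⟨b', hb'⟩
    obtain ⟨b'', rfl⟩ := (AlgSp.yon S).map_surjective b'
    rw [← Functor.map_comp] at hb'
    exact ⟨b'', (AlgSp.yon S).map_injective hb'⟩

instance {U : Over S} (I : U.left.IdealSheafData) : Mono ((AlgSp.yon S).map (ιU I)) := by
  haveI : Mono (ιU I) := inferInstance
  infer_instance

end Groth.Agent.R2.H95.SpEpi
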