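import Mathlib
import Groth.Prelude.Def_AlgSpMor5
import Groth.Agent.R2.H95SpEpi

/-!
# Relative normalization of algebraic spaces by étale descent: interface (helper95)

`StableNorm P b ν η`: for `b : FU ⟶ h_U`, the factorisation `FU ⟶ h_N ⟶ h_U` is a relative
normalization (`AlgSp.IsRelNormalization`) and remains one after every base change along a
morphism of schemes `g : W ⟶ U` with `P g`.

Packages (statements as `Prop`s, proved in other files):
* `SchStableStmt`: the Mathlib normalization of a qcqs morphism of schemes is `StableNorm @Smooth`.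
* `AffStableStmt`: a qcqs morphism from an algebraic space to an affine scheme has a normalization
  stable under smooth base change to affine schemes.
-/

set_option autoImplicit false
universe u
open CategoryTheory CategoryTheory.Limits AlgebraicGeometry Opposite
open AlgSp

set_option backward.isDefEq.respectTransparency false
set_option linter.style.haveILetI false

namespace Groth.Agent.R2.H95.NormSpec

variable {S : Scheme.{u}}

/-- `(ν, η)` is a relative normalization of `b : FU ⟶ h_U`, and stays one after every base change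
along `g : W ⟶ U` with `P g` (all pullback squares quantified, none chosen). -/
def StableNorm (P : MorphismProperty Scheme.{u}) {FU : AlgSp.Sp S} {U N : Over S}
    (b : FU ⟶ (AlgSp.yon S).obj U) (ν : N ⟶ U) (η : FU ⟶ (AlgSp.yon S).obj N) : Prop :=
  ∀ ⦃W : Over S⦄ (g : W ⟶ U), P g.left →
    ∀ ⦃FW : AlgSp.Sp S⦄ (a' : FW ⟶ FU) (b' : FW ⟶ (AlgSp.yon S).obj W),
      IsPullback a' b' b ((AlgSp.yon S).map g) →
    ∀ ⦃NW : Over S⦄ (g' : NW ⟶ N) (ν' : NW ⟶ W), IsPullback g' ν' ν g →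
    ∀ (η' : FW ⟶ (AlgSp.yon S).obj NW), η' ≫ (AlgSp.yon S).map ν' = b' →
      η' ≫ (AlgSp.yon S).map g' = a' ≫ η →
      AlgSp.IsRelNormalization b' ((AlgSp.yon S).map ν') η'

theorem StableNorm.mono {P P' : MorphismProperty Scheme.{u}} (h : P ≤ P') {FU : AlgSp.Sp S}
    {U N : Over S} {b : FU ⟶ (AlgSp.yon S).obj U} {ν : N ⟶ U} {η : FU ⟶ (AlgSp.yon S).obj N}
    (hN : StableNorm P' b ν η) : StableNorm P b ν η :=
  fun _ g hg _ a' b' sq _ g' ν' sq' η' h1 h2 => hN g (h _ hg) a' b' sq g' ν' sq' η' h1 h2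

/-- the case `g = 𝟙`. -/
theorem StableNorm.isRelNormalization {P : MorphismProperty Scheme.{u}} {FU : AlgSp.Sp S}
    {U N : Over S} {b : FU ⟶ (AlgSp.yon S).obj U} {ν : N ⟶ U} {η : FU ⟶ (AlgSp.yon S).obj N}
    (hN : StableNorm P b ν η) (hP : P (𝟙 U.left)) (hη : η ≫ (AlgSp.yon S).map ν = b) :
    AlgSp.IsRelNormalization b ((AlgSp.yon S).map ν) η := by
  have h1 : IsPullback (𝟙 FU) b b ((AlgSp.yon S).map (𝟙 U)) := by
    rw [(AlgSp.yon S).map_id]
    exact IsPullback.of_horiz_isIso ⟨by simp⟩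
  have h2 : IsPullback (𝟙 N) ν ν (𝟙 U) := IsPullback.of_horiz_isIso ⟨by simp⟩
  exact hN (𝟙 U) hP (𝟙 FU) b h1 (𝟙 N) ν h2 η hη (by rw [(AlgSp.yon S).map_id]; simp)

/-- base change of a stable normalization. -/
theorem StableNorm.baseChange {P : MorphismProperty Scheme.{u}} [P.IsStableUnderComposition]
    {FU : AlgSp.Sp S}
    {U N : Over S} {b : FU ⟶ (AlgSp.yon S).obj U} {ν : N ⟶ U} {η : FU ⟶ (AlgSp.yon S).obj N}
    (hN : StableNorm P b ν η) {W : Over S} (g : W ⟶ U) (hg : P g.left)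
    {FW : AlgSp.Sp S} (a' : FW ⟶ FU) (b' : FW ⟶ (AlgSp.yon S).obj W)
    (sq : IsPullback a' b' b ((AlgSp.yon S).map g))
    {NW : Over S} (g' : NW ⟶ N) (ν' : NW ⟶ W) (sq' : IsPullback g' ν' ν g)
    (η' : FW ⟶ (AlgSp.yon S).obj NW)
    (h2 : η' ≫ (AlgSp.yon S).map g' = a' ≫ η) : StableNorm P b' ν' η' := by
  intro W₂ g₂ hg₂ FW₂ a₂ b₂ sq₂ NW₂ g₂' ν₂ sq₂' η₂ k1 k2
  refine hN (g₂ ≫ g) (by
    change P (g₂.left ≫ g.left)
    exact P.comp_mem _ _ hg₂ hg) (a₂ ≫ a') b₂ ?_ (g₂' ≫ g') ν₂ (sq₂'.paste_horiz sq') η₂ k1 ?_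
  · rw [(AlgSp.yon S).map_comp]
    exact sq₂.paste_horiz sq
  · rw [(AlgSp.yon S).map_comp, ← Category.assoc, k2, Category.assoc, h2, Category.assoc]

/-- **Package A** (schemes): the normalization of a quasi-compact quasi-separated morphism of
schemes over `S` is a stable normalization for smooth base change. -/
def SchStableStmt : Prop :=
  ∀ {S : Scheme.{u}} {V U N : Over S} (g : V ⟶ U) [QuasiCompact g.left] [QuasiSeparated g.left]
    (f' : V ⟶ N) (ν : N ⟶ U) (e : N.left ≅ g.left.normalization)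
    (_ : f'.left ≫ e.hom = g.left.toNormalization)
    (_ : e.hom ≫ g.left.fromNormalization = ν.left),
    StableNorm @Smooth ((AlgSp.yon S).map g) ν ((AlgSp.yon S).map f')

/-- **Package A'** (algebraic space over an affine scheme): a quasi-compact quasi-separated
morphism from an algebraic space to an affine scheme has a normalization by an (affine) scheme,
stable under smooth base change to affine schemes. -/
def AffStableStmt : Prop :=
  ∀ {S : Scheme.{u}} {F : AlgSp.Sp S} (_ : AlgSp.IsAlgSpace F) {U : Over S} (_ : IsAffine U.left)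
    (b : F ⟶ (AlgSp.yon S).obj U) (_ : AlgSp.IsQuasiCompactMor b)
    (_ : AlgSp.IsQuasiSeparatedMor b),
    ∃ (N : Over S) (ν : N ⟶ U) (η : F ⟶ (AlgSp.yon S).obj N), η ≫ (AlgSp.yon S).map ν = b ∧
      StableNorm (fun X _ g => Smooth g ∧ IsAffine X) b ν η

/-- two relative normalizations of the same morphism by algebraic spaces are isomorphic,
compatibly with all the structure maps. -/
theorem exists_iso_of_isRelNormalization {F G X₁ X₂ : AlgSp.Sp S} (f : F ⟶ G)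
    (hX₁ : AlgSp.IsAlgSpace X₁) (hX₂ : AlgSp.IsAlgSpace X₂)
    {ν₁ : X₁ ⟶ G} {f₁ : F ⟶ X₁} (h₁ : AlgSp.IsRelNormalization f ν₁ f₁)
    {ν₂ : X₂ ⟶ G} {f₂ : F ⟶ X₂} (h₂ : AlgSp.IsRelNormalization f ν₂ f₂) :
    ∃ e : X₁ ≅ X₂, f₁ ≫ e.hom = f₂ ∧ e.hom ≫ ν₂ = ν₁ := by
  obtain ⟨k1, i1, u1⟩ := h₁
  obtain ⟨k2, i2, u2⟩ := h₂
  obtain ⟨α, ⟨hα1, hα2⟩, -⟩ := u1 hX₂ ν₂ f₂ i2 k2
  obtain ⟨β, ⟨hβ1, hβ2⟩, -⟩ := u2 hX₁ ν₁ f₁ i1 k1
  obtain ⟨γ, -, hγ⟩ := u1 hX₁ ν₁ f₁ i1 k1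
  obtain ⟨δ, -, hδ⟩ := u2 hX₂ ν₂ f₂ i2 k2
  have e1 : α ≫ β = 𝟙 X₁ := by
    rw [hγ (α ≫ β) ⟨by rw [← Category.assoc, hα1, hβ1], by rw [Category.assoc, hβ2, hα2]⟩,
      hγ (𝟙 X₁) ⟨by simp, by simp⟩]
  have e2 : β ≫ α = 𝟙 X₂ := by
    rw [hδ (β ≫ α) ⟨by rw [← Category.assoc, hβ1, hα1], by rw [Category.assoc, hα2, hβ2]⟩,
      hδ (𝟙 X₂) ⟨by simp, by simp⟩]
  exact ⟨⟨α, β, e1, e2⟩, hα1, hα2⟩

/-- integral morphisms may be precomposed with isomorphisms. -/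
theorem isIntegralMor_iso_comp {X₂ X' G : AlgSp.Sp S} (e : X₂ ≅ X') (ν : X' ⟶ G)
    (h : AlgSp.IsIntegralMor ν) : AlgSp.IsIntegralMor (e.hom ≫ ν) := by
  intro Z hZ g
  obtain ⟨W, i, fst, sq, h1, h2⟩ := h hZ g
  refine ⟨W, i, fst ≫ e.inv, ?_, h1, h2⟩
  refine IsPullback.of_iso sq (Iso.refl _) e.symm (Iso.refl _) (Iso.refl _) ?_ ?_ ?_ ?_ <;> simp

/-- transport of a relative normalization along isomorphisms of the three corners. -/
theorem isRelNormalization_of_iso {F G X' F₂ X₂ : AlgSp.Sp S} {f : F ⟶ G} {ν : X' ⟶ G}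
    {f' : F ⟶ X'} (h : AlgSp.IsRelNormalization f ν f') (eF : F₂ ≅ F) (eX : X₂ ≅ X')
    (f₂ : F₂ ⟶ G) (ν₂ : X₂ ⟶ G) (f₂' : F₂ ⟶ X₂) (hf : f₂ = eF.hom ≫ f) (hν : ν₂ = eX.hom ≫ ν)
    (hf' : f₂' ≫ eX.hom = eF.hom ≫ f') : AlgSp.IsRelNormalization f₂ ν₂ f₂' := by
  obtain ⟨k, i, u⟩ := h
  refine ⟨?_, ?_, ?_⟩
  · rw [hν, ← Category.assoc, hf', Category.assoc, k, hf]
  · rw [hν]
    exact isIntegralMor_iso_comp eX ν i
  · intro Z hZ π g hπ hg
    obtain ⟨h₀, ⟨h1, h2⟩, h3⟩ := u hZ π (eF.inv ≫ g) hπ (by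
      rw [Category.assoc, hg, hf, Iso.inv_hom_id_assoc])
    refine ⟨eX.hom ≫ h₀, ⟨?_, ?_⟩, ?_⟩
    · rw [← Category.assoc, hf', Category.assoc, h1, Iso.hom_inv_id_assoc]
    · rw [Category.assoc, h2, hν]
    · rintro h' ⟨h'1, h'2⟩
      have := h3 (eX.inv ≫ h') ⟨?_, ?_⟩
      · rw [← this, Iso.hom_inv_id_assoc]
      · have e1 : f' = eF.inv ≫ f₂' ≫ eX.hom := by rw [hf', Iso.inv_hom_id_assoc]
        rw [e1, Category.assoc, Category.assoc, Iso.hom_inv_id_assoc, h'1]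
      · rw [Category.assoc, h'2, hν, Iso.inv_hom_id_assoc]

end Groth.Agent.R2.H95.NormSpec
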