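import Mathlib
import Groth.Agent.R2.H95NormSpec
import Groth.Agent.R2.H59AffDesc3
import Groth.Agent.S9874

/-!
# Relative normalization of algebraic spaces: descent of the universal property (helper95)

`isRelNormalization_of_chart`: a factorisation `F ⟶ X' ⟶ G` with `X' ⟶ G` integral is a relative
normalization as soon as its base change to an étale atlas `h_U ⟶ G` is a stable normalization
(`NormSpec.StableNorm @Etale`).
-/

set_option autoImplicit false
universe u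
open CategoryTheory CategoryTheory.Limits AlgebraicGeometry Opposite
open AlgSp

set_option backward.isDefEq.respectTransparency false
set_option linter.style.haveILetI false

namespace Groth.Agent.R2.H95.NormRecog

open Groth.Agent.R2.H95.NormSpec Groth.Agent.R2.H95.SpEpi Groth.Agent.R2.H59.AffDesc

variable {S : Scheme.{u}}

/-- integral morphisms of fppf sheaves are stable under base change. -/
theorem isIntegralMor_of_isPullback {A B C D : AlgSp.Sp S} {fst : A ⟶ B} {snd : A ⟶ C} {f : B ⟶ D}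
    {g : C ⟶ D} (sq : IsPullback fst snd f g) (hf : AlgSp.IsIntegralMor f) :
    AlgSp.IsIntegralMor snd :=
  isIntegralMor_of_repWith snd
    (MorphismProperty.of_isPullback (P := AlgSp.RepWith @IsIntegralHom) sq
      (repWith_isIntegralHom_of_isIntegralMor f hf))

/-- an epimorphism of sheaves from a representable étale surjective map. -/
theorem epi_of_etale_surjective {F G : AlgSp.Sp S} (p : F ⟶ G) (h1 : AlgSp.RepWith @Etale p)
    (h2 : AlgSp.RepWith @Surjective p) : Epi p := by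
  haveI := isLocallySurjective_of_repWith_etale_surjective p h1 h2
  exact (Sheaf.isLocallySurjective_iff_epi p).1 inferInstance

/-- the kernel pair of a representable étale map from a scheme is a scheme, with étale
projections. -/
theorem exists_kernelPair {G : AlgSp.Sp S} {U : Over S} (p : (AlgSp.yon S).obj U ⟶ G)
    (h1 : AlgSp.RepWith @Etale p) :
    ∃ (R : Over S) (s t : R ⟶ U), IsPullback ((AlgSp.yon S).map s) ((AlgSp.yon S).map t) p p ∧
      Etale s.left ∧ Etale t.left := by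
  obtain ⟨R, t, fst, sq⟩ := h1.1 p
  obtain ⟨s, rfl⟩ := (AlgSp.yon S).map_surjective fst
  exact ⟨R, s, t, sq, h1.2 p _ s sq.flip, h1.2 p _ t sq⟩

section Recog

variable {F G X' : AlgSp.Sp S} (f : F ⟶ G) (ν' : X' ⟶ G) (f' : F ⟶ X')
  {U : Over S} (p : (AlgSp.yon S).obj U ⟶ G)
  {FU : AlgSp.Sp S} (a : FU ⟶ F) (b : FU ⟶ (AlgSp.yon S).obj U)
  {N : Over S} (ν : N ⟶ U) (η : FU ⟶ (AlgSp.yon S).obj N) (q : (AlgSp.yon S).obj N ⟶ X')

/-- **Recognition**: descent of the universal property of the relative normalization along an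
étale atlas. -/
theorem isRelNormalization_of_chart (hG : AlgSp.IsAlgSpace G) (hfac : f' ≫ ν' = f)
    (hν' : AlgSp.IsIntegralMor ν')
    (hp1 : AlgSp.RepWith @Etale p) (hp2 : AlgSp.RepWith @Surjective p)
    (sq : IsPullback a b f p) (sqN : IsPullback q ((AlgSp.yon S).map ν) ν' p)
    (hηq : η ≫ q = a ≫ f') (hηb : η ≫ (AlgSp.yon S).map ν = b)
    (hN : StableNorm @Etale b ν η) : AlgSp.IsRelNormalization f ν' f' := by
  refine ⟨hfac, hν', ?_⟩
  intro Z hZ π g hπ hg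
  haveI hpe : Epi p := epi_of_etale_surjective p hp1 hp2
  haveI hqe : Epi q := epi_of_isPullback sqN
  haveI hae : Epi a := epi_of_isPullback sq
  obtain ⟨R, s, t, sqR, hs, ht⟩ := exists_kernelPair p hp1
  have hNU : AlgSp.IsRelNormalization b ((AlgSp.yon S).map ν) η :=
    hN.isRelNormalization (by infer_instance) hηb
  -- the base change of `Z` to `U`
  have sqZ := IsPullback.of_hasPullback π p
  obtain ⟨ZU, hZU⟩ : ∃ ZU, ZU = pullback π p := ⟨_, rfl⟩
  obtain ⟨zU, hzU⟩ : ∃ zU : ZU ⟶ Z, HEq zU (pullback.fst π p) := by subst hZU; exact ⟨_, HEq.rfl⟩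
  obtain ⟨πU, hπU⟩ : ∃ πU : ZU ⟶ (AlgSp.yon S).obj U, HEq πU (pullback.snd π p) := by
    subst hZU; exact ⟨_, HEq.rfl⟩
  have sqZ : IsPullback zU πU π p := by subst hZU; cases hzU; cases hπU; exact sqZ
  clear hzU hπU hZU
  have hZUsp : AlgSp.IsAlgSpace ZU :=
    Groth.Agent.S9874.isAlgSpace_of_isPullback hG.diag hZ (AlgSp.IsAlgSpace.yon_obj U) sqZ
  have hπUint : AlgSp.IsIntegralMor πU := isIntegralMor_of_isPullback sqZ hπ
  have hgU : (a ≫ g) ≫ π = b ≫ p := by rw [Category.assoc, hg, sq.w]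
  obtain ⟨hU, ⟨hU1, hU2⟩, hU3⟩ := hNU.2.2 hZUsp πU (sqZ.lift (a ≫ g) b hgU) hπUint
    (sqZ.lift_snd _ _ _)
  obtain ⟨k, hk⟩ : ∃ k, k = hU ≫ zU := ⟨_, rfl⟩
  have hηk : η ≫ k = a ≫ g := by
    rw [hk, ← Category.assoc, hU1, sqZ.lift_fst]
  have hkπ : k ≫ π = (AlgSp.yon S).map ν ≫ p := by
    rw [hk, Category.assoc, sqZ.w, ← Category.assoc, hU2]
  -- `k` is constant on the fibres of `q`
  -- the scheme `N ×_{U,s} R`
  have sqNR := (IsPullback.of_hasPullback ν s).map (AlgSp.yon S)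
  obtain ⟨NR, hNR⟩ : ∃ NR, NR = pullback ν s := ⟨_, rfl⟩
  obtain ⟨prN, hprN⟩ : ∃ prN : NR ⟶ N, HEq prN (pullback.fst ν s) := by
    subst hNR; exact ⟨_, HEq.rfl⟩
  obtain ⟨prR, hprR⟩ : ∃ prR : NR ⟶ R, HEq prR (pullback.snd ν s) := by
    subst hNR; exact ⟨_, HEq.rfl⟩
  have sqNR₀ : IsPullback prN prR ν s := by
    subst hNR; cases hprN; cases hprR; exact IsPullback.of_hasPullback ν s
  have sqNR : IsPullback ((AlgSp.yon S).map prN) ((AlgSp.yon S).map prR) ((AlgSp.yon S).map ν)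
      ((AlgSp.yon S).map s) := sqNR₀.map (AlgSp.yon S)
  clear hprN hprR hNR
  -- the other projection `act : N ×_U R ⟶ N`
  have hact0 : ((AlgSp.yon S).map prN ≫ q) ≫ ν' = ((AlgSp.yon S).map prR ≫ (AlgSp.yon S).map t) ≫ p := by
    rw [Category.assoc, sqN.w, ← Category.assoc, sqNR.w, Category.assoc, sqR.w, Category.assoc]
  obtain ⟨act, hact⟩ : ∃ act, act = sqN.lift _ _ hact0 := ⟨_, rfl⟩
  have hact1 : act ≫ q = (AlgSp.yon S).map prN ≫ q := by rw [hact, sqN.lift_fst]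
  have hact2 : act ≫ (AlgSp.yon S).map ν = (AlgSp.yon S).map prR ≫ (AlgSp.yon S).map t := by
    rw [hact, sqN.lift_snd]
  -- the base change of `F` to `R`
  have sqFR := IsPullback.of_hasPullback b ((AlgSp.yon S).map s)
  obtain ⟨FR, hFR⟩ : ∃ FR, FR = pullback b ((AlgSp.yon S).map s) := ⟨_, rfl⟩
  obtain ⟨as, has⟩ : ∃ as : FR ⟶ FU, HEq as (pullback.fst b ((AlgSp.yon S).map s)) := by
    subst hFR; exact ⟨_, HEq.rfl⟩
  obtain ⟨bR, hbR⟩ : ∃ bR : FR ⟶ (AlgSp.yon S).obj R,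
      HEq bR (pullback.snd b ((AlgSp.yon S).map s)) := by
    subst hFR; exact ⟨_, HEq.rfl⟩
  have sqFR : IsPullback as bR b ((AlgSp.yon S).map s) := by
    subst hFR; cases has; cases hbR; exact sqFR
  clear has hbR hFR
  have hηR0 : (as ≫ η) ≫ (AlgSp.yon S).map ν = bR ≫ (AlgSp.yon S).map s := by
    rw [Category.assoc, hηb, sqFR.w]
  obtain ⟨ηR, hηR⟩ : ∃ ηR, ηR = sqNR.lift _ _ hηR0 := ⟨_, rfl⟩
  have hηR1 : ηR ≫ (AlgSp.yon S).map prN = as ≫ η := by rw [hηR, sqNR.lift_fst]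
  have hηR2 : ηR ≫ (AlgSp.yon S).map prR = bR := by rw [hηR, sqNR.lift_snd]
  have hNR : AlgSp.IsRelNormalization bR ((AlgSp.yon S).map prR) ηR :=
    hN s hs as bR sqFR prN prR sqNR₀ ηR hηR2 hηR1
  -- the other projection `θ : FR ⟶ FU`
  have hθ0 : (as ≫ a) ≫ f = (bR ≫ (AlgSp.yon S).map t) ≫ p := by
    rw [Category.assoc, sq.w, ← Category.assoc, sqFR.w, Category.assoc, sqR.w, Category.assoc]
  obtain ⟨θ, hθ⟩ : ∃ θ, θ = sq.lift _ _ hθ0 := ⟨_, rfl⟩
  have hθ1 : θ ≫ a = as ≫ a := by rw [hθ, sq.lift_fst]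
  have hθ2 : θ ≫ b = bR ≫ (AlgSp.yon S).map t := by rw [hθ, sq.lift_snd]
  have hηact : ηR ≫ act = θ ≫ η := by
    apply sqN.hom_ext
    · rw [Category.assoc, hact1, ← Category.assoc, hηR1, Category.assoc, hηq, Category.assoc, hηq,
        ← Category.assoc, ← Category.assoc, hθ1]
    · rw [Category.assoc, hact2, ← Category.assoc, hηR2, Category.assoc, hηb, hθ2]
  -- the base change of `Z` to `R`
  have sqZR := IsPullback.of_hasPullback π ((AlgSp.yon S).map s ≫ p)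
  obtain ⟨ZR, hZR⟩ : ∃ ZR, ZR = pullback π ((AlgSp.yon S).map s ≫ p) := ⟨_, rfl⟩
  obtain ⟨zR, hzR⟩ : ∃ zR : ZR ⟶ Z, HEq zR (pullback.fst π ((AlgSp.yon S).map s ≫ p)) := by
    subst hZR; exact ⟨_, HEq.rfl⟩
  obtain ⟨πR, hπR⟩ : ∃ πR : ZR ⟶ (AlgSp.yon S).obj R,
      HEq πR (pullback.snd π ((AlgSp.yon S).map s ≫ p)) := by
    subst hZR; exact ⟨_, HEq.rfl⟩
  have sqZR : IsPullback zR πR π ((AlgSp.yon S).map s ≫ p) := by
    subst hZR; cases hzR; cases hπR; exact sqZR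
  clear hzR hπR hZR
  have hZRsp : AlgSp.IsAlgSpace ZR :=
    Groth.Agent.S9874.isAlgSpace_of_isPullback hG.diag hZ (AlgSp.IsAlgSpace.yon_obj R) sqZR
  have hπRint : AlgSp.IsIntegralMor πR := isIntegralMor_of_isPullback sqZR hπ
  have hm1 : ((AlgSp.yon S).map prN ≫ k) ≫ π = (AlgSp.yon S).map prR ≫ (AlgSp.yon S).map s ≫ p := by
    rw [Category.assoc, hkπ, ← Category.assoc, sqNR.w, Category.assoc]
  have hm2 : (act ≫ k) ≫ π = (AlgSp.yon S).map prR ≫ (AlgSp.yon S).map s ≫ p := by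
    rw [Category.assoc, hkπ, ← Category.assoc, hact2, Category.assoc, sqR.w]
  have hgR : (as ≫ a ≫ g) ≫ π = bR ≫ (AlgSp.yon S).map s ≫ p := by
    rw [Category.assoc, Category.assoc, hg, sq.w, ← Category.assoc, sqFR.w, Category.assoc]
  obtain ⟨m, -, hm⟩ := hNR.2.2 hZRsp πR (sqZR.lift _ _ hgR) hπRint (sqZR.lift_snd _ _ _)
  have e1 : sqZR.lift _ _ hm1 = m := by
    apply hm
    refine ⟨?_, sqZR.lift_snd _ _ _⟩
    apply sqZR.hom_ext
    · rw [Category.assoc, sqZR.lift_fst, sqZR.lift_fst, ← Category.assoc, hηR1, Category.assoc, hηk]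
    · rw [Category.assoc, sqZR.lift_snd, sqZR.lift_snd, hηR2]
  have e2 : sqZR.lift _ _ hm2 = m := by
    apply hm
    refine ⟨?_, sqZR.lift_snd _ _ _⟩
    apply sqZR.hom_ext
    · rw [Category.assoc, sqZR.lift_fst, sqZR.lift_fst, ← Category.assoc, hηact, Category.assoc, hηk,
        ← Category.assoc, hθ1, Category.assoc]
    · rw [Category.assoc, sqZR.lift_snd, sqZR.lift_snd, hηR2]
  have hmain : (AlgSp.yon S).map prN ≫ k = act ≫ k := by
    have := congrArg (· ≫ zR) (e1.trans e2.symm)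
    simpa only [sqZR.lift_fst] using this
  -- descend `k` along `q`
  obtain ⟨h, hh⟩ := Groth.Agent.Lib.Helper9.ToposLike.exists_desc_of_epi q inferInstance k (by
    intro W a₁ a₂ ha
    apply hom_ext_points
    intro T x
    obtain ⟨n₁, hn₁⟩ : ∃ n₁, n₁ = x ≫ a₁ := ⟨_, rfl⟩
    obtain ⟨n₂, hn₂⟩ : ∃ n₂, n₂ = x ≫ a₂ := ⟨_, rfl⟩
    have hn : n₁ ≫ q = n₂ ≫ q := by rw [hn₁, hn₂, Category.assoc, ha, Category.assoc]
    rw [← Category.assoc, ← Category.assoc, ← hn₁, ← hn₂]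
    have hρ0 : (n₁ ≫ (AlgSp.yon S).map ν) ≫ p = (n₂ ≫ (AlgSp.yon S).map ν) ≫ p := by
      rw [Category.assoc, Category.assoc, ← sqN.w, ← Category.assoc, hn, Category.assoc]
    obtain ⟨r, hr1, hr2⟩ : ∃ r : (AlgSp.yon S).obj T ⟶ (AlgSp.yon S).obj NR,
        r ≫ (AlgSp.yon S).map prN = n₁ ∧
          r ≫ (AlgSp.yon S).map prR = sqR.lift _ _ hρ0 :=
      ⟨sqNR.lift n₁ (sqR.lift _ _ hρ0) (by rw [sqR.lift_fst]), sqNR.lift_fst _ _ _,
        sqNR.lift_snd _ _ _⟩
    have hr3 : r ≫ act = n₂ := by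
      apply sqN.hom_ext
      · rw [Category.assoc, hact1, ← Category.assoc, hr1, hn]
      · rw [Category.assoc, hact2, ← Category.assoc, hr2, sqR.lift_snd]
    rw [← hr1, ← hr3, Category.assoc, Category.assoc, hmain])
  have hhπ : h ≫ π = ν' := by
    rw [← cancel_epi q, ← Category.assoc, hh, hkπ, sqN.w]
  have hfh : f' ≫ h = g := by
    rw [← cancel_epi a, ← Category.assoc, ← hηq, Category.assoc, hh, hηk]
  refine ⟨h, ⟨hfh, hhπ⟩, ?_⟩
  rintro h' ⟨h'1, h'2⟩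
  rw [← cancel_epi q, hh]
  have h0 : (q ≫ h') ≫ π = (AlgSp.yon S).map ν ≫ p := by
    rw [Category.assoc, h'2, sqN.w]
  have := hU3 (sqZ.lift _ _ h0) ⟨?_, sqZ.lift_snd _ _ _⟩
  · rw [hk, ← this, sqZ.lift_fst]
  · apply sqZ.hom_ext
    · rw [Category.assoc, sqZ.lift_fst, sqZ.lift_fst, ← Category.assoc, hηq, Category.assoc, h'1]
    · rw [Category.assoc, sqZ.lift_snd, sqZ.lift_snd, hηb]

end Recog

end Groth.Agent.R2.H95.NormRecog
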