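import Groth.Agent.R2.H95NormSpec
import Groth.Agent.R2.H95NormRecog

/-!
# Affinization of an algebraic space over an affine scheme, part A (helper95)

`AffChart b`: an affine étale presentation `R ⇉ V ⟶ F` of `F` (with `b : F ⟶ h_U`).
`Affn c`: an affine scheme `X` over `U` with `c₀ : V ⟶ X` such that `Γ(X) ⟶ Γ(V) ⇉ Γ(R)` is an
equalizer diagram.  `Affn.exists_kappa`: then `F ⟶ h_X` is the `U`-affinization of `F`.
`isRelNormalization_of_affn`: the relative normalization of `X ⟶ U` is a relative normalization of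
`b`.
-/

set_option autoImplicit false
universe u
open CategoryTheory CategoryTheory.Limits AlgebraicGeometry Opposite
open AlgSp

set_option backward.isDefEq.respectTransparency false
set_option linter.style.haveILetI false

namespace Groth.Agent.R2.H95.NormAff

variable {S : Scheme.{u}}

/-! ### scheme level -/

/-- lifting a ring map through an injective ring map containing its range. -/
theorem exists_lift_ringHom {A B C : Type u} [CommRing A] [CommRing B] [CommRing C] (ι : B →+* C)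
    (hι : Function.Injective ι) (φ : A →+* C) (h : ∀ a, φ a ∈ Set.range ι) :
    ∃ ψ : A →+* B, ι.comp ψ = φ := by
  let e : B ≃+* ι.range := RingEquiv.ofBijective ι.rangeRestrict
    ⟨fun x y hxy => hι (congrArg Subtype.val hxy), ι.rangeRestrict_surjective⟩
  refine ⟨e.symm.toRingHom.comp (φ.codRestrict ι.range (fun a => h a)), ?_⟩
  ext a
  have h1 : e (e.symm ⟨φ a, h a⟩) = ⟨φ a, h a⟩ := e.apply_symm_apply _
  have h2 : ι (e.symm ⟨φ a, h a⟩) = φ a := congrArg Subtype.val h1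
  exact h2

/-- morphisms to affine schemes can be cancelled against a morphism injective on global
sections. -/
theorem cancel_of_affine {V X Z : Scheme.{u}} [IsAffine Z] (c : V ⟶ X)
    (hinj : Function.Injective c.appTop.hom) (γ₁ γ₂ : X ⟶ Z) (h : c ≫ γ₁ = c ≫ γ₂) : γ₁ = γ₂ := by
  apply ext_of_isAffine
  have h2 : (c ≫ γ₁).appTop = (c ≫ γ₂).appTop := by rw [h]
  rw [Scheme.Hom.comp_appTop, Scheme.Hom.comp_appTop] at h2
  ext z
  apply hinj
  exact congrArg (fun m => m.hom z) h2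

/-- factoring a morphism to an affine scheme. -/
theorem exists_factor_of_affine {V X Z : Scheme.{u}} [IsAffine Z] (c : V ⟶ X) (g : V ⟶ Z)
    (hinj : Function.Injective c.appTop.hom)
    (hr : ∀ z, g.appTop.hom z ∈ Set.range c.appTop.hom) : ∃ γ : X ⟶ Z, c ≫ γ = g := by
  obtain ⟨ψ, hψ⟩ := exists_lift_ringHom c.appTop.hom hinj g.appTop.hom hr
  refine ⟨X.toSpecΓ ≫ Spec.map (CommRingCat.ofHom ψ) ≫ Z.isoSpec.inv, ?_⟩
  have h1 : CommRingCat.ofHom ψ ≫ c.appTop = g.appTop := by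
    ext z
    exact congrArg (fun m => m z) hψ
  rw [Scheme.toSpecΓ_naturality_assoc, ← Spec.map_comp_assoc, h1,
    ← Scheme.toSpecΓ_naturality_assoc]
  have : Z.toSpecΓ = Z.isoSpec.hom := rfl
  rw [this, Iso.hom_inv_id, Category.comp_id]

/-! ### charts -/

/-- an affine presentation of `F`. -/
structure AffChart {F : AlgSp.Sp S} {U : Over S} (b : F ⟶ (AlgSp.yon S).obj U) where
  V : Over S
  R : Over S
  hV : IsAffine V.left
  hR : IsAffine R.left
  v : (AlgSp.yon S).obj V ⟶ F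
  s : R ⟶ V
  t : R ⟶ V
  hst : (AlgSp.yon S).map s ≫ v = (AlgSp.yon S).map t ≫ v
  hve : AlgSp.RepWith @Etale v
  hv : Epi v
  hr : Epi (pullback.lift ((AlgSp.yon S).map s) ((AlgSp.yon S).map t) hst)

namespace AffChart

variable {F : AlgSp.Sp S} {U : Over S} {b : F ⟶ (AlgSp.yon S).obj U} (c : AffChart b)

/-- the structure map of the chart. -/
noncomputable def b₀ : c.V ⟶ U := (AlgSp.yon S).preimage (c.v ≫ b)

@[simp] theorem map_b₀ : (AlgSp.yon S).map c.b₀ = c.v ≫ b := (AlgSp.yon S).map_preimage _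

theorem s_b₀ : c.s ≫ c.b₀ = c.t ≫ c.b₀ := by
  apply (AlgSp.yon S).map_injective
  rw [Functor.map_comp, Functor.map_comp, map_b₀, ← Category.assoc, c.hst, Category.assoc]

/-- maps out of `h_V` equalised by `s, t` descend to `F`. -/
theorem exists_desc {X : AlgSp.Sp S} (m : (AlgSp.yon S).obj c.V ⟶ X)
    (hm : (AlgSp.yon S).map c.s ≫ m = (AlgSp.yon S).map c.t ≫ m) : ∃ m' : F ⟶ X, c.v ≫ m' = m := by
  haveI := c.hv
  haveI := c.hr
  have key : pullback.fst c.v c.v ≫ m = pullback.snd c.v c.v ≫ m := by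
    rw [← cancel_epi (pullback.lift ((AlgSp.yon S).map c.s) ((AlgSp.yon S).map c.t) c.hst),
      pullback.lift_fst_assoc, pullback.lift_snd_assoc, hm]
  refine Groth.Agent.Lib.Helper9.ToposLike.exists_desc_of_epi c.v inferInstance m ?_
  intro W a₁ a₂ h
  have h1 : a₁ = pullback.lift a₁ a₂ h ≫ pullback.fst c.v c.v := (pullback.lift_fst _ _ _).symm
  have h2 : a₂ = pullback.lift a₁ a₂ h ≫ pullback.snd c.v c.v := (pullback.lift_snd _ _ _).symm
  rw [h1, Category.assoc, key, ← Category.assoc, ← h2]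

end AffChart

/-- an affinization datum for a chart: `Γ(X) ⟶ Γ(V) ⇉ Γ(R)` is an equalizer. -/
structure Affn {F : AlgSp.Sp S} {U : Over S} {b : F ⟶ (AlgSp.yon S).obj U} (c : AffChart b) where
  X : Over S
  hX : IsAffine X.left
  c₀ : c.V ⟶ X
  νX : X ⟶ U
  h1 : c.s ≫ c₀ = c.t ≫ c₀
  h2 : c₀ ≫ νX = c.b₀
  hinj : Function.Injective c₀.left.appTop.hom
  hrange : ∀ x, c.s.left.appTop.hom x = c.t.left.appTop.hom x → x ∈ Set.range c₀.left.appTop.hom

namespace Affn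

variable {F : AlgSp.Sp S} {U : Over S} {b : F ⟶ (AlgSp.yon S).obj U} {c : AffChart b} (A : Affn c)

/-- **the universal property of the affinization.** -/
theorem exists_kappa (hU : IsAffine U.left) :
    ∃ κ : F ⟶ (AlgSp.yon S).obj A.X, c.v ≫ κ = (AlgSp.yon S).map A.c₀ ∧
      κ ≫ (AlgSp.yon S).map A.νX = b ∧
      ∀ (Z₀ : Over S), IsAffine Z₀.left → ∀ (π₀ : Z₀ ⟶ U) (γ : F ⟶ (AlgSp.yon S).obj Z₀),
        γ ≫ (AlgSp.yon S).map π₀ = b →
        ∃! γ' : A.X ⟶ Z₀, γ' ≫ π₀ = A.νX ∧ κ ≫ (AlgSp.yon S).map γ' = γ := by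
  haveI := c.hv
  haveI := hU
  haveI := A.hX
  obtain ⟨κ, hκ⟩ := c.exists_desc ((AlgSp.yon S).map A.c₀) (by
    rw [← Functor.map_comp, ← Functor.map_comp, A.h1])
  have hκb : κ ≫ (AlgSp.yon S).map A.νX = b := by
    rw [← cancel_epi c.v, ← Category.assoc, hκ, ← Functor.map_comp, A.h2, c.map_b₀]
  refine ⟨κ, hκ, hκb, ?_⟩
  intro Z₀ hZ₀ π₀ γ hγ
  haveI := hZ₀
  -- the chart of `γ`
  obtain ⟨g₀, hg₀⟩ : ∃ g₀ : c.V ⟶ Z₀, (AlgSp.yon S).map g₀ = c.v ≫ γ :=
    ⟨(AlgSp.yon S).preimage _, (AlgSp.yon S).map_preimage _⟩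
  have hsg : c.s ≫ g₀ = c.t ≫ g₀ := by
    apply (AlgSp.yon S).map_injective
    rw [Functor.map_comp, Functor.map_comp, hg₀, ← Category.assoc, c.hst, Category.assoc]
  have hgπ : g₀ ≫ π₀ = A.c₀ ≫ A.νX := by
    apply (AlgSp.yon S).map_injective
    rw [Functor.map_comp, hg₀, Category.assoc, hγ, A.h2, c.map_b₀]
  have hr : ∀ z, g₀.left.appTop.hom z ∈ Set.range A.c₀.left.appTop.hom := by
    intro z
    apply A.hrange
    have h3 : (c.s ≫ g₀).left.appTop = (c.t ≫ g₀).left.appTop := by rw [hsg]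
    rw [Over.comp_left, Over.comp_left, Scheme.Hom.comp_appTop, Scheme.Hom.comp_appTop] at h3
    exact congrArg (fun m => m.hom z) h3
  obtain ⟨γl, hγl⟩ := exists_factor_of_affine A.c₀.left g₀.left A.hinj hr
  have hγlπ : γl ≫ π₀.left = A.νX.left := by
    apply cancel_of_affine A.c₀.left A.hinj
    rw [← Category.assoc, hγl, ← Over.comp_left, hgπ, Over.comp_left]
  have hw : γl ≫ Z₀.hom = A.X.hom := by
    rw [← Over.w π₀, ← Category.assoc, hγlπ, Over.w A.νX]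
  have hc₀γ : A.c₀ ≫ Over.homMk γl hw = g₀ := by
    ext
    exact hγl
  refine ⟨Over.homMk γl hw, ⟨?_, ?_⟩, ?_⟩
  · ext
    exact hγlπ
  · rw [← cancel_epi c.v, ← Category.assoc, hκ, ← Functor.map_comp, hc₀γ, hg₀]
  · rintro γ₁ ⟨-, hγ₁⟩
    have h4 : A.c₀ ≫ γ₁ = g₀ := by
      apply (AlgSp.yon S).map_injective
      rw [Functor.map_comp, ← hκ, Category.assoc, hγ₁, hg₀]
    ext : 1
    apply cancel_of_affine A.c₀.left A.hinj
    rw [← Over.comp_left, h4]
    exact hγl.symm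

/-- the affinization of a reduced chart is reduced. -/
theorem isReduced (h : IsReduced c.V.left) : IsReduced A.X.left := by
  haveI := A.hX
  haveI := h
  haveI : _root_.IsReduced Γ(A.X.left, ⊤) := by
    refine ⟨fun x hx => ?_⟩
    apply A.hinj
    rw [map_zero]
    exact (hx.map A.c₀.left.appTop.hom).eq_zero
  exact isReduced_of_isAffine_isReduced A.X.left

end Affn

/-- an algebraic space integral over an affine scheme is an affine scheme. -/
theorem exists_iso_yon_of_isIntegralMor {Z : AlgSp.Sp S} {U : Over S} (hU : IsAffine U.left)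
    (π : Z ⟶ (AlgSp.yon S).obj U) (hπ : AlgSp.IsIntegralMor π) :
    ∃ (Z₀ : Over S) (π₀ : Z₀ ⟶ U) (e : (AlgSp.yon S).obj Z₀ ≅ Z), IsAffine Z₀.left ∧
      e.hom ≫ π = (AlgSp.yon S).map π₀ := by
  obtain ⟨W, i, fst, sq, hW, -⟩ := hπ hU (𝟙 _)
  haveI : IsIso fst := sq.isIso_fst_of_isIso
  refine ⟨W, i, asIso fst, hW, ?_⟩
  rw [asIso_hom, sq.w, Category.comp_id]

/-- **the normalization of the affinization is a normalization of `b`.** -/
theorem isRelNormalization_of_affn {F : AlgSp.Sp S} {U : Over S} (hU : IsAffine U.left)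
    {b : F ⟶ (AlgSp.yon S).obj U} {X : Over S} (νX : X ⟶ U) (κ : F ⟶ (AlgSp.yon S).obj X)
    (hκb : κ ≫ (AlgSp.yon S).map νX = b)
    (hκ : ∀ (Z₀ : Over S), IsAffine Z₀.left → ∀ (π₀ : Z₀ ⟶ U) (γ : F ⟶ (AlgSp.yon S).obj Z₀),
        γ ≫ (AlgSp.yon S).map π₀ = b →
        ∃! γ' : X ⟶ Z₀, γ' ≫ π₀ = νX ∧ κ ≫ (AlgSp.yon S).map γ' = γ)
    {N : Over S} (ν₀ : N ⟶ U) (η₀ : X ⟶ N)
    (hn : AlgSp.IsRelNormalization ((AlgSp.yon S).map νX) ((AlgSp.yon S).map ν₀)
      ((AlgSp.yon S).map η₀)) :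
    AlgSp.IsRelNormalization b ((AlgSp.yon S).map ν₀) (κ ≫ (AlgSp.yon S).map η₀) := by
  refine ⟨by rw [Category.assoc, hn.1, hκb], hn.2.1, ?_⟩
  intro Z hZ π g hπ hg
  obtain ⟨Z₀, π₀, e, hZ₀, he⟩ := exists_iso_yon_of_isIntegralMor hU π hπ
  have hγ : (g ≫ e.inv) ≫ (AlgSp.yon S).map π₀ = b := by
    rw [← he, Category.assoc, Iso.inv_hom_id_assoc, hg]
  obtain ⟨γ', ⟨hγ'1, hγ'2⟩, hγ'u⟩ := hκ Z₀ hZ₀ π₀ (g ≫ e.inv) hγ
  have hg' : ((AlgSp.yon S).map γ' ≫ e.hom) ≫ π = (AlgSp.yon S).map νX := by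
    rw [Category.assoc, he, ← Functor.map_comp, hγ'1]
  obtain ⟨h, ⟨hh1, hh2⟩, hhu⟩ := hn.2.2 hZ π ((AlgSp.yon S).map γ' ≫ e.hom) hπ hg'
  refine ⟨h, ⟨?_, hh2⟩, ?_⟩
  · rw [Category.assoc, hh1, ← Category.assoc, hγ'2, Category.assoc, Iso.inv_hom_id,
      Category.comp_id]
  · rintro h' ⟨hh'1, hh'2⟩
    apply hhu
    refine ⟨?_, hh'2⟩
    -- `h_η₀ ≫ h' ≫ e⁻¹` is a map of schemes `δ : X ⟶ Z₀`
    obtain ⟨δ, hδ⟩ : ∃ δ : X ⟶ Z₀, (AlgSp.yon S).map δ = (AlgSp.yon S).map η₀ ≫ h' ≫ e.inv :=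
      ⟨(AlgSp.yon S).preimage _, (AlgSp.yon S).map_preimage _⟩
    have hδ1 : δ ≫ π₀ = νX := by
      apply (AlgSp.yon S).map_injective
      rw [Functor.map_comp, hδ, ← he, Category.assoc, Category.assoc, Iso.inv_hom_id_assoc, hh'2,
        hn.1]
    have hδ2 : κ ≫ (AlgSp.yon S).map δ = g ≫ e.inv := by
      rw [hδ, ← hh'1]
      simp only [Category.assoc]
    have := hγ'u δ ⟨hδ1, hδ2⟩
    rw [← this, hδ, Category.assoc, Category.assoc, Iso.inv_hom_id, Category.comp_id]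

end Groth.Agent.R2.H95.NormAff
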