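import Mathlib

/-!
# Flat base change of equalizers of rings, in pushout form (helper95)

`flat_bc`: let `E ⟶ B ⇉ C` be an equalizer diagram of `A`-algebras (`ι : E ⟶ B` injective with range
the equalizer of `σ, τ : B ⟶ C`) and `a : A ⟶ A'` flat.  For arbitrary pushout squares
`B' = B ⊗_A A'`, `C' = C ⊗_A A'`, `E' = E ⊗_A A'` in `CommRingCat` and compatible maps
`ι' , σ', τ'`, the diagram `E' ⟶ B' ⇉ C'` is again an equalizer diagram.
-/

set_option autoImplicit false
universe u
open CategoryTheory CategoryTheory.Limits TensorProduct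

set_option backward.isDefEq.respectTransparency false
set_option linter.style.haveILetI false

namespace Groth.Agent.R2.H95.NormAlg

/-- the concrete statement for tensor products. -/
theorem rTensor_eqLocus {A A' B C E : Type u} [CommRing A] [CommRing A'] [CommRing B] [CommRing C]
    [CommRing E] [Algebra A A'] [Algebra A B] [Algebra A C] [Algebra A E] [Module.Flat A A']
    (ι : E →ₐ[A] B) (σ τ : B →ₐ[A] C) (hinj : Function.Injective ι)
    (hrange : ∀ x, σ x = τ x → x ∈ Set.range ι) (heq : ∀ e, σ (ι e) = τ (ι e)) :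
    Function.Injective (Algebra.TensorProduct.map ι (AlgHom.id A A')) ∧
      ∀ y : B ⊗[A] A', Algebra.TensorProduct.map σ (AlgHom.id A A') y =
        Algebra.TensorProduct.map τ (AlgHom.id A A') y →
        y ∈ Set.range (Algebra.TensorProduct.map ι (AlgHom.id A A')) := by
  have h1 : ∀ (P Q : Type u) [CommRing P] [CommRing Q] [Algebra A P] [Algebra A Q] (φ : P →ₐ[A] Q)
      (z : P ⊗[A] A'), Algebra.TensorProduct.map φ (AlgHom.id A A') z =
        LinearMap.rTensor A' φ.toLinearMap z := by
    intro P Q _ _ _ _ φ z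
    induction z with
    | zero => simp
    | add x y hx hy => rw [map_add, map_add, hx, hy]
    | tmul x y => simp
  have hex : Function.Exact ι.toLinearMap (σ.toLinearMap - τ.toLinearMap) := by
    intro x
    constructor
    · intro hx
      have : σ x = τ x := by
        have := hx
        simpa [sub_eq_zero] using this
      obtain ⟨e, he⟩ := hrange x this
      exact ⟨e, he⟩
    · rintro ⟨e, rfl⟩
      simp [heq e]
  have hex' := Module.Flat.rTensor_exact A' hex
  constructor
  · have := Module.Flat.rTensor_preserves_injective_linearMap (M := A') ι.toLinearMap hinj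
    intro z z' hz
    apply this
    rw [← h1, ← h1, hz]
  · intro y hy
    rw [h1, h1] at hy
    have hy' : LinearMap.rTensor A' (σ.toLinearMap - τ.toLinearMap) y = 0 := by
      rw [LinearMap.rTensor_sub, LinearMap.sub_apply, hy, sub_self]
    obtain ⟨z, hz⟩ := (hex' y).1 hy'
    exact ⟨z, by rw [h1, hz]⟩

/-- **flat base change of an equalizer of rings, pushout form.** -/
theorem flat_bc {A A' B B' C C' E E' : CommRingCat.{u}} (a : A ⟶ A') (ha : a.hom.Flat)
    {fB : A ⟶ B} {pB : B ⟶ B'} {fB' : A' ⟶ B'} (sqB : IsPushout fB a pB fB')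
    {fC : A ⟶ C} {pC : C ⟶ C'} {fC' : A' ⟶ C'} (sqC : IsPushout fC a pC fC')
    {fE : A ⟶ E} {pE : E ⟶ E'} {fE' : A' ⟶ E'} (sqE : IsPushout fE a pE fE')
    (σ τ : B ⟶ C) (hσ : fB ≫ σ = fC) (hτ : fB ≫ τ = fC) (σ' τ' : B' ⟶ C')
    (hσ1 : pB ≫ σ' = σ ≫ pC) (hσ2 : fB' ≫ σ' = fC') (hτ1 : pB ≫ τ' = τ ≫ pC)
    (hτ2 : fB' ≫ τ' = fC')
    (ι : E ⟶ B) (hι : fE ≫ ι = fB) (ι' : E' ⟶ B') (hι1 : pE ≫ ι' = ι ≫ pB)
    (hι2 : fE' ≫ ι' = fB')
    (hinj : Function.Injective ι.hom)
    (hrange : ∀ x : B, σ.hom x = τ.hom x → x ∈ Set.range ι.hom) (heq : ι ≫ σ = ι ≫ τ) :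
    Function.Injective ι'.hom ∧ ∀ y : B', σ'.hom y = τ'.hom y → y ∈ Set.range ι'.hom := by
  letI : Algebra A A' := a.hom.toAlgebra
  letI : Algebra A B := fB.hom.toAlgebra
  letI : Algebra A C := fC.hom.toAlgebra
  letI : Algebra A E := fE.hom.toAlgebra
  haveI : Module.Flat A A' := ha
  -- the algebra maps
  have cι : ∀ r : A, ι.hom (algebraMap A E r) = algebraMap A B r := fun r => by
    change (fE ≫ ι).hom r = fB.hom r
    rw [hι]
  have cσ : ∀ r : A, σ.hom (algebraMap A B r) = algebraMap A C r := fun r => by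
    change (fB ≫ σ).hom r = fC.hom r
    rw [hσ]
  have cτ : ∀ r : A, τ.hom (algebraMap A B r) = algebraMap A C r := fun r => by
    change (fB ≫ τ).hom r = fC.hom r
    rw [hτ]
  let ιa : E →ₐ[A] B := AlgHom.mk ι.hom cι
  let σa : B →ₐ[A] C := AlgHom.mk σ.hom cσ
  let τa : B →ₐ[A] C := AlgHom.mk τ.hom cτ
  obtain ⟨k1, k2⟩ := rTensor_eqLocus (A' := A') ιa σa τa hinj hrange (fun e => by
    change (ι ≫ σ).hom e = (ι ≫ τ).hom e
    rw [heq])
  -- the models
  have mB := CommRingCat.isPushout_tensorProduct A B A'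
  have mC := CommRingCat.isPushout_tensorProduct A C A'
  have mE := CommRingCat.isPushout_tensorProduct A E A'
  let eB := sqB.isoIsPushout _ _ mB
  let eC := sqC.isoIsPushout _ _ mC
  let eE := sqE.isoIsPushout _ _ mE
  have eB1 : pB ≫ eB.hom = CommRingCat.ofHom Algebra.TensorProduct.includeLeftRingHom :=
    sqB.inl_isoIsPushout_hom _ _ mB
  have eB2 : fB' ≫ eB.hom = CommRingCat.ofHom Algebra.TensorProduct.includeRight.toRingHom :=
    sqB.inr_isoIsPushout_hom _ _ mB
  have eC1 : pC ≫ eC.hom = CommRingCat.ofHom Algebra.TensorProduct.includeLeftRingHom :=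
    sqC.inl_isoIsPushout_hom _ _ mC
  have eC2 : fC' ≫ eC.hom = CommRingCat.ofHom Algebra.TensorProduct.includeRight.toRingHom :=
    sqC.inr_isoIsPushout_hom _ _ mC
  have eE1 : pE ≫ eE.hom = CommRingCat.ofHom Algebra.TensorProduct.includeLeftRingHom :=
    sqE.inl_isoIsPushout_hom _ _ mE
  have eE2 : fE' ≫ eE.hom = CommRingCat.ofHom Algebra.TensorProduct.includeRight.toRingHom :=
    sqE.inr_isoIsPushout_hom _ _ mE
  -- the transported maps
  have hιm : ι' ≫ eB.hom = eE.hom ≫
      CommRingCat.ofHom (Algebra.TensorProduct.map ιa (AlgHom.id A A')).toRingHom := by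
    apply sqE.hom_ext
    · rw [← Category.assoc, hι1, Category.assoc, eB1, ← Category.assoc, eE1]
      ext x
      simp [ιa]
    · rw [← Category.assoc, hι2, eB2, ← Category.assoc, eE2]
      ext x
      simp
  have hσm : σ' ≫ eC.hom = eB.hom ≫
      CommRingCat.ofHom (Algebra.TensorProduct.map σa (AlgHom.id A A')).toRingHom := by
    apply sqB.hom_ext
    · rw [← Category.assoc, hσ1, Category.assoc, eC1, ← Category.assoc, eB1]
      ext x
      simp [σa]
    · rw [← Category.assoc, hσ2, eC2, ← Category.assoc, eB2]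
      ext x
      simp
  have hτm : τ' ≫ eC.hom = eB.hom ≫
      CommRingCat.ofHom (Algebra.TensorProduct.map τa (AlgHom.id A A')).toRingHom := by
    apply sqB.hom_ext
    · rw [← Category.assoc, hτ1, Category.assoc, eC1, ← Category.assoc, eB1]
      ext x
      simp [τa]
    · rw [← Category.assoc, hτ2, eC2, ← Category.assoc, eB2]
      ext x
      simp
  have injB : Function.Injective eB.hom.hom := (ConcreteCategory.bijective_of_isIso eB.hom).1
  have injC : Function.Injective eC.hom.hom := (ConcreteCategory.bijective_of_isIso eC.hom).1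
  have injE : Function.Injective eE.hom.hom := (ConcreteCategory.bijective_of_isIso eE.hom).1
  have surE : Function.Surjective eE.hom.hom := (ConcreteCategory.bijective_of_isIso eE.hom).2
  have hι_el : ∀ z : E', eB.hom.hom (ι'.hom z) =
      Algebra.TensorProduct.map ιa (AlgHom.id A A') (eE.hom.hom z) := fun z => by
    have := congrArg (fun m => m.hom z) hιm
    simpa using this
  have hσ_el : ∀ y : B', eC.hom.hom (σ'.hom y) =
      Algebra.TensorProduct.map σa (AlgHom.id A A') (eB.hom.hom y) := fun y => by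
    have := congrArg (fun m => m.hom y) hσm
    simpa using this
  have hτ_el : ∀ y : B', eC.hom.hom (τ'.hom y) =
      Algebra.TensorProduct.map τa (AlgHom.id A A') (eB.hom.hom y) := fun y => by
    have := congrArg (fun m => m.hom y) hτm
    simpa using this
  constructor
  · intro z z' hz
    apply injE
    apply k1
    rw [← hι_el, ← hι_el, hz]
  · intro y hy
    have : Algebra.TensorProduct.map σa (AlgHom.id A A') (eB.hom.hom y) =
        Algebra.TensorProduct.map τa (AlgHom.id A A') (eB.hom.hom y) := by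
      rw [← hσ_el, ← hτ_el, hy]
    obtain ⟨z, hz⟩ := k2 _ this
    obtain ⟨z', rfl⟩ := surE z
    refine ⟨z', ?_⟩
    apply injB
    rw [hι_el, hz]

end Groth.Agent.R2.H95.NormAlg
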