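import Groth.Agent.R2.H95NormAffA
import Groth.Agent.R2.H95NormAlg

/-!
# Affinization of an algebraic space over an affine scheme, part B: flat base change (helper95)

`exists_baseChange`: an affine chart `c` of `b : F ⟶ h_U` with an affinization datum `A`, base
changed along a flat morphism of affine schemes `g : W ⟶ U`, gives an affine chart of
`b' : F ×_U W ⟶ h_W` with affinization datum `X ×_U W`.
-/

set_option autoImplicit false
universe u
open CategoryTheory CategoryTheory.Limits AlgebraicGeometry Opposite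
open AlgSp

set_option backward.isDefEq.respectTransparency false
set_option linter.style.haveILetI false

namespace Groth.Agent.R2.H95.NormAff

variable {S : Scheme.{u}}

theorem appTop_of_eq {X Y Z : Over S} {f : X ⟶ Y} {g : Y ⟶ Z} {h : X ⟶ Z} (e : f ≫ g = h) :
    g.left.appTop ≫ f.left.appTop = h.left.appTop := by
  rw [← e, Over.comp_left, Scheme.Hom.comp_appTop]

theorem appTop_of_sq {X Y Y' Z : Over S} {f : X ⟶ Y} {g : Y ⟶ Z} {f' : X ⟶ Y'} {g' : Y' ⟶ Z}
    (e : f ≫ g = f' ≫ g') :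
    g.left.appTop ≫ f.left.appTop = g'.left.appTop ≫ f'.left.appTop := by
  rw [appTop_of_eq e, appTop_of_eq rfl]

theorem isAffine_of_isPullback_over {P X Y Z : Over S} {fst : P ⟶ X} {snd : P ⟶ Y} {f : X ⟶ Z}
    {g : Y ⟶ Z} (h : IsPullback fst snd f g) (hX : IsAffine X.left) (hY : IsAffine Y.left)
    (hZ : IsAffine Z.left) : IsAffine P.left := by
  haveI := hX
  haveI := hY
  haveI := hZ
  have h' : IsPullback fst.left snd.left f.left g.left := h.map (Over.forget S)
  exact IsAffine.of_isPullback h'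

theorem isPushout_appTop_over {P X Y Z : Over S} {fst : P ⟶ X} {snd : P ⟶ Y} {f : X ⟶ Z}
    {g : Y ⟶ Z} (h : IsPullback fst snd f g) (hX : IsAffine X.left) (hY : IsAffine Y.left)
    (hZ : IsAffine Z.left) :
    IsPushout f.left.appTop g.left.appTop fst.left.appTop snd.left.appTop := by
  haveI := hX
  haveI := hY
  haveI := hZ
  have h' : IsPullback fst.left snd.left f.left g.left := h.map (Over.forget S)
  exact isPushout_appTop_of_isPullback h'

/-- **flat base change of an affine chart with affinization datum.** -/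
theorem exists_baseChange {F : AlgSp.Sp S} {U : Over S} {b : F ⟶ (AlgSp.yon S).obj U}
    (c : AffChart b) (A : Affn c) {W : Over S} (g : W ⟶ U) {F' : AlgSp.Sp S} (a' : F' ⟶ F)
    (b' : F' ⟶ (AlgSp.yon S).obj W) (sqF : IsPullback a' b' b ((AlgSp.yon S).map g))
    (hU : IsAffine U.left) (hW : IsAffine W.left) (hg : Flat g.left) :
    ∃ (c' : AffChart b') (A' : Affn c') (pX : A'.X ⟶ A.X) (pV : c'.V ⟶ c.V),
      IsPullback pX A'.νX A.νX g ∧ c'.v ≫ a' = (AlgSp.yon S).map pV ≫ c.v ∧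
      pV ≫ A.c₀ = A'.c₀ ≫ pX := by
  haveI := hU
  haveI := hW
  haveI := hg
  haveI := c.hv
  haveI := c.hr
  have hV := c.hV
  have hR := c.hR
  have hX := A.hX
  -- the pullbacks in `Over S`
  obtain ⟨V', pV, qV, sqV⟩ : ∃ (V' : Over S) (pV : V' ⟶ c.V) (qV : V' ⟶ W),
      IsPullback pV qV c.b₀ g := ⟨_, _, _, IsPullback.of_hasPullback _ _⟩
  obtain ⟨R', pR, qR, sqR⟩ : ∃ (R' : Over S) (pR : R' ⟶ c.R) (qR : R' ⟶ W),
      IsPullback pR qR (c.s ≫ c.b₀) g := ⟨_, _, _, IsPullback.of_hasPullback _ _⟩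
  obtain ⟨X', pX, νX', sqX⟩ : ∃ (X' : Over S) (pX : X' ⟶ A.X) (νX' : X' ⟶ W),
      IsPullback pX νX' A.νX g := ⟨_, _, _, IsPullback.of_hasPullback _ _⟩
  have hV' : IsAffine V'.left := isAffine_of_isPullback_over sqV hV hW hU
  have hR' : IsAffine R'.left := isAffine_of_isPullback_over sqR hR hW hU
  have hX' : IsAffine X'.left := isAffine_of_isPullback_over sqX hX hW hU
  obtain ⟨s', hs'1, hs'2⟩ : ∃ s' : R' ⟶ V', s' ≫ pV = pR ≫ c.s ∧ s' ≫ qV = qR :=
    ⟨sqV.lift (pR ≫ c.s) qR (by rw [Category.assoc, sqR.w]), sqV.lift_fst _ _ _,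
      sqV.lift_snd _ _ _⟩
  obtain ⟨t', ht'1, ht'2⟩ : ∃ t' : R' ⟶ V', t' ≫ pV = pR ≫ c.t ∧ t' ≫ qV = qR :=
    ⟨sqV.lift (pR ≫ c.t) qR (by rw [Category.assoc, ← c.s_b₀, sqR.w]), sqV.lift_fst _ _ _,
      sqV.lift_snd _ _ _⟩
  obtain ⟨c₀', hc₀'1, hc₀'2⟩ : ∃ c₀' : V' ⟶ X', c₀' ≫ pX = pV ≫ A.c₀ ∧ c₀' ≫ νX' = qV :=
    ⟨sqX.lift (pV ≫ A.c₀) qV (by rw [Category.assoc, A.h2, sqV.w]), sqX.lift_fst _ _ _,
      sqX.lift_snd _ _ _⟩
  -- the new atlas
  have hv'cond : ((AlgSp.yon S).map pV ≫ c.v) ≫ b = (AlgSp.yon S).map qV ≫ (AlgSp.yon S).map g := by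
    rw [Category.assoc, ← c.map_b₀, ← Functor.map_comp, ← Functor.map_comp, sqV.w]
  obtain ⟨v', hv'1, hv'2⟩ : ∃ v' : (AlgSp.yon S).obj V' ⟶ F',
      v' ≫ a' = (AlgSp.yon S).map pV ≫ c.v ∧ v' ≫ b' = (AlgSp.yon S).map qV :=
    ⟨sqF.lift _ _ hv'cond, sqF.lift_fst _ _ _, sqF.lift_snd _ _ _⟩
  have hst' : (AlgSp.yon S).map s' ≫ v' = (AlgSp.yon S).map t' ≫ v' := by
    apply sqF.hom_ext
    · rw [Category.assoc, Category.assoc, hv'1, ← Functor.map_comp_assoc, ← Functor.map_comp_assoc,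
        hs'1, ht'1, Functor.map_comp, Functor.map_comp, Category.assoc, Category.assoc, c.hst]
    · rw [Category.assoc, Category.assoc, hv'2, ← Functor.map_comp, ← Functor.map_comp, hs'2, ht'2]
  have sqV' : IsPullback ((AlgSp.yon S).map pV) v' c.v a' := by
    have big : IsPullback ((AlgSp.yon S).map pV) (v' ≫ b') (c.v ≫ b) ((AlgSp.yon S).map g) := by
      rw [hv'2, ← c.map_b₀]
      exact sqV.map (AlgSp.yon S)
    exact IsPullback.of_bot big hv'1.symm sqF
  haveI hv'epi : Epi v' := Groth.Agent.R2.H95.SpEpi.epi_of_isPullback sqV'.flip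
  -- the kernel pairs
  obtain ⟨kmap, hk1, hk2⟩ : ∃ kmap : pullback v' v' ⟶ pullback c.v c.v,
      kmap ≫ pullback.fst c.v c.v = pullback.fst v' v' ≫ (AlgSp.yon S).map pV ∧
      kmap ≫ pullback.snd c.v c.v = pullback.snd v' v' ≫ (AlgSp.yon S).map pV :=
    ⟨pullback.map v' v' c.v c.v ((AlgSp.yon S).map pV) ((AlgSp.yon S).map pV) a' hv'1 hv'1,
      pullback.lift_fst _ _ _, pullback.lift_snd _ _ _⟩
  have sqK1 : IsPullback kmap (pullback.fst v' v') (pullback.fst c.v c.v)
      ((AlgSp.yon S).map pV) := by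
    have big : IsPullback (kmap ≫ pullback.snd c.v c.v) (pullback.fst v' v') c.v
        ((AlgSp.yon S).map pV ≫ c.v) := by
      rw [hk2, ← hv'1]
      exact (IsPullback.of_hasPullback v' v').flip.paste_horiz sqV'
    exact IsPullback.of_right big hk1 (IsPullback.of_hasPullback c.v c.v).flip
  have sqK2 : IsPullback kmap (pullback.fst v' v' ≫ (AlgSp.yon S).map qV)
      (pullback.fst c.v c.v ≫ (AlgSp.yon S).map c.b₀) ((AlgSp.yon S).map g) :=
    sqK1.paste_vert (sqV.map (AlgSp.yon S))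
  have sqR' : IsPullback ((AlgSp.yon S).map pR)
      (pullback.lift ((AlgSp.yon S).map s') ((AlgSp.yon S).map t') hst')
      (pullback.lift ((AlgSp.yon S).map c.s) ((AlgSp.yon S).map c.t) c.hst) kmap := by
    have big : IsPullback ((AlgSp.yon S).map pR)
        (pullback.lift ((AlgSp.yon S).map s') ((AlgSp.yon S).map t') hst' ≫
          pullback.fst v' v' ≫ (AlgSp.yon S).map qV)
        (pullback.lift ((AlgSp.yon S).map c.s) ((AlgSp.yon S).map c.t) c.hst ≫
          pullback.fst c.v c.v ≫ (AlgSp.yon S).map c.b₀) ((AlgSp.yon S).map g) := by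
      have e1 : pullback.lift ((AlgSp.yon S).map s') ((AlgSp.yon S).map t') hst' ≫
          pullback.fst v' v' ≫ (AlgSp.yon S).map qV = (AlgSp.yon S).map qR := by
        rw [pullback.lift_fst_assoc, ← Functor.map_comp, hs'2]
      have e2 : pullback.lift ((AlgSp.yon S).map c.s) ((AlgSp.yon S).map c.t) c.hst ≫
          pullback.fst c.v c.v ≫ (AlgSp.yon S).map c.b₀ = (AlgSp.yon S).map (c.s ≫ c.b₀) := by
        rw [pullback.lift_fst_assoc, ← Functor.map_comp]
      rw [e1, e2]
      exact sqR.map (AlgSp.yon S)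
    refine IsPullback.of_bot big ?_ sqK2
    apply pullback.hom_ext
    · rw [Category.assoc, pullback.lift_fst, Category.assoc, hk1, pullback.lift_fst_assoc,
        ← Functor.map_comp, ← Functor.map_comp, hs'1]
    · rw [Category.assoc, pullback.lift_snd, Category.assoc, hk2, pullback.lift_snd_assoc,
        ← Functor.map_comp, ← Functor.map_comp, ht'1]
  haveI hr'epi : Epi (pullback.lift ((AlgSp.yon S).map s') ((AlgSp.yon S).map t') hst') :=
    Groth.Agent.R2.H95.SpEpi.epi_of_isPullback sqR'.flip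
  -- the new chart
  let c' : AffChart b' :=
    { V := V', R := R', hV := hV', hR := hR', v := v', s := s', t := t', hst := hst',
      hve := MorphismProperty.of_isPullback (P := AlgSp.RepWith @Etale) sqV' c.hve,
      hv := hv'epi, hr := hr'epi }
  have hb₀' : c'.b₀ = qV := by
    apply (AlgSp.yon S).map_injective
    rw [c'.map_b₀]
    exact hv'2
  -- the equalizer condition by flat base change
  have hflat : g.left.appTop.hom.Flat := Scheme.Hom.flat_appTop g.left
  have key := Groth.Agent.R2.H95.NormAlg.flat_bc g.left.appTop hflat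
    (isPushout_appTop_over sqV hV hW hU) (isPushout_appTop_over sqR hR hW hU)
    (isPushout_appTop_over sqX hX hW hU)
    c.s.left.appTop c.t.left.appTop (appTop_of_eq rfl) (appTop_of_eq c.s_b₀.symm)
    s'.left.appTop t'.left.appTop (appTop_of_sq hs'1) (appTop_of_eq hs'2) (appTop_of_sq ht'1)
    (appTop_of_eq ht'2)
    A.c₀.left.appTop (appTop_of_eq A.h2) c₀'.left.appTop (appTop_of_sq hc₀'1) (appTop_of_eq hc₀'2)
    A.hinj A.hrange (appTop_of_sq A.h1)
  let A' : Affn c' :=
    { X := X', hX := hX', c₀ := c₀', νX := νX'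
      h1 := by
        apply sqX.hom_ext
        · rw [Category.assoc, Category.assoc, hc₀'1, ← Category.assoc, ← Category.assoc]
          change (s' ≫ pV) ≫ A.c₀ = (t' ≫ pV) ≫ A.c₀
          rw [hs'1, ht'1, Category.assoc, Category.assoc, A.h1]
        · rw [Category.assoc, Category.assoc, hc₀'2]
          exact hs'2.trans ht'2.symm
      h2 := by rw [hb₀']; exact hc₀'2
      hinj := key.1
      hrange := key.2 }
  exact ⟨c', A', pX, pV, sqX, hv'1, hc₀'1.symm⟩

end Groth.Agent.R2.H95.NormAff
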