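import Mathlib
import Groth.Agent.R2.H95NormSpec
import Groth.Agent.S10298

/-!
# Relative normalization: the scheme case (helper95)

`schStable : NormSpec.SchStableStmt`: the Mathlib normalization of a quasi-compact quasi-separated
morphism of schemes over `S` is a stable normalization for smooth base change
(Mathlib `Scheme.Hom.normalizationPullback` is an isomorphism for smooth base change).
-/

set_option autoImplicit false
universe u
open CategoryTheory CategoryTheory.Limits AlgebraicGeometry Opposite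
open AlgSp

set_option backward.isDefEq.respectTransparency false
set_option linter.style.haveILetI false

namespace Groth.Agent.R2.H95.NormSch

open Groth.Agent.R2.H95.NormSpec

/-- smooth base change of the normalization, for arbitrary pullback squares of schemes. -/
theorem exists_iso_normalization_of_isPullback {X Y Y' X' N N' : Scheme.{u}} (f : X ⟶ Y)
    [QuasiCompact f] [QuasiSeparated f] (w : Y' ⟶ Y) [Smooth w]
    (fst : X' ⟶ X) (f' : X' ⟶ Y') (sqX : IsPullback fst f' f w)
    (η : X ⟶ N) (ν : N ⟶ Y) (e : N ≅ f.normalization) (he1 : η ≫ e.hom = f.toNormalization)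
    (he2 : e.hom ≫ f.fromNormalization = ν)
    (g' : N' ⟶ N) (ν' : N' ⟶ Y') (sqN : IsPullback g' ν' ν w)
    (η' : X' ⟶ N') (h1 : η' ≫ ν' = f') (h2 : η' ≫ g' = fst ≫ η)
    [QuasiCompact f'] [QuasiSeparated f'] :
    ∃ e' : N' ≅ f'.normalization, η' ≫ e'.hom = f'.toNormalization ∧
      e'.hom ≫ f'.fromNormalization = ν' := by
  haveI hν : IsIntegralHom ν := by rw [← he2]; infer_instance
  haveI hν' : IsIntegralHom ν' := MorphismProperty.of_isPullback sqN hν
  -- the comparison map
  obtain ⟨d, hd⟩ : ∃ d, d = f'.normalizationDesc η' ν' h1.symm := ⟨_, rfl⟩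
  have hd1 : f'.toNormalization ≫ d = η' := by rw [hd, Scheme.Hom.toNormalization_normalizationDesc]
  have hd2 : d ≫ ν' = f'.fromNormalization := by rw [hd, Scheme.Hom.normalizationDesc_comp]
  -- the chosen pullbacks
  obtain ⟨iX, hiX⟩ : ∃ iX, iX = sqX.isoPullback := ⟨_, rfl⟩
  have hiX1 : iX.hom ≫ pullback.fst f w = fst := by rw [hiX, sqX.isoPullback_hom_fst]
  have hiX2 : iX.hom ≫ pullback.snd f w = f' := by rw [hiX, sqX.isoPullback_hom_snd]
  have sqN' : IsPullback (g' ≫ e.hom) ν' f.fromNormalization w := by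
    refine IsPullback.of_iso sqN (Iso.refl _) e (Iso.refl _) (Iso.refl _) (by simp) (by simp)
      (by simp [he2]) (by simp)
  obtain ⟨iN, hiN⟩ : ∃ iN, iN = sqN'.isoPullback := ⟨_, rfl⟩
  have hiN1 : iN.hom ≫ pullback.fst f.fromNormalization w = g' ≫ e.hom := by
    rw [hiN, sqN'.isoPullback_hom_fst]
  have hiN2 : iN.hom ≫ pullback.snd f.fromNormalization w = ν' := by
    rw [hiN, sqN'.isoPullback_hom_snd]
  have hiN2' : iN.inv ≫ ν' = pullback.snd f.fromNormalization w := by
    rw [← hiN2, Iso.inv_hom_id_assoc]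
  obtain ⟨φ, hφ⟩ : ∃ φ, φ = f.normalizationPullback w := ⟨_, rfl⟩
  haveI : IsIso φ := by rw [hφ]; infer_instance
  have hφ1 : φ ≫ pullback.snd f.fromNormalization w = (pullback.snd f w).fromNormalization := by
    rw [hφ, Scheme.Hom.normalizationPullback_snd]
  have hφ2 : (pullback.snd f w).toNormalization ≫ φ ≫ pullback.fst f.fromNormalization w =
      pullback.fst f w ≫ f.toNormalization := by
    rw [hφ, Scheme.Hom.toNormalization_normalizationPullback_fst]
  have hH : pullback.snd f w = (iX.inv ≫ f'.toNormalization) ≫ f'.fromNormalization := by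
    rw [Category.assoc, Scheme.Hom.toNormalization_fromNormalization, ← hiX2, Iso.inv_hom_id_assoc]
  obtain ⟨ψ, hψ⟩ : ∃ ψ, ψ = (pullback.snd f w).normalizationDesc (iX.inv ≫ f'.toNormalization)
      f'.fromNormalization hH := ⟨_, rfl⟩
  have hψ1 : (pullback.snd f w).toNormalization ≫ ψ = iX.inv ≫ f'.toNormalization := by
    rw [hψ, Scheme.Hom.toNormalization_normalizationDesc]
  have hψ2 : ψ ≫ f'.fromNormalization = (pullback.snd f w).fromNormalization := by
    rw [hψ, Scheme.Hom.normalizationDesc_comp]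
  -- the key compatibility
  have hkey : η' ≫ iN.hom = iX.hom ≫ (pullback.snd f w).toNormalization ≫ φ := by
    apply pullback.hom_ext
    · rw [Category.assoc, hiN1, ← Category.assoc, h2, Category.assoc, he1, Category.assoc,
        Category.assoc, hφ2, ← Category.assoc, hiX1]
    · rw [Category.assoc, hiN2, h1, Category.assoc, Category.assoc, hφ1,
        Scheme.Hom.toNormalization_fromNormalization, hiX2]
  have hφinv : inv φ ≫ (pullback.snd f w).fromNormalization =
      pullback.snd f.fromNormalization w := by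
    rw [← hφ1, IsIso.inv_hom_id_assoc]
  obtain ⟨d', hd'⟩ : ∃ d', d' = iN.hom ≫ inv φ ≫ ψ := ⟨_, rfl⟩
  have e1 : d ≫ d' = 𝟙 _ := by
    refine Scheme.Hom.normalization.hom_ext f' _ _ f'.fromNormalization ?_ ?_ (by simp)
    · rw [Category.comp_id, ← Category.assoc, hd1, hd', ← Category.assoc, hkey, Category.assoc,
        Category.assoc, IsIso.hom_inv_id_assoc, hψ1, Iso.hom_inv_id_assoc]
    · rw [hd', Category.assoc, Category.assoc, Category.assoc, hψ2, hφinv, hiN2, hd2]
  have e2 : d' ≫ d = 𝟙 _ := by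
    have h3 : ψ ≫ d = φ ≫ iN.inv := by
      refine Scheme.Hom.normalization.hom_ext (pullback.snd f w) _ _ ν' ?_ ?_ ?_
      · rw [← Category.assoc, hψ1, Category.assoc, hd1, ← Category.assoc,
          Iso.eq_comp_inv, Category.assoc, hkey, Iso.inv_hom_id_assoc]
      · rw [Category.assoc, hd2, hψ2]
      · rw [Category.assoc, hiN2', hφ1]
    rw [hd', Category.assoc, Category.assoc, h3, IsIso.inv_hom_id_assoc, Iso.hom_inv_id]
  refine ⟨⟨d', d, e2, e1⟩, ?_, ?_⟩
  · change η' ≫ d' = _
    rw [← hd1, Category.assoc, e1, Category.comp_id]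
  · change d' ≫ _ = _
    rw [← hd2, ← Category.assoc, e2, Category.id_comp]

variable {S : Scheme.{u}}

/-- **Package A**: the Mathlib normalization is a stable normalization for smooth base change. -/
theorem schStable : SchStableStmt.{u} := by
  intro S V U N g _ _ f' ν e he1 he2 W w hw FW a' b' sqF NW g' ν' sqN η' h1 h2
  haveI : Smooth w.left := hw
  -- the fibre product `V ×_U W` as a scheme
  have sq₀ := IsPullback.of_hasPullback g w
  have sq₀' := sq₀.map (AlgSp.yon S)
  obtain ⟨VW, hVW⟩ : ∃ VW, VW = pullback g w := ⟨_, rfl⟩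
  obtain ⟨p₁, hp₁⟩ : ∃ p₁ : VW ⟶ V, HEq p₁ (pullback.fst g w) := by subst hVW; exact ⟨_, HEq.rfl⟩
  obtain ⟨p₂, hp₂⟩ : ∃ p₂ : VW ⟶ W, HEq p₂ (pullback.snd g w) := by subst hVW; exact ⟨_, HEq.rfl⟩
  have sq₀ : IsPullback p₁ p₂ g w := by subst hVW; cases hp₁; cases hp₂; exact sq₀
  clear hp₁ hp₂ hVW sq₀'
  have sq₀' := sq₀.map (AlgSp.yon S)
  obtain ⟨eF, heF⟩ : ∃ eF, eF = sqF.isoIsPullback _ _ sq₀' := ⟨_, rfl⟩
  have heF1 : eF.hom ≫ (AlgSp.yon S).map p₁ = a' := by rw [heF, IsPullback.isoIsPullback_hom_fst]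
  have heF2 : eF.hom ≫ (AlgSp.yon S).map p₂ = b' := by rw [heF, IsPullback.isoIsPullback_hom_snd]
  obtain ⟨η'', hη''⟩ := (AlgSp.yon S).map_surjective (eF.inv ≫ η')
  have hη''1 : η'' ≫ ν' = p₂ := by
    apply (AlgSp.yon S).map_injective
    rw [Functor.map_comp, hη'', Category.assoc, h1, ← heF2, Iso.inv_hom_id_assoc]
  have hη''2 : η'' ≫ g' = p₁ ≫ f' := by
    apply (AlgSp.yon S).map_injective
    rw [Functor.map_comp, hη'', Category.assoc, h2, ← heF1, Category.assoc, Iso.inv_hom_id_assoc,
      Functor.map_comp]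
  have sqX : IsPullback p₁.left p₂.left g.left w.left := sq₀.map (Over.forget S)
  have sqN₀ : IsPullback g'.left ν'.left ν.left w.left := sqN.map (Over.forget S)
  haveI : QuasiCompact p₂.left := MorphismProperty.of_isPullback sqX inferInstance
  haveI : QuasiSeparated p₂.left := MorphismProperty.of_isPullback sqX inferInstance
  obtain ⟨e', he'1, he'2⟩ := exists_iso_normalization_of_isPullback g.left w.left p₁.left p₂.left
    sqX f'.left ν.left e he1 he2 g'.left ν'.left sqN₀ η''.left
    (by rw [← Over.comp_left, hη''1]) (by rw [← Over.comp_left, hη''2]; rfl)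
  have hrel := Groth.Agent.S10298.result p₂ η'' ν' e' he'1 he'2
  refine isRelNormalization_of_iso hrel eF (Iso.refl _) b' _ η' heF2.symm (by simp) ?_
  rw [Iso.refl_hom, Category.comp_id, hη'', Iso.hom_inv_id_assoc]

/-- the Mathlib normalization of a qcqs morphism in `Over S`, as a stable normalization. -/
theorem exists_stableNorm {V U : Over S} (g : V ⟶ U) [QuasiCompact g.left]
    [QuasiSeparated g.left] :
    ∃ (N : Over S) (ν₀ : N ⟶ U) (η₀ : V ⟶ N) (e : N.left ≅ g.left.normalization),
      η₀.left ≫ e.hom = g.left.toNormalization ∧ e.hom ≫ g.left.fromNormalization = ν₀.left ∧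
      η₀ ≫ ν₀ = g ∧ StableNorm @Smooth ((AlgSp.yon S).map g) ν₀ ((AlgSp.yon S).map η₀) := by
  have hw : g.left.toNormalization ≫ g.left.fromNormalization ≫ U.hom = V.hom := by
    rw [← Category.assoc, Scheme.Hom.toNormalization_fromNormalization, Over.w g]
  refine ⟨Over.mk (g.left.fromNormalization ≫ U.hom), Over.homMk g.left.fromNormalization rfl,
    Over.homMk g.left.toNormalization hw, Iso.refl _, ?_, ?_, ?_, ?_⟩
  · exact Category.comp_id _
  · exact Category.id_comp _
  · ext
    exact Scheme.Hom.toNormalization_fromNormalization g.left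
  · exact schStable g _ _ (Iso.refl _) (Category.comp_id _) (Category.id_comp _)

end Groth.Agent.R2.H95.NormSch
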