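import Groth.Agent.R2.H95NormAffB
import Groth.Agent.R2.H95NormSch
import Groth.Agent.S10180
import Groth.Agent.R2.H44LimRed

/-!
# Affinization of an algebraic space over an affine scheme, part C: existence (helper95)

`exists_affn`: every affine chart has an affinization datum (`Spec` of the equalizer).
`exists_affChart`: a quasi-compact quasi-separated `b : F ⟶ h_U` from an algebraic space to an
affine scheme has an affine chart.
`affStable : AffStableStmt`.
-/

set_option autoImplicit false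
universe u
open CategoryTheory CategoryTheory.Limits AlgebraicGeometry Opposite
open AlgSp

set_option backward.isDefEq.respectTransparency false
set_option linter.style.haveILetI false

namespace Groth.Agent.R2.H95.NormAff

variable {S : Scheme.{u}}

/-- **existence of the affinization datum.** -/
theorem exists_affn {F : AlgSp.Sp S} {U : Over S} {b : F ⟶ (AlgSp.yon S).obj U} (c : AffChart b)
    (hU : IsAffine U.left) : Nonempty (Affn c) := by
  haveI := hU
  obtain ⟨σ, hσ⟩ : ∃ σ, σ = c.s.left.appTop := ⟨_, rfl⟩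
  obtain ⟨τ, hτ⟩ : ∃ τ, τ = c.t.left.appTop := ⟨_, rfl⟩
  obtain ⟨β, hβ⟩ : ∃ β, β = c.b₀.left.appTop := ⟨_, rfl⟩
  have hβσ : β ≫ σ = β ≫ τ := by
    rw [hβ, hσ, hτ]
    exact appTop_of_sq c.s_b₀
  let E : CommRingCat.{u} := CommRingCat.of (RingHom.eqLocus σ.hom τ.hom)
  let ι : E ⟶ Γ(c.V.left, ⊤) := CommRingCat.ofHom (Subring.subtype _)
  let α : Γ(U.left, ⊤) ⟶ E := CommRingCat.ofHom
    (RingHom.codRestrict β.hom (RingHom.eqLocus σ.hom τ.hom)
      (fun r => by
        have h1 := congrArg (fun m => m.hom r) hβσ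
        exact h1))
  have hαι : α ≫ ι = β := by
    ext r
    rfl
  have hισ : ι ≫ σ = ι ≫ τ := by
    ext x
    exact x.2
  obtain ⟨νl, hνl⟩ : ∃ νl : Spec E ⟶ U.left, νl = Spec.map α ≫ U.left.isoSpec.inv := ⟨_, rfl⟩
  obtain ⟨c₀l, hc₀l⟩ : ∃ c₀l : c.V.left ⟶ Spec E, c₀l = c.V.left.toSpecΓ ≫ Spec.map ι := ⟨_, rfl⟩
  have hc₀ν : c₀l ≫ νl = c.b₀.left := by
    rw [hc₀l, hνl, Category.assoc, ← Spec.map_comp_assoc, hαι, hβ,
      ← Scheme.toSpecΓ_naturality_assoc]
    have : U.left.toSpecΓ = U.left.isoSpec.hom := rfl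
    rw [this, Iso.hom_inv_id, Category.comp_id]
  have hw : c₀l ≫ (Over.mk (νl ≫ U.hom)).hom = c.V.hom := by
    change c₀l ≫ νl ≫ U.hom = c.V.hom
    rw [← Category.assoc, hc₀ν, Over.w c.b₀]
  have hsc : c.s.left ≫ c₀l = c.t.left ≫ c₀l := by
    rw [hc₀l, Scheme.toSpecΓ_naturality_assoc, Scheme.toSpecΓ_naturality_assoc,
      ← Spec.map_comp, ← Spec.map_comp, ← hσ, ← hτ, hισ]
  have happ : c₀l.appTop = (Scheme.ΓSpecIso E).hom ≫ ι := by
    rw [hc₀l, Scheme.Hom.comp_appTop, Scheme.toSpecΓ_appTop, Scheme.ΓSpecIso_naturality]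
  refine ⟨{ X := Over.mk (νl ≫ U.hom), hX := (inferInstance : IsAffine (Spec E)),
            c₀ := Over.homMk c₀l hw, νX := Over.homMk νl rfl, h1 := ?_, h2 := ?_, hinj := ?_,
            hrange := ?_ }⟩
  · ext
    exact hsc
  · ext
    exact hc₀ν
  · change Function.Injective c₀l.appTop.hom
    rw [happ]
    intro x y hxy
    have h1 : (Scheme.ΓSpecIso E).hom.hom x = (Scheme.ΓSpecIso E).hom.hom y :=
      Subtype.ext hxy
    exact (ConcreteCategory.bijective_of_isIso (Scheme.ΓSpecIso E).hom).1 h1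
  · intro x hx
    change x ∈ Set.range c₀l.appTop.hom
    rw [happ]
    have hx' : x ∈ RingHom.eqLocus σ.hom τ.hom := by
      change σ.hom x = τ.hom x
      rw [hσ, hτ]
      exact hx
    obtain ⟨y, hy⟩ := (ConcreteCategory.bijective_of_isIso (Scheme.ΓSpecIso E).hom).2 ⟨x, hx'⟩
    refine ⟨y, ?_⟩
    change ι.hom ((Scheme.ΓSpecIso E).hom.hom y) = x
    have hy' : (Scheme.ΓSpecIso E).hom.hom y = ⟨x, hx'⟩ := hy
    rw [hy']
    rfl

/-- **existence of affine charts.** -/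
theorem exists_affChart {F : AlgSp.Sp S} (_hF : AlgSp.IsAlgSpace F) {U : Over S}
    (hU : IsAffine U.left) (b : F ⟶ (AlgSp.yon S).obj U) (hqc : AlgSp.IsQuasiCompactMor b)
    (hqs : AlgSp.IsQuasiSeparatedMor b) : Nonempty (AffChart b) := by
  haveI := hU
  -- `F` is quasi-compact
  have hFqc : AlgSp.IsQuasiCompactSp F := by
    have h1 : IsPullback (𝟙 F) b b (𝟙 ((AlgSp.yon S).obj U)) :=
      IsPullback.of_horiz_isIso ⟨by simp⟩
    exact hqc (AlgSp.IsAlgSpace.yon_obj U)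
      ⟨U, 𝟙 _, AlgSp.repWith_id _ _, AlgSp.repWith_id _ _, inferInstance⟩ (𝟙 _) (𝟙 F) b h1
  obtain ⟨V, v, hV, hve, hvs⟩ := Groth.Agent.S10180.exists_affine_chart hFqc
  haveI := hV
  haveI hvepi : Epi v := Groth.Agent.R2.H95.NormRecog.epi_of_etale_surjective v hve hvs
  obtain ⟨b₀, hb₀⟩ : ∃ b₀ : V ⟶ U, (AlgSp.yon S).map b₀ = v ≫ b :=
    ⟨(AlgSp.yon S).preimage _, (AlgSp.yon S).map_preimage _⟩
  -- the kernel pair is quasi-compact
  have hKqc : AlgSp.IsQuasiCompactSp (pullback v v) := by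
    have sq := pullback_map_diagonal_isPullback v v b
    have hi : AlgSp.RepWith @QuasiCompact
        (pullback.map v v (v ≫ b) (v ≫ b) (𝟙 _) (𝟙 _) b (Category.id_comp _).symm
          (Category.id_comp _).symm) :=
      MorphismProperty.of_isPullback (P := AlgSp.RepWith @QuasiCompact) sq hqs
    -- the target is an affine scheme
    have sqP : IsPullback ((AlgSp.yon S).map (pullback.fst b₀ b₀))
        ((AlgSp.yon S).map (pullback.snd b₀ b₀)) (v ≫ b) (v ≫ b) := by
      rw [← hb₀]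
      exact (IsPullback.of_hasPullback b₀ b₀).map (AlgSp.yon S)
    have hP₀ : IsAffine (pullback b₀ b₀).left :=
      isAffine_of_isPullback_over (IsPullback.of_hasPullback b₀ b₀) hV hV hU
    haveI := hP₀
    obtain ⟨K₀, snd, fst, sqK⟩ := hi.1 sqP.isoPullback.hom
    haveI : QuasiCompact snd.left := hi.2 _ fst snd sqK
    haveI : IsIso fst := sqK.isIso_fst_of_isIso
    haveI : CompactSpace ↥K₀.left := (quasiCompact_iff_compactSpace snd.left).1 inferInstance
    exact ⟨K₀, fst, MorphismProperty.of_isIso (AlgSp.RepWith @Etale) fst,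
      MorphismProperty.of_isIso (AlgSp.RepWith @Surjective) fst, inferInstance⟩
  obtain ⟨R, r, hR, hre, hrs⟩ := Groth.Agent.S10180.exists_affine_chart hKqc
  haveI hrepi : Epi r := Groth.Agent.R2.H95.NormRecog.epi_of_etale_surjective r hre hrs
  obtain ⟨s, hs⟩ : ∃ s : R ⟶ V, (AlgSp.yon S).map s = r ≫ pullback.fst v v :=
    ⟨(AlgSp.yon S).preimage _, (AlgSp.yon S).map_preimage _⟩
  obtain ⟨t, ht⟩ : ∃ t : R ⟶ V, (AlgSp.yon S).map t = r ≫ pullback.snd v v :=
    ⟨(AlgSp.yon S).preimage _, (AlgSp.yon S).map_preimage _⟩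
  have hst : (AlgSp.yon S).map s ≫ v = (AlgSp.yon S).map t ≫ v := by
    rw [hs, ht, Category.assoc, Category.assoc, pullback.condition]
  have hlift : pullback.lift ((AlgSp.yon S).map s) ((AlgSp.yon S).map t) hst = r := by
    apply pullback.hom_ext
    · rw [pullback.lift_fst, hs]
    · rw [pullback.lift_snd, ht]
  exact ⟨{ V := V, R := R, hV := hV, hR := hR, v := v, s := s, t := t, hst := hst, hve := hve,
           hv := hvepi, hr := by rw [hlift]; exact hrepi }⟩

/-- **Package A'**, with reducedness. -/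
theorem exists_affStable {F : AlgSp.Sp S} (hF : AlgSp.IsAlgSpace F) {U : Over S}
    (hU : IsAffine U.left) (b : F ⟶ (AlgSp.yon S).obj U) (hqc : AlgSp.IsQuasiCompactMor b)
    (hqs : AlgSp.IsQuasiSeparatedMor b) :
    ∃ (N : Over S) (ν : N ⟶ U) (η : F ⟶ (AlgSp.yon S).obj N), η ≫ (AlgSp.yon S).map ν = b ∧
      Groth.Agent.R2.H95.NormSpec.StableNorm (fun X _ g => Smooth g ∧ IsAffine X) b ν η ∧
      (AlgSp.IsReducedSp F → IsReduced N.left) := by
  haveI := hU
  obtain ⟨c⟩ := exists_affChart hF hU b hqc hqs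
  obtain ⟨A⟩ := exists_affn c hU
  obtain ⟨κ, hκ1, hκ2, hκ3⟩ := A.exists_kappa hU
  haveI := A.hX
  obtain ⟨N, ν₀, η₀, e, -, -, hfac, hst⟩ := Groth.Agent.R2.H95.NormSch.exists_stableNorm A.νX
  refine ⟨N, ν₀, κ ≫ (AlgSp.yon S).map η₀, ?_, ?_, ?_⟩
  · rw [Category.assoc, ← Functor.map_comp, hfac, hκ2]
  rotate_left
  · intro hred
    haveI : IsReduced A.X.left :=
      A.isReduced (Groth.Agent.R2.H44.LimRed.isReduced_of_etale_chart hred c.v c.hve)
    exact isReduced_of_isOpenImmersion e.hom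
  · intro W g hg FW a' b' sqF NW g' ν' sqN η' h1 h2
    obtain ⟨hgs, hW⟩ := hg
    haveI : Smooth g.left := hgs
    haveI := hW
    obtain ⟨c', A', pX, pV, sqX, hv', hc₀'⟩ :=
      exists_baseChange c A g a' b' sqF hU hW (inferInstance : Flat g.left)
    obtain ⟨κ', hκ'1, hκ'2, hκ'3⟩ := A'.exists_kappa hW
    haveI := c'.hv
    have hκκ : κ' ≫ (AlgSp.yon S).map pX = a' ≫ κ := by
      rw [← cancel_epi c'.v, ← Category.assoc, hκ'1, ← Functor.map_comp, ← hc₀', Functor.map_comp,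
        ← Category.assoc, hv', Category.assoc, hκ1]
    obtain ⟨η₀', hη₀'1, hη₀'2⟩ : ∃ η₀' : A'.X ⟶ NW, η₀' ≫ g' = pX ≫ η₀ ∧ η₀' ≫ ν' = A'.νX :=
      ⟨sqN.lift (pX ≫ η₀) A'.νX (by rw [Category.assoc, hfac, sqX.w]), sqN.lift_fst _ _ _,
        sqN.lift_snd _ _ _⟩
    have hn' := hst g hgs ((AlgSp.yon S).map pX) ((AlgSp.yon S).map A'.νX)
      (sqX.map (AlgSp.yon S)) g' ν' sqN ((AlgSp.yon S).map η₀')
      (by rw [← Functor.map_comp, hη₀'2]) (by rw [← Functor.map_comp, ← Functor.map_comp, hη₀'1])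
    have hfin := isRelNormalization_of_affn hW A'.νX κ' hκ'2 hκ'3 ν' η₀' hn'
    have hη' : η' = κ' ≫ (AlgSp.yon S).map η₀' := by
      apply (sqN.map (AlgSp.yon S)).hom_ext
      · rw [h2, Category.assoc, ← Functor.map_comp, hη₀'1, Functor.map_comp, ← Category.assoc κ',
          hκκ, Category.assoc]
      · rw [h1, Category.assoc, ← Functor.map_comp, hη₀'2, hκ'2]
    rw [hη']
    exact hfin

/-- **Package A'.** -/
theorem affStable : Groth.Agent.R2.H95.NormSpec.AffStableStmt.{u} := by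
  intro S F hF U hU b hqc hqs
  obtain ⟨N, ν, η, h1, h2, -⟩ := exists_affStable hF hU b hqc hqs
  exact ⟨N, ν, η, h1, h2⟩

end Groth.Agent.R2.H95.NormAff
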