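import Groth.Agent.R2.H95NormMain

/-!
# Smooth base change of the relative normalization of algebraic spaces (helper95)

`smooth_baseChange`: the relative normalization commutes with base change along a morphism which
is smooth on étale charts (given `ZLStmt`, `Sig1Stmt`).
-/

set_option autoImplicit false
universe u
open CategoryTheory CategoryTheory.Limits AlgebraicGeometry Opposite
open AlgSp

set_option backward.isDefEq.respectTransparency false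
set_option linter.style.haveILetI false

namespace Groth.Agent.R2.H95.NormMain

open Groth.Agent.R2.H47.YonSigma Groth.Agent.R2.H47.SpColim Groth.Agent.R2.H95.NormSpec
  Groth.Agent.R2.H95.NormSigma

variable {S : Scheme.{u}}

/-- **the relative normalization commutes with smooth base change.** -/
theorem smooth_baseChange (zl : ZLStmt.{u}) (sig1 : Sig1Stmt.{u})
    {X₁ X₂ Y₁ Y₂ X₁' P : AlgSp.Sp S} (hX₁ : AlgSp.IsAlgSpace X₁) (hX₂ : AlgSp.IsAlgSpace X₂)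
    (hY₁ : AlgSp.IsAlgSpace Y₁) (hX₁' : AlgSp.IsAlgSpace X₁')
    (f₁ : Y₁ ⟶ X₁) (φ : X₂ ⟶ X₁) (f₂ : Y₂ ⟶ X₂) (ψ : Y₂ ⟶ Y₁) (hsq : IsPullback ψ f₂ f₁ φ)
    (hqc : AlgSp.IsQuasiCompactMor f₁) (hqs : AlgSp.IsQuasiSeparatedMor f₁)
    (hφ : AlgSp.LocP @Smooth φ)
    (ν₁ : X₁' ⟶ X₁) (f₁' : Y₁ ⟶ X₁') (hn : AlgSp.IsRelNormalization f₁ ν₁ f₁')
    (ν₂ : P ⟶ X₂) (ρ : P ⟶ X₁') (hP : IsPullback ρ ν₂ ν₁ φ)
    (f₂' : Y₂ ⟶ P) (w₁ : f₂' ≫ ν₂ = f₂) (w₂ : f₂' ≫ ρ = ψ ≫ f₁') :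
    AlgSp.IsRelNormalization f₂ ν₂ f₂' := by
  obtain ⟨pkg⟩ := nonempty_normPkg zl sig1 hY₁ hX₁ f₁ hqc hqs
  obtain ⟨e, he1, he2⟩ := exists_iso_of_isRelNormalization f₁ hX₁' pkg.hX' hn pkg.hn
  -- the chart of the given normalization
  have sqN₁ : IsPullback (pkg.q ≫ e.inv) ((AlgSp.yon S).map pkg.ν) ν₁ pkg.p := by
    refine IsPullback.of_iso pkg.sqN (Iso.refl _) e.symm (Iso.refl _) (Iso.refl _) ?_ ?_ ?_ ?_
    · simp
    · simp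
    · rw [Iso.refl_hom, Category.comp_id, Iso.symm_hom, ← he2, Iso.inv_hom_id_assoc]
    · simp
  have hηq₁ : pkg.η ≫ pkg.q ≫ e.inv = pkg.a ≫ f₁' := by
    rw [← Category.assoc, pkg.hηq, Category.assoc, ← he1, Category.assoc, Iso.hom_inv_id,
      Category.comp_id]
  -- a chart of `X₂` over the chart of `X₁`
  have sqT := IsPullback.of_hasPullback φ pkg.p
  have hT : AlgSp.IsAlgSpace (pullback φ pkg.p) :=
    Groth.Agent.S9874.isAlgSpace_of_isPullback hX₁.diag hX₂ (AlgSp.IsAlgSpace.yon_obj _) sqT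
  obtain ⟨U₂, p₂₀, hp₂₀e, hp₂₀s⟩ := hT.atlas
  have hpr1e : AlgSp.RepWith @Etale (pullback.fst φ pkg.p) :=
    MorphismProperty.of_isPullback (P := AlgSp.RepWith @Etale) sqT.flip pkg.hp1
  have hpr1s : AlgSp.RepWith @Surjective (pullback.fst φ pkg.p) :=
    MorphismProperty.of_isPullback (P := AlgSp.RepWith @Surjective) sqT.flip pkg.hp2
  obtain ⟨p₂, hp₂⟩ : ∃ p₂ : (AlgSp.yon S).obj U₂ ⟶ X₂, p₂ = p₂₀ ≫ pullback.fst φ pkg.p :=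
    ⟨_, rfl⟩
  have hp₂e : AlgSp.RepWith @Etale p₂ := by
    have := AlgSp.repWith_isMultiplicative (S := S) @Etale
    rw [hp₂]
    exact (AlgSp.RepWith @Etale).comp_mem _ _ hp₂₀e hpr1e
  have hp₂s : AlgSp.RepWith @Surjective p₂ := by
    have := AlgSp.repWith_isMultiplicative (S := S) @Surjective
    rw [hp₂]
    exact (AlgSp.RepWith @Surjective).comp_mem _ _ hp₂₀s hpr1s
  obtain ⟨g, hg⟩ : ∃ g : U₂ ⟶ pkg.U, (AlgSp.yon S).map g = p₂₀ ≫ pullback.snd φ pkg.p :=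
    ⟨(AlgSp.yon S).preimage _, (AlgSp.yon S).map_preimage _⟩
  have hcomm : p₂ ≫ φ = (AlgSp.yon S).map g ≫ pkg.p := by
    rw [hp₂, hg, Category.assoc, Category.assoc, pullback.condition]
  have hgs : Smooth g.left := hφ p₂ pkg.p g hp₂e pkg.hp1 hcomm
  -- the base change of `f₂` to the chart
  obtain ⟨F₂U, a₂, b₂, sq₂⟩ : ∃ (F₂U : AlgSp.Sp S) (a₂ : F₂U ⟶ Y₂)
      (b₂ : F₂U ⟶ (AlgSp.yon S).obj U₂), IsPullback a₂ b₂ f₂ p₂ :=
    ⟨_, _, _, IsPullback.of_hasPullback f₂ p₂⟩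
  have bigF : IsPullback (a₂ ≫ ψ) b₂ f₁ ((AlgSp.yon S).map g ≫ pkg.p) := by
    rw [← hcomm]
    exact sq₂.paste_horiz hsq
  obtain ⟨a', ha'1, ha'2⟩ : ∃ a' : F₂U ⟶ pkg.FU, a' ≫ pkg.a = a₂ ≫ ψ ∧
      a' ≫ pkg.b = b₂ ≫ (AlgSp.yon S).map g :=
    ⟨pkg.sq.lift (a₂ ≫ ψ) (b₂ ≫ (AlgSp.yon S).map g) (by rw [bigF.w, Category.assoc]),
      pkg.sq.lift_fst _ _ _, pkg.sq.lift_snd _ _ _⟩
  have sqF : IsPullback a' b₂ pkg.b ((AlgSp.yon S).map g) := by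
    refine IsPullback.of_right ?_ ha'2 pkg.sq
    rw [ha'1]
    exact bigF
  -- the base change of the normalization of the chart
  obtain ⟨N₂, g', νb, sqN₂⟩ : ∃ (N₂ : Over S) (g' : N₂ ⟶ pkg.N) (νb : N₂ ⟶ U₂),
      IsPullback g' νb pkg.ν g := ⟨_, _, _, IsPullback.of_hasPullback pkg.ν g⟩
  have sqN₂y := sqN₂.map (AlgSp.yon S)
  obtain ⟨η₂, hη₂1, hη₂2⟩ : ∃ η₂ : F₂U ⟶ (AlgSp.yon S).obj N₂,
      η₂ ≫ (AlgSp.yon S).map g' = a' ≫ pkg.η ∧ η₂ ≫ (AlgSp.yon S).map νb = b₂ :=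
    ⟨sqN₂y.lift (a' ≫ pkg.η) b₂ (by rw [Category.assoc, pkg.hηb, ha'2]), sqN₂y.lift_fst _ _ _,
      sqN₂y.lift_snd _ _ _⟩
  have hst₂ : StableNorm @Smooth b₂ νb η₂ :=
    pkg.hst.baseChange g hgs a' b₂ sqF g' νb sqN₂ η₂ hη₂1
  have hst₂E : StableNorm @Etale b₂ νb η₂ := by
    refine StableNorm.mono (P' := @Smooth) ?_ hst₂
    intro A B k hk
    haveI : Etale k := hk
    exact (inferInstance : Smooth k)
  -- the chart `h_{N₂} ⟶ P`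
  have hq₂cond : ((AlgSp.yon S).map g' ≫ pkg.q ≫ e.inv) ≫ ν₁ =
      ((AlgSp.yon S).map νb ≫ p₂) ≫ φ := by
    rw [Category.assoc, sqN₁.w, ← Category.assoc, ← Functor.map_comp, sqN₂.w, Functor.map_comp,
      Category.assoc, Category.assoc, hcomm]
  obtain ⟨q₂, hq₂1, hq₂2⟩ : ∃ q₂ : (AlgSp.yon S).obj N₂ ⟶ P,
      q₂ ≫ ρ = (AlgSp.yon S).map g' ≫ pkg.q ≫ e.inv ∧ q₂ ≫ ν₂ = (AlgSp.yon S).map νb ≫ p₂ :=
    ⟨hP.lift _ _ hq₂cond, hP.lift_fst _ _ _, hP.lift_snd _ _ _⟩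
  have sqNP : IsPullback q₂ ((AlgSp.yon S).map νb) ν₂ p₂ := by
    -- paste: `N₂ = N ×_U U₂`, `N = X₁' ×_{X₁} U`, `P = X₁' ×_{X₁} X₂`
    have big : IsPullback (q₂ ≫ ρ) ((AlgSp.yon S).map νb) ν₁ (p₂ ≫ φ) := by
      rw [hq₂1, hcomm]
      exact sqN₂y.paste_horiz sqN₁
    exact IsPullback.of_right big hq₂2 hP
  have hηq₂ : η₂ ≫ q₂ = a₂ ≫ f₂' := by
    apply hP.hom_ext
    · rw [Category.assoc, hq₂1, ← Category.assoc, hη₂1, Category.assoc, hηq₁, ← Category.assoc,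
        ha'1, Category.assoc, Category.assoc, w₂]
    · rw [Category.assoc, hq₂2, ← Category.assoc, hη₂2, Category.assoc, w₁, sq₂.w]
  have hν₂int : AlgSp.IsIntegralMor ν₂ :=
    Groth.Agent.R2.H95.NormRecog.isIntegralMor_of_isPullback hP hn.2.1
  exact Groth.Agent.R2.H95.NormRecog.isRelNormalization_of_chart f₂ ν₂ f₂' p₂ a₂ b₂ νb η₂ q₂ hX₂ w₁
    hν₂int hp₂e hp₂s sq₂ sqNP hηq₂ hη₂2 hst₂E

end Groth.Agent.R2.H95.NormMain
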