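import Groth.Agent.R2.H95NormSigma

/-!
# Universality of the coproduct `h_(∐ U_k)` in fppf sheaves (helper95)

`sig1 : NormSigma.Sig1Stmt`: for `b : FU ⟶ h_(∐ U_k)` and pullbacks `F_k = FU ×_U U_k`, maps out of
`FU` are the same as families of maps out of the `F_k`.
-/

set_option autoImplicit false
universe u
open CategoryTheory CategoryTheory.Limits AlgebraicGeometry Opposite
open AlgSp

set_option backward.isDefEq.respectTransparency false
set_option linter.style.haveILetI false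

namespace Groth.Agent.R2.H95.NormSig1

open Groth.Agent.R2.H47.YonSigma Groth.Agent.R2.H47.SpColim Groth.Agent.R2.H47.InfSq
  Groth.Agent.S13210 Groth.Agent.Lib.Helper12.OpenSub Groth.Agent.Lib.Helper12.ZarGlue
  Groth.Agent.R2.H95.NormSigma

variable {S : Scheme.{u}}

/-- a map out of a sheaf from its values on points. -/
theorem exists_of_points {F X : AlgSp.Sp S}
    (mm : ∀ (T : Over S), ((AlgSp.yon S).obj T ⟶ F) → ((AlgSp.yon S).obj T ⟶ X))
    (hmm : ∀ (T' T : Over S) (h : T' ⟶ T) (x : (AlgSp.yon S).obj T ⟶ F),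
      mm T' ((AlgSp.yon S).map h ≫ x) = (AlgSp.yon S).map h ≫ mm T x) :
    ∃ M : F ⟶ X, ∀ (T : Over S) (x : (AlgSp.yon S).obj T ⟶ F), x ≫ M = mm T x := by
  let app : ∀ T : (Over S)ᵒᵖ, F.obj.obj T ⟶ X.obj.obj T := fun T => TypeCat.ofHom (fun s =>
    yEquiv T.unop X (mm T.unop ((yEquiv T.unop F).symm s)))
  have nat : ∀ (T T' : (Over S)ᵒᵖ) (g : T ⟶ T'), F.obj.map g ≫ app T' = app T ≫ X.obj.map g := by
    intro T T' g
    ext s
    change yEquiv T'.unop X (mm T'.unop ((yEquiv T'.unop F).symm (F.obj.map g s))) =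
      X.obj.map g (yEquiv T.unop X (mm T.unop ((yEquiv T.unop F).symm s)))
    have h1 : (yEquiv T'.unop F).symm (F.obj.map g s) =
        (AlgSp.yon S).map g.unop ≫ (yEquiv T.unop F).symm s := yEquiv_symm_map g.unop s
    rw [h1, hmm]
    exact (map_yEquiv g.unop _).symm
  refine ⟨⟨{ app := app, naturality := nat }⟩, ?_⟩
  intro T x
  apply (yEquiv T X).injective
  rw [yEquiv_comp]
  change yEquiv T X (mm T ((yEquiv T F).symm (yEquiv T F x))) = _
  rw [Equiv.symm_apply_apply]

section Sig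

variable {κ : Type u} (Uk : κ → Over S) {FU X : AlgSp.Sp S}
  (b : FU ⟶ (AlgSp.yon S).obj (sigmaOver Uk)) (Fk : κ → AlgSp.Sp S) (a : ∀ k, Fk k ⟶ FU)
  (bk : ∀ k, Fk k ⟶ (AlgSp.yon S).obj (Uk k))
  (sq : ∀ k, IsPullback (a k) (bk k) b ((AlgSp.yon S).map (sigmaOverι Uk k)))
  (m : ∀ k, Fk k ⟶ X)

/-- `l` is the value of the glued map at the point `x`. -/
def Good (T : Over S) (x : (AlgSp.yon S).obj T ⟶ FU) (l : (AlgSp.yon S).obj T ⟶ X) : Prop :=
  ∀ (k : κ) (T' : Over S) (h : T' ⟶ T) (y : (AlgSp.yon S).obj T' ⟶ Fk k),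
    y ≫ a k = (AlgSp.yon S).map h ≫ x → (AlgSp.yon S).map h ≫ l = y ≫ m k

include sq in
theorem exists_good (T : Over S) (x : (AlgSp.yon S).obj T ⟶ FU) :
    ∃ l, Good Fk a m T x l ∧ ∀ l', Good Fk a m T x l' → l' = l := by
  obtain ⟨β, hβ⟩ : ∃ β : T ⟶ sigmaOver Uk, (AlgSp.yon S).map β = x ≫ b :=
    ⟨(AlgSp.yon S).preimage _, (AlgSp.yon S).map_preimage _⟩
  let O : κ → T.left.Opens := fun k => β.left ⁻¹ᵁ (sigmaOverι Uk k).left.opensRange
  have hcov : ∀ t : T.left, ∃ k, t ∈ O k := by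
    intro t
    obtain ⟨k, y, hy⟩ := (sigmaOpenCover (fun k => (Uk k).left)).exists_eq (β.left t)
    exact ⟨k, y, hy⟩
  have hlift : ∀ k, ∃ βk : res T (O k) ⟶ Uk k, βk ≫ sigmaOverι Uk k = resι T (O k) ≫ β := by
    intro k
    refine exists_lift_openImmersion (sigmaOverι Uk k) (resι T (O k) ≫ β) ?_
    rintro _ ⟨y, rfl⟩
    exact y.2
  choose βk hβk using hlift
  have hxk : ∀ k, ((AlgSp.yon S).map (resι T (O k)) ≫ x) ≫ b =
      (AlgSp.yon S).map (βk k) ≫ (AlgSp.yon S).map (sigmaOverι Uk k) := fun k => by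
    rw [Category.assoc, ← hβ, ← Functor.map_comp, ← Functor.map_comp, hβk]
  let xk : ∀ k, (AlgSp.yon S).obj (res T (O k)) ⟶ Fk k := fun k => (sq k).lift _ _ (hxk k)
  have hxk1 : ∀ k, xk k ≫ a k = (AlgSp.yon S).map (resι T (O k)) ≫ x := fun k =>
    (sq k).lift_fst _ _ _
  have hxk2 : ∀ k, xk k ≫ bk k = (AlgSp.yon S).map (βk k) := fun k => (sq k).lift_snd _ _ _
  -- glue
  obtain ⟨l, hl⟩ := glue_of_openCover T O hcov (fun k => xk k ≫ m k) (by
    intro i j
    by_cases hij : i = j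
    · subst hij
      rfl
    · haveI : IsEmpty (res T (O i ⊓ O j)).left := by
        refine ⟨fun t => ?_⟩
        have h1 : β.left t.1 ∈ (sigmaOverι Uk i).left.opensRange := t.2.1
        have h2 : β.left t.1 ∈ (sigmaOverι Uk j).left.opensRange := t.2.2
        exact (disjoint_iff.mp (disjoint_opensRange_sigmaι (fun k => (Uk k).left) i j hij)).le
          ⟨h1, h2⟩
      exact hom_ext_of_isEmpty _ _)
  have hgood : Good Fk a m T x l := by
    intro k T' h y hy
    -- `h` maps into `O k`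
    obtain ⟨γ, hγ⟩ : ∃ γ : T' ⟶ Uk k, (AlgSp.yon S).map γ = y ≫ bk k :=
      ⟨(AlgSp.yon S).preimage _, (AlgSp.yon S).map_preimage _⟩
    have hγβ : γ ≫ sigmaOverι Uk k = h ≫ β := by
      apply (AlgSp.yon S).map_injective
      rw [Functor.map_comp, hγ, Category.assoc, ← (sq k).w, ← Category.assoc, hy, Category.assoc,
        ← hβ, ← Functor.map_comp]
    have hmem : ∀ t : T'.left, h.left t ∈ O k := by
      intro t
      refine ⟨γ.left t, ?_⟩
      have := congrArg (fun m => m.left t) hγβ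
      simpa [Over.comp_left] using this
    obtain ⟨h', hh'⟩ := exists_factor_res h (O k) hmem
    have hγ' : γ = h' ≫ βk k := by
      rw [← cancel_mono (sigmaOverι Uk k), hγβ, Category.assoc, hβk, ← Category.assoc, hh']
    have hy' : y = (AlgSp.yon S).map h' ≫ xk k := by
      apply (sq k).hom_ext
      · rw [hy, Category.assoc, hxk1, ← Functor.map_comp_assoc, hh']
      · rw [Category.assoc, hxk2, ← Functor.map_comp, ← hγ', hγ]
    rw [← hh', Functor.map_comp, Category.assoc, hl k, hy', Category.assoc]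
  refine ⟨l, hgood, ?_⟩
  intro l' hl'
  refine hom_ext_of_cover _ _ (mem_J_of_openCover T O hcov) l' l (fun k => ?_)
  rw [hl k]
  exact hl' k _ (resι T (O k)) (xk k) (hxk1 k)

include sq in
/-- **universality of the coproduct.** -/
theorem existsUnique_sigma_desc : ∃! M : FU ⟶ X, ∀ k, a k ≫ M = m k := by
  choose mm hmm1 hmm2 using exists_good Uk b Fk a bk sq m
  have hnat : ∀ (T' T : Over S) (h : T' ⟶ T) (x : (AlgSp.yon S).obj T ⟶ FU),
      mm T' ((AlgSp.yon S).map h ≫ x) = (AlgSp.yon S).map h ≫ mm T x := by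
    intro T' T h x
    symm
    apply hmm2
    intro k T'' h' y hy
    rw [← Category.assoc, ← Functor.map_comp]
    apply hmm1 T x k T'' (h' ≫ h) y
    rw [hy, Functor.map_comp, Category.assoc]
  obtain ⟨M, hM⟩ := exists_of_points mm hnat
  refine ⟨M, ?_, ?_⟩
  · intro k
    apply Groth.Agent.R2.H95.SpEpi.hom_ext_points
    intro T y
    rw [← Category.assoc, hM]
    have := hmm1 T (y ≫ a k) k T (𝟙 T) y (by rw [CategoryTheory.Functor.map_id, Category.id_comp])
    rw [CategoryTheory.Functor.map_id, Category.id_comp] at this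
    exact this
  · intro M' hM'
    apply Groth.Agent.R2.H95.SpEpi.hom_ext_points
    intro T x
    rw [hM]
    apply hmm2
    intro k T' h y hy
    rw [← Category.assoc, ← hy, Category.assoc, hM']

end Sig

theorem sig1 : Sig1Stmt.{u} := fun Uk _ _ b Fk a bk sq m =>
  existsUnique_sigma_desc Uk b Fk a bk sq m

end Groth.Agent.R2.H95.NormSig1
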