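import Groth.Agent.R2.H95NormBC
import Groth.Agent.R2.H52NormZar
import Groth.Agent.R2.H95NormSig1

/-!
# Relative normalization of algebraic spaces: final statements (helper95)

Instantiates the hypotheses `ZLStmt` (helper52, `R2/H52NormZar`) and `Sig1Stmt`
(`R2/H95NormSig1`) of `R2/H95NormMain` and `R2/H95NormBC`.
-/

set_option autoImplicit false
universe u
open CategoryTheory CategoryTheory.Limits AlgebraicGeometry Opposite
open AlgSp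

set_option backward.isDefEq.respectTransparency false
set_option linter.style.haveILetI false

namespace Groth.Agent.R2.H95.NormFinal

open Groth.Agent.R2.H95.NormSpec Groth.Agent.R2.H95.NormSigma Groth.Agent.R2.H95.NormMain

theorem zl : ZLStmt.{u} := fun b ν η hη hν _ O hcov href H =>
  Groth.Agent.R2.H52.NormZar.isRelNormalization_of_openCover' b ν η hη hν O hcov href H

theorem sig1 : Sig1Stmt.{u} := Groth.Agent.R2.H95.NormSig1.sig1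

variable {S : Scheme.{u}}

/-- existence of the relative normalization with its chart package. -/
theorem nonempty_normPkg {F G : AlgSp.Sp S} (hF : AlgSp.IsAlgSpace F) (hG : AlgSp.IsAlgSpace G)
    (f : F ⟶ G) (hqc : AlgSp.IsQuasiCompactMor f) (hqs : AlgSp.IsQuasiSeparatedMor f) :
    Nonempty (NormPkg f) :=
  Groth.Agent.R2.H95.NormMain.nonempty_normPkg zl sig1 hF hG f hqc hqs

/-- the relative normalization commutes with smooth base change. -/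
theorem smooth_baseChange {X₁ X₂ Y₁ Y₂ X₁' P : AlgSp.Sp S} (hX₁ : AlgSp.IsAlgSpace X₁)
    (hX₂ : AlgSp.IsAlgSpace X₂) (hY₁ : AlgSp.IsAlgSpace Y₁) (hX₁' : AlgSp.IsAlgSpace X₁')
    (f₁ : Y₁ ⟶ X₁) (φ : X₂ ⟶ X₁) (f₂ : Y₂ ⟶ X₂) (ψ : Y₂ ⟶ Y₁) (hsq : IsPullback ψ f₂ f₁ φ)
    (hqc : AlgSp.IsQuasiCompactMor f₁) (hqs : AlgSp.IsQuasiSeparatedMor f₁)
    (hφ : AlgSp.LocP @Smooth φ)
    (ν₁ : X₁' ⟶ X₁) (f₁' : Y₁ ⟶ X₁') (hn : AlgSp.IsRelNormalization f₁ ν₁ f₁')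
    (ν₂ : P ⟶ X₂) (ρ : P ⟶ X₁') (hP : IsPullback ρ ν₂ ν₁ φ)
    (f₂' : Y₂ ⟶ P) (w₁ : f₂' ≫ ν₂ = f₂) (w₂ : f₂' ≫ ρ = ψ ≫ f₁') :
    AlgSp.IsRelNormalization f₂ ν₂ f₂' :=
  Groth.Agent.R2.H95.NormMain.smooth_baseChange zl sig1 hX₁ hX₂ hY₁ hX₁' f₁ φ f₂ ψ hsq hqc hqs hφ
    ν₁ f₁' hn ν₂ ρ hP f₂' w₁ w₂

end Groth.Agent.R2.H95.NormFinal
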