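import Mathlib
import Groth.Agent.R2.H95NormRecog

/-!
# Relative normalization of algebraic spaces: the action of the atlas groupoid (helper95)

Context `Ctx`: a morphism `f : F ⟶ G` of fppf sheaves, an étale map `p : h_U ⟶ G` with kernel pair
`(R, s, t)`, the base change `FU = F ×_G h_U` and a stable normalization `FU ⟶ h_N ⟶ h_U`.
We construct the action `act : N ×_{U,s} R ⟶ N` lying over `t`, by the universal property, and
prove the identity, inverse and associativity laws by uniqueness.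
-/

set_option autoImplicit false
universe u
open CategoryTheory CategoryTheory.Limits AlgebraicGeometry Opposite
open AlgSp

set_option backward.isDefEq.respectTransparency false
set_option linter.style.haveILetI false

namespace Groth.Agent.R2.H95.NormGlue

open Groth.Agent.R2.H95.NormSpec Groth.Agent.R2.H95.SpEpi Groth.Agent.R2.H59.AffDesc
  Groth.Agent.R2.H95.NormRecog

variable {S : Scheme.{u}}

/-- uniqueness principle for maps out of a base change of a stable normalization. -/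
theorem ext_of_stable {FU : AlgSp.Sp S} {U N : Over S} {b : FU ⟶ (AlgSp.yon S).obj U} {ν : N ⟶ U}
    {η : FU ⟶ (AlgSp.yon S).obj N} (hN : StableNorm @Etale b ν η)
    (hν : AlgSp.IsIntegralMor ((AlgSp.yon S).map ν))
    {W : Over S} (g : W ⟶ U) (hg : Etale g.left)
    {FW : AlgSp.Sp S} (a' : FW ⟶ FU) (b' : FW ⟶ (AlgSp.yon S).obj W)
    (sqF : IsPullback a' b' b ((AlgSp.yon S).map g))
    {NW : Over S} (g' : NW ⟶ N) (ν' : NW ⟶ W) (sqN : IsPullback g' ν' ν g)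
    (η' : FW ⟶ (AlgSp.yon S).obj NW) (h1 : η' ≫ (AlgSp.yon S).map ν' = b')
    (h2 : η' ≫ (AlgSp.yon S).map g' = a' ≫ η) (g₂ : W ⟶ U) (m m' : NW ⟶ N)
    (hm : m ≫ ν = ν' ≫ g₂) (hm' : m' ≫ ν = ν' ≫ g₂)
    (hη : η' ≫ (AlgSp.yon S).map m = η' ≫ (AlgSp.yon S).map m') : m = m' := by
  have hW := hN g hg a' b' sqF g' ν' sqN η' h1 h2
  have sq₂₀ := IsPullback.of_hasPullback ν g₂
  have sq₂ := sq₂₀.map (AlgSp.yon S)
  have hint : AlgSp.IsIntegralMor ((AlgSp.yon S).map (pullback.snd ν g₂)) :=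
    isIntegralMor_of_isPullback sq₂ hν
  obtain ⟨l, hl⟩ : ∃ l, l = sq₂₀.lift m ν' hm := ⟨_, rfl⟩
  obtain ⟨l', hl'⟩ : ∃ l', l' = sq₂₀.lift m' ν' hm' := ⟨_, rfl⟩
  have hl1 : l ≫ pullback.fst ν g₂ = m := by rw [hl, sq₂₀.lift_fst]
  have hl2 : l ≫ pullback.snd ν g₂ = ν' := by rw [hl, sq₂₀.lift_snd]
  have hl'1 : l' ≫ pullback.fst ν g₂ = m' := by rw [hl', sq₂₀.lift_fst]
  have hl'2 : l' ≫ pullback.snd ν g₂ = ν' := by rw [hl', sq₂₀.lift_snd]
  obtain ⟨k, -, hk⟩ := hW.2.2 (AlgSp.IsAlgSpace.yon_obj _) ((AlgSp.yon S).map (pullback.snd ν g₂))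
    (η' ≫ (AlgSp.yon S).map l) hint (by
      rw [Category.assoc, ← Functor.map_comp, hl2, h1])
  have e1 : (AlgSp.yon S).map l = k :=
    hk _ ⟨rfl, by rw [← Functor.map_comp, hl2]⟩
  have e2 : (AlgSp.yon S).map l' = k := by
    refine hk _ ⟨?_, by rw [← Functor.map_comp, hl'2]⟩
    apply sq₂.hom_ext
    · rw [Category.assoc, Category.assoc, ← Functor.map_comp, ← Functor.map_comp, hl1, hl'1, hη]
    · rw [Category.assoc, Category.assoc, ← Functor.map_comp, ← Functor.map_comp, hl2, hl'2]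
  have : l = l' := (AlgSp.yon S).map_injective (e1.trans e2.symm)
  rw [← hl1, ← hl'1, this]

/-- the context of the gluing construction. -/
structure Ctx (S : Scheme.{u}) where
  {F G FU : AlgSp.Sp S}
  {U N R : Over S}
  f : F ⟶ G
  p : (AlgSp.yon S).obj U ⟶ G
  a : FU ⟶ F
  b : FU ⟶ (AlgSp.yon S).obj U
  sq : IsPullback a b f p
  ν : N ⟶ U
  η : FU ⟶ (AlgSp.yon S).obj N
  hηb : η ≫ (AlgSp.yon S).map ν = b
  hN : StableNorm @Etale b ν η
  s : R ⟶ U
  t : R ⟶ U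
  sqR : IsPullback ((AlgSp.yon S).map s) ((AlgSp.yon S).map t) p p
  hs : Etale s.left
  ht : Etale t.left

namespace Ctx

variable (C : Ctx S)

theorem isRelNorm : AlgSp.IsRelNormalization C.b ((AlgSp.yon S).map C.ν) C.η :=
  C.hN.isRelNormalization (by infer_instance) C.hηb

theorem hν : AlgSp.IsIntegralMor ((AlgSp.yon S).map C.ν) := C.isRelNorm.2.1

/-! ### points of `R` -/

theorem exists_liftR {T : Over S} (x y : T ⟶ C.U)
    (h : (AlgSp.yon S).map x ≫ C.p = (AlgSp.yon S).map y ≫ C.p) :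
    ∃ r : T ⟶ C.R, r ≫ C.s = x ∧ r ≫ C.t = y := by
  obtain ⟨r, hr⟩ := (AlgSp.yon S).map_surjective (C.sqR.lift _ _ h)
  refine ⟨r, (AlgSp.yon S).map_injective ?_, (AlgSp.yon S).map_injective ?_⟩
  · rw [Functor.map_comp, hr, C.sqR.lift_fst]
  · rw [Functor.map_comp, hr, C.sqR.lift_snd]

theorem hom_ext_R {T : Over S} (r r' : T ⟶ C.R) (h1 : r ≫ C.s = r' ≫ C.s)
    (h2 : r ≫ C.t = r' ≫ C.t) : r = r' := by
  apply (AlgSp.yon S).map_injective
  apply C.sqR.hom_ext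
  · rw [← Functor.map_comp, ← Functor.map_comp, h1]
  · rw [← Functor.map_comp, ← Functor.map_comp, h2]

theorem sp_eq_tp : (AlgSp.yon S).map C.s ≫ C.p = (AlgSp.yon S).map C.t ≫ C.p := C.sqR.w

/-- the identity section. -/
noncomputable def e : C.U ⟶ C.R := (C.exists_liftR (𝟙 _) (𝟙 _) rfl).choose

@[reassoc (attr := simp)]
theorem e_s : C.e ≫ C.s = 𝟙 _ := (C.exists_liftR (𝟙 _) (𝟙 _) rfl).choose_spec.1

@[reassoc (attr := simp)]
theorem e_t : C.e ≫ C.t = 𝟙 _ := (C.exists_liftR (𝟙 _) (𝟙 _) rfl).choose_spec.2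

/-- the inverse. -/
noncomputable def inv : C.R ⟶ C.R := (C.exists_liftR C.t C.s C.sp_eq_tp.symm).choose

@[reassoc (attr := simp)]
theorem inv_s : C.inv ≫ C.s = C.t := (C.exists_liftR C.t C.s C.sp_eq_tp.symm).choose_spec.1

@[reassoc (attr := simp)]
theorem inv_t : C.inv ≫ C.t = C.s := (C.exists_liftR C.t C.s C.sp_eq_tp.symm).choose_spec.2

/-! ### the base changes to `R` -/

/-- `N ×_{U,s} R`. -/
noncomputable def NR : Over S := pullback C.ν C.s

noncomputable def prN : C.NR ⟶ C.N := pullback.fst C.ν C.s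

noncomputable def prR : C.NR ⟶ C.R := pullback.snd C.ν C.s

theorem sqNR : IsPullback C.prN C.prR C.ν C.s := IsPullback.of_hasPullback C.ν C.s

theorem sqNR' : IsPullback ((AlgSp.yon S).map C.prN) ((AlgSp.yon S).map C.prR)
    ((AlgSp.yon S).map C.ν) ((AlgSp.yon S).map C.s) := C.sqNR.map (AlgSp.yon S)

/-- `FU ×_{U,s} R`. -/
noncomputable def FR : AlgSp.Sp S := pullback C.b ((AlgSp.yon S).map C.s)

noncomputable def as : C.FR ⟶ C.FU := pullback.fst C.b ((AlgSp.yon S).map C.s)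

noncomputable def bR : C.FR ⟶ (AlgSp.yon S).obj C.R := pullback.snd C.b ((AlgSp.yon S).map C.s)

theorem sqFR : IsPullback C.as C.bR C.b ((AlgSp.yon S).map C.s) :=
  IsPullback.of_hasPullback C.b ((AlgSp.yon S).map C.s)

theorem ηR_aux : (C.as ≫ C.η) ≫ (AlgSp.yon S).map C.ν = C.bR ≫ (AlgSp.yon S).map C.s := by
  rw [Category.assoc, C.hηb, C.sqFR.w]

noncomputable def ηR : C.FR ⟶ (AlgSp.yon S).obj C.NR := C.sqNR'.lift _ _ C.ηR_aux

@[reassoc]
theorem ηR_prN : C.ηR ≫ (AlgSp.yon S).map C.prN = C.as ≫ C.η := C.sqNR'.lift_fst _ _ _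

@[reassoc]
theorem ηR_prR : C.ηR ≫ (AlgSp.yon S).map C.prR = C.bR := C.sqNR'.lift_snd _ _ _

theorem θ_aux : (C.as ≫ C.a) ≫ C.f = (C.bR ≫ (AlgSp.yon S).map C.t) ≫ C.p := by
  rw [Category.assoc, C.sq.w, ← Category.assoc, C.sqFR.w, Category.assoc, C.sqR.w, Category.assoc]

/-- the other projection `FR ⟶ FU`. -/
noncomputable def θ : C.FR ⟶ C.FU := C.sq.lift _ _ C.θ_aux

@[reassoc]
theorem θ_a : C.θ ≫ C.a = C.as ≫ C.a := C.sq.lift_fst _ _ _

@[reassoc]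
theorem θ_b : C.θ ≫ C.b = C.bR ≫ (AlgSp.yon S).map C.t := C.sq.lift_snd _ _ _

/-- maps into `FR`. -/
theorem hom_ext_FU {W : AlgSp.Sp S} (x y : W ⟶ C.FU) (h1 : x ≫ C.a = y ≫ C.a)
    (h2 : x ≫ C.b = y ≫ C.b) : x = y := C.sq.hom_ext h1 h2

theorem isRelNormR : AlgSp.IsRelNormalization C.bR ((AlgSp.yon S).map C.prR) C.ηR :=
  C.hN C.s C.hs C.as C.bR C.sqFR C.prN C.prR C.sqNR C.ηR C.ηR_prR C.ηR_prN

/-! ### the action -/

theorem exists_act : ∃ act : C.NR ⟶ C.N, act ≫ C.ν = C.prR ≫ C.t ∧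
    C.ηR ≫ (AlgSp.yon S).map act = C.θ ≫ C.η := by
  have sq₂₀ := IsPullback.of_hasPullback C.ν C.t
  have sq₂ := sq₂₀.map (AlgSp.yon S)
  have hint : AlgSp.IsIntegralMor ((AlgSp.yon S).map (pullback.snd C.ν C.t)) :=
    isIntegralMor_of_isPullback sq₂ C.hν
  have h0 : (C.θ ≫ C.η) ≫ (AlgSp.yon S).map C.ν = C.bR ≫ (AlgSp.yon S).map C.t := by
    rw [Category.assoc, C.hηb, C.θ_b]
  obtain ⟨h, ⟨h1, h2⟩, -⟩ := C.isRelNormR.2.2 (AlgSp.IsAlgSpace.yon_obj _)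
    ((AlgSp.yon S).map (pullback.snd C.ν C.t)) (sq₂.lift _ _ h0) hint (sq₂.lift_snd _ _ _)
  obtain ⟨h₀, rfl⟩ := (AlgSp.yon S).map_surjective h
  refine ⟨h₀ ≫ pullback.fst C.ν C.t, ?_, ?_⟩
  · rw [Category.assoc, sq₂₀.w, ← Category.assoc]
    congr 1
    apply (AlgSp.yon S).map_injective
    rw [Functor.map_comp, h2]
  · rw [Functor.map_comp, ← Category.assoc, h1, sq₂.lift_fst]

/-- the action `N ×_{U,s} R ⟶ N`, lying over `t`. -/
noncomputable def act : C.NR ⟶ C.N := C.exists_act.choose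

@[reassoc]
theorem act_ν : C.act ≫ C.ν = C.prR ≫ C.t := C.exists_act.choose_spec.1

@[reassoc]
theorem ηR_act : C.ηR ≫ (AlgSp.yon S).map C.act = C.θ ≫ C.η := C.exists_act.choose_spec.2

end Ctx

end Groth.Agent.R2.H95.NormGlue
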