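import Mathlib
import Groth.Agent.R2.H95NormGlueA

/-!
# Relative normalization of algebraic spaces: the étale equivalence relation (helper95)

In the context `NormGlue.Ctx` we prove the identity, inverse and associativity laws of the action
`act : N ×_{U,s} R ⟶ N` and deduce that `(prN, act)` is an étale equivalence relation on `N`.
-/

set_option autoImplicit false
universe u
open CategoryTheory CategoryTheory.Limits AlgebraicGeometry Opposite
open AlgSp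

set_option backward.isDefEq.respectTransparency false
set_option linter.style.haveILetI false
set_option linter.dupNamespace false

namespace Groth.Agent.R2.H95.NormGlue

open Groth.Agent.R2.H95.NormSpec Groth.Agent.R2.H95.SpEpi Groth.Agent.R2.H59.AffDesc
  Groth.Agent.R2.H95.NormRecog

variable {S : Scheme.{u}}

/-- étale morphisms are stable under base change, in `Over S`. -/
theorem etale_fst_of_isPullback {A B C D : Over S} {fst : A ⟶ B} {snd : A ⟶ C} {f : B ⟶ D}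
    {g : C ⟶ D} (sq : IsPullback fst snd f g) (hg : Etale g.left) : Etale fst.left :=
  (AlgSp.repWith_yon_map_iff @Etale fst).1
    (MorphismProperty.of_isPullback (P := AlgSp.RepWith @Etale) (sq.map (AlgSp.yon S)).flip
      ((AlgSp.repWith_yon_map_iff @Etale g).2 hg))

theorem etale_snd_of_isPullback {A B C D : Over S} {fst : A ⟶ B} {snd : A ⟶ C} {f : B ⟶ D}
    {g : C ⟶ D} (sq : IsPullback fst snd f g) (hf : Etale f.left) : Etale snd.left :=
  etale_fst_of_isPullback sq.flip hf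

namespace Ctx

variable (C : Ctx S)

/-! ### the identity law -/

theorem ε_aux : 𝟙 C.N ≫ C.ν = (C.ν ≫ C.e) ≫ C.s := by simp

/-- `n ↦ (n, e (ν n))`. -/
noncomputable def ε : C.N ⟶ C.NR := C.sqNR.lift _ _ C.ε_aux

@[reassoc (attr := simp)]
theorem ε_prN : C.ε ≫ C.prN = 𝟙 _ := C.sqNR.lift_fst _ _ _

@[reassoc (attr := simp)]
theorem ε_prR : C.ε ≫ C.prR = C.ν ≫ C.e := C.sqNR.lift_snd _ _ _

theorem ε_act : C.ε ≫ C.act = 𝟙 C.N := by
  have sqF : IsPullback (𝟙 C.FU) C.b C.b ((AlgSp.yon S).map (𝟙 C.U)) := by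
    rw [(AlgSp.yon S).map_id]
    exact IsPullback.of_horiz_isIso ⟨by simp⟩
  have sqN : IsPullback (𝟙 C.N) C.ν C.ν (𝟙 C.U) := IsPullback.of_horiz_isIso ⟨by simp⟩
  refine ext_of_stable C.hN C.hν (𝟙 C.U) (by infer_instance) (𝟙 C.FU) C.b sqF (𝟙 C.N) C.ν sqN C.η
    C.hηb (by rw [(AlgSp.yon S).map_id]; simp) (𝟙 C.U) _ _ ?_ (by simp) ?_
  · rw [Category.assoc, C.act_ν, ε_prR_assoc, e_t]
  · -- compatibility with `η`
    have h0 : 𝟙 C.FU ≫ C.b = (C.b ≫ (AlgSp.yon S).map C.e) ≫ (AlgSp.yon S).map C.s := by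
      rw [Category.assoc, ← Functor.map_comp, e_s, CategoryTheory.Functor.map_id, Category.id_comp,
        Category.comp_id]
    obtain ⟨εF, hεF⟩ : ∃ εF, εF = C.sqFR.lift _ _ h0 := ⟨_, rfl⟩
    have h1 : εF ≫ C.as = 𝟙 _ := by rw [hεF, C.sqFR.lift_fst]
    have h2 : εF ≫ C.bR = C.b ≫ (AlgSp.yon S).map C.e := by rw [hεF, C.sqFR.lift_snd]
    have h3 : C.η ≫ (AlgSp.yon S).map C.ε = εF ≫ C.ηR := by
      apply C.sqNR'.hom_ext
      · rw [Category.assoc, ← Functor.map_comp, ε_prN, CategoryTheory.Functor.map_id, Category.comp_id,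
          Category.assoc, C.ηR_prN, ← Category.assoc, h1, Category.id_comp]
      · rw [Category.assoc, ← Functor.map_comp, ε_prR, Functor.map_comp, ← Category.assoc, C.hηb,
          Category.assoc, C.ηR_prR, h2]
    have h4 : εF ≫ C.θ = 𝟙 _ := by
      apply C.hom_ext_FU
      · rw [Category.assoc, C.θ_a, ← Category.assoc, h1]
      · rw [Category.assoc, C.θ_b, ← Category.assoc, h2, Category.assoc, ← Functor.map_comp, e_t,
          CategoryTheory.Functor.map_id, Category.comp_id, Category.id_comp]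
    rw [Functor.map_comp, ← Category.assoc, h3, Category.assoc, C.ηR_act, ← Category.assoc, h4,
      CategoryTheory.Functor.map_id, Category.id_comp, Category.comp_id]

/-! ### the inverse law -/

theorem inv_inv : C.inv ≫ C.inv = 𝟙 _ := by
  apply C.hom_ext_R <;> simp

theorem ι_aux : C.act ≫ C.ν = (C.prR ≫ C.inv) ≫ C.s := by
  rw [C.act_ν, Category.assoc, inv_s]

/-- `(n, ρ) ↦ (act (n, ρ), ρ⁻¹)`. -/
noncomputable def ι : C.NR ⟶ C.NR := C.sqNR.lift _ _ C.ι_aux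

@[reassoc (attr := simp)]
theorem ι_prN : C.ι ≫ C.prN = C.act := C.sqNR.lift_fst _ _ _

@[reassoc (attr := simp)]
theorem ι_prR : C.ι ≫ C.prR = C.prR ≫ C.inv := C.sqNR.lift_snd _ _ _

theorem ι_act : C.ι ≫ C.act = C.prN := by
  refine ext_of_stable C.hN C.hν C.s C.hs C.as C.bR C.sqFR C.prN C.prR C.sqNR C.ηR
    C.ηR_prR C.ηR_prN C.s _ _ ?_ C.sqNR.w ?_
  · rw [Category.assoc, C.act_ν, ι_prR_assoc, inv_t]
  · have h0 : C.θ ≫ C.b = (C.bR ≫ (AlgSp.yon S).map C.inv) ≫ (AlgSp.yon S).map C.s := by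
      rw [C.θ_b, Category.assoc, ← Functor.map_comp, inv_s]
    obtain ⟨ιF, hιF⟩ : ∃ ιF, ιF = C.sqFR.lift _ _ h0 := ⟨_, rfl⟩
    have h1 : ιF ≫ C.as = C.θ := by rw [hιF, C.sqFR.lift_fst]
    have h2 : ιF ≫ C.bR = C.bR ≫ (AlgSp.yon S).map C.inv := by rw [hιF, C.sqFR.lift_snd]
    have h3 : C.ηR ≫ (AlgSp.yon S).map C.ι = ιF ≫ C.ηR := by
      apply C.sqNR'.hom_ext
      · rw [Category.assoc, ← Functor.map_comp, ι_prN, C.ηR_act, Category.assoc, C.ηR_prN,
          ← Category.assoc, h1]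
      · rw [Category.assoc, ← Functor.map_comp, ι_prR, Functor.map_comp, ← Category.assoc,
          C.ηR_prR, Category.assoc, C.ηR_prR, h2]
    have h4 : ιF ≫ C.θ = C.as := by
      apply C.hom_ext_FU
      · rw [Category.assoc, C.θ_a, ← Category.assoc, h1, C.θ_a]
      · rw [Category.assoc, C.θ_b, ← Category.assoc, h2, Category.assoc, ← Functor.map_comp,
          inv_t, C.sqFR.w]
    rw [Functor.map_comp, ← Category.assoc, h3, Category.assoc, C.ηR_act, ← Category.assoc, h4,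
      C.ηR_prN]

theorem ι_ι : C.ι ≫ C.ι = 𝟙 _ := by
  apply C.sqNR.hom_ext
  · rw [Category.assoc, ι_prN, C.ι_act, Category.id_comp]
  · rw [Category.assoc, ι_prR, ι_prR_assoc, C.inv_inv, Category.comp_id,
      Category.id_comp]

/-! ### associativity -/

/-- composable pairs `(ρ', ρ)`, `t ρ' = s ρ`. -/
noncomputable def R2 : Over S := pullback C.t C.s

noncomputable def pr₁ : C.R2 ⟶ C.R := pullback.fst C.t C.s

noncomputable def pr₂ : C.R2 ⟶ C.R := pullback.snd C.t C.s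

theorem sqR2 : IsPullback C.pr₁ C.pr₂ C.t C.s := IsPullback.of_hasPullback C.t C.s

theorem c_aux : (AlgSp.yon S).map (C.pr₁ ≫ C.s) ≫ C.p = (AlgSp.yon S).map (C.pr₂ ≫ C.t) ≫ C.p := by
  rw [Functor.map_comp, Category.assoc, C.sp_eq_tp, ← Category.assoc, ← Functor.map_comp, C.sqR2.w,
    Functor.map_comp, Category.assoc, C.sp_eq_tp, Functor.map_comp, Category.assoc]

/-- composition `(ρ', ρ) ↦ ρ ∘ ρ'`. -/
noncomputable def c : C.R2 ⟶ C.R := (C.exists_liftR _ _ C.c_aux).choose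

@[reassoc (attr := simp)]
theorem c_s : C.c ≫ C.s = C.pr₁ ≫ C.s := (C.exists_liftR _ _ C.c_aux).choose_spec.1

@[reassoc (attr := simp)]
theorem c_t : C.c ≫ C.t = C.pr₂ ≫ C.t := (C.exists_liftR _ _ C.c_aux).choose_spec.2

/-- the structure map `R2 ⟶ U`, `(ρ', ρ) ↦ s ρ'`. -/
noncomputable def g2 : C.R2 ⟶ C.U := C.pr₁ ≫ C.s

theorem etale_g2 : Etale C.g2.left := by
  haveI : Etale C.pr₁.left := etale_fst_of_isPullback C.sqR2 C.hs
  haveI := C.hs
  change Etale (C.pr₁.left ≫ C.s.left)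
  infer_instance

noncomputable def N2 : Over S := pullback C.ν C.g2

noncomputable def prN2 : C.N2 ⟶ C.N := pullback.fst C.ν C.g2

noncomputable def prR2 : C.N2 ⟶ C.R2 := pullback.snd C.ν C.g2

theorem sqN2 : IsPullback C.prN2 C.prR2 C.ν C.g2 := IsPullback.of_hasPullback C.ν C.g2

theorem sqN2' : IsPullback ((AlgSp.yon S).map C.prN2) ((AlgSp.yon S).map C.prR2)
    ((AlgSp.yon S).map C.ν) ((AlgSp.yon S).map C.g2) := C.sqN2.map (AlgSp.yon S)

noncomputable def F2 : AlgSp.Sp S := pullback C.b ((AlgSp.yon S).map C.g2)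

noncomputable def a2 : C.F2 ⟶ C.FU := pullback.fst C.b ((AlgSp.yon S).map C.g2)

noncomputable def b2 : C.F2 ⟶ (AlgSp.yon S).obj C.R2 := pullback.snd C.b ((AlgSp.yon S).map C.g2)

theorem sqF2 : IsPullback C.a2 C.b2 C.b ((AlgSp.yon S).map C.g2) :=
  IsPullback.of_hasPullback C.b ((AlgSp.yon S).map C.g2)

theorem η2_aux : (C.a2 ≫ C.η) ≫ (AlgSp.yon S).map C.ν = C.b2 ≫ (AlgSp.yon S).map C.g2 := by
  rw [Category.assoc, C.hηb, C.sqF2.w]

noncomputable def η2 : C.F2 ⟶ (AlgSp.yon S).obj C.N2 := C.sqN2'.lift _ _ C.η2_aux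

@[reassoc]
theorem η2_prN2 : C.η2 ≫ (AlgSp.yon S).map C.prN2 = C.a2 ≫ C.η := C.sqN2'.lift_fst _ _ _

@[reassoc]
theorem η2_prR2 : C.η2 ≫ (AlgSp.yon S).map C.prR2 = C.b2 := C.sqN2'.lift_snd _ _ _

theorem β_aux : C.prN2 ≫ C.ν = (C.prR2 ≫ C.pr₁) ≫ C.s := by
  rw [C.sqN2.w, Category.assoc]; rfl

/-- `(n, ρ', ρ) ↦ (n, ρ')`. -/
noncomputable def β : C.N2 ⟶ C.NR := C.sqNR.lift _ _ C.β_aux

@[reassoc (attr := simp)]
theorem β_prN : C.β ≫ C.prN = C.prN2 := C.sqNR.lift_fst _ _ _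

@[reassoc (attr := simp)]
theorem β_prR : C.β ≫ C.prR = C.prR2 ≫ C.pr₁ := C.sqNR.lift_snd _ _ _

theorem γ_aux : (C.β ≫ C.act) ≫ C.ν = (C.prR2 ≫ C.pr₂) ≫ C.s := by
  rw [Category.assoc, C.act_ν, β_prR_assoc, Category.assoc, C.sqR2.w]

/-- `(n, ρ', ρ) ↦ (act (n, ρ'), ρ)`. -/
noncomputable def γ : C.N2 ⟶ C.NR := C.sqNR.lift _ _ C.γ_aux

@[reassoc (attr := simp)]
theorem γ_prN : C.γ ≫ C.prN = C.β ≫ C.act := C.sqNR.lift_fst _ _ _

@[reassoc (attr := simp)]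
theorem γ_prR : C.γ ≫ C.prR = C.prR2 ≫ C.pr₂ := C.sqNR.lift_snd _ _ _

theorem κ_aux : C.prN2 ≫ C.ν = (C.prR2 ≫ C.c) ≫ C.s := by
  rw [C.sqN2.w, Category.assoc, c_s]; rfl

/-- `(n, ρ', ρ) ↦ (n, ρ ∘ ρ')`. -/
noncomputable def κ : C.N2 ⟶ C.NR := C.sqNR.lift _ _ C.κ_aux

@[reassoc (attr := simp)]
theorem κ_prN : C.κ ≫ C.prN = C.prN2 := C.sqNR.lift_fst _ _ _

@[reassoc (attr := simp)]
theorem κ_prR : C.κ ≫ C.prR = C.prR2 ≫ C.c := C.sqNR.lift_snd _ _ _

theorem γ_act : C.γ ≫ C.act = C.κ ≫ C.act := by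
  refine ext_of_stable C.hN C.hν C.g2 C.etale_g2 C.a2 C.b2 C.sqF2 C.prN2 C.prR2 C.sqN2 C.η2
    C.η2_prR2 C.η2_prN2 (C.pr₂ ≫ C.t) _ _ ?_ ?_ ?_
  · rw [Category.assoc, C.act_ν, γ_prR_assoc]
  · rw [Category.assoc, C.act_ν, κ_prR_assoc, c_t]
  · -- the `F`-level maps
    have hβ0 : C.a2 ≫ C.b = (C.b2 ≫ (AlgSp.yon S).map C.pr₁) ≫ (AlgSp.yon S).map C.s := by
      rw [C.sqF2.w, Category.assoc, ← Functor.map_comp]; rfl
    obtain ⟨βF, hβF⟩ : ∃ βF, βF = C.sqFR.lift _ _ hβ0 := ⟨_, rfl⟩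
    have hβ1 : βF ≫ C.as = C.a2 := by rw [hβF, C.sqFR.lift_fst]
    have hβ2 : βF ≫ C.bR = C.b2 ≫ (AlgSp.yon S).map C.pr₁ := by rw [hβF, C.sqFR.lift_snd]
    have hβ3 : C.η2 ≫ (AlgSp.yon S).map C.β = βF ≫ C.ηR := by
      apply C.sqNR'.hom_ext
      · rw [Category.assoc, ← Functor.map_comp, β_prN, C.η2_prN2, Category.assoc, C.ηR_prN,
          ← Category.assoc, hβ1]
      · rw [Category.assoc, ← Functor.map_comp, β_prR, Functor.map_comp, ← Category.assoc,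
          C.η2_prR2, Category.assoc, C.ηR_prR, hβ2]
    have hγ0 : (βF ≫ C.θ) ≫ C.b = (C.b2 ≫ (AlgSp.yon S).map C.pr₂) ≫ (AlgSp.yon S).map C.s := by
      rw [Category.assoc, C.θ_b, ← Category.assoc, hβ2, Category.assoc, Category.assoc,
        ← Functor.map_comp, ← Functor.map_comp, C.sqR2.w]
    obtain ⟨γF, hγF⟩ : ∃ γF, γF = C.sqFR.lift _ _ hγ0 := ⟨_, rfl⟩
    have hγ1 : γF ≫ C.as = βF ≫ C.θ := by rw [hγF, C.sqFR.lift_fst]
    have hγ2 : γF ≫ C.bR = C.b2 ≫ (AlgSp.yon S).map C.pr₂ := by rw [hγF, C.sqFR.lift_snd]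
    have hγ3 : C.η2 ≫ (AlgSp.yon S).map C.γ = γF ≫ C.ηR := by
      apply C.sqNR'.hom_ext
      · rw [Category.assoc, ← Functor.map_comp, γ_prN, Functor.map_comp, ← Category.assoc, hβ3,
          Category.assoc, C.ηR_act, Category.assoc, C.ηR_prN, ← Category.assoc γF, hγ1,
          Category.assoc]
      · rw [Category.assoc, ← Functor.map_comp, γ_prR, Functor.map_comp, ← Category.assoc,
          C.η2_prR2, Category.assoc, C.ηR_prR, hγ2]
    have hκ0 : C.a2 ≫ C.b = (C.b2 ≫ (AlgSp.yon S).map C.c) ≫ (AlgSp.yon S).map C.s := by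
      rw [C.sqF2.w, Category.assoc, ← Functor.map_comp, c_s]; rfl
    obtain ⟨κF, hκF⟩ : ∃ κF, κF = C.sqFR.lift _ _ hκ0 := ⟨_, rfl⟩
    have hκ1 : κF ≫ C.as = C.a2 := by rw [hκF, C.sqFR.lift_fst]
    have hκ2 : κF ≫ C.bR = C.b2 ≫ (AlgSp.yon S).map C.c := by rw [hκF, C.sqFR.lift_snd]
    have hκ3 : C.η2 ≫ (AlgSp.yon S).map C.κ = κF ≫ C.ηR := by
      apply C.sqNR'.hom_ext
      · rw [Category.assoc, ← Functor.map_comp, κ_prN, C.η2_prN2, Category.assoc, C.ηR_prN,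
          ← Category.assoc, hκ1]
      · rw [Category.assoc, ← Functor.map_comp, κ_prR, Functor.map_comp, ← Category.assoc,
          C.η2_prR2, Category.assoc, C.ηR_prR, hκ2]
    have hθ : γF ≫ C.θ = κF ≫ C.θ := by
      apply C.hom_ext_FU
      · rw [Category.assoc, C.θ_a, ← Category.assoc, hγ1, Category.assoc, C.θ_a, ← Category.assoc,
          hβ1, Category.assoc, C.θ_a, ← Category.assoc, hκ1]
      · have e1 : (γF ≫ C.θ) ≫ C.b = C.b2 ≫ (AlgSp.yon S).map (C.pr₂ ≫ C.t) := by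
          rw [Category.assoc, C.θ_b, ← Category.assoc, hγ2, Category.assoc, ← Functor.map_comp]
        have e2 : (κF ≫ C.θ) ≫ C.b = C.b2 ≫ (AlgSp.yon S).map (C.pr₂ ≫ C.t) := by
          rw [Category.assoc, C.θ_b, ← Category.assoc, hκ2, Category.assoc, ← Functor.map_comp,
            c_t]
        rw [e1, e2]
    have e1 : C.η2 ≫ (AlgSp.yon S).map (C.γ ≫ C.act) = (γF ≫ C.θ) ≫ C.η := by
      rw [Functor.map_comp, ← Category.assoc, hγ3, Category.assoc, C.ηR_act, Category.assoc]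
    have e2 : C.η2 ≫ (AlgSp.yon S).map (C.κ ≫ C.act) = (κF ≫ C.θ) ≫ C.η := by
      rw [Functor.map_comp, ← Category.assoc, hκ3, Category.assoc, C.ηR_act, Category.assoc]
    rw [e1, e2, hθ]

/-! ### the equivalence relation -/

theorem etale_prN : Etale C.prN.left := etale_fst_of_isPullback C.sqNR C.hs

theorem etale_act : Etale C.act.left := by
  haveI : IsIso C.ι := ⟨C.ι, C.ι_ι, C.ι_ι⟩
  haveI : IsIso C.ι.left := inferInstance
  haveI := C.etale_prN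
  have : C.act.left = C.ι.left ≫ C.prN.left := by rw [← Over.comp_left, ι_prN]
  rw [this]
  infer_instance

theorem isEtaleEqvRel : AlgSp.IsEtaleEqvRel C.prN C.act where
  injective T r r' h1 h2 := by
    apply C.sqNR.hom_ext h2
    apply C.hom_ext_R
    · rw [Category.assoc, Category.assoc, ← C.sqNR.w, ← Category.assoc, ← Category.assoc, h2]
    · rw [Category.assoc, Category.assoc, ← C.act_ν, ← Category.assoc, ← Category.assoc, h1]
  equivalence T := by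
    refine ⟨fun x => ⟨x ≫ C.ε, by rw [Category.assoc, C.ε_act, Category.comp_id],
      by rw [Category.assoc, ε_prN, Category.comp_id]⟩, ?_, ?_⟩
    · rintro x y ⟨r, h1, h2⟩
      exact ⟨r ≫ C.ι, by rw [Category.assoc, C.ι_act, h2], by rw [Category.assoc, ι_prN, h1]⟩
    · rintro x y z ⟨r₁, h1, h2⟩ ⟨r₂, h3, h4⟩
      have hc : (r₂ ≫ C.prR) ≫ C.t = (r₁ ≫ C.prR) ≫ C.s := by
        rw [Category.assoc, Category.assoc, ← C.act_ν, ← C.sqNR.w, ← Category.assoc,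
          ← Category.assoc, h3, h2]
      obtain ⟨ρρ, hρ⟩ : ∃ ρρ, ρρ = C.sqR2.lift _ _ hc := ⟨_, rfl⟩
      have hρ1 : ρρ ≫ C.pr₁ = r₂ ≫ C.prR := by rw [hρ, C.sqR2.lift_fst]
      have hρ2 : ρρ ≫ C.pr₂ = r₁ ≫ C.prR := by rw [hρ, C.sqR2.lift_snd]
      have hτ0 : z ≫ C.ν = ρρ ≫ C.g2 := by
        change _ = ρρ ≫ C.pr₁ ≫ C.s
        rw [← Category.assoc, hρ1, Category.assoc, ← C.sqNR.w, ← Category.assoc, h4]
      obtain ⟨τ, hτ⟩ : ∃ τ, τ = C.sqN2.lift _ _ hτ0 := ⟨_, rfl⟩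
      have hτ1 : τ ≫ C.prN2 = z := by rw [hτ, C.sqN2.lift_fst]
      have hτ2 : τ ≫ C.prR2 = ρρ := by rw [hτ, C.sqN2.lift_snd]
      have hτβ : τ ≫ C.β = r₂ := by
        apply C.sqNR.hom_ext
        · rw [Category.assoc, β_prN, hτ1, h4]
        · rw [Category.assoc, β_prR, ← Category.assoc, hτ2, hρ1]
      have hτγ : τ ≫ C.γ = r₁ := by
        apply C.sqNR.hom_ext
        · rw [Category.assoc, γ_prN, ← Category.assoc, hτβ, h3, h2]
        · rw [Category.assoc, γ_prR, ← Category.assoc, hτ2, hρ2]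
      refine ⟨τ ≫ C.κ, ?_, ?_⟩
      · rw [Category.assoc, ← C.γ_act, ← Category.assoc, hτγ, h1]
      · rw [Category.assoc, κ_prN, hτ1]
  etale_left := C.etale_prN
  etale_right := C.etale_act

end Ctx

end Groth.Agent.R2.H95.NormGlue
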