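import Mathlib
import Groth.Agent.R2.H95NormGlueB
import Groth.Agent.S9868
import Groth.Agent.S9869

/-!
# Relative normalization of algebraic spaces: construction by étale descent (helper95)

`exists_of_chart`: let `f : F ⟶ G` be a morphism of fppf sheaves with `G` an algebraic space,
`p : h_U ⟶ G` an étale atlas and `FU ⟶ h_N ⟶ h_U` a stable normalization
(`NormSpec.StableNorm @Etale`) of the base change `FU = F ×_G h_U ⟶ h_U`.  Then there is a
relative normalization `F ⟶ X' ⟶ G` by an algebraic space `X'` with `X' ×_G h_U = h_N`.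
-/

set_option autoImplicit false
universe u
open CategoryTheory CategoryTheory.Limits AlgebraicGeometry Opposite
open AlgSp

set_option backward.isDefEq.respectTransparency false
set_option linter.style.haveILetI false

namespace Groth.Agent.R2.H95.NormGlue

open Groth.Agent.R2.H95.NormSpec Groth.Agent.R2.H95.SpEpi Groth.Agent.R2.H59.AffDesc
  Groth.Agent.R2.H95.NormRecog

variable {S : Scheme.{u}}

namespace Ctx

variable (C : Ctx S)

/-- the abstract descent step, given a presentation of a quotient of the equivalence relation. -/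
theorem exists_of_presentation (hG : AlgSp.IsAlgSpace C.G) (hp1 : AlgSp.RepWith @Etale C.p)
    (hp2 : AlgSp.RepWith @Surjective C.p) {X' : AlgSp.Sp S} (q : (AlgSp.yon S).obj C.N ⟶ X')
    (hq : AlgSp.IsPresentation C.prN C.act q) :
    ∃ (ν' : X' ⟶ C.G) (f' : C.F ⟶ X'), AlgSp.IsRelNormalization C.f ν' f' ∧
      IsPullback q ((AlgSp.yon S).map C.ν) ν' C.p ∧ C.η ≫ q = C.a ≫ f' := by
  haveI hpe : Epi C.p := epi_of_etale_surjective C.p hp1 hp2
  haveI hqe : Epi q := epi_of_etale_surjective q hq.etale hq.surjective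
  haveI hae : Epi C.a := epi_of_isPullback C.sq
  have hqw : (AlgSp.yon S).map C.act ≫ q = (AlgSp.yon S).map C.prN ≫ q := hq.isPullback.w
  -- the structure map `ν'`
  obtain ⟨ν', hν'⟩ := Groth.Agent.Lib.Helper9.ToposLike.exists_desc_of_epi q inferInstance
    ((AlgSp.yon S).map C.ν ≫ C.p) (by
      intro W a₁ a₂ h
      obtain ⟨l, hl⟩ : ∃ l, l = hq.isPullback.lift a₁ a₂ h := ⟨_, rfl⟩
      have hl1 : l ≫ (AlgSp.yon S).map C.act = a₁ := by rw [hl, hq.isPullback.lift_fst]
      have hl2 : l ≫ (AlgSp.yon S).map C.prN = a₂ := by rw [hl, hq.isPullback.lift_snd]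
      rw [← hl1, ← hl2, Category.assoc, Category.assoc, ← Category.assoc ((AlgSp.yon S).map C.act),
        ← Category.assoc ((AlgSp.yon S).map C.prN), ← Functor.map_comp, ← Functor.map_comp,
        C.act_ν, C.sqNR.w, Functor.map_comp, Functor.map_comp, Category.assoc, Category.assoc,
        C.sp_eq_tp])
  -- the comparison map to the fibre product
  have sqP := IsPullback.of_hasPullback ν' C.p
  obtain ⟨c, hc⟩ : ∃ c, c = sqP.lift q ((AlgSp.yon S).map C.ν) hν' := ⟨_, rfl⟩
  have hc1 : c ≫ pullback.fst ν' C.p = q := by rw [hc, sqP.lift_fst]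
  have hc2 : c ≫ pullback.snd ν' C.p = (AlgSp.yon S).map C.ν := by rw [hc, sqP.lift_snd]
  haveI hcm : Mono c := by
    constructor
    intro W x y hxy
    apply hom_ext_points
    intro T z
    obtain ⟨x₀, hx₀⟩ := (AlgSp.yon S).map_surjective (z ≫ x)
    obtain ⟨y₀, hy₀⟩ := (AlgSp.yon S).map_surjective (z ≫ y)
    rw [← hx₀, ← hy₀]
    congr 1
    have h1 : (AlgSp.yon S).map x₀ ≫ q = (AlgSp.yon S).map y₀ ≫ q := by
      rw [hx₀, hy₀, ← hc1]
      simp only [Category.assoc]
      rw [← Category.assoc x, hxy, Category.assoc]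
    have h2 : x₀ ≫ C.ν = y₀ ≫ C.ν := by
      apply (AlgSp.yon S).map_injective
      rw [Functor.map_comp, Functor.map_comp, hx₀, hy₀, ← hc2]
      simp only [Category.assoc]
      rw [← Category.assoc x, hxy, Category.assoc]
    obtain ⟨l, hl⟩ := (AlgSp.yon S).map_surjective (hq.isPullback.lift _ _ h1)
    have hl1 : l ≫ C.act = x₀ := by
      apply (AlgSp.yon S).map_injective
      rw [Functor.map_comp, hl, hq.isPullback.lift_fst]
    have hl2 : l ≫ C.prN = y₀ := by
      apply (AlgSp.yon S).map_injective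
      rw [Functor.map_comp, hl, hq.isPullback.lift_snd]
    have hρ : l ≫ C.prR = y₀ ≫ C.ν ≫ C.e := by
      apply C.hom_ext_R
      · rw [Category.assoc, ← C.sqNR.w, ← Category.assoc, hl2, Category.assoc, Category.assoc,
          e_s, Category.comp_id]
      · rw [Category.assoc, ← C.act_ν, ← Category.assoc, hl1, Category.assoc, Category.assoc,
          e_t, Category.comp_id, h2]
    have hl3 : l = y₀ ≫ C.ε := by
      apply C.sqNR.hom_ext
      · rw [hl2, Category.assoc, ε_prN, Category.comp_id]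
      · rw [hρ, Category.assoc, ε_prR]
    rw [← hl1, hl3, Category.assoc, C.ε_act, Category.comp_id]
  haveI hce : Epi c := by
    have he0 : ((AlgSp.yon S).map C.prN ≫ q) ≫ ν' =
        ((AlgSp.yon S).map C.prR ≫ (AlgSp.yon S).map C.t) ≫ C.p := by
      rw [Category.assoc, hν', ← Category.assoc, C.sqNR'.w, Category.assoc, C.sp_eq_tp,
        Category.assoc]
    obtain ⟨e', he'⟩ : ∃ e', e' = sqP.lift _ _ he0 := ⟨_, rfl⟩
    have he1 : e' ≫ pullback.fst ν' C.p = (AlgSp.yon S).map C.prN ≫ q := by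
      rw [he', sqP.lift_fst]
    have he2 : e' ≫ pullback.snd ν' C.p = (AlgSp.yon S).map C.prR ≫ (AlgSp.yon S).map C.t := by
      rw [he', sqP.lift_snd]
    have big : IsPullback ((AlgSp.yon S).map C.prR ≫ (AlgSp.yon S).map C.t)
        ((AlgSp.yon S).map C.prN) C.p ((AlgSp.yon S).map C.ν ≫ C.p) :=
      C.sqNR'.flip.paste_horiz C.sqR.flip
    have big' : IsPullback (e' ≫ pullback.snd ν' C.p) ((AlgSp.yon S).map C.prN) C.p (q ≫ ν') := by
      rw [he2, hν']
      exact big
    have sqe : IsPullback e' ((AlgSp.yon S).map C.prN) (pullback.fst ν' C.p) q :=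
      IsPullback.of_right big' he1 sqP.flip
    haveI : Epi e' := epi_of_isPullback sqe
    have hfac : e' = (AlgSp.yon S).map C.act ≫ c := by
      apply sqP.hom_ext
      · rw [he1, Category.assoc, hc1, hqw]
      · rw [he2, Category.assoc, hc2, ← Functor.map_comp, ← Functor.map_comp, C.act_ν]
    rw [hfac] at this
    exact epi_of_epi ((AlgSp.yon S).map C.act) c
  haveI : IsIso c := Groth.Agent.Lib.Helper9.ToposLike.isIso_of_mono_of_epi c hcm hce
  have sqN : IsPullback q ((AlgSp.yon S).map C.ν) ν' C.p :=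
    IsPullback.of_iso_pullback ⟨hν'⟩ (asIso c) hc1 hc2
  -- integrality
  haveI := isLocallySurjective_of_repWith_etale_surjective C.p hp1 hp2
  have hint : AlgSp.IsIntegralMor ν' :=
    isIntegralMor_of_locallySurjective ν' C.p q ((AlgSp.yon S).map C.ν) sqN C.hν
  -- the map `f'`
  obtain ⟨f', hf'⟩ := Groth.Agent.Lib.Helper9.ToposLike.exists_desc_of_epi C.a inferInstance
    (C.η ≫ q) (by
      intro W y₁ y₂ h
      have hρ0 : (y₁ ≫ C.b) ≫ C.p = (y₂ ≫ C.b) ≫ C.p := by
        rw [Category.assoc, Category.assoc, ← C.sq.w, ← Category.assoc, h, Category.assoc]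
      obtain ⟨ρ, hρ⟩ : ∃ ρ, ρ = C.sqR.lift _ _ hρ0 := ⟨_, rfl⟩
      have hρ1 : ρ ≫ (AlgSp.yon S).map C.s = y₁ ≫ C.b := by rw [hρ, C.sqR.lift_fst]
      have hρ2 : ρ ≫ (AlgSp.yon S).map C.t = y₂ ≫ C.b := by rw [hρ, C.sqR.lift_snd]
      obtain ⟨rF, hrF⟩ : ∃ rF, rF = C.sqFR.lift y₁ ρ hρ1.symm := ⟨_, rfl⟩
      have hr1 : rF ≫ C.as = y₁ := by rw [hrF, C.sqFR.lift_fst]
      have hr2 : rF ≫ C.bR = ρ := by rw [hrF, C.sqFR.lift_snd]
      have hr3 : rF ≫ C.θ = y₂ := by
        apply C.hom_ext_FU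
        · rw [Category.assoc, C.θ_a, ← Category.assoc, hr1, h]
        · rw [Category.assoc, C.θ_b, ← Category.assoc, hr2, hρ2]
      rw [← hr1, ← hr3, Category.assoc, Category.assoc, ← Category.assoc C.as,
        ← Category.assoc C.θ, ← C.ηR_prN, ← C.ηR_act, Category.assoc, Category.assoc, hqw])
  have hfac : f' ≫ ν' = C.f := by
    rw [← cancel_epi C.a, ← Category.assoc, hf', Category.assoc, hν', ← Category.assoc, C.hηb,
      C.sq.w]
  exact ⟨ν', f', isRelNormalization_of_chart C.f ν' f' C.p C.a C.b C.ν C.η q hG hfac hint hp1 hp2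
    C.sq sqN hf'.symm C.hηb C.hN, sqN, hf'.symm⟩

end Ctx

/-- **Construction of the relative normalization by étale descent.** -/
theorem exists_of_chart {F G : AlgSp.Sp S} (hG : AlgSp.IsAlgSpace G) (f : F ⟶ G) {U : Over S}
    (p : (AlgSp.yon S).obj U ⟶ G) (hp1 : AlgSp.RepWith @Etale p)
    (hp2 : AlgSp.RepWith @Surjective p) {FU : AlgSp.Sp S} (a : FU ⟶ F)
    (b : FU ⟶ (AlgSp.yon S).obj U) (sq : IsPullback a b f p) {N : Over S} (ν : N ⟶ U)
    (η : FU ⟶ (AlgSp.yon S).obj N) (hηb : η ≫ (AlgSp.yon S).map ν = b)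
    (hN : StableNorm @Etale b ν η) :
    ∃ (X' : AlgSp.Sp S) (ν' : X' ⟶ G) (f' : F ⟶ X') (q : (AlgSp.yon S).obj N ⟶ X'),
      AlgSp.IsAlgSpace X' ∧ AlgSp.IsRelNormalization f ν' f' ∧
      IsPullback q ((AlgSp.yon S).map ν) ν' p ∧ η ≫ q = a ≫ f' ∧
      AlgSp.RepWith @Etale q ∧ AlgSp.RepWith @Surjective q := by
  obtain ⟨R, s, t, sqR, hs, ht⟩ := exists_kernelPair p hp1
  let C : Ctx S := Ctx.mk f p a b sq ν η hηb hN s t sqR hs ht
  have hX' := Groth.Agent.S9868.result S C.prN C.act C.isEtaleEqvRel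
  have hq := Groth.Agent.S9869.result S C.prN C.act C.isEtaleEqvRel hX'
  obtain ⟨ν', f', h1, h2, h3⟩ := C.exists_of_presentation hG hp1 hp2 _ hq
  exact ⟨_, ν', f', _, hX', h1, h2, h3, hq.etale, hq.surjective⟩

end Groth.Agent.R2.H95.NormGlue
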