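import Groth.Agent.R2.H95NormSigma
import Groth.Agent.R2.H95NormGlueC

/-!
# Existence of the relative normalization of algebraic spaces, with its chart package (helper95)

`NormPkg f`: a relative normalization `F ⟶ X' ⟶ G` of `f` together with an étale atlas
`h_U ⟶ G`, a normalization `N ⟶ U` of `F ×_G U ⟶ U` stable under smooth base change, and the étale
surjective chart `h_N ⟶ X'`.
`nonempty_normPkg`: existence for quasi-compact quasi-separated `f` (given `ZLStmt`, `Sig1Stmt`).
-/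

set_option autoImplicit false
universe u
open CategoryTheory CategoryTheory.Limits AlgebraicGeometry Opposite
open AlgSp

set_option backward.isDefEq.respectTransparency false
set_option linter.style.haveILetI false

namespace Groth.Agent.R2.H95.NormMain

open Groth.Agent.R2.H47.YonSigma Groth.Agent.R2.H47.SpColim Groth.Agent.R2.H95.NormSpec
  Groth.Agent.R2.H95.NormSigma

variable {S : Scheme.{u}}

/-- an étale atlas by a disjoint union of affine schemes. -/
theorem exists_sigma_atlas {Y : AlgSp.Sp S} (hY : AlgSp.IsAlgSpace Y) :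
    ∃ (κ : Type u) (Uk : κ → Over S), (∀ k, IsAffine (Uk k).left) ∧
      ∃ p : (AlgSp.yon S).obj (sigmaOver Uk) ⟶ Y,
        AlgSp.RepWith @Etale p ∧ AlgSp.RepWith @Surjective p := by
  obtain ⟨U₁, p₁, hp₁e, hp₁s⟩ := hY.atlas
  let Uk : U₁.left.affineOpens → Over S := fun k => res U₁ k.1
  let ιk : ∀ k, Uk k ⟶ U₁ := fun k => resι U₁ k.1
  have hUaff : ∀ k, IsAffine (Uk k).left := fun k => k.2
  let d : sigmaOver Uk ⟶ U₁ := sigmaOverDesc Uk ιk
  have hde : Etale d.left := by
    change Etale (Sigma.desc (fun k => (ιk k).left))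
    exact IsZariskiLocalAtSource.sigmaDesc (fun k => by
      change Etale (k.1 : U₁.left.Opens).ι
      infer_instance)
  have hds : Surjective d.left := by
    change Surjective (Sigma.desc (fun k => (ιk k).left))
    refine Surjective.sigmaDesc_of_union_range_eq_univ ?_
    rw [Set.eq_univ_iff_forall]
    intro x
    obtain ⟨_, ⟨V', hV', rfl⟩, hxV', -⟩ :=
      U₁.left.isBasis_affineOpens.exists_subset_of_mem_open (Set.mem_univ x) isOpen_univ
    refine Set.mem_iUnion.2 ⟨⟨V', hV'⟩, ?_⟩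
    change x ∈ Set.range (resι U₁ V').left
    exact ⟨⟨x, hxV'⟩, rfl⟩
  refine ⟨_, Uk, hUaff, (AlgSp.yon S).map d ≫ p₁, ?_, ?_⟩
  · have := AlgSp.repWith_isMultiplicative (S := S) @Etale
    exact (AlgSp.RepWith @Etale).comp_mem _ _ ((AlgSp.repWith_yon_map_iff @Etale d).2 hde) hp₁e
  · have := AlgSp.repWith_isMultiplicative (S := S) @Surjective
    exact (AlgSp.RepWith @Surjective).comp_mem _ _
      ((AlgSp.repWith_yon_map_iff @Surjective d).2 hds) hp₁s

/-- a relative normalization with its chart package. -/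
structure NormPkg {F G : AlgSp.Sp S} (f : F ⟶ G) where
  X' : AlgSp.Sp S
  hX' : AlgSp.IsAlgSpace X'
  ν' : X' ⟶ G
  f' : F ⟶ X'
  hn : AlgSp.IsRelNormalization f ν' f'
  U : Over S
  p : (AlgSp.yon S).obj U ⟶ G
  hp1 : AlgSp.RepWith @Etale p
  hp2 : AlgSp.RepWith @Surjective p
  FU : AlgSp.Sp S
  a : FU ⟶ F
  b : FU ⟶ (AlgSp.yon S).obj U
  sq : IsPullback a b f p
  N : Over S
  ν : N ⟶ U
  η : FU ⟶ (AlgSp.yon S).obj N
  hηb : η ≫ (AlgSp.yon S).map ν = b
  hst : StableNorm @Smooth b ν η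
  hred : AlgSp.IsReducedSp F → IsReduced N.left
  q : (AlgSp.yon S).obj N ⟶ X'
  sqN : IsPullback q ((AlgSp.yon S).map ν) ν' p
  hηq : η ≫ q = a ≫ f'
  hq1 : AlgSp.RepWith @Etale q
  hq2 : AlgSp.RepWith @Surjective q

/-- **existence of the relative normalization, with its chart package.** -/
theorem nonempty_normPkg (zl : ZLStmt.{u}) (sig1 : Sig1Stmt.{u}) {F G : AlgSp.Sp S}
    (hF : AlgSp.IsAlgSpace F) (hG : AlgSp.IsAlgSpace G) (f : F ⟶ G)
    (hqc : AlgSp.IsQuasiCompactMor f) (hqs : AlgSp.IsQuasiSeparatedMor f) :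
    Nonempty (NormPkg f) := by
  obtain ⟨κ, Uk, hUk, p, hp1, hp2⟩ := exists_sigma_atlas hG
  obtain ⟨FU, a, b, sq⟩ : ∃ (FU : AlgSp.Sp S) (a : FU ⟶ F)
      (b : FU ⟶ (AlgSp.yon S).obj (sigmaOver Uk)), IsPullback a b f p :=
    ⟨_, _, _, IsPullback.of_hasPullback f p⟩
  have hFU : AlgSp.IsAlgSpace FU :=
    Groth.Agent.S9874.isAlgSpace_of_isPullback hG.diag hF (AlgSp.IsAlgSpace.yon_obj _) sq
  have hbqc : AlgSp.IsQuasiCompactMor b :=
    Groth.Agent.Lib.Helper12.Proper.isQuasiCompactMor_baseChange sq hqc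
  have hbqs : AlgSp.IsQuasiSeparatedMor b :=
    Groth.Agent.S9903.stable_diagonal @QuasiCompact sq hqs
  obtain ⟨N, ν, η, hηb, hst, hred⟩ := exists_stable_sigma zl sig1 Uk hUk hFU b hbqc hbqs
  have hred' : AlgSp.IsReducedSp F → IsReduced N.left := fun h =>
    hred (isReducedSp_of_etale hFU a
      (MorphismProperty.of_isPullback (P := AlgSp.RepWith @Etale) sq.flip hp1) h)
  have hstE : StableNorm @Etale b ν η := by
    refine StableNorm.mono (P' := @Smooth) ?_ hst
    intro A B k hk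
    haveI : Etale k := hk
    exact (inferInstance : Smooth k)
  obtain ⟨X', ν', f', q, hX', hn, sqN, hηq, hq1, hq2⟩ :=
    Groth.Agent.R2.H95.NormGlue.exists_of_chart hG f p hp1 hp2 a b sq ν η hηb hstE
  exact ⟨{ X' := X', hX' := hX', ν' := ν', f' := f', hn := hn, U := _, p := p, hp1 := hp1,
           hp2 := hp2, FU := FU, a := a, b := b, sq := sq, N := N, ν := ν, η := η, hηb := hηb,
           hst := hst, hred := hred', q := q, sqN := sqN, hηq := hηq, hq1 := hq1, hq2 := hq2 }⟩

end Groth.Agent.R2.H95.NormMain
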