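import Groth.Agent.R2.H95NormAffC
import Groth.Agent.R2.H95QcChartEx
import Groth.Agent.S9903
import Groth.Agent.S9874
import Groth.Agent.Lib.Helper12Proper
import Groth.Agent.R2.H44LimRed

/-!
# Stable normalization over a disjoint union of affine charts (helper95)

`exists_stable_sigma`: for `b : FU ⟶ h_(∐ U_k)` quasi-compact quasi-separated from an algebraic
space, `U_k` affine, the disjoint union of the normalizations over the `U_k` (Package A') is a
normalization of `b`, stable under smooth base change.  Inputs (as hypotheses): Zariski localisation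
`ZLStmt` and universality of the coproduct `Sig1Stmt`.
-/

set_option autoImplicit false
universe u
open CategoryTheory CategoryTheory.Limits AlgebraicGeometry Opposite
open AlgSp

set_option backward.isDefEq.respectTransparency false
set_option linter.style.haveILetI false

namespace Groth.Agent.R2.H95.NormSigma

open Groth.Agent.R2.H47.YonSigma Groth.Agent.R2.H47.SpColim Groth.Agent.R2.H95.NormSpec

/-- **Zariski localisation** of relative normalizations, all-squares form. -/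
def ZLStmt : Prop :=
  ∀ {S : Scheme.{u}} {F : AlgSp.Sp S} {W N : Over S} (b : F ⟶ (AlgSp.yon S).obj W) (ν : N ⟶ W)
    (η : F ⟶ (AlgSp.yon S).obj N), η ≫ (AlgSp.yon S).map ν = b →
    AlgSp.IsIntegralMor ((AlgSp.yon S).map ν) →
    ∀ {ι : Type u} (O : ι → W.left.Opens), (∀ x : W.left, ∃ i, x ∈ O i) →
    (∀ i j (x : W.left), x ∈ O i ⊓ O j → ∃ k, x ∈ O k ∧ O k ≤ O i ⊓ O j) →
    (∀ i, ∀ ⦃FV : AlgSp.Sp S⦄ (a' : FV ⟶ F) (b' : FV ⟶ (AlgSp.yon S).obj (res W (O i))),
        IsPullback a' b' b ((AlgSp.yon S).map (resι W (O i))) →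
      ∀ ⦃NV : Over S⦄ (g' : NV ⟶ N) (ν' : NV ⟶ res W (O i)), IsPullback g' ν' ν (resι W (O i)) →
      ∀ η' : FV ⟶ (AlgSp.yon S).obj NV, η' ≫ (AlgSp.yon S).map ν' = b' →
        η' ≫ (AlgSp.yon S).map g' = a' ≫ η →
        AlgSp.IsRelNormalization b' ((AlgSp.yon S).map ν') η') →
    AlgSp.IsRelNormalization b ((AlgSp.yon S).map ν) η

/-- **universality of the coproduct** `h_(∐ U_k)`, desc form. -/
def Sig1Stmt : Prop :=
  ∀ {S : Scheme.{u}} {κ : Type u} (Uk : κ → Over S) {FU X : AlgSp.Sp S}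
    (b : FU ⟶ (AlgSp.yon S).obj (sigmaOver Uk)) (Fk : κ → AlgSp.Sp S) (a : ∀ k, Fk k ⟶ FU)
    (bk : ∀ k, Fk k ⟶ (AlgSp.yon S).obj (Uk k)),
    (∀ k, IsPullback (a k) (bk k) b ((AlgSp.yon S).map (sigmaOverι Uk k))) →
    ∀ (m : ∀ k, Fk k ⟶ X), ∃! M : FU ⟶ X, ∀ k, a k ≫ M = m k

variable {S : Scheme.{u}}

/-! ### coproducts of schemes -/

theorem isPullback_sigmaDesc {κ : Type u} (A B : κ → Scheme.{u}) (f : ∀ k, A k ⟶ B k) (k : κ) :
    IsPullback (f k) (Sigma.ι A k) (Sigma.ι B k)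
      (Sigma.desc (fun k => f k ≫ Sigma.ι B k) : (∐ A) ⟶ ∐ B) := by
  set F : (∐ A) ⟶ ∐ B := Sigma.desc (fun k => f k ≫ Sigma.ι B k) with hF
  have H : Sigma.ι A k ≫ F = f k ≫ Sigma.ι B k := Sigma.ι_desc _ _
  have H' : F ⁻¹ᵁ (Sigma.ι B k).opensRange = (Sigma.ι A k).opensRange := by
    ext x
    constructor
    · intro hx
      obtain ⟨j, w, rfl⟩ := (sigmaOpenCover A).exists_eq x
      simp only [sigmaOpenCover_f] at hx ⊢
      by_cases hjk : j = k
      · subst hjk
        exact ⟨w, rfl⟩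
      · exfalso
        have h1 : F (Sigma.ι A j w) ∈ (Sigma.ι B j).opensRange := by
          refine ⟨f j w, ?_⟩
          rw [← Scheme.Hom.comp_apply, ← Scheme.Hom.comp_apply, Sigma.ι_desc]
        have h2 : F (Sigma.ι A j w) ∈ (Sigma.ι B k).opensRange := hx
        exact (disjoint_iff.mp (disjoint_opensRange_sigmaι B j k hjk)).le ⟨h1, h2⟩
    · rintro ⟨w, rfl⟩
      refine ⟨f k w, ?_⟩
      rw [← Scheme.Hom.comp_apply, ← Scheme.Hom.comp_apply, H]
  exact IsOpenImmersion.isPullback (f k) (Sigma.ι A k) (Sigma.ι B k) F H H'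

theorem sigmaDesc_of_isZariskiLocalAtTarget (P : MorphismProperty Scheme.{u})
    [IsZariskiLocalAtTarget P] {κ : Type u} (A B : κ → Scheme.{u}) (f : ∀ k, A k ⟶ B k)
    (hf : ∀ k, P (f k)) : P (Sigma.desc (fun k => f k ≫ Sigma.ι B k) : (∐ A) ⟶ ∐ B) := by
  refine IsZariskiLocalAtTarget.of_openCover (P := P) (sigmaOpenCover B) (fun k => ?_)
  have sq := isPullback_sigmaDesc A B f k
  have e : (sigmaOpenCover B).pullbackHom (Sigma.desc (fun k => f k ≫ Sigma.ι B k)) k =
      sq.flip.isoPullback.inv ≫ f k := by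
    rw [Iso.eq_inv_comp]
    exact sq.flip.isoPullback_hom_snd
  rw [e]
  exact (MorphismProperty.cancel_left_of_respectsIso P _ _).2 (hf k)

/-- the components of a disjoint union of morphisms are its base changes. -/
theorem isPullback_sigmaOverι {κ : Type u} (Nk Uk : κ → Over S) (νk : ∀ k, Nk k ⟶ Uk k) (k : κ) :
    IsPullback (sigmaOverι Nk k) (νk k) (sigmaOverDesc Nk (fun j => νk j ≫ sigmaOverι Uk j))
      (sigmaOverι Uk k) := by
  refine IsPullback.of_map (Over.forget S) (sigmaOverι_desc Nk _ k) ?_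
  exact (isPullback_sigmaDesc (fun k => (Nk k).left) (fun k => (Uk k).left)
    (fun k => (νk k).left) k).flip

/-! ### the affine opens mapping into one component -/

/-- factor a morphism through an open immersion. -/
theorem exists_lift_openImmersion {W U V : Over S} (ι : V ⟶ U) [IsOpenImmersion ι.left]
    (g : W ⟶ U) (h : Set.range g.left ⊆ Set.range ι.left) : ∃ g' : W ⟶ V, g' ≫ ι = g := by
  refine ⟨Over.homMk (IsOpenImmersion.lift ι.left g.left h) ?_, ?_⟩
  · rw [← Over.w ι, ← Category.assoc, IsOpenImmersion.lift_fac, Over.w g]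
  · ext
    exact IsOpenImmersion.lift_fac _ _ _


/-- an algebraic space étale over a reduced one is reduced. -/
theorem isReducedSp_of_etale {F G : AlgSp.Sp S} (hF : AlgSp.IsAlgSpace F) (a : F ⟶ G)
    (ha : AlgSp.RepWith @Etale a) (hG : AlgSp.IsReducedSp G) : AlgSp.IsReducedSp F := by
  obtain ⟨V, v, hve, hvs⟩ := hF.atlas
  have := AlgSp.repWith_isMultiplicative (S := S) @Etale
  exact ⟨V, v, hve, hvs, Groth.Agent.R2.H44.LimRed.isReduced_of_etale_chart hG (v ≫ a)
    ((AlgSp.RepWith @Etale).comp_mem _ _ hve ha)⟩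

open Groth.Agent.R2.H59.AffDesc in
/-- **stable normalization over a disjoint union of affine charts.** -/
theorem exists_stable_sigma (zl : ZLStmt.{u}) (sig1 : Sig1Stmt.{u}) {κ : Type u}
    (Uk : κ → Over S) (hUk : ∀ k, IsAffine (Uk k).left) {FU : AlgSp.Sp S}
    (hFU : AlgSp.IsAlgSpace FU) (b : FU ⟶ (AlgSp.yon S).obj (sigmaOver Uk))
    (hqc : AlgSp.IsQuasiCompactMor b) (hqs : AlgSp.IsQuasiSeparatedMor b) :
    ∃ (N : Over S) (ν : N ⟶ sigmaOver Uk) (η : FU ⟶ (AlgSp.yon S).obj N),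
      η ≫ (AlgSp.yon S).map ν = b ∧ StableNorm @Smooth b ν η ∧
      (AlgSp.IsReducedSp FU → IsReduced N.left) := by
  -- the components
  obtain ⟨Fk, ak, bk, sqk⟩ : ∃ (Fk : κ → AlgSp.Sp S) (ak : ∀ k, Fk k ⟶ FU)
      (bk : ∀ k, Fk k ⟶ (AlgSp.yon S).obj (Uk k)),
      ∀ k, IsPullback (ak k) (bk k) b ((AlgSp.yon S).map (sigmaOverι Uk k)) :=
    ⟨_, _, _, fun k => IsPullback.of_hasPullback b ((AlgSp.yon S).map (sigmaOverι Uk k))⟩
  have hFk : ∀ k, AlgSp.IsAlgSpace (Fk k) := fun k =>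
    Groth.Agent.S9874.isAlgSpace_of_isPullback (AlgSp.IsAlgSpace.yon_obj _).diag hFU
      (AlgSp.IsAlgSpace.yon_obj _) (sqk k)
  have hbkqc : ∀ k, AlgSp.IsQuasiCompactMor (bk k) := fun k =>
    Groth.Agent.Lib.Helper12.Proper.isQuasiCompactMor_baseChange (sqk k) hqc
  have hbkqs : ∀ k, AlgSp.IsQuasiSeparatedMor (bk k) := fun k =>
    Groth.Agent.S9903.stable_diagonal @QuasiCompact (sqk k) hqs
  have hk := fun k =>
    Groth.Agent.R2.H95.NormAff.exists_affStable (hFk k) (hUk k) (bk k) (hbkqc k) (hbkqs k)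
  choose Nk νk ηk hηk hstk hredk using hk
  have hnk : ∀ k, AlgSp.IsRelNormalization (bk k) ((AlgSp.yon S).map (νk k)) (ηk k) := fun k =>
    (hstk k).isRelNormalization ⟨inferInstance, hUk k⟩ (hηk k)
  have hνkint : ∀ k, IsIntegralHom (νk k).left := fun k =>
    (AlgSp.repWith_yon_map_iff @IsIntegralHom (νk k)).1
      (repWith_isIntegralHom_of_isIntegralMor _ (hnk k).2.1)
  -- the disjoint union
  obtain ⟨ν, hν⟩ : ∃ ν : sigmaOver Nk ⟶ sigmaOver Uk,
      ν = sigmaOverDesc Nk (fun j => νk j ≫ sigmaOverι Uk j) := ⟨_, rfl⟩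
  have sqν : ∀ k, IsPullback (sigmaOverι Nk k) (νk k) ν (sigmaOverι Uk k) := fun k => by
    rw [hν]
    exact isPullback_sigmaOverι Nk Uk νk k
  have hνint : AlgSp.IsIntegralMor ((AlgSp.yon S).map ν) := by
    apply isIntegralMor_of_repWith
    rw [AlgSp.repWith_yon_map_iff, hν]
    exact sigmaDesc_of_isZariskiLocalAtTarget @IsIntegralHom _ _ (fun k => (νk k).left) hνkint
  obtain ⟨η, hη, -⟩ := sig1 Uk b Fk ak bk sqk
    (fun k => ηk k ≫ (AlgSp.yon S).map (sigmaOverι Nk k))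
  have hηb : η ≫ (AlgSp.yon S).map ν = b := by
    obtain ⟨M, -, hM⟩ := sig1 Uk b Fk ak bk sqk (fun k => ak k ≫ b)
    rw [hM b (fun k => rfl)]
    apply hM
    intro k
    rw [← Category.assoc, hη k, Category.assoc, ← Functor.map_comp, (sqν k).w, Functor.map_comp,
      ← Category.assoc, hηk k, (sqk k).w]
  refine ⟨sigmaOver Nk, ν, η, hηb, ?_, ?_⟩
  rotate_left
  · intro hred
    have hFkred : ∀ k, AlgSp.IsReducedSp (Fk k) := fun k =>
      isReducedSp_of_etale (hFk k) (ak k)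
        (MorphismProperty.of_isPullback (P := AlgSp.RepWith @Etale) (sqk k).flip
          ((AlgSp.repWith_yon_map_iff @Etale (sigmaOverι Uk k)).2 inferInstance)) hred
    haveI : ∀ i, IsReduced ((sigmaOpenCover fun k => (Nk k).left).X i) := fun i =>
      hredk i (hFkred i)
    exact IsReduced.of_openCover _ (sigmaOpenCover fun k => (Nk k).left)
  -- stability
  intro W g hg FW a' b' sqF NW g' ν' sqN η' h1 h2
  haveI : Smooth g.left := hg
  have hν'int : AlgSp.IsIntegralMor ((AlgSp.yon S).map ν') :=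
    Groth.Agent.R2.H95.NormRecog.isIntegralMor_of_isPullback (sqN.map (AlgSp.yon S)) hνint
  -- the family of affine opens mapping into one component
  let I : Type u := {O : W.left.Opens //
    IsAffineOpen O ∧ ∃ k, O ≤ g.left ⁻¹ᵁ (sigmaOverι Uk k).left.opensRange}
  have hbasis : ∀ (V : W.left.Opens) (x : W.left), x ∈ V →
      (∃ k, V ≤ g.left ⁻¹ᵁ (sigmaOverι Uk k).left.opensRange) → ∃ i : I, x ∈ i.1 ∧ i.1 ≤ V := by
    intro V x hx ⟨k, hk⟩
    obtain ⟨_, ⟨O, hO, rfl⟩, hxO, hOV⟩ :=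
      W.left.isBasis_affineOpens.exists_subset_of_mem_open hx V.2
    exact ⟨⟨O, hO, k, le_trans hOV hk⟩, hxO, hOV⟩
  refine zl b' ν' η' h1 hν'int (ι := I) (fun i => i.1) ?_ ?_ ?_
  · intro x
    obtain ⟨k, y, hy⟩ := (sigmaOpenCover (fun k => (Uk k).left)).exists_eq (g.left x)
    have hx : x ∈ g.left ⁻¹ᵁ (sigmaOverι Uk k).left.opensRange := ⟨y, hy⟩
    obtain ⟨i, hi, -⟩ := hbasis _ x hx ⟨k, le_rfl⟩
    exact ⟨i, hi⟩
  · intro i j x hx
    obtain ⟨k, hk⟩ := i.2.2
    exact hbasis (i.1 ⊓ j.1) x hx ⟨k, le_trans inf_le_left hk⟩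
  · rintro ⟨O, hO, k, hk⟩ FV a'' b'' sq'' NV g'' ν'' sqN'' η'' h1'' h2''
    -- the map to the component
    haveI : IsAffine (res W O).left := hO
    obtain ⟨gO, hgO⟩ := exists_lift_openImmersion (sigmaOverι Uk k) (resι W O ≫ g) (by
      rintro _ ⟨y, rfl⟩
      exact hk y.2)
    have hgOs : Smooth gO.left := by
      have h3 : Smooth (gO.left ≫ (sigmaOverι Uk k).left) := by
        rw [← Over.comp_left, hgO, Over.comp_left]
        haveI : Smooth (resι W O).left := by
          rw [resι_left]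
          infer_instance
        infer_instance
      exact MorphismProperty.of_postcomp (W := @Smooth) (W' := @IsOpenImmersion) gO.left
        (sigmaOverι Uk k).left inferInstance h3
    -- the pullback squares over the component
    have bigF : IsPullback (a'' ≫ a') b'' b
        ((AlgSp.yon S).map gO ≫ (AlgSp.yon S).map (sigmaOverι Uk k)) := by
      rw [← Functor.map_comp, hgO, Functor.map_comp]
      exact sq''.paste_horiz sqF
    obtain ⟨aO, haO1, haO2⟩ : ∃ aO : FV ⟶ Fk k, aO ≫ ak k = a'' ≫ a' ∧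
        aO ≫ bk k = b'' ≫ (AlgSp.yon S).map gO :=
      ⟨(sqk k).lift (a'' ≫ a') (b'' ≫ (AlgSp.yon S).map gO) (by rw [bigF.w, Category.assoc]),
        (sqk k).lift_fst _ _ _, (sqk k).lift_snd _ _ _⟩
    have sqFO : IsPullback aO b'' (bk k) ((AlgSp.yon S).map gO) := by
      refine IsPullback.of_right ?_ haO2 (sqk k)
      rw [haO1]
      exact bigF
    have bigN : IsPullback (g'' ≫ g') ν'' ν (gO ≫ sigmaOverι Uk k) := by
      rw [hgO]
      exact sqN''.paste_horiz sqN
    obtain ⟨gN, hgN1, hgN2⟩ : ∃ gN : NV ⟶ Nk k, gN ≫ sigmaOverι Nk k = g'' ≫ g' ∧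
        gN ≫ νk k = ν'' ≫ gO :=
      ⟨(sqν k).lift (g'' ≫ g') (ν'' ≫ gO) (by rw [bigN.w, Category.assoc]),
        (sqν k).lift_fst _ _ _, (sqν k).lift_snd _ _ _⟩
    have sqNO : IsPullback gN ν'' (νk k) gO := by
      refine IsPullback.of_right ?_ hgN2 (sqν k)
      rw [hgN1]
      exact bigN
    refine hstk k gO ⟨hgOs, hO⟩ aO b'' sqFO gN ν'' sqNO η'' h1'' ?_
    apply ((sqν k).map (AlgSp.yon S)).hom_ext
    · rw [Category.assoc, ← Functor.map_comp, hgN1, Functor.map_comp, ← Category.assoc, h2'',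
        Category.assoc, h2, Category.assoc, ← hη k, ← Category.assoc, ← Category.assoc, ← haO1]
    · rw [Category.assoc, ← Functor.map_comp, hgN2, Functor.map_comp, ← Category.assoc, h1'',
        Category.assoc, hηk k, haO2]

end Groth.Agent.R2.H95.NormSigma
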