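import Groth.Agent.R2.H95SpEpi
import Groth.Agent.R2.H83SchClosure

/-!
# Quasi-compact charts and the scheme theoretic image of a quasi-compact morphism (helper95)

For a morphism `g : V ⟶ Y` of fppf sheaves, a `QcChart g` consists of an etale surjective chart
`p : h_U ⟶ Y`, a scheme `W` with a map `a : h_W ⟶ V` and a QUASI-COMPACT morphism `h : W ⟶ U` with
`a ≫ g = h_h ≫ p` such that `h_W ⟶ V ×_Y h_U` is an epimorphism of sheaves.  (For a quasi-compact
morphism of algebraic spaces such a chart exists, `R2/H95QcChartEx`.)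

* `QcChart.ker_le_ker_of_point`: for `t : R ⟶ U` and the base change `h_t : W ×_U R ⟶ R`, every point
  `(x, b)` of `V ×_Y R` has `ker h_t ≤ ker b`.
* `QcChart.invariant`: the ideal `ker h` is invariant under `U ×_Y U`.
* `QcChart.isSchImage`: `V(ker h) ⊂ Y` (helper48's `ClosedSub.obj`) is the scheme theoretic image of `g`.
* `QcChart.exists_isPullback_of_isSchImage`: for every scheme theoretic image `i : Z ⟶ Y` of `g`, the
  base change of `i` to the chart is `V(ker h) ⟶ U`.
-/

set_option autoImplicit false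
universe u
open CategoryTheory CategoryTheory.Limits AlgebraicGeometry Opposite
open AlgSp

set_option backward.isDefEq.respectTransparency false
set_option linter.style.haveILetI false

namespace Groth.Agent.R2.H95.QcCh

open Groth.Agent.S13210 Groth.Agent.R2.H48.ClosedSub Groth.Agent.R2.H48.SchImage
  Groth.Agent.R2.H95.SpEpi

variable {S : Scheme.{u}}

/-- a quasi-compact chart of a morphism of fppf sheaves. -/
structure QcChart {V Y : AlgSp.Sp S} (g : V ⟶ Y) where
  /-- the chart of the target -/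
  U : Over S
  /-- the chart map -/
  p : (AlgSp.yon S).obj U ⟶ Y
  /-- the chart of the fibre product -/
  W : Over S
  /-- the map to the source -/
  a : (AlgSp.yon S).obj W ⟶ V
  /-- the quasi-compact map of charts -/
  h : W ⟶ U
  hpe : AlgSp.RepWith @Etale p
  hps : AlgSp.RepWith @Surjective p
  comm : a ≫ g = (AlgSp.yon S).map h ≫ p
  qc : QuasiCompact h.left
  epi : Epi (pullback.lift a ((AlgSp.yon S).map h) comm : (AlgSp.yon S).obj W ⟶ pullback g p)

namespace QcChart

variable {V Y : AlgSp.Sp S} {g : V ⟶ Y} (c : QcChart g)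

/-- the ideal of the scheme theoretic image on the chart. -/
noncomputable def ideal : c.U.left.IdealSheafData := c.h.left.ker

/-- every point of `V ×_Y R` factors through the scheme theoretic image of the base change of `h`. -/
theorem ker_le_ker_of_point {R W' : Over S} {t : R ⟶ c.U} {w' : W' ⟶ c.W} {h' : W' ⟶ R}
    (sq : IsPullback w' h' c.h t) {T : Over S} (x : (AlgSp.yon S).obj T ⟶ V) (b : T ⟶ R)
    (hxb : x ≫ g = (AlgSp.yon S).map (b ≫ t) ≫ c.p) : h'.left.ker ≤ b.left.ker := by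
  obtain ⟨q, hq2, hqe⟩ : ∃ q : (AlgSp.yon S).obj c.W ⟶ pullback g c.p,
      q ≫ pullback.snd g c.p = (AlgSp.yon S).map c.h ∧ Epi q :=
    ⟨_, pullback.lift_snd _ _ _, c.epi⟩
  let r' : (AlgSp.yon S).obj T ⟶ pullback g c.p := pullback.lift x ((AlgSp.yon S).map (b ≫ t)) hxb
  have hr'2 : r' ≫ pullback.snd g c.p = (AlgSp.yon S).map (b ≫ t) := pullback.lift_snd _ _ _
  haveI : Epi (pullback.fst r' q) := epi_of_isPullback (IsPullback.of_hasPullback r' q)
  have sqW := sq.map (AlgSp.yon S)
  have hcomp : pullback.snd r' q ≫ (AlgSp.yon S).map c.h =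
      (pullback.fst r' q ≫ (AlgSp.yon S).map b) ≫ (AlgSp.yon S).map t := by
    calc pullback.snd r' q ≫ (AlgSp.yon S).map c.h
        = (pullback.snd r' q ≫ q) ≫ pullback.snd g c.p := by rw [Category.assoc, hq2]
      _ = (pullback.fst r' q ≫ r') ≫ pullback.snd g c.p := by rw [pullback.condition]
      _ = (pullback.fst r' q ≫ (AlgSp.yon S).map b) ≫ (AlgSp.yon S).map t := by
          rw [Category.assoc, hr'2, Functor.map_comp, Category.assoc]
  let ℓ' : pullback r' q ⟶ (AlgSp.yon S).obj W' :=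
    sqW.lift (pullback.snd r' q) (pullback.fst r' q ≫ (AlgSp.yon S).map b) hcomp
  have hℓ' : ℓ' ≫ (AlgSp.yon S).map h' = pullback.fst r' q ≫ (AlgSp.yon S).map b :=
    sqW.lift_snd _ _ _
  obtain ⟨k, hk⟩ := (le_ker_iff_fac_yon h'.left.ker h').1 le_rfl
  obtain ⟨d, -, hd⟩ := exists_lift_of_epi_mono (pullback.fst r' q)
    ((AlgSp.yon S).map (ιU h'.left.ker)) (ℓ' ≫ k) ((AlgSp.yon S).map b) (by
      rw [Category.assoc, hk, hℓ'])
  exact (le_ker_iff_fac_yon h'.left.ker b).2 ⟨d, hd⟩

/-- every point of `V ×_Y U` factors through `V(ker h)`. -/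
theorem ideal_le_ker_of_point {T : Over S} (x : (AlgSp.yon S).obj T ⟶ V) (b : T ⟶ c.U)
    (hxb : x ≫ g = (AlgSp.yon S).map b ≫ c.p) : c.ideal ≤ b.left.ker :=
  c.ker_le_ker_of_point (t := 𝟙 c.U) IsPullback.of_id_fst x b (by rwa [Category.comp_id])

/-- the ideal of a quasi-compact chart is invariant under `U ×_Y U`. -/
theorem invariant : Invariant c.p c.ideal := by
  intro T b₁ b₂ hb hle
  obtain ⟨pr₁, hpr₁⟩ := (AlgSp.yon S).map_surjective (c.hpe.rep.fst c.p)
  have sqR := c.hpe.rep.isPullback c.p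
  rw [← hpr₁] at sqR
  set pr₂ := c.hpe.rep.snd c.p with hpr₂
  haveI : Etale pr₂.left := c.hpe.property_snd c.p
  haveI : Etale pr₁.left := c.hpe.property c.p _ pr₁ sqR.flip
  obtain ⟨r, hr⟩ := (AlgSp.yon S).map_surjective (sqR.lift _ _ hb)
  have hr1 : r ≫ pr₁ = b₁ := by
    apply (AlgSp.yon S).map_injective
    rw [Functor.map_comp, hr]; exact sqR.lift_fst _ _ _
  have hr2 : r ≫ pr₂ = b₂ := by
    apply (AlgSp.yon S).map_injective
    rw [Functor.map_comp, hr]; exact sqR.lift_snd _ _ _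
  have e1 : b₁.left = r.left ≫ pr₁.left := by rw [← hr1]; rfl
  have e2 : b₂.left = r.left ≫ pr₂.left := by rw [← hr2]; rfl
  haveI := c.qc
  have sq1 := IsPullback.of_hasPullback c.h pr₁
  have sq2 := IsPullback.of_hasPullback c.h pr₂
  have F1 : (pullback.snd c.h pr₁).left.ker = c.ideal.comap pr₁.left :=
    Groth.Agent.R2.H83.SchImgBC.ker_eq_comap_of_isPullback (sq1.map (Over.forget S))
  have F2 : (pullback.snd c.h pr₂).left.ker = c.ideal.comap pr₂.left :=
    Groth.Agent.R2.H83.SchImgBC.ker_eq_comap_of_isPullback (sq2.map (Over.forget S))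
  rw [e1, Scheme.Hom.ker_comp, Scheme.IdealSheafData.le_map_iff_comap_le, ← F1] at hle
  rw [e2, Scheme.Hom.ker_comp, Scheme.IdealSheafData.le_map_iff_comap_le, ← F2]
  refine le_trans ?_ hle
  refine c.ker_le_ker_of_point sq2 ((AlgSp.yon S).map (pullback.fst c.h pr₁) ≫ c.a)
    (pullback.snd c.h pr₁) ?_
  rw [Category.assoc, c.comm, ← Functor.map_comp_assoc, pullback.condition, Functor.map_comp,
    Functor.map_comp, Category.assoc, Category.assoc, sqR.w]

/-- `g` factors through the closed subsheaf cut out by the ideal of a quasi-compact chart. -/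
theorem exists_factor : ∃ g' : V ⟶ obj c.p c.ideal, g' ≫ incl c.p c.ideal = g := by
  refine exists_lift c.p g (fun T x T' c' b hcb => ?_)
  refine c.ideal_le_ker_of_point ((AlgSp.yon S).map c' ≫ x) b ?_
  rw [Category.assoc]
  exact hcb

end QcChart

/-- a closed subsheaf cut out by an invariant ideal maps to every closed subspace whose ideal on the
chart is smaller. -/
theorem exists_factor_of_le {Y : AlgSp.Sp S} {U : Over S} {p : (AlgSp.yon S).obj U ⟶ Y}
    {I : U.left.IdealSheafData} (hinv : Invariant p I) (hpe : AlgSp.RepWith @Etale p)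
    (hps : AlgSp.RepWith @Surjective p) {Z' : AlgSp.Sp S} {i' : Z' ⟶ Y} [Mono i']
    {J' : U.left.IdealSheafData} (hJ' : CutsOut p i' J') (hle : J' ≤ I) :
    ∃ k : obj p I ⟶ Z', k ≫ i' = incl p I := by
  obtain ⟨zU, hzU⟩ := exists_chart hinv
  have sq := isPullback_chart hzU
  have hze : AlgSp.RepWith @Etale zU :=
    MorphismProperty.of_isPullback (P := AlgSp.RepWith @Etale) sq.flip hpe
  have hzs : AlgSp.RepWith @Surjective zU :=
    MorphismProperty.of_isPullback (P := AlgSp.RepWith @Surjective) sq.flip hps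
  haveI : Epi zU := Groth.Agent.R2.H43.CutOut.epi_of_repWith_etale_surjective zU hze hzs
  obtain ⟨kU, hkU⟩ := (hJ' (ZU I) (ιU I)).1 (by
    have : (ιU I).left.ker = I := Scheme.IdealSheafData.ker_subschemeι _
    rw [this]
    exact hle)
  obtain ⟨k, -, hk⟩ := exists_lift_of_epi_mono zU i' kU (incl p I) (by rw [hkU, hzU])
  exact ⟨k, hk⟩

namespace QcChart

variable {V Y : AlgSp.Sp S} {g : V ⟶ Y} (c : QcChart g)

/-- **the scheme theoretic image of a morphism with a quasi-compact chart.** -/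
theorem isSchImage : AlgSp.IsSchImage g (incl c.p c.ideal) := by
  refine ⟨repWith_incl c.invariant c.hpe c.hps, c.exists_factor, ?_⟩
  intro Z' i' _ hi' hf''
  obtain ⟨f'', hf''⟩ := hf''
  obtain ⟨J', hJ'⟩ := exists_cutsOut c.p hi'
  haveI : Mono i' := Groth.Agent.S9928.mono_of_repWith @IsClosedImmersion (fun X Y g hg => by
    haveI : IsClosedImmersion g := hg
    infer_instance) i' hi'
  refine exists_factor_of_le c.invariant c.hpe c.hps hJ' ?_
  rw [ideal, hJ' c.W c.h]
  exact ⟨c.a ≫ f'', by rw [Category.assoc, hf'', c.comm]⟩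

/-- any scheme theoretic image of `g` is isomorphic over `Y` to the one of the chart. -/
theorem exists_iso_of_isSchImage (hY : AlgSp.IsAlgSpace Y) {Z : AlgSp.Sp S} (i : Z ⟶ Y)
    (hZ : AlgSp.IsAlgSpace Z) (hi : AlgSp.IsSchImage g i) :
    ∃ e : Z ≅ obj c.p c.ideal, e.hom ≫ incl c.p c.ideal = i := by
  have hc := c.isSchImage
  obtain ⟨k₁, hk₁⟩ := hi.2.2 (incl c.p c.ideal)
    (isAlgSpace_obj hY c.invariant c.hpe c.hps) hc.1 hc.2.1
  obtain ⟨k₂, hk₂⟩ := hc.2.2 i hZ hi.1 hi.2.1
  haveI : Mono i := Groth.Agent.S9928.mono_of_repWith @IsClosedImmersion (fun X Y g hg => by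
    haveI : IsClosedImmersion g := hg
    infer_instance) i hi.1
  refine ⟨⟨k₁, k₂, ?_, ?_⟩, hk₁⟩
  · rw [← cancel_mono i, Category.assoc, hk₂, hk₁, Category.id_comp]
  · rw [← cancel_mono (incl c.p c.ideal), Category.assoc, hk₁, hk₂, Category.id_comp]

/-- the base change of any scheme theoretic image of `g` to the chart is `V(ker h)`. -/
theorem exists_isPullback_of_isSchImage (hY : AlgSp.IsAlgSpace Y) {Z : AlgSp.Sp S} (i : Z ⟶ Y)
    (hZ : AlgSp.IsAlgSpace Z) (hi : AlgSp.IsSchImage g i) :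
    ∃ z : (AlgSp.yon S).obj (ZU c.ideal) ⟶ Z,
      IsPullback z ((AlgSp.yon S).map (ιU c.ideal)) i c.p := by
  obtain ⟨e, he⟩ := c.exists_iso_of_isSchImage hY i hZ hi
  obtain ⟨zU, hzU⟩ := exists_chart c.invariant
  have sq := isPullback_chart hzU
  refine ⟨zU ≫ e.inv, ?_⟩
  have h2 : IsPullback e.inv (incl c.p c.ideal) i (𝟙 Y) :=
    IsPullback.of_horiz_isIso ⟨by rw [← he]; simp⟩
  have := sq.paste_horiz h2
  simpa using this

include c in
/-- the points of the scheme theoretic image lie in the closure of the image of `g`. -/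
theorem range_subset_closure (hY : AlgSp.IsAlgSpace Y) {Z : AlgSp.Sp S} (i : Z ⟶ Y)
    (hZ : AlgSp.IsAlgSpace Z) (hi : AlgSp.IsSchImage g i) :
    Set.range (AlgSp.Points.map i) ⊆ closure (Set.range (AlgSp.Points.map g)) := by
  obtain ⟨e, he⟩ := c.exists_iso_of_isSchImage hY i hZ hi
  rintro _ ⟨z, rfl⟩
  have hz : AlgSp.Points.map i z ∈ Set.range (AlgSp.Points.map (incl c.p c.ideal)) := by
    refine ⟨AlgSp.Points.map e.hom z, ?_⟩
    rw [← AlgSp.Points.map_comp, he]
  rw [range_map_incl c.invariant c.hps] at hz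
  obtain ⟨u, hu, hux⟩ := hz
  rw [← hux]
  haveI := c.qc
  have hsupp : (c.ideal.support : Set c.U.left) = closure (Set.range c.h.left) :=
    Scheme.Hom.support_ker c.h.left
  rw [hsupp] at hu
  have hcont : Continuous (AlgSp.Points.ofPt c.p) := AlgSp.Points.continuous_ofPt c.p
  have h1 := image_closure_subset_closure_image hcont (Set.mem_image_of_mem _ hu)
  refine closure_mono ?_ h1
  rintro _ ⟨_, ⟨w, rfl⟩, rfl⟩
  refine ⟨AlgSp.Points.ofPt c.a w, ?_⟩
  rw [AlgSp.Points.map_ofPt, c.comm]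
  exact Groth.Agent.S10176.ofPt_map_comp c.h c.p w

end QcChart

end Groth.Agent.R2.H95.QcCh
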