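import Mathlib
import Groth.Prelude.Def_AlgSpMor5
import Groth.Agent.S9900
import Groth.Agent.S9874
import Groth.Agent.S9908
import Groth.Agent.S9906
import Groth.Agent.S10175
import Groth.Agent.S9209

/-!
# The refined Noetherian valuative criterion for separatedness of algebraic spaces: chart step (helper95)

`isClosedImmersion_of_chart`: let `h : U ⟶ X`, `f : X ⟶ Y` be morphisms of algebraic spaces with `f`
quasi-separated, `h` of finite type with dense image, such that valuative squares over discrete
valuation rings whose top arrow factors through `U` have at most one lift.  Then for every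
quasi-compact quasi-separated locally Noetherian scheme `T` etale over `X ×_Y X`, the base change
`W ⟶ T` of the diagonal of `f` is a closed immersion.  (Scheme-level input: the prior `S9209`,
the refined valuative criterion for schemes.)
-/

set_option autoImplicit false
set_option backward.isDefEq.respectTransparency false
set_option linter.style.haveILetI false
universe u
open CategoryTheory CategoryTheory.Limits AlgebraicGeometry
open AlgSp

namespace Groth.Agent.R2.H95.RefinedSep

variable {S : Scheme.{u}}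

/-- a representable etale map is open on points -/
theorem isOpenMap_map_of_etale {F G : AlgSp.Sp S} (f : F ⟶ G) (hf : AlgSp.RepWith @Etale f) :
    IsOpenMap (AlgSp.Points.map f) := by
  refine Groth.Agent.S9908.isOpenMap_map_of_repWith f ⟨hf.1, fun U V g fst snd sq => ?_⟩
  haveI : Etale snd.left := hf.2 g fst snd sq
  exact (inferInstance : UniversallyOpen snd.left)

/-- density of the image passes to an etale chart of the base change -/
theorem denseRange_chart {U X : AlgSp.Sp S} (h : U ⟶ X)
    (hdense : Dense (Set.range (AlgSp.Points.map h)))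
    {W : Over S} (pr : (AlgSp.yon S).obj W ⟶ X) (hpre : AlgSp.RepWith @Etale pr)
    {U' : Over S} (c : (AlgSp.yon S).obj U' ⟶ pullback h pr) (hcs : AlgSp.RepWith @Surjective c)
    (h' : U' ⟶ W) (hh' : (AlgSp.yon S).map h' = c ≫ pullback.snd h pr) :
    DenseRange h'.left.base := by
  have hopen := isOpenMap_map_of_etale pr hpre
  have hd1 : Dense ((AlgSp.Points.map pr) ⁻¹' (Set.range (AlgSp.Points.map h))) :=
    hdense.preimage hopen
  have hsub : (AlgSp.Points.map pr) ⁻¹' (Set.range (AlgSp.Points.map h)) ⊆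
      Set.range (AlgSp.Points.map ((AlgSp.yon S).map h')) := by
    rintro x ⟨u, hu⟩
    obtain ⟨p, -, hp2⟩ := Groth.Agent.S10175.exists_point_of_isPullback
      (IsPullback.of_hasPullback h pr) u x hu
    obtain ⟨p', rfl⟩ := Groth.Agent.S9906.surjective_map_of_repWith c hcs p
    refine ⟨p', ?_⟩
    rw [hh', AlgSp.Points.map_comp, hp2]
  have hd2 : Dense (Set.range (AlgSp.Points.map ((AlgSp.yon S).map h'))) := hd1.mono hsub
  -- transport to the schemes
  have hrange : Set.range h'.left.base =
      (AlgSp.Points.schemeHomeo W) ⁻¹' (Set.range (AlgSp.Points.map ((AlgSp.yon S).map h'))) := by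
    ext t
    constructor
    · rintro ⟨s, rfl⟩
      exact ⟨AlgSp.Points.schemeHomeo U' s, AlgSp.Points.map_yon_map_apply h' s⟩
    · rintro ⟨x, hx⟩
      obtain ⟨s, rfl⟩ := (AlgSp.Points.schemeHomeo U').surjective x
      rw [AlgSp.Points.map_yon_map_apply] at hx
      exact ⟨s, (AlgSp.Points.schemeHomeo W).injective hx⟩
  change Dense (Set.range h'.left.base)
  rw [hrange]
  exact hd2.preimage (AlgSp.Points.schemeHomeo W).isOpenMap

/-- **Chart step.**  Over a quasi-compact quasi-separated locally Noetherian scheme `T` etale over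
`X ×_Y X`, the base change of the diagonal of `f` is a closed immersion, provided valuative squares over
discrete valuation rings with top arrow through `U` have at most one lift. -/
theorem isClosedImmersion_of_chart {U X Y : AlgSp.Space S} (h : U ⟶ X) (f : X ⟶ Y)
    (hfqs : AlgSp.IsQuasiSeparatedMor f.hom) (hh : AlgSp.IsFiniteTypeMor h.hom)
    (hdense : Dense (Set.range (AlgSp.Points.map h.hom)))
    (hval : ∀ sq : AlgSp.ValSq (h.hom ≫ f.hom), IsDiscreteValuationRing sq.A →
      ∀ l l' : (AlgSp.yon S).obj sq.ptA ⟶ X.obj,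
        (AlgSp.yon S).map sq.j ≫ l = sq.top ≫ h.hom ∧ l ≫ f.hom = sq.bot →
        (AlgSp.yon S).map sq.j ≫ l' = sq.top ≫ h.hom ∧ l' ≫ f.hom = sq.bot → l = l')
    (T : Over S) [IsLocallyNoetherian T.left] [CompactSpace T.left] [QuasiSeparatedSpace T.left]
    (q : (AlgSp.yon S).obj T ⟶ pullback f.hom f.hom) (hqe : AlgSp.RepWith @Etale q)
    (W : Over S) (w : W ⟶ T) (pr : (AlgSp.yon S).obj W ⟶ X.obj)
    (psq : IsPullback pr ((AlgSp.yon S).map w) (pullback.diagonal f.hom) q) :
    IsClosedImmersion w.left := by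
  obtain ⟨-, hlft, hmono, hsep, -⟩ := Groth.Agent.S9900.result f
  haveI : LocallyOfFiniteType w.left := hlft.2 q pr w psq
  haveI : Mono w.left := hmono.2 q pr w psq
  haveI : IsSeparated w.left := hsep.2 q pr w psq
  haveI : QuasiCompact w.left := hfqs.2 q pr w psq
  haveI : CompactSpace W.left := QuasiCompact.compactSpace_of_compactSpace w.left
  haveI : QuasiSeparatedSpace W.left := quasiSeparatedSpace_of_quasiSeparated w.left
  -- `pr` is etale
  have hpre : AlgSp.RepWith @Etale pr :=
    MorphismProperty.of_isPullback (P := AlgSp.RepWith @Etale) psq.flip hqe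
  -- the base change of `U` and a compact chart of it
  have sqU : IsPullback (pullback.fst h.hom pr) (pullback.snd h.hom pr) h.hom pr :=
    IsPullback.of_hasPullback h.hom pr
  have hfstU : AlgSp.RepWith @Etale (pullback.fst h.hom pr) :=
    MorphismProperty.of_isPullback (P := AlgSp.RepWith @Etale) sqU.flip hpre
  have hqcU : AlgSp.IsQuasiCompactSp (pullback h.hom pr) :=
    hh.2 (AlgSp.IsAlgSpace.yon_obj W)
      ⟨W, 𝟙 _, AlgSp.repWith_id @Etale W, AlgSp.repWith_id @Surjective W, inferInstance⟩
      pr _ _ sqU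
  obtain ⟨U', c, hce, hcs, hcomp⟩ := hqcU
  haveI : CompactSpace U'.left := hcomp
  obtain ⟨h', hh'⟩ := (AlgSp.yon S).map_surjective (c ≫ pullback.snd h.hom pr)
  have hcfst : AlgSp.RepWith @Etale (c ≫ pullback.fst h.hom pr) :=
    (AlgSp.RepWith @Etale).comp_mem _ _ hce hfstU
  have hcomm : (c ≫ pullback.fst h.hom pr) ≫ h.hom = (AlgSp.yon S).map h' ≫ pr := by
    rw [hh', Category.assoc, Category.assoc, pullback.condition]
  haveI : LocallyOfFiniteType h'.left := hh.1 _ _ h' hcfst hpre hcomm
  haveI : QuasiCompact h'.left := inferInstance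
  have hd : DenseRange h'.left.base := denseRange_chart h.hom hdense pr hpre c hcs h' hh'
  have hpa : pr = (AlgSp.yon S).map w ≫ q ≫ pullback.fst f.hom f.hom := by
    have := psq.w =≫ pullback.fst f.hom f.hom
    rwa [Category.assoc, pullback.diagonal_fst, Category.comp_id, Category.assoc] at this
  have hpb : pr = (AlgSp.yon S).map w ≫ q ≫ pullback.snd f.hom f.hom := by
    have := psq.w =≫ pullback.snd f.hom f.hom
    rwa [Category.assoc, pullback.diagonal_snd, Category.comp_id, Category.assoc] at this
  have hproper : IsProper w.left := by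
    refine Groth.Agent.S9209.result w.left h'.left hd ?_
    intro A _ _ _ x y hxy
    have hi₁ : x ≫ U'.hom =
        Spec.map (CommRingCat.ofHom (algebraMap A (FractionRing A))) ≫ y ≫ T.hom := by
      have h1 := hxy =≫ T.hom
      rw [Category.assoc, Category.assoc, Over.w w, Over.w h'] at h1
      rw [h1, Category.assoc]
    let i₂' : Over.mk (y ≫ T.hom) ⟶ T := Over.homMk y rfl
    let jj : Over.mk (Spec.map (CommRingCat.ofHom (algebraMap A (FractionRing A))) ≫ y ≫ T.hom) ⟶
        Over.mk (y ≫ T.hom) :=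
      Over.homMk (Spec.map (CommRingCat.ofHom (algebraMap A (FractionRing A)))) rfl
    let i₁' : Over.mk (Spec.map (CommRingCat.ofHom (algebraMap A (FractionRing A))) ≫ y ≫ T.hom) ⟶
        U' := Over.homMk x hi₁
    have hcomm' : i₁' ≫ h' ≫ w = jj ≫ i₂' := Over.OverMorphism.ext hxy
    have e : (AlgSp.yon S).map jj ≫ (AlgSp.yon S).map i₂' =
        (AlgSp.yon S).map i₁' ≫ (AlgSp.yon S).map h' ≫ (AlgSp.yon S).map w := by
      rw [← Functor.map_comp, ← Functor.map_comp, ← Functor.map_comp, hcomm']
    obtain ⟨l₁, hl₁⟩ : ∃ l₁ : (AlgSp.yon S).obj (Over.mk (y ≫ T.hom)) ⟶ X.obj,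
        l₁ = (AlgSp.yon S).map i₂' ≫ q ≫ pullback.fst f.hom f.hom := ⟨_, rfl⟩
    obtain ⟨l₂, hl₂⟩ : ∃ l₂ : (AlgSp.yon S).obj (Over.mk (y ≫ T.hom)) ⟶ X.obj,
        l₂ = (AlgSp.yon S).map i₂' ≫ q ≫ pullback.snd f.hom f.hom := ⟨_, rfl⟩
    obtain ⟨tp, htp⟩ : ∃ tp : (AlgSp.yon S).obj (Over.mk
        (Spec.map (CommRingCat.ofHom (algebraMap A (FractionRing A))) ≫ y ≫ T.hom)) ⟶ U.obj,
        tp = (AlgSp.yon S).map i₁' ≫ c ≫ pullback.fst h.hom pr := ⟨_, rfl⟩
    have htop : tp ≫ h.hom = (AlgSp.yon S).map i₁' ≫ (AlgSp.yon S).map h' ≫ pr := by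
      rw [htp, Category.assoc, Category.assoc, pullback.condition, hh', Category.assoc]
    have hj1 : (AlgSp.yon S).map jj ≫ l₁ = tp ≫ h.hom := by
      rw [htop, hl₁]
      conv_rhs => rw [hpa]
      simpa only [Category.assoc] using e =≫ (q ≫ pullback.fst f.hom f.hom)
    have hj2 : (AlgSp.yon S).map jj ≫ l₂ = tp ≫ h.hom := by
      rw [htop, hl₂]
      conv_rhs => rw [hpb]
      simpa only [Category.assoc] using e =≫ (q ≫ pullback.snd f.hom f.hom)
    have hf12 : l₁ ≫ f.hom = l₂ ≫ f.hom := by
      rw [hl₁, hl₂]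
      simp only [Category.assoc, pullback.condition]
    let vsq : AlgSp.ValSq (h.hom ≫ f.hom) :=
      { A := A, K := FractionRing A, str := y ≫ T.hom, top := tp,
        bot := l₁ ≫ f.hom
        comm := (Category.assoc tp h.hom f.hom).symm.trans
          ((congrArg (· ≫ f.hom) hj1.symm).trans (Category.assoc _ _ _)) }
    have huniq : l₁ = l₂ := hval vsq (inferInstanceAs (IsDiscreteValuationRing A)) l₁ l₂
      ⟨hj1, rfl⟩ ⟨hj2, hf12.symm⟩
    have hdg : l₁ ≫ pullback.diagonal f.hom = (AlgSp.yon S).map i₂' ≫ q := by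
      apply pullback.hom_ext
      · rw [Category.assoc, pullback.diagonal_fst, Category.comp_id, hl₁, Category.assoc]
      · rw [Category.assoc, pullback.diagonal_snd, Category.comp_id, huniq, hl₂, Category.assoc]
    obtain ⟨s, hs⟩ := (AlgSp.yon S).map_surjective (psq.lift l₁ ((AlgSp.yon S).map i₂') hdg)
    have hsw : s ≫ w = i₂' := by
      apply (AlgSp.yon S).map_injective
      rw [Functor.map_comp, hs, psq.lift_snd]
    have hsl : s.left ≫ w.left = y := by
      rw [← Over.comp_left, hsw]; rfl
    refine ⟨s.left, hsl, ?_⟩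
    rw [← cancel_mono w.left, Category.assoc, hsl, Category.assoc, hxy]
  exact (IsClosedImmersion.iff_isProper_and_mono w.left).2 ⟨hproper, inferInstance⟩

end Groth.Agent.R2.H95.RefinedSep
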