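import Mathlib
import Groth.Prelude.Def_AlgSpSub

/-!
# Scheme theoretic images: flat base change of the kernel ideal (helper95)

* `ker_toImage_eq_bot`: for quasi-compact `f`, the map to the scheme theoretic image is scheme theoretically
  dominant.
* `ker_eq_comap_of_isPullback`: for `f` quasi-compact and `g` flat, the kernel ideal of the base change of
  `f` along `g` is the pullback of the kernel ideal of `f`.
-/

set_option autoImplicit false
universe u
open CategoryTheory CategoryTheory.Limits AlgebraicGeometry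

namespace Groth.Agent.R2.H95.SchImage

theorem ker_toImage_eq_bot {X Y : Scheme.{u}} (f : X ⟶ Y) [QuasiCompact f] : f.toImage.ker = ⊥ := by
  refine Scheme.IdealSheafData.ext_of_iSup_eq_top
    (fun U : Y.affineOpens => ⟨f.imageι ⁻¹ᵁ U.1, U.2.preimage f.imageι⟩) ?_ ?_
  · rw [eq_top_iff]
    intro x _
    obtain ⟨_, ⟨U, hU : IsAffineOpen U, rfl⟩, hxU, -⟩ :=
      Y.isBasis_affineOpens.exists_subset_of_mem_open (Set.mem_univ (f.imageι x)) isOpen_univ
    exact TopologicalSpace.Opens.mem_iSup.mpr ⟨⟨U, hU⟩, hxU⟩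
  · intro U
    rw [Scheme.Hom.ker_apply]
    simp only [Scheme.IdealSheafData.ideal_bot, Pi.bot_apply]
    exact (RingHom.injective_iff_ker_eq_bot _).mp (f.toImage_app_injective U)

instance {X Y : Scheme.{u}} (f : X ⟶ Y) [QuasiCompact f] :
    IsSchemeTheoreticallyDominant f.toImage := ⟨ker_toImage_eq_bot f⟩

/-- **Flat base change of the kernel ideal of a quasi-compact morphism.** -/
theorem ker_eq_comap_of_isPullback {X Y X' Y' : Scheme.{u}} {f : X ⟶ Y} {g : Y' ⟶ Y}
    {g' : X' ⟶ X} {f' : X' ⟶ Y'} (H : IsPullback g' f' f g) [QuasiCompact f] [Flat g] :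
    f'.ker = f.ker.comap g := by
  have hw : f' ≫ g = (g' ≫ f.toImage) ≫ f.imageι := by
    rw [Category.assoc, f.toImage_imageι, H.w]
  let k : X' ⟶ pullback g f.imageι := pullback.lift f' (g' ≫ f.toImage) hw
  have hk1 : k ≫ pullback.fst g f.imageι = f' := pullback.lift_fst _ _ _
  have hk2 : k ≫ pullback.snd g f.imageι = g' ≫ f.toImage := pullback.lift_snd _ _ _
  have sqL : IsPullback g' k f.toImage (pullback.snd g f.imageι) := by
    have hR : IsPullback (pullback.snd g f.imageι) (pullback.fst g f.imageι) f.imageι g :=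
      (IsPullback.of_hasPullback g f.imageι).flip
    refine IsPullback.of_bot ?_ hk2.symm hR
    rw [f.toImage_imageι, hk1]
    exact H
  have : IsSchemeTheoreticallyDominant k := IsSchemeTheoreticallyDominant.of_isPullback sqL
  rw [← hk1, Scheme.Hom.ker_comp, k.ker_eq_bot, Scheme.IdealSheafData.map_bot]
  rfl

end Groth.Agent.R2.H95.SchImage
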