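import Groth.Agent.R2.H95SchImage
import Groth.Agent.R2.H95SchDenseSp
import Groth.Agent.R2.H48SchImage
import Groth.Agent.R2.H48OpenCompl

/-!
# Kernel ideals of representable quasi-compact morphisms on etale charts (helper95)

* `invariant_ker`: for a representable morphism `g : F ⟶ X` of fppf sheaves whose base change
  `u : P ⟶ V` to an etale chart `p : h_V ⟶ X` is quasi-compact, the kernel ideal of `u` is invariant
  under `V ×_X V` (`Groth.Agent.R2.H48.ClosedSub.Invariant`), by flat base change of kernels.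
* `exists_factor_ker`: `g` factors through the closed subsheaf cut out by that ideal.
-/

set_option autoImplicit false
universe u
open CategoryTheory CategoryTheory.Limits AlgebraicGeometry
open AlgSp

namespace Groth.Agent.R2.H95.SchImageSp

open Groth.Agent.R2.H48.ClosedSub Groth.Agent.R2.H95.SchImage

variable {S : Scheme.{u}}

/-- the kernel ideal on an etale chart of a representable morphism with quasi-compact base change is
invariant. -/
theorem invariant_ker {F X : AlgSp.Sp S} (g : F ⟶ X) (hg : AlgSp.Representable g)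
    {V : Over S} (p : (AlgSp.yon S).obj V ⟶ X) (hp : AlgSp.RepWith @Etale p)
    {P : Over S} (u : P ⟶ V) (fstP : (AlgSp.yon S).obj P ⟶ F)
    (sqP : IsPullback fstP ((AlgSp.yon S).map u) g p) [QuasiCompact u.left] :
    Invariant p u.left.ker := by
  intro T b₁ b₂ hb hle
  obtain ⟨R, π₂, pr₁, sqR⟩ := hp.1 p
  obtain ⟨π₁, rfl⟩ := (AlgSp.yon S).map_surjective pr₁
  have hπ₂ : Etale π₂.left := hp.2 p _ π₂ sqR
  have hπ₁ : Etale π₁.left := hp.2 p _ π₁ sqR.flip
  obtain ⟨b, hb'⟩ := (AlgSp.yon S).map_surjective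
    (sqR.lift ((AlgSp.yon S).map b₁) ((AlgSp.yon S).map b₂) hb)
  have hb1 : b ≫ π₁ = b₁ := (AlgSp.yon S).map_injective (by
    rw [Functor.map_comp, hb']; exact sqR.lift_fst _ _ _)
  have hb2 : b ≫ π₂ = b₂ := (AlgSp.yon S).map_injective (by
    rw [Functor.map_comp, hb']; exact sqR.lift_snd _ _ _)
  obtain ⟨Q, w, fstQ, sqQ⟩ := hg ((AlgSp.yon S).map π₁ ≫ p)
  have key : ∀ (π : R ⟶ V), (AlgSp.yon S).map π ≫ p = (AlgSp.yon S).map π₁ ≫ p → Flat π.left →
      w.left.ker = u.left.ker.comap π.left := by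
    intro π hπ hfl
    obtain ⟨c, hc⟩ := (AlgSp.yon S).map_surjective
      (sqP.lift fstQ ((AlgSp.yon S).map w ≫ (AlgSp.yon S).map π) (by
        rw [sqQ.w, Category.assoc, hπ]))
    have hc1 : (AlgSp.yon S).map c ≫ fstP = fstQ := by rw [hc]; exact sqP.lift_fst _ _ _
    have hc2 : c ≫ u = w ≫ π := (AlgSp.yon S).map_injective (by
      rw [Functor.map_comp, hc, Functor.map_comp]; exact sqP.lift_snd _ _ _)
    have sq' : IsPullback ((AlgSp.yon S).map c) ((AlgSp.yon S).map w) ((AlgSp.yon S).map u)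
        ((AlgSp.yon S).map π) := by
      refine IsPullback.of_right ?_ (by rw [← Functor.map_comp, ← Functor.map_comp, hc2]) sqP
      rw [hc1, hπ]
      exact sqQ
    have sq'' : IsPullback c.left w.left u.left π.left :=
      (IsPullback.of_map (AlgSp.yon S) hc2 sq').map (Over.forget S)
    exact ker_eq_comap_of_isPullback sq''
  have k1 := key π₁ rfl inferInstance
  have k2 := key π₂ sqR.w.symm inferInstance
  have e1 : u.left.ker ≤ b₁.left.ker ↔ w.left.ker ≤ b.left.ker := by
    rw [← hb1, Over.comp_left, Scheme.Hom.ker_comp, Scheme.IdealSheafData.le_map_iff_comap_le, k1]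
  have e2 : u.left.ker ≤ b₂.left.ker ↔ w.left.ker ≤ b.left.ker := by
    rw [← hb2, Over.comp_left, Scheme.Hom.ker_comp, Scheme.IdealSheafData.le_map_iff_comap_le, k2]
  exact e2.mpr (e1.mp hle)

/-- `g` factors through the closed subsheaf cut out on the chart by the kernel ideal of its base change. -/
theorem exists_factor_ker {F X : AlgSp.Sp S} (g : F ⟶ X)
    {V : Over S} (p : (AlgSp.yon S).obj V ⟶ X)
    {P : Over S} (u : P ⟶ V) (fstP : (AlgSp.yon S).obj P ⟶ F)
    (sqP : IsPullback fstP ((AlgSp.yon S).map u) g p) :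
    ∃ g' : F ⟶ obj p u.left.ker, g' ≫ incl p u.left.ker = g := by
  refine Groth.Agent.R2.H48.SchImage.exists_lift p g (fun T x T' c b hcb => ?_)
  obtain ⟨b', hb'⟩ := (AlgSp.yon S).map_surjective
    (sqP.lift ((AlgSp.yon S).map c ≫ x) ((AlgSp.yon S).map b) (by rw [Category.assoc]; exact hcb))
  have h1 : b' ≫ u = b := (AlgSp.yon S).map_injective (by
    rw [Functor.map_comp, hb']; exact sqP.lift_snd _ _ _)
  rw [← h1, Over.comp_left]
  exact Scheme.Hom.le_ker_comp _ _

/-- if the identity factors through the closed subsheaf cut out by an ideal on the chart, the ideal is zero. -/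
theorem eq_bot_of_factor_id {X : AlgSp.Sp S} {V : Over S} (p : (AlgSp.yon S).obj V ⟶ X)
    (I : V.left.IdealSheafData) (k : X ⟶ obj p I) (hk : k ≫ incl p I = 𝟙 X) : I = ⊥ := by
  have h1 : ∃ a' : (AlgSp.yon S).obj V ⟶ obj p I, a' ≫ incl p I = p :=
    ⟨p ≫ k, by rw [Category.assoc, hk, Category.comp_id]⟩
  have h2 := (factor_iff p I p).1 h1 V (𝟙 V) (𝟙 V) rfl
  rw [Over.id_left, Scheme.Hom.ker_eq_bot_of_isIso] at h2
  exact le_bot_iff.mp h2

end Groth.Agent.R2.H95.SchImageSp
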