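import Groth.Agent.R2.H95SpEpi
import Groth.Agent.R2.H95SchImage

/-!
# Separated morphisms of fppf sheaves: equalisers are closed (helper95)

* `isSchemeTheoreticallyDominant_of_comp`: if `f ≫ g` is scheme theoretically dominant then so is `g`.
* `isPullback_of_comp_mono`: cancel a monomorphism from the first leg of a pullback square.
* `eq_of_isSeparatedMor`: two maps `u v : h_B ⟶ X` over `Y` with `X ⟶ Y` separated agree as soon as they
  agree on a scheme theoretically dominant `D ⟶ B`.
* `isClosedImmersion_of_isSeparatedMor`: for `X ⟶ Y` separated, `A ×_X B ⟶ A ×_Y B` is a closed immersion of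
  schemes.
-/

set_option autoImplicit false
universe u
open CategoryTheory CategoryTheory.Limits AlgebraicGeometry Opposite
open AlgSp

set_option backward.isDefEq.respectTransparency false
set_option linter.style.haveILetI false

namespace Groth.Agent.R2.H95.SepEq

variable {S : Scheme.{u}}

/-- if a composite is scheme theoretically dominant then so is the second map. -/
theorem isSchemeTheoreticallyDominant_of_comp {X Y Z : Scheme.{u}} (f : X ⟶ Y) (g : Y ⟶ Z)
    [IsSchemeTheoreticallyDominant (f ≫ g)] : IsSchemeTheoreticallyDominant g := by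
  refine ⟨le_antisymm ?_ bot_le⟩
  have h1 := f.le_ker_comp g
  rwa [(f ≫ g).ker_eq_bot] at h1

/-- cancel a monomorphism from the first leg of a pullback square. -/
theorem isPullback_of_comp_mono {C : Type*} [Category C] {P A A' B D : C} {f₁ : P ⟶ A'} {i : A' ⟶ A}
    {g : P ⟶ B} {p : A ⟶ D} {q : B ⟶ D} [Mono i] (sq : IsPullback (f₁ ≫ i) g p q) :
    IsPullback f₁ g (i ≫ p) q := by
  refine ⟨⟨by rw [← Category.assoc, sq.w]⟩, ⟨PullbackCone.IsLimit.mk _
    (fun c => sq.lift (c.fst ≫ i) c.snd (by rw [Category.assoc, c.condition]))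
    (fun c => by
      rw [← cancel_mono i, Category.assoc]
      exact sq.lift_fst _ _ _)
    (fun c => sq.lift_snd _ _ _)
    (fun c l h1 h2 => sq.hom_ext (by rw [sq.lift_fst, ← Category.assoc, h1])
      (by rw [sq.lift_snd, h2]))⟩⟩

/-- **equalisers of maps into a separated morphism are closed**: two maps from a scheme that agree on a
scheme theoretically dominant subscheme are equal. -/
theorem eq_of_isSeparatedMor {X Y : AlgSp.Sp S} (π : X ⟶ Y) (hπ : AlgSp.IsSeparatedMor π)
    {B D : Over S} (u v : (AlgSp.yon S).obj B ⟶ X) (huv : u ≫ π = v ≫ π) (d : D ⟶ B)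
    [IsSchemeTheoreticallyDominant d.left]
    (hd : (AlgSp.yon S).map d ≫ u = (AlgSp.yon S).map d ≫ v) : u = v := by
  let m : (AlgSp.yon S).obj B ⟶ pullback π π := pullback.lift u v huv
  obtain ⟨E, snd, fst, sq⟩ := hπ.1 m
  haveI : IsClosedImmersion snd.left := hπ.2 m fst snd sq
  have hw : ((AlgSp.yon S).map d ≫ u) ≫ pullback.diagonal π = (AlgSp.yon S).map d ≫ m := by
    apply pullback.hom_ext
    · simp [m]
    · simp [m, hd]
  obtain ⟨t, ht⟩ := (AlgSp.yon S).map_surjective (sq.lift _ _ hw)
  have ht2 : t ≫ snd = d := by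
    apply (AlgSp.yon S).map_injective
    rw [Functor.map_comp, ht]
    exact sq.lift_snd _ _ _
  have hker : snd.left.ker = ⊥ := by
    refine le_antisymm ?_ bot_le
    have h1 := t.left.le_ker_comp snd.left
    have h2 : t.left ≫ snd.left = d.left := by rw [← ht2]; rfl
    rw [h2, d.left.ker_eq_bot] at h1
    exact h1
  haveI : IsIso snd.left := IsClosedImmersion.isIso_iff_ker_eq_bot.2 hker
  haveI : IsIso ((Over.forget S).map snd) := inferInstanceAs (IsIso snd.left)
  haveI : IsIso snd := isIso_of_reflects_iso snd (Over.forget S)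
  have e1 : m = inv ((AlgSp.yon S).map snd) ≫ fst ≫ pullback.diagonal π := by
    rw [sq.w, IsIso.inv_hom_id_assoc]
  have hu : u = m ≫ pullback.fst π π := (pullback.lift_fst _ _ _).symm
  have hv : v = m ≫ pullback.snd π π := (pullback.lift_snd _ _ _).symm
  rw [hu, hv, e1]
  simp

/-- for a separated `π : X ⟶ Y`, the map `A ×_X B ⟶ A ×_Y B` of schemes is a closed immersion. -/
theorem isClosedImmersion_of_isSeparatedMor {X Y : AlgSp.Sp S} (π : X ⟶ Y)
    (hπ : AlgSp.IsSeparatedMor π) {A B W₀ Q : Over S} (x : (AlgSp.yon S).obj A ⟶ X)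
    (y : (AlgSp.yon S).obj B ⟶ X) {wA : W₀ ⟶ A} {wB : W₀ ⟶ B}
    (sq : IsPullback ((AlgSp.yon S).map wA) ((AlgSp.yon S).map wB) x y) {qA : Q ⟶ A} {qB : Q ⟶ B}
    (sqQ : IsPullback ((AlgSp.yon S).map qA) ((AlgSp.yon S).map qB) (x ≫ π) (y ≫ π))
    (w : W₀ ⟶ Q) (hwA : w ≫ qA = wA) (hwB : w ≫ qB = wB) : IsClosedImmersion w.left := by
  have big := pullback_map_diagonal_isPullback x y π
  have hM := MorphismProperty.of_isPullback (P := AlgSp.RepWith @IsClosedImmersion) big hπ
  refine hM.2 sqQ.isoPullback.hom sq.isoPullback.hom w (IsPullback.of_horiz_isIso ⟨?_⟩)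
  apply pullback.hom_ext
  · simp [← Functor.map_comp, hwA]
  · simp [← Functor.map_comp, hwB]

end Groth.Agent.R2.H95.SepEq
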