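import Groth.Agent.R2.H95SepEq
import Groth.Agent.R2.H43CutOut

/-!
# Descending a point of a separated algebraic space along a flat cover with a dense generic part (helper95)

`exists_section`: let `π : X ⟶ h_T` be a separated morphism from an algebraic space, `j : η ⟶ T` a flat
quasi-compact scheme theoretically dominant monomorphism, `φ : T' ⟶ T` flat surjective quasi-compact and
`j' : η' ⟶ T'` quasi-compact scheme theoretically dominant over `ψ : η' ⟶ η`.  A section of `π` over `η` that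
extends to a `T'`-point of `X` (compatibly on `η'`) extends to a section of `π`.
(The valuative situation: `T = Spec A`, `η = Spec K`, `T' = Spec A'`, `η' = Spec K'`.)
-/

set_option autoImplicit false
universe u
open CategoryTheory CategoryTheory.Limits AlgebraicGeometry Opposite
open AlgSp

set_option backward.isDefEq.respectTransparency false
set_option linter.style.haveILetI false

namespace Groth.Agent.R2.H95.ValDesc

open Groth.Agent.R2.H48.ClosedSub Groth.Agent.R2.H95.SpEpi Groth.Agent.R2.H95.SepEq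
  Groth.Agent.R2.H95.SchImage

variable {S : Scheme.{u}}

theorem exists_section {T T' η η' : Over S} (j : η ⟶ T) (φ : T' ⟶ T) (j' : η' ⟶ T') (ψ : η' ⟶ η)
    (comm : j' ≫ φ = ψ ≫ j)
    [Mono j] [Flat j.left] [QuasiCompact j.left] [IsSchemeTheoreticallyDominant j.left]
    [Flat φ.left] [Surjective φ.left] [QuasiCompact φ.left]
    [QuasiCompact j'.left] [IsSchemeTheoreticallyDominant j'.left]
    {X : AlgSp.Sp S} (hX : AlgSp.IsAlgSpace X) (π : X ⟶ (AlgSp.yon S).obj T)
    (hπ : AlgSp.IsSeparatedMor π)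
    (a' : (AlgSp.yon S).obj T' ⟶ X) (ha' : a' ≫ π = (AlgSp.yon S).map φ)
    (σK : (AlgSp.yon S).obj η ⟶ X) (hσK : σK ≫ π = (AlgSp.yon S).map j)
    (hcompat : (AlgSp.yon S).map j' ≫ a' = (AlgSp.yon S).map ψ ≫ σK) :
    ∃ σ : (AlgSp.yon S).obj T ⟶ X, (AlgSp.yon S).map j ≫ σ = σK ∧ σ ≫ π = 𝟙 _ := by
  -- (c) the generic fibre of `T'`
  have sqTK : IsPullback (pullback.fst φ j) (pullback.snd φ j) φ j := IsPullback.of_hasPullback φ j
  obtain ⟨TK, m, n, sqTK⟩ : ∃ (TK : Over S) (m : TK ⟶ T') (n : TK ⟶ η), IsPullback m n φ j :=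
    ⟨_, _, _, sqTK⟩
  let dK : η' ⟶ TK := sqTK.lift j' ψ comm
  have hdK1 : dK ≫ m = j' := sqTK.lift_fst _ _ _
  have hdK2 : dK ≫ n = ψ := sqTK.lift_snd _ _ _
  have sqTK' : IsPullback n.left m.left j.left φ.left := sqTK.flip.map (Over.forget S)
  haveI : Flat m.left := MorphismProperty.of_isPullback (P := @Flat) sqTK' inferInstance
  have sqd : IsPullback (𝟙 η') dK j' m := by
    refine ⟨⟨by rw [Category.id_comp, hdK1]⟩, ⟨PullbackCone.IsLimit.mk _ (fun c => c.fst)
      (fun c => Category.comp_id _) (fun c => ?_) (fun c l h1 _ => by rw [← h1, Category.comp_id])⟩⟩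
    apply sqTK.hom_ext
    · rw [Category.assoc, hdK1]; exact c.condition
    · have h1 : (c.fst ≫ dK) ≫ n ≫ j = c.snd ≫ n ≫ j := by
        rw [Category.assoc, ← Category.assoc dK, hdK2, ← comm, ← Category.assoc, c.condition,
          Category.assoc, sqTK.w]
      rw [← cancel_mono j, Category.assoc, Category.assoc]
      exact h1
  have sqd' : IsPullback (𝟙 η'.left) dK.left j'.left m.left := sqd.map (Over.forget S)
  haveI : IsSchemeTheoreticallyDominant dK.left := IsSchemeTheoreticallyDominant.of_isPullback sqd'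
  have hc : (AlgSp.yon S).map m ≫ a' = (AlgSp.yon S).map n ≫ σK := by
    refine eq_of_isSeparatedMor π hπ _ _ ?_ dK ?_
    · rw [Category.assoc, Category.assoc, ha', hσK, ← Functor.map_comp, ← Functor.map_comp, sqTK.w]
    · rw [← Category.assoc, ← Category.assoc, ← Functor.map_comp, ← Functor.map_comp, hdK1, hdK2,
        hcompat]
  -- (d) the chart
  obtain ⟨U, p, hpe, hps⟩ := hX.atlas
  obtain ⟨W, a, hW, sqW0⟩ := hpe.1 a'
  obtain ⟨h, rfl⟩ := (AlgSp.yon S).map_surjective hW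
  have sqW : IsPullback ((AlgSp.yon S).map h) ((AlgSp.yon S).map a) p a' := sqW0
  haveI : Etale a.left := hpe.2 a' _ a sqW
  haveI : Surjective a.left := hps.2 a' _ a sqW
  obtain ⟨πU, hπU⟩ := (AlgSp.yon S).map_surjective (p ≫ π)
  have heq0 : h ≫ πU = a ≫ φ := by
    apply (AlgSp.yon S).map_injective
    rw [Functor.map_comp, Functor.map_comp, hπU, ← ha', ← Category.assoc, ← Category.assoc, sqW.w]
  haveI : QuasiCompact h.left := by
    have sqQ0 := (IsPullback.of_hasPullback πU φ).map (AlgSp.yon S)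
    have sqQ : IsPullback ((AlgSp.yon S).map (pullback.fst πU φ))
        ((AlgSp.yon S).map (pullback.snd πU φ)) (p ≫ π) (a' ≫ π) := by
      rw [← hπU, ha']; exact sqQ0
    have hcl : IsClosedImmersion (pullback.lift h a heq0).left :=
      isClosedImmersion_of_isSeparatedMor π hπ p a' sqW sqQ (pullback.lift h a heq0)
        (pullback.lift_fst _ _ _) (pullback.lift_snd _ _ _)
    have sqQ' : IsPullback (pullback.snd πU φ).left (pullback.fst πU φ).left φ.left πU.left :=
      (IsPullback.of_hasPullback πU φ).flip.map (Over.forget S)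
    haveI : QuasiCompact (pullback.fst πU φ).left :=
      MorphismProperty.of_isPullback (P := @QuasiCompact) sqQ' inferInstance
    have e : h.left = (pullback.lift h a heq0).left ≫ (pullback.fst πU φ).left := by
      rw [← Over.comp_left, pullback.lift_fst]
    rw [e]
    infer_instance
  -- (e) the scheme theoretic image on the chart
  obtain ⟨U₁, ι₁, h₁, hh₁, hι₁, hh₁d⟩ : ∃ (U₁ : Over S) (ι₁ : U₁ ⟶ U) (h₁ : W ⟶ U₁),
      h₁ ≫ ι₁ = h ∧ Mono ι₁ ∧ IsSchemeTheoreticallyDominant h₁.left := by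
    obtain ⟨h₁, hh₁⟩ := (le_ker_iff_fac h.left.ker h).1 le_rfl
    refine ⟨ZU h.left.ker, ιU h.left.ker, h₁, hh₁, inferInstance, ?_⟩
    have e : h₁.left = h.left.toImage := by
      rw [← cancel_mono h.left.imageι, h.left.toImage_imageι]
      exact congrArg (·.left) hh₁
    rw [e]
    infer_instance
  haveI := hι₁
  haveI := hh₁d
  haveI : QuasiCompact h₁.left := by
    have : QuasiCompact (h₁.left ≫ ι₁.left) := by
      rw [← Over.comp_left, hh₁]; infer_instance
    exact QuasiCompact.of_comp h₁.left ι₁.left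
  obtain ⟨p₁, hp₁⟩ : ∃ p₁ : (AlgSp.yon S).obj U₁ ⟶ X, p₁ = (AlgSp.yon S).map ι₁ ≫ p := ⟨_, rfl⟩
  obtain ⟨π₁, hπ₁d⟩ : ∃ π₁ : U₁ ⟶ T, π₁ = ι₁ ≫ πU := ⟨_, rfl⟩
  have hπ₁ : (AlgSp.yon S).map π₁ = p₁ ≫ π := by
    rw [hπ₁d, hp₁, Functor.map_comp, hπU, Category.assoc]
  have heq : h₁ ≫ π₁ = a ≫ φ := by rw [hπ₁d, ← heq0, ← hh₁, Category.assoc]
  have sqW₁ : IsPullback ((AlgSp.yon S).map h₁) ((AlgSp.yon S).map a) p₁ a' := by
    rw [hp₁]
    refine isPullback_of_comp_mono (i := (AlgSp.yon S).map ι₁) ?_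
    rw [← Functor.map_comp, hh₁]
    exact sqW
  haveI : Flat (h₁ ≫ π₁).left := by
    rw [heq, Over.comp_left]
    infer_instance
  -- (f) generic fibres of the chart
  obtain ⟨U₁K, d₁, n₁, sqU₁K⟩ : ∃ (U₁K : Over S) (d₁ : U₁K ⟶ U₁) (n₁ : U₁K ⟶ η),
      IsPullback d₁ n₁ π₁ j := ⟨_, _, _, IsPullback.of_hasPullback π₁ j⟩
  have sqU₁K' : IsPullback n₁.left d₁.left j.left π₁.left := sqU₁K.flip.map (Over.forget S)
  haveI : Flat d₁.left := MorphismProperty.of_isPullback (P := @Flat) sqU₁K' inferInstance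
  haveI : QuasiCompact d₁.left :=
    MorphismProperty.of_isPullback (P := @QuasiCompact) sqU₁K' inferInstance
  obtain ⟨WK, fW, hK, sqWK⟩ : ∃ (WK : Over S) (fW : WK ⟶ W) (hK : WK ⟶ U₁K),
      IsPullback fW hK h₁ d₁ := ⟨_, _, _, IsPullback.of_hasPullback h₁ d₁⟩
  have sqWK' : IsPullback fW.left hK.left h₁.left d₁.left := sqWK.map (Over.forget S)
  haveI : IsSchemeTheoreticallyDominant hK.left := IsSchemeTheoreticallyDominant.of_isPullback sqWK'
  have sqWKη : IsPullback (hK ≫ n₁) fW j (h₁ ≫ π₁) := sqWK.flip.paste_horiz sqU₁K.flip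
  have sqWKη' : IsPullback (hK ≫ n₁).left fW.left j.left (h₁ ≫ π₁).left :=
    sqWKη.map (Over.forget S)
  haveI : IsSchemeTheoreticallyDominant fW.left :=
    IsSchemeTheoreticallyDominant.of_isPullback sqWKη'
  haveI : IsSchemeTheoreticallyDominant d₁.left := by
    haveI : IsSchemeTheoreticallyDominant (hK.left ≫ d₁.left) := by
      rw [← Over.comp_left, ← sqWK.w, Over.comp_left]
      infer_instance
    exact isSchemeTheoreticallyDominant_of_comp hK.left d₁.left
  -- (★) the generic fibre of the chart maps into the given section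
  have hstar : (AlgSp.yon S).map d₁ ≫ p₁ = (AlgSp.yon S).map n₁ ≫ σK := by
    refine eq_of_isSeparatedMor π hπ _ _ ?_ hK ?_
    · rw [Category.assoc, Category.assoc, ← hπ₁, hσK, ← Functor.map_comp, ← Functor.map_comp,
        sqU₁K.w]
    · have hw : (fW ≫ a) ≫ φ = (hK ≫ n₁) ≫ j := by
        rw [Category.assoc, ← heq, ← Category.assoc, sqWK.w, Category.assoc, sqU₁K.w,
          Category.assoc]
      calc (AlgSp.yon S).map hK ≫ (AlgSp.yon S).map d₁ ≫ p₁
          = (AlgSp.yon S).map (fW ≫ a) ≫ a' := by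
            rw [← Category.assoc, ← Functor.map_comp, ← sqWK.w, Functor.map_comp, Category.assoc,
              sqW₁.w, Functor.map_comp, Category.assoc]
        _ = (AlgSp.yon S).map (sqTK.lift (fW ≫ a) (hK ≫ n₁) hw) ≫ (AlgSp.yon S).map m ≫ a' := by
            rw [← Category.assoc, ← Functor.map_comp, sqTK.lift_fst]
        _ = (AlgSp.yon S).map (sqTK.lift (fW ≫ a) (hK ≫ n₁) hw) ≫ (AlgSp.yon S).map n ≫ σK := by
            rw [hc]
        _ = (AlgSp.yon S).map hK ≫ (AlgSp.yon S).map n₁ ≫ σK := by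
            rw [← Category.assoc, ← Functor.map_comp, sqTK.lift_snd, Functor.map_comp,
              Category.assoc]
  -- (5) the chart of the image is etale over `T`
  obtain ⟨W', pr₁, pr₂, sqW'⟩ : ∃ (W' : Over S) (pr₁ : W' ⟶ U₁) (pr₂ : W' ⟶ T'),
      IsPullback pr₁ pr₂ π₁ φ := ⟨_, _, _, IsPullback.of_hasPullback π₁ φ⟩
  have sqW'' : IsPullback pr₂.left pr₁.left φ.left π₁.left := sqW'.flip.map (Over.forget S)
  haveI : Flat pr₁.left := MorphismProperty.of_isPullback (P := @Flat) sqW'' inferInstance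
  obtain ⟨W'K, f', s', sqW'K⟩ : ∃ (W'K : Over S) (f' : W'K ⟶ W') (s' : W'K ⟶ U₁K),
      IsPullback f' s' pr₁ d₁ := ⟨_, _, _, IsPullback.of_hasPullback pr₁ d₁⟩
  have sqW'K' : IsPullback s'.left f'.left d₁.left pr₁.left := sqW'K.flip.map (Over.forget S)
  haveI : IsSchemeTheoreticallyDominant f'.left := IsSchemeTheoreticallyDominant.of_isPullback sqW'K'
  have h5 : (AlgSp.yon S).map pr₁ ≫ p₁ = (AlgSp.yon S).map pr₂ ≫ a' := by
    refine eq_of_isSeparatedMor π hπ _ _ ?_ f' ?_
    · rw [Category.assoc, Category.assoc, ← hπ₁, ha', ← Functor.map_comp, ← Functor.map_comp,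
        sqW'.w]
    · have hw : (f' ≫ pr₂) ≫ φ = (s' ≫ n₁) ≫ j := by
        rw [Category.assoc, ← sqW'.w, ← Category.assoc, sqW'K.w, Category.assoc, sqU₁K.w,
          Category.assoc]
      calc (AlgSp.yon S).map f' ≫ (AlgSp.yon S).map pr₁ ≫ p₁
          = (AlgSp.yon S).map s' ≫ (AlgSp.yon S).map n₁ ≫ σK := by
            rw [← Category.assoc, ← Functor.map_comp, sqW'K.w, Functor.map_comp, Category.assoc,
              hstar]
        _ = (AlgSp.yon S).map (sqTK.lift (f' ≫ pr₂) (s' ≫ n₁) hw) ≫ (AlgSp.yon S).map n ≫ σK := by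
            rw [← Category.assoc, ← Category.assoc, ← Functor.map_comp, ← Functor.map_comp,
              sqTK.lift_snd]
        _ = (AlgSp.yon S).map (sqTK.lift (f' ≫ pr₂) (s' ≫ n₁) hw) ≫ (AlgSp.yon S).map m ≫ a' := by
            rw [hc]
        _ = (AlgSp.yon S).map f' ≫ (AlgSp.yon S).map pr₂ ≫ a' := by
            rw [← Category.assoc, ← Functor.map_comp, sqTK.lift_fst, Functor.map_comp,
              Category.assoc]
  obtain ⟨w', hw'⟩ := (AlgSp.yon S).map_surjective (sqW₁.lift _ _ h5)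
  have hw'1 : w' ≫ h₁ = pr₁ := by
    apply (AlgSp.yon S).map_injective
    rw [Functor.map_comp, hw']; exact sqW₁.lift_fst _ _ _
  have hw'2 : w' ≫ a = pr₂ := by
    apply (AlgSp.yon S).map_injective
    rw [Functor.map_comp, hw']; exact sqW₁.lift_snd _ _ _
  let w : W ⟶ W' := sqW'.lift h₁ a heq
  have hw1 : w ≫ pr₁ = h₁ := sqW'.lift_fst _ _ _
  have hw2 : w ≫ pr₂ = a := sqW'.lift_snd _ _ _
  have hww' : w ≫ w' = 𝟙 W := by
    apply (AlgSp.yon S).map_injective
    apply sqW₁.hom_ext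
    · rw [← Functor.map_comp, ← Functor.map_comp, Category.assoc, hw'1, hw1, Category.id_comp]
    · rw [← Functor.map_comp, ← Functor.map_comp, Category.assoc, hw'2, hw2, Category.id_comp]
  have hw'w : w' ≫ w = 𝟙 W' := by
    apply sqW'.hom_ext
    · rw [Category.assoc, hw1, hw'1, Category.id_comp]
    · rw [Category.assoc, hw2, hw'2, Category.id_comp]
  haveI : IsIso w' := ⟨w, hw'w, hww'⟩
  haveI : IsIso w'.left := inferInstanceAs (IsIso ((Over.forget S).map w'))
  haveI : Etale pr₂.left := by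
    rw [← hw'2, Over.comp_left]
    infer_instance
  haveI : Etale π₁.left :=
    MorphismProperty.of_isPullback_of_descendsAlong (P := @Etale)
      (Q := @Surjective ⊓ @Flat ⊓ @QuasiCompact) sqW''
      ⟨⟨inferInstance, inferInstance⟩, inferInstance⟩ inferInstance
  haveI : Surjective π₁.left := by
    haveI : Surjective (h₁.left ≫ π₁.left) := by
      rw [← Over.comp_left, heq, Over.comp_left]
      infer_instance
    exact Surjective.of_comp h₁.left π₁.left
  -- (6) descend the chart map along the etale cover `U₁ ⟶ T`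
  obtain ⟨P, q₁, q₂, sqP⟩ : ∃ (P : Over S) (q₁ : P ⟶ U₁) (q₂ : P ⟶ U₁),
      IsPullback q₁ q₂ π₁ π₁ := ⟨_, _, _, IsPullback.of_hasPullback π₁ π₁⟩
  have sqP1 : IsPullback q₂.left q₁.left π₁.left π₁.left := sqP.flip.map (Over.forget S)
  have sqP2 : IsPullback q₁.left q₂.left π₁.left π₁.left := sqP.map (Over.forget S)
  haveI : Flat q₁.left := MorphismProperty.of_isPullback (P := @Flat) sqP1 inferInstance
  haveI : Flat q₂.left := MorphismProperty.of_isPullback (P := @Flat) sqP2 inferInstance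
  obtain ⟨D₁, f₁, s₁, sqD₁⟩ : ∃ (D₁ : Over S) (f₁ : D₁ ⟶ P) (s₁ : D₁ ⟶ U₁K),
      IsPullback f₁ s₁ q₁ d₁ := ⟨_, _, _, IsPullback.of_hasPullback q₁ d₁⟩
  have sqD₁' : IsPullback s₁.left f₁.left d₁.left q₁.left := sqD₁.flip.map (Over.forget S)
  haveI : IsSchemeTheoreticallyDominant f₁.left := IsSchemeTheoreticallyDominant.of_isPullback sqD₁'
  haveI : Flat f₁.left := MorphismProperty.of_isPullback (P := @Flat) sqD₁' inferInstance
  obtain ⟨D₂, f₂, s₂, sqD₂⟩ : ∃ (D₂ : Over S) (f₂ : D₂ ⟶ D₁) (s₂ : D₂ ⟶ U₁K),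
      IsPullback f₂ s₂ (f₁ ≫ q₂) d₁ := ⟨_, _, _, IsPullback.of_hasPullback (f₁ ≫ q₂) d₁⟩
  have sqD₂' : IsPullback s₂.left f₂.left d₁.left (f₁.left ≫ q₂.left) :=
    sqD₂.flip.map (Over.forget S)
  haveI : IsSchemeTheoreticallyDominant f₂.left := IsSchemeTheoreticallyDominant.of_isPullback sqD₂'
  haveI : IsSchemeTheoreticallyDominant (f₂ ≫ f₁).left := by
    rw [Over.comp_left]; infer_instance
  have h6 : (AlgSp.yon S).map q₁ ≫ p₁ = (AlgSp.yon S).map q₂ ≫ p₁ := by
    refine eq_of_isSeparatedMor π hπ _ _ ?_ (f₂ ≫ f₁) ?_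
    · rw [Category.assoc, Category.assoc, ← hπ₁, ← Functor.map_comp, ← Functor.map_comp, sqP.w]
    · have hn : f₂ ≫ s₁ ≫ n₁ = s₂ ≫ n₁ := by
        rw [← cancel_mono j, Category.assoc, Category.assoc, Category.assoc, ← sqU₁K.w,
          ← Category.assoc s₁, ← sqD₁.w, Category.assoc, sqP.w, ← Category.assoc f₁,
          ← Category.assoc f₂, sqD₂.w, Category.assoc, sqU₁K.w]
      calc (AlgSp.yon S).map (f₂ ≫ f₁) ≫ (AlgSp.yon S).map q₁ ≫ p₁
          = (AlgSp.yon S).map (f₂ ≫ s₁) ≫ (AlgSp.yon S).map d₁ ≫ p₁ := by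
            rw [← Category.assoc, ← Category.assoc, ← Functor.map_comp, ← Functor.map_comp,
              Category.assoc, sqD₁.w, Category.assoc]
        _ = (AlgSp.yon S).map (f₂ ≫ s₁ ≫ n₁) ≫ σK := by
            rw [hstar, ← Category.assoc, ← Functor.map_comp, Category.assoc]
        _ = (AlgSp.yon S).map s₂ ≫ (AlgSp.yon S).map d₁ ≫ p₁ := by
            rw [hn, hstar, Functor.map_comp, Category.assoc]
        _ = (AlgSp.yon S).map (f₂ ≫ f₁) ≫ (AlgSp.yon S).map q₂ ≫ p₁ := by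
            rw [← Category.assoc, ← Category.assoc, ← Functor.map_comp, ← Functor.map_comp,
              ← sqD₂.w, Category.assoc]
  have hπ₁e : AlgSp.RepWith @Etale ((AlgSp.yon S).map π₁) :=
    (AlgSp.repWith_yon_map_iff @Etale π₁).2 inferInstance
  have hπ₁s : AlgSp.RepWith @Surjective ((AlgSp.yon S).map π₁) :=
    (AlgSp.repWith_yon_map_iff @Surjective π₁).2 inferInstance
  have hepi : Epi ((AlgSp.yon S).map π₁) :=
    Groth.Agent.R2.H43.CutOut.epi_of_repWith_etale_surjective _ hπ₁e hπ₁s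
  have sqPy := sqP.map (AlgSp.yon S)
  obtain ⟨σ, hσ⟩ := Groth.Agent.Lib.Helper9.ToposLike.exists_desc_of_epi
    ((AlgSp.yon S).map π₁) hepi p₁ (by
      intro V a₁ a₂ ha
      have e1 : a₁ = sqPy.lift a₁ a₂ ha ≫ (AlgSp.yon S).map q₁ := (sqPy.lift_fst _ _ _).symm
      have e2 : a₂ = sqPy.lift a₁ a₂ ha ≫ (AlgSp.yon S).map q₂ := (sqPy.lift_snd _ _ _).symm
      rw [e1, Category.assoc, h6, ← Category.assoc, ← e2])
  refine ⟨σ, ?_, ?_⟩
  · -- (8)
    have sqn := sqU₁K.flip.map (AlgSp.yon S)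
    haveI : Epi ((AlgSp.yon S).map n₁) := epi_of_isPullback sqn
    rw [← cancel_epi ((AlgSp.yon S).map n₁), ← hstar, ← Category.assoc, ← Functor.map_comp, ← sqU₁K.w,
      Functor.map_comp, Category.assoc, hσ]
  · -- (7)
    rw [← cancel_epi ((AlgSp.yon S).map π₁), ← Category.assoc, hσ, ← hπ₁, Category.comp_id]

end Groth.Agent.R2.H95.ValDesc
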