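import Mathlib

/-!
# Gluing a point over a valuation ring with a point over a subfield (helper95)

For a valuation ring `A'` with fraction field `K'` and a subfield `ι : K₁ → K'`, the intersection
`A₁ = A' ∩ K₁` is a valuation subring of `K₁`.  `exists_lift_capSubring`: for a scheme `U`, an `A'`-point and a
`K₁`-point of `U` that agree on `K'` come from a unique `A₁`-point.
-/

set_option autoImplicit false
set_option linter.style.haveILetI false
universe u
open CategoryTheory CategoryTheory.Limits AlgebraicGeometry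

namespace Groth.Agent.R2.H95.ValGlue

section ring

variable (A' : Type u) {K' K₁ : Type u} [CommRing A'] [IsDomain A'] [ValuationRing A'] [Field K']
  [Algebra A' K'] [IsFractionRing A' K'] [Field K₁] (ι : K₁ →+* K')

/-- the valuation subring `A' ∩ K₁` of `K₁`. -/
noncomputable def capSubring : ValuationSubring K₁ :=
  ((ValuationRing.valuation A' K').valuationSubring).comap ι

variable {A'}

theorem mem_capSubring_iff (x : K₁) : x ∈ capSubring A' ι ↔ ∃ a : A', algebraMap A' K' a = ι x := by
  rw [capSubring, ValuationSubring.mem_comap, Valuation.mem_valuationSubring_iff,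
    ← Valuation.mem_integer_iff, ValuationRing.mem_integer_iff]

/-- a preimage in `A'` of an element of `A' ∩ K₁`. -/
noncomputable def pre (x : capSubring A' ι) : A' := Classical.choose ((mem_capSubring_iff ι x.1).1 x.2)

theorem algebraMap_pre (x : capSubring A' ι) : algebraMap A' K' (pre ι x) = ι x.1 :=
  Classical.choose_spec ((mem_capSubring_iff ι x.1).1 x.2)

/-- the inclusion `A' ∩ K₁ → A'`. -/
noncomputable def capToRing : capSubring A' ι →+* A' where
  toFun := pre ι
  map_one' := IsFractionRing.injective A' K' (by rw [algebraMap_pre]; simp)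
  map_zero' := IsFractionRing.injective A' K' (by rw [algebraMap_pre]; simp)
  map_mul' x y := IsFractionRing.injective A' K' (by
    rw [map_mul, algebraMap_pre, algebraMap_pre, algebraMap_pre]; simp)
  map_add' x y := IsFractionRing.injective A' K' (by
    rw [map_add, algebraMap_pre, algebraMap_pre, algebraMap_pre]; simp)

theorem algebraMap_capToRing (x : capSubring A' ι) :
    algebraMap A' K' (capToRing ι x) = ι x.1 := algebraMap_pre ι x

theorem capToRing_injective : Function.Injective (capToRing (A' := A') ι) := by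
  intro x y hxy
  apply Subtype.ext
  apply ι.injective
  rw [← algebraMap_capToRing, ← algebraMap_capToRing, hxy]

instance isLocalHom_capToRing : IsLocalHom (capToRing (A' := A') ι) := by
  refine ⟨fun x hx => ?_⟩
  obtain ⟨u, hu⟩ := hx
  have hx0 : x.1 ≠ 0 := by
    intro h0
    have h1 : algebraMap A' K' (capToRing ι x) = 0 := by rw [algebraMap_capToRing, h0, map_zero]
    rw [← hu] at h1
    have h2 : (u : A') = 0 := IsFractionRing.injective A' K' (by rw [h1, map_zero])
    exact u.ne_zero h2
  have hinv : x.1⁻¹ ∈ capSubring A' ι := by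
    refine (mem_capSubring_iff ι _).2 ⟨(u⁻¹ : A'ˣ), ?_⟩
    rw [map_inv₀, ← algebraMap_capToRing, ← hu]
    have h3 : algebraMap A' K' (u : A') * algebraMap A' K' ((u⁻¹ : A'ˣ) : A') = 1 := by
      rw [← map_mul, Units.mul_inv, map_one]
    exact eq_inv_of_mul_eq_one_right h3
  refine ⟨⟨x, ⟨x.1⁻¹, hinv⟩, ?_, ?_⟩, rfl⟩
  · apply Subtype.ext
    change x.1 * x.1⁻¹ = 1
    exact mul_inv_cancel₀ hx0
  · apply Subtype.ext
    change x.1⁻¹ * x.1 = 1
    exact inv_mul_cancel₀ hx0

end ring

section scheme

variable {A' K' K₁ : Type u} [CommRing A'] [IsDomain A'] [ValuationRing A'] [Field K']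
  [Algebra A' K'] [IsFractionRing A' K'] [Field K₁] (ι : K₁ →+* K')

/-- **an `A'`-point and a `K₁`-point of a scheme agreeing over `K'` glue to an `A' ∩ K₁`-point.** -/
theorem exists_lift_capSubring {U : Scheme.{u}} (g : Spec (.of A') ⟶ U) (κ₁ : Spec (.of K₁) ⟶ U)
    (hcompat : Spec.map (CommRingCat.ofHom ι) ≫ κ₁ =
      Spec.map (CommRingCat.ofHom (algebraMap A' K')) ≫ g) :
    ∃ g₁ : Spec (.of (capSubring A' ι)) ⟶ U,
      Spec.map (CommRingCat.ofHom (algebraMap (capSubring A' ι) K₁)) ≫ g₁ = κ₁ ∧
      Spec.map (CommRingCat.ofHom (capToRing ι)) ≫ g₁ = g := by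
  obtain ⟨_, ⟨(V : U.Opens), hV : IsAffineOpen V, rfl⟩, hu'V, -⟩ :=
    U.isBasis_affineOpens.exists_subset_of_mem_open
      (Set.mem_univ (g (IsLocalRing.closedPoint A'))) isOpen_univ
  have hrg : Set.range g ⊆ Set.range V.ι := by
    rw [Scheme.Opens.range_ι]
    rintro _ ⟨s, rfl⟩
    exact ((IsLocalRing.specializes_closedPoint s).map g.continuous).mem_open V.isOpen hu'V
  have hrκ : Set.range κ₁ ⊆ Set.range V.ι := by
    rintro _ ⟨s, rfl⟩
    obtain ⟨s₀⟩ : Nonempty (Spec (.of K')) := inferInstance
    have hs : s = Spec.map (CommRingCat.ofHom ι) s₀ := Subsingleton.elim _ _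
    rw [hs, ← Scheme.Hom.comp_apply, hcompat, Scheme.Hom.comp_apply]
    exact hrg ⟨_, rfl⟩
  let gV := IsOpenImmersion.lift V.ι g hrg
  let κV := IsOpenImmersion.lift V.ι κ₁ hrκ
  have hgV : gV ≫ V.ι = g := IsOpenImmersion.lift_fac _ _ _
  have hκV : κV ≫ V.ι = κ₁ := IsOpenImmersion.lift_fac _ _ _
  let e := hV.isoSpec
  let α' : Γ(U, V) ⟶ .of A' := Spec.preimage (gV ≫ e.hom)
  let β : Γ(U, V) ⟶ .of K₁ := Spec.preimage (κV ≫ e.hom)
  have hα' : Spec.map α' = gV ≫ e.hom := Spec.map_preimage _
  have hβ : Spec.map β = κV ≫ e.hom := Spec.map_preimage _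
  have hVc : Spec.map (CommRingCat.ofHom ι) ≫ κV =
      Spec.map (CommRingCat.ofHom (algebraMap A' K')) ≫ gV := by
    rw [← cancel_mono V.ι, Category.assoc, Category.assoc, hgV, hκV, hcompat]
  have hc : α' ≫ CommRingCat.ofHom (algebraMap A' K') = β ≫ CommRingCat.ofHom ι := by
    apply Spec.map_injective
    rw [Spec.map_comp, Spec.map_comp, hα', hβ, ← Category.assoc, ← Category.assoc, hVc]
  have hc' : ∀ b, algebraMap A' K' (α'.hom b) = ι (β.hom b) := fun b =>
    congrArg (fun f : Γ(U, V) ⟶ CommRingCat.of K' => f.hom b) hc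
  let α₁ : Γ(U, V) →+* capSubring A' ι :=
    β.hom.codRestrict (capSubring A' ι).toSubring
      (fun b => (mem_capSubring_iff ι _).2 ⟨α'.hom b, hc' b⟩)
  have h1 : CommRingCat.ofHom α₁ ≫ CommRingCat.ofHom (algebraMap (capSubring A' ι) K₁) = β := by
    ext b
    rfl
  have h2 : CommRingCat.ofHom α₁ ≫ CommRingCat.ofHom (capToRing ι) = α' := by
    ext b
    apply IsFractionRing.injective A' K'
    change algebraMap A' K' (capToRing ι (α₁ b)) = _
    rw [algebraMap_capToRing, hc']
    rfl
  refine ⟨Spec.map (CommRingCat.ofHom α₁) ≫ e.inv ≫ V.ι, ?_, ?_⟩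
  · rw [← Category.assoc, ← Spec.map_comp, h1, hβ, Category.assoc, e.hom_inv_id_assoc, hκV]
  · rw [← Category.assoc, ← Spec.map_comp, h2, hα', Category.assoc, e.hom_inv_id_assoc, hgV]

end scheme

section residue

set_option backward.isDefEq.respectTransparency.types false in
theorem finite_residueField {X Y : Scheme.{u}} (f : X ⟶ Y) [FormallyUnramified f] [LocallyOfFiniteType f] (x : X) :
    letI : Algebra (Y.residueField (f.base x)) (X.residueField x) :=
      (f.residueFieldMap x).hom.toAlgebra
    Module.Finite (Y.residueField (f.base x)) (X.residueField x) := by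
  algebraize [(f.stalkMap x).hom]
  have : IsLocalHom (algebraMap (Y.presheaf.stalk (f x)) (X.presheaf.stalk x)) :=
    inferInstanceAs <| IsLocalHom (f.stalkMap x).hom
  have : Algebra.EssFiniteType (Y.presheaf.stalk (f x)) (X.presheaf.stalk x) := by
    rw [← RingHom.essFiniteType_algebraMap, RingHom.algebraMap_toAlgebra]
    exact LocallyOfFiniteType.stalkMap f x
  have : Algebra.FormallyUnramified (Y.presheaf.stalk (f x)) (X.presheaf.stalk x) := by
    rw [← RingHom.formallyUnramified_algebraMap, RingHom.algebraMap_toAlgebra]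
    exact FormallyUnramified.stalkMap f x
  have h : Module.Finite
      (IsLocalRing.ResidueField <| Y.presheaf.stalk (f x))
      (IsLocalRing.ResidueField <| X.presheaf.stalk x) := inferInstance
  letI : Algebra (Y.residueField (f.base x)) (X.residueField x) :=
      (f.residueFieldMap x).hom.toAlgebra
  refine @Module.Finite.of_equiv_equiv
    (IsLocalRing.ResidueField <| Y.presheaf.stalk (f x))
    (IsLocalRing.ResidueField <| X.presheaf.stalk x) (Y.residueField (f.base x)) (X.residueField x)
    _ _ _ _ _ _ (RingEquiv.refl _) (RingEquiv.refl _) ?_ h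
  ext a
  obtain ⟨a, rfl⟩ := IsLocalRing.residue_surjective a
  rfl

theorem exists_residueField_finite_separable {K : Type u} [Field K] {E : Scheme.{u}}
    (q : E ⟶ Spec (.of K)) [Etale q] (z : E) :
    ∃ ψ₁ : K →+* E.residueField z,
      Spec.map (CommRingCat.ofHom ψ₁) = E.fromSpecResidueField z ≫ q ∧
      (letI := ψ₁.toAlgebra
       Module.Finite K (E.residueField z) ∧ Algebra.IsSeparable K (E.residueField z)) := by
  let y := q z
  -- the canonical identification `K ≃ κ(y)`
  let θ : CommRingCat.of K ⟶ (Spec (.of K)).residueField y :=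
    CommRingCat.ofHom (algebraMap K y.asIdeal.ResidueField) ≫ (Scheme.Spec.residueFieldIso _ y).inv
  have hθ : Spec.map θ = (Spec (.of K)).fromSpecResidueField y := by
    rw [Spec.map_comp]
    exact Scheme.Spec.map_residueFieldIso_inv_eq_fromSpecResidueField _ y
  have hθb : Function.Bijective θ.hom := by
    haveI : y.asIdeal.IsMaximal := by
      have : y.asIdeal = ⊥ := Ideal.eq_bot_of_prime _
      rw [this]
      exact Ideal.bot_isMaximal
    have h1 : Function.Surjective (algebraMap K y.asIdeal.ResidueField) :=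
      Ideal.algebraMap_residueField_surjective _
    refine ⟨θ.hom.injective, ?_⟩
    intro b
    obtain ⟨a, ha⟩ := h1 ((Scheme.Spec.residueFieldIso _ y).hom.hom b)
    refine ⟨a, ?_⟩
    change (Scheme.Spec.residueFieldIso _ y).inv.hom (algebraMap K _ a) = b
    rw [ha]
    exact congrArg (fun f : (Spec (.of K)).residueField y ⟶ (Spec (.of K)).residueField y => f.hom b)
      (Scheme.Spec.residueFieldIso _ y).hom_inv_id
  let ψ₁ : K →+* E.residueField z := (θ ≫ q.residueFieldMap z).hom
  have hψ₁ : Spec.map (CommRingCat.ofHom ψ₁) = E.fromSpecResidueField z ≫ q := by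
    change Spec.map (θ ≫ q.residueFieldMap z) = _
    rw [Spec.map_comp, hθ]
    exact Scheme.Hom.SpecMap_residueFieldMap_fromSpecResidueField q z
  refine ⟨ψ₁, hψ₁, ?_⟩
  letI : Algebra ((Spec (.of K)).residueField (q z)) (E.residueField z) :=
    (q.residueFieldMap z).hom.toAlgebra
  haveI h1 : Module.Finite ((Spec (.of K)).residueField (q z)) (E.residueField z) :=
    finite_residueField q z
  haveI h2 : Algebra.IsSeparable ((Spec (.of K)).residueField (q z)) (E.residueField z) :=
    inferInstance
  letI := ψ₁.toAlgebra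
  let e₁ : (Spec (.of K)).residueField (q z) ≃+* K := (RingEquiv.ofBijective θ.hom hθb).symm
  have he : RingHom.comp (algebraMap K (E.residueField z)) (e₁ : _ →+* K) =
      RingHom.comp ((RingEquiv.refl (E.residueField z) : _ →+* _))
        (algebraMap ((Spec (.of K)).residueField (q z)) (E.residueField z)) := by
    ext b
    obtain ⟨a, rfl⟩ := hθb.2 b
    have : e₁ (θ.hom a) = a := (RingEquiv.ofBijective θ.hom hθb).symm_apply_apply a
    simp only [RingHom.coe_comp, RingHom.coe_coe, Function.comp_apply, this]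
    rfl
  exact ⟨Module.Finite.of_equiv_equiv e₁ (RingEquiv.refl _) he,
    Algebra.IsSeparable.of_equiv_equiv e₁ (RingEquiv.refl _) he⟩

end residue

end Groth.Agent.R2.H95.ValGlue
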