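import Mathlib
import Groth.Prelude.Def_W4c6modpairsegaMP
import Groth.Agent.Lib.Helper20EffCartier

/-!
# Testing moduli (effective Cartier ideal sheaves) on valuation rings (helper95)
-/

set_option autoImplicit false
universe u

namespace Groth.Agent.R2.H95.ValModulus

section Algebra

/-- In a valuation domain, the largest prime ideal avoiding a given nonzero element. -/
theorem exists_largest_prime_notMem {V : Type*} [CommRing V] [IsDomain V] [ValuationRing V]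
    (c : V) (hc : c ≠ 0) :
    ∃ P : Ideal V, P.IsPrime ∧ c ∉ P ∧ ∀ 𝔯 : Ideal V, 𝔯.IsPrime → c ∉ 𝔯 → 𝔯 ≤ P := by
  set S : Submonoid V := Submonoid.powers c with hS
  have hdisj : Disjoint ((⊥ : Ideal V) : Set V) S := by
    rw [Set.disjoint_left]
    rintro x hx ⟨n, rfl⟩
    exact pow_ne_zero n hc (by simpa using hx)
  obtain ⟨P, -, hP⟩ := zorn_le_nonempty₀ {p : Ideal V | Disjoint (p : Set V) S}
    (fun c' hc' hchain x hx ↦ by
      cases isEmpty_or_nonempty c'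
      · exact ⟨x, hc' hx, fun J hJ ↦ isEmptyElim (⟨J, hJ⟩ : c')⟩
      refine ⟨sSup c', Set.disjoint_left.mpr fun y hy ↦ ?_, fun _ ↦ le_sSup⟩
      obtain ⟨p, hp⟩ := (Submodule.mem_iSup_of_directed _ hchain.directed).mp (sSup_eq_iSup' c' ▸ hy)
      exact Set.disjoint_left.mp (hc' p.2) hp) ⊥ hdisj
  have hPprime : P.IsPrime :=
    Ideal.isPrime_of_maximally_disjoint _ _ hP.1 (fun _ ↦ hP.not_prop_of_gt)
  refine ⟨P, hPprime, ?_, ?_⟩
  · intro hcP
    exact Set.disjoint_left.mp hP.1 hcP ⟨1, pow_one c⟩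
  · intro 𝔯 h𝔯 hc𝔯
    have h𝔯S : 𝔯 ∈ {p : Ideal V | Disjoint (p : Set V) S} := by
      change Disjoint (𝔯 : Set V) S
      rw [Set.disjoint_left]
      rintro x hx ⟨n, rfl⟩
      exact hc𝔯 (h𝔯.mem_of_pow_mem n hx)
    rcases Std.Total.total (r := (· ≤ · : Ideal V → Ideal V → Prop)) 𝔯 P with h | h
    · exact h
    · exact hP.le_of_ge h𝔯S h

/-- Passing from a valuation domain `V` to its quotient by the largest prime avoiding `φ₀ f`. -/
theorem exists_quotient_test {A : Type*} [CommRing A] {V : Type u} [CommRing V] [IsDomain V]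
    [ValuationRing V] (φ₀ : A →+* V) (f : A) (p : Ideal A) (hφ₀f : φ₀ f ≠ 0)
    (hφ₀p : ∀ x ∈ p, φ₀ x ∈ IsLocalRing.maximalIdeal V) :
    ∃ (R : Type u) (_ : CommRing R) (_ : IsDomain R) (_ : ValuationRing R) (φ : A →+* R),
      φ f ≠ 0 ∧ (∀ x ∈ p, ¬ IsUnit (φ x)) ∧ ∀ 𝔯 : Ideal R, 𝔯.IsPrime → 𝔯 ≠ ⊥ → φ f ∈ 𝔯 := by
  obtain ⟨P, hPprime, hfP, hPmax⟩ := exists_largest_prime_notMem (φ₀ f) hφ₀f
  have hPle : P ≤ IsLocalRing.maximalIdeal V := IsLocalRing.le_maximalIdeal hPprime.ne_top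
  refine ⟨V ⧸ P, inferInstance, Ideal.Quotient.isDomain P,
    Function.Surjective.valuationRing (Ideal.Quotient.mk P) Ideal.Quotient.mk_surjective,
    (Ideal.Quotient.mk P).comp φ₀, ?_, ?_, ?_⟩
  · intro h0
    exact hfP (Ideal.Quotient.eq_zero_iff_mem.mp h0)
  · intro x hx hu
    obtain ⟨y, hy⟩ := hu.exists_right_inv
    obtain ⟨y', rfl⟩ := Ideal.Quotient.mk_surjective y
    have h1 : φ₀ x * y' - 1 ∈ P := by
      rw [← Ideal.Quotient.eq_zero_iff_mem, map_sub, map_mul, map_one, sub_eq_zero]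
      exact hy
    have h2 : φ₀ x * y' ∈ IsLocalRing.maximalIdeal V :=
      Ideal.mul_mem_right _ _ (hφ₀p x hx)
    have h3 : (1 : V) ∈ IsLocalRing.maximalIdeal V := by
      have := Ideal.sub_mem _ h2 (hPle h1)
      simpa using this
    exact (Ideal.IsPrime.ne_top inferInstance) ((Ideal.eq_top_iff_one _).mpr h3)
  · intro 𝔯 h𝔯 hne
    by_contra hcon
    have hcomap : (𝔯.comap (Ideal.Quotient.mk P)).IsPrime := Ideal.comap_isPrime _ _
    have h1 : 𝔯.comap (Ideal.Quotient.mk P) ≤ P := hPmax _ hcomap (fun h => hcon h)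
    apply hne
    rw [eq_bot_iff, ← Ideal.map_comap_of_surjective _ Ideal.Quotient.mk_surjective 𝔯]
    refine (Ideal.map_mono h1).trans ?_
    rw [Ideal.map_quotient_self]

/-- The test valuation ring: for a prime `p` of `A` and `f`, `a` with `f * a` a nonzerodivisor there
is a valuation domain `R` and `φ : A →+* R` with `φ f ≠ 0`, `φ` mapping `p` into the nonunits, and such
that every nonzero prime of `R` contains `φ f`. -/
theorem exists_valuationRing_test {A : Type u} [CommRing A] (p : Ideal A) [p.IsPrime] (f a : A)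
    (hfa : f * a ∈ nonZeroDivisors A) :
    ∃ (R : Type u) (_ : CommRing R) (_ : IsDomain R) (_ : ValuationRing R) (φ : A →+* R),
      φ f ≠ 0 ∧ (∀ x ∈ p, ¬ IsUnit (φ x)) ∧ ∀ 𝔯 : Ideal R, 𝔯.IsPrime → 𝔯 ≠ ⊥ → φ f ∈ 𝔯 := by
  obtain ⟨q, hq, hqp⟩ := Ideal.exists_minimalPrimes_le (I := ⊥) (J := p) bot_le
  have hqprime : q.IsPrime := hq.1.1
  have hfaq : f * a ∉ q := fun h =>
    Set.disjoint_left.mp (Ideal.disjoint_nonZeroDivisors_of_mem_minimalPrimes hq) h hfa
  have hfq : f ∉ q := fun h => hfaq (q.mul_mem_right a h)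
  let K := FractionRing (A ⧸ q)
  let ψ : A →+* K := (algebraMap (A ⧸ q) K).comp (Ideal.Quotient.mk q)
  have hψker : ∀ x, ψ x = 0 ↔ x ∈ q := by
    intro x
    change algebraMap (A ⧸ q) K (Ideal.Quotient.mk q x) = 0 ↔ _
    rw [IsFractionRing.to_map_eq_zero_iff, Ideal.Quotient.eq_zero_iff_mem]
  have hI : Ideal.map ψ.rangeRestrict p ≠ ⊤ := by
    intro htop
    have h1 : (1 : ψ.range) ∈ Ideal.map ψ.rangeRestrict p := htop ▸ Submodule.mem_top
    rw [Ideal.mem_map_iff_of_surjective _ ψ.rangeRestrict_surjective] at h1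
    obtain ⟨x, hxp, hx1⟩ := h1
    have hx1' : ψ x = 1 := congrArg Subtype.val hx1
    have hx2 : ψ (x - 1) = 0 := by rw [map_sub, hx1', map_one, sub_self]
    have hx3 : x - 1 ∈ p := hqp ((hψker _).mp hx2)
    have hx4 : (1 : A) ∈ p := by
      have := p.sub_mem hxp hx3
      simpa using this
    exact (Ideal.IsPrime.ne_top inferInstance) ((Ideal.eq_top_iff_one p).mpr hx4)
  obtain ⟨B, hAB, hB⟩ :=
    Ideal.image_subset_nonunits_valuationSubring (Ideal.map ψ.rangeRestrict p) hI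
  let φ₀ : A →+* B := ψ.codRestrict B.toSubring (fun x => hAB ⟨x, rfl⟩)
  have hφ₀f : φ₀ f ≠ 0 := by
    intro h0
    have : ψ f = 0 := congrArg Subtype.val h0
    exact hfq ((hψker f).mp this)
  have hφ₀p : ∀ x ∈ p, φ₀ x ∈ IsLocalRing.maximalIdeal B := by
    intro x hx
    have h1 : ψ x ∈ B.nonunits :=
      hB ⟨ψ.rangeRestrict x, Ideal.mem_map_of_mem _ hx, rfl⟩
    exact ValuationSubring.coe_mem_nonunits_iff.mp h1
  exact exists_quotient_test φ₀ f p hφ₀f hφ₀p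

end Algebra

section Scheme

open CategoryTheory AlgebraicGeometry TopologicalSpace
open Groth.Agent.Lib.Helper20

theorem le_preimage_testMap {X : Scheme.{u}} {U : X.Opens} (hU : IsAffineOpen U)
    {R : CommRingCat.{u}} (φ : Γ(X, U) ⟶ R) :
    (⊤ : (Spec R).Opens) ≤ (Spec.map φ ≫ hU.fromSpec) ⁻¹ᵁ U := by
  rw [Scheme.Hom.comp_preimage, hU.fromSpec_preimage_self]
  exact le_of_eq rfl

theorem appLE_testMap {X : Scheme.{u}} {U : X.Opens} (hU : IsAffineOpen U) {R : CommRingCat.{u}}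
    (φ : Γ(X, U) ⟶ R) :
    (Spec.map φ ≫ hU.fromSpec).appLE U ⊤ (le_preimage_testMap hU φ) =
      φ ≫ (Scheme.ΓSpecIso R).inv := by
  apply Spec.map_injective
  rw [← cancel_mono hU.fromSpec,
    IsAffineOpen.SpecMap_appLE_fromSpec _ hU (isAffineOpen_top _) (le_preimage_testMap hU φ),
    IsAffineOpen.fromSpec_top, Scheme.isoSpec_Spec_inv, Spec.map_comp, Category.assoc]

/-- The pullback of an ideal sheaf along a test map `Spec R ⟶ U ⊆ X`. -/
theorem ideal_comap_testMap {X : Scheme.{u}} (I : X.IdealSheafData) {U : X.Opens}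
    (hU : IsAffineOpen U) {R : CommRingCat.{u}} (φ : Γ(X, U) ⟶ R) :
    (I.comap (Spec.map φ ≫ hU.fromSpec)).ideal ⟨⊤, isAffineOpen_top _⟩ =
      (I.ideal ⟨U, hU⟩).map (φ ≫ (Scheme.ΓSpecIso R).inv).hom := by
  rw [EffCartier.ideal_comap_eq_map _ I (isAffineOpen_top _) hU (le_preimage_testMap hU φ),
    appLE_testMap]

theorem ideal_comap_testMap_span {X : Scheme.{u}} (I : X.IdealSheafData) {U : X.Opens}
    (hU : IsAffineOpen U) {R : CommRingCat.{u}} (φ : Γ(X, U) ⟶ R) (f : Γ(X, U))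
    (hf : I.ideal ⟨U, hU⟩ = Ideal.span {f}) :
    (I.comap (Spec.map φ ≫ hU.fromSpec)).ideal ⟨⊤, isAffineOpen_top _⟩ =
      Ideal.span {(Scheme.ΓSpecIso R).inv.hom (φ.hom f)} := by
  rw [ideal_comap_testMap, hf, Ideal.map_span, Set.image_singleton]
  rfl

section Principal

variable {R : CommRingCat.{u}} (K : (Spec R).IdealSheafData) (c : R)
  (hK : K.ideal ⟨⊤, isAffineOpen_top _⟩ = Ideal.span {(Scheme.ΓSpecIso R).inv.hom c})

include hK in
theorem isEffCartierIdeal_of_principal [IsDomain R] (hc : c ≠ 0) : BlowUp.IsEffCartierIdeal K := by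
  intro y
  refine ⟨⟨⊤, isAffineOpen_top _⟩, trivial, (Scheme.ΓSpecIso R).inv.hom c, ?_, hK⟩
  rw [mem_nonZeroDivisors_iff_right]
  intro z hz
  have h1 := congrArg (Scheme.ΓSpecIso R).hom.hom hz
  rw [map_mul, map_zero] at h1
  have h2 : (Scheme.ΓSpecIso R).hom.hom ((Scheme.ΓSpecIso R).inv.hom c) = c :=
    Iso.inv_hom_id_apply (Scheme.ΓSpecIso R) c
  rw [h2] at h1
  have h3 : (Scheme.ΓSpecIso R).hom.hom z = 0 := (mul_eq_zero.mp h1).resolve_right hc
  have h4 := congrArg (Scheme.ΓSpecIso R).inv.hom h3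
  rw [map_zero] at h4
  rw [← h4]
  exact (Iso.hom_inv_id_apply (Scheme.ΓSpecIso R) z).symm

include hK in
theorem isUnit_of_principal_eq_top (htop : K = ⊤) : IsUnit c := by
  have h1 : K.ideal ⟨⊤, isAffineOpen_top _⟩ = ⊤ := by rw [htop]; rfl
  rw [hK, Ideal.span_singleton_eq_top] at h1
  have h2 := h1.map (Scheme.ΓSpecIso R).hom.hom
  have h3 : (Scheme.ΓSpecIso R).hom.hom ((Scheme.ΓSpecIso R).inv.hom c) = c :=
    Iso.inv_hom_id_apply (Scheme.ΓSpecIso R) c
  rwa [h3] at h2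

include hK in
theorem mem_support_iff_of_principal (y : Spec R) :
    y ∈ K.support ↔ c ∈ (y : PrimeSpectrum R).asIdeal := by
  rw [Scheme.IdealSheafData.mem_support_iff_of_mem (U := ⟨⊤, isAffineOpen_top _⟩) trivial, hK,
    Scheme.zeroLocus_span, Scheme.zeroLocus_singleton, basicOpen_eq_of_affine]
  change ¬ (c ∉ (y : PrimeSpectrum R).asIdeal) ↔ _
  exact not_not

end Principal

theorem mem_support_iff_mem_primeIdealOf {X : Scheme.{u}} (I : X.IdealSheafData) {U : X.Opens}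
    (hU : IsAffineOpen U) (f : Γ(X, U)) (hf : I.ideal ⟨U, hU⟩ = Ideal.span {f}) (x : X)
    (hxU : x ∈ U) :
    x ∈ I.support ↔ f ∈ (hU.primeIdealOf ⟨x, hxU⟩).asIdeal := by
  have h1 := ideal_comap_testMap_span I hU (𝟙 _) f hf
  rw [Spec.map_id, Category.id_comp] at h1
  have h2 := mem_support_iff_of_principal _ f h1 (hU.primeIdealOf ⟨x, hxU⟩)
  rw [Scheme.IdealSheafData.support_comap] at h2
  rw [← h2]
  change _ ↔ hU.fromSpec (hU.primeIdealOf ⟨x, hxU⟩) ∈ I.support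
  rw [hU.fromSpec_primeIdealOf]

theorem mem_basicOpen_iff_notMem_primeIdealOf {X : Scheme.{u}} {U : X.Opens}
    (hU : IsAffineOpen U) (a : Γ(X, U)) (x : X) (hxU : x ∈ U) :
    x ∈ X.basicOpen a ↔ a ∉ (hU.primeIdealOf ⟨x, hxU⟩).asIdeal := by
  have h1 : hU.primeIdealOf ⟨x, hxU⟩ ∈ hU.fromSpec ⁻¹ᵁ X.basicOpen a ↔
      hU.primeIdealOf ⟨x, hxU⟩ ∈ PrimeSpectrum.basicOpen a := by
    rw [hU.fromSpec_preimage_basicOpen]
    exact Iff.rfl
  rw [← PrimeSpectrum.mem_basicOpen, ← h1]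
  change _ ↔ hU.fromSpec (hU.primeIdealOf ⟨x, hxU⟩) ∈ X.basicOpen a
  rw [hU.fromSpec_primeIdealOf]

end Scheme

end Groth.Agent.R2.H95.ValModulus
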