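import Groth.Agent.R2.H95ValModulus

set_option autoImplicit false
universe u

namespace Groth.Agent.R2.H95.ValModulus

open CategoryTheory AlgebraicGeometry TopologicalSpace
open Groth.Agent.Lib.Helper20

/-- A modulus which becomes trivial on every valuation ring it pulls back to is trivial. -/
theorem eq_top_of_trivial_on_valuationRings {X : Scheme.{u}}
    (I : X.IdealSheafData) (hI : BlowUp.IsEffCartierIdeal I)
    (h : ∀ (R : Type u) [CommRing R] [IsDomain R] [ValuationRing R]
      (p : Spec (CommRingCat.of R) ⟶ X), BlowUp.IsEffCartierIdeal (I.comap p) → I.comap p = ⊤) :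
    I = ⊤ := by
  rw [← Scheme.IdealSheafData.support_eq_bot_iff]
  apply TopologicalSpace.Closeds.ext
  rw [TopologicalSpace.Closeds.coe_bot, Set.eq_empty_iff_forall_notMem]
  intro x hx
  obtain ⟨U, hxU, f, hf, hIf⟩ := hI x
  have hx : x ∈ I.support := hx
  rw [mem_support_iff_mem_primeIdealOf I U.2 f hIf x hxU] at hx
  have hf1 : f * 1 ∈ nonZeroDivisors Γ(X, U.1) := by rwa [mul_one]
  obtain ⟨R, instR, instD, instV, φ, h1, h2, -⟩ :=
    exists_valuationRing_test (U.2.primeIdealOf ⟨x, hxU⟩).asIdeal f 1 hf1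
  have hK := ideal_comap_testMap_span I U.2 (CommRingCat.ofHom φ) f hIf
  have heff : BlowUp.IsEffCartierIdeal (I.comap (Spec.map (CommRingCat.ofHom φ) ≫ U.2.fromSpec)) :=
    isEffCartierIdeal_of_principal (R := CommRingCat.of R) _ (φ f) hK h1
  have htop := h R (Spec.map (CommRingCat.ofHom φ) ≫ U.2.fromSpec) heff
  exact h2 f hx (isUnit_of_principal_eq_top (R := CommRingCat.of R) _ (φ f) hK htop)

/-- Two comparable moduli which agree on every valuation ring whose interior is the generic point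
are equal. -/
theorem eq_of_eq_on_valuationRings {X : Scheme.{u}} (I J : X.IdealSheafData)
    (hI : BlowUp.IsEffCartierIdeal I) (hJ : BlowUp.IsEffCartierIdeal J) (hJI : J ≤ I)
    (h : ∀ (R : Type u) [CommRing R] [IsDomain R] [ValuationRing R]
      (p : Spec (CommRingCat.of R) ⟶ X), BlowUp.IsEffCartierIdeal (I.comap p) →
        (∀ x : Spec (CommRingCat.of R),
          x ∈ (ModPair.interior (I.comap p) : Set (Spec (CommRingCat.of R))) ↔ x.asIdeal = ⊥) →
        I.comap p = J.comap p) :
    I = J := by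
  refine le_antisymm ?_ hJI
  have key : ∀ x : X, ∃ W : X.affineOpens, x ∈ W.1 ∧ I.ideal W ≤ J.ideal W := by
    intro x
    obtain ⟨U1, hU1, hxU1, -, f, hf, hIf⟩ := EffCartier.exists_le_of_isEffCartierIdeal hI x ⊤ trivial
    obtain ⟨U2, hU2, hxU2, hU21, g, hg, hJg⟩ :=
      EffCartier.exists_le_of_isEffCartierIdeal hJ x U1 hxU1
    obtain ⟨f', hf'⟩ : ∃ f' : Γ(X, U2), f' = (X.presheaf.map (homOfLE hU21).op).hom f := ⟨_, rfl⟩
    have hIf' : I.ideal ⟨U2, hU2⟩ = Ideal.span {f'} := by
      rw [← I.map_ideal (U := ⟨U2, hU2⟩) (V := ⟨U1, hU1⟩) hU21, hIf, Ideal.map_span,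
        Set.image_singleton, hf']
      rfl
    obtain ⟨a, ha⟩ : ∃ a, g = f' * a := by
      have h1 : g ∈ I.ideal ⟨U2, hU2⟩ := hJI ⟨U2, hU2⟩ (hJg ▸ Ideal.mem_span_singleton_self g)
      rw [hIf', Ideal.mem_span_singleton'] at h1
      obtain ⟨a, ha⟩ := h1
      exact ⟨a, by rw [← ha, mul_comm]⟩
    have hay : a ∉ (hU2.primeIdealOf ⟨x, hxU2⟩).asIdeal := by
      intro hay
      have hfa : f' * a ∈ nonZeroDivisors Γ(X, U2) := ha ▸ hg
      obtain ⟨R, instR, instD, instV, φ, h1, h2, h3⟩ :=
        exists_valuationRing_test (hU2.primeIdealOf ⟨x, hxU2⟩).asIdeal f' a hfa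
      have hKI := ideal_comap_testMap_span I hU2 (CommRingCat.ofHom φ) f' hIf'
      have hKJ := ideal_comap_testMap_span J hU2 (CommRingCat.ofHom φ) g hJg
      have heff : BlowUp.IsEffCartierIdeal
          (I.comap (Spec.map (CommRingCat.ofHom φ) ≫ hU2.fromSpec)) :=
        isEffCartierIdeal_of_principal (R := CommRingCat.of R) _ (φ f') hKI h1
      have hint : ∀ y : Spec (CommRingCat.of R),
          y ∈ (ModPair.interior (I.comap (Spec.map (CommRingCat.ofHom φ) ≫ hU2.fromSpec)) :
            Set (Spec (CommRingCat.of R))) ↔ y.asIdeal = ⊥ := by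
        intro y
        have hsup := mem_support_iff_of_principal (R := CommRingCat.of R) _ (φ f') hKI y
        change ¬ (y ∈ (I.comap (Spec.map (CommRingCat.ofHom φ) ≫ hU2.fromSpec)).support) ↔ _
        rw [hsup]
        constructor
        · intro hy
          by_contra hne
          exact hy (h3 _ y.isPrime hne)
        · intro hy hmem
          rw [hy] at hmem
          exact h1 hmem
      have heq := h R (Spec.map (CommRingCat.ofHom φ) ≫ hU2.fromSpec) heff hint
      rw [heq] at hKI
      have hspan := hKI.symm.trans hKJ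
      have hmem : (Scheme.ΓSpecIso (CommRingCat.of R)).inv.hom (φ f') ∈
          Ideal.span {(Scheme.ΓSpecIso (CommRingCat.of R)).inv.hom (φ g)} :=
        hspan ▸ Ideal.mem_span_singleton_self _
      rw [Ideal.mem_span_singleton'] at hmem
      obtain ⟨z, hz⟩ := hmem
      have hz' := congrArg (Scheme.ΓSpecIso (CommRingCat.of R)).hom.hom hz
      rw [map_mul] at hz'
      have e1 : ∀ c : R, (Scheme.ΓSpecIso (CommRingCat.of R)).hom.hom
          ((Scheme.ΓSpecIso (CommRingCat.of R)).inv.hom c) = c :=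
        fun c => Iso.inv_hom_id_apply (Scheme.ΓSpecIso (CommRingCat.of R)) c
      rw [e1, e1, ha, map_mul] at hz'
      have hunit : (Scheme.ΓSpecIso (CommRingCat.of R)).hom.hom z * φ a = 1 := by
        have h4 : φ f' * ((Scheme.ΓSpecIso (CommRingCat.of R)).hom.hom z * φ a) = φ f' * 1 := by
          rw [mul_one]
          refine Eq.trans ?_ hz'
          ring
        exact mul_left_cancel₀ h1 h4
      exact h2 a hay (IsUnit.of_mul_eq_one _ (by rw [mul_comm]; exact hunit))
    refine ⟨X.affineBasicOpen (U := ⟨U2, hU2⟩) a,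
      (mem_basicOpen_iff_notMem_primeIdealOf hU2 a x hxU2).mpr hay, ?_⟩
    rw [← I.map_ideal_basicOpen ⟨U2, hU2⟩ a, ← J.map_ideal_basicOpen ⟨U2, hU2⟩ a, hIf', hJg,
      Ideal.map_span, Ideal.map_span, Set.image_singleton, Set.image_singleton, ha, map_mul]
    refine Ideal.span_singleton_le_span_singleton.mpr ?_
    have hu : IsUnit ((X.presheaf.map (homOfLE (X.basicOpen_le a)).op).hom a) :=
      X.toRingedSpace.isUnit_res_basicOpen a
    exact (hu.mul_right_dvd).mpr dvd_rfl
  choose W hxW hW using key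
  refine Scheme.IdealSheafData.le_of_iSup_eq_top W ?_ hW
  rw [eq_top_iff]
  intro x _
  exact TopologicalSpace.Opens.mem_iSup.mpr ⟨x, hxW x⟩

end Groth.Agent.R2.H95.ValModulus
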