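import Mathlib.Tactic
import Mathlib.RingTheory.WittVector.Truncated
import Mathlib.RingTheory.WittVector.Teichmuller
import Mathlib.RingTheory.WittVector.Identities
import Mathlib.RingTheory.PowerSeries.Order
import Mathlib.RingTheory.PowerSeries.NoZeroDivisors
import Groth.Agent.Lib.Helper26WittFil
import Groth.Agent.Lib.Helper26Witt
import Groth.Prelude.Def_W4c6katofiltaWFil

/-!
# Filtered pieces of truncated Witt vectors over a Laurent series ring (helper95)

`Fil A u t` is the `A`-submodule `u ^ t • A` of `B` (as an additive subgroup).  The main result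
`sub_coeff_mem` refines the closure of the filtered pieces of Witt vectors under subtraction:
if two Witt vectors in the piece of index `n` are congruent coordinatewise modulo the piece of
index `n + 1`, then their difference lies in the piece of index `n + 1`.
-/

set_option autoImplicit false
universe u

namespace Groth.Agent.R2.H95.WittPS

open MvPolynomial

section Fil

variable (A : Type*) {B : Type*} [CommRing A] [CommRing B] [Algebra A B] (u : Bˣ)

/-- The additive subgroup `u ^ t • A` of `B`. -/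
def Fil (t : ℤ) : AddSubgroup B :=
  AddSubgroup.comap (AddMonoidHom.mulRight ((u ^ (-t) : Bˣ) : B))
    (algebraMap A B).range.toAddSubgroup

variable {A u}

theorem mem_Fil {t : ℤ} {y : B} :
    y ∈ Fil A u t ↔ y * ((u ^ (-t) : Bˣ) : B) ∈ (algebraMap A B).range := Iff.rfl

theorem Fil_mul {t t' : ℤ} {y z : B} (hy : y ∈ Fil A u t) (hz : z ∈ Fil A u t') :
    y * z ∈ Fil A u (t + t') := by
  rw [mem_Fil] at *
  have : y * z * ((u ^ (-(t + t')) : Bˣ) : B) =
      (y * ((u ^ (-t) : Bˣ) : B)) * (z * ((u ^ (-t') : Bˣ) : B)) := by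
    rw [neg_add, zpow_add, Units.val_mul]; ring
  rw [this]
  exact Subring.mul_mem _ hy hz

theorem one_mem_Fil_zero : (1 : B) ∈ Fil A u 0 := by
  rw [mem_Fil]; simp

theorem Fil_pow {t : ℤ} {y : B} (hy : y ∈ Fil A u t) (N : ℕ) : y ^ N ∈ Fil A u (N * t) := by
  induction N with
  | zero => simpa using one_mem_Fil_zero
  | succ N ih =>
    rw [pow_succ]
    have := Fil_mul ih hy
    convert this using 2
    push_cast; ring

theorem range_mul_Fil {t : ℤ} {a y : B} (ha : a ∈ (algebraMap A B).range) (hy : y ∈ Fil A u t) :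
    a * y ∈ Fil A u t := by
  rw [mem_Fil] at *
  rw [mul_assoc]
  exact Subring.mul_mem _ ha hy

theorem unit_zpow_mem_Fil (t : ℤ) : ((u ^ t : Bˣ) : B) ∈ Fil A u t := by
  rw [mem_Fil, ← Units.val_mul, ← zpow_add]
  simp

theorem Fil_anti (hu : (u : B) ∈ (algebraMap A B).range) {t t' : ℤ} (h : t ≤ t') :
    Fil A u t' ≤ Fil A u t := by
  intro y hy
  rw [mem_Fil] at *
  obtain ⟨k, hk⟩ := Int.le.dest h
  have : y * ((u ^ (-t) : Bˣ) : B) = (y * ((u ^ (-t') : Bˣ) : B)) * (u : B) ^ k := by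
    rw [mul_assoc, ← Units.val_pow_eq_pow_val, ← Units.val_mul, ← zpow_natCast, ← zpow_add]
    congr 3
    omega
  rw [this]
  exact Subring.mul_mem _ hy (Subring.pow_mem _ hu k)

theorem mem_Fil_of_eq_mul {t : ℤ} {y : B} (a : A) (h : y = ((u ^ t : Bˣ) : B) * algebraMap A B a) :
    y ∈ Fil A u t := by
  rw [h, mul_comm]
  exact range_mul_Fil ⟨a, rfl⟩ (unit_zpow_mem_Fil t)

theorem exists_of_mem_Fil {t : ℤ} {y : B} (h : y ∈ Fil A u t) :
    ∃ a : A, y = ((u ^ t : Bˣ) : B) * algebraMap A B a := by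
  rw [mem_Fil] at h
  obtain ⟨a, ha⟩ := h
  refine ⟨a, ?_⟩
  rw [ha, mul_comm, mul_assoc, ← Units.val_mul, ← zpow_add]
  simp

end Fil

section G

variable {A : Type*} {B : Type*} [CommRing A] [CommRing B] [Algebra A B] {u : Bˣ}
  (p : ℕ) [hp : Fact p.Prime] [CharP B p]

/-- The set of pairs `(a, a')` with `a ^ q, a' ^ q ∈ Fil (n w)` and `(a - a') ^ q ∈ Fil (n w + 1)`,
where `q = p ^ e`. -/
def G (A : Type*) {B : Type*} [CommRing A] [CommRing B] [Algebra A B] (u : Bˣ) (p e : ℕ) (n : ℤ)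
    (w : ℕ) : Set (B × B) :=
  {x | x.1 ^ p ^ e ∈ Fil A u (n * w) ∧ x.2 ^ p ^ e ∈ Fil A u (n * w) ∧
    (x.1 - x.2) ^ p ^ e ∈ Fil A u (n * w + 1)}

variable {p} {e : ℕ} {n : ℤ}

omit hp [CharP B p] in
theorem one_mem_G (hp0 : 0 < p) : (1 : B × B) ∈ G A u p e n 0 := by
  refine ⟨?_, ?_, ?_⟩
  · simpa using one_mem_Fil_zero
  · simpa using one_mem_Fil_zero
  · have : 0 < p ^ e := pow_pos hp0 e
    simp [zero_pow this.ne']

omit [CharP B p] in
theorem zero_mem_G (w : ℕ) : (0 : B × B) ∈ G A u p e n w := by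
  have : 0 < p ^ e := pow_pos hp.out.pos e
  refine ⟨?_, ?_, ?_⟩ <;> simp [zero_pow this.ne']

theorem add_mem_G {w : ℕ} {x y : B × B} (hx : x ∈ G A u p e n w) (hy : y ∈ G A u p e n w) :
    x + y ∈ G A u p e n w := by
  obtain ⟨hx1, hx2, hx3⟩ := hx
  obtain ⟨hy1, hy2, hy3⟩ := hy
  refine ⟨?_, ?_, ?_⟩
  · rw [Prod.fst_add, add_pow_char_pow]; exact AddSubgroup.add_mem _ hx1 hy1
  · rw [Prod.snd_add, add_pow_char_pow]; exact AddSubgroup.add_mem _ hx2 hy2
  · have : (x + y).1 - (x + y).2 = (x.1 - x.2) + (y.1 - y.2) := by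
      simp only [Prod.fst_add, Prod.snd_add]; ring
    rw [this, add_pow_char_pow]; exact AddSubgroup.add_mem _ hx3 hy3

theorem sum_mem_G {ι : Type*} (s : Finset ι) (f : ι → B × B) {w : ℕ}
    (h : ∀ i ∈ s, f i ∈ G A u p e n w) : ∑ i ∈ s, f i ∈ G A u p e n w := by
  classical
  induction s using Finset.induction_on with
  | empty => simpa using zero_mem_G (A := A) (u := u) (p := p) (e := e) (n := n) w
  | insert a s ha ih =>
    rw [Finset.sum_insert ha]
    exact add_mem_G (h a (Finset.mem_insert_self a s))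
      (ih fun i hi => h i (Finset.mem_insert_of_mem hi))

theorem mul_mem_G {w w' : ℕ} {x y : B × B}
    (hx : x ∈ G A u p e n w) (hy : y ∈ G A u p e n w') :
    x * y ∈ G A u p e n (w + w') := by
  obtain ⟨hx1, hx2, hx3⟩ := hx
  obtain ⟨hy1, hy2, hy3⟩ := hy
  have e1 : n * ((w + w' : ℕ) : ℤ) = n * w + n * w' := by push_cast; ring
  refine ⟨?_, ?_, ?_⟩
  · rw [Prod.fst_mul, mul_pow, e1]; exact Fil_mul hx1 hy1
  · rw [Prod.snd_mul, mul_pow, e1]; exact Fil_mul hx2 hy2
  · have : (x * y).1 - (x * y).2 = x.1 * (y.1 - y.2) + (x.1 - x.2) * y.2 := by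
      simp only [Prod.fst_mul, Prod.snd_mul]; ring
    rw [this, add_pow_char_pow, mul_pow, mul_pow, e1]
    refine AddSubgroup.add_mem _ ?_ ?_
    · have := Fil_mul hx1 hy3
      convert this using 2; ring
    · have := Fil_mul hx3 hy2
      convert this using 2; ring

omit hp [CharP B p] in
theorem intCast_mul_mem_G (z : ℤ) {w : ℕ} {x : B × B} (hx : x ∈ G A u p e n w) :
    (z : B × B) * x ∈ G A u p e n w := by
  obtain ⟨hx1, hx2, hx3⟩ := hx
  have hz0 : (z : B) ∈ (algebraMap A B).range := ⟨(z : A), by simp⟩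
  have hz : ((z : B)) ^ p ^ e ∈ (algebraMap A B).range := Subring.pow_mem _ hz0 _
  refine ⟨?_, ?_, ?_⟩
  · rw [Prod.fst_mul, Prod.fst_intCast, mul_pow]; exact range_mul_Fil hz hx1
  · rw [Prod.snd_mul, Prod.snd_intCast, mul_pow]; exact range_mul_Fil hz hx2
  · have : ((z : B × B) * x).1 - ((z : B × B) * x).2 = (z : B) * (x.1 - x.2) := by
      simp only [Prod.fst_mul, Prod.snd_mul, Prod.fst_intCast, Prod.snd_intCast]; ring
    rw [this, mul_pow]; exact range_mul_Fil hz hx3

theorem pow_mem_G {w : ℕ} {x : B × B}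
    (hx : x ∈ G A u p e n w) (k : ℕ) : x ^ k ∈ G A u p e n (k * w) := by
  induction k with
  | zero => simpa using one_mem_G (A := A) (u := u) (e := e) (n := n) hp.out.pos
  | succ k ih =>
    rw [pow_succ, Nat.succ_mul]
    exact mul_mem_G ih hx

theorem prod_mem_G {σ : Type*} (s : Finset σ)
    (g : σ → B × B) (wt : σ → ℕ) (d : σ → ℕ) (h : ∀ x ∈ s, g x ∈ G A u p e n (wt x)) :
    ∏ x ∈ s, g x ^ d x ∈ G A u p e n (∑ x ∈ s, d x * wt x) := by
  classical
  induction s using Finset.induction_on with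
  | empty => simpa using one_mem_G (A := A) (u := u) (e := e) (n := n) hp.out.pos
  | insert a s ha ih =>
    rw [Finset.prod_insert ha, Finset.sum_insert ha]
    exact mul_mem_G (pow_mem_G (h a (Finset.mem_insert_self a s)) _)
      (ih fun i hi => h i (Finset.mem_insert_of_mem hi))

theorem aeval_mem_G {σ : Type*}
    (P : MvPolynomial σ ℤ) (wt : σ → ℕ) (W : ℕ) (hP : IsWeightedHomogeneous wt P W)
    (g : σ → B × B) (h : ∀ x ∈ P.vars, g x ∈ G A u p e n (wt x)) :
    aeval g P ∈ G A u p e n W := by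
  rw [aeval_def, eval₂_eq]
  apply sum_mem_G
  intro d hd
  rw [eq_intCast]
  apply intCast_mul_mem_G
  have hW : W = ∑ x ∈ d.support, d x * wt x := by
    have := hP (mem_support_iff.mp hd)
    rw [Finsupp.weight_apply, Finsupp.sum] at this
    rw [← this]
    exact Finset.sum_congr rfl fun x _ => by simp
  rw [hW]
  apply prod_mem_G
  intro x hx
  exact h x ((mem_vars_iff_mem_support x).mpr ⟨d, hd, hx⟩)

end G

section Sub

variable {A : Type u} {B : Type u} [CommRing A] [CommRing B] [Algebra A B] {u : Bˣ}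
  (p : ℕ) [hp : Fact p.Prime] [CharP B p]

/-- The root property of the filtration `Fil A u`: an element whose `N`-th power lies in `Fil a`
lies in `Fil t` as soon as `N (t - 1) < a`. -/
def RootProp (A : Type*) {B : Type*} [CommRing A] [CommRing B] [Algebra A B] (u : Bˣ) : Prop :=
  ∀ (y : B) (N : ℕ) (a t : ℤ), 0 < N → (N : ℤ) * (t - 1) < a → y ^ N ∈ Fil A u a → y ∈ Fil A u t

omit hp [CharP B p] in
theorem pow_pow_eq (x : B) {j m : ℕ} (hj : j < m) :
    (x ^ p ^ (m - 1 - j)) ^ p ^ j = x ^ p ^ (m - 1) := by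
  rw [← pow_mul, ← pow_add]
  congr 2
  omega

/-- Refined closure under subtraction. -/
theorem sub_coeff_mem (hu : (u : B) ∈ (algebraMap A B).range) (hroot : RootProp A u)
    (Y Z : WittVector p B) (m : ℕ) (n : ℤ)
    (hY : ∀ k, k < m → (Y.coeff k) ^ p ^ (m - 1 - k) ∈ Fil A u n)
    (hZ : ∀ k, k < m → (Z.coeff k) ^ p ^ (m - 1 - k) ∈ Fil A u n)
    (hYZ : ∀ k, k < m → (Y.coeff k - Z.coeff k) ^ p ^ (m - 1 - k) ∈ Fil A u (n + 1))
    (j : ℕ) (hj : j < m) :
    ((Y - Z).coeff j) ^ p ^ (m - 1 - j) ∈ Fil A u (n + 1) := by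
  have hp1 : ∀ k : ℕ, (1 : ℤ) ≤ ((p ^ k : ℕ) : ℤ) := fun k => by
    exact_mod_cast Nat.one_le_pow _ _ hp.out.pos
  -- the pairs of coordinates lie in `G`
  let g : Fin 2 × ℕ → B × B := fun x => (![Y.coeff, Z.coeff] x.1 x.2, Z.coeff x.2)
  have hg : ∀ x ∈ (WittVector.wittSub p j).vars, g x ∈ G A u p (m - 1) n (p ^ x.2) := by
    intro x hx
    have hx2 : x.2 < m := by
      have := WittVector.wittSub_vars p j hx
      rw [Finset.mem_product, Finset.mem_range] at this
      omega
    obtain ⟨b, k⟩ := x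
    have hZk : (Z.coeff k) ^ p ^ (m - 1) ∈ Fil A u (n * ((p ^ k : ℕ) : ℤ)) := by
      rw [← pow_pow_eq p _ hx2, mul_comm]
      exact Fil_pow (hZ k hx2) _
    fin_cases b
    · refine ⟨?_, hZk, ?_⟩
      · change (Y.coeff k) ^ p ^ (m - 1) ∈ _
        rw [← pow_pow_eq p _ hx2, mul_comm]
        exact Fil_pow (hY k hx2) _
      · change (Y.coeff k - Z.coeff k) ^ p ^ (m - 1) ∈ _
        rw [← pow_pow_eq p _ hx2]
        refine Fil_anti hu ?_ (Fil_pow (hYZ k hx2) _)
        have := hp1 k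
        nlinarith
    · refine ⟨hZk, hZk, ?_⟩
      change (Z.coeff k - Z.coeff k) ^ p ^ (m - 1) ∈ _
      rw [sub_self, zero_pow (pow_pos hp.out.pos _).ne']
      exact AddSubgroup.zero_mem _
  have hmem := aeval_mem_G (A := A) (u := u) (p := p) (e := m - 1) (n := n)
    (WittVector.wittSub p j) (fun i : Fin 2 × ℕ => p ^ i.2) (p ^ j)
    (Groth.Agent.Lib.Helper26.wittSub_isWeightedHomogeneous p j) g hg
  -- identify the two components
  have h1 : (aeval g (WittVector.wittSub p j)).1 = (Y - Z).coeff j := by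
    rw [WittVector.sub_coeff, WittVector.peval]
    have := MvPolynomial.comp_aeval_apply (R := ℤ) (f := g)
      (RingHom.fst B B).toIntAlgHom (WittVector.wittSub p j)
    change (aeval g (WittVector.wittSub p j)).1 = _ at this
    rw [this]
    congr 1
  have h2 : (aeval g (WittVector.wittSub p j)).2 = 0 := by
    have := MvPolynomial.comp_aeval_apply (R := ℤ) (f := g)
      (RingHom.snd B B).toIntAlgHom (WittVector.wittSub p j)
    change (aeval g (WittVector.wittSub p j)).2 = _ at this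
    rw [this]
    have h3 : (Z - Z).coeff j = 0 := by rw [sub_self]; exact WittVector.zero_coeff p B j
    rw [WittVector.sub_coeff, WittVector.peval] at h3
    rw [← h3]
    refine congrArg (fun f => aeval f (WittVector.wittSub p j)) ?_
    funext x
    obtain ⟨b, k⟩ := x
    fin_cases b <;> rfl
  obtain ⟨-, -, h3⟩ := hmem
  rw [h1, h2, sub_zero, ← pow_pow_eq p _ hj] at h3
  refine hroot _ (p ^ j) _ (n + 1) (pow_pos hp.out.pos _) ?_ h3
  push_cast
  nlinarith [hp1 j]

end Sub

section PS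

open PowerSeries

variable {S : Type u} {B : Type u} [CommRing S] [IsDomain S] [CommRing B]
  [Algebra (PowerSeries S) B] [IsLocalization.Away (PowerSeries.X : PowerSeries S) B]
  (u : Bˣ) (hu : (u : B) = algebraMap (PowerSeries S) B PowerSeries.X)

omit [IsDomain S] [IsLocalization.Away (PowerSeries.X : PowerSeries S) B] in
include hu in
theorem val_zpow_natCast (k : ℕ) :
    ((u ^ (k : ℤ) : Bˣ) : B) = algebraMap (PowerSeries S) B (PowerSeries.X ^ k) := by
  rw [zpow_natCast, Units.val_pow_eq_pow_val, hu, map_pow]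

omit [IsLocalization.Away (PowerSeries.X : PowerSeries S) B] [IsDomain S] in
include hu in
theorem unit_mem_range : (u : B) ∈ (algebraMap (PowerSeries S) B).range := ⟨_, hu.symm⟩

theorem algebraMap_ps_injective : Function.Injective (algebraMap (PowerSeries S) B) :=
  IsLocalization.injective B (M := Submonoid.powers (PowerSeries.X : PowerSeries S))
    (powers_le_nonZeroDivisors_of_noZeroDivisors PowerSeries.X_ne_zero)

include hu in
/-- every nonzero element of `B` is a power of `u` times a power series with nonzero constant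
coefficient. -/
theorem exists_eq_zpow_mul (y : B) :
    y = 0 ∨ ∃ (e : ℤ) (a : PowerSeries S), PowerSeries.constantCoeff a ≠ 0 ∧
      y = ((u ^ e : Bˣ) : B) * algebraMap (PowerSeries S) B a := by
  obtain ⟨k, a, h⟩ := IsLocalization.Away.surj (PowerSeries.X : PowerSeries S) y
  rw [← hu, ← Units.val_pow_eq_pow_val] at h
  by_cases ha : a = 0
  · left
    rw [ha, map_zero] at h
    exact (Units.mul_left_eq_zero _).mp h
  · right
    refine ⟨(a.order.toNat : ℤ) - k, PowerSeries.divXPowOrder a, ?_, ?_⟩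
    · rwa [Ne, PowerSeries.constantCoeff_divXPowOrder_eq_zero_iff]
    · have h1 : y = algebraMap (PowerSeries S) B a * ((u ^ k : Bˣ)⁻¹ : Bˣ) := by
        rw [← h, mul_assoc, ← Units.val_mul, mul_inv_cancel, Units.val_one, mul_one]
      rw [h1]
      conv_lhs => rw [← PowerSeries.X_pow_order_mul_divXPowOrder (f := a)]
      rw [map_mul, ← val_zpow_natCast u hu, sub_eq_add_neg, zpow_add, Units.val_mul,
        zpow_neg, zpow_natCast, zpow_natCast]
      ring

include hu in
theorem rootProp_powerSeries : RootProp (PowerSeries S) u := by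
  intro y N a t hN hlt hy
  rcases exists_eq_zpow_mul u hu y with rfl | ⟨e, a0, ha0, rfl⟩
  · exact AddSubgroup.zero_mem _
  obtain ⟨b, hb⟩ := exists_of_mem_Fil hy
  rw [mul_pow, ← Units.val_pow_eq_pow_val, ← zpow_natCast, ← zpow_mul, ← map_pow] at hb
  -- `N e ≥ a`
  have hge : a ≤ e * N := by
    by_contra hcon
    push Not at hcon
    obtain ⟨d, hd⟩ := Int.le.dest (le_of_lt hcon)
    have hd1 : 1 ≤ d := by omega
    have hb' : algebraMap (PowerSeries S) B (a0 ^ N) =
        algebraMap (PowerSeries S) B (PowerSeries.X ^ d * b) := by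
      rw [map_mul, ← val_zpow_natCast u hu]
      have : ((u ^ (e * (N : ℤ)) : Bˣ) : B) * algebraMap (PowerSeries S) B (a0 ^ N) =
          ((u ^ (e * (N : ℤ)) : Bˣ) : B) *
            (((u ^ (d : ℤ) : Bˣ) : B) * algebraMap (PowerSeries S) B b) := by
        rw [hb, ← mul_assoc, ← Units.val_mul, ← zpow_add, hd]
      exact (Units.mul_right_inj _).mp this
    have hb'' := algebraMap_ps_injective (B := B) hb'
    have h0 : PowerSeries.constantCoeff (a0 ^ N) = 0 := by
      rw [hb'', ← PowerSeries.X_dvd_iff]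
      exact Dvd.dvd.mul_right (dvd_pow_self _ (by omega)) _
    rw [map_pow] at h0
    exact ha0 (pow_eq_zero_iff (by omega) |>.mp h0)
  have het : t ≤ e := by
    by_contra hcon
    push Not at hcon
    have : e * (N : ℤ) ≤ (N : ℤ) * (t - 1) := by
      have hN' : (0 : ℤ) < N := by exact_mod_cast hN
      nlinarith
    omega
  obtain ⟨d, hd⟩ := Int.le.dest het
  refine mem_Fil_of_eq_mul (PowerSeries.X ^ d * a0) ?_
  rw [map_mul, ← val_zpow_natCast u hu, ← mul_assoc, ← Units.val_mul, ← zpow_add, hd]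

end PS

section Main

open PowerSeries

variable (p : ℕ) [hp : Fact p.Prime] {S B : Type u} [CommRing S] [IsDomain S] [CharP S p]
  [CommRing B] [Algebra (PowerSeries S) B] [Algebra S B] [IsScalarTower S (PowerSeries S) B]
  [IsLocalization.Away (PowerSeries.X : PowerSeries S) B]
  (u : Bˣ) (hu : (u : B) = algebraMap (PowerSeries S) B PowerSeries.X)

omit hp [CharP S p] in
theorem algebraMap_S_injective : Function.Injective (algebraMap S B) := by
  rw [IsScalarTower.algebraMap_eq S (PowerSeries S) B]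
  refine (algebraMap_ps_injective (B := B)).comp ?_
  intro a b h
  exact PowerSeries.C_injective (by simpa [PowerSeries.algebraMap_apply] using h)

omit hp in
theorem charP_B (S : Type u) {B : Type u} [CommRing S] [IsDomain S] [CharP S p]
    [CommRing B] [Algebra (PowerSeries S) B] [Algebra S B] [IsScalarTower S (PowerSeries S) B]
    [IsLocalization.Away (PowerSeries.X : PowerSeries S) B] : CharP B p :=
  charP_of_injective_algebraMap (algebraMap_S_injective (S := S) (B := B)) p

/-- the full Witt vector whose truncation is `WittFil.vShiftTeich`. -/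
noncomputable def bigZ (s : ℕ) (v : B) (c : WittVector p S) : WittVector p B :=
  (WittVector.verschiebung)^[s]
    (WittVector.map (algebraMap S B) c * WittVector.teichmuller p v)

omit [IsDomain S] [CharP S p] [IsScalarTower S (PowerSeries S) B]
  [IsLocalization.Away (PowerSeries.X : PowerSeries S) B] in
theorem bigZ_coeff_lt {s j : ℕ} (v : B) (c : WittVector p S) (h : j < s) :
    (bigZ p s v c).coeff j = 0 :=
  WittVector.iterate_verschiebung_coeff_eq_zero _ h

omit [IsDomain S] [CharP S p] [IsScalarTower S (PowerSeries S) B]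
  [IsLocalization.Away (PowerSeries.X : PowerSeries S) B] in
theorem bigZ_coeff_add (s k : ℕ) (v : B) (c : WittVector p S) :
    (bigZ p s v c).coeff (k + s) = algebraMap S B (c.coeff k) * v ^ p ^ k := by
  rw [bigZ, WittVector.iterate_verschiebung_coeff,
    Groth.Agent.Lib.Helper26.coeff_mul_teichmuller, WittVector.map_coeff]

omit [IsDomain S] [CharP S p] [IsScalarTower S (PowerSeries S) B]
  [IsLocalization.Away (PowerSeries.X : PowerSeries S) B] in
theorem vShiftTeich_eq (m s : ℕ) (v : B) (c : WittVector p S) :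
    WittFil.vShiftTeich p m s v c = WittVector.truncate m (bigZ p s v c) := rfl

omit [IsDomain S] [CharP S p] [IsLocalization.Away (PowerSeries.X : PowerSeries S) B] in
/-- the `p ^ (m-1-j)`-th power of the `j`-th coordinate of `bigZ`, for `s ≤ j < m`. -/
theorem bigZ_coeff_pow {m s j : ℕ} (hj : j < m) (hsj : s ≤ j) (i : ℤ) (c : WittVector p S) :
    (bigZ p s ((u ^ i : Bˣ) : B) c).coeff j ^ p ^ (m - 1 - j) =
      ((u ^ ((p : ℤ) ^ (m - 1 - s) * i) : Bˣ) : B) *
        algebraMap (PowerSeries S) B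
          (algebraMap S (PowerSeries S) (c.coeff (j - s) ^ p ^ (m - 1 - j))) := by
  obtain ⟨k, rfl⟩ : ∃ k, j = k + s := ⟨j - s, by omega⟩
  rw [bigZ_coeff_add, mul_pow, ← pow_mul, ← Units.val_pow_eq_pow_val, ← zpow_natCast, ← zpow_mul,
    Nat.add_sub_cancel, ← IsScalarTower.algebraMap_apply, map_pow, mul_comm]
  congr 3
  have : p ^ k * p ^ (m - 1 - (k + s)) = p ^ (m - 1 - s) := by
    rw [← pow_add]; congr 1; omega
  rw [this]
  push_cast
  ring

omit [IsDomain S] [CharP S p] in
/-- part (1): all `bigZ` lie in the filtered piece of index `n`. -/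
theorem bigZ_mem_Fil {m s j : ℕ} (hj : j < m) (i : ℤ) (c : WittVector p S) :
    (bigZ p s ((u ^ i : Bˣ) : B) c).coeff j ^ p ^ (m - 1 - j) ∈
      Fil (PowerSeries S) u ((p : ℤ) ^ (m - 1 - s) * i) := by
  by_cases hsj : s ≤ j
  · rw [bigZ_coeff_pow p u hj hsj]
    exact mem_Fil_of_eq_mul _ rfl
  · rw [bigZ_coeff_lt p _ _ (by omega), zero_pow (pow_pos hp.out.pos _).ne']
    exact AddSubgroup.zero_mem _

include hu in
omit [CharP S p] in
/-- part (2), the forward direction at one coordinate. -/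
theorem coeff_eq_zero_of_mem {m s j : ℕ} (hj : j < m) (hsj : s ≤ j) (i : ℤ) (c : WittVector p S)
    (h : (bigZ p s ((u ^ i : Bˣ) : B) c).coeff j ^ p ^ (m - 1 - j) ∈
      Fil (PowerSeries S) u ((p : ℤ) ^ (m - 1 - s) * i + 1)) :
    c.coeff (j - s) = 0 := by
  rw [bigZ_coeff_pow p u hj hsj] at h
  obtain ⟨b, hb⟩ := exists_of_mem_Fil h
  rw [zpow_add, Units.val_mul, mul_assoc, zpow_one, hu, ← map_mul] at hb
  have hb' := algebraMap_ps_injective (B := B) ((Units.mul_right_inj _).mp hb)
  have h0 : PowerSeries.constantCoeff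
      (algebraMap S (PowerSeries S) (c.coeff (j - s) ^ p ^ (m - 1 - j))) = 0 := by
    rw [hb', ← PowerSeries.X_dvd_iff]
    exact Dvd.intro _ rfl
  rw [PowerSeries.algebraMap_apply, PowerSeries.constantCoeff_C] at h0
  exact (pow_eq_zero_iff (pow_pos hp.out.pos _).ne').mp h0

omit [IsDomain S] [CharP S p] [IsScalarTower S (PowerSeries S) B]
  [IsLocalization.Away (PowerSeries.X : PowerSeries S) B] [Algebra S B] in
theorem pow_mul_pow_eq {m s k : ℕ} (hk : k < m) (hsk : s ≤ k) :
    ((p ^ (m - 1 - k) : ℕ) : ℤ) * (p : ℤ) ^ (k - s) = (p : ℤ) ^ (m - 1 - s) := by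
  push_cast
  rw [← pow_add]
  congr 1
  omega

include hu in
/-- part (3): every element of the piece of index `n` is congruent to some `bigZ` modulo the
piece of index `n + 1`. -/
theorem exists_sub_mem {m s : ℕ} (hs : s < m) (i : ℤ) (hsi : s = 0 ∨ ¬ ((p : ℤ) ∣ i))
    (Y : WittVector p B)
    (hY : ∀ k, k < m → Y.coeff k ^ p ^ (m - 1 - k) ∈
      Fil (PowerSeries S) u ((p : ℤ) ^ (m - 1 - s) * i)) :
    ∃ c : WittVector p S, ∀ j, j < m →
      ((Y - bigZ p s ((u ^ i : Bˣ) : B) c).coeff j) ^ p ^ (m - 1 - j) ∈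
        Fil (PowerSeries S) u ((p : ℤ) ^ (m - 1 - s) * i + 1) := by
  haveI := charP_B p S (B := B)
  have hroot := rootProp_powerSeries u hu
  have hur := unit_mem_range u hu
  have hp1 : ∀ k : ℕ, (1 : ℤ) ≤ ((p ^ k : ℕ) : ℤ) := fun k => by
    exact_mod_cast Nat.one_le_pow _ _ hp.out.pos
  have hp0 : ∀ k : ℕ, (0 : ℤ) < ((p ^ k : ℕ) : ℤ) := fun k => by
    exact_mod_cast pow_pos hp.out.pos k
  -- Step 1: the coordinates `Y_k`, `s ≤ k < m`, lie in `Fil (i p^(k-s))`
  have H : ∀ k, ∃ a : PowerSeries S, s ≤ k → k < m →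
      Y.coeff k = ((u ^ (i * (p : ℤ) ^ (k - s)) : Bˣ) : B) * algebraMap (PowerSeries S) B a := by
    intro k
    by_cases h : s ≤ k ∧ k < m
    · have hmem := hroot (Y.coeff k) (p ^ (m - 1 - k)) _ (i * (p : ℤ) ^ (k - s))
        (pow_pos hp.out.pos _) ?_ (hY k h.2)
      · obtain ⟨a, ha⟩ := exists_of_mem_Fil hmem
        exact ⟨a, fun _ _ => ha⟩
      · have e1 := pow_mul_pow_eq p (m := m) h.2 h.1
        have e2 := hp1 (m - 1 - k)
        calc ((p ^ (m - 1 - k) : ℕ) : ℤ) * (i * (p : ℤ) ^ (k - s) - 1)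
            = (((p ^ (m - 1 - k) : ℕ) : ℤ) * (p : ℤ) ^ (k - s)) * i -
                ((p ^ (m - 1 - k) : ℕ) : ℤ) := by ring
          _ = (p : ℤ) ^ (m - 1 - s) * i - ((p ^ (m - 1 - k) : ℕ) : ℤ) := by rw [e1]
          _ < (p : ℤ) ^ (m - 1 - s) * i := by linarith
    · exact ⟨0, fun h1 h2 => absurd ⟨h1, h2⟩ h⟩
  choose a ha using H
  let c : WittVector p S := WittVector.mk p fun l => PowerSeries.constantCoeff (a (l + s))
  have hc : ∀ l, c.coeff l = PowerSeries.constantCoeff (a (l + s)) := fun l => rfl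
  refine ⟨c, ?_⟩
  intro j hj
  refine sub_coeff_mem p hur hroot Y _ m _ hY (fun k hk => bigZ_mem_Fil p u hk i _) ?_ j hj
  intro k hk
  by_cases hsk : s ≤ k
  · -- the leading coefficients agree
    obtain ⟨l, rfl⟩ : ∃ l, k = l + s := ⟨k - s, by omega⟩
    have hX : PowerSeries.X ∣ a (l + s) -
        algebraMap S (PowerSeries S) (PowerSeries.constantCoeff (a (l + s))) := by
      rw [PowerSeries.X_dvd_iff, map_sub, PowerSeries.algebraMap_apply,
        PowerSeries.constantCoeff_C]
      simp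
    obtain ⟨b, hb⟩ := hX
    have hdiff : Y.coeff (l + s) - (bigZ p s ((u ^ i : Bˣ) : B) c).coeff (l + s) =
        ((u ^ (i * (p : ℤ) ^ l + 1) : Bˣ) : B) * algebraMap (PowerSeries S) B b := by
      rw [bigZ_coeff_add, hc, ha (l + s) hsk hk, Nat.add_sub_cancel,
        ← Units.val_pow_eq_pow_val, ← zpow_natCast, ← zpow_mul,
        IsScalarTower.algebraMap_apply S (PowerSeries S) B, zpow_add, zpow_one, Units.val_mul, hu,
        mul_assoc, ← map_mul, ← hb, map_sub]
      push_cast
      ring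
    have h1 := Fil_pow (mem_Fil_of_eq_mul (A := PowerSeries S) b hdiff) (p ^ (m - 1 - (l + s)))
    refine Fil_anti hur ?_ h1
    have e1 := pow_mul_pow_eq p (m := m) hk hsk
    rw [Nat.add_sub_cancel] at e1
    have e2 := hp1 (m - 1 - (l + s))
    calc (p : ℤ) ^ (m - 1 - s) * i + 1
        = ((p ^ (m - 1 - (l + s)) : ℕ) : ℤ) * (p : ℤ) ^ l * i + 1 := by rw [e1]
      _ ≤ ((p ^ (m - 1 - (l + s)) : ℕ) : ℤ) * (i * (p : ℤ) ^ l + 1) := by nlinarith
  · push Not at hsk
    rw [bigZ_coeff_lt p _ _ hsk, sub_zero]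
    have hs0 : ¬ ((p : ℤ) ∣ i) := by
      rcases hsi with h | h
      · omega
      · exact h
    set N : ℕ := p ^ (m - 1 - k) with hN
    set n : ℤ := (p : ℤ) ^ (m - 1 - s) * i with hn
    have hNpos : (0 : ℤ) < (N : ℤ) := hp0 _
    set t : ℤ := -((-n) / (N : ℤ)) with ht
    have ht1 : n ≤ (N : ℤ) * t := by
      have := Int.ediv_mul_le (-n) hNpos.ne'
      rw [ht]; nlinarith
    have ht2 : (N : ℤ) * (t - 1) < n := by
      have := Int.lt_ediv_add_one_mul_self (-n) hNpos
      rw [ht]; nlinarith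
    have hmem := hroot (Y.coeff k) N n t (pow_pos hp.out.pos _) ht2 (hY k hk)
    have h1 := Fil_pow hmem N
    refine Fil_anti hur ?_ h1
    have hne : (N : ℤ) * t ≠ n := by
      intro heq
      apply hs0
      have e3 : (N : ℤ) = (p : ℤ) ^ (m - 1 - s) * (p : ℤ) ^ (s - k) := by
        rw [hN]; push_cast; rw [← pow_add]; congr 1; omega
      rw [e3, hn, mul_assoc] at heq
      have hpp : (p : ℤ) ^ (m - 1 - s) ≠ 0 := pow_ne_zero _ (by exact_mod_cast hp.out.ne_zero)
      have heq' := mul_left_cancel₀ hpp heq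
      rw [← heq']
      exact Dvd.dvd.mul_right (dvd_pow_self _ (by omega)) _
    omega

end Main

end Groth.Agent.R2.H95.WittPS
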