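import Mathlib
import Groth.Prelude.Def_Found

/-!
# Catenary local rings with a unique minimal prime: `ht 𝔪 = ht q + 1` for `q ⋖ 𝔪` (helper96)
-/

set_option autoImplicit false
set_option linter.style.haveILetI false
set_option linter.deprecated false
universe u

namespace Groth.Agent.R2.H96.Catenary

open Order

section Poset
variable {α : Type*} [PartialOrder α]

lemma covBy_of_height_eq {a b : α} (hab : a < b) (ha : height a < ⊤)
    (h : height b = height a + 1) : a ⋖ b := by
  refine ⟨hab, fun z haz hzb => ?_⟩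
  have h1 : height a < height z := height_strictMono haz ha
  have hz : height z < ⊤ := by
    refine lt_of_le_of_lt (height_mono hzb.le) ?_
    rw [h]
    exact ENat.add_lt_top.mpr ⟨ha, ENat.one_lt_top⟩
  have h2 : height z < height b := height_strictMono hzb hz
  have h3 : height a + 1 ≤ height z := Order.add_one_le_of_lt h1
  rw [h] at h2
  exact absurd h3 (not_le.mpr h2)

/-- A series of maximal length ending at its last element is saturated. -/
lemma covBy_of_length_eq_height (p : LTSeries α) (h : p.length = height p.last)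
    (i : Fin p.length) : p i.castSucc ⋖ p i.succ := by
  have h1 := height_eq_index_of_length_eq_height_last h i.castSucc
  have h2 := height_eq_index_of_length_eq_height_last h i.succ
  refine covBy_of_height_eq (p.step i) ?_ ?_
  · rw [h1]; exact ENat.natCast_lt_top _
  · rw [h1, h2]
    simp

lemma isMin_head_of_length_eq_height (p : LTSeries α) (h : p.length = height p.last) :
    IsMin p.head := by
  have h1 := height_eq_index_of_length_eq_height_last h 0
  rw [← height_eq_zero]
  show height (p 0) = 0
  simpa using h1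

end Poset

/-- In a catenary ring with a unique minimal prime, if `q ⋖ m` are primes and `m` has finite
height then `ht m = ht q + 1`. -/
theorem height_eq_add_one_of_catenary {A : Type u} [CommRing A] (hcat : CAlg.IsCatenary A)
    (huniq : ∀ p₁ p₂ : PrimeSpectrum A, IsMin p₁ → IsMin p₂ → p₁ = p₂)
    (q m : PrimeSpectrum A) (hcov : q ⋖ m) (hm : height m < ⊤) :
    height m = height q + 1 := by
  have hq : height q < ⊤ := lt_of_le_of_lt (height_mono hcov.lt.le) hm
  obtain ⟨n, hn⟩ := ENat.ne_top_iff_exists.mp hm.ne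
  obtain ⟨k, hk⟩ := ENat.ne_top_iff_exists.mp hq.ne
  obtain ⟨c1, hc1l, hc1n⟩ := exists_series_of_height_eq_coe m hn.symm
  obtain ⟨c2, hc2l, hc2n⟩ := exists_series_of_height_eq_coe q hk.symm
  have hc1 : (c1.length : ℕ∞) = height c1.last := by rw [hc1l, hc1n, hn]
  have hc2 : (c2.length : ℕ∞) = height c2.last := by rw [hc2l, hc2n, hk]
  have hrel : c2.last < m := by rw [hc2l]; exact hcov.lt
  let c2' : LTSeries (PrimeSpectrum A) := c2.snoc m hrel
  have hheads : c1.head = c2'.head := by
    refine huniq _ _ (isMin_head_of_length_eq_height c1 hc1) ?_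
    show IsMin (RelSeries.head (RelSeries.snoc c2 m hrel))
    rw [RelSeries.head_snoc]
    exact isMin_head_of_length_eq_height c2 hc2
  have hlasts : c1.last = c2'.last := by
    rw [hc1l]
    exact (RelSeries.last_snoc c2 m hrel).symm
  have hsat2 : ∀ i : Fin c2'.length, c2' (Fin.castSucc i) ⋖ c2' (Fin.succ i) := by
    intro i
    have hlen : c2'.length = c2.length + 1 := rfl
    obtain ⟨j, rfl⟩ : ∃ j : Fin (c2.length + 1), i = Fin.cast hlen.symm j := ⟨Fin.cast hlen i, rfl⟩
    induction j using Fin.lastCases with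
    | last =>
      have e1 : c2' (Fin.castSucc (Fin.cast hlen.symm (Fin.last c2.length))) = q := by
        have := RelSeries.snoc_castSucc c2 m hrel (Fin.last c2.length)
        rw [← hc2l]
        exact this
      have e2 : c2' (Fin.succ (Fin.cast hlen.symm (Fin.last c2.length))) = m :=
        RelSeries.last_snoc' c2 m hrel
      rw [e1, e2]
      exact hcov
    | cast j =>
      have e1 : c2' (Fin.castSucc (Fin.cast hlen.symm (Fin.castSucc j))) = c2 (Fin.castSucc j) :=
        RelSeries.snoc_castSucc c2 m hrel (Fin.castSucc j)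
      have e2 : c2' (Fin.succ (Fin.cast hlen.symm (Fin.castSucc j))) = c2 (Fin.succ j) :=
        RelSeries.snoc_castSucc c2 m hrel (Fin.succ j)
      rw [e1, e2]
      exact covBy_of_length_eq_height c2 hc2 j
  have := hcat.2 c1 c2' hheads hlasts (covBy_of_length_eq_height c1 hc1) hsat2
  have hlen : c2'.length = c2.length + 1 := rfl
  rw [hn.symm, hk.symm, ← hc1n, ← hc2n, this, hlen]
  push_cast
  rfl

end Groth.Agent.R2.H96.Catenary

namespace Groth.Agent.R2.H96.Catenary

open Ideal

/-- No prime lies strictly between `𝔭` and a prime `P` minimal over `𝔭 + (f)` (Krull). -/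
theorem not_lt_of_mem_minimalPrimes {R : Type u} [CommRing R] [IsNoetherianRing R]
    (P 𝔭 : Ideal R) [𝔭.IsPrime] (f : R)
    (hmin : P ∈ (𝔭 ⊔ Ideal.span {f}).minimalPrimes) (y : Ideal R) [y.IsPrime]
    (h1 : 𝔭 < y) (h2 : y < P) : False := by
  haveI : P.IsPrime := hmin.isPrime
  let g := Ideal.Quotient.mk 𝔭
  have hg : Function.Surjective g := Ideal.Quotient.mk_surjective
  have hker : RingHom.ker g = 𝔭 := Ideal.mk_ker
  have h𝔭P : 𝔭 ≤ P := le_sup_left.trans hmin.le
  have hP' : (P.map g).IsPrime := map_isPrime_of_surjective hg (by rw [hker]; exact h𝔭P)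
  have hy' : (y.map g).IsPrime := map_isPrime_of_surjective hg (by rw [hker]; exact h1.le)
  have hle : (P.map g).height ≤ 1 := Ideal.map_height_le_one_of_mem_minimalPrimes hmin
  have h_lt : y.map g < P.map g := (map_mono h2.le).lt_of_not_ge fun e ↦ h2.not_ge <| by
    simpa only [comap_map_of_surjective g hg, ← RingHom.ker_eq_comap_bot, hker,
      sup_eq_left.mpr h1.le, sup_eq_left.mpr h𝔭P] using comap_mono (f := g) e
  have : (P.map g).FiniteHeight := ⟨Or.inr (hle.trans_lt (WithTop.coe_lt_top 1)).ne⟩
  have h0 := (height_strict_mono_of_isPrime_of_isPrime h_lt).trans_le hle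
  rw [Order.lt_one_iff, height_eq_zero_iff] at h0
  have h3 := minimalPrimes_comap_of_surjective hg h0
  rw [comap_map_of_surjective g hg, ← RingHom.ker_eq_comap_bot, hker, sup_eq_left.mpr h1.le] at h3
  -- `y` is a minimal prime over the prime `𝔭`, so `y = 𝔭`
  have h4 : y ≤ 𝔭 := h3.2 ⟨inferInstance, le_refl _⟩ h1.le
  exact h1.not_ge h4

/-- Ring-level: `ht P = ht 𝔭 + 1` when `P` is minimal over `𝔭 + (f)`, `f ∉ 𝔭`, the local ring at
`P` is catenary and the ring has a unique minimal prime. -/
theorem height_eq_add_one {R : Type u} [CommRing R] [IsNoetherianRing R]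
    (huniq : ∀ p₁ p₂ : Ideal R, p₁ ∈ minimalPrimes R → p₂ ∈ minimalPrimes R → p₁ = p₂)
    (P 𝔭 : Ideal R) [P.IsPrime] [𝔭.IsPrime] (f : R) (hf : f ∉ 𝔭)
    (hmin : P ∈ (𝔭 ⊔ Ideal.span {f}).minimalPrimes)
    (A : Type u) [CommRing A] [Algebra R A] [IsLocalization.AtPrime A P]
    (hcat : CAlg.IsCatenary A) :
    P.height = 𝔭.height + 1 := by
  haveI : IsLocalRing A := IsLocalization.AtPrime.isLocalRing A P
  haveI : IsNoetherianRing A := IsLocalization.isNoetherianRing P.primeCompl A inferInstance
  have h𝔭P : 𝔭 ≤ P := le_sup_left.trans hmin.le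
  have hfP : f ∈ P := hmin.le (le_sup_right (a := 𝔭) (Ideal.mem_span_singleton_self f))
  have h𝔭ltP : 𝔭 < P := lt_of_le_of_ne h𝔭P (fun e => hf (e ▸ hfP))
  have hdisj : Disjoint (P.primeCompl : Set R) (𝔭 : Set R) := by
    rw [Set.disjoint_left]
    intro x hx hx'
    exact hx (h𝔭P hx')
  have hqprime : (𝔭.map (algebraMap R A)).IsPrime :=
    IsLocalization.isPrime_of_isPrime_disjoint P.primeCompl A 𝔭 inferInstance hdisj
  let q : PrimeSpectrum A := ⟨𝔭.map (algebraMap R A), hqprime⟩
  let m : PrimeSpectrum A := ⟨IsLocalRing.maximalIdeal A, inferInstance⟩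
  have hcq : q.asIdeal.comap (algebraMap R A) = 𝔭 :=
    IsLocalization.comap_map_of_isPrime_disjoint P.primeCompl A inferInstance hdisj
  have hcm : m.asIdeal.comap (algebraMap R A) = P := IsLocalization.AtPrime.comap_maximalIdeal A P
  have hmap : ∀ z : Ideal A, (z.comap (algebraMap R A)).map (algebraMap R A) = z :=
    fun z => IsLocalization.map_comap P.primeCompl A z
  have hqm : q < m := by
    refine lt_of_le_of_ne (IsLocalRing.le_maximalIdeal hqprime.ne_top) ?_
    intro e
    have : 𝔭 = P := by rw [← hcq, ← hcm, e]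
    exact h𝔭ltP.ne this
  have hcov : q ⋖ m := by
    refine ⟨hqm, fun z hqz hzm => ?_⟩
    haveI : (z.asIdeal.comap (algebraMap R A)).IsPrime := Ideal.IsPrime.comap _
    have hle1 : 𝔭 ≤ z.asIdeal.comap (algebraMap R A) := by
      rw [← hcq]; exact Ideal.comap_mono hqz.le
    have hle2 : z.asIdeal.comap (algebraMap R A) ≤ P := by
      rw [← hcm]; exact Ideal.comap_mono hzm.le
    have hne1 : 𝔭 ≠ z.asIdeal.comap (algebraMap R A) := by
      intro e
      have : q.asIdeal = z.asIdeal := by
        show 𝔭.map (algebraMap R A) = z.asIdeal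
        rw [e, hmap]
      exact hqz.ne (PrimeSpectrum.ext this)
    have hne2 : z.asIdeal.comap (algebraMap R A) ≠ P := by
      intro e
      have : z.asIdeal = m.asIdeal := by
        rw [← hmap z.asIdeal, e, ← hcm, hmap]
      exact hzm.ne (PrimeSpectrum.ext this)
    exact not_lt_of_mem_minimalPrimes P 𝔭 f hmin _ (lt_of_le_of_ne hle1 hne1)
      (lt_of_le_of_ne hle2 hne2)
  have huniqA : ∀ p₁ p₂ : PrimeSpectrum A, IsMin p₁ → IsMin p₂ → p₁ = p₂ := by
    intro p₁ p₂ h1 h2
    rw [PrimeSpectrum.isMin_iff] at h1 h2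
    have hb : (⊥ : Ideal R).map (algebraMap R A) = ⊥ := Ideal.map_bot
    have key := IsLocalization.minimalPrimes_map P.primeCompl A (⊥ : Ideal R)
    rw [hb] at key
    have h1' : p₁.asIdeal.comap (algebraMap R A) ∈ minimalPrimes R := by
      have : p₁.asIdeal ∈ (⊥ : Ideal A).minimalPrimes := h1
      rw [key] at this
      exact this
    have h2' : p₂.asIdeal.comap (algebraMap R A) ∈ minimalPrimes R := by
      have : p₂.asIdeal ∈ (⊥ : Ideal A).minimalPrimes := h2
      rw [key] at this
      exact this
    have := huniq _ _ h1' h2'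
    apply PrimeSpectrum.ext
    rw [← hmap p₁.asIdeal, this, hmap]
  have hmfin : Order.height m < ⊤ := by
    rw [← PrimeSpectrum.height_eq_orderHeight]
    exact Ideal.height_lt_top_of_isPrime
  have key := height_eq_add_one_of_catenary hcat huniqA q m hcov hmfin
  rw [← PrimeSpectrum.height_eq_orderHeight, ← PrimeSpectrum.height_eq_orderHeight] at key
  have e1 : m.asIdeal.height = P.height := by
    rw [← IsLocalization.height_under P.primeCompl m.asIdeal]
    show (m.asIdeal.comap (algebraMap R A)).height = _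
    rw [hcm]
  have e2 : q.asIdeal.height = 𝔭.height :=
    IsLocalization.height_map_of_disjoint P.primeCompl 𝔭 hdisj
  rw [e1, e2] at key
  exact key

end Groth.Agent.R2.H96.Catenary
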