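import Mathlib
import Groth.Agent.Lib.Helper5NilFlat

/-!
# Flatness over the dual numbers (helper96)

* `isBaseChange_of_bijective`: if `R → S` is surjective, an `R`-linear bijection `M → N` onto an
  `S`-module exhibits `N` as base change of `M`.
* `flat_of_eps`: a module `M` over `A[ε]` is flat as soon as `ε • m = 0` forces `m ∈ ε M` and
  `(A[ε]/ε) ⊗ M` is flat over `A[ε]/ε`.
* `exists_eps_smul_of_flat`: conversely, on a flat `A[ε]`-module, `ε • m = 0` forces `m ∈ ε M`.
-/

set_option autoImplicit false
universe u v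

namespace Groth.Agent.R2.H96.DualFlat

open TensorProduct DualNumber TrivSqZeroExt

theorem isBaseChange_of_bijective {R : Type*} {S : Type*} {M : Type*} {N : Type*}
    [CommRing R] [CommRing S] [Algebra R S] [AddCommGroup M] [Module R M] [AddCommGroup N]
    [Module R N] [Module S N] [IsScalarTower R S N]
    (hS : Function.Surjective (algebraMap R S)) (f : M →ₗ[R] N) (hf : Function.Bijective f) :
    IsBaseChange S f := by
  apply IsBaseChange.of_lift_unique
  intro Q _ _ _ _ g
  let e : M ≃ₗ[R] N := LinearEquiv.ofBijective f hf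
  let g0 : N →ₗ[R] Q := g ∘ₗ e.symm.toLinearMap
  refine ⟨{ toFun := g0, map_add' := g0.map_add, map_smul' := ?_ }, ?_, ?_⟩
  · intro s n
    obtain ⟨a, rfl⟩ := hS s
    simp only [algebraMap_smul, RingHom.id_apply]
    exact g0.map_smul a n
  · ext m
    simp only [LinearMap.coe_comp, LinearMap.coe_restrictScalars, Function.comp_apply,
      LinearMap.coe_mk, AddHom.coe_mk]
    show g (e.symm (f m)) = g m
    congr 1
    exact e.symm_apply_apply m
  · intro g' hg'
    ext n
    obtain ⟨m, rfl⟩ := hf.2 n
    have := LinearMap.congr_fun hg' m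
    simp only [LinearMap.coe_comp, LinearMap.coe_restrictScalars, Function.comp_apply] at this
    rw [this]
    simp only [LinearMap.coe_mk, AddHom.coe_mk]
    show g m = g (e.symm (f m))
    congr 1
    exact (e.symm_apply_apply m).symm

section

variable {A : Type u} [CommRing A] {M : Type v} [AddCommGroup M] [Module (DualNumber A) M]

theorem eps_mem_span : (ε : DualNumber A) ∈ Ideal.span {(ε : DualNumber A)} :=
  Ideal.subset_span rfl

theorem isNilpotent_span_eps : IsNilpotent (Ideal.span {(ε : DualNumber A)}) := by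
  refine ⟨2, ?_⟩
  rw [Ideal.span_singleton_pow, sq, eps_mul_eps, Ideal.zero_eq_bot, Ideal.span_singleton_eq_bot]

/-- Every element of `M ⊗ (ε)` is a pure tensor `m ⊗ ε`. -/
theorem exists_tmul_eps (z : M ⊗[DualNumber A] (Ideal.span {(ε : DualNumber A)})) :
    ∃ m : M, z = m ⊗ₜ ⟨ε, eps_mem_span⟩ := by
  induction z using TensorProduct.induction_on with
  | zero => exact ⟨0, (TensorProduct.zero_tmul _ _).symm⟩
  | tmul m i =>
    obtain ⟨i, hi⟩ := i
    obtain ⟨c, rfl⟩ := Ideal.mem_span_singleton'.mp hi
    refine ⟨c • m, ?_⟩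
    rw [TensorProduct.smul_tmul]
    rfl
  | add x y hx hy =>
    obtain ⟨m, rfl⟩ := hx
    obtain ⟨m', rfl⟩ := hy
    exact ⟨m + m', (TensorProduct.add_tmul _ _ _).symm⟩

/-- Flatness criterion over the dual numbers. -/
theorem flat_of_eps
    (h1 : ∀ m : M, (ε : DualNumber A) • m = 0 → ∃ m' : M, m = (ε : DualNumber A) • m')
    (h2 : Module.Flat (DualNumber A ⧸ Ideal.span {(ε : DualNumber A)})
      ((DualNumber A ⧸ Ideal.span {(ε : DualNumber A)}) ⊗[DualNumber A] M)) :
    Module.Flat (DualNumber A) M := by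
  refine Groth.Agent.Lib.Helper5.flat_of_isNilpotent _ isNilpotent_span_eps ?_ h2
  rw [injective_iff_map_eq_zero]
  intro z hz
  obtain ⟨m, rfl⟩ := exists_tmul_eps z
  have h0 : (ε : DualNumber A) • m = 0 := by
    have := congrArg (TensorProduct.rid (DualNumber A) M) hz
    simpa using this
  obtain ⟨m', rfl⟩ := h1 m h0
  rw [TensorProduct.smul_tmul]
  have : (ε : DualNumber A) • (⟨ε, eps_mem_span⟩ : Ideal.span {(ε : DualNumber A)}) = 0 := by
    apply Subtype.ext
    show (ε : DualNumber A) * ε = 0
    exact eps_mul_eps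
  rw [this, TensorProduct.tmul_zero]

/-- On a flat module over the dual numbers, the kernel of `ε` is `ε M`. -/
theorem exists_eps_smul_of_flat [Module.Flat (DualNumber A) M] (m : M)
    (hm : (ε : DualNumber A) • m = 0) : ∃ m' : M, m = (ε : DualNumber A) • m' := by
  have hrel : ∑ i : Fin 1, (fun _ => (ε : DualNumber A)) i • (fun _ => m) i = 0 := by
    simpa using hm
  obtain ⟨κ, a, y, hy, ha⟩ := Module.Flat.isTrivialRelation_of_sum_smul_eq_zero hrel
  -- `ε * a 0 j = 0` hence `a 0 j = ε * c j`
  have key : ∀ j, ∃ c : DualNumber A, a 0 j = ε * c := by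
    intro j
    have hj := ha j
    simp only [Finset.univ_unique, Fin.default_eq_zero, Finset.sum_singleton] at hj
    refine ⟨inl (a 0 j).snd, ?_⟩
    have hfst : (a 0 j).fst = 0 := by
      have := congrArg TrivSqZeroExt.snd hj
      simpa using this
    ext
    · simp [hfst]
    · simp
  choose c hc using key
  refine ⟨∑ j, c j • y j, ?_⟩
  have := hy 0
  simp only at this
  rw [this, Finset.smul_sum]
  refine Finset.sum_congr rfl fun j _ => ?_
  rw [hc j, mul_smul]

end

end Groth.Agent.R2.H96.DualFlat
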