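import Mathlib
import Groth.Agent.R2.H96GrpdFitt3Spec
import Groth.Agent.R2.H96GrpdThick

/-!
# PROJ:grpd-fitt, round 3 — [CORE] (helper96)
-/

set_option autoImplicit false
set_option linter.style.haveILetI false
set_option linter.unusedSectionVars false
universe u

open CategoryTheory CategoryTheory.Limits AlgebraicGeometry TopologicalSpace
open Groth.Agent.R2.H33.GrpdInvOpen Groth.Agent.R2.H96.GrpdFitt3Spec

namespace Groth.Agent.R2.H96.GrpdFitt3Core

theorem core_of (hGF : GenFinStmt.{u}) (hInc : IncompStmt.{u}) (hRM : RestrMonoStmt.{u})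
    (hStrong : S1885StrongStmt.{u}) (hOm : OmegaAffStmt.{u}) : CoreStmt.{u} := by
  intro S G _ _ _ A _ j _ I hI hcl u hchain
  haveI : LocallyOfFinitePresentation G.s := inferInstance
  haveI : LocallyOfFinitePresentation G.t := inferInstance
  -- the orbit
  let T : Set G.U := G.t '' (G.s ⁻¹' {u})
  have hTfin : T.Finite := (G.s.finite_preimage_singleton u).image _
  have huT : u ∈ T := ⟨G.e u, s_e_pt G u, t_e_pt G u⟩
  have hTcl : ∀ r : G.R, G.s r ∈ T → G.t r ∈ T := by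
    rintro r ⟨r₀, hr₀, hr₀'⟩
    obtain ⟨r₃, h1, h2⟩ := exists_comp_pt G r r₀ hr₀'.symm
    exact ⟨r₃, h1.trans hr₀, h2⟩
  have hTcl' : ∀ r : G.R, G.t r ∈ T → G.s r ∈ T := by
    intro r hr
    have := hTcl (G.i r) (by rw [s_i_pt]; exact hr)
    rwa [t_i_pt] at this
  have hTrel : ∀ a ∈ T, ∀ b ∈ T, ∃ r : G.R, G.s r = a ∧ G.t r = b := by
    rintro a ⟨ra, hra, rfl⟩ b ⟨rb, hrb, rfl⟩
    have hra' : G.s ra = u := hra
    have hrb' : G.s rb = u := hrb
    obtain ⟨r₃, h1, h2⟩ := exists_comp_pt G rb (G.i ra) (by rw [t_i_pt, hra', hrb'])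
    exact ⟨r₃, by rw [h1, s_i_pt], h2⟩
  have hch : ∀ z ∈ T, ∀ x y : G.U, y ⤳ x → y ≠ x → x ⤳ z → x ≠ z → False := by
    rintro _ ⟨r, hr, rfl⟩
    exact hchain r hr
  -- `T` is an antichain
  have hanti : ∀ a ∈ T, ∀ b ∈ T, a ⤳ b → a = b := by
    intro a ha b hb hab
    by_contra hne
    obtain ⟨r, hra, hrb⟩ := hTrel a ha b hb
    obtain ⟨r', hrr', hr'⟩ := G.s.isClosedMap.specializingMap (show G.s r ⤳ b by rw [hra]; exact hab)
    have hc : G.t r' ∈ T := hTcl r' (by rw [hr']; exact hb)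
    have hbc : b ⤳ G.t r' := by rw [← hrb]; exact hrr'.map G.t.continuous
    by_cases hbc' : b = G.t r'
    · have hrr : r = r' := hInc G.t r r' hrr' (by rw [hrb, ← hbc'])
      apply hne
      rw [← hra, hrr, hr']
    · exact hch _ hc b a hab hne hbc hbc'
  -- the generic points above `T`
  let Ξ : Set G.U := {ξ | ξ ∉ T ∧ (∀ y : G.U, y ⤳ ξ → y = ξ) ∧ ∃ z ∈ T, ξ ⤳ z}
  have hΞfin : Ξ.Finite := by
    refine (hTfin.biUnion (fun z _ => hGF z inferInstance)).subset ?_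
    rintro ξ ⟨-, hgen, z, hz, hξz⟩
    exact Set.mem_biUnion hz ⟨hξz, hgen⟩
  have hΞorb : ∀ ξ ∈ Ξ, ∀ r : G.R, G.s r = ξ → ∀ x : G.U, x ⤳ G.t r → x = G.t r := by
    rintro ξ ⟨hξT, hgen, z, hz, hξz⟩ r hr y hy
    by_contra hne
    obtain ⟨r', hrr', hr'⟩ := G.s.isClosedMap.specializingMap (show G.s r ⤳ z by rw [hr]; exact hξz)
    have hc : G.t r' ∈ T := hTcl r' (by rw [hr']; exact hz)
    have hxc : G.t r ⤳ G.t r' := hrr'.map G.t.continuous
    by_cases h' : G.t r = G.t r'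
    · apply hξT
      rw [← hr]
      exact hTcl' r (by rw [h']; exact hc)
    · exact hch _ hc (G.t r) y hy hne hxc h'
  obtain ⟨m, uΞ, -, huΞ⟩ := hΞfin.fin_param
  obtain ⟨h₁, hh₁, hVaff, hΞV, hVinv, J, hJ, ⟨φ, hφ⟩, hfls, -⟩ := hStrong G m uΞ
    (fun i r hr => hΞorb (uΞ i) (by rw [← huΞ]; exact ⟨i, rfl⟩) r hr) A j I hI hcl
  by_cases hTV : ∃ z ∈ T, z ∈ j ⁻¹ᵁ PrimeSpectrum.basicOpen h₁
  · obtain ⟨z, hz, hzV⟩ := hTV
    obtain ⟨r, hrz, hru⟩ := hTrel z hz u huT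
    refine ⟨j ⁻¹ᵁ PrimeSpectrum.basicOpen h₁, hVaff, ?_, hVinv⟩
    have h1 : r ∈ G.s ⁻¹ᵁ (j ⁻¹ᵁ PrimeSpectrum.basicOpen h₁) := by
      show G.s r ∈ j ⁻¹ᵁ PrimeSpectrum.basicOpen h₁
      rw [hrz]; exact hzV
    rw [hVinv] at h1
    have h2 : G.t r ∈ j ⁻¹ᵁ PrimeSpectrum.basicOpen h₁ := h1
    rwa [hru] at h2
  · push Not at hTV
    have hs_iff : ∀ r : G.R, G.s r ∈ j ⁻¹ᵁ PrimeSpectrum.basicOpen h₁ ↔
        G.t r ∈ j ⁻¹ᵁ PrimeSpectrum.basicOpen h₁ := fun r => by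
      have : r ∈ G.s ⁻¹ᵁ (j ⁻¹ᵁ PrimeSpectrum.basicOpen h₁) ↔
          r ∈ G.t ⁻¹ᵁ (j ⁻¹ᵁ PrimeSpectrum.basicOpen h₁) := by rw [hVinv]
      exact this
    -- the reduced closed complement
    let Zc : Closeds G.U := ⟨((j ⁻¹ᵁ PrimeSpectrum.basicOpen h₁ : G.U.Opens) : Set G.U)ᶜ,
      (j ⁻¹ᵁ PrimeSpectrum.basicOpen h₁).isOpen.isClosed_compl⟩
    have hrange : Set.range (Scheme.IdealSheafData.vanishingIdeal Zc).subschemeι =
        ((j ⁻¹ᵁ PrimeSpectrum.basicOpen h₁ : G.U.Opens) : Set G.U)ᶜ := by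
      rw [Scheme.IdealSheafData.range_subschemeι, Scheme.IdealSheafData.coe_support_vanishingIdeal]
      rfl
    obtain ⟨G', f, hfcl, hfrange, hfs, hft, hpt⟩ :=
      hRM G (Scheme.IdealSheafData.vanishingIdeal Zc).subschemeι
    haveI := hfcl
    haveI := hfs
    haveI := hft
    haveI : IsLocallyNoetherian G'.U := LocallyOfFiniteType.isLocallyNoetherian f.fU
    haveI : LocallyOfFinitePresentation G'.s := inferInstance
    haveI : LocallyOfFinitePresentation G'.t := inferInstance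
    have hfinj : Function.Injective f.fU := f.fU.isEmbedding.injective
    have hfmem : ∀ x : G'.U, f.fU x ∉ j ⁻¹ᵁ PrimeSpectrum.basicOpen h₁ := by
      intro x
      have : f.fU x ∈ Set.range f.fU := ⟨x, rfl⟩
      rw [hfrange, hrange] at this
      exact this
    have hfsurj : ∀ y : G.U, y ∉ j ⁻¹ᵁ PrimeSpectrum.basicOpen h₁ → ∃ x : G'.U, f.fU x = y := by
      intro y hy
      have : y ∈ Set.range f.fU := by
        rw [hfrange, hrange]
        exact hy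
      exact this
    have hcomm_s : ∀ r' : G'.R, G.s (f.fR r') = f.fU (G'.s r') := fun r' => by
      have := congrArg (fun ψ : G'.R ⟶ G.U => ψ r') f.comm_s
      simpa only [Scheme.Hom.comp_apply] using this
    have hcomm_t : ∀ r' : G'.R, G.t (f.fR r') = f.fU (G'.t r') := fun r' => by
      have := congrArg (fun ψ : G'.R ⟶ G.U => ψ r') f.comm_t
      simpa only [Scheme.Hom.comp_apply] using this
    let T' : Set G'.U := f.fU ⁻¹' T
    have hT'fin : T'.Finite := hTfin.preimage hfinj.injOn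
    obtain ⟨m', uT, -, huT'⟩ := hT'fin.fin_param
    have hT'orb : ∀ i (r' : G'.R), G'.s r' = uT i → ∀ x : G'.U, x ⤳ G'.t r' → x = G'.t r' := by
      intro i r' hr' x hx
      have h0 : f.fU (uT i) ∈ T := by
        have : uT i ∈ T' := by rw [← huT']; exact ⟨i, rfl⟩
        exact this
      have h1 : f.fU (G'.t r') ∈ T := by
        rw [← hcomm_t]
        refine hTcl _ ?_
        rw [hcomm_s, hr']
        exact h0
      by_contra hne
      have hne' : f.fU x ≠ f.fU (G'.t r') := fun h => hne (hfinj h)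
      have hsp : f.fU x ⤳ f.fU (G'.t r') := hx.map f.fU.continuous
      have hygen : ∀ y' : G.U, y' ⤳ f.fU x → y' = f.fU x := by
        intro y' hy'
        by_contra h
        exact hch _ h1 (f.fU x) y' hy' h hsp hne'
      by_cases hyT : f.fU x ∈ T
      · exact hne' (hanti _ hyT _ h1 hsp)
      · have hxΞ : f.fU x ∈ Ξ := ⟨hyT, hygen, _, h1, hsp⟩
        rw [← huΞ] at hxΞ
        obtain ⟨i', hi'⟩ := hxΞ
        exact hfmem x (by rw [← hi']; exact hΞV i')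
    -- S1885 on the closed complement
    haveI : IsImmersion (f.fU ≫ j) := inferInstance
    have hI' : ∀ x : G'.U, (f.fU ≫ j) x ∉ PrimeSpectrum.zeroLocus (I : Set A) := fun x => by
      rw [Scheme.Hom.comp_apply]
      exact hI _
    have hcl' : IsClosed (PrimeSpectrum.zeroLocus (I : Set A) ∪ Set.range (f.fU ≫ j)) := by
      have e : PrimeSpectrum.zeroLocus (I : Set A) ∪ Set.range (f.fU ≫ j) =
          (PrimeSpectrum.zeroLocus (I : Set A) ∪ Set.range j) ∩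
            ((PrimeSpectrum.basicOpen h₁ : Set (PrimeSpectrum A)))ᶜ := by
        ext p
        constructor
        · rintro (hp | ⟨x, rfl⟩)
          · refine ⟨Or.inl hp, ?_⟩
            intro hp'
            exact hp' (hp hh₁)
          · rw [Scheme.Hom.comp_apply]
            exact ⟨Or.inr ⟨_, rfl⟩, fun hp' => hfmem x hp'⟩
        · rintro ⟨hp | ⟨y, rfl⟩, hp'⟩
          · exact Or.inl hp
          · obtain ⟨x, hx⟩ := hfsurj y (fun h => hp' h)
            refine Or.inr ⟨x, ?_⟩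
            rw [Scheme.Hom.comp_apply, hx]
      rw [e]
      exact hcl.inter (PrimeSpectrum.basicOpen h₁).isOpen.isClosed_compl
    obtain ⟨g₂, hg₂, -, hTg₂, hinv₂, -⟩ := hStrong G' m' uT hT'orb A (f.fU ≫ j) I hI' hcl'
    have hc : ∀ r : G.R, G.s r ∉ j ⁻¹ᵁ PrimeSpectrum.basicOpen h₁ →
        G.s r ∈ j ⁻¹ᵁ PrimeSpectrum.basicOpen g₂ → G.t r ∈ j ⁻¹ᵁ PrimeSpectrum.basicOpen g₂ := by
      intro r hrV hrg
      have htV : G.t r ∉ j ⁻¹ᵁ PrimeSpectrum.basicOpen h₁ := fun h => hrV ((hs_iff r).2 h)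
      obtain ⟨z, hz⟩ := hfsurj _ hrV
      obtain ⟨z', hz'⟩ := hfsurj _ htV
      obtain ⟨r', hr'1, hr'2, hr'3⟩ := hpt r z z' hz.symm hz'.symm
      have h1 : r' ∈ G'.s ⁻¹ᵁ ((f.fU ≫ j) ⁻¹ᵁ PrimeSpectrum.basicOpen g₂) := by
        show (f.fU ≫ j) (G'.s r') ∈ PrimeSpectrum.basicOpen g₂
        rw [hr'2, Scheme.Hom.comp_apply, hz]
        exact hrg
      rw [hinv₂] at h1
      have h2 : (f.fU ≫ j) (G'.t r') ∈ PrimeSpectrum.basicOpen g₂ := h1
      rw [hr'3, Scheme.Hom.comp_apply, hz'] at h2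
      exact h2
    have hTg : ∀ z ∈ T, z ∈ j ⁻¹ᵁ PrimeSpectrum.basicOpen g₂ := by
      intro z hz
      obtain ⟨z₀, hz₀⟩ := hfsurj z (hTV z hz)
      have : z₀ ∈ T' := by
        show f.fU z₀ ∈ T
        rw [hz₀]; exact hz
      rw [← huT'] at this
      obtain ⟨i, hi⟩ := this
      have h1 := hTg₂ i
      rw [hi] at h1
      have h2 : (f.fU ≫ j) z₀ ∈ PrimeSpectrum.basicOpen g₂ := h1
      rw [Scheme.Hom.comp_apply, hz₀] at h2
      exact h2
    obtain ⟨Ω, hΩ, hΩaff⟩ := hOm G A j I hcl h₁ g₂ hh₁ hg₂ hVinv J hJ φ hφ hfls hc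
    refine ⟨Ω, hΩaff, ?_, ?_⟩
    · show u ∈ (Ω : Set G.U)
      rw [hΩ]
      intro r hr
      exact hTg _ ⟨r, hr, rfl⟩
    · apply Opens.ext
      show G.s ⁻¹' (Ω : Set G.U) = G.t ⁻¹' (Ω : Set G.U)
      rw [hΩ]
      exact sat_invariant G _

end Groth.Agent.R2.H96.GrpdFitt3Core
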