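import Mathlib
import Groth.Agent.R2.H96GrpdFitt3Spec

/-!
# PROJ:grpd-fitt, round 3 — [DIM2], [GENFIN] (helper96)
-/

set_option autoImplicit false
set_option linter.style.haveILetI false
universe u

open CategoryTheory CategoryTheory.Limits AlgebraicGeometry TopologicalSpace
open Groth.Agent.R2.H96.GrpdFitt3Spec

namespace Groth.Agent.R2.H96.GrpdFitt3Dim2

theorem exists_fromSpecStalk_eq {X : Scheme.{u}} {y z : X} (h : y ⤳ z) :
    ∃ q : PrimeSpectrum (X.presheaf.stalk z), X.fromSpecStalk z q = y := by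
  have hrange := Scheme.range_fromSpecStalk (X := X) (x := z)
  have : y ∈ Set.range (X.fromSpecStalk z) := by rw [hrange]; exact h
  exact this

theorem specializes_fromSpecStalk_iff {X : Scheme.{u}} {z : X}
    (q q' : PrimeSpectrum (X.presheaf.stalk z)) :
    X.fromSpecStalk z q ⤳ X.fromSpecStalk z q' ↔ q ≤ q' := by
  rw [PrimeSpectrum.le_iff_specializes]
  exact (X.fromSpecStalk z).isEmbedding.isInducing.specializes_iff

theorem dim2Stmt : Dim2Stmt.{u} := by
  intro X x y z hyx hyx' hxz hxz' hdim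
  obtain ⟨qx, hqx⟩ := exists_fromSpecStalk_eq hxz
  obtain ⟨qy, hqy⟩ := exists_fromSpecStalk_eq (hyx.trans hxz)
  obtain ⟨qz, hqz⟩ := exists_fromSpecStalk_eq (specializes_rfl : z ⤳ z)
  have l1 : qy < qx := by
    refine lt_of_le_of_ne ((specializes_fromSpecStalk_iff qy qx).1 (by rw [hqy, hqx]; exact hyx)) ?_
    intro h
    exact hyx' (hqy.symm.trans ((congrArg (X.fromSpecStalk z) h).trans hqx))
  have l2 : qx < qz := by
    refine lt_of_le_of_ne ((specializes_fromSpecStalk_iff qx qz).1 (by rw [hqx, hqz]; exact hxz)) ?_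
    intro h
    exact hxz' (hqx.symm.trans ((congrArg (X.fromSpecStalk z) h).trans hqz))
  let l0 : LTSeries (PrimeSpectrum (X.presheaf.stalk z)) := RelSeries.singleton _ qy
  let l1' : LTSeries (PrimeSpectrum (X.presheaf.stalk z)) := l0.snoc qx (by simpa [l0] using l1)
  let l2' : LTSeries (PrimeSpectrum (X.presheaf.stalk z)) :=
    l1'.snoc qz (by simpa [l1', l0] using l2)
  have hlen : l2'.length = 2 := by simp [l2', l1', l0]
  have h2 : ((2 : ℕ) : WithBot ℕ∞) ≤ ringKrullDim (X.presheaf.stalk z) := by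
    rw [ringKrullDim, ← hlen]
    exact Order.LTSeries.length_le_krullDim l2'
  have h3 := h2.trans hdim
  norm_num at h3

theorem genFinStmt : GenFinStmt.{u} := by
  intro X z hN
  have hfin : (minimalPrimes (X.presheaf.stalk z)).Finite :=
    minimalPrimes.finite_of_isNoetherianRing _
  have hfin' : {q : PrimeSpectrum (X.presheaf.stalk z) |
      q.asIdeal ∈ minimalPrimes (X.presheaf.stalk z)}.Finite := by
    refine Set.Finite.preimage ?_ hfin
    intro a _ b _ hab
    exact PrimeSpectrum.ext hab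
  refine (hfin'.image (X.fromSpecStalk z)).subset ?_
  rintro ξ ⟨hξz, hξ⟩
  obtain ⟨q, hq⟩ := exists_fromSpecStalk_eq hξz
  refine ⟨q, ?_, hq⟩
  show q.asIdeal ∈ minimalPrimes (X.presheaf.stalk z)
  refine ⟨⟨q.isPrime, bot_le⟩, ?_⟩
  intro p' hp' hle
  let q' : PrimeSpectrum (X.presheaf.stalk z) := ⟨p', hp'.1⟩
  have h1 : X.fromSpecStalk z q' ⤳ X.fromSpecStalk z q :=
    (specializes_fromSpecStalk_iff q' q).2 hle
  have h2 : X.fromSpecStalk z q' = X.fromSpecStalk z q := by
    rw [hq]
    exact hξ _ (hq ▸ h1)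
  have h3 : q' = q := (X.fromSpecStalk z).isEmbedding.injective h2
  rw [← h3]

end Groth.Agent.R2.H96.GrpdFitt3Dim2
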