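import Mathlib
import Groth.Agent.R2.H96GrpdFitt3Spec

/-!
# PROJ:grpd-fitt, round 3 — [INCOMP] (helper96)
-/

set_option autoImplicit false
set_option linter.style.haveILetI false
universe u

open CategoryTheory CategoryTheory.Limits AlgebraicGeometry TopologicalSpace
open Groth.Agent.R2.H33.GrpdInvOpen Groth.Agent.R2.H96.GrpdFitt3Spec

namespace Groth.Agent.R2.H96.GrpdFitt3Incomp

theorem incompStmt : IncompStmt.{u} := by
  intro X Y f _ r r' hrr' hf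
  obtain ⟨V, hV, hfV, -⟩ := exists_isAffineOpen_mem_and_subset (x := f r') (U := ⊤) trivial
  have hR : IsAffineOpen (f ⁻¹ᵁ V) := hV.preimage f
  have hr' : r' ∈ f ⁻¹ᵁ V := hfV
  have hr : r ∈ f ⁻¹ᵁ V := hrr'.mem_open (f ⁻¹ᵁ V).isOpen hr'
  obtain ⟨q, hq⟩ := exists_fromSpec_eq hR r hr
  obtain ⟨q', hq'⟩ := exists_fromSpec_eq hR r' hr'
  have hqq' : q ⤳ q' := by
    have h0 : hR.fromSpec q ⤳ hR.fromSpec q' := by rw [hq, hq']; exact hrr'
    exact hR.fromSpec.isOpenEmbedding.isInducing.specializes_iff.1 h0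
  have hle : q.asIdeal ≤ q'.asIdeal := (PrimeSpectrum.le_iff_specializes q q').2 hqq'
  letI : Algebra Γ(Y, V) Γ(X, f ⁻¹ᵁ V) := (f.app V).hom.toAlgebra
  have hfin : Module.Finite Γ(Y, V) Γ(X, f ⁻¹ᵁ V) := IsFinite.finite_app (f := f) V hV
  haveI : Algebra.IsIntegral Γ(Y, V) Γ(X, f ⁻¹ᵁ V) := Algebra.IsIntegral.of_finite _ _
  have happ : f.app V = f.appLE V (f ⁻¹ᵁ V) le_rfl := Scheme.Hom.app_eq_appLE f
  have hnat := IsAffineOpen.SpecMap_appLE_fromSpec f hV hR le_rfl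
  rw [← happ] at hnat
  have hnat' : ∀ p : PrimeSpectrum Γ(X, f ⁻¹ᵁ V),
      f (hR.fromSpec p) = hV.fromSpec (Spec.map (f.app V) p) := by
    intro p
    have := congrArg (fun φ : Spec Γ(X, f ⁻¹ᵁ V) ⟶ Y => φ p) hnat
    exact this.symm
  have h1 : Spec.map (f.app V) q = Spec.map (f.app V) q' := by
    apply fromSpec_injective hV
    rw [← hnat', ← hnat', hq, hq', hf]
  have hcomap : q.asIdeal.comap (algebraMap Γ(Y, V) Γ(X, f ⁻¹ᵁ V)) =
      q'.asIdeal.comap (algebraMap Γ(Y, V) Γ(X, f ⁻¹ᵁ V)) :=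
    congrArg PrimeSpectrum.asIdeal h1
  by_contra hne
  have hlt : q.asIdeal < q'.asIdeal := lt_of_le_of_ne hle (fun h => hne (by
    rw [← hq, ← hq', PrimeSpectrum.ext h]))
  haveI := q.isPrime
  have h2 := Ideal.IsIntegral.comap_lt_comap (R := Γ(Y, V)) hlt
  rw [hcomap] at h2
  exact lt_irrefl _ h2

end Groth.Agent.R2.H96.GrpdFitt3Incomp
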