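import Mathlib
import Groth.Agent.R2.H96GrpdFitt3Spec
import Groth.Agent.R2.H96GrpdThick
import Groth.Agent.R2.H96GrpdFitt2Spec
import Groth.Agent.R2.H96GrpdFitt2SpecB
import Groth.Agent.R2.H96GrpdFitt2J2
import Groth.Agent.R2.H86GrpdFitt2ImmAff
import Groth.Agent.R2.H94GrpdFitt2NormLift

/-!
# PROJ:grpd-fitt, round 3 — [OMEGAAFF] (helper96)
-/

set_option autoImplicit false
set_option linter.style.haveILetI false
set_option linter.unusedSectionVars false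
universe u

open CategoryTheory CategoryTheory.Limits AlgebraicGeometry TopologicalSpace
open Groth.Agent.R2.H33.GrpdInvOpen Groth.Agent.R2.H96.GrpdFitt3Spec Groth.Agent.R2.H96.GrpdThick

namespace Groth.Agent.R2.H96.GrpdFitt3Omega

theorem omegaAffStmt : OmegaAffStmt.{u} := by
  intro S G _ _ A _ j _ I hcl h₁ g₂ hh₁ hg₂ hVinv J hJ φ hφ hfls hc
  have hX₂aff : IsAffineOpen (j ⁻¹ᵁ PrimeSpectrum.basicOpen g₂) :=
    (Groth.Agent.R2.H86.GrpdFitt2ImmAff.immAffStmt A j I hcl g₂ hg₂).1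
  have hs_iff : ∀ r : G.R, G.s r ∈ j ⁻¹ᵁ PrimeSpectrum.basicOpen h₁ ↔
      G.t r ∈ j ⁻¹ᵁ PrimeSpectrum.basicOpen h₁ := fun r => by
    have : r ∈ G.s ⁻¹ᵁ (j ⁻¹ᵁ PrimeSpectrum.basicOpen h₁) ↔
        r ∈ G.t ⁻¹ᵁ (j ⁻¹ᵁ PrimeSpectrum.basicOpen h₁) := by rw [hVinv]
    exact this
  -- the restricted groupoid on the thickening
  let G'' : Grpd.GroupoidScheme S := restr G (ι' G (j ⁻¹ᵁ PrimeSpectrum.basicOpen h₁) J) φ hφ
  haveI : IsFinite G''.s := hfls.1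
  haveI : Flat G''.s := hfls.2.1
  haveI : LocallyOfFinitePresentation G''.s := hfls.2.2
  have hh₀ : h₁ * g₂ ∈ I := I.mul_mem_right _ hh₁
  have hmul : ∀ (c d : A) (w : G.U), w ∈ j ⁻¹ᵁ PrimeSpectrum.basicOpen (c * d) ↔
      w ∈ j ⁻¹ᵁ PrimeSpectrum.basicOpen c ∧ w ∈ j ⁻¹ᵁ PrimeSpectrum.basicOpen d := by
    intro c d w
    show j w ∈ PrimeSpectrum.basicOpen (c * d) ↔ _
    rw [PrimeSpectrum.basicOpen_mul]
    exact Iff.rfl
  have hh₀V : j ⁻¹ᵁ PrimeSpectrum.basicOpen (h₁ * g₂) ≤ j ⁻¹ᵁ PrimeSpectrum.basicOpen h₁ :=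
    fun w hw => ((hmul h₁ g₂ w).1 hw).1
  obtain ⟨haff₀, hsurj₀⟩ :=
    Groth.Agent.R2.H86.GrpdFitt2ImmAff.immAffStmt A j I hcl (h₁ * g₂) hh₀
  obtain ⟨haff₂, hsurj₂⟩ := Groth.Agent.R2.H96.GrpdFitt2J2.j2SurjStmt
    (j ⁻¹ᵁ PrimeSpectrum.basicOpen h₁) J A j (h₁ * g₂) hh₀V haff₀ hsurj₀
  obtain ⟨a, ha⟩ := Groth.Agent.R2.H94.GrpdFitt2NormLift.normLiftStmt G'' A
    (J.subschemeι ≫ (j ⁻¹ᵁ PrimeSpectrum.basicOpen h₁).ι ≫ j) (h₁ * g₂) haff₂ hsurj₂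
  have hjpt : ∀ x : J.subscheme, (J.subschemeι ≫ (j ⁻¹ᵁ PrimeSpectrum.basicOpen h₁).ι ≫ j) x =
      j (ι' G (j ⁻¹ᵁ PrimeSpectrum.basicOpen h₁) J x) := by
    intro x
    rw [← Category.assoc, Scheme.Hom.comp_apply]
  have haI : a * (h₁ * g₂) ∈ I := I.mul_mem_left a hh₀
  -- the open `Ω`
  let Ω : G.U.Opens := ⟨sat G ((j ⁻¹ᵁ PrimeSpectrum.basicOpen g₂ : G.U.Opens) : Set G.U),
    sat_isOpen G _ (j ⁻¹ᵁ PrimeSpectrum.basicOpen g₂).isOpen⟩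
  have hΩX : Ω ≤ j ⁻¹ᵁ PrimeSpectrum.basicOpen g₂ := sat_subset G _
  -- Claim A
  have hA : Ω ⊓ j ⁻¹ᵁ PrimeSpectrum.basicOpen h₁ = j ⁻¹ᵁ PrimeSpectrum.basicOpen (a * (h₁ * g₂)) := by
    ext w
    constructor
    · rintro ⟨hwΩ, hwV⟩
      obtain ⟨x, hx⟩ := exists_ι'_eq G _ J hJ w hwV
      have hxs : x ∈ sat G'' (((J.subschemeι ≫ (j ⁻¹ᵁ PrimeSpectrum.basicOpen h₁).ι ≫ j) ⁻¹ᵁ
          PrimeSpectrum.basicOpen (h₁ * g₂) : J.subscheme.Opens) : Set J.subscheme) := by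
        intro r' hr'
        show (J.subschemeι ≫ (j ⁻¹ᵁ PrimeSpectrum.basicOpen h₁).ι ≫ j)
          (t' G (ι' G (j ⁻¹ᵁ PrimeSpectrum.basicOpen h₁) J) φ r') ∈ PrimeSpectrum.basicOpen (h₁ * g₂)
        rw [hjpt, ι_t'_pt G _ φ hφ]
        have hsr : G.s (pullback.fst G.s (ι' G (j ⁻¹ᵁ PrimeSpectrum.basicOpen h₁) J) r') = w := by
          rw [← ι_snd_pt, ← hx]
          exact congrArg _ hr'
        refine (hmul h₁ g₂ _).2 ⟨?_, ?_⟩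
        · rw [← hs_iff, hsr]
          exact hwV
        · exact hwΩ _ hsr
      have h1 := (Set.ext_iff.1 ha x).2 hxs
      have h2 : (J.subschemeι ≫ (j ⁻¹ᵁ PrimeSpectrum.basicOpen h₁).ι ≫ j) x ∈
          PrimeSpectrum.basicOpen (a * (h₁ * g₂)) := h1
      rw [hjpt, hx] at h2
      exact h2
    · intro hw
      have hwV : w ∈ j ⁻¹ᵁ PrimeSpectrum.basicOpen h₁ := hh₀V ((hmul a (h₁ * g₂) w).1 hw).2
      obtain ⟨x, hx⟩ := exists_ι'_eq G _ J hJ w hwV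
      have hxs : x ∈ sat G'' (((J.subschemeι ≫ (j ⁻¹ᵁ PrimeSpectrum.basicOpen h₁).ι ≫ j) ⁻¹ᵁ
          PrimeSpectrum.basicOpen (h₁ * g₂) : J.subscheme.Opens) : Set J.subscheme) := by
        refine (Set.ext_iff.1 ha x).1 ?_
        show (J.subschemeι ≫ (j ⁻¹ᵁ PrimeSpectrum.basicOpen h₁).ι ≫ j) x ∈
          PrimeSpectrum.basicOpen (a * (h₁ * g₂))
        rw [hjpt, hx]
        exact hw
      refine ⟨?_, hwV⟩
      intro r hr
      obtain ⟨r', hr'1, hr'2⟩ := Scheme.Pullback.exists_preimage_pullback (f := G.s)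
        (g := ι' G (j ⁻¹ᵁ PrimeSpectrum.basicOpen h₁) J) r x (by rw [hr, hx])
      have h1 := hxs r' hr'2
      have h2 : (J.subschemeι ≫ (j ⁻¹ᵁ PrimeSpectrum.basicOpen h₁).ι ≫ j)
          (t' G (ι' G (j ⁻¹ᵁ PrimeSpectrum.basicOpen h₁) J) φ r') ∈
          PrimeSpectrum.basicOpen (h₁ * g₂) := h1
      rw [hjpt, ι_t'_pt G _ φ hφ, hr'1] at h2
      exact ((hmul h₁ g₂ _).1 h2).2
  -- Claim B
  have hB : ∀ w : G.U, w ∈ j ⁻¹ᵁ PrimeSpectrum.basicOpen g₂ →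
      w ∉ j ⁻¹ᵁ PrimeSpectrum.basicOpen h₁ → w ∈ Ω := by
    intro w hw hwV r hr
    exact hc r (by rw [hr]; exact hwV) (by rw [hr]; exact hw)
  -- the function `h₁` on `X₂`
  let φ₁ : Γ(G.U, ⊤) := j.appTop ((Scheme.ΓSpecIso (CommRingCat.of A)).inv h₁)
  have hφ₁ : G.U.basicOpen φ₁ = j ⁻¹ᵁ PrimeSpectrum.basicOpen h₁ := by
    rw [← Scheme.preimage_basicOpen_top, basicOpen_eq_of_affine]
  let η₁ : Γ(G.U, j ⁻¹ᵁ PrimeSpectrum.basicOpen g₂) :=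
    G.U.presheaf.map (homOfLE (le_top : j ⁻¹ᵁ PrimeSpectrum.basicOpen g₂ ≤ ⊤)).op φ₁
  have hη₁ : G.U.basicOpen η₁ =
      j ⁻¹ᵁ PrimeSpectrum.basicOpen g₂ ⊓ j ⁻¹ᵁ PrimeSpectrum.basicOpen h₁ := by
    rw [Scheme.basicOpen_res, hφ₁]
  -- the ideal of the complement of `Ω`
  let K : Set (PrimeSpectrum Γ(G.U, j ⁻¹ᵁ PrimeSpectrum.basicOpen g₂)) :=
    (hX₂aff.fromSpec ⁻¹' (Ω : Set G.U))ᶜ
  have hK : IsClosed K := (Ω.isOpen.preimage hX₂aff.fromSpec.continuous).isClosed_compl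
  have hKI : PrimeSpectrum.zeroLocus
      ((PrimeSpectrum.vanishingIdeal K : Ideal _) : Set Γ(G.U, j ⁻¹ᵁ PrimeSpectrum.basicOpen g₂)) =
      K := by
    rw [PrimeSpectrum.zeroLocus_vanishingIdeal_eq_closure, hK.closure_eq]
  have htop : PrimeSpectrum.vanishingIdeal K ⊔ Ideal.span {η₁} = ⊤ := by
    by_contra hne
    obtain ⟨M, hM, hle⟩ := Ideal.exists_le_maximal _ hne
    let p : PrimeSpectrum Γ(G.U, j ⁻¹ᵁ PrimeSpectrum.basicOpen g₂) := ⟨M, hM.isPrime⟩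
    have hpK : p ∈ K := by
      rw [← hKI]
      exact le_sup_left.trans hle
    have hη : η₁ ∈ p.asIdeal := hle (Ideal.mem_sup_right (Ideal.subset_span rfl))
    have hx₂ : hX₂aff.fromSpec p ∈ j ⁻¹ᵁ PrimeSpectrum.basicOpen g₂ := by
      have := hX₂aff.range_fromSpec
      have h3 : hX₂aff.fromSpec p ∈ Set.range hX₂aff.fromSpec := ⟨p, rfl⟩
      rw [this] at h3
      exact h3
    have hxV : hX₂aff.fromSpec p ∉ j ⁻¹ᵁ PrimeSpectrum.basicOpen h₁ := by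
      intro hV
      have h4 : hX₂aff.fromSpec p ∈ G.U.basicOpen η₁ := by
        rw [hη₁]
        exact ⟨hx₂, hV⟩
      rw [fromSpec_mem_basicOpen_iff] at h4
      exact h4 hη
    exact hpK (hB _ hx₂ hxV)
  have h1mem : (1 : Γ(G.U, j ⁻¹ᵁ PrimeSpectrum.basicOpen g₂)) ∈
      PrimeSpectrum.vanishingIdeal K ⊔ Ideal.span {η₁} := by
    rw [htop]
    exact Submodule.mem_top
  obtain ⟨e, he, c, hc', hec⟩ := Submodule.mem_sup.1 h1mem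
  obtain ⟨b, rfl⟩ := Ideal.mem_span_singleton'.1 hc'
  have heΩ : G.U.basicOpen e ≤ Ω := by
    intro x hx
    obtain ⟨p, hp⟩ := exists_fromSpec_eq hX₂aff x (G.U.basicOpen_le e hx)
    rw [← hp, fromSpec_mem_basicOpen_iff] at hx
    by_contra hxΩ
    have hpK : p ∈ K := by
      show p ∉ hX₂aff.fromSpec ⁻¹' (Ω : Set G.U)
      intro h5
      apply hxΩ
      rw [← hp]
      exact h5
    rw [← hKI] at hpK
    exact hx (hpK he)
  -- the two sections over `Ω`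
  let ρ : Γ(G.U, j ⁻¹ᵁ PrimeSpectrum.basicOpen g₂) ⟶ Γ(G.U, Ω) :=
    G.U.presheaf.map (homOfLE hΩX).op
  have h1 : G.U.basicOpen (ρ.hom η₁) = j ⁻¹ᵁ PrimeSpectrum.basicOpen (a * (h₁ * g₂)) := by
    rw [Scheme.basicOpen_res, hη₁, ← hA, ← inf_assoc, inf_eq_left.mpr hΩX]
  have h2 : G.U.basicOpen (ρ.hom e) = G.U.basicOpen e := by
    rw [Scheme.basicOpen_res, inf_eq_right.mpr heΩ]
  refine ⟨Ω, rfl, ?_⟩
  refine isAffineOpen_of_isAffineOpen_basicOpen Ω {ρ.hom η₁, ρ.hom e} ?_ ?_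
  · rw [Ideal.eq_top_iff_one]
    have : (1 : Γ(G.U, Ω)) = ρ.hom e + ρ.hom b * ρ.hom η₁ := by
      rw [← map_mul, ← map_add, hec, map_one]
    rw [this]
    exact Ideal.add_mem _ (Ideal.subset_span (by simp))
      (Ideal.mul_mem_left _ _ (Ideal.subset_span (by simp)))
  · intro i hi
    rcases hi with rfl | rfl
    · rw [h1]
      exact (Groth.Agent.R2.H86.GrpdFitt2ImmAff.immAffStmt A j I hcl _ haI).1
    · rw [h2]
      exact hX₂aff.basicOpen e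

end Groth.Agent.R2.H96.GrpdFitt3Omega
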