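import Mathlib

/-!
# PROJ:grpd-split — [WR-FE] (helper96)

The algebra `W` representing `R ↦ {β : A → B ⊗[A] R | β ∘ (A₀ → A) = (b ↦ b ⊗ 1) ∘ τ}` is formally étale
over `A` as soon as `A` is formally étale over `A₀` (construction independent).
-/

set_option autoImplicit false
set_option linter.style.haveILetI false
universe u

open TensorProduct

namespace Groth.Agent.R2.H96.GrpdSplitWRFE

variable (A0 A B W : Type u) [CommRing A0] [CommRing A] [CommRing B] [CommRing W]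
  [Algebra A0 A] [Algebra A B] [Algebra A W]

section Aux

variable {A0 A B} (τ : A0 →+* B) (R : Type u) [CommRing R] [Algebra A R]

/-- the `A₀`-algebra structure on `B ⊗[A] R` through `τ` on the left factor (a type synonym would be
cleaner; we only use it through `letI`). -/
@[reducible] noncomputable def algT : Algebra A0 (B ⊗[A] R) :=
  ((Algebra.TensorProduct.includeLeftRingHom : B →+* B ⊗[A] R).comp τ).toAlgebra

end Aux

theorem formallyEtale_of_represents [Algebra.FormallyEtale A0 A] (τ : A0 →+* B)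
    (Θ : A →+* B ⊗[A] W)
    (huniv : ∀ (R : Type u) [CommRing R] [Algebra A R] (β : A →+* B ⊗[A] R),
      β.comp (algebraMap A0 A) =
        (Algebra.TensorProduct.includeLeftRingHom : B →+* B ⊗[A] R).comp τ →
      ∃! ψ : W →ₐ[A] R,
        ((Algebra.TensorProduct.map (AlgHom.id A B) ψ : B ⊗[A] W →ₐ[A] B ⊗[A] R) :
          B ⊗[A] W →+* B ⊗[A] R).comp Θ = β)
    (hΘ : Θ.comp (algebraMap A0 A) =
      (Algebra.TensorProduct.includeLeftRingHom : B →+* B ⊗[A] W).comp τ) :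
    Algebra.FormallyEtale A W := by
  rw [Algebra.FormallyEtale.iff_comp_bijective]
  intro R _ _ J hJ
  -- the surjection `q : B ⊗ R → B ⊗ R/J` with square-zero kernel
  let q : B ⊗[A] R →ₐ[A] B ⊗[A] (R ⧸ J) :=
    Algebra.TensorProduct.map (AlgHom.id A B) (Ideal.Quotient.mkₐ A J)
  have hqsurj : Function.Surjective q :=
    Algebra.TensorProduct.map_surjective (AlgHom.id A B) (Ideal.Quotient.mkₐ A J)
      Function.surjective_id (Ideal.Quotient.mkₐ_surjective A J)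
  have hqker : RingHom.ker q = J.map
      (Algebra.TensorProduct.includeRight : R →ₐ[A] B ⊗[A] R) := by
    have := Algebra.TensorProduct.lTensor_ker (A := B) (Ideal.Quotient.mkₐ A J)
      (Ideal.Quotient.mkₐ_surjective A J)
    have hk : RingHom.ker (Ideal.Quotient.mkₐ A J) = J := Ideal.Quotient.mkₐ_ker A J
    rw [hk] at this
    exact this
  have hqnil : IsNilpotent (RingHom.ker (q : B ⊗[A] R →+* B ⊗[A] (R ⧸ J))) := by
    refine ⟨2, ?_⟩
    have : RingHom.ker (q : B ⊗[A] R →+* B ⊗[A] (R ⧸ J)) = RingHom.ker q := rfl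
    rw [this, hqker, ← Ideal.map_pow, hJ, Ideal.map_bot]
    rfl
  letI algS : Algebra A0 (B ⊗[A] R) := algT τ R
  letI algS' : Algebra A0 (B ⊗[A] (R ⧸ J)) := algT τ (R ⧸ J)
  let q0 : B ⊗[A] R →ₐ[A0] B ⊗[A] (R ⧸ J) :=
    { toRingHom := (q : B ⊗[A] R →+* B ⊗[A] (R ⧸ J))
      commutes' := fun a0 => by
        show q ((τ a0) ⊗ₜ[A] (1 : R)) = (τ a0) ⊗ₜ[A] (1 : R ⧸ J)
        simp [q] }
  have hq0surj : Function.Surjective q0 := hqsurj
  have hq0nil : IsNilpotent (RingHom.ker (q0 : B ⊗[A] R →+* B ⊗[A] (R ⧸ J))) := hqnil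
  -- dictionary between `F(R)` and `A₀`-algebra maps
  have toAlg : ∀ (R' : Type u) [CommRing R'] [Algebra A R'] (β : A →+* B ⊗[A] R'),
      β.comp (algebraMap A0 A) =
        (Algebra.TensorProduct.includeLeftRingHom : B →+* B ⊗[A] R').comp τ →
      letI := algT (A := A) τ R'
      ∃ β' : A →ₐ[A0] B ⊗[A] R', (β' : A →+* B ⊗[A] R') = β := by
    intro R' _ _ β hβ
    letI := algT (A := A) τ R'
    exact ⟨{ toRingHom := β, commutes' := fun a0 => RingHom.congr_fun hβ a0 }, rfl⟩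
  have ofAlg : ∀ (R' : Type u) [CommRing R'] [Algebra A R'],
      letI := algT (A := A) τ R'
      ∀ β' : A →ₐ[A0] B ⊗[A] R', (β' : A →+* B ⊗[A] R').comp (algebraMap A0 A) =
        (Algebra.TensorProduct.includeLeftRingHom : B →+* B ⊗[A] R').comp τ := by
    intro R' _ _
    letI := algT (A := A) τ R'
    intro β'
    ext a0
    exact β'.commutes a0
  have hΘR : ∀ (R' : Type u) [CommRing R'] [Algebra A R'] (ψ : W →ₐ[A] R'),
      (((Algebra.TensorProduct.map (AlgHom.id A B) ψ : B ⊗[A] W →ₐ[A] B ⊗[A] R') :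
        B ⊗[A] W →+* B ⊗[A] R').comp Θ).comp (algebraMap A0 A) =
      (Algebra.TensorProduct.includeLeftRingHom : B →+* B ⊗[A] R').comp τ := by
    intro R' _ _ ψ
    rw [RingHom.comp_assoc, hΘ]
    ext a0
    simp
  have hqmap : ∀ ψ : W →ₐ[A] R,
      (q : B ⊗[A] R →+* B ⊗[A] (R ⧸ J)).comp
        (((Algebra.TensorProduct.map (AlgHom.id A B) ψ : B ⊗[A] W →ₐ[A] B ⊗[A] R) :
          B ⊗[A] W →+* B ⊗[A] R).comp Θ) =
      ((Algebra.TensorProduct.map (AlgHom.id A B) ((Ideal.Quotient.mkₐ A J).comp ψ) :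
        B ⊗[A] W →ₐ[A] B ⊗[A] (R ⧸ J)) : B ⊗[A] W →+* B ⊗[A] (R ⧸ J)).comp Θ := by
    intro ψ
    rw [← RingHom.comp_assoc]
    congr 1
    have : (Algebra.TensorProduct.map (AlgHom.id A B) ((Ideal.Quotient.mkₐ A J).comp ψ) :
        B ⊗[A] W →ₐ[A] B ⊗[A] (R ⧸ J)) =
        q.comp (Algebra.TensorProduct.map (AlgHom.id A B) ψ) := by
      ext x <;> simp [q]
    rw [this]
    rfl
  constructor
  · -- injectivity
    intro ψ₁ ψ₂ h12
    obtain ⟨β₁, hβ₁⟩ := toAlg R _ (hΘR R ψ₁)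
    obtain ⟨β₂, hβ₂⟩ := toAlg R _ (hΘR R ψ₂)
    have hβ : β₁ = β₂ := by
      refine Algebra.FormallyUnramified.lift_unique' q0 hq0nil β₁ β₂ ?_
      apply AlgHom.coe_ringHom_injective
      show (q : B ⊗[A] R →+* B ⊗[A] (R ⧸ J)).comp (β₁ : A →+* B ⊗[A] R) =
        (q : B ⊗[A] R →+* B ⊗[A] (R ⧸ J)).comp (β₂ : A →+* B ⊗[A] R)
      rw [hβ₁, hβ₂, hqmap, hqmap, h12]
    obtain ⟨ψ, -, hψ⟩ := huniv R _ (hΘR R ψ₁)
    have e1 : ψ₁ = ψ := hψ ψ₁ rfl
    have e2 : ψ₂ = ψ := hψ ψ₂ (by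
      show ((Algebra.TensorProduct.map (AlgHom.id A B) ψ₂ : B ⊗[A] W →ₐ[A] B ⊗[A] R) :
          B ⊗[A] W →+* B ⊗[A] R).comp Θ = _
      rw [← hβ₂, ← hβ, hβ₁])
    rw [e1, e2]
  · -- surjectivity
    intro ψbar
    obtain ⟨βbar, hβbar⟩ := toAlg (R ⧸ J) _ (hΘR (R ⧸ J) ψbar)
    let β : A →ₐ[A0] B ⊗[A] R := Algebra.FormallySmooth.liftOfSurjective βbar q0 hq0surj hq0nil
    have hβq : q0.comp β = βbar :=
      Algebra.FormallySmooth.comp_liftOfSurjective βbar q0 hq0surj hq0nil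
    obtain ⟨ψ, hψ, -⟩ := huniv R (β : A →+* B ⊗[A] R) (ofAlg R β)
    refine ⟨ψ, ?_⟩
    obtain ⟨ψ', -, hψ'⟩ := huniv (R ⧸ J) _ (hΘR (R ⧸ J) ψbar)
    have e1 : ψbar = ψ' := hψ' ψbar rfl
    have e2 : (Ideal.Quotient.mkₐ A J).comp ψ = ψ' := by
      apply hψ'
      show _ = ((Algebra.TensorProduct.map (AlgHom.id A B) ψbar :
        B ⊗[A] W →ₐ[A] B ⊗[A] (R ⧸ J)) : B ⊗[A] W →+* B ⊗[A] (R ⧸ J)).comp Θ
      rw [← hqmap, hψ, ← hβbar, ← hβq]
      rfl
    rw [e1, ← e2]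

end Groth.Agent.R2.H96.GrpdSplitWRFE
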