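import Mathlib
import Groth.Agent.Lib.Helper11Rigidity

/-!
# A variant of the rigidity lemma (helper96)

`rigidity_set`: the rigidity lemma over an algebraically closed field for a proper `X` with
`Γ(X, O_X) = K`, an irreducible locally-of-finite-type `Y`, reduced `X × Y` and a target `Z` that is
merely separated (no finiteness hypothesis), where the slice `X × {y₀}` is only assumed to be
contracted set-theoretically.
-/

set_option autoImplicit false
universe u

namespace Groth.Agent.R2.H96.Rigid

open CategoryTheory MonoidalCategory CartesianMonoidalCategory AlgebraicGeometry Limits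
open Groth.Agent.Lib.Helper11Rigidity

variable {K : Type u} [Field K] [IsAlgClosed K]

theorem rigidity_set (X Y Z : Over (Spec (CommRingCat.of K))) [IsProper X.hom]
    (hΓ : Function.Bijective X.hom.appTop)
    [LocallyOfFiniteType Y.hom] [IrreducibleSpace Y.left] [IsReduced (X ⊗ Y).left]
    [IsSeparated Z.hom]
    (f : X ⊗ Y ⟶ Z) (x₀ : 𝟙_ (Over (Spec (CommRingCat.of K))) ⟶ X)
    (y₀ : 𝟙_ (Over (Spec (CommRingCat.of K))) ⟶ Y) (z : Z.left)
    (h : ∀ x : X.left, (slice X y₀ ≫ f).left.base x = z) :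
    f = snd X Y ≫ lift (toUnit Y ≫ x₀) (𝟙 Y) ≫ f := by
  let S := Spec (CommRingCat.of K)
  let pt : S := IsLocalRing.closedPoint K
  have hpt : ∀ s : S, s = pt := fun s => Subsingleton.elim _ _
  have hx₀ : x₀.left ≫ X.hom = 𝟙 S := Over.w x₀
  -- affine neighbourhood of `z`
  obtain ⟨_, ⟨U, hU, rfl⟩, hzU, -⟩ := Z.left.isBasis_affineOpens.exists_subset_of_mem_open
    (Set.mem_univ z) isOpen_univ
  -- the bad locus
  let F : Set (X ⊗ Y).left := f.left.base ⁻¹' ((U : Set Z.left)ᶜ)
  have hF : IsClosed F := (U.2.isClosed_compl).preimage f.left.continuous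
  have hprop : IsProper (snd X Y).left := by
    rw [Over.snd_left]; infer_instance
  have hcl : IsClosedMap (snd X Y).left.base := (snd X Y).left.isClosedMap
  let W : Set Y.left := (snd X Y).left.base '' F
  have hW : IsClosed W := hcl _ hF
  -- slices over points of `Wᶜ` land in `U`
  have hslice : ∀ y : 𝟙_ (Over S) ⟶ Y, y.left.base pt ∉ W →
      Set.range (slice X y ≫ f).left.base ⊆ U := by
    intro y hy
    rintro _ ⟨x, rfl⟩
    by_contra hx
    apply hy
    refine ⟨(slice X y).left.base x, ?_, ?_⟩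
    · simpa [F] using hx
    · rw [← Scheme.Hom.comp_apply, ← Over.comp_left, lift_snd, Over.comp_left,
        Scheme.Hom.comp_apply]
      congr 1
      exact hpt _
  -- `y₀ ∉ W`
  have hy₀ : y₀.left.base pt ∉ W := by
    rintro ⟨c, hcF, hc⟩
    have hc' : c ∈ Set.range (slice X y₀).left.base := by
      rw [range_slice]
      exact ⟨pt, hc.symm⟩
    obtain ⟨x, rfl⟩ := hc'
    apply hcF
    show f.left.base ((slice X y₀).left.base x) ∈ (U : Set Z.left)
    rw [← Scheme.Hom.comp_apply, ← Over.comp_left, h x]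
    exact hzU
  -- the dense open set
  let T : Set (X ⊗ Y).left := (snd X Y).left.base ⁻¹' Wᶜ
  have hTo : IsOpen T := hW.isOpen_compl.preimage (snd X Y).left.continuous
  have hopen : IsOpenMap (snd X Y).left.base := by
    have : UniversallyOpen (snd X Y).left := by
      rw [Over.snd_left]; infer_instance
    exact (snd X Y).left.isOpenMap
  have hWd : Dense (Wᶜ : Set Y.left) :=
    hW.isOpen_compl.dense ⟨_, hy₀⟩
  have hTd : Dense T := by
    rw [dense_iff_inter_open]
    intro V hV hVne
    have h1 : ((snd X Y).left.base '' V).Nonempty := hVne.image _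
    obtain ⟨y, hyV, hyW⟩ := hWd.inter_open_nonempty _ (hopen V hV) h1
    obtain ⟨c, hcV, rfl⟩ := hyV
    exact ⟨c, hcV, hyW⟩
  have hlft : LocallyOfFiniteType (X ⊗ Y).hom := by
    rw [Over.tensorObj_hom]; infer_instance
  have hJ : JacobsonSpace ↥(X ⊗ Y).left := LocallyOfFiniteType.jacobsonSpace (X ⊗ Y).hom
  ext1
  refine ext_of_fromSpecResidueField_eq _ _ Z.hom (T ∩ closedPoints (X ⊗ Y).left) ?_ ?_ ?_
  · rwa [dense_iff_closure_eq, JacobsonSpace.closure_inter_closedPoints_eq_closure
      hTo.isLocallyClosed, ← dense_iff_closure_eq]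
  · rintro c ⟨hcT, hc⟩
    have hfs : (X ⊗ Y).left.fromSpecResidueField c =
        Spec.map (residueFieldIsoBase (X ⊗ Y).hom c hc).inv ≫
          pointOfClosedPoint (X ⊗ Y).hom c hc := by
      rw [pointOfClosedPoint, ← Spec.map_comp_assoc, Iso.hom_inv_id, Spec.map_id,
        Category.id_comp]
    let p := pointOfClosedPoint (X ⊗ Y).hom c hc
    have hp : p ≫ (X ⊗ Y).hom = 𝟙 _ := pointOfClosedPoint_comp _ _ _
    have hpc : p.base pt = c := pointOfClosedPoint_apply _ _ _ _
    let c' : 𝟙_ (Over S) ⟶ X ⊗ Y := Over.homMk p hp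
    let x : 𝟙_ (Over S) ⟶ X := c' ≫ fst X Y
    let y : 𝟙_ (Over S) ⟶ Y := c' ≫ snd X Y
    have hyW : y.left.base pt ∉ W := by
      have : y.left.base pt = (snd X Y).left.base c := by
        rw [← hpc]; rfl
      rw [this]
      exact hcT
    have hc' : c' = x ≫ slice X y := by
      ext1
      · rw [Category.assoc, lift_fst, Category.comp_id]
      · rw [Category.assoc, lift_snd, ← Category.assoc, toUnit_unique (x ≫ toUnit X) (𝟙 _),
          Category.id_comp]
    have key : (slice X y ≫ f).left = X.hom ≫ x₀.left ≫ (slice X y ≫ f).left :=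
      eq_comp_of_appTop_bijective X.hom x₀.left hx₀ hΓ _ U hU (hslice y hyW)
    have key' : slice X y ≫ f = toUnit X ≫ x₀ ≫ slice X y ≫ f := by
      ext1
      rw [key]
      rfl
    have e1 : c' ≫ f = x₀ ≫ slice X y ≫ f := by
      calc c' ≫ f = x ≫ (slice X y ≫ f) := by rw [hc', Category.assoc]
        _ = x ≫ (toUnit X ≫ x₀ ≫ slice X y ≫ f) := by rw [← key']
        _ = x₀ ≫ slice X y ≫ f := by
          rw [← Category.assoc, toUnit_unique (x ≫ toUnit X) (𝟙 _), Category.id_comp]
    have e2 : c' ≫ snd X Y ≫ lift (toUnit Y ≫ x₀) (𝟙 Y) ≫ f = x₀ ≫ slice X y ≫ f := by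
      have : (c' ≫ snd X Y) ≫ lift (toUnit Y ≫ x₀) (𝟙 Y) = x₀ ≫ slice X y := by
        ext1
        · simp only [Category.assoc, lift_fst, Category.comp_id]
          rw [← Category.assoc, ← Category.assoc,
            toUnit_unique ((c' ≫ snd X Y) ≫ toUnit Y) (𝟙 _), Category.id_comp]
        · simp only [Category.assoc, lift_snd, Category.comp_id]
          rw [← Category.assoc, toUnit_unique (x₀ ≫ toUnit X) (𝟙 _), Category.id_comp]
      rw [← Category.assoc, ← Category.assoc, this, Category.assoc]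
    have e3 : (c' ≫ f).left = (c' ≫ snd X Y ≫ lift (toUnit Y ≫ x₀) (𝟙 Y) ≫ f).left := by
      rw [e1, e2]
    rw [hfs, Category.assoc, Category.assoc]
    congr 1
  · rw [Over.w f, Over.w]

end Groth.Agent.R2.H96.Rigid
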