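import Mathlib
import Groth.Prelude.Def_Biext

/-!
# Biextensions: pulling back along `(n, m)` has trivial kernel on divisible sheaves (helper97)

Sections-level theory for `Biext J P Q G` (prelude `Def_Biext`):

* `diff` — the difference `y - x ∈ G(T)` of two sections in the same fibre of `E → P × Q`, with its
  compatibility with the two partial laws and with restriction;
* for a morphism `φ : B' → B` over `(n, m, 1)` and a splitting `σ'` of `B'`: `tau p' q' = φ (σ' (p', q'))`,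
  and the key fact that `tau` only depends on `(n p', m q')` when `Q` is locally `n`-divisible and `P` is
  locally `m`-divisible;
* `splittingOfHomOver` — the glued splitting of `B`.
-/

set_option autoImplicit false
universe u

open CategoryTheory Opposite

namespace Groth.Agent.R2.H97.Biext

variable {C : Type (u + 1)} [Category.{u} C] {J : GrothendieckTopology C}
  {P Q G : Sheaf J AddCommGrpCat.{u + 1}}

section Diff

variable (B : Biext J P Q G) (T : C)

open Classical in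
/-- The element `g` of `G(T)` with `g · x = y`, for `x`, `y` in the same fibre (and `0` otherwise). -/
noncomputable def diff (x y : B.E.obj.obj (op T)) : G.obj.obj (op T) :=
  if h : B.πP T x = B.πP T y ∧ B.πQ T x = B.πQ T y then
    (B.existsUnique_act T x y h.1 h.2).exists.choose
  else 0

variable {B T}

theorem act_diff {x y : B.E.obj.obj (op T)} (hP : B.πP T x = B.πP T y) (hQ : B.πQ T x = B.πQ T y) :
    B.act T (diff B T x y) x = y := by
  unfold diff
  rw [dif_pos ⟨hP, hQ⟩]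
  exact (B.existsUnique_act T x y hP hQ).exists.choose_spec

theorem diff_eq_of_act {x y : B.E.obj.obj (op T)} {g : G.obj.obj (op T)} (h : B.act T g x = y) :
    diff B T x y = g := by
  have hP : B.πP T x = B.πP T y := by rw [← h, B.πP_act]
  have hQ : B.πQ T x = B.πQ T y := by rw [← h, B.πQ_act]
  exact (B.existsUnique_act T x y hP hQ).unique (act_diff hP hQ) h

theorem diff_self (x : B.E.obj.obj (op T)) : diff B T x x = 0 :=
  diff_eq_of_act (B.zero_act T x)

theorem eq_of_diff_eq_zero {x y : B.E.obj.obj (op T)} (hP : B.πP T x = B.πP T y)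
    (hQ : B.πQ T x = B.πQ T y) (h : diff B T x y = 0) : x = y := by
  have := act_diff hP hQ
  rw [h, B.zero_act] at this
  exact this

/-- `add₁` with equal arguments. -/
theorem add₁_congr {x x' z z' : B.E.obj.obj (op T)} (hx : x = x') (hz : z = z')
    (h : B.πQ T x = B.πQ T z) (h' : B.πQ T x' = B.πQ T z') :
    B.add₁ T x z h = B.add₁ T x' z' h' := by
  subst hx; subst hz; rfl

theorem add₂_congr {x x' y y' : B.E.obj.obj (op T)} (hx : x = x') (hy : y = y')
    (h : B.πP T x = B.πP T y) (h' : B.πP T x' = B.πP T y') :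
    B.add₂ T x y h = B.add₂ T x' y' h' := by
  subst hx; subst hy; rfl

/-- The action on the second argument of `add₁`. -/
theorem add₁_act' (g : G.obj.obj (op T)) (x z : B.E.obj.obj (op T)) (h : B.πQ T x = B.πQ T z) :
    B.add₁ T x (B.act T g z) (h.trans (B.πQ_act T g z).symm) = B.act T g (B.add₁ T x z h) := by
  rw [B.add₁_comm, B.add₁_act T g z x h.symm, B.add₁_comm T z x h.symm]

theorem add₂_act' (g : G.obj.obj (op T)) (x y : B.E.obj.obj (op T)) (h : B.πP T x = B.πP T y) :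
    B.add₂ T x (B.act T g y) (h.trans (B.πP_act T g y).symm) = B.act T g (B.add₂ T x y h) := by
  rw [B.add₂_comm, B.add₂_act T g y x h.symm, B.add₂_comm T y x h.symm]

theorem diff_add₁ {x y z w : B.E.obj.obj (op T)}
    (hxyP : B.πP T x = B.πP T y) (hxyQ : B.πQ T x = B.πQ T y)
    (hzwP : B.πP T z = B.πP T w) (hzwQ : B.πQ T z = B.πQ T w)
    (hxz : B.πQ T x = B.πQ T z) (hyw : B.πQ T y = B.πQ T w) :
    diff B T (B.add₁ T x z hxz) (B.add₁ T y w hyw) = diff B T x y + diff B T z w := by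
  apply diff_eq_of_act
  have hy := act_diff hxyP hxyQ
  have hw := act_diff hzwP hzwQ
  rw [B.add_act, ← add₁_act' (diff B T z w) x z hxz, ← B.add₁_act T (diff B T x y) x _ _]
  exact add₁_congr hy hw _ _

theorem diff_add₂ {x y z w : B.E.obj.obj (op T)}
    (hxyP : B.πP T x = B.πP T y) (hxyQ : B.πQ T x = B.πQ T y)
    (hzwP : B.πP T z = B.πP T w) (hzwQ : B.πQ T z = B.πQ T w)
    (hxz : B.πP T x = B.πP T z) (hyw : B.πP T y = B.πP T w) :
    diff B T (B.add₂ T x z hxz) (B.add₂ T y w hyw) = diff B T x y + diff B T z w := by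
  apply diff_eq_of_act
  have hy := act_diff hxyP hxyQ
  have hw := act_diff hzwP hzwQ
  rw [B.add_act, ← add₂_act' (diff B T z w) x z hxz, ← B.add₂_act T (diff B T x y) x _ _]
  exact add₂_congr hy hw _ _

theorem diff_map {T' : C} (f : T' ⟶ T) {x y : B.E.obj.obj (op T)}
    (hP : B.πP T x = B.πP T y) (hQ : B.πQ T x = B.πQ T y) :
    G.obj.map f.op (diff B T x y) = diff B T' (B.E.obj.map f.op x) (B.E.obj.map f.op y) := by
  symm
  apply diff_eq_of_act
  rw [← B.act_map, act_diff hP hQ]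

end Diff

section Tau

variable {B₁ B : Biext J P Q G} {α : P ⟶ P} {β : Q ⟶ Q}
  (φ : Biext.HomOver J α β (𝟙 G) B₁ B) (σ' : Biext.Splitting J B₁)

/-- The sections `φ (σ' (p, q))` of `B` above `(α p, β q)`. -/
def tau (T : C) (p : P.obj.obj (op T)) (q : Q.obj.obj (op T)) : B.E.obj.obj (op T) :=
  φ.map T (σ'.σ T p q)

theorem πP_tau (T : C) (p : P.obj.obj (op T)) (q : Q.obj.obj (op T)) :
    B.πP T (tau φ σ' T p q) = α.hom.app (op T) p := by
  unfold tau
  rw [φ.πP_map, σ'.πP_σ]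

theorem πQ_tau (T : C) (p : P.obj.obj (op T)) (q : Q.obj.obj (op T)) :
    B.πQ T (tau φ σ' T p q) = β.hom.app (op T) q := by
  unfold tau
  rw [φ.πQ_map, σ'.πQ_σ]

theorem tau_map {T T' : C} (f : T' ⟶ T) (p : P.obj.obj (op T)) (q : Q.obj.obj (op T)) :
    B.E.obj.map f.op (tau φ σ' T p q) = tau φ σ' T' (P.obj.map f.op p) (Q.obj.map f.op q) := by
  unfold tau
  rw [← φ.map_res, σ'.σ_map]

theorem tau_add₁ (T : C) (p p' : P.obj.obj (op T)) (q : Q.obj.obj (op T)) :
    tau φ σ' T (p + p') q = B.add₁ T (tau φ σ' T p q) (tau φ σ' T p' q)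
      ((πQ_tau φ σ' T p q).trans (πQ_tau φ σ' T p' q).symm) := by
  unfold tau
  rw [σ'.σ_add₁, φ.map_add₁]

theorem tau_add₂ (T : C) (p : P.obj.obj (op T)) (q q' : Q.obj.obj (op T)) :
    tau φ σ' T p (q + q') = B.add₂ T (tau φ σ' T p q) (tau φ σ' T p q')
      ((πP_tau φ σ' T p q).trans (πP_tau φ σ' T p q').symm) := by
  unfold tau
  rw [σ'.σ_add₂, φ.map_add₂]

end Tau

section Sep

/-- An abelian sheaf is separated: sections agreeing on a covering sieve are equal. -/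
theorem ab_ext (F : Sheaf J AddCommGrpCat.{u + 1}) {T : C} (R : Sieve T) (hR : R ∈ J T)
    (s t : F.obj.obj (op T))
    (h : ∀ ⦃T' : C⦄ (f : T' ⟶ T), R f → F.obj.map f.op s = F.obj.map f.op t) : s = t := by
  have hsh : Presieve.IsSheaf J (F.obj ⋙ forget AddCommGrpCat.{u + 1}) :=
    (isSheaf_iff_isSheaf_of_type J _).1
      ((Presheaf.isSheaf_iff_isSheaf_forget J F.obj (forget AddCommGrpCat.{u + 1})).1 F.property)
  exact (hsh R hR).isSeparatedFor.ext (fun T' f hf => h f hf)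

/-- A sheaf of sets is separated. -/
theorem set_ext (F : Sheaf J (Type (u + 1))) {T : C} (R : Sieve T) (hR : R ∈ J T)
    (s t : F.obj.obj (op T))
    (h : ∀ ⦃T' : C⦄ (f : T' ⟶ T), R f → F.obj.map f.op s = F.obj.map f.op t) : s = t := by
  have hsh : Presieve.IsSheaf J F.obj := (isSheaf_iff_isSheaf_of_type J _).1 F.property
  exact (hsh R hR).isSeparatedFor.ext (fun T' f hf => h f hf)

end Sep

/-- `F` is locally `k`-divisible: every section is, locally for `J`, `k` times a section. -/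
def LocDiv (F : Sheaf J AddCommGrpCat.{u + 1}) (k : ℤ) : Prop :=
  ∀ (T : C) (s : F.obj.obj (op T)), ∃ R : Sieve T, R ∈ J T ∧
    ∀ ⦃T' : C⦄ (f : T' ⟶ T), R f → ∃ s' : F.obj.obj (op T'), k • s' = F.obj.map f.op s

section WellDef

variable {B₁ B : Biext J P Q G} {α : P ⟶ P} {β : Q ⟶ Q}
  (φ : Biext.HomOver J α β (𝟙 G) B₁ B) (σ' : Biext.Splitting J B₁)
  (n m : ℤ) (hα : ∀ (T : C) (p : P.obj.obj (op T)), α.hom.app (op T) p = n • p)
  (hβ : ∀ (T : C) (q : Q.obj.obj (op T)), β.hom.app (op T) q = m • q)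

include hα in
/-- `tau a q` and `tau 0 q` lie in the same fibre when `n a = 0`. -/
theorem tau_fibre₁ (T : C) {a : P.obj.obj (op T)} (ha : n • a = 0) (q : Q.obj.obj (op T)) :
    B.πP T (tau φ σ' T 0 q) = B.πP T (tau φ σ' T a q) := by
  rw [πP_tau, πP_tau, hα, hα, ha, smul_zero]

/-- The defect `c(a, q) = tau a q - tau 0 q ∈ G(T)` for `n a = 0`. -/
noncomputable def cdef (T : C) (a : P.obj.obj (op T)) (q : Q.obj.obj (op T)) : G.obj.obj (op T) :=
  diff B T (tau φ σ' T 0 q) (tau φ σ' T a q)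

include hα in
theorem cdef_add_left (T : C) {a a' : P.obj.obj (op T)} (ha : n • a = 0) (ha' : n • a' = 0)
    (q : Q.obj.obj (op T)) :
    cdef φ σ' T (a + a') q = cdef φ σ' T a q + cdef φ σ' T a' q := by
  unfold cdef
  have h0 : tau φ σ' T 0 q = B.add₁ T (tau φ σ' T 0 q) (tau φ σ' T 0 q) rfl := by
    have := tau_add₁ φ σ' T 0 0 q
    rwa [add_zero] at this
  rw [tau_add₁ φ σ' T a a' q]
  conv_lhs => rw [h0]
  exact diff_add₁ (tau_fibre₁ φ σ' n hα T ha q)
    ((πQ_tau φ σ' T 0 q).trans (πQ_tau φ σ' T a q).symm)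
    (tau_fibre₁ φ σ' n hα T ha' q)
    ((πQ_tau φ σ' T 0 q).trans (πQ_tau φ σ' T a' q).symm) _ _

include hα in
theorem cdef_add_right (T : C) {a : P.obj.obj (op T)} (ha : n • a = 0)
    (q q' : Q.obj.obj (op T)) :
    cdef φ σ' T a (q + q') = cdef φ σ' T a q + cdef φ σ' T a q' := by
  unfold cdef
  rw [tau_add₂ φ σ' T a q q', tau_add₂ φ σ' T 0 q q']
  exact diff_add₂ (tau_fibre₁ φ σ' n hα T ha q)
    ((πQ_tau φ σ' T 0 q).trans (πQ_tau φ σ' T a q).symm)
    (tau_fibre₁ φ σ' n hα T ha q')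
    ((πQ_tau φ σ' T 0 q').trans (πQ_tau φ σ' T a q').symm) _ _

theorem cdef_zero_left (T : C) (q : Q.obj.obj (op T)) : cdef φ σ' T 0 q = 0 := diff_self _

include hα in
theorem cdef_zsmul_right (T : C) {a : P.obj.obj (op T)} (ha : n • a = 0) (q : Q.obj.obj (op T)) :
    cdef φ σ' T a (n • q) = 0 := by
  let cR : Q.obj.obj (op T) →+ G.obj.obj (op T) :=
    AddMonoidHom.mk' (fun q => cdef φ σ' T a q) (cdef_add_right φ σ' n hα T ha)
  let K : AddSubgroup (P.obj.obj (op T)) := AddMonoidHom.ker (zsmulAddGroupHom n)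
  have hK : ∀ b : K, n • (b : P.obj.obj (op T)) = 0 := fun b => b.2
  let cL : K →+ G.obj.obj (op T) :=
    AddMonoidHom.mk' (fun b => cdef φ σ' T (b : P.obj.obj (op T)) q)
      (fun b b' => cdef_add_left φ σ' n hα T (hK b) (hK b') q)
  have h1 : cdef φ σ' T a (n • q) = n • cdef φ σ' T a q := map_zsmul cR n q
  have h2 : cL (n • (⟨a, ha⟩ : K)) = n • cdef φ σ' T a q := map_zsmul cL n ⟨a, ha⟩
  have h3 : (n • (⟨a, ha⟩ : K)) = 0 := Subtype.ext (by simpa using ha)
  rw [h1, ← h2, h3, map_zero]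

include hα in
theorem cdef_map {T T' : C} (f : T' ⟶ T) {a : P.obj.obj (op T)} (ha : n • a = 0)
    (q : Q.obj.obj (op T)) :
    G.obj.map f.op (cdef φ σ' T a q) = cdef φ σ' T' (P.obj.map f.op a) (Q.obj.map f.op q) := by
  unfold cdef
  rw [diff_map f (tau_fibre₁ φ σ' n hα T ha q)
    ((πQ_tau φ σ' T 0 q).trans (πQ_tau φ σ' T a q).symm), tau_map, tau_map, map_zero]

include hα in
/-- If `Q` is locally `n`-divisible the defect vanishes. -/
theorem cdef_eq_zero (hQ : LocDiv Q n) (T : C) {a : P.obj.obj (op T)} (ha : n • a = 0)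
    (q : Q.obj.obj (op T)) : cdef φ σ' T a q = 0 := by
  obtain ⟨R, hR, hdiv⟩ := hQ T q
  refine ab_ext G R hR _ _ (fun T' f hf => ?_)
  obtain ⟨q', hq'⟩ := hdiv f hf
  have ha' : n • (P.obj.map f.op a) = 0 := by rw [← map_zsmul, ha, map_zero]
  rw [cdef_map φ σ' n hα f ha q, ← hq', cdef_zsmul_right φ σ' n hα T' ha' q', map_zero]

include hα in
/-- `tau` does not change when `p` is moved by an `n`-torsion section (for `Q` locally `n`-divisible). -/
theorem tau_add_torsion₁ (hQ : LocDiv Q n) (T : C) (p : P.obj.obj (op T)) {a : P.obj.obj (op T)}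
    (ha : n • a = 0) (q : Q.obj.obj (op T)) : tau φ σ' T (p + a) q = tau φ σ' T p q := by
  have h0 : tau φ σ' T 0 q = tau φ σ' T a q :=
    eq_of_diff_eq_zero (tau_fibre₁ φ σ' n hα T ha q)
      ((πQ_tau φ σ' T 0 q).trans (πQ_tau φ σ' T a q).symm) (cdef_eq_zero φ σ' n hα hQ T ha q)
  have h1 := tau_add₁ φ σ' T p a q
  have h2 := tau_add₁ φ σ' T p 0 q
  rw [add_zero] at h2
  rw [h1]
  refine Eq.trans ?_ h2.symm
  exact add₁_congr rfl h0.symm _ _

include hβ in
theorem tau_fibre₂ (T : C) (p : P.obj.obj (op T)) {b : Q.obj.obj (op T)} (hb : m • b = 0) :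
    B.πQ T (tau φ σ' T p 0) = B.πQ T (tau φ σ' T p b) := by
  rw [πQ_tau, πQ_tau, hβ, hβ, hb, smul_zero]

/-- The defect `c'(p, b) = tau p b - tau p 0 ∈ G(T)` for `m b = 0`. -/
noncomputable def cdef' (T : C) (p : P.obj.obj (op T)) (b : Q.obj.obj (op T)) : G.obj.obj (op T) :=
  diff B T (tau φ σ' T p 0) (tau φ σ' T p b)

include hβ in
theorem cdef'_add_right (T : C) (p : P.obj.obj (op T)) {b b' : Q.obj.obj (op T)} (hb : m • b = 0)
    (hb' : m • b' = 0) :
    cdef' φ σ' T p (b + b') = cdef' φ σ' T p b + cdef' φ σ' T p b' := by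
  unfold cdef'
  have h0 : tau φ σ' T p 0 = B.add₂ T (tau φ σ' T p 0) (tau φ σ' T p 0) rfl := by
    have := tau_add₂ φ σ' T p 0 0
    rwa [add_zero] at this
  rw [tau_add₂ φ σ' T p b b']
  conv_lhs => rw [h0]
  exact diff_add₂ ((πP_tau φ σ' T p 0).trans (πP_tau φ σ' T p b).symm)
    (tau_fibre₂ φ σ' m hβ T p hb)
    ((πP_tau φ σ' T p 0).trans (πP_tau φ σ' T p b').symm)
    (tau_fibre₂ φ σ' m hβ T p hb') _ _

include hβ in
theorem cdef'_add_left (T : C) (p p' : P.obj.obj (op T)) {b : Q.obj.obj (op T)} (hb : m • b = 0) :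
    cdef' φ σ' T (p + p') b = cdef' φ σ' T p b + cdef' φ σ' T p' b := by
  unfold cdef'
  rw [tau_add₁ φ σ' T p p' b, tau_add₁ φ σ' T p p' 0]
  exact diff_add₁ ((πP_tau φ σ' T p 0).trans (πP_tau φ σ' T p b).symm)
    (tau_fibre₂ φ σ' m hβ T p hb)
    ((πP_tau φ σ' T p' 0).trans (πP_tau φ σ' T p' b).symm)
    (tau_fibre₂ φ σ' m hβ T p' hb) _ _

include hβ in
theorem cdef'_zsmul_left (T : C) (p : P.obj.obj (op T)) {b : Q.obj.obj (op T)} (hb : m • b = 0) :
    cdef' φ σ' T (m • p) b = 0 := by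
  let cL : P.obj.obj (op T) →+ G.obj.obj (op T) :=
    AddMonoidHom.mk' (fun p => cdef' φ σ' T p b) (fun p p' => cdef'_add_left φ σ' m hβ T p p' hb)
  let K : AddSubgroup (Q.obj.obj (op T)) := AddMonoidHom.ker (zsmulAddGroupHom m)
  have hK : ∀ c : K, m • (c : Q.obj.obj (op T)) = 0 := fun c => c.2
  let cR : K →+ G.obj.obj (op T) :=
    AddMonoidHom.mk' (fun c => cdef' φ σ' T p (c : Q.obj.obj (op T)))
      (fun c c' => cdef'_add_right φ σ' m hβ T p (hK c) (hK c'))
  have h1 : cdef' φ σ' T (m • p) b = m • cdef' φ σ' T p b := map_zsmul cL m p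
  have h2 : cR (m • (⟨b, hb⟩ : K)) = m • cdef' φ σ' T p b := map_zsmul cR m ⟨b, hb⟩
  have h3 : (m • (⟨b, hb⟩ : K)) = 0 := Subtype.ext (by simpa using hb)
  have h4 : cR 0 = 0 := map_zero cR
  rw [h1, ← h2, h3, h4]

include hβ in
theorem cdef'_map {T T' : C} (f : T' ⟶ T) (p : P.obj.obj (op T)) {b : Q.obj.obj (op T)}
    (hb : m • b = 0) :
    G.obj.map f.op (cdef' φ σ' T p b) = cdef' φ σ' T' (P.obj.map f.op p) (Q.obj.map f.op b) := by
  unfold cdef'
  rw [diff_map f ((πP_tau φ σ' T p 0).trans (πP_tau φ σ' T p b).symm)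
    (tau_fibre₂ φ σ' m hβ T p hb), tau_map, tau_map, map_zero]

include hβ in
theorem cdef'_eq_zero (hP : LocDiv P m) (T : C) (p : P.obj.obj (op T)) {b : Q.obj.obj (op T)}
    (hb : m • b = 0) : cdef' φ σ' T p b = 0 := by
  obtain ⟨R, hR, hdiv⟩ := hP T p
  refine ab_ext G R hR _ _ (fun T' f hf => ?_)
  obtain ⟨p', hp'⟩ := hdiv f hf
  have hb' : m • (Q.obj.map f.op b) = 0 := by rw [← map_zsmul, hb, map_zero]
  rw [cdef'_map φ σ' m hβ f p hb, ← hp', cdef'_zsmul_left φ σ' m hβ T' p' hb', map_zero]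

include hβ in
/-- `tau` does not change when `q` is moved by an `m`-torsion section (for `P` locally `m`-divisible). -/
theorem tau_add_torsion₂ (hP : LocDiv P m) (T : C) (p : P.obj.obj (op T)) (q : Q.obj.obj (op T))
    {b : Q.obj.obj (op T)} (hb : m • b = 0) : tau φ σ' T p (q + b) = tau φ σ' T p q := by
  have h0 : tau φ σ' T p 0 = tau φ σ' T p b :=
    eq_of_diff_eq_zero ((πP_tau φ σ' T p 0).trans (πP_tau φ σ' T p b).symm)
      (tau_fibre₂ φ σ' m hβ T p hb) (cdef'_eq_zero φ σ' m hβ hP T p hb)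
  have h1 := tau_add₂ φ σ' T p q b
  have h2 := tau_add₂ φ σ' T p q 0
  rw [add_zero] at h2
  rw [h1]
  refine Eq.trans ?_ h2.symm
  exact add₂_congr rfl h0.symm _ _

include hα hβ in
/-- `tau p q` only depends on `(n p, m q)`. -/
theorem tau_eq_of_smul_eq (hQ : LocDiv Q n) (hP : LocDiv P m) (T : C)
    {p p' : P.obj.obj (op T)} {q q' : Q.obj.obj (op T)} (hp : n • p = n • p') (hq : m • q = m • q') :
    tau φ σ' T p q = tau φ σ' T p' q' := by
  have ha : n • (p' - p) = 0 := by rw [smul_sub, hp, sub_self]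
  have hb : m • (q' - q) = 0 := by rw [smul_sub, hq, sub_self]
  have h1 := tau_add_torsion₁ φ σ' n hα hQ T p ha q
  have h2 := tau_add_torsion₂ φ σ' m hβ hP T p' q hb
  rw [add_sub_cancel] at h1 h2
  rw [← h1, ← h2]

end WellDef

section Glue

variable {B₁ B : Biext J P Q G} {α : P ⟶ P} {β : Q ⟶ Q}
  (φ : Biext.HomOver J α β (𝟙 G) B₁ B) (σ' : Biext.Splitting J B₁)
  (n m : ℤ) (hα : ∀ (T : C) (p : P.obj.obj (op T)), α.hom.app (op T) p = n • p)
  (hβ : ∀ (T : C) (q : Q.obj.obj (op T)), β.hom.app (op T) q = m • q)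

/-- The sieve on `T` of the arrows over which `p` is divisible by `n` and `q` by `m`. -/
def divSieve (T : C) (p : P.obj.obj (op T)) (q : Q.obj.obj (op T)) : Sieve T where
  arrows T' f := ∃ (p' : P.obj.obj (op T')) (q' : Q.obj.obj (op T')),
    n • p' = P.obj.map f.op p ∧ m • q' = Q.obj.map f.op q
  downward_closed := by
    rintro T' T'' f ⟨p', q', hp', hq'⟩ g
    refine ⟨P.obj.map g.op p', Q.obj.map g.op q', ?_, ?_⟩
    · rw [← map_zsmul, hp', op_comp, Functor.map_comp]; rfl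
    · rw [← map_zsmul, hq', op_comp, Functor.map_comp]; rfl

theorem divSieve_mem (hPn : LocDiv P n) (hQm : LocDiv Q m) (T : C) (p : P.obj.obj (op T))
    (q : Q.obj.obj (op T)) : divSieve n m T p q ∈ J T := by
  obtain ⟨R₁, hR₁, h₁⟩ := hPn T p
  obtain ⟨R₂, hR₂, h₂⟩ := hQm T q
  refine J.superset_covering ?_ (J.intersection_covering hR₁ hR₂)
  rintro T' f ⟨hf₁, hf₂⟩
  obtain ⟨p', hp'⟩ := h₁ f hf₁
  obtain ⟨q', hq'⟩ := h₂ f hf₂
  exact ⟨p', q', hp', hq'⟩

/-- The local sections `tau p' q'` on the members of `divSieve`. -/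
noncomputable def locFam (T : C) (p : P.obj.obj (op T)) (q : Q.obj.obj (op T)) :
    Presieve.FamilyOfElements B.E.obj (divSieve n m T p q).arrows :=
  fun _ _ hf => tau φ σ' _ hf.choose hf.choose_spec.choose

include hα hβ in
theorem locFam_eq (hQn : LocDiv Q n) (hPm : LocDiv P m) (T : C) (p : P.obj.obj (op T))
    (q : Q.obj.obj (op T)) {T' : C} (f : T' ⟶ T) (hf : (divSieve n m T p q).arrows f)
    (p' : P.obj.obj (op T')) (q' : Q.obj.obj (op T')) (hp' : n • p' = P.obj.map f.op p)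
    (hq' : m • q' = Q.obj.map f.op q) : locFam φ σ' n m T p q f hf = tau φ σ' T' p' q' := by
  unfold locFam
  apply tau_eq_of_smul_eq φ σ' n m hα hβ hQn hPm
  · rw [hf.choose_spec.choose_spec.1, hp']
  · rw [hf.choose_spec.choose_spec.2, hq']

include hα hβ in
theorem locFam_compatible (hQn : LocDiv Q n) (hPm : LocDiv P m) (T : C) (p : P.obj.obj (op T))
    (q : Q.obj.obj (op T)) : (locFam φ σ' n m T p q).Compatible := by
  rw [Presieve.compatible_iff_sieveCompatible]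
  intro T' T'' f g hf
  obtain ⟨p', q', hp', hq'⟩ := hf
  rw [locFam_eq φ σ' n m hα hβ hQn hPm T p q f ⟨p', q', hp', hq'⟩ p' q' hp' hq', tau_map]
  apply locFam_eq φ σ' n m hα hβ hQn hPm
  · rw [← map_zsmul, hp', op_comp, Functor.map_comp]; rfl
  · rw [← map_zsmul, hq', op_comp, Functor.map_comp]; rfl

theorem isSheafFor_E (hPn : LocDiv P n) (hQm : LocDiv Q m) (T : C) (p : P.obj.obj (op T)) (q : Q.obj.obj (op T)) :
    Presieve.IsSheafFor B.E.obj (divSieve n m T p q).arrows :=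
  (isSheaf_iff_isSheaf_of_type J _).1 B.E.property _ (divSieve_mem n m hPn hQm T p q)

variable (hPn : LocDiv P n) (hQm : LocDiv Q m) (hQn : LocDiv Q n) (hPm : LocDiv P m)

/-- The glued section of `B` above `(p, q)`. -/
noncomputable def sig (T : C) (p : P.obj.obj (op T)) (q : Q.obj.obj (op T)) : B.E.obj.obj (op T) :=
  (isSheafFor_E (B := B) n m hPn hQm T p q).amalgamate (locFam φ σ' n m T p q)
    (locFam_compatible φ σ' n m hα hβ hQn hPm T p q)

/-- Characterisation of `sig`: over any `f` along which `p = n p'` and `q = m q'`, it restricts to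
`tau p' q'`. -/
theorem sig_spec (T : C) (p : P.obj.obj (op T)) (q : Q.obj.obj (op T)) {T' : C} (f : T' ⟶ T)
    (p' : P.obj.obj (op T')) (q' : Q.obj.obj (op T')) (hp' : n • p' = P.obj.map f.op p)
    (hq' : m • q' = Q.obj.map f.op q) :
    B.E.obj.map f.op (sig φ σ' n m hα hβ hPn hQm hQn hPm T p q) = tau φ σ' T' p' q' := by
  have hf : (divSieve n m T p q).arrows f := ⟨p', q', hp', hq'⟩
  unfold sig
  rw [Presieve.IsSheafFor.valid_glue _ _ f hf]
  exact locFam_eq φ σ' n m hα hβ hQn hPm T p q f hf p' q' hp' hq'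

theorem πP_sig (T : C) (p : P.obj.obj (op T)) (q : Q.obj.obj (op T)) :
    B.πP T (sig φ σ' n m hα hβ hPn hQm hQn hPm T p q) = p := by
  refine ab_ext P _ (divSieve_mem n m hPn hQm T p q) _ _ ?_
  rintro T' f ⟨p', q', hp', hq'⟩
  rw [← B.πP_map, sig_spec φ σ' n m hα hβ hPn hQm hQn hPm T p q f p' q' hp' hq', πP_tau, hα, hp']

theorem πQ_sig (T : C) (p : P.obj.obj (op T)) (q : Q.obj.obj (op T)) :
    B.πQ T (sig φ σ' n m hα hβ hPn hQm hQn hPm T p q) = q := by
  refine ab_ext Q _ (divSieve_mem n m hPn hQm T p q) _ _ ?_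
  rintro T' f ⟨p', q', hp', hq'⟩
  rw [← B.πQ_map, sig_spec φ σ' n m hα hβ hPn hQm hQn hPm T p q f p' q' hp' hq', πQ_tau, hβ, hq']

/-- The splitting of `B` glued from `φ ∘ σ'`. -/
noncomputable def splittingOfHomOver : Biext.Splitting J B where
  σ := sig φ σ' n m hα hβ hPn hQm hQn hPm
  πP_σ := πP_sig φ σ' n m hα hβ hPn hQm hQn hPm
  πQ_σ := πQ_sig φ σ' n m hα hβ hPn hQm hQn hPm
  σ_map := by
    intro T T₁ h p q
    refine set_ext B.E _ (divSieve_mem n m hPn hQm T₁ (P.obj.map h.op p) (Q.obj.map h.op q)) _ _ ?_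
    rintro T' f ⟨p', q', hp', hq'⟩
    rw [sig_spec φ σ' n m hα hβ hPn hQm hQn hPm T₁ _ _ f p' q' hp' hq']
    have hp'' : n • p' = P.obj.map (f ≫ h).op p := by
      rw [hp', op_comp, Functor.map_comp]; rfl
    have hq'' : m • q' = Q.obj.map (f ≫ h).op q := by
      rw [hq', op_comp, Functor.map_comp]; rfl
    have := sig_spec φ σ' n m hα hβ hPn hQm hQn hPm T p q (f ≫ h) p' q' hp'' hq''
    rw [op_comp, Functor.map_comp] at this
    exact this
  σ_add₁ := by
    intro T p₁ p₂ q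
    refine set_ext B.E _ (J.intersection_covering (divSieve_mem n m hPn hQm T p₁ q)
      (divSieve_mem n m hPn hQm T p₂ q)) _ _ ?_
    rintro T' f ⟨⟨p₁', q', hp₁', hq'⟩, ⟨p₂', _, hp₂', _⟩⟩
    have hp : n • (p₁' + p₂') = P.obj.map f.op (p₁ + p₂) := by
      rw [smul_add, hp₁', hp₂', map_add]
    rw [sig_spec φ σ' n m hα hβ hPn hQm hQn hPm T (p₁ + p₂) q f (p₁' + p₂') q' hp hq',
      B.add₁_map, tau_add₁]
    exact add₁_congr
      (sig_spec φ σ' n m hα hβ hPn hQm hQn hPm T p₁ q f p₁' q' hp₁' hq').symm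
      (sig_spec φ σ' n m hα hβ hPn hQm hQn hPm T p₂ q f p₂' q' hp₂' hq').symm _ _
  σ_add₂ := by
    intro T p q₁ q₂
    refine set_ext B.E _ (J.intersection_covering (divSieve_mem n m hPn hQm T p q₁)
      (divSieve_mem n m hPn hQm T p q₂)) _ _ ?_
    rintro T' f ⟨⟨p', q₁', hp', hq₁'⟩, ⟨_, q₂', _, hq₂'⟩⟩
    have hq : m • (q₁' + q₂') = Q.obj.map f.op (q₁ + q₂) := by
      rw [smul_add, hq₁', hq₂', map_add]
    rw [sig_spec φ σ' n m hα hβ hPn hQm hQn hPm T p (q₁ + q₂) f p' (q₁' + q₂') hp' hq,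
      B.add₂_map, tau_add₂]
    exact add₂_congr
      (sig_spec φ σ' n m hα hβ hPn hQm hQn hPm T p q₁ f p' q₁' hp' hq₁').symm
      (sig_spec φ σ' n m hα hβ hPn hQm hQn hPm T p q₂ f p' q₂' hp' hq₂').symm _ _

end Glue

end Groth.Agent.R2.H97.Biext
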