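import Groth.Agent.R2.H97MTChar
import Groth.Agent.Lib.Helper6SepCl
import Groth.Agent.Lib.Helper10GeomConn2

/-!
# Clopen subsets of `S' ×_S S'` containing the diagonal (helper97)

`mem_of_clopen_of_diag`: if `π : S' ⟶ S` has connected geometric fibres, an open and closed subset of
`S' ×_S S'` through which every morphism equalising the two projections factors is everything.
(The geometric fibre `F` over an algebraically closed field is geometrically connected, so `F × F`
is connected and maps onto the fibre of `S' ×_S S'`.)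
-/

set_option autoImplicit false

universe u

open CategoryTheory AlgebraicGeometry CategoryTheory.Limits

namespace Groth.Agent.R2.H97.DiagConn

open Groth.Agent.R2.H97.MTChar

/-- a connected scheme over an algebraically closed field is geometrically connected. -/
theorem geometricallyConnected_of_isAlgClosed {k : Type u} [Field k] [IsAlgClosed k]
    {F : Scheme.{u}} [ConnectedSpace F] (pF : F ⟶ Spec (CommRingCat.of k)) :
    GeometricallyConnected pF := by
  obtain ⟨x⟩ : Nonempty F := inferInstance
  let g := F.fromSpecResidueField x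
  let φ := Spec.preimage (g ≫ pF)
  have hφ : Spec.map φ = g ≫ pF := Spec.map_preimage _
  let _ := φ.hom.toAlgebra
  have h1 := Groth.Agent.Lib.Helper6.SepCl.geometricallyIrreducible_specMap_of_isSepClosed k
    (F.residueField x)
  have h2 : CommRingCat.ofHom (algebraMap k (F.residueField x)) = φ := rfl
  rw [h2, hφ] at h1
  have := Groth.Agent.Lib.Helper6.SepCl.geometricallyConnected_of_geometricallyIrreducible (g ≫ pF)
  exact Groth.Agent.Lib.Helper10.GeomConn2.geometricallyConnected_of_map g pF

/-- auxiliary form of `mem_of_clopen_of_diag` for an abstract "geometric point" `gp : P ⟶ S`. -/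
theorem mem_of_clopen_of_diag_aux {S S' P : Scheme.{u}} (π : S' ⟶ S) (gp : P ⟶ S)
    [ConnectedSpace ↥(pullback π gp)] [GeometricallyConnected (pullback.snd π gp)]
    [UniversallyOpen (pullback.snd π gp)]
    (U : (pullback π π).Opens) (hU : IsClosed (U : Set ↑(pullback π π)))
    (hdiag : ∀ (T : Scheme.{u}) (g : T ⟶ pullback π π),
      g ≫ pullback.fst π π = g ≫ pullback.snd π π → Set.range g.base ⊆ (U : Set ↑(pullback π π)))
    (t : ↑(pullback π π)) (y₀ : P) (hpt : gp y₀ = (pullback.fst π π ≫ π) t) : t ∈ U := by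
  have hFc : pullback.fst π gp ≫ π = pullback.snd π gp ≫ gp := pullback.condition
  have : ConnectedSpace ↥(pullback (pullback.snd π gp) (pullback.snd π gp)) := inferInstance
  have hρ : (pullback.fst (pullback.snd π gp) (pullback.snd π gp) ≫ pullback.fst π gp) ≫ π =
      (pullback.snd (pullback.snd π gp) (pullback.snd π gp) ≫ pullback.fst π gp) ≫ π := by
    rw [Category.assoc, Category.assoc, hFc, ← Category.assoc, ← Category.assoc,
      pullback.condition]
  let ρ : pullback (pullback.snd π gp) (pullback.snd π gp) ⟶ pullback π π :=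
    pullback.lift _ _ hρ
  have hρ1 : ρ ≫ pullback.fst π π =
      pullback.fst (pullback.snd π gp) (pullback.snd π gp) ≫ pullback.fst π gp :=
    pullback.lift_fst _ _ _
  have hρ2 : ρ ≫ pullback.snd π π =
      pullback.snd (pullback.snd π gp) (pullback.snd π gp) ≫ pullback.fst π gp :=
    pullback.lift_snd _ _ _
  have hW : IsClopen (ρ.base ⁻¹' (U : Set ↑(pullback π π))) :=
    ⟨hU.preimage ρ.continuous, U.2.preimage ρ.continuous⟩
  obtain ⟨x₀⟩ : Nonempty ↥(pullback π gp) := inferInstance
  let d : pullback π gp ⟶ pullback (pullback.snd π gp) (pullback.snd π gp) :=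
    pullback.lift (𝟙 _) (𝟙 _) rfl
  have hd1 : d ≫ pullback.fst (pullback.snd π gp) (pullback.snd π gp) = 𝟙 _ :=
    pullback.lift_fst _ _ _
  have hd2 : d ≫ pullback.snd (pullback.snd π gp) (pullback.snd π gp) = 𝟙 _ :=
    pullback.lift_snd _ _ _
  have hd : Set.range (d ≫ ρ).base ⊆ (U : Set ↑(pullback π π)) := by
    apply hdiag
    rw [Category.assoc, Category.assoc, hρ1, hρ2, ← Category.assoc, ← Category.assoc, hd1, hd2]
  have hx₀ : d x₀ ∈ ρ.base ⁻¹' (U : Set ↑(pullback π π)) := hd ⟨x₀, rfl⟩
  have huniv : ρ.base ⁻¹' (U : Set ↑(pullback π π)) = Set.univ :=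
    (isClopen_iff.1 hW).resolve_left (Set.nonempty_iff_ne_empty.1 ⟨_, hx₀⟩)
  -- lift `t` to `F × F`
  obtain ⟨Z, hZne, x, y, hxy, hy⟩ := exists_point_over gp (pullback.fst π π ≫ π) y₀ t hpt
  have e1 : (y ≫ pullback.fst π π) ≫ π = x ≫ gp := by
    rw [Category.assoc]
    exact hxy.symm
  have e2 : (y ≫ pullback.snd π π) ≫ π = x ≫ gp := by
    rw [Category.assoc, ← pullback.condition]
    exact hxy.symm
  let z₁ : Z ⟶ pullback π gp := pullback.lift (y ≫ pullback.fst π π) x e1
  let z₂ : Z ⟶ pullback π gp := pullback.lift (y ≫ pullback.snd π π) x e2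
  have hz : z₁ ≫ pullback.snd π gp = z₂ ≫ pullback.snd π gp := by
    rw [pullback.lift_snd, pullback.lift_snd]
  let zz : Z ⟶ pullback (pullback.snd π gp) (pullback.snd π gp) := pullback.lift z₁ z₂ hz
  have hzz : zz ≫ ρ = y := by
    apply pullback.hom_ext
    · rw [Category.assoc, hρ1, ← Category.assoc, pullback.lift_fst, pullback.lift_fst]
    · rw [Category.assoc, hρ2, ← Category.assoc, pullback.lift_snd, pullback.lift_fst]
  obtain ⟨z₀⟩ := hZne
  have h1 : y z₀ = t := hy ⟨z₀, rfl⟩
  have h2 : zz z₀ ∈ ρ.base ⁻¹' (U : Set ↑(pullback π π)) := by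
    rw [huniv]
    trivial
  have h3 : ρ (zz z₀) = t := by
    rw [← h1, ← hzz]
    rfl
  rw [← h3]
  exact h2

theorem mem_of_clopen_of_diag {S S' : Scheme.{u}} (π : S' ⟶ S)
    (hconn : ∀ s : S, ConnectedSpace ↥(pullback π (Red.geomPt s)))
    (U : (pullback π π).Opens) (hU : IsClosed (U : Set ↑(pullback π π)))
    (hdiag : ∀ (T : Scheme.{u}) (g : T ⟶ pullback π π),
      g ≫ pullback.fst π π = g ≫ pullback.snd π π → Set.range g.base ⊆ (U : Set ↑(pullback π π)))
    (t : ↑(pullback π π)) : t ∈ U := by
  have : ConnectedSpace ↥(pullback π (Red.geomPt ((pullback.fst π π ≫ π) t))) := hconn _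
  have : GeometricallyConnected (pullback.snd π (Red.geomPt ((pullback.fst π π ≫ π) t))) :=
    geometricallyConnected_of_isAlgClosed _
  have : Subsingleton ↥(Spec (CommRingCat.of
      (AlgebraicClosure (S.residueField ((pullback.fst π π ≫ π) t))))) :=
    inferInstanceAs (Subsingleton (PrimeSpectrum
      (AlgebraicClosure (S.residueField ((pullback.fst π π ≫ π) t)))))
  have : UniversallyOpen (pullback.snd π (Red.geomPt ((pullback.fst π π ≫ π) t))) := inferInstance
  obtain ⟨y₀⟩ : Nonempty ↥(Spec (CommRingCat.of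
      (AlgebraicClosure (S.residueField ((pullback.fst π π ≫ π) t))))) := inferInstance
  refine mem_of_clopen_of_diag_aux π (Red.geomPt ((pullback.fst π π ≫ π) t)) U hU hdiag t y₀ ?_
  have h1 : Red.geomPt ((pullback.fst π π ≫ π) t) y₀ ∈
      Set.range (S.fromSpecResidueField ((pullback.fst π π ≫ π) t)) := ⟨_, rfl⟩
  rw [Scheme.range_fromSpecResidueField] at h1
  exact h1

end Groth.Agent.R2.H97.DiagConn
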