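import Groth.Agent.R2.H97TrivLocMain
import Groth.Agent.R2.H97DiagConn
import Groth.Agent.R2.H97MTFam
import Groth.Agent.Lib.Helper12QuotGrp

/-!
# Descent of central homomorphisms from groups of multiplicative type (helper97, S5302)

`π : S' ⟶ S` an fpqc covering with connected geometric fibres, `H` of multiplicative type and of
finite type over `S`, `G` separated and locally of finite type over `S`, `u' : H' ⟶ G'` a central
homomorphism between the base changes.  Then `u'` descends uniquely to `u : H ⟶ G`.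

* `ev π u' b h`: the value of `u'` on the point `h` of `H` at the point `b` of `S'`.
* the difference `(b₁, b₂, h) ↦ ev b₁ h * (ev b₂ h)⁻¹` is a family of homomorphisms parametrised
  by `S' ×_S S'`, trivial on the diagonal; by S5286 its trivial locus is open and closed, hence
  everything (`H97DiagConn.mem_of_clopen_of_diag`).
* `ev` then descends along the covering `S' ×_S H ⟶ H`.
-/

set_option autoImplicit false

universe u

open CategoryTheory MonoidalCategory CartesianMonoidalCategory MonObj GrpObj AlgebraicGeometry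
  CategoryTheory.Limits

namespace Groth.Agent.R2.H97.CentralDesc

open Groth.Agent.Lib.Helper27.GaGm Groth.Agent.R2.H97.MTHom Groth.Agent.R2.H37.Rigid
  Groth.Agent.R2.H97.TrivLoc Groth.Agent.R2.H97.MTAct Groth.Agent.R2.H97.MTFam
  Groth.Agent.Lib.Helper12.QuotGrp

section Ev

variable {S S' : Scheme.{u}} (π : S' ⟶ S) {H G : Over S} [GrpObj H] [GrpObj G]
  (u' : Red.bc π H ⟶ Red.bc π G)

/-- `S'` as an `S`-scheme. -/
noncomputable abbrev BO : Over S := Over.mk π

lemma adjEquiv_comp' (K : Over S) {X Y : Over S'} (x : X ⟶ Y) (z : Y ⟶ Red.bc π K) :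
    adjEquiv π K X (x ≫ z) = (Over.map π).map x ≫ adjEquiv π K Y z := by
  unfold adjEquiv
  rw [Adjunction.homEquiv_naturality_left_symm]

lemma adjEquiv_symm_one (K : Over S) [GrpObj K] (X : Over S') :
    (adjEquiv π K X).symm 1 = 1 :=
  (Equiv.symm_apply_eq _).2 (adjEquiv_one' π K X).symm

/-- the `S'`-scheme attached to a point of `S'`. -/
noncomputable abbrev Tb {T : Over S} (b : T ⟶ BO π) : Over S' := Over.mk b.left

/-- `T` as the image of `Tb b`. -/
noncomputable def thetaB {T : Over S} (b : T ⟶ BO π) : (Over.map π).obj (Tb π b) ≅ T :=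
  Over.isoMk (Iso.refl _) (by
    rw [Iso.refl_hom, Category.id_comp]
    exact (Over.w b).symm)

@[simp] lemma thetaB_hom_left {T : Over S} (b : T ⟶ BO π) : (thetaB π b).hom.left = 𝟙 _ := rfl

@[simp] lemma thetaB_inv_left {T : Over S} (b : T ⟶ BO π) : (thetaB π b).inv.left = 𝟙 _ := rfl

/-- a point of `H` over `T`, as a point of `H'` over `Tb b`. -/
noncomputable def hpt {T : Over S} (b : T ⟶ BO π) (h : T ⟶ H) : Tb π b ⟶ Red.bc π H :=
  (adjEquiv π H (Tb π b)).symm ((thetaB π b).hom ≫ h)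

/-- the value of `u'` at the point `b` of `S'` on the point `h` of `H`. -/
noncomputable def ev {T : Over S} (b : T ⟶ BO π) (h : T ⟶ H) : T ⟶ G :=
  (thetaB π b).inv ≫ adjEquiv π G (Tb π b) (hpt π b h ≫ u')

omit [GrpObj H] [GrpObj G] in
lemma comp_ev {T' T : Over S} (t : T' ⟶ T) (b : T ⟶ BO π) (h : T ⟶ H) :
    t ≫ ev π u' b h = ev π u' (t ≫ b) (t ≫ h) := by
  let t₀ : Tb π (t ≫ b) ⟶ Tb π b := Over.homMk t.left rfl
  have h1 : (Over.map π).map t₀ ≫ (thetaB π b).hom = (thetaB π (t ≫ b)).hom ≫ t := by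
    ext
    simp [t₀]
  have h1' : (thetaB π (t ≫ b)).inv ≫ (Over.map π).map t₀ = t ≫ (thetaB π b).inv := by
    rw [Iso.inv_comp_eq, ← Category.assoc, ← h1, Category.assoc, Iso.hom_inv_id, Category.comp_id]
  have h2 : hpt π (t ≫ b) (t ≫ h) = t₀ ≫ hpt π b h := by
    apply (adjEquiv π H _).injective
    rw [adjEquiv_comp']
    unfold hpt
    rw [Equiv.apply_symm_apply, Equiv.apply_symm_apply, reassoc_of% h1]
  have e := adjEquiv_comp' π G t₀ (hpt π b h ≫ u')
  unfold ev
  rw [h2, Category.assoc, e, reassoc_of% h1']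

variable [IsMonHom u']

lemma ev_mul {T : Over S} (b : T ⟶ BO π) (h h' : T ⟶ H) :
    ev π u' b (h * h') = ev π u' b h * ev π u' b h' := by
  unfold ev hpt
  rw [MonObj.comp_mul, adjEquiv_symm_mul, MonObj.mul_comp, adjEquiv_mul, MonObj.comp_mul]

omit [IsMonHom u'] [GrpObj H] in
lemma ev_central
    (hc : ∀ (X : Over S') (g : X ⟶ Red.bc π G) (h : X ⟶ Red.bc π H), g * (h ≫ u') = (h ≫ u') * g)
    {T : Over S} (b : T ⟶ BO π) (h : T ⟶ H) (g : T ⟶ G) :
    g * ev π u' b h = ev π u' b h * g := by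
  have h1 := hc _ ((adjEquiv π G (Tb π b)).symm ((thetaB π b).hom ≫ g)) (hpt π b h)
  have h2 := congrArg (fun k => (thetaB π b).inv ≫ adjEquiv π G (Tb π b) k) h1
  simp only [adjEquiv_mul, MonObj.comp_mul, Equiv.apply_symm_apply, Iso.inv_hom_id_assoc] at h2
  exact h2

/-- the structure map of an `S'`-scheme as a point of `S'`. -/
noncomputable def strPt' (X : Over S') : (Over.map π).obj X ⟶ BO π := Over.homMk X.hom rfl

omit [IsMonHom u'] [GrpObj H] [GrpObj G] in
lemma adjEquiv_comp_u' {X : Over S'} (x : X ⟶ Red.bc π H) :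
    adjEquiv π G X (x ≫ u') = ev π u' (strPt' π X) (adjEquiv π H X x) := by
  let e₀ : Tb π (strPt' π X) ⟶ X := Over.homMk (𝟙 _) (Category.id_comp _)
  have h1 : (Over.map π).map e₀ = (thetaB π (strPt' π X)).hom := by
    ext
    simp [e₀]
  have h2 : hpt π (strPt' π X) (adjEquiv π H X x) = e₀ ≫ x := by
    apply (adjEquiv π H _).injective
    rw [adjEquiv_comp', h1]
    unfold hpt
    rw [Equiv.apply_symm_apply]
  have e := adjEquiv_comp' π G e₀ (x ≫ u')
  unfold ev
  rw [h2, Category.assoc, e, h1, Iso.inv_hom_id_assoc]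

end Ev

section Fam

variable {S S' : Scheme.{u}} (π : S' ⟶ S) {H G : Over S} [GrpObj H] [GrpObj G]
  (u' : Red.bc π H ⟶ Red.bc π G)

/-- the family `(b₁, b₂, h) ↦ u'(b₁; h) * u'(b₂; h)⁻¹`. -/
noncomputable def cFam : (BO π ⊗ BO π) ⊗ H ⟶ G :=
  ev π u' (fst (BO π ⊗ BO π) H ≫ fst (BO π) (BO π)) (snd (BO π ⊗ BO π) H) *
    (ev π u' (fst (BO π ⊗ BO π) H ≫ snd (BO π) (BO π)) (snd (BO π ⊗ BO π) H))⁻¹

omit [GrpObj H] in
lemma lift_cFam {T : Over S} (bb : T ⟶ BO π ⊗ BO π) (h : T ⟶ H) :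
    lift bb h ≫ cFam π u' =
      ev π u' (bb ≫ fst (BO π) (BO π)) h * (ev π u' (bb ≫ snd (BO π) (BO π)) h)⁻¹ := by
  unfold cFam
  rw [MonObj.comp_mul, GrpObj.comp_inv, comp_ev, comp_ev, ← Category.assoc, ← Category.assoc,
    lift_fst, lift_snd]

variable [IsMonHom u']

lemma cFam_mul
    (hc : ∀ (X : Over S') (g : X ⟶ Red.bc π G) (h : X ⟶ Red.bc π H), g * (h ≫ u') = (h ≫ u') * g)
    (T : Over S) (bb : T ⟶ BO π ⊗ BO π) (h h' : T ⟶ H) :
    lift bb (h * h') ≫ cFam π u' = (lift bb h ≫ cFam π u') * (lift bb h' ≫ cFam π u') := by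
  rw [lift_cFam, lift_cFam, lift_cFam, ev_mul, ev_mul]
  have ca' := fun g => ev_central π u' hc (bb ≫ fst (BO π) (BO π)) h' g
  have cd' := fun g => ev_central π u' hc (bb ≫ snd (BO π) (BO π)) h' g
  generalize ev π u' (bb ≫ fst (BO π) (BO π)) h = a at *
  generalize ev π u' (bb ≫ fst (BO π) (BO π)) h' = a' at *
  generalize ev π u' (bb ≫ snd (BO π) (BO π)) h = d at *
  generalize ev π u' (bb ≫ snd (BO π) (BO π)) h' = d' at *
  rw [cd' d, _root_.mul_inv_rev]
  simp only [_root_.mul_assoc]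
  congr 1
  rw [← _root_.mul_assoc, ← _root_.mul_assoc, ca' d⁻¹]

/-- the difference homomorphism over `S' ×_S S'`. -/
noncomputable def vHom : Red.bc (BO π ⊗ BO π).hom H ⟶ Red.bc (BO π ⊗ BO π).hom G :=
  famHom (cFam π u')

lemma isMonHom_vHom
    (hc : ∀ (X : Over S') (g : X ⟶ Red.bc π G) (h : X ⟶ Red.bc π H), g * (h ≫ u') = (h ≫ u') * g) :
    IsMonHom (vHom π u') :=
  isMonHom_famHom (cFam π u') (cFam_mul π u' hc)

omit [IsMonHom u'] in
/-- the difference homomorphism is trivial over the diagonal. -/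
lemma trivO_vHom_of_eq {T : Scheme.{u}} (g : T ⟶ pullback π π)
    (hg : g ≫ pullback.fst π π = g ≫ pullback.snd π π) :
    TrivO (vHom π u') (Over.mk (show T ⟶ (BO π ⊗ BO π).left from g)) := by
  intro X x a
  unfold vHom
  rw [comp_famHom]
  have hb : strPt X ≫ fst (BO π) (BO π) = strPt X ≫ snd (BO π) (BO π) := by
    ext1
    have hx : x.left ≫ g = X.hom := Over.w x
    change X.hom ≫ pullback.fst π π = X.hom ≫ pullback.snd π π
    rw [← hx, Category.assoc, Category.assoc, hg]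
  rw [lift_cFam, hb, mul_inv_cancel]
  exact adjEquiv_symm_one _ _ _

omit [IsMonHom u'] in
/-- if the difference homomorphism is trivial, `ev` does not depend on the point of `S'`. -/
lemma ev_eq_of_vHom
    (hv : ∀ (X : Over (BO π ⊗ BO π).left) (a : X ⟶ Red.bc (BO π ⊗ BO π).hom H),
      a ≫ vHom π u' = 1)
    {T : Over S} (b₁ b₂ : T ⟶ BO π) (h : T ⟶ H) : ev π u' b₁ h = ev π u' b₂ h := by
  let X : Over (BO π ⊗ BO π).left := Over.mk (lift b₁ b₂).left
  let θ : (Over.map (BO π ⊗ BO π).hom).obj X ≅ T := Over.isoMk (Iso.refl _) (by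
    rw [Iso.refl_hom, Category.id_comp]
    exact (Over.w (lift b₁ b₂)).symm)
  have hθ : strPt X = θ.hom ≫ lift b₁ b₂ := by
    apply Over.OverMorphism.ext
    change (lift b₁ b₂).left = 𝟙 _ ≫ (lift b₁ b₂).left
    rw [Category.id_comp]
  have h1 := hv X ((adjEquiv (BO π ⊗ BO π).hom H X).symm (θ.hom ≫ h))
  unfold vHom at h1
  rw [comp_famHom, Equiv.apply_symm_apply, hθ, ← comp_lift, Category.assoc, lift_cFam] at h1
  have h2 := congrArg (adjEquiv (BO π ⊗ BO π).hom G X) h1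
  rw [Equiv.apply_symm_apply, adjEquiv_one', lift_fst, lift_snd] at h2
  have h3 : ev π u' b₁ h * (ev π u' b₂ h)⁻¹ = 1 := by
    rw [← cancel_epi θ.hom, h2, MonObj.comp_one]
  exact mul_inv_eq_one.1 h3

end Fam

section Main

variable {S S' : Scheme.{u}} (π : S' ⟶ S) {H G : Over S} [GrpObj H] [GrpObj G]

/-- **Descent of central homomorphisms** (S5302). -/
theorem main (hH : SGA3x.IsMultTypeFT H) [IsSeparated G.hom] [LocallyOfFiniteType G.hom]
    [Flat π] [Surjective π]
    (hcov : ∀ V : S.Opens, IsAffineOpen V →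
      ∃ W : S'.Opens, IsCompact (W : Set S') ∧ π.base '' (W : Set S') = (V : Set S))
    (hconn : ∀ s : S, ConnectedSpace ↥(Limits.pullback π (Red.geomPt s)))
    (u' : Red.bc π H ⟶ Red.bc π G) [IsMonHom u']
    (hc : ∀ (X : Over S') (g : X ⟶ Red.bc π G) (h : X ⟶ Red.bc π H),
      g * (h ≫ u') = (h ≫ u') * g) :
    ∃ u : H ⟶ G, IsMonHom u ∧ (Over.pullback π).map u = u' := by
  -- the difference homomorphism is trivial
  have hvm : IsMonHom (vHom π u') := isMonHom_vHom π u' hc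
  have hH'' : SGA3x.IsMultTypeFT (Red.bc (BO π ⊗ BO π).hom H) :=
    Groth.Agent.R2.H74.MTQ2M.pkgM _ H hH
  have : IsSeparated (Red.bc (BO π ⊗ BO π).hom G).hom :=
    inferInstanceAs (IsSeparated (pullback.snd G.hom (BO π ⊗ BO π).hom))
  have : LocallyOfFiniteType (Red.bc (BO π ⊗ BO π).hom G).hom :=
    inferInstanceAs (LocallyOfFiniteType (pullback.snd G.hom (BO π ⊗ BO π).hom))
  obtain ⟨U, hU, hT⟩ := main' hH'' (Or.inr inferInstance) (vHom π u')
  have hall : ∀ t : ↑(pullback π π), t ∈ U := by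
    apply Groth.Agent.R2.H97.DiagConn.mem_of_clopen_of_diag π hconn U hU
    intro T g hg
    exact (hT T g).1 (trivO_vHom_of_eq π u' g hg)
  have hv : ∀ (X : Over (BO π ⊗ BO π).left) (a : X ⟶ Red.bc (BO π ⊗ BO π).hom H),
      a ≫ vHom π u' = 1 := by
    intro X a
    have h1 : TrivO (vHom π u') (Over.mk (𝟙 (BO π ⊗ BO π).left)) :=
      (hT _ _).2 (fun t _ => hall t)
    exact h1 X (Over.homMk X.hom (Category.comp_id _)) a
  have hev : ∀ {T : Over S} (b₁ b₂ : T ⟶ BO π) (h : T ⟶ H), ev π u' b₁ h = ev π u' b₂ h :=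
    fun b₁ b₂ h => ev_eq_of_vHom π u' hv b₁ b₂ h
  -- descent along the covering `S' ×_S H ⟶ H`
  have hcovB : IsCov (toUnit (BO π)) :=
    IsCov.of_hcov _ ⟨S', π, 𝟙 _, Category.id_comp _, inferInstance, inferInstance, hcov⟩
  have hcovq : IsCov (toUnit (BO π) ▷ H) := hcovB.whiskerRight H
  have : EffectiveEpi (toUnit (BO π) ▷ H).left := hcovq.effectiveEpi
  have hq : toUnit (BO π) ▷ H ≫ (λ_ H).hom = snd (BO π) H :=
    whiskerRight_toUnit_comp_leftUnitor_hom _ _
  let ut : BO π ⊗ H ⟶ G := ev π u' (fst (BO π) H) (snd (BO π) H)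
  have hut : ∀ {T : Over S} (y : T ⟶ BO π ⊗ H), y ≫ ut = ev π u' (y ≫ fst _ _) (y ≫ snd _ _) :=
    fun y => comp_ev π u' y _ _
  obtain ⟨f, hf⟩ := Groth.Agent.Lib.Helper12.exists_desc_of_isPullback (toUnit (BO π) ▷ H)
    (IsPullback.of_hasPullback (toUnit (BO π) ▷ H) (toUnit (BO π) ▷ H)) ut (by
      rw [hut, hut]
      have e : pullback.fst (toUnit (BO π) ▷ H) (toUnit (BO π) ▷ H) ≫ snd (BO π) H =
          pullback.snd (toUnit (BO π) ▷ H) (toUnit (BO π) ▷ H) ≫ snd (BO π) H := by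
        rw [← hq, ← Category.assoc, ← Category.assoc, pullback.condition]
      rw [e]
      exact hev _ _ _)
  obtain ⟨u, hsu⟩ : ∃ u : H ⟶ G, snd (BO π) H ≫ u = ut :=
    ⟨(λ_ H).inv ≫ f, by rw [← hq, Category.assoc, Iso.hom_inv_id_assoc, hf]⟩
  -- the values of `u`
  have hu : ∀ {T : Over S} (b : T ⟶ BO π) (h : T ⟶ H), h ≫ u = ev π u' b h := by
    intro T b h
    have e : h = lift b h ≫ snd (BO π) H := (lift_snd _ _).symm
    rw [e, Category.assoc, hsu, hut, lift_fst, lift_snd]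
  refine ⟨u, ?_, ?_⟩
  · -- `u` is a homomorphism
    apply isMonHom_of_points
    intro T h h'
    have hcovT : IsCov (toUnit (BO π) ▷ T) := hcovB.whiskerRight T
    have hepi : Epi (snd (BO π) T) := by
      have := hcovT.epi
      rw [← whiskerRight_toUnit_comp_leftUnitor_hom]
      infer_instance
    have a1 : snd (BO π) T ≫ ((h * h') ≫ u) =
        ((snd (BO π) T ≫ h) * (snd (BO π) T ≫ h')) ≫ u := by
      rw [← Category.assoc, MonObj.comp_mul]
    have a2 : snd (BO π) T ≫ ((h ≫ u) * (h' ≫ u)) =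
        ((snd (BO π) T ≫ h) ≫ u) * ((snd (BO π) T ≫ h') ≫ u) := by
      rw [MonObj.comp_mul, Category.assoc, Category.assoc]
    have e1 : snd (BO π) T ≫ ((h * h') ≫ u) = snd (BO π) T ≫ ((h ≫ u) * (h' ≫ u)) := by
      rw [a1, a2, hu (fst (BO π) T), hu (fst (BO π) T), hu (fst (BO π) T), ev_mul]
    exact (cancel_epi _).1 e1
  · -- base change
    have key : ∀ (X : Over S') (x : X ⟶ Red.bc π H), x ≫ (Over.pullback π).map u = x ≫ u' := by
      intro X x
      apply (adjEquiv π G X).injective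
      rw [adjEquiv_pullback_map, adjEquiv_comp_u', hu (strPt' π X)]
    have := key _ (𝟙 _)
    rwa [Category.id_comp, Category.id_comp] at this

end Main

end Groth.Agent.R2.H97.CentralDesc
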