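import Mathlib

/-!
# Filtered families of subschemes (helper97; for S5309, SGA3 X 5.x)

* `exists_subset_of_directed` / `exists_eq_univ_of_directed`: a directed increasing family of
  locally closed subsets covering a Noetherian quasi-sober space has a member equal to everything.
* `ring_key`: directed decreasing ideals in a Noetherian ring which are locally contained in all
  symbolic powers of every prime are eventually zero.
-/

set_option autoImplicit false
universe u

open TopologicalSpace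

namespace Groth.Agent.R2.H97.FilteredSub

section Topology

variable {X : Type*} [TopologicalSpace X] [NoetherianSpace X] [QuasiSober X]
  {D : Type*} [Preorder D] [IsDirected D (· ≤ ·)] [Nonempty D]

theorem exists_subset_of_directed (R : D → Set X) (hR : ∀ i, IsLocallyClosed (R i))
    (hmono : Monotone R) (hcov : ∀ p, ∃ i, p ∈ R i) (Z : Closeds X) :
    ∃ i, (Z : Set X) ⊆ R i := by
  induction Z using WellFoundedLT.induction with
  | ind Z ih =>
  by_cases hZe : (Z : Set X) = ∅
  · exact ⟨Classical.arbitrary D, by rw [hZe]; exact Set.empty_subset _⟩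
  have hZne : (Z : Set X).Nonempty := Set.nonempty_iff_ne_empty.mpr hZe
  by_cases hirr : IsPreirreducible (Z : Set X)
  · obtain ⟨η, hη⟩ := QuasiSober.sober ⟨hZne, hirr⟩ Z.isClosed
    obtain ⟨i, hi⟩ := hcov η
    obtain ⟨U, C, hU, hC, hUC⟩ := hR i
    rw [hUC] at hi
    have hηZ : η ∈ (Z : Set X) := hη.mem
    have hZC : (Z : Set X) ⊆ C := by
      rw [← hη.def]
      exact closure_minimal (Set.singleton_subset_iff.mpr hi.2) hC
    let Z' : Closeds X := ⟨(Z : Set X) ∩ Uᶜ, Z.isClosed.inter hU.isClosed_compl⟩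
    have hlt : Z' < Z := by
      refine lt_of_le_of_ne (fun z hz => hz.1) ?_
      intro h
      have : η ∈ (Z' : Set X) := by rw [h]; exact hηZ
      exact this.2 hi.1
    obtain ⟨j, hj⟩ := ih Z' hlt
    obtain ⟨k, hik, hjk⟩ := exists_ge_ge i j
    refine ⟨k, fun z hz => ?_⟩
    by_cases hzU : z ∈ U
    · exact hmono hik (hUC ▸ ⟨hzU, hZC hz⟩)
    · exact hmono hjk (hj ⟨hz, hzU⟩)
  · rw [isPreirreducible_iff_isClosed_union_isClosed] at hirr
    push Not at hirr
    obtain ⟨z₁, z₂, h₁, h₂, hsub, hn₁, hn₂⟩ := hirr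
    let Z₁ : Closeds X := ⟨(Z : Set X) ∩ z₁, Z.isClosed.inter h₁⟩
    let Z₂ : Closeds X := ⟨(Z : Set X) ∩ z₂, Z.isClosed.inter h₂⟩
    have hlt₁ : Z₁ < Z := by
      refine lt_of_le_of_ne (fun z hz => hz.1) ?_
      intro h
      apply hn₁
      intro z hz
      have : z ∈ (Z₁ : Set X) := by rw [h]; exact hz
      exact this.2
    have hlt₂ : Z₂ < Z := by
      refine lt_of_le_of_ne (fun z hz => hz.1) ?_
      intro h
      apply hn₂
      intro z hz
      have : z ∈ (Z₂ : Set X) := by rw [h]; exact hz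
      exact this.2
    obtain ⟨i, hi⟩ := ih Z₁ hlt₁
    obtain ⟨j, hj⟩ := ih Z₂ hlt₂
    obtain ⟨k, hik, hjk⟩ := exists_ge_ge i j
    refine ⟨k, fun z hz => ?_⟩
    rcases hsub hz with h | h
    · exact hmono hik (hi ⟨hz, h⟩)
    · exact hmono hjk (hj ⟨hz, h⟩)

theorem exists_eq_univ_of_directed (R : D → Set X) (hR : ∀ i, IsLocallyClosed (R i))
    (hmono : Monotone R) (hcov : ∀ p, ∃ i, p ∈ R i) : ∃ i, R i = Set.univ := by
  obtain ⟨i, hi⟩ := exists_subset_of_directed R hR hmono hcov ⊤
  exact ⟨i, Set.eq_univ_of_univ_subset (by simpa using hi)⟩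

end Topology

section Ring

variable {B : Type*} [CommRing B]

/-- A finite set of elements mapping to zero in the localization at a prime is killed by a single
element outside the prime. -/
theorem exists_common_killer (q : Ideal B) [q.IsPrime] (s : Finset B)
    (hs : ∀ g ∈ s, algebraMap B (Localization.AtPrime q) g = 0) :
    ∃ t, t ∉ q ∧ ∀ g ∈ s, t * g = 0 := by
  classical
  induction s using Finset.induction_on with
  | empty => exact ⟨1, fun h => (Ideal.IsPrime.ne_top ‹_›) ((Ideal.eq_top_iff_one _).mpr h), by simp⟩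
  | insert a s ha ih =>
    obtain ⟨t, ht, hts⟩ := ih (fun g hg => hs g (Finset.mem_insert_of_mem hg))
    obtain ⟨m, hm⟩ := (IsLocalization.map_eq_zero_iff q.primeCompl (Localization.AtPrime q) a).mp
      (hs a (Finset.mem_insert_self a s))
    refine ⟨m.1 * t, fun h => ?_, fun g hg => ?_⟩
    · rcases (Ideal.IsPrime.mem_or_mem ‹_› h) with h | h
      · exact m.2 h
      · exact ht h
    · rcases Finset.mem_insert.mp hg with rfl | hg
      · rw [mul_comm m.1 t, mul_assoc, hm, mul_zero]
      · rw [mul_assoc, hts g hg, mul_zero]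

theorem ring_key [IsNoetherianRing B]
    {D : Type*} [Preorder D] [IsDirected D (· ≤ ·)] [Nonempty D]
    (J : D → Ideal B) (hJ : Antitone J)
    (hloc : ∀ (q : Ideal B) [q.IsPrime] (n : ℕ),
      ∃ i, ∀ b ∈ J i, ∃ t, t ∉ q ∧ t * b ∈ q ^ (n + 1)) :
    ∃ i, J i = ⊥ := by
  classical
  -- the annihilators stabilise
  obtain ⟨i1, hi1⟩ : ∃ i1, ∀ i, i1 ≤ i → (J i).annihilator = (J i1).annihilator := by
    obtain ⟨_, ⟨i1, rfl⟩, hmax⟩ := (IsWellFounded.wf (r := ((· > ·) : Ideal B → Ideal B → Prop))).has_min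
      (Set.range fun i => (J i).annihilator) (Set.range_nonempty _)
    refine ⟨i1, fun i hi => ?_⟩
    have hle : (J i1).annihilator ≤ (J i).annihilator := Submodule.annihilator_mono (hJ hi)
    by_contra hne
    exact hmax _ ⟨i, rfl⟩ (lt_of_le_of_ne hle (Ne.symm hne))
  set c : Ideal B := (J i1).annihilator with hc
  by_cases hctop : c = ⊤
  · refine ⟨i1, ?_⟩
    rw [eq_bot_iff]
    intro b hb
    have h1 : (1 : B) ∈ (J i1).annihilator := by rw [← hc, hctop]; trivial
    have := Submodule.mem_annihilator.mp h1 b hb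
    simpa using this
  exfalso
  obtain ⟨q, hq⟩ := Ideal.nonempty_minimalPrimes hctop
  have : q.IsPrime := hq.1.1
  let R := Localization.AtPrime q
  have : IsNoetherianRing R := IsLocalization.isNoetherianRing q.primeCompl R inferInstance
  let m : Ideal R := IsLocalRing.maximalIdeal R
  have hm : q.map (algebraMap B R) = m := IsLocalization.AtPrime.map_eq_maximalIdeal q R
  -- a power of the maximal ideal lies in `c R`
  obtain ⟨N, hN⟩ : ∃ N, m ^ N ≤ c.map (algebraMap B R) := by
    apply Ideal.exists_pow_le_of_le_radical_of_fg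
    · rw [IsLocalization.AtPrime.radical_map_of_mem_minimalPrimes R q c hq, hm]
    · exact IsNoetherian.noetherian m
  let J' : D → Ideal R := fun i => (J i).map (algebraMap B R)
  have hJ' : Antitone J' := fun i j hij => Ideal.map_mono (hJ hij)
  have hkill : m ^ N * J' i1 = ⊥ := by
    rw [eq_bot_iff]
    calc m ^ N * J' i1 ≤ c.map (algebraMap B R) * (J i1).map (algebraMap B R) :=
          Ideal.mul_mono_left hN
      _ = (c * J i1).map (algebraMap B R) := (Ideal.map_mul _ _ _).symm
      _ ≤ (⊥ : Ideal B).map (algebraMap B R) := by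
          apply Ideal.map_mono
          rw [Ideal.mul_le]
          intro a ha b hb
          have := Submodule.mem_annihilator.mp ha b hb
          simpa using this
      _ = ⊥ := Ideal.map_bot
  -- Artin–Rees
  obtain ⟨k, hk⟩ := Ideal.exists_pow_inf_eq_pow_smul m (J' i1 : Submodule R R)
  have hAR : m ^ (k + N) ⊓ J' i1 = ⊥ := by
    have h := hk (k + N) (Nat.le_add_right k N)
    rw [Nat.add_sub_cancel_left] at h
    rw [eq_bot_iff]
    intro z hz
    have hz' : z ∈ (m ^ (k + N) • (⊤ : Submodule R R) ⊓ (J' i1 : Submodule R R)) := by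
      refine ⟨?_, hz.2⟩
      rw [Ideal.smul_top_eq_map]
      simpa using hz.1
    rw [h] at hz'
    have : m ^ N • (m ^ k • (⊤ : Submodule R R) ⊓ (J' i1 : Submodule R R)) ≤ m ^ N * J' i1 := by
      rw [← smul_eq_mul]
      exact Submodule.smul_mono le_rfl inf_le_right
    have := this hz'
    rwa [hkill] at this
  obtain ⟨i, hi⟩ := hloc q (k + N)
  obtain ⟨i', hii', hi1i'⟩ := exists_ge_ge i i1
  have hle1 : J' i' ≤ m ^ (k + N) := by
    refine (hJ' hii').trans ?_
    refine Ideal.map_le_iff_le_comap.mpr fun b hb => ?_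
    obtain ⟨t, ht, htb⟩ := hi b hb
    have hunit : IsUnit (algebraMap B R t) := IsLocalization.map_units R (⟨t, ht⟩ : q.primeCompl)
    have hmem : algebraMap B R (t * b) ∈ m ^ (k + N + 1) := by
      rw [← hm, ← Ideal.map_pow]
      exact Ideal.mem_map_of_mem _ htb
    rw [map_mul] at hmem
    have : algebraMap B R b ∈ m ^ (k + N + 1) := by
      have := Ideal.mul_mem_left _ (↑hunit.unit⁻¹ : R) hmem
      rwa [← mul_assoc, IsUnit.val_inv_mul, one_mul] at this
    exact Ideal.pow_le_pow_right (Nat.le_succ _) this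
  have hzero : J' i' = ⊥ := by
    rw [eq_bot_iff, ← hAR]
    exact le_inf hle1 (hJ' hi1i')
  -- hence `J i'` is killed by an element outside `q`
  obtain ⟨s, hs⟩ := (isNoetherianRing_iff_ideal_fg B).mp inferInstance (J i')
  obtain ⟨t, ht, hts⟩ := exists_common_killer q s (fun g hg => by
    have : algebraMap B R g ∈ J' i' := Ideal.mem_map_of_mem _ (hs ▸ Ideal.subset_span hg)
    rw [hzero] at this
    simpa using this)
  have htann : t ∈ (J i').annihilator := by
    rw [Submodule.mem_annihilator]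
    intro b hb
    rw [← hs] at hb
    refine Submodule.span_induction (p := fun b _ => t • b = 0) ?_ ?_ ?_ ?_ hb
    · intro g hg; simpa using hts g hg
    · simp
    · intro x y _ _ hx hy; rw [smul_add, hx, hy, add_zero]
    · intro a x _ hx; rw [smul_comm, hx, smul_zero]
  rw [hi1 i' hi1i'] at htann
  exact ht (hq.1.2 htann)

end Ring

section Scheme

open AlgebraicGeometry CategoryTheory Limits

theorem germ_of_app_eq_zero {X : Scheme.{u}} (U : X.Opens) (p : X) (hp : p ∈ U) {R : CommRingCat.{u}}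
    (ψ : X.presheaf.stalk p ⟶ R) (b : Γ(X, U))
    (h : ((Spec.map ψ ≫ X.fromSpecStalk p).app U).hom b = 0) :
    ψ.hom ((X.presheaf.germ U p hp).hom b) = 0 := by
  have hpre : Spec.map ψ ⁻¹ᵁ (X.fromSpecStalk p ⁻¹ᵁ U) = ⊤ := by
    ext y
    constructor
    · intro _; trivial
    · intro _
      show X.fromSpecStalk p (Spec.map ψ y) ∈ U
      have : X.fromSpecStalk p (Spec.map ψ y) ∈ Set.range (X.fromSpecStalk p) := ⟨_, rfl⟩
      rw [Scheme.range_fromSpecStalk] at this
      exact this.mem_open U.2 hp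
  have hinj : ∀ (W W' : (Spec R).Opens) (e : W = W') (i : Opposite.op W' ⟶ Opposite.op W),
      Function.Injective ((Spec R).presheaf.map i).hom := by
    intro W W' e i
    subst e
    have : i = 𝟙 _ := Subsingleton.elim _ _
    rw [this]
    simp only [CategoryTheory.Functor.map_id]
    exact fun _ _ h => h
  set z := (X.presheaf.germ U p hp).hom b with hz
  change ((Spec.map ψ).app (X.fromSpecStalk p ⁻¹ᵁ U)).hom (((X.fromSpecStalk p).app U).hom b) = 0 at h
  have e0 := congr(CommRingCat.Hom.hom $(Scheme.fromSpecStalk_app (X := X) (U := U) hp) b)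
  simp only [CommRingCat.hom_comp, RingHom.comp_apply] at e0
  rw [e0, ← hz] at h
  have nat := (Spec.map ψ).naturality (homOfLE (le_top : X.fromSpecStalk p ⁻¹ᵁ U ≤ ⊤)).op
  have nat2 := Scheme.ΓSpecIso_inv_naturality ψ
  have e1 : (Scheme.ΓSpecIso R).inv.hom (ψ.hom z) =
      (Spec.map ψ).appTop.hom ((Scheme.ΓSpecIso _).inv.hom z) := by
    have := congr(CommRingCat.Hom.hom $nat2 z)
    simp only [CommRingCat.hom_comp, RingHom.comp_apply] at this
    exact this
  have e2 := congr(CommRingCat.Hom.hom $nat ((Scheme.ΓSpecIso _).inv.hom z))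
  simp only [CommRingCat.hom_comp, RingHom.comp_apply] at e2
  rw [e2] at h
  have h2 := hinj _ _ (hpre.trans rfl) _ (h.trans (map_zero _).symm)
  have h3 : Function.Injective (Scheme.ΓSpecIso R).inv.hom :=
    (ConcreteCategory.bijective_of_isIso (Scheme.ΓSpecIso R).inv).1
  apply h3
  rw [e1, map_zero]
  exact h2


/-- The thickened point of `X` at `p` of order `n`. -/
noncomputable abbrev thickPt (X : Scheme.{u}) (p : X) (n : ℕ) :
    Spec (CommRingCat.of (X.presheaf.stalk p ⧸ IsLocalRing.maximalIdeal (X.presheaf.stalk p) ^ (n + 1))) ⟶ X :=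
  Spec.map (CommRingCat.ofHom (Ideal.Quotient.mk (IsLocalRing.maximalIdeal (X.presheaf.stalk p) ^ (n + 1)))) ≫
    X.fromSpecStalk p

theorem exists_thickPt_comm {S X : Scheme.{u}} (f : X ⟶ S) (p : X) (n : ℕ) :
    ∃ b, thickPt X p n ≫ f = b ≫ thickPt S (f p) n := by
  have hloc : IsLocalHom (f.stalkMap p).hom := inferInstance
  have hle : IsLocalRing.maximalIdeal (S.presheaf.stalk (f p)) ^ (n + 1) ≤
      (IsLocalRing.maximalIdeal (X.presheaf.stalk p) ^ (n + 1)).comap (f.stalkMap p).hom := by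
    refine le_trans ?_ (Ideal.le_comap_pow _ _)
    apply Ideal.pow_right_mono
    exact ((IsLocalRing.local_hom_TFAE (f.stalkMap p).hom).out 0 3).mp hloc
  refine ⟨Spec.map (CommRingCat.ofHom (Ideal.quotientMap _ (f.stalkMap p).hom hle)), ?_⟩
  unfold thickPt
  rw [Category.assoc, ← Scheme.SpecMap_stalkMap_fromSpecStalk f, ← Spec.map_comp_assoc,
    ← Spec.map_comp_assoc]
  congr 2

theorem exists_fac {S X Y : Scheme.{u}} (f : X ⟶ S) (xi : Y ⟶ X) (p : X) (n : ℕ)
    (hiso : IsIso (pullback.snd xi (pullback.fst f (thickPt S (f p) n)))) :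
    ∃ l, l ≫ xi = thickPt X p n := by
  obtain ⟨b, hb⟩ := exists_thickPt_comm f p n
  let π := pullback.fst f (thickPt S (f p) n)
  let φ := pullback.snd xi π
  have : IsIso φ := hiso
  refine ⟨pullback.lift (thickPt X p n) b hb ≫ inv φ ≫ pullback.fst xi π, ?_⟩
  rw [Category.assoc, Category.assoc, pullback.condition]
  show _ ≫ inv φ ≫ φ ≫ π = _
  rw [IsIso.inv_hom_id_assoc, pullback.lift_fst]


theorem exists_mul_mem {X : Scheme.{u}} (U : X.affineOpens) (y : PrimeSpectrum Γ(X, U.1))
    (hy : U.2.fromSpec y ∈ U.1) (n : ℕ) (b : Γ(X, U.1))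
    (hb : (X.presheaf.germ U.1 (U.2.fromSpec y) hy).hom b ∈
      IsLocalRing.maximalIdeal (X.presheaf.stalk (U.2.fromSpec y)) ^ (n + 1)) :
    ∃ t, t ∉ y.asIdeal ∧ t * b ∈ y.asIdeal ^ (n + 1) := by
  let := TopCat.Presheaf.algebra_section_stalk X.presheaf ⟨U.2.fromSpec y, hy⟩
  have hloc : IsLocalization.AtPrime (X.presheaf.stalk (U.2.fromSpec y)) y.asIdeal :=
    U.2.isLocalization_stalk' y hy
  have hm : y.asIdeal.map (algebraMap Γ(X, U.1) (X.presheaf.stalk (U.2.fromSpec y))) =
      IsLocalRing.maximalIdeal (X.presheaf.stalk (U.2.fromSpec y)) :=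
    IsLocalization.AtPrime.map_eq_maximalIdeal y.asIdeal _
  have hb' : algebraMap Γ(X, U.1) (X.presheaf.stalk (U.2.fromSpec y)) b ∈
      (y.asIdeal ^ (n + 1)).map (algebraMap Γ(X, U.1) (X.presheaf.stalk (U.2.fromSpec y))) := by
    rw [Ideal.map_pow, hm]
    exact hb
  rw [IsLocalization.mem_map_algebraMap_iff y.asIdeal.primeCompl] at hb'
  obtain ⟨⟨a, s⟩, has⟩ := hb'
  rw [← map_mul] at has
  obtain ⟨c, hc⟩ := (IsLocalization.eq_iff_exists y.asIdeal.primeCompl _).mp has
  refine ⟨c.1 * s.1, fun h => ?_, ?_⟩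
  · rcases y.isPrime.mem_or_mem h with h | h
    · exact c.2 h
    · exact s.2 h
  · have : c.1 * s.1 * b = c.1 * a.1 := by rw [← hc]; ring
    rw [this]
    exact Ideal.mul_mem_left _ _ a.2

theorem thickPt_closedPoint (X : Scheme.{u}) (p : X) (n : ℕ)
    (y : Spec (CommRingCat.of (X.presheaf.stalk p ⧸
      IsLocalRing.maximalIdeal (X.presheaf.stalk p) ^ (n + 1)))) :
    thickPt X p n y = p := by
  have hy : Spec.map (CommRingCat.ofHom (Ideal.Quotient.mk
      (IsLocalRing.maximalIdeal (X.presheaf.stalk p) ^ (n + 1)))) y =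
      IsLocalRing.closedPoint (X.presheaf.stalk p) := by
    apply PrimeSpectrum.ext
    show Ideal.comap (Ideal.Quotient.mk _) y.asIdeal = IsLocalRing.maximalIdeal _
    have hyp : (PrimeSpectrum.asIdeal y).IsPrime := PrimeSpectrum.isPrime y
    have hprime : (Ideal.comap (Ideal.Quotient.mk
        (IsLocalRing.maximalIdeal (X.presheaf.stalk p) ^ (n + 1))) y.asIdeal).IsPrime :=
      Ideal.comap_isPrime _ _
    refine le_antisymm (IsLocalRing.le_maximalIdeal hprime.ne_top) ?_
    apply hprime.le_of_pow_le (n := n + 1)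
    intro z hz
    show Ideal.Quotient.mk _ z ∈ y.asIdeal
    rw [Ideal.Quotient.eq_zero_iff_mem.mpr hz]
    exact zero_mem _
  show X.fromSpecStalk p (Spec.map _ y) = p
  rw [hy]
  exact Scheme.fromSpecStalk_closedPoint

theorem main {S X : Scheme.{u}} [IsNoetherian S] (f : X ⟶ S)
    [LocallyOfFiniteType f] [QuasiCompact f]
    {D : Type u} [Preorder D] [IsDirected D (fun a b => a ≤ b)] [Nonempty D]
    (Xi : D → Scheme.{u}) (x : ∀ i, Xi i ⟶ X) (hx : ∀ i, IsImmersion (x i))
    (hmono : ∀ i j, i ≤ j → ∃ t : Xi i ⟶ Xi j, t ≫ x j = x i)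
    (h : ∀ (s : S) (n : ℕ), ∃ i : D,
      IsIso (pullback.snd (x i) (pullback.fst f (thickPt S s n)))) :
    ∃ i : D, IsIso (x i) := by
  classical
  have hXn : IsLocallyNoetherian X := LocallyOfFiniteType.isLocallyNoetherian f
  have hXc : CompactSpace X :=
    ⟨by simpa using QuasiCompact.isCompact_preimage (f := f) Set.univ isOpen_univ isCompact_univ⟩
  have hX : IsNoetherian X := {}
  -- Step 1: the ranges cover
  let R : D → Set X := fun i => Set.range (x i)
  have hR : ∀ i, IsLocallyClosed (R i) := fun i => (hx i).isLocallyClosed_range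
  have hRmono : Monotone R := by
    intro i j hij
    obtain ⟨t, ht⟩ := hmono i j hij
    rintro _ ⟨z, rfl⟩
    exact ⟨t z, by rw [← ht]; simp⟩
  have hcov : ∀ p, ∃ i, p ∈ R i := by
    intro p
    obtain ⟨i, hi⟩ := h (f p) 0
    obtain ⟨l, hl⟩ := exists_fac f (x i) p 0 hi
    have hne : Nonempty (Spec (CommRingCat.of (X.presheaf.stalk p ⧸
        IsLocalRing.maximalIdeal (X.presheaf.stalk p) ^ (0 + 1)))) := by
      have : Nontrivial (X.presheaf.stalk p ⧸
          IsLocalRing.maximalIdeal (X.presheaf.stalk p) ^ (0 + 1)) := by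
        apply Ideal.Quotient.nontrivial_iff.mpr
        rw [zero_add, pow_one]
        exact (IsLocalRing.maximalIdeal.isMaximal _).ne_top
      exact inferInstanceAs (Nonempty (PrimeSpectrum _))
    obtain ⟨y⟩ := hne
    refine ⟨i, l y, ?_⟩
    calc (x i) (l y) = (l ≫ x i) y := by simp
      _ = thickPt X p 0 y := by rw [hl]
      _ = p := thickPt_closedPoint X p 0 y
  obtain ⟨i0, hi0⟩ := exists_eq_univ_of_directed R hR hRmono hcov
  have hcl : ∀ i, i0 ≤ i → IsClosedImmersion (x i) := by
    intro i hi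
    have : IsPreimmersion (x i) := (hx i).toIsPreimmersion
    apply IsClosedImmersion.of_isPreimmersion
    have : Set.range (x i) = Set.univ := Set.eq_univ_of_univ_subset (hi0 ▸ hRmono hi)
    rw [this]
    exact isClosed_univ
  -- Step 2: the kernels
  have hker : ∀ i j, i ≤ j → (x j).ker ≤ (x i).ker := by
    intro i j hij
    obtain ⟨t, ht⟩ := hmono i j hij
    rw [← ht]
    exact Scheme.Hom.le_ker_comp t (x j)
  have hU : ∀ U : X.affineOpens, ∃ i, (x i).ker.ideal U = ⊥ := by
    intro U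
    have : IsNoetherianRing Γ(X, U.1) := IsLocallyNoetherian.component_noetherian U
    apply ring_key (fun i => (x i).ker.ideal U) (fun i j hij => hker i j hij U)
    intro q hq n
    let y : PrimeSpectrum Γ(X, U.1) := ⟨q, hq⟩
    have hy : U.2.fromSpec y ∈ U.1 := by
      have : U.2.fromSpec y ∈ Set.range U.2.fromSpec := ⟨y, rfl⟩
      rwa [U.2.range_fromSpec] at this
    obtain ⟨i, hi⟩ := h (f (U.2.fromSpec y)) n
    refine ⟨i, fun b hb => ?_⟩
    obtain ⟨l, hl⟩ := exists_fac f (x i) (U.2.fromSpec y) n hi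
    have hle : (x i).ker ≤ (thickPt X (U.2.fromSpec y) n).ker := by
      rw [← hl]
      exact Scheme.Hom.le_ker_comp l (x i)
    have hb' : b ∈ RingHom.ker ((thickPt X (U.2.fromSpec y) n).app U.1).hom :=
      Scheme.Hom.ideal_ker_le _ U (hle U hb)
    have hz := germ_of_app_eq_zero U.1 (U.2.fromSpec y) hy
      (CommRingCat.ofHom (Ideal.Quotient.mk
        (IsLocalRing.maximalIdeal (X.presheaf.stalk (U.2.fromSpec y)) ^ (n + 1)))) b hb'
    exact exists_mul_mem U y hy n b (Ideal.Quotient.eq_zero_iff_mem.mp hz)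
  choose iU hiU using hU
  -- Step 3: a finite affine cover
  obtain ⟨s, hs, hcover⟩ :=
    (isCompact_iff_finite_and_eq_biUnion_affineOpens (X := X) (U := ⊤)).mp isCompact_univ
  obtain ⟨M, hM⟩ := (insert i0 (hs.toFinset.image iU)).exists_le
  have hM0 : i0 ≤ M := hM i0 (Finset.mem_insert_self _ _)
  have : IsClosedImmersion (x M) := hcl M hM0
  refine ⟨M, IsClosedImmersion.isIso_iff_ker_eq_bot.mpr ?_⟩
  apply Scheme.IdealSheafData.ext_of_iSup_eq_top (fun a : s => a.1)
  · rw [hcover, iSup_subtype']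
  · intro a
    rw [Scheme.IdealSheafData.ideal_bot, Pi.bot_apply, eq_bot_iff, ← hiU a.1]
    exact hker _ _ (hM _ (Finset.mem_insert_of_mem
      (Finset.mem_image_of_mem _ (hs.mem_toFinset.mpr a.2)))) a.1

end Scheme

end Groth.Agent.R2.H97.FilteredSub
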