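import Mathlib
import Groth.Prelude.Def_GrSeg
import Groth.Prelude.Def_GrLC
import Groth.Agent.Lib.Helper24GrDual
import Groth.Agent.Lib.Helper24GrDual2
import Groth.Agent.Lib.Helper24GrDual3

/-!
# Graded Matlis duality over a field (helper97)

`R = ⊕_{n ≥ 0} R_n` a graded `k`-algebra of finite type with `R_0 = k`; `D` the graded `k`-dual of a graded
`R`-module `M` (predicate `GrSeg.IsGDual`).  Main results:

* `flip_isGDual`: if the pieces of `M` are finite dimensional then `M` is the graded dual of `D`;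
* `pieceSub_finite_of_artinian`: pieces of an Artinian graded module are finite dimensional;
* `isArtinian_dual`: `M` finite ⇒ `D` Artinian (all submodules, via lowest-degree initial forms);
* `finite_dual`: `M` Artinian ⇒ `D` finite.
-/

set_option autoImplicit false
universe u
open DirectSum

namespace Groth.Agent.R2.H97.GrDual

open Groth.Agent.Lib.Helper24GrDual Groth.Agent.Lib.Helper24GrDual3

section Flip

variable {k : Type u} [Field k] {R : Type u} [CommRing R] [Algebra k R]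
  (𝒜 : ℤ → Submodule k R) [GradedAlgebra 𝒜]
  {M : Type u} [AddCommGroup M] [Module R M] [Module k M] [IsScalarTower k R M]
  (ℳ : ℤ → AddSubgroup M) [DirectSum.Decomposition ℳ] [SetLike.GradedSMul 𝒜 ℳ]
  {D : Type u} [AddCommGroup D] [Module R D] [Module k D] [IsScalarTower k R D]
  (𝒟 : ℤ → AddSubgroup D) [DirectSum.Decomposition 𝒟] [SetLike.GradedSMul 𝒜 𝒟]
  (β : D →ₗ[k] M →ₗ[k] k)

/-- For `x ∈ M_m` the pairing with `d` only sees the component of `d` of degree `-m`. -/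
theorem pair_P_of_mem (hD : GrSeg.IsGDual R ℳ 𝒟 β) {m : ℤ} {x : M} (hx : x ∈ ℳ m) (d : D) :
    β (P 𝒟 (-m) d) x = β d x := by
  have hx' : x ∈ ℳ (-(-m)) := by rwa [neg_neg]
  exact pairD_P' ℳ 𝒟 β hD hx' d

/-- If the pieces of `M` are finite dimensional, `M` is the graded dual of its graded dual. -/
theorem flip_isGDual (hD : GrSeg.IsGDual R ℳ 𝒟 β)
    (hfin : ∀ m : ℤ, Module.Finite k (pieceSub 𝒜 ℳ m)) : GrSeg.IsGDual R 𝒟 ℳ β.flip where
  map_smul r x d := by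
    rw [LinearMap.flip_apply, LinearMap.flip_apply, hD.map_smul]
  vanish n x hx m hm d hd := by
    rw [LinearMap.flip_apply]
    exact hD.vanish m d hd n (by omega) x hx
  eq_zero n x hx h := by
    apply eq_zero_of_pairing ℳ 𝒟 β hD
    intro d
    rw [← pair_P_of_mem ℳ 𝒟 β hD hx d]
    have := h (P 𝒟 (-n) d) (P_mem 𝒟 (-n) d)
    rwa [LinearMap.flip_apply] at this
  exists_eq n g := by
    have := hfin n
    obtain ⟨y, hy, h⟩ := exists_on_piece 𝒜 ℳ 𝒟 β hD n g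
    exact ⟨y, hy, fun d hd => by rw [LinearMap.flip_apply]; exact h d hd⟩

end Flip

section Pieces

variable {k : Type u} [Field k] {R : Type u} [CommRing R] [Algebra k R]
  (𝒜 : ℤ → Submodule k R) [GradedAlgebra 𝒜]
  {M : Type u} [AddCommGroup M] [Module R M] [Module k M] [IsScalarTower k R M]
  (ℳ : ℤ → AddSubgroup M) [DirectSum.Decomposition ℳ] [SetLike.GradedSMul 𝒜 ℳ]

theorem mem_geSub_of_mem (hpos : ∀ n : ℤ, n < 0 → 𝒜 n = ⊥) {m : ℤ} {x : M} (hx : x ∈ ℳ m) :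
    x ∈ geSub 𝒜 ℳ hpos m := fun n hn => P_of_mem_ne ℳ hx (by omega)

theorem geSub_anti (hpos : ∀ n : ℤ, n < 0 → 𝒜 n = ⊥) {m m' : ℤ} (h : m' ≤ m) :
    geSub 𝒜 ℳ hpos m ≤ geSub 𝒜 ℳ hpos m' := fun _ hx n hn => hx n (by omega)

/-- Multiplying by a homogeneous element of degree `a` maps `M_{≥ n}` into `M_{≥ n + a}`. -/
theorem smul_mem_geSub (hpos : ∀ n : ℤ, n < 0 → 𝒜 n = ⊥) {a n : ℤ} {r : R} (hr : r ∈ 𝒜 a)
    {x : M} (hx : x ∈ geSub 𝒜 ℳ hpos n) : r • x ∈ geSub 𝒜 ℳ hpos (n + a) := by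
  intro j hj
  rw [P_smul_homog 𝒜 ℳ hr j x, hx (j - a) (by omega), smul_zero]

/-- The degree-`m` components of the `R`-span of a subset of `M_{≥ m}` lie in the `k`-span of the
degree-`m` components of the subset. -/
theorem P_mem_span_of_ge (hpos : ∀ n : ℤ, n < 0 → 𝒜 n = ⊥)
    (h0R : 𝒜 0 = Submodule.span k {(1 : R)}) (m : ℤ) (S : Set M)
    (hS : ∀ s ∈ S, s ∈ geSub 𝒜 ℳ hpos m) :
    ∀ z ∈ Submodule.span R S, P ℳ m z ∈ Submodule.span k (P ℳ m '' S) := by
  have hle : Submodule.span R S ≤ geSub 𝒜 ℳ hpos m := Submodule.span_le.2 hS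
  intro z hz
  refine Submodule.span_induction
    (p := fun z _ => P ℳ m z ∈ Submodule.span k (P ℳ m '' S)) ?_ ?_ ?_ ?_ hz
  · intro s hs
    exact Submodule.subset_span ⟨s, hs, rfl⟩
  · rw [P_zero]; exact zero_mem _
  · intro x y _ _ ihx ihy
    rw [P_add]; exact add_mem ihx ihy
  · intro r z hz ih
    have hzN : z ∈ geSub 𝒜 ℳ hpos m := hle hz
    rw [P_smul_of_ge 𝒜 ℳ hpos hzN r]
    have h1 : ((DirectSum.decompose 𝒜 r 0 : 𝒜 0) : R) ∈ Submodule.span k {(1 : R)} := by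
      rw [← h0R]; exact (DirectSum.decompose 𝒜 r 0).2
    obtain ⟨c, hc⟩ := Submodule.mem_span_singleton.1 h1
    rw [← hc, smul_assoc, one_smul]
    exact Submodule.smul_mem _ c ih

/-- The pieces of an Artinian graded module are finite dimensional. -/
theorem pieceSub_finite_of_artinian (hpos : ∀ n : ℤ, n < 0 → 𝒜 n = ⊥)
    (h0R : 𝒜 0 = Submodule.span k {(1 : R)}) [IsArtinian R M] (m : ℤ) :
    Module.Finite k (pieceSub 𝒜 ℳ m) := by
  let V := pieceSub 𝒜 ℳ m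
  let f : Submodule k V → Submodule R M := fun W =>
    Submodule.span R ((W.map V.subtype : Submodule k M) : Set M)
  have hf : StrictMono f := by
    intro W₁ W₂ h
    refine lt_of_le_of_ne (Submodule.span_mono (Submodule.map_mono h.le)) ?_
    intro heq
    apply h.not_ge
    intro w hw
    have hwM : (w : M) ∈ f W₂ := Submodule.subset_span ⟨w, hw, rfl⟩
    rw [← heq] at hwM
    have h2 := P_mem_span_of_ge 𝒜 ℳ hpos h0R m _
      (fun s hs => by
        obtain ⟨v, _, rfl⟩ := hs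
        exact mem_geSub_of_mem 𝒜 ℳ hpos v.2) _ hwM
    rw [P_of_mem_same ℳ w.2] at h2
    have h3 : P ℳ m '' ((W₁.map V.subtype : Submodule k M) : Set M) =
        ((W₁.map V.subtype : Submodule k M) : Set M) := by
      ext y
      constructor
      · rintro ⟨_, ⟨v, hv, rfl⟩, rfl⟩
        exact ⟨v, hv, (P_of_mem_same ℳ v.2).symm⟩
      · rintro ⟨v, hv, rfl⟩
        exact ⟨_, ⟨v, hv, rfl⟩, P_of_mem_same ℳ v.2⟩
    rw [h3, Submodule.span_eq] at h2
    obtain ⟨v, hv, hvw⟩ := h2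
    have : v = w := Subtype.ext hvw
    rwa [← this]
  have : WellFoundedLT (Submodule k V) := hf.wellFoundedLT
  exact ((IsSemisimpleModule.finite_tfae (R := k) (M := V)).out 2 0).mp ‹IsArtinian k V›

end Pieces

section Sep

variable {k : Type u} [Field k] {R : Type u} [CommRing R] [Algebra k R]
  (𝒜 : ℤ → Submodule k R) [GradedAlgebra 𝒜]
  {M : Type u} [AddCommGroup M] [Module R M] [Module k M] [IsScalarTower k R M]
  (ℳ : ℤ → AddSubgroup M) [DirectSum.Decomposition ℳ] [SetLike.GradedSMul 𝒜 ℳ]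
  {D : Type u} [AddCommGroup D] [Module R D] [Module k D] [IsScalarTower k R D]
  (𝒟 : ℤ → AddSubgroup D) [DirectSum.Decomposition 𝒟] [SetLike.GradedSMul 𝒜 𝒟]
  (β : D →ₗ[k] M →ₗ[k] k)

omit [IsScalarTower k R D] [SetLike.GradedSMul 𝒜 𝒟] in
/-- Separation in a piece of the dual: a `k`-subspace `W` of `D_n` and an element `d ∈ D_n` outside it are
separated by an element of the finite-dimensional piece `M_{-n}`. -/
theorem exists_sep (hD : GrSeg.IsGDual R ℳ 𝒟 β) (n : ℤ) [Module.Finite k (pieceSub 𝒜 ℳ (-n))]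
    (W : Submodule k D) (hW : ∀ w ∈ W, w ∈ 𝒟 n) {d : D} (hd : d ∈ 𝒟 n) (hdW : d ∉ W) :
    ∃ x ∈ ℳ (-n), (∀ w ∈ W, β w x = 0) ∧ β d x ≠ 0 := by
  classical
  let V := pieceSub 𝒜 ℳ (-n)
  let T : D →ₗ[k] Module.Dual k V := (LinearMap.lcomp k k V.subtype) ∘ₗ β
  have hT : ∀ (e : D) (v : V), T e v = β e (v : M) := fun _ _ => rfl
  let W' : Submodule k (Module.Dual k V) := W.map T
  have hnot : T d ∉ W' := by
    rintro ⟨w, hw, hwd⟩
    apply hdW
    have h0 : d - w = 0 := by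
      apply hD.eq_zero n _ (sub_mem hd (hW w hw))
      intro x hx
      have := LinearMap.congr_fun hwd ⟨x, hx⟩
      rw [hT, hT] at this
      rw [map_sub, LinearMap.sub_apply, ← this, sub_self]
    rw [sub_eq_zero.1 h0]
    exact hw
  rw [← Subspace.dualCoannihilator_dualAnnihilator_eq (W := W'),
    Submodule.mem_dualAnnihilator] at hnot
  push Not at hnot
  obtain ⟨v, hv, hvd⟩ := hnot
  rw [Submodule.mem_dualCoannihilator] at hv
  refine ⟨(v : M), v.2, fun w hw => ?_, ?_⟩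
  · have := hv (T w) ⟨w, hw, rfl⟩
    rwa [hT] at this
  · rwa [hT] at hvd

end Sep

section LowPerp

variable {k : Type u} [Field k] {R : Type u} [CommRing R] [Algebra k R]
  (𝒜 : ℤ → Submodule k R) [GradedAlgebra 𝒜]
  {M : Type u} [AddCommGroup M] [Module R M] [Module k M] [IsScalarTower k R M]
  (ℳ : ℤ → AddSubgroup M) [DirectSum.Decomposition ℳ] [SetLike.GradedSMul 𝒜 ℳ]
  {D : Type u} [AddCommGroup D] [Module R D] [Module k D] [IsScalarTower k R D]
  (𝒟 : ℤ → AddSubgroup D) [DirectSum.Decomposition 𝒟] [SetLike.GradedSMul 𝒜 𝒟]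
  (β : D →ₗ[k] M →ₗ[k] k)

/-- The annihilator in `M` of the lowest-degree initial forms of a submodule `N` of `D`. -/
def lowPerp (hpos : ∀ n : ℤ, n < 0 → 𝒜 n = ⊥) (hD : GrSeg.IsGDual R ℳ 𝒟 β) (N : Submodule R D) :
    Submodule R M where
  carrier := {x | ∀ n : ℤ, ∀ d ∈ N, d ∈ geSub 𝒜 𝒟 hpos n → β d (P ℳ (-n) x) = 0}
  add_mem' := by
    intro x y hx hy n d hdN hdn
    rw [P_add, map_add, hx n d hdN hdn, hy n d hdN hdn, add_zero]
  zero_mem' := by
    intro n d _ _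
    rw [P_zero, map_zero]
  smul_mem' := by
    intro r x hx n d hdN hdn
    refine DirectSum.Decomposition.inductionOn 𝒜
      (motive := fun r => β d (P ℳ (-n) (r • x)) = 0) ?_ ?_ ?_ r
    · rw [zero_smul, P_zero, map_zero]
    · intro a ra
      rw [P_smul_homog 𝒜 ℳ ra.2 (-n) x, ← hD.map_smul, show -n - a = -(n + a) by ring]
      exact hx (n + a) _ (N.smul_mem _ hdN) (smul_mem_geSub 𝒜 𝒟 hpos ra.2 hdn)
    · intro r r' h h'
      rw [add_smul, P_add, map_add, h, h', add_zero]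

theorem lowPerp_anti (hpos : ∀ n : ℤ, n < 0 → 𝒜 n = ⊥) (hD : GrSeg.IsGDual R ℳ 𝒟 β)
    {N N' : Submodule R D} (h : N ≤ N') : lowPerp 𝒜 ℳ 𝒟 β hpos hD N' ≤ lowPerp 𝒜 ℳ 𝒟 β hpos hD N :=
  fun _ hx n d hdN hdn => hx n d (h hdN) hdn

/-- Key step: if `D` is bounded above and the pieces of `M` are finite dimensional, a submodule of `D` is
determined, among the submodules containing it, by the annihilator of its initial forms. -/
theorem le_of_lowPerp_le (hpos : ∀ n : ℤ, n < 0 → 𝒜 n = ⊥) (hD : GrSeg.IsGDual R ℳ 𝒟 β)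
    (hfin : ∀ m : ℤ, Module.Finite k (pieceSub 𝒜 ℳ m))
    {N₀ : ℤ} (hN₀ : ∀ i : ℤ, N₀ < i → ∀ z ∈ 𝒟 i, z = 0)
    {N N' : Submodule R D} (hNN' : N ≤ N')
    (hperp : lowPerp 𝒜 ℳ 𝒟 β hpos hD N ≤ lowPerp 𝒜 ℳ 𝒟 β hpos hD N') : N' ≤ N := by
  have key : ∀ (t : ℕ) (d : D), d ∈ N' → d ∈ geSub 𝒜 𝒟 hpos (N₀ + 1 - t) → d ∈ N := by
    intro t
    induction t with
    | zero =>
      intro d _ hd
      have : d = 0 := by
        apply eq_zero_of_P_eq_zero 𝒟
        intro j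
        by_cases hj : j < N₀ + 1
        · exact hd j (by push_cast; omega)
        · exact hN₀ j (by omega) _ (P_mem 𝒟 j d)
      rw [this]; exact zero_mem _
    | succ t ih =>
      intro d hdN' hd
      obtain ⟨n, hn⟩ : ∃ n : ℤ, n = N₀ + 1 - ((t + 1 : ℕ) : ℤ) := ⟨_, rfl⟩
      rw [← hn] at hd
      have hn1 : n + 1 = N₀ + 1 - (t : ℤ) := by rw [hn]; push_cast; ring
      -- the `k`-subspace of degree-`n` initial forms of `N`
      let W : Submodule k D :=
        ((N ⊓ geSub 𝒜 𝒟 hpos n).restrictScalars k).map (Groth.Agent.Lib.Helper24GrDual2.Plin 𝒜 𝒟 n)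
      have hW : ∀ w ∈ W, w ∈ 𝒟 n := by
        rintro _ ⟨e, _, rfl⟩
        exact P_mem 𝒟 n e
      by_cases hdW : P 𝒟 n d ∈ W
      · obtain ⟨e, he, hed⟩ := hdW
        have heN : e ∈ N := he.1
        have hen : e ∈ geSub 𝒜 𝒟 hpos n := he.2
        have hed' : P 𝒟 n e = P 𝒟 n d := hed
        have hsub : d - e ∈ N := by
          apply ih (d - e) (sub_mem hdN' (hNN' heN))
          rw [← hn1]
          intro j hj
          rw [P_sub]
          by_cases hjn : j = n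
          · rw [hjn, hed', sub_self]
          · rw [hd j (by omega), hen j (by omega), sub_self]
        have : d = (d - e) + e := by abel
        rw [this]
        exact add_mem hsub heN
      · exfalso
        have := hfin (-n)
        obtain ⟨x, hx, hxW, hxd⟩ := exists_sep 𝒜 ℳ 𝒟 β hD n W hW (P_mem 𝒟 n d) hdW
        have hxN : x ∈ lowPerp 𝒜 ℳ 𝒟 β hpos hD N := by
          intro m e heN hem
          by_cases hmn : m = n
          · subst hmn
            rw [P_of_mem_same ℳ hx, ← pair_P_of_mem ℳ 𝒟 β hD hx e, neg_neg]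
            exact hxW _ ⟨e, ⟨heN, hem⟩, rfl⟩
          · rw [P_of_mem_ne ℳ hx (by omega), map_zero]
        have h2 := hperp hxN n d hdN' hd
        rw [P_of_mem_same ℳ hx, ← pair_P_of_mem ℳ 𝒟 β hD hx d, neg_neg] at h2
        exact hxd h2
  intro d hd
  obtain ⟨m, hm⟩ := exists_lower 𝒟 d
  obtain ⟨t, ht⟩ : ∃ t : ℕ, N₀ + 1 - (t : ℤ) ≤ m := ⟨(N₀ + 1 - m).toNat, by omega⟩
  exact key t d hd (geSub_anti 𝒜 𝒟 hpos ht hm)

/-- `M` finite over `R` ⇒ its graded dual `D` is an Artinian `R`-module. -/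
theorem isArtinian_dual (hpos : ∀ n : ℤ, n < 0 → 𝒜 n = ⊥)
    (h0R : 𝒜 0 = Submodule.span k {(1 : R)}) [Algebra.FiniteType k R] [Module.Finite R M]
    (hD : GrSeg.IsGDual R ℳ 𝒟 β) : IsArtinian R D := by
  have : IsNoetherianRing R := Algebra.FiniteType.isNoetherianRing k R
  have : IsNoetherian R M := isNoetherian_of_isNoetherianRing_of_finite R M
  have : WellFoundedGT (Submodule R M) := isNoetherian_iff'.1 inferInstance
  have hfin : ∀ m : ℤ, Module.Finite k (pieceSub 𝒜 ℳ m) := pieceSub_finite 𝒜 ℳ hpos h0R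
  obtain ⟨m, hm⟩ := exists_bound 𝒜 ℳ hpos
  have hN₀ : ∀ i : ℤ, -m < i → ∀ z ∈ 𝒟 i, z = 0 := fun i hi z hz =>
    dual_piece_zero ℳ 𝒟 β hD hm hi hz
  have hanti : StrictAnti (lowPerp 𝒜 ℳ 𝒟 β hpos hD) := by
    intro N N' h
    refine lt_of_le_of_ne (lowPerp_anti 𝒜 ℳ 𝒟 β hpos hD h.le) ?_
    intro heq
    exact h.not_ge (le_of_lowPerp_le 𝒜 ℳ 𝒟 β hpos hD hfin hN₀ h.le heq.ge)
  exact hanti.wellFoundedLT

end LowPerp

section GrSub

variable {k : Type u} [Field k] {R : Type u} [CommRing R] [Algebra k R]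
  (𝒜 : ℤ → Submodule k R) [GradedAlgebra 𝒜]
  {D : Type u} [AddCommGroup D] [Module R D] [Module k D] [IsScalarTower k R D]
  (𝒟 : ℤ → AddSubgroup D) [DirectSum.Decomposition 𝒟] [SetLike.GradedSMul 𝒜 𝒟]

/-- A submodule is graded when it contains the homogeneous components of its elements. -/
def IsGr (N : Submodule R D) : Prop := ∀ d ∈ N, ∀ n : ℤ, P 𝒟 n d ∈ N

omit [Module k D] [IsScalarTower k R D] in
theorem mem_of_P_mem (N : Submodule R D) {d : D} (h : ∀ n : ℤ, P 𝒟 n d ∈ N) : d ∈ N := by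
  classical
  rw [← DirectSum.sum_support_decompose 𝒟 d]
  exact sum_mem (fun n _ => h n)

omit [Module k D] [IsScalarTower k R D] in
theorem isGr_bot : IsGr 𝒟 (⊥ : Submodule R D) := by
  intro d hd n
  rw [(Submodule.mem_bot R).1 hd, P_zero]
  exact zero_mem _

omit [Module k D] [IsScalarTower k R D] in
theorem isGr_sup {N N' : Submodule R D} (h : IsGr 𝒟 N) (h' : IsGr 𝒟 N') : IsGr 𝒟 (N ⊔ N') := by
  intro d hd n
  obtain ⟨a, ha, b, hb, rfl⟩ := Submodule.mem_sup.1 hd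
  rw [P_add]
  exact Submodule.add_mem_sup (h a ha n) (h' b hb n)

include 𝒜 in
theorem isGr_span_singleton {j : ℤ} {y : D} (hy : y ∈ 𝒟 j) : IsGr 𝒟 (Submodule.span R {y}) := by
  intro d hd n
  obtain ⟨r, rfl⟩ := Submodule.mem_span_singleton.1 hd
  refine DirectSum.Decomposition.inductionOn 𝒜
    (motive := fun r => P 𝒟 n (r • y) ∈ Submodule.span R {y}) ?_ ?_ ?_ r
  · rw [zero_smul, P_zero]; exact zero_mem _
  · intro a ra
    rw [P_smul_homog 𝒜 𝒟 ra.2 n y]
    apply Submodule.smul_mem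
    by_cases h : j = n - a
    · rw [P_of_mem_same 𝒟 (h ▸ hy)]
      exact Submodule.mem_span_singleton_self y
    · rw [P_of_mem_ne 𝒟 hy h]; exact zero_mem _
  · intro r r' h h'
    rw [add_smul, P_add]; exact add_mem h h'

end GrSub

section Perp

variable {k : Type u} [Field k] {R : Type u} [CommRing R] [Algebra k R]
  (𝒜 : ℤ → Submodule k R) [GradedAlgebra 𝒜]
  {M : Type u} [AddCommGroup M] [Module R M] [Module k M] [IsScalarTower k R M]
  (ℳ : ℤ → AddSubgroup M) [DirectSum.Decomposition ℳ] [SetLike.GradedSMul 𝒜 ℳ]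
  {D : Type u} [AddCommGroup D] [Module R D] [Module k D] [IsScalarTower k R D]
  (𝒟 : ℤ → AddSubgroup D) [DirectSum.Decomposition 𝒟] [SetLike.GradedSMul 𝒜 𝒟]
  (β : D →ₗ[k] M →ₗ[k] k)

/-- The annihilator in `M` of a submodule of `D`. -/
def perp (hD : GrSeg.IsGDual R ℳ 𝒟 β) (N : Submodule R D) : Submodule R M where
  carrier := {x | ∀ d ∈ N, β d x = 0}
  add_mem' := by
    intro x y hx hy d hd
    rw [map_add, hx d hd, hy d hd, add_zero]
  zero_mem' := fun d _ => map_zero _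
  smul_mem' := by
    intro r x hx d hd
    rw [← hD.map_smul]
    exact hx _ (N.smul_mem r hd)

omit [SetLike.GradedSMul 𝒜 ℳ] [SetLike.GradedSMul 𝒜 𝒟] in
theorem perp_anti (hD : GrSeg.IsGDual R ℳ 𝒟 β) {N N' : Submodule R D} (h : N ≤ N') :
    perp ℳ 𝒟 β hD N' ≤ perp ℳ 𝒟 β hD N := fun _ hx d hd => hx d (h hd)

/-- A graded submodule of `D` is determined, among the graded submodules containing it, by its annihilator. -/
theorem le_of_perp_le (hD : GrSeg.IsGDual R ℳ 𝒟 β)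
    (hfin : ∀ m : ℤ, Module.Finite k (pieceSub 𝒜 ℳ m))
    {N N' : Submodule R D} (hN : IsGr 𝒟 N) (hN' : IsGr 𝒟 N')
    (hperp : perp ℳ 𝒟 β hD N ≤ perp ℳ 𝒟 β hD N') : N' ≤ N := by
  intro d hd
  apply mem_of_P_mem 𝒟 N
  intro n
  let W : Submodule k D := (N.restrictScalars k) ⊓ (pieceSub 𝒜 𝒟 n)
  have hW : ∀ w ∈ W, w ∈ 𝒟 n := fun w hw => hw.2
  by_contra hdn
  have hdW : P 𝒟 n d ∉ W := fun h => hdn h.1
  have := hfin (-n)
  obtain ⟨x, hx, hxW, hxd⟩ := exists_sep 𝒜 ℳ 𝒟 β hD n W hW (P_mem 𝒟 n d) hdW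
  have hxN : x ∈ perp ℳ 𝒟 β hD N := by
    intro e he
    rw [← pair_P_of_mem ℳ 𝒟 β hD hx e, neg_neg]
    exact hxW _ ⟨hN e he n, P_mem 𝒟 n e⟩
  exact hxd (hperp hxN _ (hN' d hd n))

/-- `M` Artinian over `R` ⇒ its graded dual `D` is a finite `R`-module. -/
theorem finite_dual (hpos : ∀ n : ℤ, n < 0 → 𝒜 n = ⊥)
    (h0R : 𝒜 0 = Submodule.span k {(1 : R)}) [IsArtinian R M]
    (hD : GrSeg.IsGDual R ℳ 𝒟 β) : Module.Finite R D := by
  have hfin : ∀ m : ℤ, Module.Finite k (pieceSub 𝒜 ℳ m) :=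
    pieceSub_finite_of_artinian 𝒜 ℳ hpos h0R
  let S : Set (Submodule R M) := {K | ∃ N : Submodule R D, N.FG ∧ IsGr 𝒟 N ∧ perp ℳ 𝒟 β hD N = K}
  have hS : S.Nonempty := ⟨_, ⊥, Submodule.fg_bot, isGr_bot 𝒟, rfl⟩
  obtain ⟨K, ⟨N, hNfg, hNgr, rfl⟩, hmin⟩ := IsArtinian.set_has_minimal S hS
  have hhom : ∀ (n : ℤ) (y : D), y ∈ 𝒟 n → y ∈ N := by
    intro n y hy
    have hgr1 : IsGr 𝒟 (N ⊔ Submodule.span R {y}) :=
      isGr_sup 𝒟 hNgr (isGr_span_singleton 𝒜 𝒟 hy)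
    have hfg1 : (N ⊔ Submodule.span R {y}).FG := hNfg.sup (Submodule.fg_span_singleton y)
    have hle : perp ℳ 𝒟 β hD (N ⊔ Submodule.span R {y}) ≤ perp ℳ 𝒟 β hD N :=
      perp_anti ℳ 𝒟 β hD le_sup_left
    have hnlt := hmin _ ⟨_, hfg1, hgr1, rfl⟩
    have hge : perp ℳ 𝒟 β hD N ≤ perp ℳ 𝒟 β hD (N ⊔ Submodule.span R {y}) := by
      by_contra h
      exact hnlt (lt_of_le_not_ge hle h)
    have := le_of_perp_le 𝒜 ℳ 𝒟 β hD hfin hNgr hgr1 hge
    exact this (Submodule.mem_sup_right (Submodule.mem_span_singleton_self y))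
  have htop : N = ⊤ := by
    rw [eq_top_iff]
    intro d _
    exact mem_of_P_mem 𝒟 N (fun n => hhom n _ (P_mem 𝒟 n d))
  rw [htop] at hNfg
  exact ⟨hNfg⟩

end Perp

end Groth.Agent.R2.H97.GrDual
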