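import Mathlib
import Groth.Prelude.Def_GrSeg
import Groth.Agent.R2.H97GrDual

/-!
# Artinian graded modules embed in sums of shifts of `R^*` (helper97)

* `isArtinian_dual_self`: the graded dual `R^*` of `R` itself is an Artinian `R`-module;
* `repFun`: the `R`-linear map `M → R^*`, `x ↦ (r ↦ y (r x))` attached to a homogeneous functional `y` on `M`;
* `exists_sep_family`: an Artinian graded module is separated by finitely many homogeneous functionals;
* `exists_embedding`: an Artinian graded module embeds, by a graded map, in a finite sum of shifts of `R^*`.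
-/

set_option autoImplicit false
universe u
open DirectSum

namespace Groth.Agent.R2.H97.GrDualEmbed

open Groth.Agent.R2.H97.GrDual

section RDual

variable {k : Type u} [Field k] {R : Type u} [CommRing R] [Algebra k R]
  (𝒜 : ℤ → Submodule k R) [GradedAlgebra 𝒜]
  {D : Type u} [AddCommGroup D] [Module R D] [Module k D] [IsScalarTower k R D]
  (𝒟 : ℤ → AddSubgroup D) [DirectSum.Decomposition 𝒟] [SetLike.GradedSMul 𝒜 𝒟]
  (β : D →ₗ[k] R →ₗ[k] k)

/-- The pieces of `R` as additive subgroups. -/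
def 𝒜g : ℤ → AddSubgroup R := fun n => (𝒜 n).toAddSubgroup

@[instance_reducible]
noncomputable def decompAddSubgroup : DirectSum.Decomposition (𝒜g 𝒜) :=
    { decompose' := DirectSum.decompose 𝒜
      left_inv := fun _ ↦ (decompose 𝒜).left_inv _
      right_inv := fun _ ↦ (decompose 𝒜).right_inv _ }

theorem gradedSMul_self : SetLike.GradedSMul 𝒜 (𝒜g 𝒜) :=
  ⟨fun {i j ai bj} hi hj => by
    change ai * bj ∈ 𝒜 (i + j)
    exact SetLike.GradedMul.mul_mem hi hj⟩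

omit [IsScalarTower k R D] [SetLike.GradedSMul 𝒜 𝒟] in
theorem isGDual_self (hD : GrSeg.IsGDual R 𝒜 𝒟 β) :
    letI := decompAddSubgroup 𝒜
    GrSeg.IsGDual R (𝒜g 𝒜) 𝒟 β :=
  letI := decompAddSubgroup 𝒜
  { map_smul := hD.map_smul
    vanish := hD.vanish
    eq_zero := hD.eq_zero
    exists_eq := hD.exists_eq }

/-- The graded dual of `R` is an Artinian `R`-module. -/
theorem isArtinian_dual_self (hpos : ∀ n : ℤ, n < 0 → 𝒜 n = ⊥)
    (h0R : 𝒜 0 = Submodule.span k {(1 : R)}) [Algebra.FiniteType k R]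
    (hD : GrSeg.IsGDual R 𝒜 𝒟 β) : IsArtinian R D := by
  let _ := decompAddSubgroup 𝒜
  have := gradedSMul_self 𝒜
  exact isArtinian_dual 𝒜 (𝒜g 𝒜) 𝒟 β hpos h0R (isGDual_self 𝒜 𝒟 β hD)

end RDual

section Embed

open Groth.Agent.Lib.Helper24GrDual Groth.Agent.Lib.Helper24GrDual2 Groth.Agent.Lib.Helper24GrDual3

variable {k : Type u} [Field k] {R : Type u} [CommRing R] [Algebra k R]
  (𝒜 : ℤ → Submodule k R) [GradedAlgebra 𝒜]
  {M : Type u} [AddCommGroup M] [Module R M] [Module k M] [IsScalarTower k R M]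
  (ℳ : ℤ → AddSubgroup M) [DirectSum.Decomposition ℳ] [SetLike.GradedSMul 𝒜 ℳ]
  {D : Type u} [AddCommGroup D] [Module R D] [Module k D] [IsScalarTower k R D]
  (𝒟 : ℤ → AddSubgroup D) [DirectSum.Decomposition 𝒟] [SetLike.GradedSMul 𝒜 𝒟]
  (β : D →ₗ[k] R →ₗ[k] k)

/-- A `k`-linear functional on `M` is homogeneous of degree `g` when it vanishes on `M_m`, `m ≠ g`. -/
def IsHomFun (g : ℤ) (y : M →ₗ[k] k) : Prop := ∀ m : ℤ, m ≠ g → ∀ x ∈ ℳ m, y x = 0

omit [IsScalarTower k R M] in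
theorem IsHomFun.apply_P {g : ℤ} {y : M →ₗ[k] k} (hy : IsHomFun ℳ g y) (z : M) :
    y (P ℳ g z) = y z := by
  refine DirectSum.Decomposition.inductionOn ℳ (motive := fun z => y (P ℳ g z) = y z) ?_ ?_ ?_ z
  · rw [P_zero]
  · intro j zj
    by_cases hj : j = g
    · subst hj
      rw [P_of_mem_same ℳ zj.2]
    · rw [P_of_mem_ne ℳ zj.2 hj, map_zero, hy j hj _ zj.2]
  · intro z z' h h'
    rw [P_add, map_add, h, h', map_add]

theorem isHomFun_comp_Plin (m : ℤ) (φ : M →ₗ[k] k) : IsHomFun ℳ m (φ ∘ₗ Plin 𝒜 ℳ m) := by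
  intro j hj x hx
  change φ (P ℳ m x) = 0
  rw [P_of_mem_ne ℳ hx hj, map_zero]

omit [Decomposition ℳ] [IsScalarTower k R D] [SetLike.GradedSMul 𝒜 𝒟] in
/-- For a homogeneous functional `y` of degree `g` on `M` and `x ∈ M_m`, the functional `r ↦ y (r x)` on `R` is
represented by an element of `D_{m - g}`. -/
theorem exists_rep_of_mem (hD : GrSeg.IsGDual R 𝒜 𝒟 β) {g : ℤ} {y : M →ₗ[k] k}
    (hy : IsHomFun ℳ g y) {m : ℤ} {x : M} (hx : x ∈ ℳ m) :
    ∃ d ∈ 𝒟 (m - g), ∀ r : R, β d r = y (r • x) := by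
  let ψ : R →ₗ[k] k := y ∘ₗ ((LinearMap.toSpanSingleton R M x).restrictScalars k)
  have hψ : ∀ r, ψ r = y (r • x) := fun _ => rfl
  obtain ⟨d, hd, hdψ⟩ := hD.exists_eq (m - g) ψ
  refine ⟨d, hd, fun r => ?_⟩
  rw [← hψ]
  refine DirectSum.Decomposition.inductionOn 𝒜 (motive := fun r => β d r = ψ r) ?_ ?_ ?_ r
  · rw [map_zero, map_zero]
  · intro a ra
    by_cases ha : a = -(m - g)
    · exact hdψ _ (ha ▸ ra.2)
    · rw [hD.vanish (m - g) d hd a ha _ ra.2, hψ]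
      have hmem : (ra : R) • x ∈ ℳ (a + m) := by
        have h := SetLike.GradedSMul.smul_mem (A := 𝒜) (B := ℳ) ra.2 hx
        rwa [vadd_eq_add] at h
      exact (hy (a + m) (by omega) _ hmem).symm
  · intro r r' h h'
    rw [map_add, map_add, h, h']

theorem exists_rep (hD : GrSeg.IsGDual R 𝒜 𝒟 β) {g : ℤ} {y : M →ₗ[k] k}
    (hy : IsHomFun ℳ g y) (x : M) : ∃ d : D, ∀ r : R, β d r = y (r • x) := by
  refine DirectSum.Decomposition.inductionOn ℳ
    (motive := fun x => ∃ d : D, ∀ r : R, β d r = y (r • x)) ?_ ?_ ?_ x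
  · exact ⟨0, fun r => by rw [map_zero, LinearMap.zero_apply, smul_zero, map_zero]⟩
  · intro m xm
    obtain ⟨d, _, h⟩ := exists_rep_of_mem 𝒜 ℳ 𝒟 β hD hy xm.2
    exact ⟨d, h⟩
  · rintro x x' ⟨d, h⟩ ⟨d', h'⟩
    exact ⟨d + d', fun r => by rw [map_add, LinearMap.add_apply, h, h', smul_add, map_add]⟩

/-- The `R`-linear map `M → D`, `x ↦ (r ↦ y (r x))`, attached to a homogeneous functional `y`. -/
noncomputable def repFun (hD : GrSeg.IsGDual R 𝒜 𝒟 β) {g : ℤ} {y : M →ₗ[k] k}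
    (hy : IsHomFun ℳ g y) : M →ₗ[R] D where
  toFun x := Classical.choose (exists_rep 𝒜 ℳ 𝒟 β hD hy x)
  map_add' x x' := by
    have h := Classical.choose_spec (exists_rep 𝒜 ℳ 𝒟 β hD hy x)
    have h' := Classical.choose_spec (exists_rep 𝒜 ℳ 𝒟 β hD hy x')
    have h'' := Classical.choose_spec (exists_rep 𝒜 ℳ 𝒟 β hD hy (x + x'))
    apply sub_eq_zero.1
    apply sepD 𝒜 𝒟 β hD
    intro r
    rw [map_sub, LinearMap.sub_apply, map_add, LinearMap.add_apply, h, h', h'', smul_add, map_add,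
      sub_self]
  map_smul' s x := by
    have h := Classical.choose_spec (exists_rep 𝒜 ℳ 𝒟 β hD hy x)
    have h'' := Classical.choose_spec (exists_rep 𝒜 ℳ 𝒟 β hD hy (s • x))
    apply sub_eq_zero.1
    apply sepD 𝒜 𝒟 β hD
    intro r
    rw [map_sub, LinearMap.sub_apply, RingHom.id_apply, hD.map_smul, h, h'', smul_eq_mul,
      mul_comm s r, mul_smul, sub_self]

theorem repFun_spec (hD : GrSeg.IsGDual R 𝒜 𝒟 β) {g : ℤ} {y : M →ₗ[k] k}
    (hy : IsHomFun ℳ g y) (x : M) (r : R) : β (repFun 𝒜 ℳ 𝒟 β hD hy x) r = y (r • x) :=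
  Classical.choose_spec (exists_rep 𝒜 ℳ 𝒟 β hD hy x) r

theorem repFun_mem (hD : GrSeg.IsGDual R 𝒜 𝒟 β) {g : ℤ} {y : M →ₗ[k] k}
    (hy : IsHomFun ℳ g y) {m : ℤ} {x : M} (hx : x ∈ ℳ m) :
    repFun 𝒜 ℳ 𝒟 β hD hy x ∈ 𝒟 (m - g) := by
  obtain ⟨d, hd, h⟩ := exists_rep_of_mem 𝒜 ℳ 𝒟 β hD hy hx
  have : repFun 𝒜 ℳ 𝒟 β hD hy x = d := by
    apply sub_eq_zero.1
    apply sepD 𝒜 𝒟 β hD
    intro r
    rw [map_sub, LinearMap.sub_apply, repFun_spec, h, sub_self]
  rw [this]; exact hd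

/-- The submodule of `M` cut out by a list of homogeneous functionals: `x` with `y (r x) = 0` for all `r` and all
`y` in the list. -/
def cutOut (l : List (ℤ × (M →ₗ[k] k))) : Submodule R M where
  carrier := {x | ∀ p ∈ l, ∀ r : R, p.2 (r • x) = 0}
  add_mem' := by
    intro x x' hx hx' p hp r
    rw [smul_add, map_add, hx p hp r, hx' p hp r, add_zero]
  zero_mem' := by
    intro p _ r
    rw [smul_zero, map_zero]
  smul_mem' := by
    intro s x hx p hp r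
    rw [← mul_smul]
    exact hx p hp _

include 𝒜 in
theorem cutOut_P_mem (l : List (ℤ × (M →ₗ[k] k))) (hl : ∀ p ∈ l, IsHomFun ℳ p.1 p.2) {x : M}
    (hx : x ∈ cutOut (R := R) l) (m : ℤ) : P ℳ m x ∈ cutOut (R := R) l := by
  intro p hp r
  refine DirectSum.Decomposition.inductionOn 𝒜 (motive := fun r => p.2 (r • P ℳ m x) = 0) ?_ ?_ ?_ r
  · rw [zero_smul, map_zero]
  · intro a ra
    have h1 : P ℳ (m + a) ((ra : R) • x) = (ra : R) • P ℳ m x := by
      rw [P_smul_homog 𝒜 ℳ ra.2 (m + a) x, add_sub_cancel_right]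
    rw [← h1]
    by_cases h : m + a = p.1
    · rw [h, (hl p hp).apply_P]
      exact hx p hp _
    · exact hl p hp (m + a) h _ (P_mem ℳ _ _)
  · intro r r' h h'
    rw [add_smul, map_add, h, h', add_zero]

include 𝒜 in
/-- An Artinian graded module is separated by finitely many homogeneous functionals (up to the `R`-action). -/
theorem exists_sep_family [IsArtinian R M] :
    ∃ l : List (ℤ × (M →ₗ[k] k)), (∀ p ∈ l, IsHomFun ℳ p.1 p.2) ∧ cutOut (R := R) l = ⊥ := by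
  let S : Set (Submodule R M) :=
    {K | ∃ l : List (ℤ × (M →ₗ[k] k)), (∀ p ∈ l, IsHomFun ℳ p.1 p.2) ∧ cutOut (R := R) l = K}
  have hS : S.Nonempty := ⟨_, [], fun p hp => by simp at hp, rfl⟩
  obtain ⟨K, ⟨l, hl, rfl⟩, hmin⟩ := IsArtinian.set_has_minimal S hS
  refine ⟨l, hl, ?_⟩
  rw [eq_bot_iff]
  intro x hx
  rw [Submodule.mem_bot]
  apply eq_zero_of_P_eq_zero ℳ
  intro m
  by_contra hne
  have hPm : P ℳ m x ∈ cutOut (R := R) l := cutOut_P_mem 𝒜 ℳ l hl hx m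
  obtain ⟨φ, hφ⟩ : ∃ φ : M →ₗ[k] k, φ (P ℳ m x) ≠ 0 := by
    by_contra h
    push Not at h
    exact hne ((Module.forall_dual_apply_eq_zero_iff k _).1 h)
  let l₁ : List (ℤ × (M →ₗ[k] k)) := (m, φ ∘ₗ Plin 𝒜 ℳ m) :: l
  have hl₁ : ∀ p ∈ l₁, IsHomFun ℳ p.1 p.2 := by
    intro p hp
    rcases List.mem_cons.1 hp with h | h
    · rw [h]; exact isHomFun_comp_Plin 𝒜 ℳ m φ
    · exact hl p h
  have hle : cutOut (R := R) l₁ ≤ cutOut (R := R) l :=
    fun z hz p hp r => hz p (List.mem_cons_of_mem _ hp) r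
  have hnlt := hmin _ ⟨l₁, hl₁, rfl⟩
  have hge : cutOut (R := R) l ≤ cutOut (R := R) l₁ := by
    by_contra h
    exact hnlt (lt_of_le_not_ge hle h)
  have h2 := hge hPm (m, φ ∘ₗ Plin 𝒜 ℳ m) (List.mem_cons_self) 1
  rw [one_smul] at h2
  change φ (P ℳ m (P ℳ m x)) = 0 at h2
  rw [P_of_mem_same ℳ (P_mem ℳ m x)] at h2
  exact hφ h2

/-- An Artinian graded `R`-module embeds, by a graded map, in a finite sum of shifts of the graded dual of `R`. -/
theorem exists_embedding (hD : GrSeg.IsGDual R 𝒜 𝒟 β) [IsArtinian R M] :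
    ∃ (t : ℕ) (sh : Fin t → ℤ) (f : M →ₗ[R] (Fin t → D)), Function.Injective f ∧
      ∀ (i : Fin t) (g : ℤ) (x : M), x ∈ ℳ g → f x i ∈ 𝒟 (g + sh i) := by
  obtain ⟨l, hl, hbot⟩ := exists_sep_family 𝒜 ℳ (R := R)
  have hl' : ∀ i : Fin l.length, IsHomFun ℳ (l.get i).1 (l.get i).2 := fun i => hl _ (List.get_mem l i)
  refine ⟨l.length, fun i => -(l.get i).1,
    LinearMap.pi (fun i => repFun 𝒜 ℳ 𝒟 β hD (hl' i)), ?_, ?_⟩
  · rw [injective_iff_map_eq_zero]
    intro x hx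
    have hx0 : x ∈ cutOut (R := R) l := by
      intro p hp r
      obtain ⟨i, rfl⟩ := List.mem_iff_get.1 hp
      rw [← repFun_spec 𝒜 ℳ 𝒟 β hD (hl' i) x r]
      have : repFun 𝒜 ℳ 𝒟 β hD (hl' i) x = 0 := congrFun hx i
      rw [this, map_zero, LinearMap.zero_apply]
    rw [hbot] at hx0
    exact (Submodule.mem_bot R).1 hx0
  · intro i g x hx
    rw [← sub_eq_add_neg]
    exact repFun_mem 𝒜 ℳ 𝒟 β hD (hl' i) hx

end Embed

end Groth.Agent.R2.H97.GrDualEmbed
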