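import Mathlib.RingTheory.MvPolynomial.WeightedHomogeneous
import Mathlib.RingTheory.MvPolynomial.Ideal
import Mathlib.RingTheory.LocalRing.Module
import Mathlib.RingTheory.LocalProperties.Projective
import Mathlib.RingTheory.Localization.Finiteness
import Mathlib.RingTheory.Localization.Module
import Mathlib.RingTheory.Finiteness.Projective
import Mathlib.Algebra.Module.FinitePresentation
import Mathlib.Algebra.DirectSum.Decomposition
import Mathlib.Algebra.Module.GradedModule
import Mathlib.RingTheory.Spectrum.Prime.Basic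

/-!
# Graded projective modules over a polynomial ring are graded-free locally on the base

Helper library for S19649 (helper97).
-/

set_option autoImplicit false
set_option linter.unusedSectionVars false
universe u v

open MvPolynomial DirectSum

namespace Groth.Agent.R2.H97.GradedFree

section Basics

variable {R : Type u} [CommRing R] {n : ℕ}
  {P : Type v} [AddCommGroup P] [Module (MvPolynomial (Fin n) R) P] [Module R P]
  [IsScalarTower R (MvPolynomial (Fin n) R) P]
  (ℳ : (Fin n → ℤ) → Submodule R P) [DirectSum.Decomposition ℳ]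
  [SetLike.GradedSMul (MvPolynomial.weightedHomogeneousSubmodule R
    (fun i : Fin n => (Pi.single i 1 : Fin n → ℤ))) ℳ]

/-- Projection onto the degree `δ` component, as an `R`-linear endomorphism of `P`. -/
noncomputable def pr (δ : Fin n → ℤ) : P →ₗ[R] P :=
  (ℳ δ).subtype ∘ₗ DirectSum.component R _ _ δ ∘ₗ (DirectSum.decomposeLinearEquiv ℳ).toLinearMap

lemma pr_apply (δ : Fin n → ℤ) (q : P) : pr ℳ δ q = (DirectSum.decompose ℳ q δ : P) := rfl

lemma pr_mem (δ : Fin n → ℤ) (q : P) : pr ℳ δ q ∈ ℳ δ := (DirectSum.decompose ℳ q δ).2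

lemma pr_of_mem {δ : Fin n → ℤ} {q : P} (hq : q ∈ ℳ δ) : pr ℳ δ q = q :=
  DirectSum.decompose_of_mem_same ℳ hq

lemma pr_of_mem_ne {δ δ' : Fin n → ℤ} {q : P} (hq : q ∈ ℳ δ') (h : δ' ≠ δ) : pr ℳ δ q = 0 :=
  DirectSum.decompose_of_mem_ne ℳ hq h

lemma sum_pr (q : P) : ∃ D : Finset (Fin n → ℤ), (∀ δ, δ ∉ D → pr ℳ δ q = 0) ∧
    ∑ δ ∈ D, pr ℳ δ q = q := by
  classical
  refine ⟨_, fun δ hδ => ?_, DirectSum.sum_support_decompose ℳ q⟩
  rw [DFinsupp.notMem_support_iff] at hδ
  rw [pr_apply, hδ]; rfl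

lemma X_smul_mem {δ : Fin n → ℤ} {q : P} (j : Fin n) (hq : q ∈ ℳ δ) :
    (X j : MvPolynomial (Fin n) R) • q ∈ ℳ (Pi.single j 1 + δ) := by
  have hX : (X j : MvPolynomial (Fin n) R) ∈ MvPolynomial.weightedHomogeneousSubmodule R
      (fun i : Fin n => (Pi.single i 1 : Fin n → ℤ)) (Pi.single j 1) :=
    (MvPolynomial.mem_weightedHomogeneousSubmodule R _ _ _).mpr
      (MvPolynomial.isWeightedHomogeneous_X R _ j)
  exact SetLike.GradedSMul.smul_mem hX hq

lemma C_smul (r : R) (q : P) : (C r : MvPolynomial (Fin n) R) • q = r • q := by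
  rw [← MvPolynomial.algebraMap_eq, algebraMap_smul]

/-- Key compatibility: the degree `δ` part of `X_j • q` is `X_j` times the degree `δ - e_j` part
of `q`. -/
lemma pr_X_smul (δ : Fin n → ℤ) (j : Fin n) (q : P) :
    pr ℳ δ ((X j : MvPolynomial (Fin n) R) • q) =
      (X j : MvPolynomial (Fin n) R) • pr ℳ (δ - Pi.single j 1) q := by
  induction q using DirectSum.Decomposition.inductionOn ℳ with
  | zero => simp
  | @homogeneous δ' q =>
    have h1 := X_smul_mem ℳ j q.2
    by_cases h : Pi.single j 1 + δ' = δ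
    · have h2 : δ - Pi.single j 1 = δ' := by rw [← h]; abel
      rw [h2, pr_of_mem ℳ q.2, ← h, pr_of_mem ℳ h1]
    · have h2 : δ' ≠ δ - Pi.single j 1 := by
        intro h3; apply h; rw [h3]; abel
      rw [pr_of_mem_ne ℳ h1 h, pr_of_mem_ne ℳ q.2 h2, smul_zero]
  | add q q' hq hq' => rw [smul_add, map_add, map_add, smul_add, hq, hq']

/-- Total degree of a multidegree. -/
def tdeg (δ : Fin n → ℤ) : ℤ := ∑ i, δ i

lemma tdeg_sub_single (δ : Fin n → ℤ) (j : Fin n) :
    tdeg (δ - Pi.single j 1) = tdeg δ - 1 := by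
  unfold tdeg
  simp [Finset.sum_sub_distrib, Finset.sum_pi_single']

/-- The degrees of a finitely generated graded module are bounded below (in total degree). -/
lemma exists_lower_bound [Module.Finite (MvPolynomial (Fin n) R) P] :
    ∃ B : ℤ, ∀ δ, tdeg δ < B → ∀ q ∈ ℳ δ, q = 0 := by
  classical
  obtain ⟨S₀, hS₀⟩ := (Module.Finite.fg_top : (⊤ : Submodule (MvPolynomial (Fin n) R) P).FG)
  choose D hD0 hD using fun g : P => sum_pr ℳ g
  set Dall : Finset (Fin n → ℤ) := S₀.biUnion D with hDall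
  set B : ℤ := - ∑ δ ∈ Dall, |tdeg δ| with hB
  have hBle : ∀ δ ∈ Dall, B ≤ tdeg δ := by
    intro δ hδ
    have h1 : |tdeg δ| ≤ ∑ δ ∈ Dall, |tdeg δ| :=
      Finset.single_le_sum (f := fun δ => |tdeg δ|) (fun _ _ => abs_nonneg _) hδ
    have h2 := neg_abs_le (tdeg δ)
    rw [hB]; linarith
  have hsm : ∀ (a : MvPolynomial (Fin n) R) (w : P), (∀ δ, tdeg δ < B → pr ℳ δ w = 0) →
      ∀ δ, tdeg δ < B → pr ℳ δ (a • w) = 0 := by
    intro a
    induction a using MvPolynomial.induction_on with
    | C r =>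
      intro w hw δ hδ
      rw [C_smul, map_smul, hw δ hδ, smul_zero]
    | add a b ha hb =>
      intro w hw δ hδ
      rw [add_smul, map_add, ha w hw δ hδ, hb w hw δ hδ, add_zero]
    | mul_X a j ha =>
      intro w hw
      rw [mul_smul]
      refine ha _ ?_
      intro δ hδ
      rw [pr_X_smul, hw, smul_zero]
      rw [tdeg_sub_single]; linarith
  let W : Submodule (MvPolynomial (Fin n) R) P :=
    { carrier := {w | ∀ δ, tdeg δ < B → pr ℳ δ w = 0}
      add_mem' := by
        intro a b ha hb δ hδ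
        rw [map_add, ha δ hδ, hb δ hδ, add_zero]
      zero_mem' := by intro δ _; rw [map_zero]
      smul_mem' := fun a w hw => hsm a w hw }
  have hW : (⊤ : Submodule (MvPolynomial (Fin n) R) P) ≤ W := by
    rw [← hS₀, Submodule.span_le]
    intro g hg δ hδ
    refine hD0 g δ fun hmem => ?_
    have := hBle δ (Finset.mem_biUnion.mpr ⟨g, hg, hmem⟩)
    linarith
  refine ⟨B, fun δ hδ q hq => ?_⟩
  have := hW (Submodule.mem_top : q ∈ ⊤) δ hδ
  rwa [pr_of_mem ℳ hq] at this

end Basics

section Quot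

variable {R : Type u} [CommRing R] {n : ℕ}
  {P : Type v} [AddCommGroup P] [Module (MvPolynomial (Fin n) R) P] [Module R P]
  [IsScalarTower R (MvPolynomial (Fin n) R) P]

/-- `Ψ y = Σ_j X_j • y_j`. -/
noncomputable def Psi : (Fin n → P) →ₗ[MvPolynomial (Fin n) R] P :=
  ∑ j, (X j : MvPolynomial (Fin n) R) • LinearMap.proj j

lemma Psi_apply (y : Fin n → P) :
    Psi (R := R) y = ∑ j, (X j : MvPolynomial (Fin n) R) • y j := by
  simp [Psi]

/-- The submodule `(x_1, …, x_n) P`. -/
noncomputable def IP (R : Type u) [CommRing R] (n : ℕ) (P : Type v) [AddCommGroup P]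
    [Module (MvPolynomial (Fin n) R) P] : Submodule (MvPolynomial (Fin n) R) P :=
  LinearMap.range (Psi (R := R) (n := n) (P := P))

lemma mem_IP_iff (q : P) : q ∈ IP R n P ↔
    ∃ y : Fin n → P, ∑ j, (X j : MvPolynomial (Fin n) R) • y j = q := by
  unfold IP
  rw [LinearMap.mem_range]
  simp only [Psi_apply]

lemma smul_mem_IP {a : MvPolynomial (Fin n) R} (ha : a ∈ idealOfVars (Fin n) R) (q : P) :
    a • q ∈ IP R n P := by
  obtain ⟨c, rfl⟩ := Ideal.mem_span_range_iff_exists_fun.mp ha
  rw [mem_IP_iff]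
  refine ⟨fun j => c j • q, ?_⟩
  rw [Finset.sum_smul]
  refine Finset.sum_congr rfl fun j _ => ?_
  rw [smul_smul, mul_comm]

lemma sub_C_constantCoeff_mem (a : MvPolynomial (Fin n) R) :
    a - C (constantCoeff a) ∈ idealOfVars (Fin n) R := by
  rw [← pow_one (idealOfVars (Fin n) R), mem_pow_idealOfVars_iff']
  intro x hx
  have hx0 : x = 0 := by
    have : Finsupp.degree x = 0 := by omega
    exact (Finsupp.degree_eq_zero_iff x).mp this
  subst hx0
  simp [constantCoeff_eq]

lemma constantCoeff_eq_zero_of_mem {a : MvPolynomial (Fin n) R}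
    (ha : a ∈ idealOfVars (Fin n) R) : constantCoeff a = 0 := by
  rw [← pow_one (idealOfVars (Fin n) R), mem_pow_idealOfVars_iff'] at ha
  rw [constantCoeff_eq]
  exact ha 0 (by simp)

/-- `P / (x)P` is a retract of a finite free `R`-module. -/
lemma exists_retract [Module.Finite (MvPolynomial (Fin n) R) P]
    [Module.Projective (MvPolynomial (Fin n) R) P] :
    ∃ (k : ℕ) (ι₀ : (P ⧸ (IP R n P).restrictScalars R) →ₗ[R] (Fin k → R))
      (π₀ : (Fin k → R) →ₗ[R] (P ⧸ (IP R n P).restrictScalars R)), π₀ ∘ₗ ι₀ = LinearMap.id := by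
  classical
  obtain ⟨k, π, ι, -, -, hπι⟩ :=
    Module.Finite.exists_comp_eq_id_of_projective (MvPolynomial (Fin n) R) P
  let ccmap : (Fin k → MvPolynomial (Fin n) R) →ₗ[R] (Fin k → R) :=
    (MvPolynomial.lcoeff R (0 : Fin n →₀ ℕ)).compLeft (Fin k)
  let Cmap : (Fin k → R) →ₗ[R] (Fin k → MvPolynomial (Fin n) R) :=
    (Algebra.linearMap R (MvPolynomial (Fin n) R)).compLeft (Fin k)
  have hker : (IP R n P).restrictScalars R ≤ LinearMap.ker (ccmap ∘ₗ ι.restrictScalars R) := by
    intro y hy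
    rw [Submodule.restrictScalars_mem, mem_IP_iff] at hy
    obtain ⟨y', rfl⟩ := hy
    rw [LinearMap.mem_ker]
    ext i
    simp [ccmap, ← constantCoeff_eq]
  have hπw : ∀ w : Fin k → MvPolynomial (Fin n) R, (∀ i, w i ∈ idealOfVars (Fin n) R) →
      π w ∈ IP R n P := by
    intro w hw
    rw [LinearMap.pi_apply_eq_sum_univ π w]
    exact Submodule.sum_mem _ fun i _ => smul_mem_IP (hw i) _
  refine ⟨k, Submodule.liftQ _ (ccmap ∘ₗ ι.restrictScalars R) hker,
    ((IP R n P).restrictScalars R).mkQ ∘ₗ π.restrictScalars R ∘ₗ Cmap, ?_⟩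
  apply Submodule.linearMap_qext
  ext q
  simp only [LinearMap.coe_comp, Function.comp_apply, Submodule.mkQ_apply, Submodule.liftQ_apply,
    LinearMap.coe_restrictScalars, LinearMap.id_comp]
  rw [Submodule.Quotient.eq, Submodule.restrictScalars_mem]
  have hq : π (ι q) = q := by simpa using LinearMap.congr_fun hπι q
  have e1 : π (Cmap (ccmap (ι q))) - π (ι q) =
      - π (fun i => ι q i - C (constantCoeff (ι q i))) := by
    rw [← map_sub, ← map_neg]
    congr 1
    ext i
    simp [Cmap, ccmap, constantCoeff_eq, MvPolynomial.algebraMap_eq]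
  rw [hq] at e1
  rw [e1]
  exact Submodule.neg_mem _ (hπw _ fun i => sub_C_constantCoeff_mem _)

end Quot

section LocalBasis

open Submodule in
/-- A finitely generated projective module has, locally at a prime, a basis chosen among any given
spanning family (in elementary form, with denominators outside the prime). -/
lemma exists_local_basis {R : Type u} [CommRing R] (p : PrimeSpectrum R)
    {V : Type v} [AddCommGroup V] [Module R V] [Module.Finite R V] [Module.Projective R V]
    {ι : Type v} (h : ι → V) (hspan : Submodule.span R (Set.range h) = ⊤) :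
    ∃ (m : ℕ) (a : Fin m → ι),
      (∀ x : V, ∃ s : R, s ∉ p.asIdeal ∧ ∃ c : Fin m → R, s • x = ∑ i, c i • h (a i)) ∧
      (∀ c : Fin m → R, ∑ i, c i • h (a i) = 0 → ∃ s : R, s ∉ p.asIdeal ∧ ∀ i, s * c i = 0) := by
  classical
  let S : Submonoid R := p.asIdeal.primeCompl
  let R' := Localization.AtPrime p.asIdeal
  let V' := LocalizedModule S V
  let ℓ : V →ₗ[R] V' := LocalizedModule.mkLinearMap S V
  have : Module.FinitePresentation R' V' := Module.finitePresentation_of_projective _ _
  have hsp' : Submodule.span R' (Set.range (ℓ ∘ h)) = ⊤ := by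
    rw [Set.range_comp]
    exact span_eq_top_of_isLocalizedModule R' S ℓ hspan
  obtain ⟨κ, a, b, hb⟩ := Module.exists_basis_of_span_of_flat (ℓ ∘ h) hsp'
  have : Finite κ := Module.Finite.finite_basis b
  obtain ⟨m, ⟨e⟩⟩ := Finite.exists_equiv_fin κ
  have hb' : ∀ i : Fin m, b.reindex e i = ℓ (h (a (e.symm i))) := by
    intro i; rw [Module.Basis.reindex_apply, hb]; rfl
  refine ⟨m, a ∘ e.symm, ?_, ?_⟩
  · intro x
    obtain ⟨t, ht⟩ := IsLocalization.exist_integer_multiples S Finset.univ
      (fun i => (b.reindex e).repr (ℓ x) i)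
    choose c hc using fun i => ht i (Finset.mem_univ i)
    have hx : ℓ ((t : R) • x) = ℓ (∑ i, c i • h (a (e.symm i))) := by
      rw [map_smul, map_sum]
      conv_lhs => rw [← (b.reindex e).sum_repr (ℓ x), Finset.smul_sum]
      refine Finset.sum_congr rfl fun i _ => ?_
      rw [map_smul, ← hb' i, ← algebraMap_smul R' (c i), hc i, ← smul_assoc]
    obtain ⟨s, hs⟩ := IsLocalizedModule.exists_of_eq (S := S) hx
    refine ⟨(s : R) * (t : R), (s * t).2, fun i => (s : R) * c i, ?_⟩
    rw [mul_smul]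
    have hs' : (s : R) • ((t : R) • x) = (s : R) • ∑ i, c i • h (a (e.symm i)) := hs
    rw [hs', Finset.smul_sum]
    refine Finset.sum_congr rfl fun i _ => ?_
    rw [mul_smul]; rfl
  · intro c hc
    have h0 : ∑ i, (algebraMap R R' (c i)) • (b.reindex e) i = 0 := by
      have := congrArg ℓ hc
      rw [map_sum, map_zero] at this
      rw [← this]
      refine Finset.sum_congr rfl fun i _ => ?_
      rw [hb' i, algebraMap_smul, map_smul]; rfl
    have h1 := Fintype.linearIndependent_iff.mp (b.reindex e).linearIndependent _ h0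
    have h2 : ∀ i, ∃ s : S, (s : R) * c i = 0 := fun i =>
      (IsLocalization.map_eq_zero_iff S R' (c i)).mp (h1 i)
    choose s hs using h2
    refine ⟨∏ i, (s i : R), ?_, fun i => ?_⟩
    · have : (∏ i, (s i : R)) ∈ S := Submonoid.prod_mem _ fun i _ => (s i).2
      exact this
    · rw [← Finset.mul_prod_erase Finset.univ _ (Finset.mem_univ i), mul_comm, ← mul_assoc,
        mul_comm (c i), hs i, zero_mul]

end LocalBasis

section Main

variable {R : Type u} [CommRing R] {n : ℕ}
  {P : Type v} [AddCommGroup P] [Module (MvPolynomial (Fin n) R) P] [Module R P]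
  [IsScalarTower R (MvPolynomial (Fin n) R) P]
  (ℳ : (Fin n → ℤ) → Submodule R P) [DirectSum.Decomposition ℳ]
  [SetLike.GradedSMul (MvPolynomial.weightedHomogeneousSubmodule R
    (fun i : Fin n => (Pi.single i 1 : Fin n → ℤ))) ℳ]
  [Module.Finite (MvPolynomial (Fin n) R) P] [Module.Projective (MvPolynomial (Fin n) R) P]
  (p : PrimeSpectrum R)

/-- Homogeneous elements of `P` which are a basis of `P/(x)P` locally at `p`. -/
lemma exists_hom_family :
    ∃ (m : ℕ) (d : Fin m → (Fin n → ℤ)) (f : Fin m → P), (∀ i, f i ∈ ℳ (d i)) ∧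
      (∀ q : P, ∃ s : R, s ∉ p.asIdeal ∧ ∃ (c : Fin m → R) (y : Fin n → P),
        s • q = ∑ i, c i • f i + ∑ j, (X j : MvPolynomial (Fin n) R) • y j) ∧
      (∀ c : Fin m → R, (∑ i, c i • f i) ∈ IP R n P →
        ∃ s : R, s ∉ p.asIdeal ∧ ∀ i, s * c i = 0) := by
  classical
  obtain ⟨k, ι₀, π₀, h⟩ := exists_retract (R := R) (n := n) (P := P)
  have : Module.Projective R (P ⧸ (IP R n P).restrictScalars R) :=
    Module.Projective.of_split ι₀ π₀ h
  have : Module.Finite R (P ⧸ (IP R n P).restrictScalars R) :=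
    Module.Finite.of_surjective π₀ (LinearMap.surjective_of_comp_eq_id ι₀ π₀ h)
  let N₀ : Submodule R P := (IP R n P).restrictScalars R
  let hbar : (Σ δ : Fin n → ℤ, ℳ δ) → (P ⧸ N₀) := fun x => N₀.mkQ (x.2 : P)
  have hspan : Submodule.span R (Set.range hbar) = ⊤ := by
    rw [eq_top_iff]
    rintro x -
    obtain ⟨q, rfl⟩ := Submodule.mkQ_surjective N₀ x
    obtain ⟨D, -, hD⟩ := sum_pr ℳ q
    rw [← hD, map_sum]
    exact Submodule.sum_mem _ fun δ _ =>
      Submodule.subset_span ⟨⟨δ, ⟨pr ℳ δ q, pr_mem ℳ δ q⟩⟩, rfl⟩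
  obtain ⟨m, a, hG, hL⟩ := exists_local_basis p hbar hspan
  refine ⟨m, fun i => (a i).1, fun i => ((a i).2 : P), fun i => (a i).2.2, ?_, ?_⟩
  · intro q
    obtain ⟨s, hs, c, hc⟩ := hG (N₀.mkQ q)
    have hmem : s • q - ∑ i, c i • ((a i).2 : P) ∈ N₀ := by
      rw [← Submodule.Quotient.mk_eq_zero, ← Submodule.mkQ_apply, map_sub, map_smul, hc, map_sum]
      simp only [map_smul]
      exact sub_self _
    obtain ⟨y, hy⟩ := (mem_IP_iff _).mp ((Submodule.restrictScalars_mem R _ _).mp hmem)
    exact ⟨s, hs, c, y, by rw [hy]; abel⟩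
  · intro c hc
    refine hL c ?_
    have : N₀.mkQ (∑ i, c i • ((a i).2 : P)) = 0 := by
      rw [Submodule.mkQ_apply, Submodule.Quotient.mk_eq_zero]
      exact (Submodule.restrictScalars_mem R _ _).mpr hc
    rw [map_sum] at this
    simpa only [map_smul] using this

/-- Graded Nakayama with denominators: the homogeneous family of `exists_hom_family` generates `P`
after inverting a single element outside `p`. -/
lemma exists_uniform_generation {m : ℕ} (d : Fin m → (Fin n → ℤ)) (f : Fin m → P)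
    (hf : ∀ i, f i ∈ ℳ (d i))
    (hG : ∀ q : P, ∃ s : R, s ∉ p.asIdeal ∧ ∃ (c : Fin m → R) (y : Fin n → P),
        s • q = ∑ i, c i • f i + ∑ j, (X j : MvPolynomial (Fin n) R) • y j) :
    ∃ r₁ : R, r₁ ∉ p.asIdeal ∧
      ∀ q : P, r₁ • q ∈ Submodule.span (MvPolynomial (Fin n) R) (Set.range f) := by
  classical
  set F : Submodule (MvPolynomial (Fin n) R) P := Submodule.span _ (Set.range f) with hF
  have hRF : ∀ (s : R) (x : P), x ∈ F → s • x ∈ F := by
    intro s x hx
    rw [← C_smul (n := n)]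
    exact F.smul_mem _ hx
  have hone : (1 : R) ∉ p.asIdeal := (Ideal.ne_top_iff_one _).mp p.isPrime.ne_top
  have hmul : ∀ {s t : R}, s ∉ p.asIdeal → t ∉ p.asIdeal → s * t ∉ p.asIdeal := by
    intro s t hs ht hst
    rcases p.isPrime.mem_or_mem hst with h | h
    · exact hs h
    · exact ht h
  -- the submodule of elements which land in `F` after multiplication by some `s ∉ p`
  let G : Submodule (MvPolynomial (Fin n) R) P :=
    { carrier := {q | ∃ s : R, s ∉ p.asIdeal ∧ s • q ∈ F}
      add_mem' := by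
        rintro q₁ q₂ ⟨s₁, hs₁, h₁⟩ ⟨s₂, hs₂, h₂⟩
        refine ⟨s₁ * s₂, hmul hs₁ hs₂, ?_⟩
        rw [smul_add]
        refine F.add_mem ?_ ?_
        · rw [mul_comm, mul_smul]; exact hRF _ _ h₁
        · rw [mul_smul]; exact hRF _ _ h₂
      zero_mem' := ⟨1, hone, by rw [smul_zero]; exact F.zero_mem⟩
      smul_mem' := by
        rintro a q ⟨s, hs, h⟩
        refine ⟨s, hs, ?_⟩
        rw [smul_comm]
        exact F.smul_mem _ h }
  have hFG : F ≤ G := fun x hx => ⟨1, hone, by rw [one_smul]; exact hx⟩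
  have hGs : ∀ (s : R) (q : P), s ∉ p.asIdeal → s • q ∈ G → q ∈ G := by
    rintro s q hs ⟨s', hs', h⟩
    exact ⟨s' * s, hmul hs' hs, by rw [mul_smul]; exact h⟩
  obtain ⟨B, hB⟩ := exists_lower_bound ℳ
  have key : ∀ (k : ℕ) (δ : Fin n → ℤ), tdeg δ < B + k → ∀ q ∈ ℳ δ, q ∈ G := by
    intro k
    induction k with
    | zero =>
      intro δ hδ q hq
      rw [hB δ (by simpa using hδ) q hq]
      exact G.zero_mem
    | succ k ih =>
      intro δ hδ q hq
      obtain ⟨s, hs, c, y, hy⟩ := hG q
      refine hGs s q hs ?_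
      have h1 : s • q = pr ℳ δ (s • q) := (pr_of_mem ℳ ((ℳ δ).smul_mem s hq)).symm
      rw [h1, hy, map_add, map_sum, map_sum]
      refine G.add_mem (G.sum_mem fun i _ => ?_) (G.sum_mem fun j _ => ?_)
      · rw [map_smul]
        refine hFG (hRF _ _ ?_)
        by_cases hdi : d i = δ
        · rw [pr_of_mem ℳ (hdi ▸ hf i)]
          exact Submodule.subset_span ⟨i, rfl⟩
        · rw [pr_of_mem_ne ℳ (hf i) hdi]
          exact F.zero_mem
      · rw [pr_X_smul]
        refine G.smul_mem _ (ih (δ - Pi.single j 1) ?_ _ (pr_mem ℳ _ _))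
        rw [tdeg_sub_single]
        push_cast at hδ
        linarith
  have hGtop : ∀ q : P, q ∈ G := by
    intro q
    obtain ⟨D, -, hD⟩ := sum_pr ℳ q
    rw [← hD]
    refine G.sum_mem fun δ _ => ?_
    refine key (tdeg δ - B + 1).toNat δ ?_ _ (pr_mem ℳ δ q)
    have := Int.self_le_toNat (tdeg δ - B + 1)
    linarith
  -- uniform denominator from finite generation
  obtain ⟨S₀, hS₀⟩ := (Module.Finite.fg_top : (⊤ : Submodule (MvPolynomial (Fin n) R) P).FG)
  choose s hs hsF using hGtop
  refine ⟨∏ g ∈ S₀, s g, ?_, ?_⟩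
  · have : ∀ T : Finset P, (∏ g ∈ T, s g) ∉ p.asIdeal := by
      intro T
      induction T using Finset.induction_on with
      | empty => simpa using hone
      | insert g T hg ih => rw [Finset.prod_insert hg]; exact hmul (hs g) ih
    exact this S₀
  · intro q
    have hle : (⊤ : Submodule (MvPolynomial (Fin n) R) P) ≤
        F.comap (LinearMap.lsmul (MvPolynomial (Fin n) R) P (C (∏ g ∈ S₀, s g))) := by
      rw [← hS₀, Submodule.span_le]
      intro g hg
      rw [SetLike.mem_coe, Submodule.mem_comap, LinearMap.lsmul_apply, C_smul,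
        ← Finset.mul_prod_erase S₀ s hg, mul_comm, mul_smul]
      exact hRF _ _ (hsF g)
    have := hle (Submodule.mem_top : q ∈ ⊤)
    rwa [Submodule.mem_comap, LinearMap.lsmul_apply, C_smul] at this

omit [DirectSum.Decomposition ℳ] [SetLike.GradedSMul (MvPolynomial.weightedHomogeneousSubmodule R
    (fun i : Fin n => (Pi.single i 1 : Fin n → ℤ))) ℳ] in
/-- All relations among the `f i` are killed by a power of a single element outside `p`. -/
lemma exists_uniform_relations {m : ℕ} (f : Fin m → P)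
    (hL : ∀ c : Fin m → R, (∑ i, c i • f i) ∈ IP R n P →
      ∃ s : R, s ∉ p.asIdeal ∧ ∀ i, s * c i = 0)
    (r₁ : R) (hr₁ : ∀ q : P, r₁ • q ∈ Submodule.span (MvPolynomial (Fin n) R) (Set.range f)) :
    ∃ s : R, s ∉ p.asIdeal ∧ ∀ c : Fin m → MvPolynomial (Fin n) R, ∑ i, c i • f i = 0 →
      ∃ N : ℕ, ∀ i, (C (s * r₁) : MvPolynomial (Fin n) R) ^ N * c i = 0 := by
  classical
  have hone : (1 : R) ∉ p.asIdeal := (Ideal.ne_top_iff_one _).mp p.isPrime.ne_top
  have hmul : ∀ {s t : R}, s ∉ p.asIdeal → t ∉ p.asIdeal → s * t ∉ p.asIdeal := by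
    intro s t hs ht hst
    rcases p.isPrime.mem_or_mem hst with h | h
    · exact hs h
    · exact ht h
  let φ : (Fin m → MvPolynomial (Fin n) R) →ₗ[MvPolynomial (Fin n) R] P :=
    Fintype.linearCombination (MvPolynomial (Fin n) R) f
  have hφ : ∀ c, φ c = ∑ i, c i • f i := fun c => rfl
  have hrange : LinearMap.range φ = Submodule.span (MvPolynomial (Fin n) R) (Set.range f) :=
    Fintype.range_linearCombination (MvPolynomial (Fin n) R) f
  let g : P →ₗ[MvPolynomial (Fin n) R] LinearMap.range φ :=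
    LinearMap.codRestrict _ (LinearMap.lsmul (MvPolynomial (Fin n) R) P (C r₁)) (by
      intro q
      rw [LinearMap.lsmul_apply, C_smul, hrange]
      exact hr₁ q)
  obtain ⟨σ, hσ⟩ := Module.projective_lifting_property φ.rangeRestrict g
    (LinearMap.surjective_rangeRestrict φ)
  have hσ' : ∀ q, φ (σ q) = r₁ • q := by
    intro q
    have := congrArg Subtype.val (LinearMap.congr_fun hσ q)
    simpa [g, C_smul] using this
  let E : (Fin m → MvPolynomial (Fin n) R) →ₗ[MvPolynomial (Fin n) R]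
      (Fin m → MvPolynomial (Fin n) R) :=
    (C r₁ : MvPolynomial (Fin n) R) • LinearMap.id - σ ∘ₗ φ
  have hEdef : ∀ c, E c = (C r₁ : MvPolynomial (Fin n) R) • c - σ (φ c) := fun c => rfl
  have hE1 : ∀ c, φ (E c) = 0 := by
    intro c
    rw [hEdef, map_sub, map_smul, hσ', C_smul, sub_self]
  have hE2 : ∀ c, φ c = 0 → E c = (C r₁ : MvPolynomial (Fin n) R) • c := by
    intro c hc
    rw [hEdef, hc, map_zero, sub_zero]
  have hL2 : ∀ c : Fin m → MvPolynomial (Fin n) R, φ c = 0 →
      ∃ s : R, s ∉ p.asIdeal ∧ ∀ i, C s * c i ∈ idealOfVars (Fin n) R := by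
    intro c hc
    have h0 : ∑ i, (constantCoeff (c i)) • f i ∈ IP R n P := by
      have h1 : ∑ i, (constantCoeff (c i)) • f i =
          - ∑ i, (c i - C (constantCoeff (c i))) • f i := by
        simp only [sub_smul, Finset.sum_sub_distrib, C_smul]
        rw [← hφ c, hc]; abel
      rw [h1]
      exact Submodule.neg_mem _
        (Submodule.sum_mem _ fun i _ => smul_mem_IP (sub_C_constantCoeff_mem _) _)
    obtain ⟨s, hs, hsc⟩ := hL _ h0
    refine ⟨s, hs, fun i => ?_⟩
    have h2 : C s * c i = C s * (c i - C (constantCoeff (c i))) + C (s * constantCoeff (c i)) := by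
      rw [C_mul]; ring
    rw [h2, hsc i, C_0, add_zero]
    exact Ideal.mul_mem_left _ _ (sub_C_constantCoeff_mem _)
  choose sl hsl hslI using fun l : Fin m => hL2 (E (Pi.single l 1)) (hE1 _)
  have hprod : ∀ T : Finset (Fin m), (∏ l ∈ T, sl l) ∉ p.asIdeal := by
    intro T
    induction T using Finset.induction_on with
    | empty => simpa using hone
    | insert l T hl ih => rw [Finset.prod_insert hl]; exact hmul (hsl l) ih
  set s : R := ∏ l, sl l with hsdef
  have hs : s ∉ p.asIdeal := hprod _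
  have hsE : ∀ l i, C s * (E (Pi.single l 1)) i ∈ idealOfVars (Fin n) R := by
    intro l i
    rw [hsdef, ← Finset.mul_prod_erase Finset.univ sl (Finset.mem_univ l), mul_comm (sl l),
      C_mul, mul_assoc]
    exact Ideal.mul_mem_left _ _ (hslI l i)
  have hEc : ∀ (c : Fin m → MvPolynomial (Fin n) R) i,
      (E c) i = ∑ l, c l * (E (Pi.single l 1)) i := by
    intro c i
    rw [LinearMap.pi_apply_eq_sum_univ E c, Finset.sum_apply]
    refine Finset.sum_congr rfl fun l _ => ?_
    have hsingle : (fun j => if l = j then (1 : MvPolynomial (Fin n) R) else 0) =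
        Pi.single l 1 := by
      funext j; simp [Pi.single_apply, eq_comm]
    rw [Pi.smul_apply, smul_eq_mul, hsingle]
  have hstep : ∀ (j : ℕ) (c : Fin m → MvPolynomial (Fin n) R),
      (∀ i, c i ∈ idealOfVars (Fin n) R ^ j) →
      ∀ i, C s * (E c) i ∈ idealOfVars (Fin n) R ^ (j + 1) := by
    intro j c hc i
    rw [hEc, Finset.mul_sum]
    refine Ideal.sum_mem _ fun l _ => ?_
    rw [mul_left_comm, pow_succ]
    exact Ideal.mul_mem_mul (hc l) (hsE l i)
  have hind : ∀ (j : ℕ) (c : Fin m → MvPolynomial (Fin n) R), φ c = 0 →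
      ∀ i, (C (s * r₁) : MvPolynomial (Fin n) R) ^ j * c i ∈ idealOfVars (Fin n) R ^ j := by
    intro j
    induction j with
    | zero => intro c _ i; simp
    | succ j ih =>
      intro c hc i
      have hc' : φ ((C (s * r₁) : MvPolynomial (Fin n) R) ^ j • c) = 0 := by
        rw [map_smul, hc, smul_zero]
      have h1 := hstep j ((C (s * r₁) : MvPolynomial (Fin n) R) ^ j • c) (fun i => ih c hc i) i
      rw [hE2 _ hc'] at h1
      have h2 : (C (s * r₁) : MvPolynomial (Fin n) R) ^ (j + 1) * c i =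
          C s * ((C r₁ : MvPolynomial (Fin n) R) •
            ((C (s * r₁) : MvPolynomial (Fin n) R) ^ j • c)) i := by
        simp only [Pi.smul_apply, smul_eq_mul, pow_succ, C_mul]; ring
      rw [h2]; exact h1
  refine ⟨s, hs, fun c hc => ?_⟩
  refine ⟨(Finset.univ.sup fun i => (c i).totalDegree) + 1, fun i => ?_⟩
  have hmem := hind ((Finset.univ.sup fun i => (c i).totalDegree) + 1) c hc i
  rw [mem_pow_idealOfVars_iff'] at hmem
  ext x
  rw [coeff_zero]
  by_cases hx : Finsupp.degree x < (Finset.univ.sup fun i => (c i).totalDegree) + 1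
  · exact hmem x hx
  · rw [← C_pow, coeff_C_mul]
    have h3 : coeff x (c i) = 0 := by
      apply coeff_eq_zero_of_totalDegree_lt
      rw [← Finsupp.degree_apply]
      have h4 : (c i).totalDegree ≤ Finset.univ.sup fun i => (c i).totalDegree :=
        Finset.le_sup (f := fun i => (c i).totalDegree) (Finset.mem_univ i)
      omega
    rw [h3, mul_zero]

end Main

end Groth.Agent.R2.H97.GradedFree
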