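import Groth.Prelude.Def_GrassD
import Groth.Agent.Lib.Helper26ModRank

/-!
# A flag scheme is a Grassmannian over the flag scheme of the truncated type (helper97)

* `quotBC_comp` — base change of quotients along a composite (pseudofunctor associativity);
* `isFinLocFreeOfRank_pullback'` — pullbacks of finite locally free modules of rank `r`;
* `isGrass_of_flag_succ` — the flag scheme of type `n : Fin (m+2) → ℕ` is the Grassmannian of rank-`n (m+1)`
  quotients of the last universal quotient of the flag scheme of the truncated type.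
-/

set_option autoImplicit false
universe u
open CategoryTheory CategoryTheory.Limits AlgebraicGeometry
open Grass

namespace Groth.Agent.R2.H97.GrassFlag

section QuotBC

variable {X F F' T : Scheme.{u}}

theorem pullbackCongr_inv_app {f g : T ⟶ X} (hf : f = g) (E : X.Modules) :
    (Scheme.Modules.pullbackCongr hf).inv.app E = eqToHom (by rw [hf]) := by
  subst hf
  simp [Scheme.Modules.pullbackCongr]

theorem pullbackCongr_hom_app {f g : T ⟶ X} (hf : f = g) (E : X.Modules) :
    (Scheme.Modules.pullbackCongr hf).hom.app E = eqToHom (by rw [hf]) := by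
  subst hf
  simp [Scheme.Modules.pullbackCongr]

theorem assoc_app (h : T ⟶ F') (p : F' ⟶ F) (π : F ⟶ X) (E : X.Modules) :
    (Scheme.Modules.pullbackComp h (p ≫ π)).inv.app E ≫
      (Scheme.Modules.pullback h).map ((Scheme.Modules.pullbackComp p π).inv.app E) =
    (Scheme.Modules.pullbackCongr (Category.assoc h p π)).inv.app E ≫
      (Scheme.Modules.pullbackComp (h ≫ p) π).inv.app E ≫
        (Scheme.Modules.pullbackComp h p).inv.app ((Scheme.Modules.pullback π).obj E) := by
  have := congrArg (fun t => t.app E) (Scheme.Modules.pseudofunctor_associativity h p π)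
  simp only [NatTrans.comp_app, Functor.whiskerRight_app, Functor.associator_hom_app,
    Functor.whiskerLeft_app, Functor.comp_obj, eqToHom_app, Category.id_comp] at this
  rw [pullbackCongr_inv_app]
  have h2 := congrArg (fun t => t ≫ (Scheme.Modules.pullbackComp (h ≫ p) π).inv.app E ≫
        (Scheme.Modules.pullbackComp h p).inv.app ((Scheme.Modules.pullback π).obj E)) this
  simp only [Category.assoc, Iso.hom_inv_id_app_assoc, Iso.hom_inv_id_app] at h2
  exact h2

/-- Base change of quotients is compatible with composition. -/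
theorem quotBC_comp (h : T ⟶ F') (p : F' ⟶ F) (π : F ⟶ X) (π' : F' ⟶ X) (g' : T ⟶ X)
    (hp : p ≫ π = π') (hh : h ≫ π' = g') (hg : (h ≫ p) ≫ π = g')
    {E : X.Modules} {Q : F.Modules} (q : (Scheme.Modules.pullback π).obj E ⟶ Q) :
    quotBC hg q ≫ (Scheme.Modules.pullbackComp h p).inv.app Q = quotBC hh (quotBC hp q) := by
  subst hp
  subst hh
  have hnat := (Scheme.Modules.pullbackComp h p).inv.naturality q
  simp only [Functor.comp_map] at hnat
  simp only [quotBC, Functor.map_comp, Category.assoc]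
  rw [hnat]
  have h1 : (Scheme.Modules.pullbackCongr (rfl : p ≫ π = p ≫ π)).inv.app E = 𝟙 _ := by
    rw [pullbackCongr_inv_app]; rfl
  have h2 : (Scheme.Modules.pullbackCongr (rfl : h ≫ p ≫ π = h ≫ p ≫ π)).inv.app E = 𝟙 _ := by
    rw [pullbackCongr_inv_app]; rfl
  rw [h1, h2, CategoryTheory.Functor.map_id, Category.id_comp, Category.id_comp]
  have h3 := assoc_app h p π E
  rw [← Category.assoc ((Scheme.Modules.pullbackComp h (p ≫ π)).inv.app E), h3]
  simp only [Category.assoc]

/-- `quotBC` is functorial in the quotient. -/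
theorem quotBC_postcomp {G : Scheme.{u}} {π : G ⟶ X} {h : T ⟶ G} {g : T ⟶ X} (hg : h ≫ π = g)
    {E : X.Modules} {Q Q₂ : G.Modules} (q : (Scheme.Modules.pullback π).obj E ⟶ Q) (y : Q ⟶ Q₂) :
    quotBC hg (q ≫ y) = quotBC hg q ≫ (Scheme.Modules.pullback h).map y := by
  simp only [quotBC, Functor.map_comp, Category.assoc]

/-- Changing the classifying map along an equality. -/
theorem quotBC_congr {G : Scheme.{u}} {π : G ⟶ X} {k h : T ⟶ G} (hk : k = h) {g : T ⟶ X}
    (hkg : k ≫ π = g) (hhg : h ≫ π = g)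
    {E : X.Modules} {Q : G.Modules} (q : (Scheme.Modules.pullback π).obj E ⟶ Q) :
    quotBC hkg q ≫ (Scheme.Modules.pullbackCongr hk).hom.app Q = quotBC hhg q := by
  subst hk
  rw [pullbackCongr_hom_app]
  exact Category.comp_id _

theorem quotBC_congr' {G : Scheme.{u}} {π : G ⟶ X} {k h : T ⟶ G} (hk : k = h) {g : T ⟶ X}
    (hkg : k ≫ π = g) (hhg : h ≫ π = g)
    {E : X.Modules} {Q : G.Modules} (q : (Scheme.Modules.pullback π).obj E ⟶ Q) :
    quotBC hhg q ≫ (Scheme.Modules.pullbackCongr hk).inv.app Q = quotBC hkg q := by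
  subst hk
  rw [pullbackCongr_inv_app]
  exact Category.comp_id _

theorem epi_quotBC {G : Scheme.{u}} {π : G ⟶ X} {h : T ⟶ G} {g : T ⟶ X} (hg : h ≫ π = g)
    {E : X.Modules} {Q : G.Modules} (q : (Scheme.Modules.pullback π).obj E ⟶ Q) [Epi q] :
    Epi (quotBC hg q) := by
  have := epi_pullback_map h q
  unfold quotBC
  infer_instance

end QuotBC

section Rank

open Groth.Agent.Lib.Helper2.LocFree Groth.Agent.Lib.Helper26.ModRank

theorem isQuasicoherent_of_isFinLocFreeOfRank {Y : Scheme.{u}} {r : ℕ} (M : Y.Modules)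
    (h : FlatMod.IsFinLocFreeOfRank r M) : M.IsQuasicoherent := by
  have hfl : FlatMod.IsFinLocFree M := fun x => by
    obtain ⟨U, hxU, hU⟩ := h x
    exact ⟨U, r, hxU, hU⟩
  have hfp := isFP_of_isFinLocFree M hfl
  exact { nonempty_quasicoherentData :=
      ⟨(SheafOfModules.IsFinitePresentation.exists_quasicoherentData (R := Y.ringCatSheaf) M).choose⟩ }

/-- Pullbacks of finite locally free modules of rank `r` are finite locally free of rank `r`. -/
theorem isFinLocFreeOfRank_pullback' {T Y : Scheme.{u}} (t : T ⟶ Y) {r : ℕ} (M : Y.Modules)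
    (h : FlatMod.IsFinLocFreeOfRank r M) :
    FlatMod.IsFinLocFreeOfRank r ((Scheme.Modules.pullback t).obj M) := by
  have := isQuasicoherent_of_isFinLocFreeOfRank M h
  exact isFinLocFreeOfRank_pullback t M h

end Rank

section Family

variable {T : Scheme.{u}}

/-- Extend a family of quotients indexed by `Fin (m+1)` by one more quotient at the end. -/
theorem exists_family (S : T.Modules) (m : ℕ) (A : Fin (m + 1) → T.Modules) (α : ∀ i, S ⟶ A i)
    (L : T.Modules) (σ : S ⟶ L) :
    ∃ (L' : Fin (m + 2) → T.Modules) (s' : ∀ i, S ⟶ L' i)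
      (a : ∀ i : Fin (m + 1), L' (Fin.castSucc i) ≅ A i) (b : L' (Fin.last (m + 1)) ≅ L),
      (∀ i, s' (Fin.castSucc i) ≫ (a i).hom = α i) ∧ s' (Fin.last (m + 1)) ≫ b.hom = σ := by
  let fam : Fin (m + 2) → Σ' Li : T.Modules, (S ⟶ Li) :=
    Fin.lastCases ⟨L, σ⟩ (fun i => ⟨A i, α i⟩)
  have key : ∀ {x y : Σ' Li : T.Modules, (S ⟶ Li)}, x = y → ∃ a : x.1 ≅ y.1, x.2 ≫ a.hom = y.2 := by
    rintro x y rfl
    exact ⟨Iso.refl _, Category.comp_id _⟩
  have h1 : ∀ i : Fin (m + 1), fam (Fin.castSucc i) = ⟨A i, α i⟩ := fun i => by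
    simp only [fam, Fin.lastCases_castSucc]
  have h2 : fam (Fin.last (m + 1)) = ⟨L, σ⟩ := by
    simp only [fam, Fin.lastCases_last]
  choose a ha using fun i => key (h1 i)
  obtain ⟨b, hb⟩ := key h2
  exact ⟨fun i => (fam i).1, fun i => (fam i).2, a, b, ha, hb⟩

end Family

section Main

open Groth.Agent.Lib.Helper26.ModRank

variable {X F F' : Scheme.{u}} (π : F ⟶ X) (π' : F' ⟶ X) (E : X.Modules)
  (m : ℕ) (n : Fin (m + 2) → ℕ)
  (Q : Fin (m + 1) → F.Modules) (q : ∀ i, (Scheme.Modules.pullback π).obj E ⟶ Q i)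
  (hF : Grass.IsFlag π E (fun i => n (Fin.castSucc i)) Q q)
  (Q' : Fin (m + 2) → F'.Modules) (q' : ∀ i, (Scheme.Modules.pullback π').obj E ⟶ Q' i)
  (hF' : Grass.IsFlag π' E n Q' q')
  (p : F' ⟶ F) (hp : p ≫ π = π')
  (ε : ∀ i, (Scheme.Modules.pullback p).obj (Q i) ≅ Q' (Fin.castSucc i))
  (hε : ∀ i, quotBC hp (q i) ≫ (ε i).hom = q' (Fin.castSucc i))
  (t : Q' (Fin.castSucc (Fin.last m)) ⟶ Q' (Fin.last (m + 1)))
  (ht : q' (Fin.castSucc (Fin.last m)) ≫ t = q' (Fin.last (m + 1)))

include hF hF' hε ht in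
theorem isGrass_of_flag_succ :
    Grass.IsGrass p (Q (Fin.last m)) (n (Fin.last (m + 1))) (Q' (Fin.last (m + 1)))
      ((ε (Fin.last m)).hom ≫ t) where
  rank := hF'.rank (Fin.last (m + 1))
  epi := by
    have h1 : Epi (q' (Fin.castSucc (Fin.last m)) ≫ t) := by rw [ht]; exact hF'.epi _
    have h2 : Epi t := epi_of_epi (q' (Fin.castSucc (Fin.last m))) t
    infer_instance
  univ := by
    intro T g L hL s hs
    have hqepi : ∀ i, Epi (q i) := hF.epi
    -- the family over `T`
    obtain ⟨L', s', a, b, ha, hb⟩ := exists_family ((Scheme.Modules.pullback (g ≫ π)).obj E) m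
      (fun i => (Scheme.Modules.pullback g).obj (Q i))
      (fun i => quotBC (rfl : g ≫ π = g ≫ π) (q i)) L
      (quotBC (rfl : g ≫ π = g ≫ π) (q (Fin.last m)) ≫ s)
    have hs'c : ∀ i, s' (Fin.castSucc i) = quotBC (rfl : g ≫ π = g ≫ π) (q i) ≫ (a i).inv := fun i => by
      rw [← ha i, Category.assoc, Iso.hom_inv_id, Category.comp_id]
    have hs'l : s' (Fin.last (m + 1)) =
        (quotBC (rfl : g ≫ π = g ≫ π) (q (Fin.last m)) ≫ s) ≫ b.inv := by
      rw [← hb, Category.assoc, Iso.hom_inv_id, Category.comp_id]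
    have hL' : ∀ i, FlatMod.IsFinLocFreeOfRank (n i) (L' i) := by
      intro i
      refine Fin.lastCases ?_ (fun j => ?_) i
      · exact isFinLocFreeOfRank_of_iso b.symm hL
      · exact isFinLocFreeOfRank_of_iso (a j).symm (isFinLocFreeOfRank_pullback' g (Q j) (hF.rank j))
    have hs' : ∀ i, Epi (s' i) := by
      intro i
      refine Fin.lastCases ?_ (fun j => ?_) i
      · rw [hs'l]
        have := epi_quotBC (rfl : g ≫ π = g ≫ π) (q (Fin.last m))
        infer_instance
      · rw [hs'c]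
        have := epi_quotBC (rfl : g ≫ π = g ≫ π) (q j)
        infer_instance
    have hn' : ∀ i j, i ≤ j → ∃ t' : L' i ⟶ L' j, s' i ≫ t' = s' j := by
      intro i j
      refine Fin.lastCases ?_ (fun i' => ?_) i
      · refine Fin.lastCases ?_ (fun j' => ?_) j
        · intro _
          exact ⟨𝟙 _, Category.comp_id _⟩
        · intro hle
          exact absurd hle (not_le.2 (Fin.castSucc_lt_last j'))
      · refine Fin.lastCases ?_ (fun j' => ?_) j
        · intro _
          obtain ⟨t₁, ht₁⟩ := hF.nested i' (Fin.last m) (Fin.le_last _)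
          refine ⟨(a i').hom ≫ (Scheme.Modules.pullback g).map t₁ ≫ s ≫ b.inv, ?_⟩
          rw [hs'c, hs'l, ← ht₁, quotBC_postcomp]
          simp only [Category.assoc, Iso.inv_hom_id_assoc]
        · intro hle
          obtain ⟨t₁, ht₁⟩ := hF.nested i' j' (Fin.castSucc_le_castSucc_iff.1 hle)
          refine ⟨(a i').hom ≫ (Scheme.Modules.pullback g).map t₁ ≫ (a j').inv, ?_⟩
          rw [hs'c, hs'c, ← ht₁, quotBC_postcomp]
          simp only [Category.assoc, Iso.inv_hom_id_assoc]
    -- the classifying morphism of the extended family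
    have huniq : ∀ (h'' : T ⟶ F') (hg'' : h'' ≫ π' = g ≫ π)
        (e' : ∀ i, (Scheme.Modules.pullback h'').obj (Q' i) ≅ L' i),
        (∀ i, quotBC hg'' (q' i) ≫ (e' i).hom = s' i) → h'' = hF'.lift (g ≫ π) L' hL' s' hs' hn' :=
      fun h'' hg'' e' he' => hF'.lift_unique (g ≫ π) L' hL' s' hs' hn' h'' hg'' e' he'
    have hγ : hF'.lift (g ≫ π) L' hL' s' hs' hn' ≫ π' = g ≫ π := hF'.lift_comp (g ≫ π) L' hL' s' hs' hn'
    have hep : ∀ i, quotBC hγ (q' i) ≫ (hF'.liftIso (g ≫ π) L' hL' s' hs' hn' i).hom = s' i :=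
      fun i => hF'.quotBC_liftIso (g ≫ π) L' hL' s' hs' hn' i
    generalize hF'.liftIso (g ≫ π) L' hL' s' hs' hn' = ep at hep
    generalize hF'.lift (g ≫ π) L' hL' s' hs' hn' = h at huniq hγ ep hep
    -- Step C : `h ≫ p = g`
    have hA : ∀ i, FlatMod.IsFinLocFreeOfRank (n (Fin.castSucc i)) ((Scheme.Modules.pullback g).obj (Q i)) :=
      fun i => isFinLocFreeOfRank_pullback' g (Q i) (hF.rank i)
    have hαe : ∀ i, Epi (quotBC (rfl : g ≫ π = g ≫ π) (q i)) := fun i => epi_quotBC rfl (q i)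
    have hαn : ∀ i j, i ≤ j → ∃ t' : (Scheme.Modules.pullback g).obj (Q i) ⟶ (Scheme.Modules.pullback g).obj (Q j),
        quotBC (rfl : g ≫ π = g ≫ π) (q i) ≫ t' = quotBC (rfl : g ≫ π = g ≫ π) (q j) := by
      intro i j hij
      obtain ⟨t₁, ht₁⟩ := hF.nested i j hij
      exact ⟨(Scheme.Modules.pullback g).map t₁, by rw [← ht₁, quotBC_postcomp]⟩
    have hg1 : g = hF.lift (g ≫ π) _ hA _ hαe hαn :=
      hF.lift_unique (g ≫ π) _ hA _ hαe hαn g rfl (fun i => Iso.refl _) (fun i => Category.comp_id _)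
    have hg' : (h ≫ p) ≫ π = g ≫ π := by rw [Category.assoc, hp, hγ]
    have hg2 : h ≫ p = hF.lift (g ≫ π) _ hA _ hαe hαn :=
      hF.lift_unique (g ≫ π) _ hA _ hαe hαn (h ≫ p) hg'
        (fun i => (Scheme.Modules.pullbackComp h p).symm.app (Q i) ≪≫ (Scheme.Modules.pullback h).mapIso (ε i) ≪≫
          ep (Fin.castSucc i) ≪≫ a i)
        (fun i => by
          simp only [Iso.trans_hom, Iso.app_hom, Iso.symm_hom, Functor.mapIso_hom]
          rw [← Category.assoc, quotBC_comp h p π π' (g ≫ π) hp hγ hg', ← Category.assoc, ← quotBC_postcomp,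
            hε, ← Category.assoc, hep, ha])
    have hhp : h ≫ p = g := hg2.trans hg1.symm
    have hq'l : q' (Fin.last (m + 1)) = quotBC hp (q (Fin.last m)) ≫ (ε (Fin.last m)).hom ≫ t := by
      rw [← Category.assoc, hε, ht]
    have hepi : Epi (quotBC (rfl : g ≫ π = g ≫ π) (q (Fin.last m))) := hαe _
    refine ⟨h, ⟨hhp, ep (Fin.last (m + 1)) ≪≫ b, ?_⟩, ?_⟩
    · -- Step D
      rw [← cancel_epi (quotBC (rfl : g ≫ π = g ≫ π) (q (Fin.last m)))]
      have e1 : quotBC (rfl : g ≫ π = g ≫ π) (q (Fin.last m)) ≫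
          quotBC hhp ((ε (Fin.last m)).hom ≫ t) = quotBC hγ (q' (Fin.last (m + 1))) := by
        rw [hq'l, quotBC_postcomp hγ (quotBC hp (q (Fin.last m))) ((ε (Fin.last m)).hom ≫ t),
          ← quotBC_comp h p π π' (g ≫ π) hp hγ hg',
          ← quotBC_congr' hhp hg' (rfl : g ≫ π = g ≫ π) (q (Fin.last m))]
        simp only [quotBC, Category.assoc]
      rw [← Category.assoc, e1, Iso.trans_hom, ← Category.assoc, hep, hb]
    · -- Step E
      rintro h'' ⟨hg'', e'', hc⟩
      have hγ'' : h'' ≫ π' = g ≫ π := by rw [← hp, ← Category.assoc, hg'']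
      have hg''' : (h'' ≫ p) ≫ π = g ≫ π := by rw [hg'']
      have key : ∀ i, ∃ e' : (Scheme.Modules.pullback h'').obj (Q' i) ≅ L' i,
          quotBC hγ'' (q' i) ≫ e'.hom = s' i := by
        intro i
        refine Fin.lastCases ?_ (fun j => ?_) i
        · refine ⟨e'' ≪≫ b.symm, ?_⟩
          have e1 : quotBC (rfl : g ≫ π = g ≫ π) (q (Fin.last m)) ≫
              quotBC hg'' ((ε (Fin.last m)).hom ≫ t) = quotBC hγ'' (q' (Fin.last (m + 1))) := by
            rw [hq'l, quotBC_postcomp hγ'' (quotBC hp (q (Fin.last m))) ((ε (Fin.last m)).hom ≫ t),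
              ← quotBC_comp h'' p π π' (g ≫ π) hp hγ'' hg''',
              ← quotBC_congr' hg'' hg''' (rfl : g ≫ π = g ≫ π) (q (Fin.last m))]
            simp only [quotBC, Category.assoc]
          rw [← e1, hs'l, Iso.trans_hom, Iso.symm_hom, ← hc]
          simp only [Category.assoc]
        · refine ⟨(Scheme.Modules.pullback h'').mapIso (ε j).symm ≪≫ (Scheme.Modules.pullbackComp h'' p).app (Q j) ≪≫
            (Scheme.Modules.pullbackCongr hg'').app (Q j) ≪≫ (a j).symm, ?_⟩
          simp only [Iso.trans_hom, Iso.app_hom, Iso.symm_hom, Functor.mapIso_hom]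
          rw [← hε j, quotBC_postcomp, ← quotBC_comp h'' p π π' (g ≫ π) hp hγ'' hg''', hs'c,
            ← quotBC_congr hg'' hg''' (rfl : g ≫ π = g ≫ π) (q j)]
          simp only [Category.assoc, Iso.inv_hom_id_app_assoc, ← Functor.map_comp_assoc, Iso.hom_inv_id,
            CategoryTheory.Functor.map_id, Category.id_comp]
      choose e' he' using key
      exact huniq h'' hγ'' e' he'

end Main

end Groth.Agent.R2.H97.GrassFlag
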