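import Groth.Agent.R2.H97MTSpec

/-!
# PROJ:mt-hom (helper97): base change glue for group schemes over a varying base

* `bcCompGrp h g G : Grp.mk (bc (h ≫ g) G) ≅ Grp.mk (bc h (bc g G))`;
* `bcCongrGrp e G : Grp.mk (bc a G) ≅ Grp.mk (bc b G)` for `e : a = b`;
* `dsBC h M : Grp.mk (bc h (D_T(M))) ≅ Grp.mk (D_{T'}(M))` and its compatibility with `Red.DSmap`;
* `trivBC`: transport of a trivialisation `bc g₀ G ≅ D_{T₀}(M)` along `a : T ⟶ T₀`;
* arrow isomorphisms for the underlying morphisms of schemes.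
-/

set_option autoImplicit false

universe u

open CategoryTheory MonoidalCategory CartesianMonoidalCategory MonObj GrpObj AlgebraicGeometry

namespace Groth.Agent.R2.H97.MTBase

variable {S T T' : Scheme.{u}}

section Comp

variable (h : T' ⟶ T) (g : T ⟶ S)

/-- Base change along a composite, for group objects. -/
noncomputable def bcCompGrp (G : Over S) [GrpObj G] :
    Grp.mk (Red.bc (h ≫ g) G) ≅ Grp.mk (Red.bc h (Red.bc g G)) :=
  ((Functor.mapGrpNatIso (Over.pullbackComp h g)).app (Grp.mk G)) ≪≫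
    (Functor.mapGrpCompIso.app (Grp.mk G))

lemma bcCompGrp_hom (G : Over S) [GrpObj G] :
    (bcCompGrp h g G).hom.hom.hom = (Over.pullbackComp h g).hom.app G := by
  change (Over.pullbackComp h g).hom.app G ≫ 𝟙 _ = _
  simp

lemma bcCompGrp_inv (G : Over S) [GrpObj G] :
    (bcCompGrp h g G).inv.hom.hom = (Over.pullbackComp h g).inv.app G := by
  have h2 : (bcCompGrp h g G).inv.hom.hom ≫ (Over.pullbackComp h g).hom.app G = 𝟙 _ := by
    rw [← bcCompGrp_hom]
    exact congrArg (fun k => k.hom.hom) (bcCompGrp h g G).inv_hom_id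
  rw [← cancel_mono ((Over.pullbackComp h g).hom.app G), h2]
  simp

lemma bcComp_naturality {X Y : Over S} (v : X ⟶ Y) :
    (Over.pullback (h ≫ g)).map v ≫ (Over.pullbackComp h g).hom.app Y =
      (Over.pullbackComp h g).hom.app X ≫ (Over.pullback h).map ((Over.pullback g).map v) :=
  (Over.pullbackComp h g).hom.naturality v

end Comp

section Congr

/-- Base change along equal morphisms. -/
noncomputable def bcCongr {a b : T ⟶ S} (e : a = b) (X : Over S) : Red.bc a X ≅ Red.bc b X := by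
  subst e
  exact Iso.refl _

lemma bcCongr_naturality {a b : T ⟶ S} (e : a = b) {X Y : Over S} (v : X ⟶ Y) :
    (Over.pullback a).map v ≫ (bcCongr e Y).hom = (bcCongr e X).hom ≫ (Over.pullback b).map v := by
  subst e
  simp [bcCongr]

/-- Base change along equal morphisms, for group objects. -/
noncomputable def bcCongrGrp {a b : T ⟶ S} (e : a = b) (G : Over S) [GrpObj G] :
    Grp.mk (Red.bc a G) ≅ Grp.mk (Red.bc b G) := by
  subst e
  exact Iso.refl _

lemma bcCongrGrp_hom {a b : T ⟶ S} (e : a = b) (G : Over S) [GrpObj G] :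
    (bcCongrGrp e G).hom.hom.hom = (bcCongr e G).hom := by
  subst e
  rfl

end Congr

section DS

variable {M N : Type} [AddCommGroup M] [AddCommGroup N]

lemma terminal_comp (h : T' ⟶ T) :
    h ≫ Limits.IsTerminal.from specULiftZIsTerminal T =
      Limits.IsTerminal.from specULiftZIsTerminal T' :=
  specULiftZIsTerminal.hom_ext _ _

/-- Base change of `D_T(M)`. -/
noncomputable def dsBC (h : T' ⟶ T) (M : Type) [AddCommGroup M] :
    Grp.mk (Red.bc h (Red.DS T M)) ≅ Grp.mk (Red.DS T' M) :=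
  (bcCompGrp h (Limits.IsTerminal.from specULiftZIsTerminal T) (Red.diag (ULift.{u} ℤ) M)).symm ≪≫
    bcCongrGrp (terminal_comp h) (Red.diag (ULift.{u} ℤ) M)

lemma dsBC_hom (h : T' ⟶ T) (M : Type) [AddCommGroup M] :
    (dsBC h M).hom.hom.hom =
      (Over.pullbackComp h (Limits.IsTerminal.from specULiftZIsTerminal T)).inv.app
          (Red.diag (ULift.{u} ℤ) M) ≫
        (bcCongr (terminal_comp h) (Red.diag (ULift.{u} ℤ) M)).hom := by
  have h1 : (dsBC h M).hom.hom.hom =
      (bcCompGrp h (Limits.IsTerminal.from specULiftZIsTerminal T)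
        (Red.diag (ULift.{u} ℤ) M)).inv.hom.hom ≫
      (bcCongrGrp (terminal_comp h) (Red.diag (ULift.{u} ℤ) M)).hom.hom.hom := rfl
  rw [h1, bcCongrGrp_hom, bcCompGrp_inv]

/-- Compatibility of `dsBC` with `D(φ)`. -/
lemma dsBC_DSmap (h : T' ⟶ T) (φ : N →+ M) :
    (Over.pullback h).map (Red.DSmap T φ) ≫ (dsBC h N).hom.hom.hom =
      (dsBC h M).hom.hom.hom ≫ Red.DSmap T' φ := by
  rw [dsBC_hom, dsBC_hom]
  unfold Red.DSmap
  have n1 := (Over.pullbackComp h (Limits.IsTerminal.from specULiftZIsTerminal T)).inv.naturality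
    (Red.diagMap (ULift.{u} ℤ) φ)
  have n2 := bcCongr_naturality (terminal_comp h) (Red.diagMap (ULift.{u} ℤ) φ)
  simp only [Functor.comp_map] at n1
  rw [← Category.assoc, n1, Category.assoc, n2, Category.assoc]

end DS

section Triv

variable {M : Type} [AddCommGroup M]

/-- Base change of an isomorphism of group objects. -/
noncomputable def mapGrpIso (a : T' ⟶ T) {G H : Over T} [GrpObj G] [GrpObj H]
    (ψ : Grp.mk G ≅ Grp.mk H) : Grp.mk (Red.bc a G) ≅ Grp.mk (Red.bc a H) :=
  (Over.pullback a).mapGrp.mapIso ψ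

lemma mapGrpIso_hom (a : T' ⟶ T) {G H : Over T} [GrpObj G] [GrpObj H]
    (ψ : Grp.mk G ≅ Grp.mk H) :
    (mapGrpIso a ψ).hom.hom.hom = (Over.pullback a).map ψ.hom.hom.hom := rfl

/-- Transport of a trivialisation `bc g₀ G ≅ D_{T₀}(M)` along `a : T ⟶ T₀`. -/
noncomputable def trivBC {T₀ : Scheme.{u}} {G : Over S} [GrpObj G] (g₀ : T₀ ⟶ S)
    (ψ : Grp.mk (Red.bc g₀ G) ≅ Grp.mk (Red.DS T₀ M)) (a : T ⟶ T₀) (g : T ⟶ S)
    (e : a ≫ g₀ = g) : Grp.mk (Red.bc g G) ≅ Grp.mk (Red.DS T M) :=
  bcCongrGrp e.symm G ≪≫ bcCompGrp a g₀ G ≪≫ mapGrpIso a ψ ≪≫ dsBC a M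

end Triv

section Arrow

variable (P : MorphismProperty Scheme.{u}) [P.RespectsIso]

/-- A commutative square in `Over T` with horizontal isomorphisms: the underlying morphisms of the
vertical sides have the same properties. -/
lemma prop_iff_of_sq {X X' Y Y' : Over T} (α : X ≅ X') (β : Y ≅ Y') {v : X ⟶ Y} {v' : X' ⟶ Y'}
    (e : v ≫ β.hom = α.hom ≫ v') : P v.left ↔ P v'.left := by
  have e' : v.left ≫ β.hom.left = α.hom.left ≫ v'.left := by
    rw [← Over.comp_left, e, Over.comp_left]
  have : IsIso β.hom.left := inferInstanceAs (IsIso ((Over.forget T).map β.hom))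
  have : IsIso α.hom.left := inferInstanceAs (IsIso ((Over.forget T).map α.hom))
  rw [← P.cancel_right_of_respectsIso v.left β.hom.left, e', P.cancel_left_of_respectsIso]

lemma prop_bcComp (h : T' ⟶ T) (g : T ⟶ S) {X Y : Over S} (v : X ⟶ Y) :
    P ((Over.pullback (h ≫ g)).map v).left ↔
      P ((Over.pullback h).map ((Over.pullback g).map v)).left :=
  prop_iff_of_sq P ((Over.pullbackComp h g).app X) ((Over.pullbackComp h g).app Y)
    (bcComp_naturality h g v)

omit [P.RespectsIso] in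
lemma prop_bcCongr {a b : T ⟶ S} (e : a = b) {X Y : Over S} (v : X ⟶ Y) :
    P ((Over.pullback a).map v).left ↔ P ((Over.pullback b).map v).left := by
  subst e
  rfl

/-- Conjugating by isomorphisms of group objects. -/
lemma prop_conj {G G' H H' : Over T} [GrpObj G] [GrpObj G'] [GrpObj H] [GrpObj H']
    (α : Grp.mk G ≅ Grp.mk G') (β : Grp.mk H ≅ Grp.mk H') (v : G ⟶ H) (a : T' ⟶ T) :
    P ((Over.pullback a).map v).left ↔
      P ((Over.pullback a).map (α.inv.hom.hom ≫ v ≫ β.hom.hom.hom)).left := by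
  let α' : G ≅ G' := (Grp.forget _).mapIso α
  let β' : H ≅ H' := (Grp.forget _).mapIso β
  refine prop_iff_of_sq P ((Over.pullback a).mapIso α') ((Over.pullback a).mapIso β') ?_
  change (Over.pullback a).map v ≫ (Over.pullback a).map β.hom.hom.hom =
    (Over.pullback a).map α.hom.hom.hom ≫ (Over.pullback a).map _
  rw [← Functor.map_comp, ← Functor.map_comp]
  congr 1
  have : α.hom.hom.hom ≫ α.inv.hom.hom = 𝟙 _ := congrArg (fun k => k.hom.hom) α.hom_inv_id
  rw [← Category.assoc, this, Category.id_comp]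

end Arrow

end Groth.Agent.R2.H97.MTBase
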