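import Groth.Agent.R2.H97MTHom
import Groth.Agent.R2.H97MTBase

/-!
# PROJ:mt-hom (helper97): assembly — clopen loci for homomorphisms of groups of multiplicative type
-/

set_option autoImplicit false

universe u

open CategoryTheory MonoidalCategory CartesianMonoidalCategory MonObj GrpObj AlgebraicGeometry
  CategoryTheory.Limits

namespace Groth.Agent.R2.H97.MTAsm

open Groth.Agent.R2.H97.MTSpec Groth.Agent.R2.H97.MTBase Groth.Agent.R2.H97.MTHom

/-- The data of one of the three properties (mono / iso / faithfully flat) together with the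
corresponding property (surjective / bijective / injective) of homomorphisms of character groups. -/
structure PropData where
  /-- the property of morphisms of schemes -/
  P : MorphismProperty Scheme.{u}
  /-- the property of homomorphisms of character groups -/
  p : ∀ {M N : Type} [AddCommGroup M] [AddCommGroup N], (N →+ M) → Prop
  respectsIso : P.RespectsIso
  baseChange : ∀ {S T : Scheme.{u}} (g : T ⟶ S) {X Y : Over S} (w : X ⟶ Y),
    P w.left → P ((Over.pullback g).map w).left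
  descends : DescendsFpqc.{u} P
  zariski : ZariskiLocalOnBase.{u} P
  ofHom : ∀ (S : Scheme.{u}) {M N : Type} [AddCommGroup M] [AddCommGroup N] (φ : N →+ M),
    p φ → P (Red.DSmap S φ).left
  toHom : ∀ (S : Scheme.{u}) {M N : Type} [AddCommGroup M] [AddCommGroup N] (φ : N →+ M),
    Nonempty S → P (Red.DSmap S φ).left → p φ

variable (𝒟 : PropData.{u})

section Local

variable {S T₀ : Scheme.{u}} {G H : Over S} [GrpObj G] [GrpObj H] (u : G ⟶ H) [IsMonHom u]

/-- Local analysis on a base where both groups are diagonalisable. -/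
theorem localKey (g₀ : T₀ ⟶ S) {M N : Type} [AddCommGroup M] [AddCommGroup N] (hN : AddGroup.FG N)
    (ψG : Grp.mk (Red.bc g₀ G) ≅ Grp.mk (Red.DS T₀ M))
    (ψH : Grp.mk (Red.bc g₀ H) ≅ Grp.mk (Red.DS T₀ N)) (t₀ : T₀) :
    ∃ (W : T₀.Opens) (φ : N →+ M), t₀ ∈ W ∧ ∀ (T : Scheme.{u}) (g : T ⟶ T₀),
      Set.range g.base ⊆ (W : Set T₀) →
        (𝒟.P ((Over.pullback (g ≫ g₀)).map u).left ↔ 𝒟.P (Red.DSmap T φ).left) := by
  let u₀ : Red.DS T₀ M ⟶ Red.DS T₀ N :=
    ψG.inv.hom.hom ≫ (Over.pullback g₀).map u ≫ ψH.hom.hom.hom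
  have : IsMonHom u₀ := inferInstance
  obtain ⟨W, φ, ht, hW⟩ := exists_local u₀ hN t₀
  refine ⟨W, φ, ht, fun T g hg => ?_⟩
  have := 𝒟.respectsIso
  have e1 : (Over.pullback g).map u₀ = (Over.pullback g).map (Red.DSmap T₀ φ) :=
    pullback_map_eq_of_points g u₀ _ (fun X x hX => hW X x (hX.trans hg))
  rw [prop_bcComp 𝒟.P g g₀ u, prop_conj 𝒟.P ψG ψH ((Over.pullback g₀).map u) g]
  change 𝒟.P ((Over.pullback g).map u₀).left ↔ _
  rw [e1]
  exact prop_iff_of_sq 𝒟.P ((Grp.forget _).mapIso (dsBC g M)) ((Grp.forget _).mapIso (dsBC g N))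
    (dsBC_DSmap g φ)

end Local

section Cov

variable {S S₁ S₂ : Scheme.{u}} (f₁ : S₁ ⟶ S) (f₂ : S₂ ⟶ S) {G H : Over S} [GrpObj G] [GrpObj H]
  (u : G ⟶ H) [IsMonHom u]

/-- Local analysis on the common refinement of the two trivialising coverings. -/
theorem localCov
    (hG : ∀ s₁ : S₁, ∃ U : S₁.Opens, s₁ ∈ U ∧ ∃ (M : Type) (_ : AddCommGroup M), AddGroup.FG M ∧
      Nonempty (Grp.mk (Red.bc (U.ι ≫ f₁) G) ≅ Grp.mk (Red.DS (U : Scheme.{u}) M)))
    (hH : ∀ s₂ : S₂, ∃ U : S₂.Opens, s₂ ∈ U ∧ ∃ (N : Type) (_ : AddCommGroup N), AddGroup.FG N ∧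
      Nonempty (Grp.mk (Red.bc (U.ι ≫ f₂) H) ≅ Grp.mk (Red.DS (U : Scheme.{u}) N)))
    (t : ↑(pullback f₂ f₁)) :
    ∃ (W : (pullback f₂ f₁).Opens) (q : Prop), t ∈ W ∧
      ∀ (T : Scheme.{u}) (g : T ⟶ pullback f₂ f₁), Set.range g.base ⊆ (W : Set ↑(pullback f₂ f₁)) →
        (q → 𝒟.P ((Over.pullback (g ≫ pullback.snd f₂ f₁ ≫ f₁)).map u).left) ∧
        (Nonempty T → 𝒟.P ((Over.pullback (g ≫ pullback.snd f₂ f₁ ≫ f₁)).map u).left → q) := by
  obtain ⟨U₁, h1, M, _, -, ⟨ψ₁⟩⟩ := hG ((pullback.snd f₂ f₁) t)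
  obtain ⟨U₂, h2, N, _, hN, ⟨ψ₂⟩⟩ := hH ((pullback.fst f₂ f₁) t)
  let T₀ : (pullback f₂ f₁).Opens := (pullback.snd f₂ f₁) ⁻¹ᵁ U₁ ⊓ (pullback.fst f₂ f₁) ⁻¹ᵁ U₂
  have htT₀ : t ∈ T₀ := ⟨h1, h2⟩
  let g₀ : (T₀ : Scheme.{u}) ⟶ S := T₀.ι ≫ pullback.snd f₂ f₁ ≫ f₁
  let a₁ : (T₀ : Scheme.{u}) ⟶ U₁ := (pullback.snd f₂ f₁).resLE U₁ T₀ inf_le_left
  let a₂ : (T₀ : Scheme.{u}) ⟶ U₂ := (pullback.fst f₂ f₁).resLE U₂ T₀ inf_le_right
  have e₁ : a₁ ≫ (U₁.ι ≫ f₁) = g₀ := by
    rw [← Category.assoc, Scheme.Hom.resLE_comp_ι, Category.assoc]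
  have e₂ : a₂ ≫ (U₂.ι ≫ f₂) = g₀ := by
    rw [← Category.assoc, Scheme.Hom.resLE_comp_ι, Category.assoc, pullback.condition]
  let ψG := trivBC (U₁.ι ≫ f₁) ψ₁ a₁ g₀ e₁
  let ψH := trivBC (U₂.ι ≫ f₂) ψ₂ a₂ g₀ e₂
  obtain ⟨W₀, φ, hW₀, hkey⟩ := localKey 𝒟 u g₀ hN ψG ψH ⟨t, htT₀⟩
  refine ⟨T₀.ι ''ᵁ W₀, 𝒟.p φ, ⟨⟨t, htT₀⟩, hW₀, rfl⟩, fun T g hg => ?_⟩
  have hgT₀ : Set.range g.base ⊆ Set.range T₀.ι.base := by
    rintro _ ⟨y, rfl⟩
    obtain ⟨w, -, hw⟩ := hg ⟨y, rfl⟩
    exact ⟨w, hw⟩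
  let g' : T ⟶ (T₀ : Scheme.{u}) := IsOpenImmersion.lift T₀.ι g hgT₀
  have hg' : g' ≫ T₀.ι = g := IsOpenImmersion.lift_fac T₀.ι g hgT₀
  have hg'W : Set.range g'.base ⊆ (W₀ : Set ↑(T₀ : Scheme.{u})) := by
    rintro _ ⟨y, rfl⟩
    obtain ⟨w, hwW, hw⟩ := hg ⟨y, rfl⟩
    have : w = g' y := by
      apply T₀.ι.isOpenEmbedding.injective
      refine Eq.trans hw ?_
      rw [← Scheme.Hom.comp_apply, hg']
    rw [← this]
    exact hwW
  have heq : g ≫ pullback.snd f₂ f₁ ≫ f₁ = g' ≫ g₀ := by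
    rw [← hg', Category.assoc]
  have hiff := hkey T g' hg'W
  rw [prop_bcCongr 𝒟.P heq u]
  exact ⟨fun hq => hiff.2 (𝒟.ofHom T φ hq), fun hne hP => 𝒟.toHom T φ hne (hiff.1 hP)⟩

end Cov

section Main

/-- A flat, surjective, quasi-compact morphism is a generalised fpqc covering. -/
lemma isFpqcCov_of_quasiCompact {X Y : Scheme.{u}} (f : X ⟶ Y) [Flat f] [Surjective f]
    [QuasiCompact f] : IsFpqcCov f := by
  refine ⟨inferInstance, inferInstance, fun V hV => ⟨f ⁻¹ᵁ V, ?_, ?_⟩⟩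
  · exact QuasiCompact.isCompact_preimage (f := f) _ V.2 hV.isCompact
  · exact Set.image_preimage_eq _ f.surjective

/-- An extension of residue fields is a generalised fpqc covering. -/
lemma isFpqcCov_residueFieldMap {X Y : Scheme.{u}} (f : X ⟶ Y) (x : X) :
    IsFpqcCov (Spec.map (f.residueFieldMap x)) := by
  have hflat : Flat (Spec.map (f.residueFieldMap x)) := by
    rw [HasRingHomProperty.Spec_iff (P := @Flat)]
    algebraize [(f.residueFieldMap x).hom]
    exact (RingHom.flat_algebraMap_iff).2 inferInstance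
  have hsurj : Surjective (Spec.map (f.residueFieldMap x)) := by
    constructor
    intro y
    refine ⟨⟨⊥, Ideal.isPrime_bot⟩, ?_⟩
    have : Subsingleton (PrimeSpectrum (Y.residueField (f x))) := inferInstance
    exact Subsingleton.elim _ _
  exact isFpqcCov_of_quasiCompact _

variable (hD1 : ∀ {S' S : Scheme.{u}} (f : S' ⟶ S), IsFpqcCov f → ∀ A : Set S,
    IsOpen (f.base ⁻¹' A) → IsOpen A)
  (hD2 : ∀ {S' S T : Scheme.{u}} (f : S' ⟶ S) (g : T ⟶ S), IsFpqcCov f →
    IsFpqcCov (Limits.pullback.snd f g))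
  (hD3 : ∀ {S'' S' S : Scheme.{u}} (f' : S'' ⟶ S') (f : S' ⟶ S), IsFpqcCov f' → IsFpqcCov f →
    IsFpqcCov (f' ≫ f))

include hD1 hD2 hD3 in
/-- **Main theorem**: the locus where a homomorphism of groups of multiplicative type of finite
type has fibrewise the property `P` is open and closed, and the homomorphism has `P` over it. -/
theorem main {S : Scheme.{u}} (G H : Over S) [GrpObj G] [GrpObj H]
    (hG : SGA3x.IsMultTypeFT G) (hH : SGA3x.IsMultTypeFT H) (u : G ⟶ H) [IsMonHom u] :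
    ∃ U : S.Opens, IsClosed (U : Set S) ∧
      (∀ s : S, s ∈ U ↔ 𝒟.P ((Over.pullback (S.fromSpecResidueField s)).map u).left) ∧
      𝒟.P ((Over.pullback U.ι).map u).left := by
  obtain ⟨S₁, f₁, hfl₁, hsj₁, hc₁, hG'⟩ := hG
  obtain ⟨S₂, f₂, hfl₂, hsj₂, hc₂, hH'⟩ := hH
  have cov₁ : IsFpqcCov f₁ := ⟨hfl₁, hsj₁, hc₁⟩
  have cov₂ : IsFpqcCov f₂ := ⟨hfl₂, hsj₂, hc₂⟩
  let S' : Scheme.{u} := pullback f₂ f₁
  let f : S' ⟶ S := pullback.snd f₂ f₁ ≫ f₁
  have covf : IsFpqcCov f := hD3 _ _ (hD2 f₂ f₁ cov₂) cov₁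
  choose W q htW hWq using localCov 𝒟 f₁ f₂ u hG' hH'
  have := 𝒟.respectsIso
  let Q : S → Prop := fun s => 𝒟.P ((Over.pullback (S.fromSpecResidueField s)).map u).left
  have step3 : ∀ t : S',
      𝒟.P ((Over.pullback (S'.fromSpecResidueField t ≫ f)).map u).left ↔ Q (f t) := by
    intro t
    have e : S'.fromSpecResidueField t ≫ f =
        Spec.map (f.residueFieldMap t) ≫ S.fromSpecResidueField (f t) :=
      (Scheme.Hom.SpecMap_residueFieldMap_fromSpecResidueField f t).symm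
    rw [prop_bcCongr 𝒟.P e u, prop_bcComp 𝒟.P _ _ u]
    exact ⟨𝒟.descends _ (isFpqcCov_residueFieldMap f t) _, 𝒟.baseChange _ _⟩
  have step4 : ∀ t t' : S', t' ∈ W t → (Q (f t') ↔ q t) := by
    intro t t' ht'
    rw [← step3 t']
    have hr : Set.range (S'.fromSpecResidueField t').base ⊆ (W t : Set S') := by
      rw [Scheme.range_fromSpecResidueField]
      exact Set.singleton_subset_iff.2 ht'
    obtain ⟨h1, h2⟩ := hWq t _ (S'.fromSpecResidueField t') hr
    exact ⟨h2 inferInstance, h1⟩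
  have hopen : IsOpen {s | Q s} := by
    apply hD1 f covf
    rw [isOpen_iff_forall_mem_open]
    intro t ht
    refine ⟨W t, ?_, (W t).2, htW t⟩
    intro t' ht'
    exact (step4 t t' ht').2 ((step4 t t (htW t)).1 ht)
  have hclosed : IsClosed {s | Q s} := by
    constructor
    apply hD1 f covf
    rw [isOpen_iff_forall_mem_open]
    intro t ht
    refine ⟨W t, ?_, (W t).2, htW t⟩
    intro t' ht' hQ
    exact ht ((step4 t t (htW t)).2 ((step4 t t' ht').1 hQ))
  let U : S.Opens := ⟨{s | Q s}, hopen⟩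
  refine ⟨U, hclosed, fun s => Iff.rfl, ?_⟩
  let fU := pullback.snd f U.ι
  let r := pullback.fst f U.ι
  have covU : IsFpqcCov fU := hD2 f U.ι covf
  apply 𝒟.descends fU covU
  rw [← prop_bcComp 𝒟.P fU U.ι u]
  have e : fU ≫ U.ι = r ≫ f := pullback.condition.symm
  rw [prop_bcCongr 𝒟.P e u]
  apply 𝒟.zariski ((Over.pullback (r ≫ f)).map u) (fun y : ↑(pullback f U.ι) => r ⁻¹ᵁ W (r y))
    (fun y => ⟨y, htW (r y)⟩)
  intro y
  rw [← prop_bcComp 𝒟.P _ (r ≫ f) u]
  have hq : q (r y) := by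
    rw [← step4 (r y) (r y) (htW (r y))]
    have h1 : f (r y) = U.ι (fU y) := by
      rw [← Scheme.Hom.comp_apply, ← Scheme.Hom.comp_apply, e]
    change f (r y) ∈ U
    rw [h1]
    exact (fU y).2
  have hrange : Set.range ((r ⁻¹ᵁ W (r y)).ι ≫ r).base ⊆ (W (r y) : Set S') := by
    rintro _ ⟨z, rfl⟩
    exact z.2
  have h2 := (hWq (r y) _ ((r ⁻¹ᵁ W (r y)).ι ≫ r) hrange).1 hq
  rwa [← Category.assoc] at h2

end Main

section Inst

/-- The underlying morphism of a base change is a base change of the underlying morphism. -/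
lemma isPullback_pullback_map_left {S T : Scheme.{u}} (g : T ⟶ S) {X Y : Over S} (w : X ⟶ Y) :
    IsPullback (pullback.fst X.hom g) ((Over.pullback g).map w).left w.left
      (pullback.fst Y.hom g) := by
  have e1 : ((Over.pullback g).map w).left ≫ pullback.snd Y.hom g = pullback.snd X.hom g := by
    simp only [Over.pullback_map_left]
    exact pullback.lift_snd _ _ _
  have e2 : w.left ≫ Y.hom = X.hom := Over.w w
  refine IsPullback.of_bot (v₂₁ := pullback.snd Y.hom g) (v₂₂ := Y.hom) (h₃₁ := g) ?_ ?_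
    (IsPullback.of_hasPullback Y.hom g)
  · rw [e1, e2]
    exact IsPullback.of_hasPullback X.hom g
  · simp only [Over.pullback_map_left]
    exact (pullback.lift_fst _ _ _).symm

lemma baseChange_of_stable (P : MorphismProperty Scheme.{u}) [P.IsStableUnderBaseChange]
    {S T : Scheme.{u}} (g : T ⟶ S) {X Y : Over S} (w : X ⟶ Y) (h : P w.left) :
    P ((Over.pullback g).map w).left :=
  MorphismProperty.of_isPullback (isPullback_pullback_map_left g w) h

variable (hD : PkgD.{u}) (hP : PkgP.{u})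

/-- The data for "monomorphism". -/
def monoData : PropData.{u} where
  P := monoProp
  p := fun φ => Function.Surjective φ
  respectsIso := inferInstanceAs (MorphismProperty.monomorphisms Scheme.{u}).RespectsIso
  baseChange := fun g _ _ w h =>
    baseChange_of_stable (MorphismProperty.monomorphisms Scheme.{u}) g w h
  descends := hD.2.2.2.1.2.1
  zariski := hD.2.2.2.2.2.1
  ofHom := fun S _ _ _ _ φ h => (hP S φ).1 h
  toHom := fun S _ _ _ _ φ hne h => (hP S φ).2.2.2.1 hne h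

/-- The data for "isomorphism". -/
def isoData : PropData.{u} where
  P := isoProp
  p := fun φ => Function.Bijective φ
  respectsIso := inferInstanceAs (MorphismProperty.isomorphisms Scheme.{u}).RespectsIso
  baseChange := fun g _ _ w h =>
    baseChange_of_stable (MorphismProperty.isomorphisms Scheme.{u}) g w h
  descends := hD.2.2.2.1.1
  zariski := hD.2.2.2.2.1
  ofHom := fun S _ _ _ _ φ h => (hP S φ).2.1 h
  toHom := fun S _ _ _ _ φ hne h => by
    have hiso : IsIso (Red.DSmap S φ).left := h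
    refine ⟨(hP S φ).2.2.2.2 hne inferInstance inferInstance, (hP S φ).2.2.2.1 hne inferInstance⟩

/-- The data for "faithfully flat". -/
def ffData : PropData.{u} where
  P := ffProp
  p := fun φ => Function.Injective φ
  respectsIso := by
    apply MorphismProperty.RespectsIso.mk
    · intro X Y Z e f hf
      have h1 : Flat f := hf.1
      have h2 : Surjective f := hf.2
      exact ⟨inferInstance, inferInstance⟩
    · intro X Y Z e f hf
      have h1 : Flat f := hf.1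
      have h2 : Surjective f := hf.2
      exact ⟨inferInstance, inferInstance⟩
  baseChange := fun g _ _ w h =>
    ⟨baseChange_of_stable @Flat g w h.1, baseChange_of_stable @Surjective g w h.2⟩
  descends := hD.2.2.2.1.2.2
  zariski := hD.2.2.2.2.2.2
  ofHom := fun S _ _ _ _ φ h => (hP S φ).2.2.1 h
  toHom := fun S _ _ _ _ φ hne h => (hP S φ).2.2.2.2 hne h.1 h.2

include hD hP in
/-- S5274 from the packages. -/
theorem s5274_of {S : Scheme.{u}} (G H : Over S) [GrpObj G] [GrpObj H]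
    (hG : SGA3x.IsMultTypeFT G) (hH : SGA3x.IsMultTypeFT H) (u : G ⟶ H) [IsMonHom u] :
    ∃ U : S.Opens, IsClosed (U : Set S) ∧
      (∀ s : S, s ∈ U ↔ Mono ((Over.pullback (S.fromSpecResidueField s)).map u).left) ∧
      Mono ((Over.pullback U.ι).map u).left :=
  main (monoData hD hP) hD.1 hD.2.1 hD.2.2.1 G H hG hH u

include hD hP in
/-- S5275 from the packages. -/
theorem s5275_of {S : Scheme.{u}} (G H : Over S) [GrpObj G] [GrpObj H]
    (hG : SGA3x.IsMultTypeFT G) (hH : SGA3x.IsMultTypeFT H) (u : G ⟶ H) [IsMonHom u] :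
    ∃ U : S.Opens, IsClosed (U : Set S) ∧
      (∀ s : S, s ∈ U ↔ IsIso ((Over.pullback (S.fromSpecResidueField s)).map u).left) ∧
      IsIso ((Over.pullback U.ι).map u).left :=
  main (isoData hD hP) hD.1 hD.2.1 hD.2.2.1 G H hG hH u

include hD hP in
/-- S5276 from the packages. -/
theorem s5276_of {S : Scheme.{u}} (G H : Over S) [GrpObj G] [GrpObj H]
    (hG : SGA3x.IsMultTypeFT G) (hH : SGA3x.IsMultTypeFT H) (u : G ⟶ H) [IsMonHom u] :
    ∃ U : S.Opens, IsClosed (U : Set S) ∧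
      (∀ s : S, s ∈ U ↔ (Flat ((Over.pullback (S.fromSpecResidueField s)).map u).left ∧
        Surjective ((Over.pullback (S.fromSpecResidueField s)).map u).left)) ∧
      (Flat ((Over.pullback U.ι).map u).left ∧ Surjective ((Over.pullback U.ι).map u).left) :=
  main (ffData hD hP) hD.1 hD.2.1 hD.2.2.1 G H hG hH u

end Inst

end Groth.Agent.R2.H97.MTAsm
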