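import Groth.Agent.R2.H97MTExt

/-!
# Normal subgroups of multiplicative type are central (fibrewise connected case) (helper97)

* `isPreconnected_fibre`: connected schematic fibres have connected topological fibres.
* `central_of_normal_fib`: a normal subgroup of multiplicative type and of finite type of an
  `S`-group with connected fibres is central (SGA3 IX 5.5), via `MTExt.act_trivial_fib`.
-/

set_option autoImplicit false

universe u

open CategoryTheory MonoidalCategory CartesianMonoidalCategory MonObj GrpObj AlgebraicGeometry
  CategoryTheory.Limits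

namespace Groth.Agent.R2.H97.MTCentre2

open Groth.Agent.R2.H97.MTAct Groth.Agent.R2.H97.MTExt

/-- The topological fibres of a morphism with connected schematic fibres are connected. -/
lemma isPreconnected_fibre {X S : Scheme.{u}} (f : X ⟶ S) (s : S)
    [ConnectedSpace ↥(Limits.pullback f (S.fromSpecResidueField s))] :
    _root_.IsPreconnected (f.base ⁻¹' {s}) := by
  have h1 : Set.range (pullback.fst f (S.fromSpecResidueField s)).base = f.base ⁻¹' {s} := by
    rw [Scheme.Pullback.range_fst, Scheme.range_fromSpecResidueField]
  rw [← h1]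
  exact (isConnected_range (pullback.fst f (S.fromSpecResidueField s)).continuous).isPreconnected

section Normal

variable {S : Scheme.{u}} {K H : Over S} [GrpObj K] [GrpObj H]

/-- **A normal subgroup of multiplicative type of a group with connected fibres is central.** -/
theorem central_of_normal_fib (hfib : ∀ s : S, _root_.IsPreconnected (K.hom.base ⁻¹' {s}))
    (i : H ⟶ K) [IsMonHom i] [Mono i] (hH : SGA3x.IsMultTypeFT H) (hn : AlgGrp.IsNormalHom i)
    (X : Over S) (k : X ⟶ K) (h : X ⟶ H) : k * (h ≫ i) = (h ≫ i) * k := by
  obtain ⟨c, hc⟩ := hn (K ⊗ H) (fst K H) (snd K H)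
  have hpt : ∀ (T : Over S) (b : T ⟶ K) (h : T ⟶ H),
      (lift b h ≫ c) ≫ i = b * (h ≫ i) * b⁻¹ := by
    intro T b h
    rw [Category.assoc, ← hc, MonObj.comp_mul, MonObj.comp_mul, GrpObj.comp_inv, lift_fst,
      lift_snd_assoc]
  have key := act_trivial_fib c hfib hH ?_ η[K] ?_ X k h
  · have h1 := hpt X k h
    rw [key] at h1
    calc k * (h ≫ i) = (k * (h ≫ i) * k⁻¹) * k := by group
      _ = (h ≫ i) * k := by rw [← h1]
  · intro T b h h'
    rw [← cancel_mono i, hpt, MonObj.mul_comp, MonObj.mul_comp, hpt, hpt]
    group
  · intro T h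
    rw [← cancel_mono i, hpt]
    have : toUnit T ≫ η[K] = 1 := by
      rw [Hom.one_def]
    rw [this]
    group

end Normal

end Groth.Agent.R2.H97.MTCentre2
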