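import Groth.Agent.R2.H97MTExt
import Groth.Prelude.Def_Red2

/-!
# Trivial locus of an action on a group of multiplicative type; centralizer ⊂ normalizer (helper97)

* `TrivAt c g`, `map_actHom_eq_of_trivAt`, `trivAt_of_map_actHom_eq`: pointwise description of the
  base change of `actHom c` along `g`.
* `exists_trivLocus`: for `c : B ⊗ H ⟶ H` acting by homomorphisms on `H` of multiplicative type and
  finite type there is an open and closed `W ⊆ B` such that `c` is trivial along `g : T ⟶ B` iff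
  `g` factors through `W`.
* `centralizer_clopen_normalizer`: the centralizer of a subgroup of multiplicative type is an open
  and closed subgroup scheme of its normalizer (SGA3 XI 5.9), given representing objects.
-/

set_option autoImplicit false

universe u

open CategoryTheory MonoidalCategory CartesianMonoidalCategory MonObj GrpObj AlgebraicGeometry
  CategoryTheory.Limits

namespace Groth.Agent.R2.H97.MTCzr

open Groth.Agent.R2.H97.MTSpec Groth.Agent.R2.H97.MTBase Groth.Agent.R2.H97.MTHom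
  Groth.Agent.R2.H97.MTRigid Groth.Agent.R2.H97.MTChar Groth.Agent.R2.H97.MTAct
  Groth.Agent.R2.H97.MTExt Groth.Agent.Lib.Helper27.GaGm

section TrivAt

variable {S : Scheme.{u}} {B H : Over S} [GrpObj H] (c : B ⊗ H ⟶ H)

/-- `c` is trivial on all points of `B` factoring through `g`. -/
def TrivAt {T : Scheme.{u}} (g : T ⟶ B.left) : Prop :=
  ∀ (T' : Over S) (b : T' ⟶ B), (∃ t : T'.left ⟶ T, b.left = t ≫ g) →
    ∀ h : T' ⟶ H, lift b h ≫ c = h

lemma map_actHom_eq_of_trivAt {T : Scheme.{u}} (g : T ⟶ B.left) (hg : TrivAt c g) :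
    (Over.pullback g).map (actHom c) = (Over.pullback g).map (𝟙 (Red.bc B.hom H)) := by
  have key : ∀ (Y : Over T) (y : Y ⟶ Red.bc g (Red.bc B.hom H)),
      y ≫ (Over.pullback g).map (actHom c) = y := by
    intro Y y
    apply (adjEquiv g (Red.bc B.hom H) Y).injective
    rw [adjEquiv_pullback_map, comp_actHom]
    rw [hg _ (strPt ((Over.map g).obj Y)) ⟨Y.hom, by simp [strPt]⟩, Equiv.symm_apply_apply]
  have := key _ (𝟙 _)
  rw [Category.id_comp] at this
  rw [this, CategoryTheory.Functor.map_id]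

lemma trivAt_of_map_actHom_eq {T : Scheme.{u}} (g : T ⟶ B.left)
    (hq : (Over.pullback g).map (actHom c) = (Over.pullback g).map (𝟙 (Red.bc B.hom H))) :
    TrivAt c g := by
  rintro T' b ⟨t, hb⟩ h
  let Y : Over T := Over.mk t
  let X : Over B.left := (Over.map g).obj Y
  have hT' : T'.hom = (t ≫ g) ≫ B.hom := by
    rw [← hb]
    exact (Over.w b).symm
  let θ : (Over.map B.hom).obj X ≅ T' := Over.isoMk (Iso.refl _) (by simp [X, Y, hT'])
  have hθ : strPt X = θ.hom ≫ b := by
    ext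
    simp [strPt, X, Y, θ, hb]
  let x : X ⟶ Red.bc B.hom H := (adjEquiv B.hom H X).symm (θ.hom ≫ h)
  let y : Y ⟶ Red.bc g (Red.bc B.hom H) := (adjEquiv g (Red.bc B.hom H) Y).symm x
  have h1 : y ≫ (Over.pullback g).map (actHom c) = y := by
    rw [hq, CategoryTheory.Functor.map_id, Category.comp_id]
  have h2 := congrArg (adjEquiv g (Red.bc B.hom H) Y) h1
  rw [adjEquiv_pullback_map, Equiv.apply_symm_apply, comp_actHom, Equiv.apply_symm_apply] at h2
  have h3 := (adjEquiv B.hom H X).symm.injective h2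
  rw [hθ, ← comp_lift, Category.assoc] at h3
  exact (cancel_epi θ.hom).1 h3

/-- **The trivial locus of an action by homomorphisms on a group of multiplicative type is open
and closed.** -/
theorem exists_trivLocus (hH : SGA3x.IsMultTypeFT H)
    (hhom : ∀ (T : Over S) (b : T ⟶ B) (h h' : T ⟶ H),
      lift b (h * h') ≫ c = (lift b h ≫ c) * (lift b h' ≫ c)) :
    ∃ W : B.left.Opens, IsClosed (W : Set B.left) ∧
      ∀ {T : Scheme.{u}} (g : T ⟶ B.left), TrivAt c g ↔ Set.range g.base ⊆ (W : Set B.left) := by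
  have hHB : SGA3x.IsMultTypeFT (Red.bc B.hom H) := Groth.Agent.R2.H74.MTQ2M.pkgM B.hom H hH
  have : IsMonHom (actHom c) := isMonHom_actHom c hhom
  obtain ⟨W, hcl, hW, hQ⟩ := eqLocus Groth.Agent.R2.H74.MTD.pkgD (Red.bc B.hom H) (Red.bc B.hom H)
    hHB hHB (actHom c) (𝟙 _)
  refine ⟨W, hcl, fun {T} g => ⟨fun hg => ?_, fun hg => ?_⟩⟩
  · rintro _ ⟨t, rfl⟩
    exact mem_of_Q (eqProp (actHom c) (𝟙 _)) hW g t (map_actHom_eq_of_trivAt c g hg)
  · apply trivAt_of_map_actHom_eq
    have hrange : Set.range g.base ⊆ Set.range W.ι.base := by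
      rw [Scheme.Opens.range_ι]
      exact hg
    have e : IsOpenImmersion.lift W.ι g hrange ≫ W.ι = g := IsOpenImmersion.lift_fac _ _ _
    have := (eqProp (actHom c) (𝟙 _)).baseChange (IsOpenImmersion.lift W.ι g hrange) W.ι hQ
    rw [e] at this
    exact this

end TrivAt

section Main

variable {S : Scheme.{u}} {H G Z N : Over S} [GrpObj H] [GrpObj G] [GrpObj Z] [GrpObj N]

/-- **The centralizer of a subgroup of multiplicative type is open and closed in its normalizer**
(SGA3 XI 5.9), for given representing objects `Z` and `N`. -/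
theorem centralizer_clopen_normalizer (hH : SGA3x.IsMultTypeFT H) (i : H ⟶ G) [IsMonHom i] [Mono i]
    (j : Z ⟶ G) (k : N ⟶ G) (hj : Red.IsCentralizerOf i j) (hk : Red.IsNormalizerOf i k) :
    ∃ f : Z ⟶ N, f ≫ k = j ∧ IsOpenImmersion f.left ∧ IsClosedImmersion f.left := by
  obtain ⟨hjm, hjmono, hjc⟩ := hj
  obtain ⟨hkm, hkmono, hkn⟩ := hk
  -- the inclusion `Z ⟶ N`
  have hZcomm : ∀ (X' : Over S) (x : X' ⟶ Z) (h : X' ⟶ H),
      (x ≫ j) * (h ≫ i) = (h ≫ i) * (x ≫ j) :=
    fun X' x h => (hjc Z j).1 ⟨𝟙 Z, Category.id_comp _⟩ X' x h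
  obtain ⟨f, hf⟩ := (hkn Z j).2 (fun X' x h =>
    ⟨⟨h, by rw [hZcomm]; group⟩, ⟨h, by rw [_root_.mul_assoc, ← hZcomm]; group⟩⟩)
  -- the conjugation action of `N` on `H`
  obtain ⟨⟨c, hc⟩, -⟩ := (hkn N k).1 ⟨𝟙 N, Category.id_comp _⟩ (N ⊗ H) (fst N H) (snd N H)
  have hpt : ∀ (T : Over S) (b : T ⟶ N) (h : T ⟶ H),
      (lift b h ≫ c) ≫ i = (b ≫ k) * (h ≫ i) * (b ≫ k)⁻¹ := by
    intro T b h
    rw [Category.assoc, ← hc, MonObj.comp_mul, MonObj.comp_mul, GrpObj.comp_inv, lift_fst_assoc,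
      lift_snd_assoc]
  have hhom : ∀ (T : Over S) (b : T ⟶ N) (h h' : T ⟶ H),
      lift b (h * h') ≫ c = (lift b h ≫ c) * (lift b h' ≫ c) := by
    intro T b h h'
    rw [← cancel_mono i, hpt, MonObj.mul_comp, MonObj.mul_comp, hpt, hpt]
    group
  obtain ⟨W, hcl, hW⟩ := exists_trivLocus c hH hhom
  -- `Z` lands in `W`
  have hfW : Set.range f.left.base ⊆ (W : Set N.left) := by
    refine (hW f.left).1 ?_
    rintro T' b ⟨t, hb⟩ h
    have hT' : t ≫ Z.hom = T'.hom := by
      rw [← Over.w b, hb, Category.assoc, Over.w f]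
    let z : T' ⟶ Z := Over.homMk t hT'
    have hz : b = z ≫ f := by
      ext
      simp [z, hb]
    rw [← cancel_mono i, hpt, hz, Category.assoc, hf, hZcomm]
    group
  -- the open and closed subscheme `W` of `N`
  let NW : Over S := Over.mk (W.ι ≫ N.hom)
  let w : NW ⟶ N := Over.homMk W.ι rfl
  have hwtriv : TrivAt c W.ι := (hW W.ι).2 (by rw [Scheme.Opens.range_ι])
  obtain ⟨ζ, hζ⟩ := (hjc NW (w ≫ k)).2 (fun X' x h => by
    have h1 := hwtriv X' (x ≫ w) ⟨x.left, rfl⟩ h
    have h2 := hpt X' (x ≫ w) h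
    rw [h1, Category.assoc] at h2
    calc (x ≫ w ≫ k) * (h ≫ i) = ((x ≫ w ≫ k) * (h ≫ i) * (x ≫ w ≫ k)⁻¹) * (x ≫ w ≫ k) := by group
      _ = (h ≫ i) * (x ≫ w ≫ k) := by rw [← h2])
  have hrange : Set.range f.left.base ⊆ Set.range W.ι.base := by
    rw [Scheme.Opens.range_ι]
    exact hfW
  have hf'l : IsOpenImmersion.lift W.ι f.left hrange ≫ W.ι = f.left :=
    IsOpenImmersion.lift_fac _ _ _
  let f' : Z ⟶ NW := Over.homMk (IsOpenImmersion.lift W.ι f.left hrange) (by
    change _ ≫ W.ι ≫ N.hom = _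
    rw [reassoc_of% hf'l]
    exact Over.w f)
  have hf'w : f' ≫ w = f := by
    ext
    exact hf'l
  have h1 : ζ ≫ f = w := by rw [← cancel_mono k, Category.assoc, hf, hζ]
  have hwmono : Mono w := by
    have : Mono w.left := inferInstanceAs (Mono W.ι)
    exact Over.mono_of_mono_left w
  have h2 : ζ ≫ f' = 𝟙 NW := by
    rw [← cancel_mono w, Category.assoc, hf'w, h1, Category.id_comp]
  have h3 : f' ≫ ζ = 𝟙 Z := by
    rw [← cancel_mono j, Category.assoc, hζ, ← Category.assoc, hf'w, hf, Category.id_comp]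
  have hiso : IsIso f'.left :=
    ⟨ζ.left, by rw [← Over.comp_left, h3]; rfl, by rw [← Over.comp_left, h2]; rfl⟩
  have hfl : f.left = f'.left ≫ W.ι := hf'l.symm
  refine ⟨f, hf, ?_, ?_⟩
  · rw [hfl]
    infer_instance
  · rw [hfl]
    have : IsClosedImmersion W.ι := IsClosedImmersion.of_isPreimmersion _ (by
      rw [Scheme.Opens.range_ι]
      exact hcl)
    infer_instance

end Main

end Groth.Agent.R2.H97.MTCzr
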