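import Groth.Agent.R2.H97MTImg

/-!
# PROJ:mt-img (helper97): the greatest split subtorus of a group of multiplicative type over a
connected base (S16612) and cocharacters of tori (S16620)
-/

set_option autoImplicit false

universe u

open CategoryTheory MonoidalCategory CartesianMonoidalCategory MonObj GrpObj AlgebraicGeometry
  CategoryTheory.Limits

namespace Groth.Agent.R2.H97.MTGreatest

open Groth.Agent.R2.H97.MTSpec Groth.Agent.R2.H97.MTBase Groth.Agent.R2.H97.MTHom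
  Groth.Agent.R2.H97.MTAsm Groth.Agent.R2.H97.MTTori Groth.Agent.R2.H97.MTSplit
  Groth.Agent.R2.H97.MTQSpec Groth.Agent.R2.H97.MTQ2Spec Groth.Agent.R2.H97.MTQuot
  Groth.Agent.R2.H97.MTQ2 Groth.Agent.R2.H97.MTImgSpec Groth.Agent.R2.H97.MTImg
  Groth.Agent.R2.H55.DSPts Groth.Agent.R2.H60.MTP

variable (hD : PkgD.{u}) (hP : PkgP.{u}) (hC : PkgC.{u}) (hF : PkgF.{u}) (hQ : PkgQ.{u})
  (hE : PkgE.{u}) (hComm : PkgComm.{u})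

section Upper

variable {S S₁ : Scheme.{u}} (f₁ : S₁ ⟶ S) {G : Over S} [GrpObj G]

include hD hP hC hF hQ hE hComm in
/-- **Directedness of split subtori** over a connected base. -/
theorem exists_upper [ConnectedSpace S] (cov₁ : IsFpqcCov f₁) (hG : LocTriv f₁ G)
    {T₁ T₂ : Over S} [GrpObj T₁] [GrpObj T₂] (j₁ : T₁ ⟶ G) [IsMonHom j₁] (j₂ : T₂ ⟶ G)
    [IsMonHom j₂] (r₁ r₂ : ℕ) (h₁ : Red.IsSplitTorusWith (Fin r₁ → ℤ) T₁)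
    (h₂ : Red.IsSplitTorusWith (Fin r₂ → ℤ) T₂) :
    ∃ (r : ℕ) (v : Red.DS S (Fin r → ℤ) ⟶ G) (g₁ : T₁ ⟶ Red.DS S (Fin r → ℤ))
      (g₂ : T₂ ⟶ Red.DS S (Fin r → ℤ)), IsMonHom v ∧ Mono v ∧ g₁ ≫ v = j₁ ∧ g₂ ≫ v = j₂ := by
  obtain ⟨ψ₁⟩ := h₁
  obtain ⟨ψ₂⟩ := h₂
  have hcomm : IsCommMonObj G := hComm f₁ cov₁ G hG
  have e11 : ψ₁.hom.hom.hom ≫ ψ₁.inv.hom.hom = 𝟙 _ := congrArg (fun k => k.hom.hom) ψ₁.hom_inv_id
  have e21 : ψ₂.hom.hom.hom ≫ ψ₂.inv.hom.hom = 𝟙 _ := congrArg (fun k => k.hom.hom) ψ₂.hom_inv_id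
  let a₁ : Red.DS S ((Fin r₁ → ℤ) × (Fin r₂ → ℤ)) ⟶ G :=
    Red.DSmap S (AddMonoidHom.inl (Fin r₁ → ℤ) (Fin r₂ → ℤ)) ≫ ψ₁.inv.hom.hom ≫ j₁
  let a₂ : Red.DS S ((Fin r₁ → ℤ) × (Fin r₂ → ℤ)) ⟶ G :=
    Red.DSmap S (AddMonoidHom.inr (Fin r₁ → ℤ) (Fin r₂ → ℤ)) ≫ ψ₂.inv.hom.hom ≫ j₂
  have hm1 : IsMonHom (Red.DSmap S (AddMonoidHom.inl (Fin r₁ → ℤ) (Fin r₂ → ℤ))) :=
    Groth.Agent.Lib.Helper27DiagSub.isMonHom_DSmap _ _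
  have hm2 : IsMonHom (Red.DSmap S (AddMonoidHom.inr (Fin r₁ → ℤ) (Fin r₂ → ℤ))) :=
    Groth.Agent.Lib.Helper27DiagSub.isMonHom_DSmap _ _
  have ha₁ : IsMonHom a₁ := inferInstance
  have ha₂ : IsMonHom a₂ := inferInstance
  have hu : IsMonHom (a₁ * a₂) := by
    rw [Hom.mul_def]
    infer_instance
  obtain ⟨r, κ, v, hκ, hv1, hv2, hv3⟩ := image_factor hD hP hC hF hQ hE f₁ (a₁ * a₂) cov₁ hG
  refine ⟨r, v,
    ψ₁.hom.hom.hom ≫ Red.DSmap S (AddMonoidHom.fst (Fin r₁ → ℤ) (Fin r₂ → ℤ)) ≫ Red.DSmap S κ,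
    ψ₂.hom.hom.hom ≫ Red.DSmap S (AddMonoidHom.snd (Fin r₁ → ℤ) (Fin r₂ → ℤ)) ≫ Red.DSmap S κ,
    hv1, hv2, ?_, ?_⟩
  · simp only [Category.assoc]
    rw [hv3, MonObj.comp_mul]
    have c1 : Red.DSmap S (AddMonoidHom.fst (Fin r₁ → ℤ) (Fin r₂ → ℤ)) ≫ a₁ =
        ψ₁.inv.hom.hom ≫ j₁ := by
      simp only [a₁]
      rw [← Category.assoc, DSmap_comp]
      have : (AddMonoidHom.fst (Fin r₁ → ℤ) (Fin r₂ → ℤ)).comp
          (AddMonoidHom.inl (Fin r₁ → ℤ) (Fin r₂ → ℤ)) = AddMonoidHom.id _ := by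
        ext x; rfl
      rw [this, DSmap_id, Category.id_comp]
    have c2 : Red.DSmap S (AddMonoidHom.fst (Fin r₁ → ℤ) (Fin r₂ → ℤ)) ≫ a₂ = 1 := by
      simp only [a₂]
      rw [← Category.assoc, Groth.Agent.R2.H97.MTQK.DSmap_comp_eq_one
        (AddMonoidHom.inr (Fin r₁ → ℤ) (Fin r₂ → ℤ)) (AddMonoidHom.fst (Fin r₁ → ℤ) (Fin r₂ → ℤ))
        (fun k => rfl)]
      exact MonObj.one_comp _
    rw [c1, c2, _root_.mul_one, reassoc_of% e11]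
  · simp only [Category.assoc]
    rw [hv3, MonObj.comp_mul]
    have c1 : Red.DSmap S (AddMonoidHom.snd (Fin r₁ → ℤ) (Fin r₂ → ℤ)) ≫ a₂ =
        ψ₂.inv.hom.hom ≫ j₂ := by
      simp only [a₂]
      rw [← Category.assoc, DSmap_comp]
      have : (AddMonoidHom.snd (Fin r₁ → ℤ) (Fin r₂ → ℤ)).comp
          (AddMonoidHom.inr (Fin r₁ → ℤ) (Fin r₂ → ℤ)) = AddMonoidHom.id _ := by
        ext x; rfl
      rw [this, DSmap_id, Category.id_comp]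
    have c2 : Red.DSmap S (AddMonoidHom.snd (Fin r₁ → ℤ) (Fin r₂ → ℤ)) ≫ a₁ = 1 := by
      simp only [a₁]
      rw [← Category.assoc, Groth.Agent.R2.H97.MTQK.DSmap_comp_eq_one
        (AddMonoidHom.inl (Fin r₁ → ℤ) (Fin r₂ → ℤ)) (AddMonoidHom.snd (Fin r₁ → ℤ) (Fin r₂ → ℤ))
        (fun k => rfl)]
      exact MonObj.one_comp _
    rw [c1, c2, _root_.one_mul, reassoc_of% e21]

end Upper

section Main

include hD hP hC hF hQ hE hComm in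
/-- **S16612**. -/
theorem s16612_of {S : Scheme.{u}} [ConnectedSpace ↥S] {G : Over S} [GrpObj G]
    (hG : SGA3x.IsMultTypeFT G) :
    ∃ (T : Over S) (_ : GrpObj T) (j : T ⟶ G) (r : ℕ), IsMonHom j ∧ Mono j ∧
      Red.IsSplitTorusWith (Fin r → ℤ) T ∧
      ∀ (T' : Over S) [GrpObj T'] (j' : T' ⟶ G) [IsMonHom j'] [Mono j'] (r' : ℕ),
        Red.IsSplitTorusWith (Fin r' → ℤ) T' → ∃ g : T' ⟶ T, g ≫ j = j' := by
  obtain ⟨T, _, j, r, hj1, hj2, hT, hmax⟩ := exists_maximal_split hD hP hG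
  obtain ⟨S₁, f₁, hfl, hsj, hc, hloc⟩ := hG
  have cov₁ : IsFpqcCov f₁ := ⟨hfl, hsj, hc⟩
  refine ⟨T, inferInstance, j, r, hj1, hj2, hT, ?_⟩
  intro T' _ j' _ _ r' hT'
  obtain ⟨r'', v, g₁, g₂, hv1, hv2, e₁, e₂⟩ := exists_upper hD hP hC hF hQ hE hComm f₁ cov₁ hloc
    j j' r r' hT hT'
  have hiso : IsIso g₁ := hmax (Red.DS S (Fin r'' → ℤ)) v r'' g₁ ⟨Iso.refl _⟩ e₁
  refine ⟨g₂ ≫ inv g₁, ?_⟩
  rw [Category.assoc, ← e₁, IsIso.inv_hom_id_assoc, e₂]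

include hD hP hC hF hQ hE in
/-- **S16620** (connectedness is the only hypothesis on the base which is used). -/
theorem s16620_of {S : Scheme.{u}} [ConnectedSpace ↥S] {T T₀ : Over S} [GrpObj T] [GrpObj T₀]
    (hT : Red.IsTorus T) (j₀ : T₀ ⟶ T) [IsMonHom j₀] [Mono j₀]
    (hmax : ∀ (T' : Over S) [GrpObj T'] (j' : T' ⟶ T) [IsMonHom j'] [Mono j'] (r' : ℕ),
      Red.IsSplitTorusWith (Fin r' → ℤ) T' → ∃ g : T' ⟶ T₀, g ≫ j₀ = j')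
    (lam : Red.Gm S ⟶ T) [IsMonHom lam] : ∃ mu : Red.Gm S ⟶ T₀, mu ≫ j₀ = lam := by
  obtain ⟨S₁, f₁, hfl, hsj, hc, hloc⟩ := hT
  have cov₁ : IsFpqcCov f₁ := ⟨hfl, hsj, hc⟩
  have hloc' : LocTriv f₁ T := by
    intro s₁
    obtain ⟨U, hU, r, hr⟩ := hloc s₁
    exact ⟨U, hU, Fin r → ℤ, inferInstance, Module.Finite.iff_addGroup_fg.1 inferInstance, hr⟩
  obtain ⟨r, κ, v, hκ, hv1, hv2, hv3⟩ := image_factor hD hP hC hF hQ hE f₁ lam cov₁ hloc'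
  obtain ⟨g, hg⟩ := hmax (Red.DS S (Fin r → ℤ)) v r ⟨Iso.refl _⟩
  exact ⟨Red.DSmap S κ ≫ g, by rw [Category.assoc, hg, hv3]⟩

end Main

end Groth.Agent.R2.H97.MTGreatest
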