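import Groth.Agent.R2.H97MTQ2
import Groth.Agent.R2.H97MTImgSpec

/-!
# PROJ:mt-img (helper97): images of homomorphisms from diagonalisable groups to groups of
multiplicative type over a connected base

Main result `image_factor`: over a connected base `S`, a homomorphism `u : D_S(M) ⟶ G` with `M` free
of finite rank and `G` fpqc-locally diagonalisable of finite type factors as `D_S(κ) ≫ ū` with
`κ : ℤ^r →+ M` injective and `ū : D_S(ℤ^r) ⟶ G` a monomorphic homomorphism.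
-/

set_option autoImplicit false

universe u

open CategoryTheory MonoidalCategory CartesianMonoidalCategory MonObj GrpObj AlgebraicGeometry
  CategoryTheory.Limits

namespace Groth.Agent.R2.H97.MTImg

open Groth.Agent.R2.H97.MTSpec Groth.Agent.R2.H97.MTBase Groth.Agent.R2.H97.MTHom
  Groth.Agent.R2.H97.MTAsm Groth.Agent.R2.H97.MTTori Groth.Agent.R2.H97.MTSplit
  Groth.Agent.R2.H97.MTQSpec Groth.Agent.R2.H97.MTQ2Spec Groth.Agent.R2.H97.MTQuot
  Groth.Agent.R2.H97.MTQ2 Groth.Agent.R2.H97.MTImgSpec Groth.Agent.R2.H55.DSPts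
  Groth.Agent.R2.H60.MTP

section RangeOf

variable {X : Scheme.{u}} {M N : Type} [AddCommGroup M] [AddCommGroup N]

/-- The characters of `D_X(M)` which are trivial on all points killed by `v`. -/
def rangeOf {A : Over X} [GrpObj A] (v : Red.DS X M ⟶ A) : Set M :=
  {m | ∀ (Y : Over X) (y : Y ⟶ Red.DS X M), y ≫ v = 1 → dsFn y m = 1}

/-- The lattice `rangeOf v` can be read off from any diagonal form of `v`. -/
lemma rangeOf_eq [Nonempty X] {A : Over X} [GrpObj A] (v : Red.DS X M ⟶ A)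
    (β : Grp.mk A ≅ Grp.mk (Red.DS X N)) (ψ : N →+ M)
    (h : v ≫ β.hom.hom.hom = Red.DSmap X ψ) : rangeOf v = (ψ.range : Set M) := by
  have hmono : Mono β.hom.hom.hom := by
    have : IsIso β.hom.hom.hom := inferInstanceAs (IsIso ((Grp.forget _).mapIso β).hom)
    infer_instance
  ext m
  constructor
  · intro hm
    have h1 : Red.DSmap X (QuotientAddGroup.mk' ψ.range) ≫ v = 1 := by
      rw [← cancel_mono β.hom.hom.hom, Category.assoc, h]
      have h2 : (1 : Red.DS X (M ⧸ ψ.range) ⟶ A) ≫ β.hom.hom.hom = 1 := MonObj.one_comp _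
      rw [h2]
      exact Groth.Agent.R2.H97.MTQK.DSmap_comp_eq_one ψ _
        (fun n => (QuotientAddGroup.eq_zero_iff _).2 ⟨n, rfl⟩)
    have h3 := hm _ (Red.DSmap X (QuotientAddGroup.mk' ψ.range)) h1
    rw [dsFn_DSmap_id] at h3
    exact (QuotientAddGroup.eq_zero_iff m).1 (eq_zero_of_dsFn_id_eq_one _ h3)
  · rintro ⟨n, rfl⟩ Y y hy
    have h2 : (1 : Y ⟶ A) ≫ β.hom.hom.hom = 1 := MonObj.one_comp _
    rw [← dsFn_DSmap, ← h, ← Category.assoc, hy, h2, dsFn_one]

end RangeOf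

section Canonical

variable (hC : PkgC.{u})

variable {S T₀ : Scheme.{u}} {G : Over S} [GrpObj G] {M : Type} [AddCommGroup M]

include hC in
/-- The local form of a homomorphism from `D_S(M)`, with the canonical trivialisation of the base
changes of the source. -/
theorem localFormC' {N : Type} [AddCommGroup N] (hN : AddGroup.FG N) (u : Red.DS S M ⟶ G)
    [IsMonHom u] (g₀ : T₀ ⟶ S) (ψ : Grp.mk (Red.bc g₀ G) ≅ Grp.mk (Red.DS T₀ N)) (t₀ : T₀) :
    ∃ (W : T₀.Opens) (φ : N →+ M), t₀ ∈ W ∧ ∀ (X : Scheme.{u}) (g : X ⟶ T₀) (h : X ⟶ S),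
      g ≫ g₀ = h → Set.range g.base ⊆ (W : Set T₀) →
        ∃ β : Grp.mk (Red.bc h G) ≅ Grp.mk (Red.DS X N),
          (Over.pullback h).map u ≫ β.hom.hom.hom =
            (dsBC h M).hom.hom.hom ≫ Red.DSmap X φ := by
  obtain ⟨W, φ, ht, hW⟩ := localFormExplicit u g₀ hN (dsBC g₀ M) ψ t₀
  refine ⟨W, φ, ht, ?_⟩
  rintro X g _ rfl hg
  refine ⟨bcCompGrp g g₀ G ≪≫ mapGrpIso g ψ ≪≫ dsBC g N, ?_⟩
  have h1 := hW X g hg
  rw [← hC g g₀ M] at h1
  rw [← h1]
  change _ ≫ ((bcCompGrp g g₀ G).hom.hom.hom ≫ (mapGrpIso g ψ).hom.hom.hom ≫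
    (dsBC g N).hom.hom.hom) = _
  rw [bcCompGrp_hom, mapGrpIso_hom]

end Canonical

section LR

variable (hC : PkgC.{u})

variable {S S₁ : Scheme.{u}} (f₁ : S₁ ⟶ S) {G : Over S} [GrpObj G] {M : Type} [AddCommGroup M]
  (u : Red.DS S M ⟶ G) [IsMonHom u]

include hC in
/-- Local diagonal forms of `u` on the covering `S₁`, with canonical trivialisation of the
source. -/
theorem exists_localRange (hG : LocTriv f₁ G) (t : S₁) :
    ∃ (W : S₁.Opens) (N : Type) (_ : AddCommGroup N) (ψ : N →+ M), t ∈ W ∧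
      ∀ (X : Scheme.{u}) (g : X ⟶ S₁) (h : X ⟶ S), g ≫ f₁ = h →
        Set.range g.base ⊆ (W : Set S₁) →
        ∃ β : Grp.mk (Red.bc h G) ≅ Grp.mk (Red.DS X N),
          (Over.pullback h).map u ≫ β.hom.hom.hom =
            (dsBC h M).hom.hom.hom ≫ Red.DSmap X ψ := by
  obtain ⟨U, hU, N, _, hN, ⟨ψ⟩⟩ := hG t
  obtain ⟨W₀, φ, hW₀, hkey⟩ := localFormC' hC hN u (U.ι ≫ f₁) ψ ⟨t, hU⟩
  let W : S₁.Opens := U.ι ''ᵁ W₀
  have htW : t ∈ W := ⟨⟨t, hU⟩, hW₀, rfl⟩
  refine ⟨W, N, inferInstance, φ, htW, ?_⟩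
  intro X g h hgh hg
  have hgU : Set.range g.base ⊆ Set.range U.ι.base := by
    rintro _ ⟨y, rfl⟩
    obtain ⟨w, -, hw⟩ := hg ⟨y, rfl⟩
    exact ⟨w, hw⟩
  let g' : X ⟶ (U : Scheme.{u}) := IsOpenImmersion.lift U.ι g hgU
  have hg' : g' ≫ U.ι = g := IsOpenImmersion.lift_fac U.ι g hgU
  have hg'W : Set.range g'.base ⊆ (W₀ : Set ↑(U : Scheme.{u})) := by
    rintro _ ⟨y, rfl⟩
    obtain ⟨w, hwW, hw⟩ := hg ⟨y, rfl⟩
    have : w = g' y := by
      apply U.ι.isOpenEmbedding.injective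
      refine Eq.trans hw ?_
      rw [← Scheme.Hom.comp_apply, hg']
    rw [← this]
    exact hwW
  exact hkey X g' h (by rw [← Category.assoc, hg', hgh]) hg'W

end LR

section Const

variable (hD : PkgD.{u}) (hC : PkgC.{u})

variable {S S₁ : Scheme.{u}} (f₁ : S₁ ⟶ S) {G : Over S} [GrpObj G] {M : Type} [AddCommGroup M]
  (u : Red.DS S M ⟶ G) [IsMonHom u]

/-- The statement that `u` has, locally on `W`, the diagonal form `D(ψ)`. -/
def HasForm (W : S₁.Opens) {N : Type} [AddCommGroup N] (ψ : N →+ M) : Prop :=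
  ∀ (X : Scheme.{u}) (g : X ⟶ S₁) (h : X ⟶ S), g ≫ f₁ = h →
    Set.range g.base ⊆ (W : Set S₁) →
    ∃ β : Grp.mk (Red.bc h G) ≅ Grp.mk (Red.DS X N),
      (Over.pullback h).map u ≫ β.hom.hom.hom = (dsBC h M).hom.hom.hom ≫ Red.DSmap X ψ

include hD hC in
/-- **Local constancy of the image lattice**. -/
theorem exists_rangeFunction (cov₁ : IsFpqcCov f₁) (hG : LocTriv f₁ G) :
    ∃ Rf : S₁ → AddSubgroup M,
      (∀ t t' : S₁, f₁ t = f₁ t' → Rf t = Rf t') ∧
      (∀ K₀ : AddSubgroup M, IsOpen {s : S | ∃ t : S₁, f₁ t = s ∧ Rf t = K₀}) ∧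
      (∀ t : S₁, ∃ (W : S₁.Opens) (N : Type) (_ : AddCommGroup N) (ψ : N →+ M), t ∈ W ∧
        ψ.range = Rf t ∧ HasForm f₁ u W ψ) := by
  choose W N inst ψ htW hform using fun t => exists_localRange hC f₁ u hG t
  let Rf : S₁ → AddSubgroup M := fun t => (ψ t).range
  have link : ∀ (t t' : S₁) (X : Scheme.{u}) (_ : Nonempty X) (g g' : X ⟶ S₁),
      Set.range g.base ⊆ (W t : Set S₁) → Set.range g'.base ⊆ (W t' : Set S₁) →
      g ≫ f₁ = g' ≫ f₁ → Rf t = Rf t' := by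
    intro t t' X _ g g' hg hg' he
    obtain ⟨β, hβ⟩ := hform t X g (g ≫ f₁) rfl hg
    obtain ⟨β', hβ'⟩ := hform t' X g' (g ≫ f₁) he.symm hg'
    have k : (dsBC (g ≫ f₁) M).inv.hom.hom ≫ (dsBC (g ≫ f₁) M).hom.hom.hom = 𝟙 _ :=
      congrArg (fun k => k.hom.hom) (dsBC (g ≫ f₁) M).inv_hom_id
    have e1 := rangeOf_eq ((dsBC (g ≫ f₁) M).inv.hom.hom ≫ (Over.pullback (g ≫ f₁)).map u) β
      (ψ t) (by rw [Category.assoc, hβ, reassoc_of% k])
    have e2 := rangeOf_eq ((dsBC (g ≫ f₁) M).inv.hom.hom ≫ (Over.pullback (g ≫ f₁)).map u) β'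
      (ψ t') (by rw [Category.assoc, hβ', reassoc_of% k])
    exact SetLike.coe_injective (e1.symm.trans e2)
  have cor1 : ∀ t t' : S₁, t' ∈ W t → Rf t' = Rf t := by
    intro t t' ht'
    have hr : Set.range (S₁.fromSpecResidueField t').base = {t'} :=
      Scheme.range_fromSpecResidueField t'
    refine link t' t (Spec (S₁.residueField t')) inferInstance (S₁.fromSpecResidueField t')
      (S₁.fromSpecResidueField t') ?_ ?_ rfl
    · rw [hr]
      exact Set.singleton_subset_iff.2 (htW t')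
    · rw [hr]
      exact Set.singleton_subset_iff.2 ht'
  have cor2 : ∀ t t' : S₁, f₁ t = f₁ t' → Rf t = Rf t' := by
    intro t t' he
    obtain ⟨z, hz1, hz2⟩ := Scheme.Pullback.exists_preimage_pullback (f := f₁) (g := f₁) t t' he
    have hr : Set.range ((pullback f₁ f₁).fromSpecResidueField z).base = {z} :=
      Scheme.range_fromSpecResidueField z
    refine link t t' (Spec ((pullback f₁ f₁).residueField z)) inferInstance
      ((pullback f₁ f₁).fromSpecResidueField z ≫ pullback.fst f₁ f₁)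
      ((pullback f₁ f₁).fromSpecResidueField z ≫ pullback.snd f₁ f₁) ?_ ?_ ?_
    · rintro _ ⟨y, rfl⟩
      have hy : ((pullback f₁ f₁).fromSpecResidueField z) y = z := by
        have : ((pullback f₁ f₁).fromSpecResidueField z) y ∈
            Set.range ((pullback f₁ f₁).fromSpecResidueField z).base := ⟨y, rfl⟩
        rw [hr] at this
        exact this
      rw [Scheme.Hom.comp_apply, hy, hz1]
      exact htW t
    · rintro _ ⟨y, rfl⟩
      have hy : ((pullback f₁ f₁).fromSpecResidueField z) y = z := by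
        have : ((pullback f₁ f₁).fromSpecResidueField z) y ∈
            Set.range ((pullback f₁ f₁).fromSpecResidueField z).base := ⟨y, rfl⟩
        rw [hr] at this
        exact this
      rw [Scheme.Hom.comp_apply, hy, hz2]
      exact htW t'
    · rw [Category.assoc, Category.assoc, pullback.condition]
  refine ⟨Rf, cor2, ?_, fun t => ⟨W t, N t, inst t, ψ t, htW t, rfl, hform t⟩⟩
  intro K₀
  apply hD.1 f₁ cov₁
  rw [isOpen_iff_forall_mem_open]
  rintro t ⟨t', ht', hK⟩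
  refine ⟨W t, ?_, (W t).2, htW t⟩
  intro t'' ht''
  exact ⟨t'', rfl, (cor1 t t'' ht'').trans ((cor2 t t' ht'.symm).trans hK)⟩

include hD hC in
/-- Over a connected base the image lattice is constant. -/
theorem exists_constRange [ConnectedSpace S] (cov₁ : IsFpqcCov f₁) (hG : LocTriv f₁ G) :
    ∃ K₀ : AddSubgroup M, ∀ t : S₁, ∃ (W : S₁.Opens) (N : Type) (_ : AddCommGroup N)
      (ψ : N →+ M), t ∈ W ∧ ψ.range = K₀ ∧ HasForm f₁ u W ψ := by
  obtain ⟨Rf, hR2, hopen, hforms⟩ := exists_rangeFunction hD hC f₁ u cov₁ hG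
  obtain ⟨s₀⟩ : Nonempty S := inferInstance
  obtain ⟨t₀, ht₀⟩ := cov₁.2.1.surj s₀
  let V : Set S := {s : S | ∃ t : S₁, f₁ t = s ∧ Rf t = Rf t₀}
  have hVopen : IsOpen V := hopen (Rf t₀)
  have hVclosed : IsClosed V := by
    rw [← isOpen_compl_iff, isOpen_iff_forall_mem_open]
    intro s hs
    obtain ⟨t, ht⟩ := cov₁.2.1.surj s
    refine ⟨{s' : S | ∃ t' : S₁, f₁ t' = s' ∧ Rf t' = Rf t}, ?_, hopen (Rf t), ⟨t, ht, rfl⟩⟩
    rintro s' ⟨t', ht', hK'⟩ ⟨t'', ht'', hK''⟩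
    apply hs
    refine ⟨t, ht, ?_⟩
    rw [← hK', hR2 t' t'' (ht'.trans ht''.symm), hK'']
  have hVuniv : V = Set.univ :=
    IsClopen.eq_univ ⟨hVclosed, hVopen⟩ ⟨s₀, t₀, ht₀, rfl⟩
  refine ⟨Rf t₀, fun t => ?_⟩
  obtain ⟨W, N, _, ψ, htW, hrange, hform⟩ := hforms t
  have ht : f₁ t ∈ V := by rw [hVuniv]; trivial
  obtain ⟨t', ht', hK'⟩ := ht
  exact ⟨W, N, inferInstance, ψ, htW, by rw [hrange, hR2 t t' ht'.symm, hK'], hform⟩

end Const

section Image

variable (hD : PkgD.{u}) (hP : PkgP.{u}) (hC : PkgC.{u}) (hF : PkgF.{u}) (hQ : PkgQ.{u})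
  (hE : PkgE.{u})

variable {S S₁ : Scheme.{u}} (f₁ : S₁ ⟶ S) {G : Over S} [GrpObj G] {M : Type} [AddCommGroup M]
  (u : Red.DS S M ⟶ G) [IsMonHom u]

/-- A subgroup of a free commutative group of finite rank is free of finite rank. -/
lemma exists_equiv_of_subgroup' [Module.Free ℤ M] [Module.Finite ℤ M] (K : AddSubgroup M) :
    ∃ r : ℕ, Nonempty ((Fin r → ℤ) ≃+ K) := by
  let N : Submodule ℤ M := AddSubgroup.toIntSubmodule K
  obtain ⟨n, ⟨b⟩⟩ := Submodule.nonempty_basis_of_pid (Module.Free.chooseBasis ℤ M) N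
  exact ⟨n, ⟨b.equivFun.symm.toAddEquiv⟩⟩

/-- Corestriction of `ψ` along an injective `κ` with the same range. -/
lemma exists_corestrict {A N : Type} [AddCommGroup A] [AddCommGroup N] (κ : A →+ M)
    (hκ : Function.Injective κ) (ψ : N →+ M) (hrange : ψ.range = κ.range) :
    ∃ ψ' : N →+ A, κ.comp ψ' = ψ ∧ Function.Surjective ψ' := by
  have hmem : ∀ n, ψ n ∈ κ.range := fun n => hrange ▸ ⟨n, rfl⟩
  refine ⟨(AddMonoidHom.ofInjective hκ).symm.toAddMonoidHom.comp (ψ.codRestrict κ.range hmem),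
    ?_, ?_⟩
  · ext n
    exact AddMonoidHom.apply_ofInjective_symm hκ ⟨ψ n, hmem n⟩
  · intro a
    have ha : κ a ∈ ψ.range := hrange ▸ ⟨a, rfl⟩
    obtain ⟨n, hn⟩ := ha
    refine ⟨n, ?_⟩
    apply hκ
    have := AddMonoidHom.apply_ofInjective_symm hκ ⟨ψ n, hmem n⟩
    exact this.trans hn

omit [IsMonHom u] in
include hP in
/-- Locally the induced map on the image is a monomorphism. -/
lemma mono_local {X : Scheme.{u}} (h : X ⟶ S) {r : ℕ} (κ : (Fin r → ℤ) →+ M)
    (hκ : Function.Injective κ) (v : Red.DS S (Fin r → ℤ) ⟶ G) (hv : Red.DSmap S κ ≫ v = u)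
    {N : Type} [AddCommGroup N] (ψ : N →+ M) (hrange : ψ.range = κ.range)
    (β : Grp.mk (Red.bc h G) ≅ Grp.mk (Red.DS X N))
    (hβ : (Over.pullback h).map u ≫ β.hom.hom.hom =
      (dsBC h M).hom.hom.hom ≫ Red.DSmap X ψ) :
    monoProp ((Over.pullback h).map v).left := by
  obtain ⟨ψ', hψ', hsurj⟩ := exists_corestrict κ hκ ψ hrange
  have hff := (hP X κ).2.2.1 hκ
  have he : Epi (Red.DSmap X κ).left := by
    have := hff.1
    have := hff.2
    exact Flat.epi_of_flat_of_surjective _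
  have hepi : Epi (Red.DSmap X κ) := Over.epi_of_epi_left _
  have k1 : (dsBC h M).inv.hom.hom ≫ (dsBC h M).hom.hom.hom = 𝟙 _ :=
    congrArg (fun k => k.hom.hom) (dsBC h M).inv_hom_id
  have k2 : (dsBC h (Fin r → ℤ)).hom.hom.hom ≫ (dsBC h (Fin r → ℤ)).inv.hom.hom = 𝟙 _ :=
    congrArg (fun k => k.hom.hom) (dsBC h (Fin r → ℤ)).hom_inv_id
  have k3 : (dsBC h M).hom.hom.hom ≫ (dsBC h M).inv.hom.hom = 𝟙 _ :=
    congrArg (fun k => k.hom.hom) (dsBC h M).hom_inv_id
  -- the conjugated map is `D(ψ')`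
  have key : (Over.pullback h).map v ≫ β.hom.hom.hom =
      (dsBC h (Fin r → ℤ)).hom.hom.hom ≫ Red.DSmap X ψ' := by
    have e1 : Red.DSmap X κ ≫ ((dsBC h (Fin r → ℤ)).inv.hom.hom ≫ (Over.pullback h).map v ≫
        β.hom.hom.hom) = Red.DSmap X κ ≫ Red.DSmap X ψ' := by
      have e2 : Red.DSmap X κ ≫ (dsBC h (Fin r → ℤ)).inv.hom.hom =
          (dsBC h M).inv.hom.hom ≫ (Over.pullback h).map (Red.DSmap S κ) := by
        have e3 := dsBC_DSmap h κ
        rw [← cancel_mono (dsBC h (Fin r → ℤ)).hom.hom.hom, ← cancel_epi (dsBC h M).hom.hom.hom]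
        simp only [Category.assoc]
        rw [e3, reassoc_of% k3]
        have k4 : (dsBC h (Fin r → ℤ)).inv.hom.hom ≫ (dsBC h (Fin r → ℤ)).hom.hom.hom = 𝟙 _ :=
          congrArg (fun k => k.hom.hom) (dsBC h (Fin r → ℤ)).inv_hom_id
        rw [k4, Category.comp_id]
      rw [reassoc_of% e2, ← Functor.map_comp_assoc, hv, hβ, reassoc_of% k1, DSmap_comp, hψ']
    have e4 := (cancel_epi _).1 e1
    rw [← e4, reassoc_of% k2]
  have hm : monoProp (Red.DSmap X ψ').left := (hP X ψ').1 hsurj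
  have i1 : (monoProp : MorphismProperty Scheme.{u}).RespectsIso :=
    inferInstanceAs ((MorphismProperty.monomorphisms Scheme.{u}).RespectsIso)
  exact (prop_iff_of_sq monoProp ((Grp.forget _).mapIso (dsBC h (Fin r → ℤ)))
    ((Grp.forget _).mapIso β) key).2 hm

omit [IsMonHom u] in
/-- `u` kills the diagonalisable subgroup `D_S(M/K₀)` locally. -/
lemma kills_local' {X : Scheme.{u}} (h : X ⟶ S) (K₀ : AddSubgroup M)
    {N : Type} [AddCommGroup N] (ψ : N →+ M) (hrange : ψ.range = K₀)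
    (β : Grp.mk (Red.bc h G) ≅ Grp.mk (Red.DS X N))
    (hβ : (Over.pullback h).map u ≫ β.hom.hom.hom =
      (dsBC h M).hom.hom.hom ≫ Red.DSmap X ψ) :
    (Over.pullback h).map (Red.DSmap S (QuotientAddGroup.mk' K₀) ≫ u) =
      (Over.pullback h).map (1 : Red.DS S (M ⧸ K₀) ⟶ G) := by
  have hmono : Mono β.hom.hom.hom := by
    have : IsIso β.hom.hom.hom := inferInstanceAs (IsIso ((Grp.forget _).mapIso β).hom)
    infer_instance
  rw [Functor.map_one, Functor.map_comp, ← cancel_mono β.hom.hom.hom, Category.assoc, hβ,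
    reassoc_of% (dsBC_DSmap h (QuotientAddGroup.mk' K₀)),
    Groth.Agent.R2.H97.MTQK.DSmap_comp_eq_one ψ (QuotientAddGroup.mk' K₀)
      (fun n => (QuotientAddGroup.eq_zero_iff _).2 (hrange ▸ ⟨n, rfl⟩)), MonObj.comp_one]
  exact (MonObj.one_comp _).symm

include hD hP hC hF hQ hE in
/-- **Image theorem**: over a connected base, a homomorphism from `D_S(M)`, `M` free of finite
rank, to a group which is fpqc-locally diagonalisable of finite type factors through a quotient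
split torus `D_S(ℤ^r)` by a monomorphic homomorphism. -/
theorem image_factor [ConnectedSpace S] [Module.Free ℤ M] [Module.Finite ℤ M]
    (cov₁ : IsFpqcCov f₁) (hG : LocTriv f₁ G) :
    ∃ (r : ℕ) (κ : (Fin r → ℤ) →+ M) (v : Red.DS S (Fin r → ℤ) ⟶ G),
      Function.Injective κ ∧ IsMonHom v ∧ Mono v ∧ Red.DSmap S κ ≫ v = u := by
  obtain ⟨K₀, hK₀⟩ := exists_constRange hD hC f₁ u cov₁ hG
  obtain ⟨r, ⟨eK⟩⟩ := exists_equiv_of_subgroup' K₀
  let κ : (Fin r → ℤ) →+ M := K₀.subtype.comp eK.toAddMonoidHom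
  have hκinj : Function.Injective κ := K₀.subtype_injective.comp eK.injective
  have hκrange : κ.range = K₀ := by
    ext m
    constructor
    · rintro ⟨x, rfl⟩
      exact (eK x).2
    · intro hm
      exact ⟨eK.symm ⟨m, hm⟩, by simp [κ]⟩
  have hfgM : AddGroup.FG M := Module.Finite.iff_addGroup_fg.1 inferInstance
  have hex : ∀ m, QuotientAddGroup.mk' K₀ m = 0 ↔ m ∈ κ.range := by
    intro m
    rw [hκrange]
    exact QuotientAddGroup.eq_zero_iff m
  have hq : RedSub.IsQuotient (Red.DSmap S (QuotientAddGroup.mk' K₀)) (Red.DSmap S κ) :=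
    hQ S κ (QuotientAddGroup.mk' K₀) hfgM hκinj (QuotientAddGroup.mk'_surjective K₀) hex
  have hkill : Red.DSmap S (QuotientAddGroup.mk' K₀) ≫ u = 1 := by
    apply hF f₁ cov₁
    intro t
    obtain ⟨W, N, _, ψ, htW, hrange, hform⟩ := hK₀ t
    refine ⟨W, htW, ?_⟩
    obtain ⟨β, hβ⟩ := hform W W.ι (W.ι ≫ f₁) rfl (by simp)
    exact kills_local' u (W.ι ≫ f₁) K₀ ψ hrange β hβ
  have hmon : IsMonHom (Red.DSmap S κ) := Groth.Agent.Lib.Helper27DiagSub.isMonHom_DSmap _ _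
  obtain ⟨v, hv1, hv2, -⟩ := hE (Red.DSmap S (QuotientAddGroup.mk' K₀)) (Red.DSmap S κ) hq u hkill
  refine ⟨r, κ, v, hκinj, hv1, ?_, hv2⟩
  have hm : monoProp v.left := by
    apply hD.2.2.2.1.2.1 f₁ cov₁
    choose W N inst ψ htW hrange hform using hK₀
    apply hD.2.2.2.2.2.1 ((Over.pullback f₁).map v) W (fun t => ⟨t, htW t⟩)
    intro t
    have i1 : (monoProp : MorphismProperty Scheme.{u}).RespectsIso :=
      inferInstanceAs ((MorphismProperty.monomorphisms Scheme.{u}).RespectsIso)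
    refine (prop_bcComp monoProp (W t).ι f₁ v).1 ?_
    obtain ⟨β, hβ⟩ := hform t (W t) (W t).ι ((W t).ι ≫ f₁) rfl (by simp)
    exact mono_local hP u ((W t).ι ≫ f₁) κ hκinj v hv2 (ψ t) ((hrange t).trans hκrange.symm) β hβ
  have : Mono v.left := hm
  exact Over.mono_of_mono_left v

end Image

end Groth.Agent.R2.H97.MTImg
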