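import Groth.Agent.R2.H97MTBase
import Groth.Agent.R2.H97MTQSpec

/-!
# PROJ:mt-quot phase 2 (helper97): interface for the Zariski-local constancy argument
(targets S16616, S16617, then S16612)

Packages (each a `Prop`; a package is delivered as a theorem `pkgX : PkgX` in its own file
`Groth/Agent/R2/H<seat>MTQ2<X>.lean`, namespace `Groth.Agent.R2.H<seat>.MTQ2<X>`):

* `PkgC` (coherence of the canonical base change isomorphism `dsBC` of `R2/H97MTBase` under
  composition).  Route: explicit components of `Over.pullbackComp`: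
  `((Over.pullbackComp f g).hom.app A).left ≫ pullback.fst _ _ ≫ pullback.fst _ _ = pullback.fst _ _`
  and `... ≫ pullback.snd _ _ = pullback.snd _ _` are both proved by
  `simp [Over.pullbackComp, conjugateIsoEquiv, conjugateEquiv_apply_app, Adjunction.comp];
   simp only [← Category.assoc]; simp only [pullback.lift_fst, pullback.lift_snd, Category.assoc,
   pullback.lift_fst_assoc, pullback.lift_snd_assoc, Category.id_comp]` (checked).  Then
  `dsBC_hom` (in `H97MTBase`) + `pullback.hom_ext` on `.left`.
* `PkgF` (faithfulness of base change along a generalised fpqc covering followed by a Zariski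
  covering).  Route: equaliser `E ⟶ X` of `a, b` in `Over S`; its base changes are equalisers of
  equal maps, hence isomorphisms; `PkgD` (Zariski-local + fpqc descent of `isoProp`) gives that
  `E ⟶ X` is an isomorphism, so `a = b`.
* `PkgI` (base change along the identity / along `⊤.ι`).
* `PkgM` (multiplicative type is stable under base change).  Route: `PkgD` (base change of a
  covering) + `MTBase.trivBC`.
-/

set_option autoImplicit false

universe u

open CategoryTheory MonoidalCategory CartesianMonoidalCategory MonObj GrpObj AlgebraicGeometry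

namespace Groth.Agent.R2.H97.MTQ2Spec

open Groth.Agent.R2.H97.MTSpec Groth.Agent.R2.H97.MTBase

/-- PKG-C. -/
def PkgC : Prop :=
  ∀ {T'' T' T : Scheme.{u}} (g : T'' ⟶ T') (g₀ : T' ⟶ T) (M : Type) [AddCommGroup M],
    (dsBC (g ≫ g₀) M).hom.hom.hom =
      (Over.pullbackComp g g₀).hom.app (Red.DS T M) ≫
        (Over.pullback g).map (dsBC g₀ M).hom.hom.hom ≫ (dsBC g M).hom.hom.hom

/-- PKG-F. -/
def PkgF : Prop :=
  ∀ {S' S : Scheme.{u}} (f : S' ⟶ S), IsFpqcCov f → ∀ {X Y : Over S} (a b : X ⟶ Y),
    (∀ s' : S', ∃ U : S'.Opens, s' ∈ U ∧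
      (Over.pullback (U.ι ≫ f)).map a = (Over.pullback (U.ι ≫ f)).map b) → a = b

/-- PKG-I. -/
def PkgI : Prop :=
  ∀ {S : Scheme.{u}} (M : Type) [AddCommGroup M] (Q : Over S) [GrpObj Q],
    Red.IsSplitTorusWith M (Red.bc (⊤ : S.Opens).ι Q) → Red.IsSplitTorusWith M Q

/-- PKG-M. -/
def PkgM : Prop :=
  ∀ {S' S : Scheme.{u}} (g : S' ⟶ S) (H : Over S) [GrpObj H],
    SGA3x.IsMultTypeFT H → SGA3x.IsMultTypeFT (Red.bc g H)

end Groth.Agent.R2.H97.MTQ2Spec
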