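import Groth.Agent.R2.H97MTQSpec
import Groth.Agent.R2.H60MTP

/-!
# PROJ:mt-quot (helper97): PKG-K and PKG-Q — exact sequences of diagonalisable groups
-/

set_option autoImplicit false

universe u

open CategoryTheory MonoidalCategory CartesianMonoidalCategory MonObj GrpObj AlgebraicGeometry
  CategoryTheory.Limits

namespace Groth.Agent.R2.H97.MTQK

open Groth.Agent.R2.H97.MTQSpec Groth.Agent.R2.H97.MTSpec Groth.Agent.R2.H55.DSPts

variable {S : Scheme.{u}} {K M N : Type} [AddCommGroup K] [AddCommGroup M] [AddCommGroup N]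

section Kernel

variable (κ : K →+ M) (φ : M →+ N)

/-- `D(φ)` is a monomorphism when `φ` is surjective. -/
lemma mono_DSmap (hφ : Function.Surjective φ) : Mono (Red.DSmap S φ) := by
  refine ⟨fun {X} y y' h => ?_⟩
  apply dsFn_injective
  intro n
  obtain ⟨m, rfl⟩ := hφ n
  rw [← dsFn_DSmap, ← dsFn_DSmap, h]

/-- The composite `D(φ) ≫ D(κ)` is trivial when `φ ∘ κ = 0`. -/
lemma DSmap_comp_eq_one (h0 : ∀ k, φ (κ k) = 0) :
    Red.DSmap S φ ≫ Red.DSmap S κ = 1 := by
  apply dsFn_injective
  intro k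
  rw [dsFn_DSmap, Groth.Agent.R2.H60.MTP.dsFn_DSmap_id, h0, dsFn_zero, dsFn_one]

/-- Points of `D(M)` killed by `D(κ)` come from `D(N)`. -/
lemma exists_lift_of_kills (hφ : Function.Surjective φ) (hex : ∀ m, φ m = 0 ↔ m ∈ κ.range)
    {X : Over S} (a : X ⟶ Red.DS S M) (ha : a ≫ Red.DSmap S κ = 1) :
    ∃ y : X ⟶ Red.DS S N, y ≫ Red.DSmap S φ = a := by
  have hk : ∀ k, dsFn a (κ k) = 1 := by
    intro k
    rw [← dsFn_DSmap, ha, dsFn_one]
  have hwd : ∀ m m', φ m = φ m' → dsFn a m = dsFn a m' := by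
    intro m m' h
    have h1 : φ (m - m') = 0 := by rw [map_sub, h, sub_self]
    obtain ⟨k, hk'⟩ := (hex _).1 h1
    have h2 : dsFn a (m - m') = 1 := by rw [← hk', hk]
    have h3 : dsFn a m = dsFn a (m - m') * dsFn a m' := by
      rw [← dsFn_add, sub_add_cancel]
    rw [h3, h2, _root_.one_mul]
  let ψ : Multiplicative N →* Γ(X.left, ⊤) :=
    { toFun := fun n => dsFn a (Function.surjInv hφ (Multiplicative.toAdd n))
      map_one' := by
        have : φ (Function.surjInv hφ (Multiplicative.toAdd (1 : Multiplicative N))) = φ 0 := by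
          rw [Function.surjInv_eq hφ, map_zero]
          rfl
        rw [hwd _ _ this, dsFn_zero]
      map_mul' := by
        intro n n'
        have : φ (Function.surjInv hφ (Multiplicative.toAdd (n * n'))) =
            φ (Function.surjInv hφ (Multiplicative.toAdd n) +
              Function.surjInv hφ (Multiplicative.toAdd n')) := by
          rw [map_add, Function.surjInv_eq hφ, Function.surjInv_eq hφ, Function.surjInv_eq hφ]
          rfl
        rw [hwd _ _ this, dsFn_add] }
  obtain ⟨y, hy⟩ := dsFn_surjective ψ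
  refine ⟨y, ?_⟩
  apply dsFn_injective
  intro m
  rw [dsFn_DSmap, hy]
  exact hwd _ _ (Function.surjInv_eq hφ _)

/-- **PKG-K**. -/
theorem pkgK : PkgK.{u} := by
  intro S K M N _ _ _ κ φ hφ hex
  have h0 : ∀ k, φ (κ k) = 0 := fun k => (hex _).2 ⟨k, rfl⟩
  have hw : Red.DSmap S φ ≫ Red.DSmap S κ = toUnit (Red.DS S N) ≫ η[Red.DS S K] :=
    DSmap_comp_eq_one κ φ h0
  have hmono : Mono (Red.DSmap S φ) := mono_DSmap φ hφ
  have hlift : ∀ s : PullbackCone (Red.DSmap S κ) η[Red.DS S K],
      ∃ y : s.pt ⟶ Red.DS S N, y ≫ Red.DSmap S φ = s.fst := by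
    intro s
    apply exists_lift_of_kills κ φ hφ hex
    rw [s.condition, toUnit_unique s.snd (toUnit _)]
    rfl
  refine ⟨⟨hw⟩, ⟨PullbackCone.IsLimit.mk hw (fun s => (hlift s).choose)
    (fun s => (hlift s).choose_spec) (fun s => toUnit_unique _ _) ?_⟩⟩
  intro s m hm _
  rw [← cancel_mono (Red.DSmap S φ), hm, (hlift s).choose_spec]

end Kernel

section Quotient

/-- A kernel in the sense of points gives the cartesian square of the translation action. -/
lemma isPullback_of_kernel {G H Q : Over S} [GrpObj G] [GrpObj H] [GrpObj Q] (i : H ⟶ G)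
    (q : G ⟶ Q) [IsMonHom q] (hmono : Mono i) (hkills : i ≫ q = 1)
    (hlift : ∀ {X : Over S} (a : X ⟶ G), a ≫ q = 1 → ∃ y : X ⟶ H, y ≫ i = a) :
    IsPullback (fst G H) ((G ◁ i) ≫ μ[G]) q q := by
  have hact : (G ◁ i) ≫ μ[G] = fst G H * (snd G H ≫ i) := by
    rw [MonObj.mul_eq_mul G, MonObj.comp_mul, whiskerLeft_fst, whiskerLeft_snd]
  have hw : fst G H ≫ q = ((G ◁ i) ≫ μ[G]) ≫ q := by
    rw [hact, MonObj.mul_comp, Category.assoc, hkills, MonObj.comp_one, _root_.mul_one]
  have hkey : ∀ s : PullbackCone q q, ∃ y : s.pt ⟶ H, y ≫ i = s.fst⁻¹ * s.snd := by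
    intro s
    apply hlift
    rw [MonObj.mul_comp, GrpObj.inv_comp, s.condition, inv_mul_cancel]
  refine ⟨⟨hw⟩, ⟨PullbackCone.IsLimit.mk hw (fun s => lift s.fst (hkey s).choose) ?_ ?_ ?_⟩⟩
  · intro s
    exact lift_fst _ _
  · intro s
    rw [hact, MonObj.comp_mul, lift_fst, lift_snd_assoc, (hkey s).choose_spec, mul_inv_cancel_left]
  · intro s m hm1 hm2
    have h1 : m ≫ snd G H = (hkey s).choose := by
      rw [← cancel_mono i, (hkey s).choose_spec, Category.assoc, ← hm1, ← hm2, hact,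
        MonObj.comp_mul, inv_mul_cancel_left]
    rw [← h1, ← hm1]
    exact (lift_comp_fst_snd m).symm

variable (κ : K →+ M)

/-- `ℤ[M]` is of finite presentation over `ℤ[K]`. -/
lemma finitePresentation_mapDomain (hM : AddGroup.FG M) (hinj : Function.Injective κ) :
    (MonoidAlgebra.mapDomainRingHom (ULift.{u} ℤ)
      (AddMonoidHom.toMultiplicative κ)).FinitePresentation := by
  have hR : IsNoetherianRing (ULift.{u} ℤ) := isNoetherianRing_of_ringEquiv ℤ ULift.ringEquiv.symm
  have hMf : Module.Finite ℤ M := Module.Finite.iff_addGroup_fg.2 hM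
  have hMn : IsNoetherian ℤ M := isNoetherian_of_isNoetherianRing_of_finite ℤ M
  have hKf : Module.Finite ℤ K := Module.Finite.of_injective κ.toIntLinearMap hinj
  have hK : AddGroup.FG K := Module.Finite.iff_addGroup_fg.1 hKf
  have hK' : AddMonoid.FG K := AddGroup.fg_iff_addMonoid_fg.1 hK
  have hM' : AddMonoid.FG M := AddGroup.fg_iff_addMonoid_fg.1 hM
  have hA : IsNoetherianRing (MonoidAlgebra (ULift.{u} ℤ) (Multiplicative K)) :=
    Algebra.FiniteType.isNoetherianRing (ULift.{u} ℤ) _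
  rw [← RingHom.FinitePresentation.of_finiteType]
  apply RingHom.FiniteType.of_comp_finiteType (f := algebraMap (ULift.{u} ℤ)
    (MonoidAlgebra (ULift.{u} ℤ) (Multiplicative K)))
  have hcomp : (MonoidAlgebra.mapDomainRingHom (ULift.{u} ℤ)
      (AddMonoidHom.toMultiplicative κ)).comp (algebraMap (ULift.{u} ℤ)
        (MonoidAlgebra (ULift.{u} ℤ) (Multiplicative K))) =
      algebraMap (ULift.{u} ℤ) (MonoidAlgebra (ULift.{u} ℤ) (Multiplicative M)) := by
    ext r
    simp [MonoidAlgebra.mapDomainRingHom]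
  rw [hcomp]
  exact RingHom.finiteType_algebraMap.2 inferInstance

end Quotient

section PkgQ

variable (κ : K →+ M)

set_option backward.isDefEq.respectTransparency.types false in
/-- `D(κ)` is locally of finite presentation for `κ` injective with finitely generated target. -/
lemma lfp_DSmap (hM : AddGroup.FG M) (hinj : Function.Injective κ) :
    LocallyOfFinitePresentation (Red.DSmap S κ).left := by
  have h0 : LocallyOfFinitePresentation (Red.diagMap (ULift.{u} ℤ) κ).left := by
    have h : LocallyOfFinitePresentation (Spec.map (CommRingCat.ofHom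
        (MonoidAlgebra.mapDomainAlgHom (ULift.{u} ℤ) (ULift.{u} ℤ)
          (AddMonoidHom.toMultiplicative κ)).toRingHom)) := by
      rw [HasRingHomProperty.Spec_iff (P := @LocallyOfFinitePresentation), CommRingCat.hom_ofHom,
        Groth.Agent.R2.H60.MTP.ringHom_eq]
      exact finitePresentation_mapDomain κ hM hinj
    exact h
  exact Groth.Agent.R2.H60.MTP.pullback_map_left_of @LocallyOfFinitePresentation _ _ h0
    inferInstance

/-- **PKG-Q**. -/
theorem pkgQ : PkgQ.{u} := by
  intro S K M N _ _ _ κ φ hM hinj hφ hex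
  have h0 : ∀ k, φ (κ k) = 0 := fun k => (hex _).2 ⟨k, rfl⟩
  have hfs := Groth.Agent.R2.H60.MTP.flat_surjective_of_injective (S := S) κ hinj
  have : IsMonHom (Red.DSmap S κ) := Groth.Agent.Lib.Helper27DiagSub.isMonHom_DSmap S κ
  refine ⟨hfs.2, hfs.1, lfp_DSmap κ hM hinj, ?_⟩
  exact isPullback_of_kernel (Red.DSmap S φ) (Red.DSmap S κ) (mono_DSmap φ hφ)
    (DSmap_comp_eq_one κ φ h0) (fun a ha => exists_lift_of_kills κ φ hφ hex a ha)

end PkgQ

end Groth.Agent.R2.H97.MTQK
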