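import Groth.Agent.R2.H97MTQuot
import Groth.Agent.R2.H97MTQ2Spec
import Groth.Agent.R2.H97MTQK

/-!
# PROJ:mt-quot phase 2 (helper97): Zariski-local constancy of the kernel lattice; quotients of
split tori by subgroups of multiplicative type (S16616, S16617)
-/

set_option autoImplicit false

universe u

open CategoryTheory MonoidalCategory CartesianMonoidalCategory MonObj GrpObj AlgebraicGeometry
  CategoryTheory.Limits

namespace Groth.Agent.R2.H97.MTQ2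

open Groth.Agent.R2.H97.MTSpec Groth.Agent.R2.H97.MTBase Groth.Agent.R2.H97.MTHom
  Groth.Agent.R2.H97.MTAsm Groth.Agent.R2.H97.MTTori Groth.Agent.R2.H97.MTSplit
  Groth.Agent.R2.H97.MTQSpec Groth.Agent.R2.H97.MTQ2Spec Groth.Agent.R2.H97.MTQuot
  Groth.Agent.R2.H55.DSPts

section LocalFormC

variable {S T₀ : Scheme.{u}} {G H : Over S} [GrpObj G] [GrpObj H] (u : G ⟶ H) [IsMonHom u]

/-- The local form with explicit trivialisations. -/
theorem localFormExplicit (g₀ : T₀ ⟶ S) {M N : Type} [AddCommGroup M] [AddCommGroup N]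
    (hN : AddGroup.FG N)
    (ψG : Grp.mk (Red.bc g₀ G) ≅ Grp.mk (Red.DS T₀ M))
    (ψH : Grp.mk (Red.bc g₀ H) ≅ Grp.mk (Red.DS T₀ N)) (t₀ : T₀) :
    ∃ (W : T₀.Opens) (φ : N →+ M), t₀ ∈ W ∧ ∀ (T : Scheme.{u}) (g : T ⟶ T₀),
      Set.range g.base ⊆ (W : Set T₀) →
        (Over.pullback (g ≫ g₀)).map u ≫ ((Over.pullbackComp g g₀).hom.app H ≫
          (Over.pullback g).map ψH.hom.hom.hom ≫ (dsBC g N).hom.hom.hom) =
        ((Over.pullbackComp g g₀).hom.app G ≫ (Over.pullback g).map ψG.hom.hom.hom ≫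
          (dsBC g M).hom.hom.hom) ≫ Red.DSmap T φ := by
  let u₀ : Red.DS T₀ M ⟶ Red.DS T₀ N :=
    ψG.inv.hom.hom ≫ (Over.pullback g₀).map u ≫ ψH.hom.hom.hom
  have : IsMonHom u₀ := inferInstance
  obtain ⟨W, φ, ht, hW⟩ := exists_local u₀ hN t₀
  refine ⟨W, φ, ht, ?_⟩
  intro T g hg
  have e1 : (Over.pullback g).map u₀ = (Over.pullback g).map (Red.DSmap T₀ φ) :=
    pullback_map_eq_of_points g u₀ _ (fun X x hX => hW X x (hX.trans hg))
  have e0 : (Over.pullback g₀).map u ≫ ψH.hom.hom.hom = ψG.hom.hom.hom ≫ u₀ := by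
    have : ψG.hom.hom.hom ≫ ψG.inv.hom.hom = 𝟙 _ :=
      congrArg (fun k => k.hom.hom) ψG.hom_inv_id
    simp only [u₀]
    rw [reassoc_of% this]
  rw [reassoc_of% (bcComp_naturality g g₀ u), ← Functor.map_comp_assoc, e0, Functor.map_comp_assoc,
    e1, dsBC_DSmap]
  simp only [Category.assoc]

end LocalFormC

section Canonical

variable (hC : PkgC.{u})

variable {S T₀ : Scheme.{u}} {H : Over S} [GrpObj H] {M : Type} [AddCommGroup M]

include hC in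
/-- The local form of a homomorphism to `D_S(M)`, with the canonical trivialisation of the base
changes of the target. -/
theorem localFormC (hM : AddGroup.FG M) (i : H ⟶ Red.DS S M) [IsMonHom i] (g₀ : T₀ ⟶ S)
    {N : Type} [AddCommGroup N] (ψ : Grp.mk (Red.bc g₀ H) ≅ Grp.mk (Red.DS T₀ N)) (t₀ : T₀) :
    ∃ (W : T₀.Opens) (φ : M →+ N), t₀ ∈ W ∧ ∀ (X : Scheme.{u}) (g : X ⟶ T₀) (h : X ⟶ S),
      g ≫ g₀ = h → Set.range g.base ⊆ (W : Set T₀) →
        ∃ α : Grp.mk (Red.bc h H) ≅ Grp.mk (Red.DS X N),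
          (Over.pullback h).map i ≫ (dsBC h M).hom.hom.hom = α.hom.hom.hom ≫ Red.DSmap X φ := by
  obtain ⟨W, φ, ht, hW⟩ := localFormExplicit i g₀ hM ψ (dsBC g₀ M) t₀
  refine ⟨W, φ, ht, ?_⟩
  rintro X g _ rfl hg
  refine ⟨bcCompGrp g g₀ H ≪≫ mapGrpIso g ψ ≪≫ dsBC g N, ?_⟩
  have h1 := hW X g hg
  rw [← hC g g₀ M] at h1
  rw [h1]
  change _ = ((bcCompGrp g g₀ H).hom.hom.hom ≫ (mapGrpIso g ψ).hom.hom.hom ≫
    (dsBC g N).hom.hom.hom) ≫ _
  rw [bcCompGrp_hom, mapGrpIso_hom]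

end Canonical

section KerOf

variable {X : Scheme.{u}} {M N : Type} [AddCommGroup M] [AddCommGroup N]

/-- The characters of `D_X(M)` which are trivial on `v`. -/
def kerOf {A : Over X} (v : A ⟶ Red.DS X M) : Set M := {m | dsFn v m = 1}

/-- A character of `D_X(N)` which is trivial on an isomorphic copy of `D_X(N)` is trivial. -/
lemma eq_zero_of_dsFn_iso [Nonempty X] {A : Over X} [GrpObj A]
    (α : Grp.mk A ≅ Grp.mk (Red.DS X N)) (n : N) (h : dsFn α.hom.hom.hom n = 1) : n = 0 := by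
  apply Groth.Agent.R2.H60.MTP.eq_zero_of_dsFn_id_eq_one (S := X)
  have e : α.inv.hom.hom ≫ α.hom.hom.hom = 𝟙 _ := congrArg (fun k => k.hom.hom) α.inv_hom_id
  rw [← e, dsFn_comp, h, map_one]

/-- The kernel of the character map can be read off from any diagonal form. -/
lemma kerOf_eq [Nonempty X] {A : Over X} [GrpObj A] (v : A ⟶ Red.DS X M)
    (α : Grp.mk A ≅ Grp.mk (Red.DS X N)) (φ : M →+ N)
    (h : v = α.hom.hom.hom ≫ Red.DSmap X φ) : kerOf v = (φ.ker : Set M) := by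
  ext m
  change dsFn v m = 1 ↔ m ∈ φ.ker
  rw [AddMonoidHom.mem_ker]
  rw [h, dsFn_DSmap]
  constructor
  · exact eq_zero_of_dsFn_iso α _
  · intro h0
    rw [h0, dsFn_zero]

end KerOf

section LC

variable (hD : PkgD.{u}) (hP : PkgP.{u}) (hC : PkgC.{u})

variable {S S₁ : Scheme.{u}} (f₁ : S₁ ⟶ S) {H : Over S} [GrpObj H] {M : Type} [AddCommGroup M]
  (i : H ⟶ Red.DS S M)

/-- The lattice of characters of `D_S(M)` which are trivial on `H` after the base change `h`. -/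
def Kh {X : Scheme.{u}} (h : X ⟶ S) : Set M :=
  kerOf ((Over.pullback h).map i ≫ (dsBC h M).hom.hom.hom)

variable [IsMonHom i] [Mono i]

include hD hP hC in
/-- Local diagonal forms of `i` on the covering `S₁`, with canonical trivialisation of the target. -/
theorem exists_localKer (hM : AddGroup.FG M)
    (hH : ∀ s₁ : S₁, ∃ U : S₁.Opens, s₁ ∈ U ∧ ∃ (N : Type) (_ : AddCommGroup N), AddGroup.FG N ∧
      Nonempty (Grp.mk (Red.bc (U.ι ≫ f₁) H) ≅ Grp.mk (Red.DS (U : Scheme.{u}) N)))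
    (t : S₁) :
    ∃ (W : S₁.Opens) (N : Type) (_ : AddCommGroup N) (φ : M →+ N), t ∈ W ∧ Function.Surjective φ ∧
      ∀ (X : Scheme.{u}) (g : X ⟶ S₁) (h : X ⟶ S), g ≫ f₁ = h →
        Set.range g.base ⊆ (W : Set S₁) →
        ∃ α : Grp.mk (Red.bc h H) ≅ Grp.mk (Red.DS X N),
          (Over.pullback h).map i ≫ (dsBC h M).hom.hom.hom = α.hom.hom.hom ≫ Red.DSmap X φ := by
  obtain ⟨U, hU, N, _, -, ⟨ψ⟩⟩ := hH t
  obtain ⟨W₀, φ, hW₀, hkey⟩ := localFormC hC hM i (U.ι ≫ f₁) ψ ⟨t, hU⟩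
  let W : S₁.Opens := U.ι ''ᵁ W₀
  have htW : t ∈ W := ⟨⟨t, hU⟩, hW₀, rfl⟩
  have hform : ∀ (X : Scheme.{u}) (g : X ⟶ S₁) (h : X ⟶ S), g ≫ f₁ = h →
      Set.range g.base ⊆ (W : Set S₁) →
      ∃ α : Grp.mk (Red.bc h H) ≅ Grp.mk (Red.DS X N),
        (Over.pullback h).map i ≫ (dsBC h M).hom.hom.hom = α.hom.hom.hom ≫ Red.DSmap X φ := by
    intro X g h hgh hg
    have hgU : Set.range g.base ⊆ Set.range U.ι.base := by
      rintro _ ⟨y, rfl⟩
      obtain ⟨w, -, hw⟩ := hg ⟨y, rfl⟩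
      exact ⟨w, hw⟩
    let g' : X ⟶ (U : Scheme.{u}) := IsOpenImmersion.lift U.ι g hgU
    have hg' : g' ≫ U.ι = g := IsOpenImmersion.lift_fac U.ι g hgU
    have hg'W : Set.range g'.base ⊆ (W₀ : Set ↑(U : Scheme.{u})) := by
      rintro _ ⟨y, rfl⟩
      obtain ⟨w, hwW, hw⟩ := hg ⟨y, rfl⟩
      have : w = g' y := by
        apply U.ι.isOpenEmbedding.injective
        refine Eq.trans hw ?_
        rw [← Scheme.Hom.comp_apply, hg']
      rw [← this]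
      exact hwW
    exact hkey X g' h (by rw [← Category.assoc, hg', hgh]) hg'W
  refine ⟨W, N, inferInstance, φ, htW, ?_, hform⟩
  -- surjectivity from the monomorphism property
  obtain ⟨α, hα⟩ := hform W W.ι (W.ι ≫ f₁) rfl (by simp)
  have i1 : (monoProp : MorphismProperty Scheme.{u}).RespectsIso := (monoData hD hP).respectsIso
  have hm0 : monoProp i.left := (inferInstance : Mono i.left)
  have hm1 : monoProp ((Over.pullback (W.ι ≫ f₁)).map i).left :=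
    (monoData hD hP).baseChange (W.ι ≫ f₁) i hm0
  have hm2 : monoProp (Red.DSmap W φ).left :=
    (prop_iff_of_sq monoProp ((Grp.forget _).mapIso α) ((Grp.forget _).mapIso (dsBC (W.ι ≫ f₁) M))
      hα).1 hm1
  exact (hP W φ).2.2.2.1 ⟨⟨t, htW⟩⟩ hm2

end LC

section Const

variable (hD : PkgD.{u}) (hP : PkgP.{u}) (hC : PkgC.{u})

variable {S S₁ : Scheme.{u}} (f₁ : S₁ ⟶ S) {H : Over S} [GrpObj H] {M : Type} [AddCommGroup M]
  (i : H ⟶ Red.DS S M) [IsMonHom i] [Mono i]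

include hD hP hC in
/-- **Local constancy of the kernel lattice**. -/
theorem exists_kernelFunction (hM : AddGroup.FG M) (cov₁ : IsFpqcCov f₁)
    (hH : ∀ s₁ : S₁, ∃ U : S₁.Opens, s₁ ∈ U ∧ ∃ (N : Type) (_ : AddCommGroup N), AddGroup.FG N ∧
      Nonempty (Grp.mk (Red.bc (U.ι ≫ f₁) H) ≅ Grp.mk (Red.DS (U : Scheme.{u}) N))) :
    ∃ Kf : S₁ → AddSubgroup M,
      (∀ t t' : S₁, f₁ t = f₁ t' → Kf t = Kf t') ∧
      (∀ K₀ : AddSubgroup M, IsOpen {s : S | ∃ t : S₁, f₁ t = s ∧ Kf t = K₀}) ∧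
      (∀ t : S₁, ∃ (W : S₁.Opens) (N : Type) (_ : AddCommGroup N) (φ : M →+ N), t ∈ W ∧
        Function.Surjective φ ∧ φ.ker = Kf t ∧
        ∀ (X : Scheme.{u}) (g : X ⟶ S₁) (h : X ⟶ S), g ≫ f₁ = h →
          Set.range g.base ⊆ (W : Set S₁) →
          ∃ α : Grp.mk (Red.bc h H) ≅ Grp.mk (Red.DS X N),
            (Over.pullback h).map i ≫ (dsBC h M).hom.hom.hom =
              α.hom.hom.hom ≫ Red.DSmap X φ) := by
  choose W N inst φ htW hsurj hform using fun t => exists_localKer hD hP hC f₁ i hM hH t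
  let Kf : S₁ → AddSubgroup M := fun t => (φ t).ker
  have link : ∀ (t t' : S₁) (X : Scheme.{u}) (_ : Nonempty X) (g g' : X ⟶ S₁),
      Set.range g.base ⊆ (W t : Set S₁) → Set.range g'.base ⊆ (W t' : Set S₁) →
      g ≫ f₁ = g' ≫ f₁ → Kf t = Kf t' := by
    intro t t' X _ g g' hg hg' he
    obtain ⟨α, hα⟩ := hform t X g (g ≫ f₁) rfl hg
    obtain ⟨α', hα'⟩ := hform t' X g' (g ≫ f₁) he.symm hg'
    have e1 := kerOf_eq _ α (φ t) hα
    have e2 := kerOf_eq _ α' (φ t') hα'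
    exact SetLike.coe_injective (e1.symm.trans e2)
  have cor1 : ∀ t t' : S₁, t' ∈ W t → Kf t' = Kf t := by
    intro t t' ht'
    have hr : Set.range (S₁.fromSpecResidueField t').base = {t'} :=
      Scheme.range_fromSpecResidueField t'
    refine link t' t (Spec (S₁.residueField t')) inferInstance (S₁.fromSpecResidueField t')
      (S₁.fromSpecResidueField t') ?_ ?_ rfl
    · rw [hr]
      exact Set.singleton_subset_iff.2 (htW t')
    · rw [hr]
      exact Set.singleton_subset_iff.2 ht'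
  have cor2 : ∀ t t' : S₁, f₁ t = f₁ t' → Kf t = Kf t' := by
    intro t t' he
    obtain ⟨z, hz1, hz2⟩ := Scheme.Pullback.exists_preimage_pullback (f := f₁) (g := f₁) t t' he
    have hr : Set.range ((pullback f₁ f₁).fromSpecResidueField z).base = {z} :=
      Scheme.range_fromSpecResidueField z
    refine link t t' (Spec ((pullback f₁ f₁).residueField z)) inferInstance
      ((pullback f₁ f₁).fromSpecResidueField z ≫ pullback.fst f₁ f₁)
      ((pullback f₁ f₁).fromSpecResidueField z ≫ pullback.snd f₁ f₁) ?_ ?_ ?_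
    · rintro _ ⟨y, rfl⟩
      have hy : ((pullback f₁ f₁).fromSpecResidueField z) y = z := by
        have : ((pullback f₁ f₁).fromSpecResidueField z) y ∈
            Set.range ((pullback f₁ f₁).fromSpecResidueField z).base := ⟨y, rfl⟩
        rw [hr] at this
        exact this
      rw [Scheme.Hom.comp_apply, hy, hz1]
      exact htW t
    · rintro _ ⟨y, rfl⟩
      have hy : ((pullback f₁ f₁).fromSpecResidueField z) y = z := by
        have : ((pullback f₁ f₁).fromSpecResidueField z) y ∈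
            Set.range ((pullback f₁ f₁).fromSpecResidueField z).base := ⟨y, rfl⟩
        rw [hr] at this
        exact this
      rw [Scheme.Hom.comp_apply, hy, hz2]
      exact htW t'
    · rw [Category.assoc, Category.assoc, pullback.condition]
  refine ⟨Kf, cor2, ?_, fun t => ⟨W t, N t, inst t, φ t, htW t, hsurj t, rfl, hform t⟩⟩
  intro K₀
  apply hD.1 f₁ cov₁
  rw [isOpen_iff_forall_mem_open]
  rintro t ⟨t', ht', hK⟩
  refine ⟨W t, ?_, (W t).2, htW t⟩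
  intro t'' ht''
  exact ⟨t'', rfl, (cor1 t t'' ht'').trans ((cor2 t t' ht'.symm).trans hK)⟩

end Const

section CT

variable (hD : PkgD.{u}) (hP : PkgP.{u}) (hC : PkgC.{u}) (hF : PkgF.{u}) (hQ : PkgQ.{u})
  (hE : PkgE.{u}) (hB : PkgB.{u})

variable {S V X : Scheme.{u}} {H Q : Over S} [GrpObj H] [GrpObj Q] {M : Type}
  [AddCommGroup M]

/-- The homomorphism `i` after the base change `j`, with target `D_V(M)`. -/
noncomputable def iOn (j : V ⟶ S) (i : H ⟶ Red.DS S M) : Red.bc j H ⟶ Red.DS V M :=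
  (Over.pullback j).map i ≫ (dsBC j M).hom.hom.hom

/-- The quotient map `q` after the base change `j`, with source `D_V(M)`. -/
noncomputable def qOn (j : V ⟶ S) (q : Red.DS S M ⟶ Q) : Red.DS V M ⟶ Red.bc j Q :=
  (dsBC j M).inv.hom.hom ≫ (Over.pullback j).map q

instance (j : V ⟶ S) (i : H ⟶ Red.DS S M) [IsMonHom i] : IsMonHom (iOn j i) := by
  unfold iOn
  infer_instance

instance (j : V ⟶ S) (q : Red.DS S M ⟶ Q) [IsMonHom q] : IsMonHom (qOn j q) := by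
  unfold qOn
  infer_instance

omit [GrpObj Q] in
include hB in
lemma isQuotient_on (j : V ⟶ S) (i : H ⟶ Red.DS S M) (q : Red.DS S M ⟶ Q)
    (hq : RedSub.IsQuotient i q) : RedSub.IsQuotient (iOn j i) (qOn j q) := by
  have h1 := hB.2 (dsBC j M) (Iso.refl (Grp.mk (Red.bc j H))) _ _ (hB.1 j i q hq)
  have h2 : (Iso.refl (Grp.mk (Red.bc j H))).inv.hom.hom = 𝟙 _ := rfl
  rw [h2, Category.id_comp] at h1
  exact h1

include hC in
/-- Key computation: the local form of `iOn j i` over `hV : X ⟶ V`. -/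
lemma kc (j : V ⟶ S) (i : H ⟶ Red.DS S M) (hV : X ⟶ V) {N : Type} [AddCommGroup N]
    (φ : M →+ N) (α : Grp.mk (Red.bc (hV ≫ j) H) ≅ Grp.mk (Red.DS X N))
    (hα : (Over.pullback (hV ≫ j)).map i ≫ (dsBC (hV ≫ j) M).hom.hom.hom =
      α.hom.hom.hom ≫ Red.DSmap X φ) :
    (Over.pullbackComp hV j).hom.app H ≫ (Over.pullback hV).map (iOn j i) ≫
      (dsBC hV M).hom.hom.hom = α.hom.hom.hom ≫ Red.DSmap X φ := by
  rw [← hα, hC hV j M]
  simp only [iOn, Functor.map_comp, Category.assoc]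
  rw [reassoc_of% (bcComp_naturality hV j i)]

include hC in
/-- Locally, the restriction of characters to `K₀ ⊆ ker φ` kills the subgroup. -/
lemma kills_local (j : V ⟶ S) (i : H ⟶ Red.DS S M) (hV : X ⟶ V) {N : Type} [AddCommGroup N]
    (φ : M →+ N) (α : Grp.mk (Red.bc (hV ≫ j) H) ≅ Grp.mk (Red.DS X N))
    (hα : (Over.pullback (hV ≫ j)).map i ≫ (dsBC (hV ≫ j) M).hom.hom.hom =
      α.hom.hom.hom ≫ Red.DSmap X φ) (K₀ : AddSubgroup M) (h0 : ∀ k : K₀, φ (K₀.subtype k) = 0) :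
    (Over.pullback hV).map (iOn j i ≫ Red.DSmap V K₀.subtype) =
      (Over.pullback hV).map (1 : Red.bc j H ⟶ Red.DS V K₀) := by
  have hB' : IsMonHom (dsBC hV K₀).hom.hom.hom := inferInstance
  rw [Functor.map_one, Functor.map_comp]
  rw [← cancel_epi ((Over.pullbackComp hV j).hom.app H),
    ← cancel_mono (dsBC hV K₀).hom.hom.hom]
  simp only [Category.assoc]
  rw [dsBC_DSmap, reassoc_of% (kc hC j i hV φ α hα),
    Groth.Agent.R2.H97.MTQK.DSmap_comp_eq_one K₀.subtype φ h0,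
    MonObj.comp_one]
  have h1 : (1 : Red.bc hV (Red.bc j H) ⟶ Red.bc hV (Red.DS V K₀)) ≫ (dsBC hV K₀).hom.hom.hom = 1 :=
    MonObj.one_comp _
  rw [h1, MonObj.comp_one]

include hC hQ hE hB in
/-- Locally, the comparison map `e'` is an isomorphism. -/
lemma iso_local (hM : AddGroup.FG M) (j : V ⟶ S) (i : H ⟶ Red.DS S M) (q : Red.DS S M ⟶ Q)
    [IsMonHom q] (hq : RedSub.IsQuotient i q) (hV : X ⟶ V) {N : Type} [AddCommGroup N]
    (φ : M →+ N) (α : Grp.mk (Red.bc (hV ≫ j) H) ≅ Grp.mk (Red.DS X N))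
    (hα : (Over.pullback (hV ≫ j)).map i ≫ (dsBC (hV ≫ j) M).hom.hom.hom =
      α.hom.hom.hom ≫ Red.DSmap X φ) (K₀ : AddSubgroup M) (hsurj : Function.Surjective φ)
    (hker : φ.ker = K₀) (e' : Red.bc j Q ⟶ Red.DS V K₀)
    (he' : qOn j q ≫ e' = Red.DSmap V K₀.subtype) :
    IsIso ((Over.pullback hV).map e') := by
  have hq'' : RedSub.IsQuotient ((Over.pullback hV).map (iOn j i))
      ((Over.pullback hV).map (qOn j q)) := hB.1 hV _ _ (isQuotient_on hB j i q hq)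
  let Θ : Grp.mk (Red.bc hV (Red.bc j H)) ≅ Grp.mk (Red.DS X N) := (bcCompGrp hV j H).symm ≪≫ α
  have hq3 := hB.2 (dsBC hV M) Θ _ _ hq''
  have hΘ : Θ.inv.hom.hom = α.inv.hom.hom ≫ (Over.pullbackComp hV j).hom.app H := by
    change α.inv.hom.hom ≫ (bcCompGrp hV j H).hom.hom.hom = _
    rw [bcCompGrp_hom]
  have hi3 : Θ.inv.hom.hom ≫ (Over.pullback hV).map (iOn j i) ≫ (dsBC hV M).hom.hom.hom =
      Red.DSmap X φ := by
    rw [hΘ, Category.assoc, kc hC j i hV φ α hα]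
    have : α.inv.hom.hom ≫ α.hom.hom.hom = 𝟙 _ := congrArg (fun k => k.hom.hom) α.inv_hom_id
    rw [reassoc_of% this]
  rw [hi3] at hq3
  have hex : ∀ m, φ m = 0 ↔ m ∈ K₀.subtype.range := by
    intro m
    rw [AddSubgroup.range_subtype, ← hker]
    exact (AddMonoidHom.mem_ker).symm
  have hQ' : RedSub.IsQuotient (Red.DSmap X φ) (Red.DSmap X K₀.subtype) :=
    hQ _ K₀.subtype φ hM K₀.subtype_injective hsurj hex
  have hmon : IsMonHom (Red.DSmap X K₀.subtype) :=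
    Groth.Agent.Lib.Helper27DiagSub.isMonHom_DSmap _ _
  obtain ⟨ε, hε⟩ := quot_unique hE (Red.DSmap X φ)
    ((dsBC hV M).inv.hom.hom ≫ (Over.pullback hV).map (qOn j q)) (Red.DSmap X K₀.subtype) hq3 hQ'
  obtain ⟨e₀, -, -, huniq⟩ := hE (Red.DSmap X φ)
    ((dsBC hV M).inv.hom.hom ≫ (Over.pullback hV).map (qOn j q)) hq3 (Red.DSmap X K₀.subtype)
    (quot_kills _ _ hQ')
  have hcand : ((dsBC hV M).inv.hom.hom ≫ (Over.pullback hV).map (qOn j q)) ≫
      ((Over.pullback hV).map e' ≫ (dsBC hV K₀).hom.hom.hom) = Red.DSmap X K₀.subtype := by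
    simp only [Category.assoc]
    rw [← Functor.map_comp_assoc, he', dsBC_DSmap]
    have : (dsBC hV M).inv.hom.hom ≫ (dsBC hV M).hom.hom.hom = 𝟙 _ :=
      congrArg (fun k => k.hom.hom) (dsBC hV M).inv_hom_id
    rw [reassoc_of% this]
  have h5 : (Over.pullback hV).map e' ≫ (dsBC hV K₀).hom.hom.hom = ε.hom.hom.hom := by
    rw [huniq _ hcand, huniq _ hε]
  have h6 : (Over.pullback hV).map e' = ε.hom.hom.hom ≫ (dsBC hV K₀).inv.hom.hom := by
    rw [← h5, Category.assoc]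
    have : (dsBC hV K₀).hom.hom.hom ≫ (dsBC hV K₀).inv.hom.hom = 𝟙 _ :=
      congrArg (fun k => k.hom.hom) (dsBC hV K₀).hom_inv_id
    rw [this, Category.comp_id]
  rw [h6]
  have : IsIso ε.hom.hom.hom := inferInstanceAs (IsIso ((Grp.forget _).mapIso ε).hom)
  have : IsIso (dsBC hV K₀).inv.hom.hom :=
    inferInstanceAs (IsIso ((Grp.forget _).mapIso (dsBC hV K₀)).inv)
  infer_instance

end CT

section Main

variable (hD : PkgD.{u}) (hP : PkgP.{u}) (hC : PkgC.{u}) (hF : PkgF.{u}) (hQ : PkgQ.{u})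
  (hE : PkgE.{u}) (hB : PkgB.{u})

variable {S S₁ : Scheme.{u}} (f₁ : S₁ ⟶ S) {H Q : Over S} [GrpObj H] [GrpObj Q] {M : Type}
  [AddCommGroup M] (i : H ⟶ Red.DS S M) (q : Red.DS S M ⟶ Q) [IsMonHom q]

include hD hC hF hQ hE hB in
/-- **Quotients of `D_S(M)` over an open set where the kernel lattice is constant**. -/
theorem quotient_split_on (hM : AddGroup.FG M) (cov₁ : IsFpqcCov f₁)
    (hq : RedSub.IsQuotient i q) (V : S.Opens) (K₀ : AddSubgroup M)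
    (hloc : ∀ t : S₁, f₁ t ∈ V → ∃ (W : S₁.Opens) (N : Type) (_ : AddCommGroup N) (φ : M →+ N),
      t ∈ W ∧ Function.Surjective φ ∧ φ.ker = K₀ ∧
      ∀ (X : Scheme.{u}) (g : X ⟶ S₁) (h : X ⟶ S), g ≫ f₁ = h →
        Set.range g.base ⊆ (W : Set S₁) →
        ∃ α : Grp.mk (Red.bc h H) ≅ Grp.mk (Red.DS X N),
          (Over.pullback h).map i ≫ (dsBC h M).hom.hom.hom = α.hom.hom.hom ≫ Red.DSmap X φ) :
    Nonempty (Grp.mk (Red.bc V.ι Q) ≅ Grp.mk (Red.DS (V : Scheme.{u}) K₀)) := by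
  have cov_c : IsFpqcCov (pullback.snd f₁ V.ι) := hD.2.1 f₁ V.ι cov₁
  -- local data at the points of the covering
  have hlocz : ∀ z : ↑(pullback f₁ V.ι), ∃ (Uz : (pullback f₁ V.ι).Opens) (N : Type)
      (_ : AddCommGroup N) (φ : M →+ N), z ∈ Uz ∧ Function.Surjective φ ∧ φ.ker = K₀ ∧
      ∃ α : Grp.mk (Red.bc ((Uz.ι ≫ pullback.snd f₁ V.ι) ≫ V.ι) H) ≅
          Grp.mk (Red.DS (Uz : Scheme.{u}) N),
        (Over.pullback ((Uz.ι ≫ pullback.snd f₁ V.ι) ≫ V.ι)).map i ≫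
          (dsBC ((Uz.ι ≫ pullback.snd f₁ V.ι) ≫ V.ι) M).hom.hom.hom =
            α.hom.hom.hom ≫ Red.DSmap Uz φ := by
    intro z
    have hz : f₁ (pullback.fst f₁ V.ι z) ∈ V := by
      have : f₁ (pullback.fst f₁ V.ι z) = V.ι (pullback.snd f₁ V.ι z) := by
        rw [← Scheme.Hom.comp_apply, ← Scheme.Hom.comp_apply, pullback.condition]
      rw [this]
      exact (pullback.snd f₁ V.ι z).2
    obtain ⟨W, N, _, φ, htW, hsurj, hker, hform⟩ := hloc _ hz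
    let Uz : (pullback f₁ V.ι).Opens := (pullback.fst f₁ V.ι) ⁻¹ᵁ W
    have hzU : z ∈ Uz := htW
    have hr : Set.range (Uz.ι ≫ pullback.fst f₁ V.ι).base ⊆ (W : Set S₁) := by
      rintro _ ⟨y, rfl⟩
      exact y.2
    have he : (Uz.ι ≫ pullback.fst f₁ V.ι) ≫ f₁ = (Uz.ι ≫ pullback.snd f₁ V.ι) ≫ V.ι := by
      rw [Category.assoc, Category.assoc, pullback.condition]
    obtain ⟨α, hα⟩ := hform Uz (Uz.ι ≫ pullback.fst f₁ V.ι) _ he hr
    exact ⟨Uz, N, inferInstance, φ, hzU, hsurj, hker, α, hα⟩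
  -- Claim A: the restriction of characters kills the subgroup
  have claimA : iOn V.ι i ≫ Red.DSmap V K₀.subtype = 1 := by
    apply hF _ cov_c
    intro z
    obtain ⟨Uz, N, _, φ, hzU, hsurj, hker, α, hα⟩ := hlocz z
    refine ⟨Uz, hzU, ?_⟩
    have h0 : ∀ k : K₀, φ (K₀.subtype k) = 0 := by
      intro k
      have : (K₀.subtype k) ∈ φ.ker := by rw [hker]; exact k.2
      exact this
    exact kills_local hC V.ι i (Uz.ι ≫ pullback.snd f₁ V.ι) φ α hα K₀ h0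
  have hρ' : IsMonHom (Red.DSmap (V : Scheme.{u}) K₀.subtype) :=
    Groth.Agent.Lib.Helper27DiagSub.isMonHom_DSmap _ _
  obtain ⟨e', he'1, he'2, -⟩ := hE (iOn V.ι i) (qOn V.ι q) (isQuotient_on hB V.ι i q hq)
    (Red.DSmap V K₀.subtype) claimA
  -- Claim B: `e'` is an isomorphism
  have claimB : isoProp e'.left := by
    have i2 : (isoProp : MorphismProperty Scheme.{u}).RespectsIso :=
      inferInstanceAs (MorphismProperty.isomorphisms Scheme.{u}).RespectsIso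
    apply hD.2.2.2.1.1 _ cov_c e'
    choose Uz N inst φ hzU hsurj hker α hα using hlocz
    apply hD.2.2.2.2.1 ((Over.pullback (pullback.snd f₁ V.ι)).map e') Uz (fun z => ⟨z, hzU z⟩)
    intro z
    rw [← prop_bcComp isoProp (Uz z).ι (pullback.snd f₁ V.ι) e']
    have h7 := iso_local hC hQ hE hB hM V.ι i q hq ((Uz z).ι ≫ pullback.snd f₁ V.ι) (φ z) (α z)
      (hα z) K₀ (hsurj z) (hker z) e' he'2
    have h8 : IsIso ((Over.forget _).map
      ((Over.pullback ((Uz z).ι ≫ pullback.snd f₁ V.ι)).map e')) := inferInstance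
    exact h8
  have h8 : IsIso ((Over.forget _).map e') := claimB
  have h9 : IsIso e' := isIso_of_reflects_iso e' (Over.forget _)
  have : IsMonHom (asIso e').hom := he'1
  exact ⟨Grp.mkIso' (asIso e')⟩

end Main

section Final

variable (hD : PkgD.{u}) (hP : PkgP.{u}) (hC : PkgC.{u}) (hF : PkgF.{u}) (hQ : PkgQ.{u})
  (hE : PkgE.{u}) (hB : PkgB.{u}) (hI : PkgI.{u}) (hM' : PkgM.{u})

include hD hP hC hF hQ hE hB in
/-- Local splitting of the quotient of `D_S(ℤ^r)` by a subgroup of multiplicative type. -/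
theorem exists_clopen_split {S : Scheme.{u}} {H Q : Over S} [GrpObj H] [GrpObj Q] {r : ℕ}
    (i : H ⟶ Red.DS S (Fin r → ℤ)) [IsMonHom i] [Mono i] (hH : SGA3x.IsMultTypeFT H)
    (q : Red.DS S (Fin r → ℤ) ⟶ Q) [IsMonHom q] (hq : RedSub.IsQuotient i q) (s₀ : S) :
    ∃ V : S.Opens, s₀ ∈ V ∧ IsClosed (V : Set S) ∧ ∃ r' : ℕ, r' ≤ r ∧
      Red.IsSplitTorusWith (Fin r' → ℤ) (Red.bc V.ι Q) := by
  have hfg : AddGroup.FG (Fin r → ℤ) := Module.Finite.iff_addGroup_fg.1 inferInstance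
  obtain ⟨S₁, f₁, hfl₁, hsj₁, hc₁, hH'⟩ := hH
  have cov₁ : IsFpqcCov f₁ := ⟨hfl₁, hsj₁, hc₁⟩
  obtain ⟨Kf, hK2, hopen, hforms⟩ := exists_kernelFunction hD hP hC f₁ i hfg cov₁ hH'
  obtain ⟨t₀, ht₀⟩ := hsj₁.surj s₀
  let V : S.Opens := ⟨{s : S | ∃ t : S₁, f₁ t = s ∧ Kf t = Kf t₀}, hopen (Kf t₀)⟩
  have hs₀ : s₀ ∈ V := ⟨t₀, ht₀, rfl⟩
  have hclosed : IsClosed (V : Set S) := by
    rw [← isOpen_compl_iff, isOpen_iff_forall_mem_open]
    intro s hs
    obtain ⟨t, ht⟩ := hsj₁.surj s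
    refine ⟨{s' : S | ∃ t' : S₁, f₁ t' = s' ∧ Kf t' = Kf t}, ?_, hopen (Kf t), ⟨t, ht, rfl⟩⟩
    rintro s' ⟨t', ht', hK'⟩ ⟨t'', ht'', hK''⟩
    apply hs
    refine ⟨t, ht, ?_⟩
    rw [← hK', hK2 t' t'' (ht'.trans ht''.symm), hK'']
  refine ⟨V, hs₀, hclosed, ?_⟩
  have hloc : ∀ t : S₁, f₁ t ∈ V → ∃ (W : S₁.Opens) (N : Type) (_ : AddCommGroup N)
      (φ : (Fin r → ℤ) →+ N), t ∈ W ∧ Function.Surjective φ ∧ φ.ker = Kf t₀ ∧
      ∀ (X : Scheme.{u}) (g : X ⟶ S₁) (h : X ⟶ S), g ≫ f₁ = h →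
        Set.range g.base ⊆ (W : Set S₁) →
        ∃ α : Grp.mk (Red.bc h H) ≅ Grp.mk (Red.DS X N),
          (Over.pullback h).map i ≫ (dsBC h (Fin r → ℤ)).hom.hom.hom =
            α.hom.hom.hom ≫ Red.DSmap X φ := by
    rintro t ⟨t', ht', hK'⟩
    obtain ⟨W, N, _, φ, htW, hsurj, hker, hform⟩ := hforms t
    exact ⟨W, N, inferInstance, φ, htW, hsurj, by rw [hker, hK2 t t' ht'.symm, hK'], hform⟩
  obtain ⟨e⟩ := quotient_split_on hD hC hF hQ hE hB f₁ i q hfg cov₁ hq V (Kf t₀) hloc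
  obtain ⟨r', hr', ⟨eK⟩⟩ := exists_equiv_of_subgroup (Kf t₀)
  obtain ⟨e2⟩ := nonempty_dsIso (S := V) hP eK
  exact ⟨r', hr', ⟨e ≪≫ e2⟩⟩

include hD hP hC hF hQ hE hB hI in
/-- **S16617**. -/
theorem s16617_of {S : Scheme.{u}} [ConnectedSpace ↥S] {T H Q : Over S} [GrpObj T] [GrpObj H]
    [GrpObj Q] (r : ℕ) (hT : Red.IsSplitTorusWith (Fin r → ℤ) T) (i : H ⟶ T) [IsMonHom i] [Mono i]
    (hH : SGA3x.IsMultTypeFT H) (q : T ⟶ Q) [IsMonHom q] (hq : RedSub.IsQuotient i q) :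
    ∃ r' : ℕ, r' ≤ r ∧ Red.IsSplitTorusWith (Fin r' → ℤ) Q := by
  obtain ⟨ψT⟩ := hT
  have hq₀ : RedSub.IsQuotient (i ≫ ψT.hom.hom.hom) (ψT.inv.hom.hom ≫ q) := by
    have h1 := hB.2 ψT (Iso.refl (Grp.mk H)) i q hq
    have h2 : (Iso.refl (Grp.mk H)).inv.hom.hom = 𝟙 _ := rfl
    rw [h2, Category.id_comp] at h1
    exact h1
  have hiso : IsIso ψT.hom.hom.hom := inferInstanceAs (IsIso ((Grp.forget _).mapIso ψT).hom)
  have hmono : Mono (i ≫ ψT.hom.hom.hom) := mono_comp _ _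
  obtain ⟨s₀⟩ : Nonempty S := inferInstance
  obtain ⟨V, hs₀, hcl, r', hr', hV⟩ := exists_clopen_split hD hP hC hF hQ hE hB
    (i ≫ ψT.hom.hom.hom) hH (ψT.inv.hom.hom ≫ q) hq₀ s₀
  have hVtop : V = ⊤ := by
    apply TopologicalSpace.Opens.ext
    exact (isClopen_iff.1 ⟨hcl, V.2⟩).resolve_left (Set.nonempty_iff_ne_empty.1 ⟨s₀, hs₀⟩)
  subst hVtop
  exact ⟨r', hr', hI _ Q hV⟩

include hD hP hC hF hQ hE hB hM' in
/-- **S16616**. -/
theorem s16616_of {S : Scheme.{u}} {T H Q : Over S} [GrpObj T] [GrpObj H] [GrpObj Q]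
    (hT : ∀ s : ↥S, ∃ U : S.Opens, s ∈ U ∧ ∃ r : ℕ,
      Red.IsSplitTorusWith (Fin r → ℤ) (Red.bc U.ι T))
    (i : H ⟶ T) [IsMonHom i] [Mono i] (hH : SGA3x.IsMultTypeFT H) (q : T ⟶ Q) [IsMonHom q]
    (hq : RedSub.IsQuotient i q) :
    ∀ s : ↥S, ∃ U : S.Opens, s ∈ U ∧ ∃ r : ℕ,
      Red.IsSplitTorusWith (Fin r → ℤ) (Red.bc U.ι Q) := by
  intro s₀
  obtain ⟨U₀, hs₀, r, ⟨ψ⟩⟩ := hT s₀
  have hq₁ : RedSub.IsQuotient ((Over.pullback U₀.ι).map i) ((Over.pullback U₀.ι).map q) :=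
    hB.1 U₀.ι i q hq
  have hq₀ : RedSub.IsQuotient ((Over.pullback U₀.ι).map i ≫ ψ.hom.hom.hom)
      (ψ.inv.hom.hom ≫ (Over.pullback U₀.ι).map q) := by
    have h1 := hB.2 ψ (Iso.refl (Grp.mk (Red.bc U₀.ι H))) _ _ hq₁
    have h2 : (Iso.refl (Grp.mk (Red.bc U₀.ι H))).inv.hom.hom = 𝟙 _ := rfl
    rw [h2, Category.id_comp] at h1
    exact h1
  have hiso : IsIso ψ.hom.hom.hom := inferInstanceAs (IsIso ((Grp.forget _).mapIso ψ).hom)
  have hm1 : Mono ((Over.pullback U₀.ι).map i) := inferInstance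
  have hmono : Mono ((Over.pullback U₀.ι).map i ≫ ψ.hom.hom.hom) := mono_comp _ _
  obtain ⟨V, hsV, -, r', -, ⟨ψ'⟩⟩ := exists_clopen_split hD hP hC hF hQ hE hB
    ((Over.pullback U₀.ι).map i ≫ ψ.hom.hom.hom) (hM' U₀.ι H hH)
    (ψ.inv.hom.hom ≫ (Over.pullback U₀.ι).map q) hq₀ ⟨s₀, hs₀⟩
  let U : S.Opens := U₀.ι ''ᵁ V
  have hsU : s₀ ∈ U := ⟨⟨s₀, hs₀⟩, hsV, rfl⟩
  refine ⟨U, hsU, r', ?_⟩
  let ψ'' : Grp.mk (Red.bc (V.ι ≫ U₀.ι) Q) ≅ Grp.mk (Red.DS (V : Scheme.{u}) (Fin r' → ℤ)) :=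
    bcCompGrp V.ι U₀.ι Q ≪≫ ψ'
  have hr : Set.range U.ι.base ⊆ Set.range (V.ι ≫ U₀.ι).base := by
    rintro _ ⟨y, rfl⟩
    obtain ⟨w, hw, hw'⟩ := y.2
    exact ⟨⟨w, hw⟩, hw'⟩
  let a : (U : Scheme.{u}) ⟶ (V : Scheme.{u}) := IsOpenImmersion.lift (V.ι ≫ U₀.ι) U.ι hr
  have ha : a ≫ (V.ι ≫ U₀.ι) = U.ι := IsOpenImmersion.lift_fac _ _ hr
  exact ⟨trivBC (V.ι ≫ U₀.ι) ψ'' a U.ι ha⟩

end Final

end Groth.Agent.R2.H97.MTQ2
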