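import Groth.Agent.R2.H97MTQSpec
import Mathlib.AlgebraicGeometry.Sites.Fpqc

/-!
# PROJ:mt-quot (helper97): PKG-E — universal property of fppf quotients of group schemes
-/

set_option autoImplicit false

universe u

open CategoryTheory MonoidalCategory CartesianMonoidalCategory MonObj GrpObj AlgebraicGeometry
  CategoryTheory.Limits

namespace Groth.Agent.R2.H97.MTQE

open Groth.Agent.R2.H97.MTQSpec

variable {S : Scheme.{u}} {G H Q Z : Over S} [GrpObj G] [GrpObj H] [GrpObj Q] [GrpObj Z]

omit [GrpObj H] [GrpObj Q] in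
/-- A homomorphism killing the subgroup coequalises the two maps `G × H ⇉ G`. -/
lemma coeq_of_kills (i : H ⟶ G) (v : G ⟶ Z) [IsMonHom v] (hv : i ≫ v = 1) :
    fst G H ≫ v = ((G ◁ i) ≫ μ[G]) ≫ v := by
  have h1 : (G ◁ i) ≫ μ[G] = fst G H * (snd G H ≫ i) := by
    rw [MonObj.mul_eq_mul G, MonObj.comp_mul, whiskerLeft_fst, whiskerLeft_snd]
  rw [h1, MonObj.mul_comp, Category.assoc, hv, MonObj.comp_one, _root_.mul_one]

omit [GrpObj H] [GrpObj G] [GrpObj Q] in
/-- The tensor square of an fppf covering is an epimorphism. -/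
lemma epi_tensor (q : G ⟶ Q) (hs : Surjective q.left) (hf : Flat q.left)
    (hl : LocallyOfFinitePresentation q.left) : Epi (q ⊗ₘ q) := by
  have e : (q ⊗ₘ q).left = pullback.map _ _ _ _ q.left q.left (𝟙 _)
      ((Category.comp_id _).trans (Over.w q).symm) ((Category.comp_id _).trans (Over.w q).symm) :=
    rfl
  have hsc : MorphismProperty.IsStableUnderComposition (@Surjective.{u}) :=
    (inferInstance : MorphismProperty.IsMultiplicative (@Surjective.{u})).toIsStableUnderComposition
  have h1 : Surjective (q ⊗ₘ q).left := by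
    rw [e]
    exact MorphismProperty.pullbackMap (P := @Surjective) hs hs (Over.w q).symm (Over.w q).symm
  have h2 : Flat (q ⊗ₘ q).left := by
    rw [e]
    exact MorphismProperty.pullbackMap (P := @Flat) hf hf (Over.w q).symm (Over.w q).symm
  have h3 : LocallyOfFinitePresentation (q ⊗ₘ q).left := by
    rw [e]
    exact MorphismProperty.pullbackMap (P := @LocallyOfFinitePresentation) hl hl
      (Over.w q).symm (Over.w q).symm
  have h4 : Epi ((Over.forget S).map (q ⊗ₘ q)) := inferInstanceAs (Epi (q ⊗ₘ q).left)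
  exact (Over.forget S).epi_of_epi_map h4

/-- **PKG-E**. -/
theorem pkgE : PkgE.{u} := by
  intro S G H Q Z _ _ _ _ i q _ hq v _ hv
  obtain ⟨hs, hf, hl, hpb⟩ := hq
  have hEE : EffectiveEpi q.left := inferInstance
  have hcoeq : ∀ {W : Scheme.{u}} (g₁ g₂ : W ⟶ G.left), g₁ ≫ q.left = g₂ ≫ q.left →
      g₁ ≫ v.left = g₂ ≫ v.left := by
    intro W g₁ g₂ hg
    have hw : g₂ ≫ G.hom = g₁ ≫ G.hom := by
      rw [← Over.w q, ← Category.assoc, ← hg, Category.assoc]
    let W' : Over S := Over.mk (g₁ ≫ G.hom)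
    let a₁ : W' ⟶ G := Over.homMk g₁ rfl
    let a₂ : W' ⟶ G := Over.homMk g₂ hw
    have ha : a₁ ≫ q = a₂ ≫ q := by
      apply Over.OverMorphism.ext
      exact hg
    let p : W' ⟶ G ⊗ H := hpb.lift a₁ a₂ ha
    have hp1 : p ≫ fst G H = a₁ := hpb.lift_fst _ _ _
    have hp2 : p ≫ ((G ◁ i) ≫ μ[G]) = a₂ := hpb.lift_snd _ _ _
    have h3 : a₁ ≫ v = a₂ ≫ v := by
      rw [← hp1, ← hp2, Category.assoc, Category.assoc, coeq_of_kills i v hv]
    exact congrArg (fun k => k.left) h3
  let el : Q.left ⟶ Z.left := EffectiveEpi.desc q.left v.left hcoeq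
  have hfac : q.left ≫ el = v.left := EffectiveEpi.fac q.left v.left hcoeq
  have hw : el ≫ Z.hom = Q.hom := by
    rw [← cancel_epi q.left, ← Category.assoc, hfac, Over.w v, Over.w q]
  let e : Q ⟶ Z := Over.homMk el hw
  have he : q ≫ e = v := by
    apply Over.OverMorphism.ext
    exact hfac
  have hepiq : Epi q := by
    have : Epi ((Over.forget S).map q) := inferInstanceAs (Epi q.left)
    exact (Over.forget S).epi_of_epi_map this
  refine ⟨e, ⟨?_, ?_⟩, he, ?_⟩
  · rw [← IsMonHom.one_hom (f := q), Category.assoc, he, IsMonHom.one_hom]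
  · have := epi_tensor q hs hf hl
    rw [← cancel_epi (q ⊗ₘ q), ← Category.assoc, ← IsMonHom.mul_hom (f := q), Category.assoc, he,
      IsMonHom.mul_hom (f := v), tensorHom_comp_tensorHom_assoc, he]
  · intro e' he'
    rw [← cancel_epi q, he, he']

end Groth.Agent.R2.H97.MTQE
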