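import Groth.Agent.R2.H97MTSplit
import Groth.Agent.R2.H97MTQSpec
import Groth.Agent.Lib.Helper27DiagSub

/-!
# PROJ:mt-quot (helper97): local form of homomorphisms, assembly of S16615
-/

set_option autoImplicit false

universe u

open CategoryTheory MonoidalCategory CartesianMonoidalCategory MonObj GrpObj AlgebraicGeometry
  CategoryTheory.Limits

namespace Groth.Agent.R2.H97.MTQuot

open Groth.Agent.R2.H97.MTSpec Groth.Agent.R2.H97.MTBase Groth.Agent.R2.H97.MTHom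
  Groth.Agent.R2.H97.MTAsm Groth.Agent.R2.H97.MTTori Groth.Agent.R2.H97.MTSplit
  Groth.Agent.R2.H97.MTQSpec

section LocalForm

variable {S T₀ : Scheme.{u}} {G H : Over S} [GrpObj G] [GrpObj H] (u : G ⟶ H) [IsMonHom u]

/-- **Local form** of a homomorphism between groups which are diagonalisable over `T₀ ⟶ S`:
on a neighbourhood of any point it becomes `D(φ)` in suitable trivialisations. -/
theorem localForm (g₀ : T₀ ⟶ S) {M N : Type} [AddCommGroup M] [AddCommGroup N]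
    (hN : AddGroup.FG N)
    (ψG : Grp.mk (Red.bc g₀ G) ≅ Grp.mk (Red.DS T₀ M))
    (ψH : Grp.mk (Red.bc g₀ H) ≅ Grp.mk (Red.DS T₀ N)) (t₀ : T₀) :
    ∃ (W : T₀.Opens) (φ : N →+ M), t₀ ∈ W ∧ ∀ (T : Scheme.{u}) (g : T ⟶ T₀) (h : T ⟶ S),
      g ≫ g₀ = h → Set.range g.base ⊆ (W : Set T₀) →
        ∃ (α : Grp.mk (Red.bc h G) ≅ Grp.mk (Red.DS T M))
          (β : Grp.mk (Red.bc h H) ≅ Grp.mk (Red.DS T N)),
          (Over.pullback h).map u ≫ β.hom.hom.hom = α.hom.hom.hom ≫ Red.DSmap T φ := by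
  let u₀ : Red.DS T₀ M ⟶ Red.DS T₀ N :=
    ψG.inv.hom.hom ≫ (Over.pullback g₀).map u ≫ ψH.hom.hom.hom
  have : IsMonHom u₀ := inferInstance
  obtain ⟨W, φ, ht, hW⟩ := exists_local u₀ hN t₀
  refine ⟨W, φ, ht, ?_⟩
  rintro T g _ rfl hg
  have e1 : (Over.pullback g).map u₀ = (Over.pullback g).map (Red.DSmap T₀ φ) :=
    pullback_map_eq_of_points g u₀ _ (fun X x hX => hW X x (hX.trans hg))
  have e0 : (Over.pullback g₀).map u ≫ ψH.hom.hom.hom = ψG.hom.hom.hom ≫ u₀ := by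
    have : ψG.hom.hom.hom ≫ ψG.inv.hom.hom = 𝟙 _ :=
      congrArg (fun k => k.hom.hom) ψG.hom_inv_id
    simp only [u₀]
    rw [reassoc_of% this]
  refine ⟨bcCompGrp g g₀ G ≪≫ mapGrpIso g ψG ≪≫ dsBC g M,
    bcCompGrp g g₀ H ≪≫ mapGrpIso g ψH ≪≫ dsBC g N, ?_⟩
  change (Over.pullback (g ≫ g₀)).map u ≫ (bcCompGrp g g₀ H).hom.hom.hom ≫
      (mapGrpIso g ψH).hom.hom.hom ≫ (dsBC g N).hom.hom.hom =
    ((bcCompGrp g g₀ G).hom.hom.hom ≫ (mapGrpIso g ψG).hom.hom.hom ≫ (dsBC g M).hom.hom.hom) ≫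
      Red.DSmap T φ
  rw [bcCompGrp_hom, bcCompGrp_hom, mapGrpIso_hom, mapGrpIso_hom,
    reassoc_of% (bcComp_naturality g g₀ u), ← Functor.map_comp_assoc, e0, Functor.map_comp_assoc,
    e1, dsBC_DSmap]
  simp only [Category.assoc]

end LocalForm

section Glue

variable {S : Scheme.{u}}

/-- A subgroup of `ℤ^r` is free of rank at most `r`. -/
lemma exists_equiv_of_subgroup {r : ℕ} (K : AddSubgroup (Fin r → ℤ)) :
    ∃ r' : ℕ, r' ≤ r ∧ Nonempty (K ≃+ (Fin r' → ℤ)) := by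
  let N : Submodule ℤ (Fin r → ℤ) := AddSubgroup.toIntSubmodule K
  obtain ⟨n, ⟨b⟩⟩ := Submodule.nonempty_basis_of_pid (Pi.basisFun ℤ (Fin r)) N
  refine ⟨n, ?_, ⟨b.equivFun.toAddEquiv⟩⟩
  have h1 : Module.finrank ℤ N = n := by
    rw [Module.finrank_eq_card_basis b, Fintype.card_fin]
  have h2 : Module.finrank ℤ N ≤ Module.finrank ℤ (Fin r → ℤ) := Submodule.finrank_le N
  rw [h1, Module.finrank_fin_fun] at h2
  exact h2

variable (hP : PkgP.{u})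

include hP in
/-- `D_S` of an isomorphism of groups. -/
lemma nonempty_dsIso {M N : Type} [AddCommGroup M] [AddCommGroup N] (e : M ≃+ N) :
    Nonempty (Grp.mk (Red.DS S M) ≅ Grp.mk (Red.DS S N)) := by
  have h1 : IsIso (Red.DSmap S e.symm.toAddMonoidHom).left := (hP S _).2.1 e.symm.bijective
  have h2 : IsIso ((Over.forget S).map (Red.DSmap S e.symm.toAddMonoidHom)) := h1
  have h3 : IsIso (Red.DSmap S e.symm.toAddMonoidHom) := isIso_of_reflects_iso _ (Over.forget S)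
  have h4 : IsMonHom (asIso (Red.DSmap S e.symm.toAddMonoidHom)).hom :=
    Groth.Agent.Lib.Helper27DiagSub.isMonHom_DSmap S _
  exact ⟨Grp.mkIso' (asIso (Red.DSmap S e.symm.toAddMonoidHom))⟩

end Glue

section Quot

variable {S : Scheme.{u}} {G H Q : Over S} [GrpObj G] [GrpObj H] [GrpObj Q]

omit [GrpObj H] in
/-- The quotient map kills the subgroup. -/
lemma quot_kills (i : H ⟶ G) (q : G ⟶ Q) [IsMonHom q] (hq : RedSub.IsQuotient i q) :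
    i ≫ q = 1 := by
  have hw := hq.2.2.2.w
  have h1 := congrArg (fun k => lift (1 : H ⟶ G) (𝟙 H) ≫ k) hw
  simp only [lift_fst_assoc] at h1
  have h2 : lift (1 : H ⟶ G) (𝟙 H) ≫ G ◁ i ≫ μ = i := by
    rw [← Category.assoc, lift_whiskerLeft, Category.id_comp, ← Hom.mul_def, _root_.one_mul]
  rw [← Category.assoc, h2, MonObj.one_comp] at h1
  exact h1.symm

variable (hE : PkgE.{u})

include hE in
/-- Uniqueness of fppf quotients of groups. -/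
lemma quot_unique {Q' : Over S} [GrpObj Q'] (i : H ⟶ G) (q : G ⟶ Q) [IsMonHom q] (q' : G ⟶ Q')
    [IsMonHom q'] (hq : RedSub.IsQuotient i q) (hq' : RedSub.IsQuotient i q') :
    ∃ e : Grp.mk Q ≅ Grp.mk Q', q ≫ e.hom.hom.hom = q' := by
  obtain ⟨e, he1, he2, -⟩ := hE i q hq q' (quot_kills i q' hq')
  obtain ⟨e', he1', he2', -⟩ := hE i q' hq' q (quot_kills i q hq)
  obtain ⟨e₀, -, -, hu⟩ := hE i q hq q (quot_kills i q hq)
  obtain ⟨e₀', -, -, hu'⟩ := hE i q' hq' q' (quot_kills i q' hq')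
  have h1 : e ≫ e' = 𝟙 Q := by
    rw [hu (e ≫ e') (by rw [← Category.assoc, he2, he2']), ← hu (𝟙 Q) (Category.comp_id _)]
  have h2 : e' ≫ e = 𝟙 Q' := by
    rw [hu' (e' ≫ e) (by rw [← Category.assoc, he2', he2]), ← hu' (𝟙 Q') (Category.comp_id _)]
  have : IsMonHom (Iso.mk e e' h1 h2).hom := he1
  exact ⟨Grp.mkIso' (Iso.mk e e' h1 h2), he2⟩

end Quot

section T1

variable (hD : PkgD.{u}) (hP : PkgP.{u}) (hQ : PkgQ.{u}) (hE : PkgE.{u}) (hB : PkgB.{u})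

variable {S S₁ S₂ : Scheme.{u}} (f₁ : S₁ ⟶ S) (f₂ : S₂ ⟶ S) {T H Q : Over S} [GrpObj T] [GrpObj H]
  [GrpObj Q]

include hD hP hQ hE hB in
/-- Local analysis of a quotient of a torus by a subgroup of multiplicative type, on the common
refinement of two trivialising coverings. -/
theorem localQuot (i : H ⟶ T) [IsMonHom i] [Mono i] (q : T ⟶ Q) [IsMonHom q]
    (hq : RedSub.IsQuotient i q)
    (hH : ∀ s₁ : S₁, ∃ U : S₁.Opens, s₁ ∈ U ∧ ∃ (N : Type) (_ : AddCommGroup N), AddGroup.FG N ∧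
      Nonempty (Grp.mk (Red.bc (U.ι ≫ f₁) H) ≅ Grp.mk (Red.DS (U : Scheme.{u}) N)))
    (hT : ∀ s₂ : S₂, ∃ U : S₂.Opens, s₂ ∈ U ∧ ∃ r : ℕ,
      Red.IsSplitTorusWith (Fin r → ℤ) (Red.bc (U.ι ≫ f₂) T))
    (t : ↑(pullback f₂ f₁)) :
    ∃ (W : (pullback f₂ f₁).Opens), t ∈ W ∧ ∃ r' : ℕ,
      Red.IsSplitTorusWith (Fin r' → ℤ) (Red.bc (W.ι ≫ pullback.snd f₂ f₁ ≫ f₁) Q) := by
  obtain ⟨U₁, h1, N, _, hN, ⟨ψ₁⟩⟩ := hH ((pullback.snd f₂ f₁) t)
  obtain ⟨U₂, h2, r, ⟨ψ₂⟩⟩ := hT ((pullback.fst f₂ f₁) t)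
  have hfg : AddGroup.FG (Fin r → ℤ) := Module.Finite.iff_addGroup_fg.1 inferInstance
  let T₀ : (pullback f₂ f₁).Opens := (pullback.snd f₂ f₁) ⁻¹ᵁ U₁ ⊓ (pullback.fst f₂ f₁) ⁻¹ᵁ U₂
  have htT₀ : t ∈ T₀ := ⟨h1, h2⟩
  let g₀ : (T₀ : Scheme.{u}) ⟶ S := T₀.ι ≫ pullback.snd f₂ f₁ ≫ f₁
  let a₁ : (T₀ : Scheme.{u}) ⟶ U₁ := (pullback.snd f₂ f₁).resLE U₁ T₀ inf_le_left
  let a₂ : (T₀ : Scheme.{u}) ⟶ U₂ := (pullback.fst f₂ f₁).resLE U₂ T₀ inf_le_right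
  have e₁ : a₁ ≫ (U₁.ι ≫ f₁) = g₀ := by
    rw [← Category.assoc, Scheme.Hom.resLE_comp_ι, Category.assoc]
  have e₂ : a₂ ≫ (U₂.ι ≫ f₂) = g₀ := by
    rw [← Category.assoc, Scheme.Hom.resLE_comp_ι, Category.assoc, pullback.condition]
  let ψH := trivBC (U₁.ι ≫ f₁) ψ₁ a₁ g₀ e₁
  let ψT := trivBC (U₂.ι ≫ f₂) ψ₂ a₂ g₀ e₂
  obtain ⟨W₀, φ, hW₀, hkey⟩ := localForm i g₀ hfg ψH ψT ⟨t, htT₀⟩
  let W : (pullback f₂ f₁).Opens := T₀.ι ''ᵁ W₀
  have htW : t ∈ W := ⟨⟨t, htT₀⟩, hW₀, rfl⟩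
  refine ⟨W, htW, ?_⟩
  have hgT₀ : Set.range W.ι.base ⊆ Set.range T₀.ι.base := by
    rintro _ ⟨y, rfl⟩
    obtain ⟨w, -, hw⟩ := y.2
    exact ⟨w, hw⟩
  let g' : (W : Scheme.{u}) ⟶ (T₀ : Scheme.{u}) := IsOpenImmersion.lift T₀.ι W.ι hgT₀
  have hg' : g' ≫ T₀.ι = W.ι := IsOpenImmersion.lift_fac T₀.ι W.ι hgT₀
  have hg'W : Set.range g'.base ⊆ (W₀ : Set ↑(T₀ : Scheme.{u})) := by
    rintro _ ⟨y, rfl⟩
    obtain ⟨w, hwW, hw⟩ := y.2
    have : w = g' y := by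
      apply T₀.ι.isOpenEmbedding.injective
      refine Eq.trans hw ?_
      rw [← Scheme.Hom.comp_apply, hg']
      rfl
    rw [← this]
    exact hwW
  let h : (W : Scheme.{u}) ⟶ S := W.ι ≫ pullback.snd f₂ f₁ ≫ f₁
  have heq : g' ≫ g₀ = h := by
    simp only [g₀, h]
    rw [← Category.assoc, hg']
  obtain ⟨α, β, hsq⟩ := hkey W g' h heq hg'W
  -- `φ` is surjective
  have i1 : (monoProp : MorphismProperty Scheme.{u}).RespectsIso := (monoData hD hP).respectsIso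
  have hm0 : monoProp i.left := (inferInstance : Mono i.left)
  have hm1 : monoProp ((Over.pullback h).map i).left := (monoData hD hP).baseChange h i hm0
  have hm2 : monoProp (Red.DSmap W φ).left :=
    (prop_iff_of_sq monoProp ((Grp.forget _).mapIso α) ((Grp.forget _).mapIso β) hsq).1 hm1
  have hsurj : Function.Surjective φ := (hP W φ).2.2.2.1 ⟨⟨t, htW⟩⟩ hm2
  -- the kernel
  let K : AddSubgroup (Fin r → ℤ) := φ.ker
  have hexact : ∀ m, φ m = 0 ↔ m ∈ K.subtype.range := by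
    intro m
    rw [AddSubgroup.range_subtype]
    exact (AddMonoidHom.mem_ker).symm
  have hQ' : RedSub.IsQuotient (Red.DSmap W φ) (Red.DSmap W K.subtype) :=
    hQ W K.subtype φ hfg K.subtype_injective hsurj hexact
  -- the given quotient, transported
  have hq1 : RedSub.IsQuotient ((Over.pullback h).map i) ((Over.pullback h).map q) := hB.1 h i q hq
  have hq2 := hB.2 β α ((Over.pullback h).map i) ((Over.pullback h).map q) hq1
  have hi' : α.inv.hom.hom ≫ (Over.pullback h).map i ≫ β.hom.hom.hom = Red.DSmap W φ := by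
    rw [hsq]
    have : α.inv.hom.hom ≫ α.hom.hom.hom = 𝟙 _ := congrArg (fun k => k.hom.hom) α.inv_hom_id
    rw [reassoc_of% this]
  rw [hi'] at hq2
  have : IsMonHom (Red.DSmap W K.subtype) := Groth.Agent.Lib.Helper27DiagSub.isMonHom_DSmap _ _
  obtain ⟨e, -⟩ := quot_unique hE (Red.DSmap W φ) (β.inv.hom.hom ≫ (Over.pullback h).map q)
    (Red.DSmap W K.subtype) hq2 hQ'
  obtain ⟨r', -, ⟨eK⟩⟩ := exists_equiv_of_subgroup K
  obtain ⟨e2⟩ := nonempty_dsIso (S := W) hP eK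
  exact ⟨r', ⟨e ≪≫ e2⟩⟩

include hD hP hQ hE hB in
/-- **S16615**: the quotient of a torus by a subgroup of multiplicative type is a torus. -/
theorem isTorus_quotient (hT : Red.IsTorus T) (i : H ⟶ T) [IsMonHom i] [Mono i]
    (hH : SGA3x.IsMultTypeFT H) (q : T ⟶ Q) [IsMonHom q] (hq : RedSub.IsQuotient i q) :
    Red.IsTorus Q := by
  obtain ⟨S₂, f₂, hfl₂, hsj₂, hc₂, hT'⟩ := hT
  obtain ⟨S₁, f₁, hfl₁, hsj₁, hc₁, hH'⟩ := hH
  have cov₁ : IsFpqcCov f₁ := ⟨hfl₁, hsj₁, hc₁⟩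
  have cov₂ : IsFpqcCov f₂ := ⟨hfl₂, hsj₂, hc₂⟩
  have covf : IsFpqcCov (pullback.snd f₂ f₁ ≫ f₁) := hD.2.2.1 _ _ (hD.2.1 f₂ f₁ cov₂) cov₁
  refine ⟨pullback f₂ f₁, pullback.snd f₂ f₁ ≫ f₁, covf.1, covf.2.1, covf.2.2, fun t => ?_⟩
  obtain ⟨W, htW, r', hW⟩ := localQuot hD hP hQ hE hB f₁ f₂ i q hq hH' hT' t
  exact ⟨W, htW, r', hW⟩

end T1

end Groth.Agent.R2.H97.MTQuot
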