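import Groth.Agent.R2.H97MTTori

/-!
# PROJ:mt-hom (helper97): split tori — base change, homs between split groups, maximal split
subtori (S16614)
-/

set_option autoImplicit false

universe u

open CategoryTheory MonoidalCategory CartesianMonoidalCategory MonObj GrpObj AlgebraicGeometry
  CategoryTheory.Limits

namespace Groth.Agent.R2.H97.MTSplit

open Groth.Agent.R2.H97.MTSpec Groth.Agent.R2.H97.MTBase Groth.Agent.R2.H97.MTHom
  Groth.Agent.R2.H97.MTAsm Groth.Agent.R2.H97.MTTori

section Basic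

variable {S : Scheme.{u}}

/-- Base change of a split group is split. -/
lemma split_bc {S' : Scheme.{u}} (g : S' ⟶ S) {M : Type} [AddCommGroup M] {T : Over S} [GrpObj T]
    (h : Red.IsSplitTorusWith M T) : Red.IsSplitTorusWith M (Red.bc g T) := by
  obtain ⟨ψ⟩ := h
  exact ⟨mapGrpIso g ψ ≪≫ dsBC g M⟩

/-- A split torus is a torus. -/
lemma isTorus_of_split {r : ℕ} {T : Over S} [GrpObj T]
    (h : Red.IsSplitTorusWith (Fin r → ℤ) T) : Red.IsTorus T := by
  refine ⟨S, 𝟙 S, inferInstance, inferInstance, fun V hV => ⟨V, hV.isCompact, ?_⟩, fun s' => ?_⟩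
  · simp
  · exact ⟨⊤, trivial, r, split_bc _ h⟩

/-- The geometric fibres of a split torus are split. -/
lemma split_geomFibre {M : Type} [AddCommGroup M] {T : Over S} [GrpObj T]
    (h : Red.IsSplitTorusWith M T) (s : S) : Red.IsSplitTorusWith M (Red.geomFibre s T) :=
  split_bc _ h

/-- A morphism which becomes a homomorphism after composing with a monomorphic homomorphism is a
homomorphism. -/
lemma isMonHom_of_comp_mono {A B C : Over S} [GrpObj A] [GrpObj B] [GrpObj C] (g : A ⟶ B)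
    (j' : B ⟶ C) [IsMonHom j'] [Mono j'] (j : A ⟶ C) [IsMonHom j] (e : g ≫ j' = j) : IsMonHom g where
  one_hom := by
    rw [← cancel_mono j', Category.assoc, e, IsMonHom.one_hom, IsMonHom.one_hom]
  mul_hom := by
    rw [← cancel_mono j', Category.assoc, e, Category.assoc, IsMonHom.mul_hom, IsMonHom.mul_hom]
    rw [tensorHom_comp_tensorHom_assoc, e]

end Basic

section Homs

variable {S : Scheme.{u}} {G H : Over S} [GrpObj G] [GrpObj H] (u : G ⟶ H) [IsMonHom u]

/-- Local structure of a homomorphism between split groups (uniform in the property). -/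
theorem localKeyId {M N : Type} [AddCommGroup M] [AddCommGroup N] (hN : AddGroup.FG N)
    (ψG : Grp.mk G ≅ Grp.mk (Red.DS S M)) (ψH : Grp.mk H ≅ Grp.mk (Red.DS S N)) (s : S) :
    ∃ (W : S.Opens) (φ : N →+ M), s ∈ W ∧ ∀ (P : MorphismProperty Scheme.{u}) [P.RespectsIso]
      (T : Scheme.{u}) (g : T ⟶ S), Set.range g.base ⊆ (W : Set S) →
        (P ((Over.pullback g).map u).left ↔ P (Red.DSmap T φ).left) := by
  let u₀ : Red.DS S M ⟶ Red.DS S N := ψG.inv.hom.hom ≫ u ≫ ψH.hom.hom.hom
  have : IsMonHom u₀ := inferInstance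
  obtain ⟨W, φ, ht, hW⟩ := exists_local u₀ hN s
  refine ⟨W, φ, ht, fun P _ T g hg => ?_⟩
  have e1 : (Over.pullback g).map u₀ = (Over.pullback g).map (Red.DSmap S φ) :=
    pullback_map_eq_of_points g u₀ _ (fun X x hX => hW X x (hX.trans hg))
  rw [prop_conj P ψG ψH u g]
  change P ((Over.pullback g).map u₀).left ↔ _
  rw [e1]
  exact prop_iff_of_sq P ((Grp.forget _).mapIso (dsBC g M)) ((Grp.forget _).mapIso (dsBC g N))
    (dsBC_DSmap g φ)

variable (hD : PkgD.{u}) (hP : PkgP.{u})

include hD hP in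
/-- A monomorphic homomorphism between split groups over a nonempty base gives a surjection of
character groups. -/
theorem exists_surjective_of_mono [Mono u] {M N : Type} [AddCommGroup M] [AddCommGroup N]
    (hN : AddGroup.FG N) (hG : Red.IsSplitTorusWith M G) (hH : Red.IsSplitTorusWith N H) (s : S) :
    ∃ φ : N →+ M, Function.Surjective φ := by
  obtain ⟨ψG⟩ := hG
  obtain ⟨ψH⟩ := hH
  obtain ⟨W, φ, hs, hkey⟩ := localKeyId u hN ψG ψH s
  refine ⟨φ, ?_⟩
  have i1 : (monoProp : MorphismProperty Scheme.{u}).RespectsIso := (monoData hD hP).respectsIso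
  have hk := hkey monoProp W W.ι (by simp)
  have hm0 : monoProp u.left := (inferInstance : Mono u.left)
  have hm1 : monoProp ((Over.pullback W.ι).map u).left := (monoData hD hP).baseChange W.ι u hm0
  exact (hP W φ).2.2.2.1 ⟨⟨s, hs⟩⟩ (hk.1 hm1)

end Homs

section Trivial

variable {S : Scheme.{u}}

/-- The trivial homomorphism. -/
instance isMonHom_one {T G : Over S} [GrpObj T] [GrpObj G] : IsMonHom (1 : T ⟶ G) where
  one_hom := by rw [MonObj.comp_one, MonObj.one_eq_one]
  mul_hom := by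
    rw [MonObj.comp_one, MonObj.mul_eq_mul G, MonObj.comp_mul, tensorHom_fst, tensorHom_snd,
      MonObj.comp_one, MonObj.comp_one, _root_.one_mul]

/-- `D_S(M)` has only one point when `M` is trivial. -/
lemma eq_of_subsingleton {M : Type} [AddCommGroup M] [Subsingleton M] {X : Over S}
    (x y : X ⟶ Red.DS S M) : x = y :=
  Groth.Agent.R2.H55.DSPts.dsFn_injective x y (fun m => by
    rw [Subsingleton.elim m 0, Groth.Agent.R2.H55.DSPts.dsFn_zero,
      Groth.Agent.R2.H55.DSPts.dsFn_zero])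

/-- Every morphism out of `D_S(0)` is a monomorphism. -/
lemma mono_of_subsingleton {M : Type} [AddCommGroup M] [Subsingleton M] {G : Over S}
    (j : Red.DS S M ⟶ G) : Mono j :=
  ⟨fun x y _ => eq_of_subsingleton x y⟩

end Trivial

section MaxSplit

lemma exists_bound {M : Type} [AddCommGroup M] (hM : AddGroup.FG M) :
    ∃ b : ℕ, ∀ (r : ℕ) (φ : M →+ (Fin r → ℤ)), Function.Surjective φ → r ≤ b := by
  have : Module.Finite ℤ M := Module.Finite.iff_addGroup_fg.2 hM
  obtain ⟨b, f, hf⟩ := Module.Finite.exists_fin' ℤ M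
  refine ⟨b, fun r φ hφ => ?_⟩
  exact le_of_fin_surjective ℤ (φ.toIntLinearMap.comp f) (hφ.comp hf)

variable (hD : PkgD.{u}) (hP : PkgP.{u})

include hD hP in
/-- **S16614**: existence of a maximal split subtorus. -/
theorem exists_maximal_split {S : Scheme.{u}} {G : Over S} [GrpObj G]
    (hG : SGA3x.IsMultTypeFT G) :
    ∃ (T : Over S) (_ : GrpObj T) (j : T ⟶ G) (r : ℕ), IsMonHom j ∧ Mono j ∧
      Red.IsSplitTorusWith (Fin r → ℤ) T ∧
      ∀ (T' : Over S) [GrpObj T'] (j' : T' ⟶ G) [IsMonHom j'] [Mono j'] (r' : ℕ) (g : T ⟶ T'),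
        Red.IsSplitTorusWith (Fin r' → ℤ) T' → g ≫ j' = j → IsIso g := by
  have hfg : ∀ r : ℕ, AddGroup.FG (Fin r → ℤ) := fun r =>
    Module.Finite.iff_addGroup_fg.1 inferInstance
  by_cases hS : Nonempty S
  · obtain ⟨s₀⟩ := hS
    -- the set of ranks of split subtori
    let R : Set ℕ := {r | ∃ (T : Over S) (_ : GrpObj T) (j : T ⟶ G), IsMonHom j ∧ Mono j ∧
      Red.IsSplitTorusWith (Fin r → ℤ) T}
    have h0 : (0 : ℕ) ∈ R :=
      ⟨Red.DS S (Fin 0 → ℤ), inferInstance, 1, inferInstance, mono_of_subsingleton _, ⟨Iso.refl _⟩⟩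
    -- boundedness
    obtain ⟨S', f, -, hsurj, -, hloc⟩ := hG
    obtain ⟨s', hs'⟩ := hsurj.surj s₀
    obtain ⟨U, hU, M, _, hM, ⟨ψ⟩⟩ := hloc s'
    obtain ⟨b, hb⟩ := exists_bound hM
    have hbdd : BddAbove R := by
      refine ⟨b, ?_⟩
      rintro r ⟨T, _, j, _, _, hT⟩
      have hm : Mono ((Over.pullback (U.ι ≫ f)).map j) := inferInstance
      obtain ⟨φ, hφ⟩ := exists_surjective_of_mono ((Over.pullback (U.ι ≫ f)).map j) hD hP hM
        (split_bc (U.ι ≫ f) hT) ⟨ψ⟩ ⟨s', hU⟩
      exact hb r φ hφ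
    obtain ⟨T, _, j, hj1, hj2, hT⟩ : sSup R ∈ R := Nat.sSup_mem ⟨0, h0⟩ hbdd
    refine ⟨T, inferInstance, j, sSup R, hj1, hj2, hT, ?_⟩
    intro T' _ j' _ _ r' g hT' hg
    have hr' : r' ≤ sSup R := le_csSup hbdd ⟨T', inferInstance, j', inferInstance, inferInstance, hT'⟩
    have : IsMonHom g := isMonHom_of_comp_mono g j' j hg
    have : Mono g := by
      have : Mono (g ≫ j') := by rw [hg]; infer_instance
      exact mono_of_mono g j'
    obtain ⟨φ, hφ⟩ := exists_surjective_of_mono g hD hP (hfg r') hT hT' s₀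
    have hr : sSup R ≤ r' := le_of_fin_surjective ℤ φ.toIntLinearMap hφ
    obtain rfl : r' = sSup R := le_antisymm hr' hr
    exact isIso_of_mono_tori hD hP (isTorus_of_split hT) (isTorus_of_split hT') g
      (fun s => ⟨_, split_geomFibre hT s, split_geomFibre hT' s⟩)
  · have hE : IsEmpty S := not_nonempty_iff.1 hS
    refine ⟨Red.DS S (Fin 0 → ℤ), inferInstance, 1, 0, inferInstance, mono_of_subsingleton _,
      ⟨Iso.refl _⟩, ?_⟩
    intro T' _ j' _ _ r' g _ _
    have : IsEmpty T'.left := Function.isEmpty T'.hom.base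
    have : IsIso ((Over.forget S).map g) := inferInstanceAs (IsIso g.left)
    exact isIso_of_reflects_iso g (Over.forget S)

end MaxSplit

end Groth.Agent.R2.H97.MTSplit
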