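import Groth.Agent.R2.H97MTQ2

/-!
# Exact sequences of split tori over a field split (helper97; S14754)
-/

set_option autoImplicit false

universe u

open CategoryTheory MonoidalCategory CartesianMonoidalCategory MonObj GrpObj AlgebraicGeometry Limits

namespace Groth.Agent.R2.H97.MTSplitSeq

open Groth.Agent.R2.H97.MTSpec Groth.Agent.R2.H97.MTBase Groth.Agent.R2.H97.MTHom
  Groth.Agent.R2.H97.MTQSpec Groth.Agent.R2.H97.MTQK Groth.Agent.R2.H55.DSPts
  Groth.Agent.R2.H60.MTP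

section Algebra

/-- An exact sequence `0 → A → B → C → 0` of commutative groups with `C` free admits a retraction
of `A → B`. -/
lemma exists_retraction {A B C : Type} [AddCommGroup A] [AddCommGroup B] [AddCommGroup C]
    [Module.Free ℤ C] (φ : A →+ B) (j : B →+ C) (hφ : Function.Injective φ)
    (hj : Function.Surjective j) (hex : ∀ b, j b = 0 ↔ b ∈ φ.range) :
    ∃ ρ : B →+ A, ρ.comp φ = AddMonoidHom.id A := by
  have hexact : Function.Exact φ.toIntLinearMap j.toIntLinearMap := by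
    intro b
    exact (hex b).trans (by simp [AddMonoidHom.mem_range])
  obtain ⟨σ, hσ⟩ := Module.projective_lifting_property j.toIntLinearMap LinearMap.id hj
  have h01 := (Function.Exact.split_tfae hexact hφ hj).out 0 1
  obtain ⟨l, hl⟩ := h01.mp ⟨σ, hσ⟩
  refine ⟨l.toAddMonoidHom, ?_⟩
  ext a
  exact LinearMap.congr_fun hl a

end Algebra

section Field

variable (k : Type u) [Field k]

instance : Subsingleton ↥(Spec (CommRingCat.of k)) :=
  inferInstanceAs (Subsingleton (PrimeSpectrum k))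

instance : Nonempty ↥(Spec (CommRingCat.of k)) :=
  inferInstanceAs (Nonempty (PrimeSpectrum k))

/-- Over the spectrum of a field, a homomorphism of diagonalisable groups is `D(φ)`. -/
lemma globalForm {M N : Type} [AddCommGroup M] [AddCommGroup N] (hN : AddGroup.FG N)
    (v : Red.DS (Spec (CommRingCat.of k)) M ⟶ Red.DS (Spec (CommRingCat.of k)) N) [IsMonHom v] :
    ∃ φ : N →+ M, v = Red.DSmap _ φ := by
  obtain ⟨s⟩ : Nonempty ↥(Spec (CommRingCat.of k)) := inferInstance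
  obtain ⟨U, φ, hs, h⟩ := exists_local v hN s
  refine ⟨φ, ?_⟩
  have h1 := h (Red.DS _ M) (𝟙 _) (fun x _ => by
    have : x = s := Subsingleton.elim _ _
    rw [this]
    exact hs)
  rwa [Category.id_comp, Category.id_comp] at h1

end Field

section Main

variable (hP : PkgP.{u})

include hP in
/-- **S14754** (no algebraic closedness needed). -/
theorem s14754_of (k : Type u) [Field k]
    (K G Q : Over (Spec (CommRingCat.of k))) [GrpObj K] [GrpObj G] [GrpObj Q] (nK nG nQ : ℕ)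
    (hK : Red.IsSplitTorusWith (Fin nK → ℤ) K) (hG : Red.IsSplitTorusWith (Fin nG → ℤ) G)
    (hQ : Red.IsSplitTorusWith (Fin nQ → ℤ) Q)
    (i : K ⟶ G) [IsMonHom i] [IsClosedImmersion i.left]
    (π : G ⟶ Q) [IsMonHom π] [Flat π.left] [Surjective π.left] (hker : AlgGrp.IsKernel i π) :
    ∃ s : Q ⟶ G, IsMonHom s ∧ s ≫ π = 𝟙 Q := by
  obtain ⟨ψK⟩ := hK
  obtain ⟨ψG⟩ := hG
  obtain ⟨ψQ⟩ := hQ
  have eK1 : ψK.hom.hom.hom ≫ ψK.inv.hom.hom = 𝟙 _ := congrArg (fun k => k.hom.hom) ψK.hom_inv_id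
  have eK2 : ψK.inv.hom.hom ≫ ψK.hom.hom.hom = 𝟙 _ := congrArg (fun k => k.hom.hom) ψK.inv_hom_id
  have eG1 : ψG.hom.hom.hom ≫ ψG.inv.hom.hom = 𝟙 _ := congrArg (fun k => k.hom.hom) ψG.hom_inv_id
  have eG2 : ψG.inv.hom.hom ≫ ψG.hom.hom.hom = 𝟙 _ := congrArg (fun k => k.hom.hom) ψG.inv_hom_id
  have eQ1 : ψQ.hom.hom.hom ≫ ψQ.inv.hom.hom = 𝟙 _ := congrArg (fun k => k.hom.hom) ψQ.hom_inv_id
  have eQ2 : ψQ.inv.hom.hom ≫ ψQ.hom.hom.hom = 𝟙 _ := congrArg (fun k => k.hom.hom) ψQ.inv_hom_id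
  have hfg : ∀ r : ℕ, AddGroup.FG (Fin r → ℤ) := fun r =>
    Module.Finite.iff_addGroup_fg.1 inferInstance
  obtain ⟨φ, hφ⟩ := globalForm k (hfg nQ) (ψG.inv.hom.hom ≫ π ≫ ψQ.hom.hom.hom)
  obtain ⟨j, hj⟩ := globalForm k (hfg nG) (ψK.inv.hom.hom ≫ i ≫ ψG.hom.hom.hom)
  -- `φ` is injective
  have isoG : IsIso ψG.inv.hom.hom.left :=
    inferInstanceAs (IsIso ((Over.forget _).map ((Grp.forget _).mapIso ψG).inv))
  have isoQ : IsIso ψQ.hom.hom.hom.left :=
    inferInstanceAs (IsIso ((Over.forget _).map ((Grp.forget _).mapIso ψQ).hom))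
  have isoK : IsIso ψK.inv.hom.hom.left :=
    inferInstanceAs (IsIso ((Over.forget _).map ((Grp.forget _).mapIso ψK).inv))
  have isoG' : IsIso ψG.hom.hom.hom.left :=
    inferInstanceAs (IsIso ((Over.forget _).map ((Grp.forget _).mapIso ψG).hom))
  have hφinj : Function.Injective φ := by
    refine (hP (Spec (CommRingCat.of k)) φ).2.2.2.2 inferInstance ?_ ?_
    · rw [← hφ]
      simp only [Over.comp_left]
      infer_instance
    · rw [← hφ]
      simp only [Over.comp_left]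
      infer_instance
  have hjsurj : Function.Surjective j := by
    refine (hP (Spec (CommRingCat.of k)) j).2.2.2.1 inferInstance ?_
    rw [← hj]
    simp only [Over.comp_left]
    infer_instance
  -- the composite is trivial
  have hkill : i ≫ π = 1 := by
    rw [hker.w]
    rfl
  have hπ : ψG.inv.hom.hom ≫ π = Red.DSmap _ φ ≫ ψQ.inv.hom.hom := by
    rw [← hφ]
    simp only [Category.assoc]
    rw [eQ1, Category.comp_id]
  have hkill' : Red.DSmap (Spec (CommRingCat.of k)) j ≫ Red.DSmap _ φ = 1 := by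
    rw [← hj, ← hφ]
    simp only [Category.assoc]
    rw [reassoc_of% eG1, reassoc_of% hkill]
    have h1 : (1 : K ⟶ Q) ≫ ψQ.hom.hom.hom = 1 := MonObj.one_comp _
    rw [h1, MonObj.comp_one]
  -- exactness
  have hex : ∀ b, j b = 0 ↔ b ∈ φ.range := by
    intro b
    constructor
    · intro hb
      have hp0 : ∀ a, QuotientAddGroup.mk' φ.range (φ a) = 0 := fun a =>
        (QuotientAddGroup.eq_zero_iff _).2 ⟨a, rfl⟩
      have h1 : Red.DSmap (Spec (CommRingCat.of k)) (QuotientAddGroup.mk' φ.range) ≫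
          Red.DSmap _ φ = 1 := DSmap_comp_eq_one φ _ hp0
      have h2 : (Red.DSmap (Spec (CommRingCat.of k)) (QuotientAddGroup.mk' φ.range) ≫
          ψG.inv.hom.hom) ≫ π = toUnit _ ≫ η[Q] := by
        rw [Category.assoc, hπ, reassoc_of% h1]
        have h3 : (1 : Red.DS (Spec (CommRingCat.of k)) ((Fin nG → ℤ) ⧸ φ.range) ⟶ _) ≫
            ψQ.inv.hom.hom = 1 := MonObj.one_comp _
        rw [h3]
        rfl
      have hl := hker.lift_fst _ _ h2
      have h4 : Red.DSmap (Spec (CommRingCat.of k)) (QuotientAddGroup.mk' φ.range) =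
          (hker.lift _ _ h2 ≫ ψK.hom.hom.hom) ≫ Red.DSmap _ j := by
        rw [← hj]
        simp only [Category.assoc]
        rw [reassoc_of% eK1, reassoc_of% hl, eG2, Category.comp_id]
      have h5 : dsFn (𝟙 (Red.DS (Spec (CommRingCat.of k)) ((Fin nG → ℤ) ⧸ φ.range)))
          (QuotientAddGroup.mk' φ.range b) = 1 := by
        rw [← dsFn_DSmap_id, h4, dsFn_DSmap, hb, dsFn_zero]
      exact (QuotientAddGroup.eq_zero_iff b).1 (eq_zero_of_dsFn_id_eq_one _ h5)
    · rintro ⟨a, rfl⟩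
      apply eq_zero_of_dsFn_id_eq_one (S := Spec (CommRingCat.of k))
      rw [← dsFn_DSmap_id, ← dsFn_DSmap, hkill', dsFn_one]
  obtain ⟨ρ, hρ⟩ := exists_retraction φ j hφinj hjsurj hex
  have hmon : IsMonHom (Red.DSmap (Spec (CommRingCat.of k)) ρ) :=
    Groth.Agent.Lib.Helper27DiagSub.isMonHom_DSmap _ _
  refine ⟨ψQ.hom.hom.hom ≫ Red.DSmap _ ρ ≫ ψG.inv.hom.hom, inferInstance, ?_⟩
  have h3 : Red.DSmap (Spec (CommRingCat.of k)) ρ ≫ Red.DSmap _ φ = 𝟙 _ := by
    rw [DSmap_comp, hρ, DSmap_id]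
  simp only [Category.assoc]
  rw [hπ, reassoc_of% h3, eQ1]

end Main

end Groth.Agent.R2.H97.MTSplitSeq
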