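import Groth.Agent.R2.H97MTAsm

/-!
# PROJ:mt-hom (helper97): monomorphisms of tori of the same rank are isomorphisms (S16611)
-/

set_option autoImplicit false

universe u

open CategoryTheory MonoidalCategory CartesianMonoidalCategory MonObj GrpObj AlgebraicGeometry
  CategoryTheory.Limits

namespace Groth.Agent.R2.H97.MTTori

open Groth.Agent.R2.H97.MTSpec Groth.Agent.R2.H97.MTBase Groth.Agent.R2.H97.MTHom
  Groth.Agent.R2.H97.MTAsm

section Local

variable {S T₀ : Scheme.{u}} {G H : Over S} [GrpObj G] [GrpObj H] (u : G ⟶ H) [IsMonHom u]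

/-- Local analysis on a base where both groups are diagonalisable: uniform in the property. -/
theorem localKey' (g₀ : T₀ ⟶ S) {M N : Type} [AddCommGroup M] [AddCommGroup N] (hN : AddGroup.FG N)
    (ψG : Grp.mk (Red.bc g₀ G) ≅ Grp.mk (Red.DS T₀ M))
    (ψH : Grp.mk (Red.bc g₀ H) ≅ Grp.mk (Red.DS T₀ N)) (t₀ : T₀) :
    ∃ (W : T₀.Opens) (φ : N →+ M), t₀ ∈ W ∧ ∀ (P : MorphismProperty Scheme.{u}) [P.RespectsIso]
      (T : Scheme.{u}) (g : T ⟶ T₀), Set.range g.base ⊆ (W : Set T₀) →
        (P ((Over.pullback (g ≫ g₀)).map u).left ↔ P (Red.DSmap T φ).left) := by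
  let u₀ : Red.DS T₀ M ⟶ Red.DS T₀ N :=
    ψG.inv.hom.hom ≫ (Over.pullback g₀).map u ≫ ψH.hom.hom.hom
  have : IsMonHom u₀ := inferInstance
  obtain ⟨W, φ, ht, hW⟩ := exists_local u₀ hN t₀
  refine ⟨W, φ, ht, fun P _ T g hg => ?_⟩
  have e1 : (Over.pullback g).map u₀ = (Over.pullback g).map (Red.DSmap T₀ φ) :=
    pullback_map_eq_of_points g u₀ _ (fun X x hX => hW X x (hX.trans hg))
  rw [prop_bcComp P g g₀ u, prop_conj P ψG ψH ((Over.pullback g₀).map u) g]
  change P ((Over.pullback g).map u₀).left ↔ _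
  rw [e1]
  exact prop_iff_of_sq P ((Grp.forget _).mapIso (dsBC g M)) ((Grp.forget _).mapIso (dsBC g N))
    (dsBC_DSmap g φ)

end Local

/-- An extension of fields is a generalised fpqc covering. -/
lemma isFpqcCov_SpecMap_field {K L : Type u} [Field K] [Field L] [Algebra K L] :
    IsFpqcCov (Spec.map (CommRingCat.ofHom (algebraMap K L))) := by
  have hflat : Flat (Spec.map (CommRingCat.ofHom (algebraMap K L))) := by
    rw [HasRingHomProperty.Spec_iff (P := @Flat)]
    exact (RingHom.flat_algebraMap_iff).2 inferInstance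
  have hsurj : Surjective (Spec.map (CommRingCat.ofHom (algebraMap K L))) := by
    constructor
    intro y
    refine ⟨⟨⊥, Ideal.isPrime_bot⟩, ?_⟩
    have : Subsingleton (PrimeSpectrum K) := inferInstance
    exact Subsingleton.elim _ _
  exact isFpqcCov_of_quasiCompact _

/-- A torus is a group of multiplicative type of finite type. -/
lemma isMultTypeFT_of_isTorus {S : Scheme.{u}} {T : Over S} [GrpObj T] (hT : Red.IsTorus T) :
    SGA3x.IsMultTypeFT T := by
  obtain ⟨S', f, h1, h2, h3, h4⟩ := hT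
  refine ⟨S', f, h1, h2, h3, fun s' => ?_⟩
  obtain ⟨U, hU, r, hr⟩ := h4 s'
  refine ⟨U, hU, Fin r → ℤ, inferInstance, ?_, hr⟩
  exact Module.Finite.iff_addGroup_fg.1 inferInstance

section Main

variable (hD : PkgD.{u}) (hP : PkgP.{u})

include hD hP in
/-- **S16611**: a monomorphism of tori with the same rank function is an isomorphism. -/
theorem isIso_of_mono_tori {S : Scheme.{u}} {T T' : Over S} [GrpObj T] [GrpObj T']
    (hT : Red.IsTorus T) (hT' : Red.IsTorus T') (f : T ⟶ T') [IsMonHom f] [Mono f]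
    (hrk : ∀ s : ↥S, ∃ r : ℕ, Red.IsSplitTorusWith (Fin r → ℤ) (Red.geomFibre s T) ∧
      Red.IsSplitTorusWith (Fin r → ℤ) (Red.geomFibre s T')) : IsIso f := by
  obtain ⟨U, -, hU, hiso⟩ := s5275_of hD hP T T' (isMultTypeFT_of_isTorus hT)
    (isMultTypeFT_of_isTorus hT') f
  have hall : ∀ s : S, s ∈ U := by
    intro s
    rw [hU]
    obtain ⟨r, ⟨ψ⟩, ⟨ψ'⟩⟩ := hrk s
    let T₀ : Scheme.{u} := Spec (CommRingCat.of (AlgebraicClosure (S.residueField s)))
    have hsub : Subsingleton (PrimeSpectrum (AlgebraicClosure (S.residueField s))) := inferInstance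
    let pt : T₀ := (⟨⊥, Ideal.isPrime_bot⟩ : PrimeSpectrum (AlgebraicClosure (S.residueField s)))
    have hfg : AddGroup.FG (Fin r → ℤ) := Module.Finite.iff_addGroup_fg.1 inferInstance
    obtain ⟨W, φ, hptW, hkey⟩ := localKey' f (Red.geomPt s) hfg ψ ψ' pt
    have hW : Set.range (𝟙 T₀ : T₀ ⟶ T₀).base ⊆ (W : Set T₀) := by
      rintro x -
      have : x = pt := hsub.elim _ _
      rw [this]
      exact hptW
    have hm0 : monoProp f.left := (inferInstance : Mono f.left)
    have hm1 : monoProp ((Over.pullback (Red.geomPt s)).map f).left :=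
      (monoData hD hP).baseChange (Red.geomPt s) f hm0
    have i1 : (monoProp : MorphismProperty Scheme.{u}).RespectsIso := (monoData hD hP).respectsIso
    have i2 : (isoProp : MorphismProperty Scheme.{u}).RespectsIso := (isoData hD hP).respectsIso
    have hk1 := hkey monoProp T₀ (𝟙 T₀) hW
    have hk2 := hkey isoProp T₀ (𝟙 T₀) hW
    rw [Category.id_comp] at hk1 hk2
    have hsurj : Function.Surjective φ := (hP T₀ φ).2.2.2.1 ⟨pt⟩ (hk1.1 hm1)
    have hinj : Function.Injective φ :=
      OrzechProperty.injective_of_surjective_endomorphism φ.toIntLinearMap hsurj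
    have hi1 : isoProp ((Over.pullback (Red.geomPt s)).map f).left :=
      hk2.2 ((hP T₀ φ).2.1 ⟨hinj, hsurj⟩)
    rw [prop_bcComp isoProp _ _ f] at hi1
    exact hD.2.2.2.1.1 _ (isFpqcCov_SpecMap_field (K := S.residueField s)
      (L := AlgebraicClosure (S.residueField s))) _ hi1
  have h1 : isoProp f.left :=
    hD.2.2.2.2.1 f (fun _ : PUnit.{u + 1} => U) (fun s => ⟨⟨⟩, hall s⟩) (fun _ => hiso)
  have h2 : IsIso ((Over.forget S).map f) := h1
  exact isIso_of_reflects_iso f (Over.forget S)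

end Main

end Groth.Agent.R2.H97.MTTori
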