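import Groth.Agent.R2.H37RigidMain
import Groth.Agent.R2.H37RigidUniv
import Groth.Agent.R2.H37SubLocal
import Groth.Agent.R2.H97MTHom
import Groth.Agent.R2.H74MTQ2M

/-!
# The trivial locus of a homomorphism from a group of multiplicative type (helper97)

Basic notions for S5286: `TrivO u T` says that `u : H ⟶ G` kills all points of `H` lying over the
`S`-scheme `T`.

* `trivO_iff`: `TrivO u (Over.mk g) ↔ (Over.pullback g).map u = 1`.
* `trivO_bc`: compatibility with base change.
* `trivO_of_nilpotent`: infinitesimal rigidity (from helper37's `trivial_of_trivial_mod`): if `H` is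
  of multiplicative type and `u` is trivial over `Spec (R/I)` with `I` nilpotent then it is trivial
  over `Spec R`.
-/

set_option autoImplicit false

universe u

open CategoryTheory MonoidalCategory CartesianMonoidalCategory MonObj GrpObj AlgebraicGeometry
  CategoryTheory.Limits

namespace Groth.Agent.R2.H97.TrivLoc

open Groth.Agent.Lib.Helper27.GaGm Groth.Agent.R2.H97.MTHom Groth.Agent.R2.H37.Rigid

section Basic

variable {S : Scheme.{u}} {H G : Over S} [GrpObj H] [GrpObj G] (u : H ⟶ G)

/-- `u` kills all points of `H` lying over `T`. -/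
def TrivO (T : Over S) : Prop :=
  ∀ (X : Over S) (_ : X ⟶ T) (a : X ⟶ H), a ≫ u = 1

omit [GrpObj H] in
variable {u} in
lemma TrivO.comp {T' T : Over S} (t : T' ⟶ T) (h : TrivO u T) : TrivO u T' :=
  fun X x a => h X (x ≫ t) a

lemma trivO_iff {T : Scheme.{u}} (g : T ⟶ S) :
    TrivO u (Over.mk g) ↔ (Over.pullback g).map u = 1 := by
  constructor
  · intro h
    apply (adjEquiv g G (Red.bc g H)).injective
    have e1 := adjEquiv_pullback_map g u (Red.bc g H) (𝟙 _)
    rw [Category.id_comp] at e1
    rw [e1, adjEquiv_one']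
    exact h _ (Over.homMk (Red.bc g H).hom rfl) _
  · intro h X x a
    exact comp_eq_one_of_pullback_map_eq_one g u h X x a

lemma trivO_bc {T₀ : Scheme.{u}} (f : T₀ ⟶ S) (T : Over T₀) :
    TrivO ((Over.pullback f).map u) T ↔ TrivO u ((Over.map f).obj T) := by
  constructor
  · intro h X x a
    let X' : Over T₀ := Over.mk (x.left ≫ T.hom)
    have hw : (x.left ≫ T.hom) ≫ f = X.hom := by
      have := Over.w x
      rw [Category.assoc]
      exact this
    let a' : (Over.map f).obj X' ⟶ H := Over.homMk a.left (by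
      change a.left ≫ H.hom = (x.left ≫ T.hom) ≫ f
      rw [Over.w a, hw])
    have h1 := h X' (Over.homMk x.left rfl) ((adjEquiv f H X').symm a')
    have e1 := adjEquiv_pullback_map f u X' ((adjEquiv f H X').symm a')
    rw [h1, Equiv.apply_symm_apply, adjEquiv_one'] at e1
    apply Over.OverMorphism.ext
    have e2 := congrArg (fun k => k.left) e1
    rw [one_left', Over.comp_left]
    rw [one_left', Over.comp_left] at e2
    rw [← hw]
    exact e2.symm
  · intro h X x a
    apply (adjEquiv f G X).injective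
    rw [adjEquiv_pullback_map, adjEquiv_one']
    exact h _ ((Over.map f).map x) _

/-- a morphism to a group is the unit if it is on the members of an affine open cover. -/
lemma eq_one_of_affineCover {X : Over S} (g : X ⟶ G)
    (h : ∀ i, (Over.homMk (X.left.affineCover.f i) rfl :
      Over.mk (X.left.affineCover.f i ≫ X.hom) ⟶ X) ≫ g = 1) : g = 1 := by
  apply Over.OverMorphism.ext
  apply X.left.affineCover.hom_ext
  intro i
  have e := congrArg (fun k => k.left) (h i)
  rw [one_left']
  rw [one_left', Over.comp_left] at e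
  rw [← Category.assoc]
  exact e

end Basic

section Rigid

variable {S : Scheme.{u}} {H G : Over S} [GrpObj H] [GrpObj G] (u : H ⟶ G) [IsMonHom u]

/-- **Infinitesimal rigidity**: a homomorphism from a group of multiplicative type which is trivial
modulo a nilpotent ideal is trivial. -/
theorem trivO_of_nilpotent (hH : SGA3x.IsMultTypeFT H) {R : Type u} [CommRing R]
    (f : Spec (CommRingCat.of R) ⟶ S) (I : Ideal R) (hI : IsNilpotent I)
    (h : TrivO u (Over.mk (Spec.map (CommRingCat.ofHom (Ideal.Quotient.mk I)) ≫ f))) :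
    TrivO u (Over.mk f) := by
  rw [trivO_iff]
  have hHR : SGA3x.IsMultTypeFT (Red.bc f H) := Groth.Agent.R2.H74.MTQ2M.pkgM f H hH
  have hloc : TwC.Locally (Spec (CommRingCat.of R)) TwC.Topology.fpqc
      (fun S' f' => ∃ (M : Type) (_ : AddCommGroup M),
        Nonempty (Grp.mk (Red.bc f' (Red.bc f H)) ≅ Grp.mk (Red.DS S' M))) := by
    obtain ⟨S', f', h1, h2, h3, h4⟩ := hHR
    refine ⟨S', f', h1, h2, h3, fun s' => ?_⟩
    obtain ⟨U, hU, M, iM, -, e⟩ := h4 s'
    exact ⟨U, hU, M, iM, e⟩
  have : IsClosedImmersion (Spec.map (CommRingCat.ofHom (Ideal.Quotient.mk I))) :=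
    IsClosedImmersion.spec_of_surjective _ Ideal.Quotient.mk_surjective
  let Φ : Red.bc f H ⊗ Red.bc f G ⟶ Red.bc f G :=
    (fst (Red.bc f H) (Red.bc f G) ≫ (Over.pullback f).map u) * snd (Red.bc f H) (Red.bc f G)
  have hΦl : ∀ (T : Over (Spec (CommRingCat.of R))) (g : T ⟶ Red.bc f H) (x : T ⟶ Red.bc f G),
      lift g x ≫ Φ = (g ≫ (Over.pullback f).map u) * x := by
    intro T g x
    change lift g x ≫ ((fst (Red.bc f H) (Red.bc f G) ≫ (Over.pullback f).map u) *
      snd (Red.bc f H) (Red.bc f G)) = _
    rw [MonObj.comp_mul, ← Category.assoc, lift_fst, lift_snd]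
  have key := trivial_of_trivial_mod (Spec.map (CommRingCat.ofHom (Ideal.Quotient.mk I)))
    (Groth.Agent.R2.H37.SubLocal.hnil_spec I hI) (Red.bc f H) (Red.bc f G) hloc Φ ?_ ?_
  · have := key (Red.bc f H) (𝟙 _) 1
    rw [hΦl, Category.id_comp, _root_.mul_one] at this
    exact this
  · intro T g₁ g₂ x
    rw [hΦl, hΦl, hΦl, MonObj.mul_comp, _root_.mul_assoc]
  · intro Y p g x
    rw [hΦl]
    suffices hgf : g ≫ (Over.pullback f).map u = 1 by rw [hgf, _root_.one_mul]
    have hT : TrivO ((Over.pullback f).map u)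
        (Over.mk (Spec.map (CommRingCat.ofHom (Ideal.Quotient.mk I)))) :=
      (trivO_bc u f _).2 h
    exact hT Y p g

end Rigid

end Groth.Agent.R2.H97.TrivLoc
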