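import Groth.Agent.R2.H97TrivLoc
import Groth.Agent.Lib.Helper6LfpComp

/-!
# The trivial locus of a homomorphism: finite generation of the ideal (helper97)

Over an affine base `Spec R`, for a homomorphism `u₀ : H₀ ⟶ G₀` with `H₀` affine and `G₀` separated
and locally of finite type, the kernel `Ker u₀ ⊆ H₀` is a closed subscheme defined by a finitely
generated ideal `IK`.  For an ideal `J' ⊆ R`, the homomorphism `u₀` is trivial over `Spec (R/J')` iff
`IK ⊆ J' · Γ(H₀)`.  Consequently, if the ideals `J'` over which `u₀` is trivial are exactly those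
containing a given ideal `J`, then `J` is finitely generated.
-/

set_option autoImplicit false

universe u

open CategoryTheory MonoidalCategory CartesianMonoidalCategory MonObj GrpObj AlgebraicGeometry
  CategoryTheory.Limits

namespace Groth.Agent.R2.H97.TrivLoc

open Groth.Agent.Lib.Helper27.GaGm Groth.Agent.R2.H97.MTHom Groth.Agent.R2.H37.Rigid

section Alg

/-- a finitely generated ideal contained in an extended ideal is contained in the extension of a
finitely generated subideal. -/
lemma exists_fg_le_of_fg_le_map {R P : Type*} [CommRing R] [CommRing P] (φ : R →+* P)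
    (J : Ideal R) (K : Ideal P) (hK : K.FG) (h : K ≤ J.map φ) :
    ∃ J' : Ideal R, J' ≤ J ∧ J'.FG ∧ K ≤ J'.map φ := by
  have hc : IsCompactElement K := (Submodule.fg_iff_compact K).1 hK
  rw [CompleteLattice.isCompactElement_iff_le_of_directed_sSup_le] at hc
  let s : Set (Ideal P) := {L | ∃ J' : Ideal R, J' ≤ J ∧ J'.FG ∧ L = J'.map φ}
  have hs : s.Nonempty := ⟨⊥, ⊥, bot_le, Submodule.fg_bot, by simp⟩
  have hd : DirectedOn (· ≤ ·) s := by
    rintro _ ⟨J₁, h1, f1, rfl⟩ _ ⟨J₂, h2, f2, rfl⟩
    exact ⟨(J₁ ⊔ J₂).map φ, ⟨J₁ ⊔ J₂, sup_le h1 h2, Submodule.FG.sup f1 f2, rfl⟩,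
      Ideal.map_mono le_sup_left, Ideal.map_mono le_sup_right⟩
  have hle : K ≤ sSup s := by
    refine h.trans ?_
    rw [Ideal.map_le_iff_le_comap]
    intro r hr
    have hmem : (Ideal.span {r}).map φ ∈ s :=
      ⟨Ideal.span {r}, (Ideal.span_singleton_le_iff_mem _).2 hr, ⟨{r}, by simp⟩, rfl⟩
    exact (le_sSup hmem) (Ideal.mem_map_of_mem φ (Ideal.subset_span rfl))
  obtain ⟨L, ⟨J', h1, h2, rfl⟩, h3⟩ := hc s hs hd hle
  exact ⟨J', h1, h2, h3⟩

end Alg

section Ker

variable {S : Scheme.{u}} {H G : Over S} [GrpObj H] [GrpObj G] (u : H ⟶ G) [IsSeparated G.hom]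

/-- the ideal of the kernel of `u` in the ring of global functions on `H`. -/
noncomputable def IK : Ideal Γ(H.left, ⊤) := RingHom.ker (equalizer.ι u 1).left.appTop.hom

omit [GrpObj H] in
/-- a point of an affine `H` from an affine scheme is killed by `u` iff it kills the ideal of the
kernel. -/
lemma comp_eq_one_iff [IsAffine H.left] {X : Over S} [IsAffine X.left] (a : X ⟶ H) :
    a ≫ u = 1 ↔ IK u ≤ RingHom.ker a.left.appTop.hom := by
  have hcl : IsClosedImmersion (equalizer.ι u 1).left := inferInstance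
  constructor
  · intro h z hz
    have h' : a ≫ u = a ≫ 1 := by rw [h, MonObj.comp_one]
    have h1 : equalizer.lift a h' ≫ equalizer.ι u 1 = a := equalizer.lift_ι _ _
    have h2 : a.left = (equalizer.lift a h').left ≫ (equalizer.ι u 1).left := by
      rw [← Over.comp_left, h1]
    rw [RingHom.mem_ker, h2, Scheme.Hom.comp_appTop]
    change ((equalizer.lift a h').left.appTop) ((equalizer.ι u 1).left.appTop z) = 0
    have hz' : (equalizer.ι u 1).left.appTop z = 0 := hz
    rw [hz', map_zero]
  · intro h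
    have hle : (equalizer.ι u 1).left.ker ≤ a.left.ker := by
      apply Scheme.IdealSheafData.le_of_isAffine
      rw [Scheme.Hom.ker_apply, Scheme.Hom.ker_apply]
      exact h
    let l := IsClosedImmersion.lift (equalizer.ι u 1).left a.left hle
    have hl : l ≫ (equalizer.ι u 1).left = a.left := IsClosedImmersion.lift_fac _ _ _
    let l' : X ⟶ equalizer u 1 := Over.homMk l (by
      rw [← Over.w (equalizer.ι u 1), ← Category.assoc, hl, Over.w a])
    have e : l' ≫ equalizer.ι u 1 = a := by
      ext1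
      exact hl
    rw [← e, Category.assoc, equalizer.condition, MonObj.comp_one, MonObj.comp_one]

omit [GrpObj H] [IsSeparated G.hom] in
/-- the kernel is the pull-back of the unit section. -/
lemma isPullback_ker : IsPullback (equalizer.ι u 1) (toUnit (equalizer u 1)) u η[G] := by
  refine ⟨⟨?_⟩, ⟨PullbackCone.IsLimit.mk _ (fun s => equalizer.lift s.fst ?_) ?_ ?_ ?_⟩⟩
  · rw [equalizer.condition, Hom.one_def, ← Category.assoc]
    congr 1
    exact toUnit_unique _ _
  · have e : s.snd = toUnit _ := toUnit_unique _ _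
    rw [s.condition, e, Hom.one_def, ← Category.assoc]
    congr 1
    exact toUnit_unique _ _
  · intro s
    exact equalizer.lift_ι _ _
  · intro s
    exact toUnit_unique _ _
  · intro s m h1 _
    apply equalizer.hom_ext
    rw [h1, equalizer.lift_ι]

omit [GrpObj H] in
/-- the ideal of the kernel is finitely generated when `G` is locally of finite type. -/
lemma IK_fg [IsAffine H.left] [LocallyOfFiniteType G.hom] : (IK u).FG := by
  have hpb := (isPullback_ker u).map (Over.forget S)
  have hη : LocallyOfFinitePresentation (η[G] : 𝟙_ (Over S) ⟶ G).left := by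
    refine Groth.Agent.Lib.Helper6.locallyOfFinitePresentation_of_comp (g := G.hom)
      inferInstance ?_
    rw [Over.w]
    exact inferInstanceAs (LocallyOfFinitePresentation (𝟙 S))
  have hι : LocallyOfFinitePresentation (equalizer.ι u 1).left :=
    MorphismProperty.of_isPullback hpb.flip hη
  have hcl : IsClosedImmersion (equalizer.ι u 1).left := inferInstance
  obtain ⟨haff, hsurj⟩ := IsClosedImmersion.isAffine_surjective_of_isAffine (equalizer.ι u 1).left
  have hfp : RingHom.FinitePresentation (equalizer.ι u 1).left.appTop.hom :=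
    (HasRingHomProperty.iff_of_isAffine (P := @LocallyOfFinitePresentation)).1 hι
  let _ := (equalizer.ι u 1).left.appTop.hom.toAlgebra
  have hfp' : Algebra.FinitePresentation Γ(H.left, ⊤) Γ((equalizer u 1).left, ⊤) := hfp
  exact Algebra.FinitePresentation.ker_fG_of_surjective
    (Algebra.ofId Γ(H.left, ⊤) Γ((equalizer u 1).left, ⊤)) hsurj

end Ker

section Affine

variable {R : Type u} [CommRing R] {H₀ G₀ : Over (Spec (CommRingCat.of R))} [GrpObj H₀] [GrpObj G₀]
  (u₀ : H₀ ⟶ G₀) [IsSeparated G₀.hom] [IsAffine H₀.left]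

/-- a morphism from `Spec C` to an affine scheme from a ring homomorphism. -/
noncomputable def ofRing {Y : Scheme.{u}} [IsAffine Y] {C : Type u} [CommRing C]
    (φ : Γ(Y, ⊤) →+* C) : Spec (CommRingCat.of C) ⟶ Y :=
  Spec.map (CommRingCat.ofHom φ) ≫ Y.isoSpec.inv

lemma gam_ofRing_appTop {Y : Scheme.{u}} [IsAffine Y] {C : Type u} [CommRing C]
    (φ : Γ(Y, ⊤) →+* C) (p : Γ(Y, ⊤)) : gam C ((ofRing φ).appTop p) = φ p := by
  unfold ofRing
  rw [Scheme.Hom.comp_appTop]
  change gam C ((Spec.map (CommRingCat.ofHom φ)).appTop (Y.isoSpec.inv.appTop p)) = φ p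
  rw [gam_appTop]
  congr 1
  have h1 : Y.isoSpec.hom.appTop (Y.isoSpec.inv.appTop p) = p := by
    have := congrArg (fun k => k.appTop) Y.isoSpec.hom_inv_id
    simp only [Scheme.Hom.comp_appTop, Scheme.Hom.id_appTop] at this
    exact congrArg (fun k => k.hom p) this
  have h2 : Y.isoSpec.hom.appTop = (Scheme.ΓSpecIso Γ(Y, ⊤)).hom := by
    rw [Scheme.isoSpec_hom, Scheme.toSpecΓ_appTop]
  rw [h2] at h1
  exact h1

omit [GrpObj H₀] in
/-- `u₀` is trivial over `Spec (R/J')` iff the ideal of the kernel is contained in `J' Γ(H₀)`. -/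
theorem trivO_quot_iff (J' : Ideal R) :
    TrivO u₀ (Over.mk (Spec.map (CommRingCat.ofHom (Ideal.Quotient.mk J')))) ↔
      IK u₀ ≤ J'.map (fnHom H₀.hom) := by
  constructor
  · intro h z hz
    let JP : Ideal Γ(H₀.left, ⊤) := J'.map (fnHom H₀.hom)
    let h₀ : Spec (CommRingCat.of (Γ(H₀.left, ⊤) ⧸ JP)) ⟶ H₀.left := ofRing (Ideal.Quotient.mk JP)
    let X : Over (Spec (CommRingCat.of R)) := Over.mk (h₀ ≫ H₀.hom)
    let a : X ⟶ H₀ := Over.homMk h₀ rfl
    let qm : R ⧸ J' →+* Γ(H₀.left, ⊤) ⧸ JP :=
      Ideal.quotientMap JP (fnHom H₀.hom) Ideal.le_comap_map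
    have hx : Spec.map (CommRingCat.ofHom qm) ≫
        Spec.map (CommRingCat.ofHom (Ideal.Quotient.mk J')) = h₀ ≫ H₀.hom := by
      apply fn_ext
      intro r
      apply gam_injective
      rw [fn_specMap, fn_comp]
      have e1 : gam _ (fn (Spec.map (CommRingCat.ofHom qm)) (Ideal.Quotient.mk J' r)) =
          qm (Ideal.Quotient.mk J' r) := by
        unfold fn
        rw [gam_appTop, gam_inv]
      rw [e1, gam_ofRing_appTop]
      rfl
    let x : X ⟶ Over.mk (Spec.map (CommRingCat.ofHom (Ideal.Quotient.mk J'))) :=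
      Over.homMk (Spec.map (CommRingCat.ofHom qm)) hx
    have ha : a ≫ u₀ = 1 := h X x a
    have : IsAffine X.left := inferInstanceAs (IsAffine (Spec _))
    have hle := (comp_eq_one_iff u₀ a).1 ha
    have hz0 : h₀.appTop z = 0 := hle hz
    have := gam_ofRing_appTop (Ideal.Quotient.mk JP) z
    change gam _ (h₀.appTop z) = _ at this
    rw [hz0, map_zero] at this
    exact Ideal.Quotient.eq_zero_iff_mem.1 this.symm
  · intro h X x a
    apply eq_one_of_affineCover
    intro i
    set j := X.left.affineCover.f i with hj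
    have : IsAffine (Over.mk (j ≫ X.hom)).left :=
      inferInstanceAs (IsAffine (X.left.affineCover.X i))
    rw [← Category.assoc, comp_eq_one_iff]
    refine h.trans ?_
    rw [Ideal.map_le_iff_le_comap]
    intro r hr
    rw [Ideal.mem_comap, RingHom.mem_ker]
    change ((Over.homMk j rfl : Over.mk (j ≫ X.hom) ⟶ X) ≫ a).left.appTop (fn H₀.hom r) = 0
    rw [← fn_comp, Over.w, ← Over.w ((Over.homMk j rfl : Over.mk (j ≫ X.hom) ⟶ X) ≫ x)]
    change fn (_ ≫ Spec.map (CommRingCat.ofHom (Ideal.Quotient.mk J'))) r = 0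
    rw [fn_specMap, Ideal.Quotient.eq_zero_iff_mem.2 hr, fn_eq, map_zero]

/-- if the ideals over which `u₀` is trivial are those containing `J`, then `J` is finitely
generated. -/
theorem fg_of_trivO_iff [LocallyOfFiniteType G₀.hom] (J : Ideal R)
    (hJ : ∀ J' : Ideal R,
      TrivO u₀ (Over.mk (Spec.map (CommRingCat.ofHom (Ideal.Quotient.mk J')))) ↔ J ≤ J') :
    J.FG := by
  have h1 : IK u₀ ≤ J.map (fnHom H₀.hom) := (trivO_quot_iff u₀ J).1 ((hJ J).2 le_rfl)
  obtain ⟨J', hle, hfg, h2⟩ := exists_fg_le_of_fg_le_map _ J (IK u₀) (IK_fg u₀) h1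
  have h3 : J ≤ J' := (hJ J').1 ((trivO_quot_iff u₀ J').2 h2)
  rw [le_antisymm h3 hle]
  exact hfg

end Affine

end Groth.Agent.R2.H97.TrivLoc
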