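import Groth.Agent.R2.H97TrivLocFG
import Groth.Agent.R2.H63AgreeClosed
import Groth.Agent.R2.H63MultProj
import Groth.Agent.R2.H63MultAffine

/-!
# The trivial locus of a homomorphism from a group of multiplicative type is open and closed
(helper97)

`main`: SGA3 IX 5.? / X: `u : H ⟶ G`, `H` of multiplicative type and of finite type, `G` separated,
`S` locally Noetherian or `G` locally of finite type.  The locus of `s ∈ S` with `u_s = 1` is open
and closed and `u` is trivial over it.

Proof: the trivial locus is represented by a closed subscheme `Z ⊆ S` (helper63's `agree_closed`,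
using that `Γ(H)` is locally projective); on an affine open `Spec R ⊆ S` its ideal `I` is idempotent
by infinitesimal rigidity (helper37's `trivial_of_trivial_mod`), and finitely generated (Noetherian
case, or `H97TrivLocFG.fg_of_trivO_iff`); hence `I = (e)` with `e` idempotent and `Z ⟶ S` is an
open immersion.
-/

set_option autoImplicit false

universe u

open CategoryTheory MonoidalCategory CartesianMonoidalCategory MonObj GrpObj AlgebraicGeometry
  CategoryTheory.Limits

namespace Groth.Agent.R2.H97.TrivLoc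

open Groth.Agent.Lib.Helper27.GaGm Groth.Agent.R2.H97.MTHom Groth.Agent.R2.H37.Rigid
  Groth.Agent.R2.H63.Stab Groth.Agent.R2.H63.EqLocus

section Closed

variable {S : Scheme.{u}} {H G : Over S} [GrpObj H] [GrpObj G]

/-- the trivial locus is represented by a closed subscheme of `S`. -/
theorem exists_closed (hH : SGA3x.IsMultTypeFT H) [IsSeparated G.hom] (u : H ⟶ G) :
    ∃ (Z : Scheme.{u}) (i : Z ⟶ S), IsClosedImmersion i ∧
      ∀ T : Over S, (∃ z : T.left ⟶ Z, z ≫ i = T.hom) ↔ TrivO u T := by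
  have : IsAffineHom H.hom := Groth.Agent.R2.H63.MultProj.isAffineHom_of_isMultTypeFT H hH
  let X : Over S := Over.mk (𝟙 S)
  let a₁ : PT H X ⟶ G := p2 H X ≫ u
  let a₂ : PT H X ⟶ G := 1
  have hproj : ∀ s : S, ∃ U : S.affineOpens, s ∈ (U : S.Opens) ∧
      @Module.Projective Γ(S, U) _ Γ(H.left, H.hom ⁻¹ᵁ U) _
        (H.hom.app U).hom.toAlgebra.toModule := by
    intro s
    obtain ⟨V, hV, hsV, -⟩ := exists_isAffineOpen_mem_and_subset (x := s) (U := ⊤) trivial
    exact ⟨⟨V, hV⟩, hsV, Groth.Agent.R2.H63.MultProj.projective_of_isMultTypeFT H hH V hV⟩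
  obtain ⟨Z, i, hi, hZ⟩ := agree_closed H X G a₁ a₂ hproj
  have hiw : i.left = Z.hom := by
    have := Over.w i
    rw [← this]
    exact (Category.comp_id _).symm
  refine ⟨Z.left, i.left, hi, fun T => ?_⟩
  let g : T ⟶ X := Over.homMk T.hom (Category.comp_id _)
  have e0 : (∃ z : T.left ⟶ Z.left, z ≫ i.left = T.hom) ↔ (∃ z : T ⟶ Z, z ≫ i = g) := by
    constructor
    · rintro ⟨z, hz⟩
      refine ⟨Over.homMk z (by rw [← hiw, hz]), ?_⟩
      ext1
      exact hz
    · rintro ⟨z, hz⟩
      exact ⟨z.left, congrArg (fun k => k.left) hz⟩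
  rw [e0, hZ T g]
  unfold Agree
  have e1 : PTmap H g ≫ a₁ = p2 H T ≫ u := by
    change PTmap H g ≫ p2 H X ≫ u = _
    rw [PTmap_p2_assoc]
  have e2 : PTmap H g ≫ a₂ = 1 := MonObj.comp_one _
  rw [e1, e2]
  constructor
  · intro h X' x a
    have := congrArg (fun m => pair H x a ≫ m) h
    simp only [pair_p2_assoc, MonObj.comp_one] at this
    exact this
  · intro h
    exact h (PT H T) (p1 H T) (p2 H T)

end Closed

section Local

variable {S : Scheme.{u}} {H G : Over S} [GrpObj H] [GrpObj G] (u : H ⟶ G)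
  {Z : Scheme.{u}} (i : Z ⟶ S) [IsClosedImmersion i]
  (hZ : ∀ T : Over S, (∃ z : T.left ⟶ Z, z ≫ i = T.hom) ↔ TrivO u T)

omit [GrpObj H] in
include hZ in
/-- the ideal of the trivial locus on an affine scheme over `S`. -/
theorem local_ideal {R : Type u} [CommRing R] (f : Spec (CommRingCat.of R) ⟶ S) :
    ∃ I : Ideal R, (∃ e : pullback i f ≅ Spec (CommRingCat.of (R ⧸ I)),
        pullback.snd i f = e.hom ≫ Spec.map (CommRingCat.ofHom (Ideal.Quotient.mk I))) ∧
      ∀ (R' : Type u) [CommRing R'] (θ : R →+* R'),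
        TrivO u (Over.mk (Spec.map (CommRingCat.ofHom θ) ≫ f)) ↔ I ≤ RingHom.ker θ := by
  have hcl : IsClosedImmersion (pullback.snd i f) := inferInstance
  obtain ⟨I, e, he⟩ := IsClosedImmersion.Spec_iff.1 hcl
  refine ⟨I, ⟨e, he⟩, fun R' _ θ => ?_⟩
  rw [← hZ]
  constructor
  · rintro ⟨z, hz⟩
    let l : Spec (CommRingCat.of R') ⟶ pullback i f :=
      pullback.lift z (Spec.map (CommRingCat.ofHom θ)) hz
    have h1 : (l ≫ e.hom) ≫ Spec.map (CommRingCat.ofHom (Ideal.Quotient.mk I)) =
        Spec.map (CommRingCat.ofHom θ) := by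
      rw [Category.assoc, ← he, pullback.lift_snd]
    obtain ⟨ψ, hψ⟩ : ∃ ψ : CommRingCat.of (R ⧸ I) ⟶ CommRingCat.of R', Spec.map ψ = l ≫ e.hom :=
      ⟨Spec.preimage _, Spec.map_preimage _⟩
    rw [← hψ, ← Spec.map_comp] at h1
    have h2 := Spec.map_injective h1
    intro r hr
    rw [RingHom.mem_ker]
    have h3 := congrArg (fun k => k.hom r) h2
    simp only [CommRingCat.hom_comp, CommRingCat.hom_ofHom, RingHom.comp_apply] at h3
    rw [← h3, Ideal.Quotient.eq_zero_iff_mem.2 hr, map_zero]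
  · intro h
    let ψ : R ⧸ I →+* R' := Ideal.Quotient.lift I θ (fun r hr => h hr)
    have hψ : ψ.comp (Ideal.Quotient.mk I) = θ := Ideal.Quotient.lift_comp_mk _ _ _
    refine ⟨Spec.map (CommRingCat.ofHom ψ) ≫ e.inv ≫ pullback.fst i f, ?_⟩
    change (Spec.map (CommRingCat.ofHom ψ) ≫ e.inv ≫ pullback.fst i f) ≫ i =
      Spec.map (CommRingCat.ofHom θ) ≫ f
    rw [Category.assoc, Category.assoc, pullback.condition, he]
    simp only [Category.assoc, Iso.inv_hom_id_assoc]
    rw [← Category.assoc, ← Spec.map_comp, ← CommRingCat.ofHom_comp, hψ]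

variable [IsMonHom u]

/-- the ideal of the trivial locus is idempotent. -/
theorem ideal_le_sq (hH : SGA3x.IsMultTypeFT H) {R : Type u} [CommRing R]
    (f : Spec (CommRingCat.of R) ⟶ S) (I : Ideal R)
    (hI : ∀ (R' : Type u) [CommRing R'] (θ : R →+* R'),
      TrivO u (Over.mk (Spec.map (CommRingCat.ofHom θ) ≫ f)) ↔ I ≤ RingHom.ker θ) :
    I ≤ I ^ 2 := by
  let I₂ : Ideal (R ⧸ I ^ 2) := I.map (Ideal.Quotient.mk (I ^ 2))
  have hnil : IsNilpotent I₂ := by
    refine ⟨2, ?_⟩
    rw [← Ideal.map_pow, Ideal.map_quotient_self]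
    rfl
  let θ' : R →+* (R ⧸ I ^ 2) ⧸ I₂ := (Ideal.Quotient.mk I₂).comp (Ideal.Quotient.mk (I ^ 2))
  have h1 : TrivO u (Over.mk (Spec.map (CommRingCat.ofHom θ') ≫ f)) := by
    rw [hI]
    intro r hr
    rw [RingHom.mem_ker]
    change Ideal.Quotient.mk I₂ (Ideal.Quotient.mk (I ^ 2) r) = 0
    exact Ideal.Quotient.eq_zero_iff_mem.2 (Ideal.mem_map_of_mem _ hr)
  have e : Spec.map (CommRingCat.ofHom θ') ≫ f =
      Spec.map (CommRingCat.ofHom (Ideal.Quotient.mk I₂)) ≫
        Spec.map (CommRingCat.ofHom (Ideal.Quotient.mk (I ^ 2))) ≫ f := by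
    rw [← Category.assoc, ← Spec.map_comp, ← CommRingCat.ofHom_comp]
  rw [e] at h1
  have h2 := trivO_of_nilpotent u hH
    (Spec.map (CommRingCat.ofHom (Ideal.Quotient.mk (I ^ 2))) ≫ f) I₂ hnil h1
  have h3 := (hI _ _).1 h2
  rwa [Ideal.mk_ker] at h3

include hZ in
/-- On an affine scheme over `S`, the trivial locus is open provided its ideal is finitely
generated. -/
theorem local_open (hH : SGA3x.IsMultTypeFT H) {R : Type u} [CommRing R]
    (f : Spec (CommRingCat.of R) ⟶ S)
    (hfg : ∀ I : Ideal R, (∀ (R' : Type u) [CommRing R'] (θ : R →+* R'),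
      TrivO u (Over.mk (Spec.map (CommRingCat.ofHom θ) ≫ f)) ↔ I ≤ RingHom.ker θ) → I.FG) :
    IsOpenImmersion (pullback.snd i f) := by
  obtain ⟨I, ⟨e, he⟩, hI⟩ := local_ideal u i hZ f
  have hsq : I ≤ I ^ 2 := ideal_le_sq u hH f I hI
  have hidem : IsIdempotentElem I := by
    apply le_antisymm
    · exact Ideal.mul_le_right
    · rw [← pow_two]
      exact hsq
  obtain ⟨e₀, he₀, hIe⟩ := (Ideal.isIdempotentElem_iff_of_fg I (hfg I hI)).1 hidem
  have hop : IsOpenImmersion (Spec.map (CommRingCat.ofHom (Ideal.Quotient.mk I))) := by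
    rw [isOpenImmersion_SpecMap_iff_of_surjective _ Ideal.Quotient.mk_surjective]
    refine ⟨e₀, he₀, ?_⟩
    rw [CommRingCat.hom_ofHom, Ideal.mk_ker]
    exact hIe
  rw [he]
  infer_instance

end Local

section Main

variable {S : Scheme.{u}} {H G : Over S} [GrpObj H] [GrpObj G]

/-- finite generation of the ideal of the trivial locus when `G` is locally of finite type. -/
theorem fg_of_lft [IsAffineHom H.hom] [IsSeparated G.hom] [LocallyOfFiniteType G.hom] (u : H ⟶ G)
    {R : Type u} [CommRing R] (f : Spec (CommRingCat.of R) ⟶ S) (I : Ideal R)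
    (hI : ∀ (R' : Type u) [CommRing R'] (θ : R →+* R'),
      TrivO u (Over.mk (Spec.map (CommRingCat.ofHom θ) ≫ f)) ↔ I ≤ RingHom.ker θ) : I.FG := by
  have : IsAffine (Red.bc f H).left := by
    have : IsAffineHom (Red.bc f H).hom :=
      inferInstanceAs (IsAffineHom (pullback.snd H.hom f))
    exact isAffine_of_isAffineHom (Red.bc f H).hom
  have : IsSeparated (Red.bc f G).hom :=
    inferInstanceAs (IsSeparated (pullback.snd G.hom f))
  have : LocallyOfFiniteType (Red.bc f G).hom :=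
    inferInstanceAs (LocallyOfFiniteType (pullback.snd G.hom f))
  refine fg_of_trivO_iff ((Over.pullback f).map u) I (fun J' => ?_)
  rw [trivO_bc]
  have := hI _ (Ideal.Quotient.mk J')
  rw [Ideal.mk_ker] at this
  exact this

/-- the trivial locus is represented by a closed and open subscheme. -/
theorem exists_clopen (hH : SGA3x.IsMultTypeFT H) [IsSeparated G.hom]
    (hG : IsLocallyNoetherian S ∨ LocallyOfFiniteType G.hom) (u : H ⟶ G) [IsMonHom u] :
    ∃ (Z : Scheme.{u}) (i : Z ⟶ S), IsClosedImmersion i ∧ IsOpenImmersion i ∧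
      ∀ T : Over S, (∃ z : T.left ⟶ Z, z ≫ i = T.hom) ↔ TrivO u T := by
  obtain ⟨Z, i, hi, hZ⟩ := exists_closed hH u
  have : IsAffineHom H.hom := Groth.Agent.R2.H63.MultProj.isAffineHom_of_isMultTypeFT H hH
  refine ⟨Z, i, hi, ?_, hZ⟩
  apply IsZariskiLocalAtTarget.of_openCover (P := @IsOpenImmersion) S.affineOpenCover.openCover
  intro j
  change IsOpenImmersion (pullback.snd i (S.affineOpenCover.f j))
  refine local_open u i hZ hH (R := S.affineOpenCover.X j) (S.affineOpenCover.f j) ?_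
  intro I hI
  have : IsOpenImmersion (S.affineOpenCover.f j) := S.affineOpenCover.map_prop j
  rcases hG with hN | hG
  · have h1 : IsLocallyNoetherian (Spec (S.affineOpenCover.X j)) :=
      isLocallyNoetherian_of_isOpenImmersion (S.affineOpenCover.f j)
    have h2 : IsNoetherianRing (S.affineOpenCover.X j) := isLocallyNoetherian_Spec.1 h1
    exact (isNoetherianRing_iff_ideal_fg _).1 h2 I
  · exact fg_of_lft u (S.affineOpenCover.f j) I hI

/-- **The trivial locus is open and closed**, in the form: `u` is trivial over `g : T ⟶ S` iff `g`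
lands in the open and closed subset `U`. -/
theorem main' (hH : SGA3x.IsMultTypeFT H) [IsSeparated G.hom]
    (hG : IsLocallyNoetherian S ∨ LocallyOfFiniteType G.hom) (u : H ⟶ G) [IsMonHom u] :
    ∃ U : S.Opens, IsClosed (U : Set S) ∧
      ∀ (T : Scheme.{u}) (g : T ⟶ S), TrivO u (Over.mk g) ↔ Set.range g.base ⊆ (U : Set S) := by
  obtain ⟨Z, i, hi, hopen, hZ⟩ := exists_clopen hH hG u
  refine ⟨i.opensRange, i.isClosedEmbedding.isClosed_range, fun T g => ?_⟩
  rw [← hZ]
  constructor
  · rintro ⟨z, hz⟩ _ ⟨y, rfl⟩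
    refine ⟨z y, ?_⟩
    exact congrArg (fun k : T ⟶ S => k y) hz
  · intro hr
    exact ⟨IsOpenImmersion.lift i g hr, IsOpenImmersion.lift_fac _ _ _⟩

/-- **The trivial locus is open and closed** (S5286). -/
theorem main (hH : SGA3x.IsMultTypeFT H) [IsSeparated G.hom]
    (hG : IsLocallyNoetherian S ∨ LocallyOfFiniteType G.hom) (u : H ⟶ G) [IsMonHom u] :
    ∃ U : S.Opens, IsClosed (U : Set S) ∧
      (∀ s : S, s ∈ U ↔ (Over.pullback (S.fromSpecResidueField s)).map u = 1) ∧
      (Over.pullback U.ι).map u = 1 := by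
  obtain ⟨U, hU, hT⟩ := main' hH hG u
  refine ⟨U, hU, fun s => ?_, ?_⟩
  · rw [← trivO_iff, hT, Scheme.range_fromSpecResidueField, Set.singleton_subset_iff]
    rfl
  · rw [← trivO_iff, hT, Scheme.Opens.range_ι]

end Main

end Groth.Agent.R2.H97.TrivLoc
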