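import Mathlib
import Groth.Prelude.Def_TwC
import Groth.Agent.Lib.Helper12Descent
import Groth.Agent.Lib.Helper12Torsor
import Groth.Agent.S5370

/-!
# Closed quasi-compact subschemes of twisted constant schemes are finite (helper97)

* `isFinite_sigmaDesc` — a finite coproduct of finite morphisms into an affine scheme is finite;
* `isFinite_of_closed_in_const` — a closed subscheme of a constant scheme `∐_I U` which is quasi-compact over `U`
  is finite over `U`;
* `isFinite_of_closed_of_locally_const` — fpqc descent: the same for a scheme which is fpqc-locally constant.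
-/

set_option autoImplicit false
universe u
open CategoryTheory CategoryTheory.Limits AlgebraicGeometry

namespace Groth.Agent.R2.H97.TwConstFinite

/-- A finite coproduct of finite morphisms into an affine scheme is finite. -/
theorem isFinite_sigmaDesc {σ : Type u} [Finite σ] (Y : σ → Scheme.{u}) {A : Scheme.{u}} [IsAffine A]
    (h : ∀ i, Y i ⟶ A) [∀ i, IsFinite (h i)] : IsFinite (Sigma.desc h) := by
  have hYaff : ∀ i, IsAffine (Y i) := fun i => isAffine_of_isAffineHom (h i)
  have hΨ : IsFinite (Spec.map (CommRingCat.ofHom (RingHom.pi (fun i => (h i).appTop.hom)))) := by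
    rw [IsFinite.SpecMap_iff]
    have hfin : ∀ i, (h i).appTop.hom.Finite := fun i => (h i).finite_app ⊤ (isAffineOpen_top A)
    change (RingHom.pi (fun i => (h i).appTop.hom)).Finite
    let _ : ∀ i, Algebra Γ(A, ⊤) Γ(Y i, ⊤) := fun i => (h i).appTop.hom.toAlgebra
    have : ∀ i, Module.Finite Γ(A, ⊤) Γ(Y i, ⊤) := fun i => hfin i
    have := Module.Finite.pi (R := Γ(A, ⊤)) (M := fun i => Γ(Y i, ⊤))
    exact this
  have e1 : Sigma.desc h = (Sigma.mapIso (fun i => (Y i).isoSpec)).hom ≫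
      (sigmaSpec (fun i => Γ(Y i, ⊤)) ≫
        Spec.map (CommRingCat.ofHom (RingHom.pi (fun i => (h i).appTop.hom)))) ≫ A.isoSpec.inv := by
    refine Sigma.hom_ext _ _ fun i => ?_
    rw [Sigma.ι_desc]
    simp only [Sigma.ι_mapIso_hom_assoc, Category.assoc, ι_sigmaSpec_assoc, ← Spec.map_comp_assoc]
    have : CommRingCat.ofHom (RingHom.pi (fun i => (h i).appTop.hom)) ≫
        CommRingCat.ofHom (Pi.evalRingHom (fun i => Γ(Y i, ⊤)) i) = (h i).appTop := by
      ext x
      rfl
    rw [this, Scheme.isoSpec_hom_naturality_assoc, Iso.hom_inv_id, Category.comp_id]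
  rw [e1]
  infer_instance


set_option backward.isDefEq.respectTransparency.types false in
open scoped Function in
theorem isFinite_of_closed_in_const {U Z : Scheme.{u}} (I : Type u) (c : Z ⟶ ∐ (fun _ : I => U))
    [IsClosedImmersion c] [QuasiCompact (c ≫ Sigma.desc (fun _ : I => 𝟙 U))] :
    IsFinite (c ≫ Sigma.desc (fun _ : I => 𝟙 U)) := by
  apply IsZariskiLocalAtTarget.of_forall_exists_morphismRestrict (P := @IsFinite)
  intro x
  obtain ⟨A, hA, hxA, -⟩ := exists_isAffineOpen_mem_and_subset (x := x) (U := ⊤) trivial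
  refine ⟨A, hxA, ?_⟩
  set p : (∐ fun _ : I => U) ⟶ U := Sigma.desc (fun _ : I => 𝟙 U) with hp
  set g : Z ⟶ U := c ≫ p with hg
  let ι : ∀ i : I, U ⟶ ∐ fun _ : I => U := fun i => Sigma.ι (fun _ : I => U) i
  have hιp : ∀ i, ι i ≫ p = 𝟙 U := fun i => Sigma.ι_desc _ _
  let V : I → (∐ fun _ : I => U).Opens := fun i => (ι i) ''ᵁ A
  let O : I → Z.Opens := fun i => c ⁻¹ᵁ V i
  have hVle : ∀ i, V i ≤ (ι i).opensRange := fun i => by
    rintro _ ⟨y, -, rfl⟩
    exact ⟨y, rfl⟩
  have hVdisj : Pairwise (Disjoint on V) := by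
    intro i j hij
    exact (disjoint_opensRange_sigmaι _ i j hij).mono (hVle i) (hVle j)
  have hOdisj : Pairwise (Disjoint on O) := by
    intro i j hij
    have h1 := hVdisj hij
    change Disjoint (V i) (V j) at h1
    change Disjoint (O i) (O j)
    rw [← TopologicalSpace.Opens.coe_disjoint] at h1 ⊢
    exact Disjoint.preimage c h1
  have hpι : ∀ i (y : U), p (ι i y) = y := fun i y => by
    rw [← Scheme.Hom.comp_apply, hιp]
    rfl
  have hcover : (g ⁻¹ᵁ A : Set Z) ⊆ ⋃ i, (O i : Set Z) := by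
    intro z hz
    obtain ⟨⟨i, y⟩, hy⟩ := (sigmaMk (fun _ : I => U)).surjective (c z)
    rw [sigmaMk_mk] at hy
    have hz' : p (c z) ∈ A := hz
    rw [← hy] at hz'
    have hyA : y ∈ A := by
      have := hpι i y
      change p (ι i y) ∈ A at hz'
      rwa [this] at hz'
    refine Set.mem_iUnion.mpr ⟨i, ?_⟩
    change c z ∈ V i
    rw [← hy]
    exact ⟨y, hyA, rfl⟩
  have hOle : ∀ i, O i ≤ g ⁻¹ᵁ A := by
    intro i z hz
    obtain ⟨y, hyA, hy⟩ : c z ∈ V i := hz
    change p (c z) ∈ A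
    rw [← hy]
    change p (ι i y) ∈ A
    rw [hpι]
    exact hyA
  have hcomp : IsCompact (g ⁻¹ᵁ A : Set Z) := g.isCompact_preimage hA.isCompact
  obtain ⟨t, ht⟩ := hcomp.elim_finite_subcover (fun i => (O i : Set Z)) (fun i => (O i).isOpen) hcover
  have : IsAffine (A : Scheme.{u}) := hA
  let hh : ∀ i : t, (O i : Scheme.{u}) ⟶ (A : Scheme.{u}) :=
    fun i => (c ∣_ V i) ≫ ((ι i).isoImage A).inv
  have hhι : ∀ i : t, hh i ≫ A.ι = (O i).ι ≫ g := by
    intro i
    have h1 : ((ι i).isoImage A).inv ≫ A.ι = (V i).ι ≫ p := by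
      have := (ι i).isoImage_inv_ι A
      calc ((ι i).isoImage A).inv ≫ A.ι = ((ι i).isoImage A).inv ≫ A.ι ≫ ι i ≫ p := by
            rw [hιp, Category.comp_id]
        _ = (V i).ι ≫ p := by rw [← Category.assoc A.ι, ← Category.assoc, this]
    change ((c ∣_ V i) ≫ ((ι i).isoImage A).inv) ≫ A.ι = (O i).ι ≫ c ≫ p
    rw [Category.assoc, h1, ← Category.assoc, morphismRestrict_ι, Category.assoc]
  let J : (∐ fun i : t => (O i : Scheme.{u})) ⟶ Z := Sigma.desc fun i : t => (O i).ι
  have hJ : IsOpenImmersion J := by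
    refine isOpenImmersion_sigmaDesc _ _ ?_
    intro i j hij
    have h1 := hOdisj (fun h => hij (Subtype.ext h))
    change Disjoint (O i) (O j) at h1
    rw [← TopologicalSpace.Opens.coe_disjoint] at h1
    change Disjoint (Set.range (O i).ι.base) (Set.range (O j).ι.base)
    rwa [Scheme.Opens.range_ι, Scheme.Opens.range_ι]
  have hJι : ∀ (i : t) (y : (O i : Scheme.{u})),
      J (Sigma.ι (fun i : t => (O i : Scheme.{u})) i y) = (O i).ι y := fun i y => by
    have h1 : Sigma.ι (fun i : t => (O i : Scheme.{u})) i ≫ J = (O i).ι := Sigma.ι_desc _ _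
    rw [← Scheme.Hom.comp_apply, h1]
  have hJr : Set.range J.base = Set.range (g ⁻¹ᵁ A).ι.base := by
    rw [Scheme.Opens.range_ι]
    ext z
    constructor
    · rintro ⟨w, rfl⟩
      obtain ⟨⟨i, y⟩, hy⟩ := (sigmaMk (fun i : t => (O i : Scheme.{u}))).surjective w
      rw [sigmaMk_mk] at hy
      rw [← hy]
      change J (Sigma.ι (fun i : t => (O i : Scheme.{u})) i y) ∈ (g ⁻¹ᵁ A : Set Z)
      rw [hJι]
      exact hOle i y.2
    · intro hz
      obtain ⟨i, hi⟩ := Set.mem_iUnion.mp (ht hz)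
      obtain ⟨hit, hzi⟩ := Set.mem_iUnion.mp hi
      exact ⟨Sigma.ι (fun i : t => (O i : Scheme.{u})) ⟨i, hit⟩ ⟨z, hzi⟩, hJι ⟨i, hit⟩ ⟨z, hzi⟩⟩
  let e := IsOpenImmersion.isoOfRangeEq J (g ⁻¹ᵁ A).ι hJr
  have he : e.hom ≫ (g ⁻¹ᵁ A).ι = J := IsOpenImmersion.isoOfRangeEq_hom_fac _ _ _
  have key : e.hom ≫ (g ∣_ A) = Sigma.desc hh := by
    rw [← cancel_mono A.ι]
    refine Sigma.hom_ext _ _ fun i => ?_
    have h1 : Sigma.ι (fun i : t => (O i : Scheme.{u})) i ≫ J = (O i).ι := Sigma.ι_desc _ _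
    have h2 : Sigma.ι (fun i : t => (O i : Scheme.{u})) i ≫ Sigma.desc hh = hh i := Sigma.ι_desc _ _
    rw [Category.assoc, morphismRestrict_ι, reassoc_of% he, reassoc_of% h1, reassoc_of% h2, hhι]
  rw [← MorphismProperty.cancel_left_of_respectsIso @IsFinite e.hom, key]
  have : ∀ i : t, IsFinite (hh i) := fun i => by
    dsimp only [hh]
    infer_instance
  exact isFinite_sigmaDesc _ hh


open Groth.Agent.Lib.Helper12 in
set_option backward.isDefEq.respectTransparency.types false in
/-- A closed subscheme, quasi-compact over `S`, of an `S`-scheme which is fpqc-locally constant is finite over `S`. -/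
theorem isFinite_of_closed_of_isTwConst {S : Scheme.{u}} (R : Over S) (hR : TwC.IsTwConst TwC.Topology.fpqc R)
    {Z : Scheme.{u}} (z : Z ⟶ R.left) [IsClosedImmersion z] [QuasiCompact (z ≫ R.hom)] :
    IsFinite (z ≫ R.hom) := by
  obtain ⟨S', f, hflat, hsurj, hqc, hloc⟩ := hR
  have hcov := Groth.Agent.S5370.singleton_mem_fpqcPrecoverage f hqc
  apply of_mem_fpqcPrecoverage descendsAlong_isFinite (z ≫ R.hom) (Presieve.singleton f) hcov
  rintro _ _ ⟨⟩
  apply IsZariskiLocalAtTarget.of_forall_exists_morphismRestrict (P := @IsFinite)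
  intro s'
  obtain ⟨U, hsU, I, ⟨φ⟩⟩ := hloc s'
  refine ⟨U, hsU, ?_⟩
  rw [← MorphismProperty.cancel_left_of_respectsIso @IsFinite (pullbackRestrictIsoRestrict _ U).hom,
    pullbackRestrictIsoRestrict_hom_morphismRestrict]
  apply pullback_snd_pullback_snd (P := @IsFinite)
  -- now over `k : U ⟶ S`
  set k : (U : Scheme.{u}) ⟶ S := U.ι ≫ f with hk
  let zU : pullback (z ≫ R.hom) k ⟶ pullback R.hom k :=
    pullback.lift (pullback.fst _ _ ≫ z) (pullback.snd _ _) (by rw [Category.assoc, pullback.condition])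
  have hzU1 : zU ≫ pullback.fst R.hom k = pullback.fst (z ≫ R.hom) k ≫ z := pullback.lift_fst _ _ _
  have hzU2 : zU ≫ pullback.snd R.hom k = pullback.snd (z ≫ R.hom) k := pullback.lift_snd _ _ _
  have hbig : IsPullback (pullback.fst (z ≫ R.hom) k) (zU ≫ pullback.snd R.hom k) (z ≫ R.hom) k := by
    rw [hzU2]
    exact IsPullback.of_hasPullback _ _
  have htop : IsPullback (pullback.fst (z ≫ R.hom) k) zU z (pullback.fst R.hom k) :=
    IsPullback.of_bot hbig hzU1.symm (IsPullback.of_hasPullback R.hom k)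
  have hzUc : IsClosedImmersion zU :=
    MorphismProperty.of_isPullback (P := @IsClosedImmersion) htop inferInstance
  let c : pullback (z ≫ R.hom) k ⟶ ∐ (fun _ : I => (U : Scheme.{u})) := zU ≫ φ.hom.left
  have hφ : φ.hom.left ≫ Sigma.desc (fun _ : I => 𝟙 (U : Scheme.{u})) = pullback.snd R.hom k :=
    Over.w φ.hom
  have hc : c ≫ Sigma.desc (fun _ : I => 𝟙 (U : Scheme.{u})) = pullback.snd (z ≫ R.hom) k := by
    rw [Category.assoc, hφ, hzU2]
  have hcc : IsClosedImmersion c := by
    have : IsIso φ.hom.left := inferInstanceAs (IsIso ((Over.forget _).map φ.hom))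
    infer_instance
  have hqc' : QuasiCompact (c ≫ Sigma.desc (fun _ : I => 𝟙 (U : Scheme.{u}))) := by
    rw [hc]
    infer_instance
  rw [← hc]
  exact isFinite_of_closed_in_const I c

end Groth.Agent.R2.H97.TwConstFinite
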