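import Mathlib
import Groth.Prelude.Def_TwC
import Groth.Agent.R2.H97TwConstFinite
import Groth.Agent.R2.H44FppfLocal

/-!
# Open and closed subschemes of quasi-isotrivial twisted constant schemes (helper97)

* `nonempty_bc_const_iso` — the base change of a constant scheme is constant;
* `isOpen_connectedComponent_of_noetherianSpace` — connected components of a Noetherian space are open;
* `exists_connected_chart` — refinement of an étale chart to a connected Noetherian open;
* `isFinite_of_finite_fibre` — a clopen subscheme of `∐_I A`, `A` connected, with one finite fibre is finite over `A`;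
* `isFinite_of_clopen_of_isTwConst_etale` — SGA3 X 5.13: over a connected locally Noetherian base, a clopen subscheme
  of a quasi-isotrivial twisted constant scheme with one finite fibre is finite.
-/

set_option autoImplicit false
universe u
open CategoryTheory CategoryTheory.Limits AlgebraicGeometry TopologicalSpace

namespace Groth.Agent.R2.H97.TwConstEtale

section ConstBC

variable {U T : Scheme.{u}} (h : T ⟶ U) (I : Type u)

/-- The `i`-th section of the base change of the constant scheme. -/
noncomputable def sec (i : I) : T ⟶ pullback (Sigma.desc (fun _ : I => 𝟙 U)) h :=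
  pullback.lift (h ≫ Sigma.ι (fun _ : I => U) i) (𝟙 T) (by simp)

@[reassoc (attr := simp)]
lemma sec_fst (i : I) : sec h I i ≫ pullback.fst _ _ = h ≫ Sigma.ι (fun _ : I => U) i :=
  pullback.lift_fst _ _ _

@[reassoc (attr := simp)]
lemma sec_snd (i : I) : sec h I i ≫ pullback.snd _ _ = 𝟙 T :=
  pullback.lift_snd _ _ _

lemma isPullback_sec (i : I) :
    IsPullback (sec h I i) h (pullback.fst (Sigma.desc (fun _ : I => 𝟙 U)) h) (Sigma.ι (fun _ : I => U) i) := by
  refine IsPullback.of_right ?_ (sec_fst h I i) (IsPullback.of_hasPullback _ _).flip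
  rw [sec_snd, Sigma.ι_desc]
  exact IsPullback.of_horiz_isIso ⟨by simp⟩

instance (i : I) : IsOpenImmersion (sec h I i) :=
  MorphismProperty.of_isPullback (P := @IsOpenImmersion) (isPullback_sec h I i).flip inferInstance

lemma range_sec (i : I) : Set.range (sec h I i).base =
    (pullback.fst (Sigma.desc (fun _ : I => 𝟙 U)) h).base ⁻¹' Set.range (Sigma.ι (fun _ : I => U) i).base := by
  have := Scheme.image_preimage_eq_of_isPullback (isPullback_sec h I i).flip Set.univ
  simpa only [Set.preimage_univ, Set.image_univ] using this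

open scoped Function in
/-- The base change of a constant scheme is the constant scheme. -/
theorem nonempty_bc_const_iso : Nonempty (Red.bc h (TwC.const U I) ≅ TwC.const T I) := by
  have hcov : ⨆ i, (sec h I i).opensRange = ⊤ := by
    rw [eq_top_iff]
    intro x _
    obtain ⟨⟨i, y⟩, hy⟩ := (sigmaMk (fun _ : I => U)).surjective
      ((pullback.fst (Sigma.desc (fun _ : I => 𝟙 U)) h).base x)
    rw [sigmaMk_mk] at hy
    have : x ∈ Set.range (sec h I i).base := by
      rw [range_sec]
      exact ⟨y, hy⟩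
    exact TopologicalSpace.Opens.mem_iSup.mpr ⟨i, this⟩
  have hdisj : Pairwise (Disjoint on (sec h I · |>.opensRange)) := by
    intro i j hij
    change Disjoint (sec h I i).opensRange (sec h I j).opensRange
    rw [← TopologicalSpace.Opens.coe_disjoint]
    change Disjoint (Set.range (sec h I i).base) (Set.range (sec h I j).base)
    rw [range_sec, range_sec]
    have h1 := disjoint_opensRange_sigmaι (fun _ : I => U) i j hij
    rw [← TopologicalSpace.Opens.coe_disjoint] at h1
    exact Disjoint.preimage _ h1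
  obtain ⟨hc⟩ := nonempty_isColimit_cofanMk_of (sec h I) hcov hdisj
  let e : (∐ fun _ : I => T) ≅ pullback (Sigma.desc (fun _ : I => 𝟙 U)) h :=
    (coproductIsCoproduct (fun _ : I => T)).coconePointUniqueUpToIso hc
  have he : ∀ i, Sigma.ι (fun _ : I => T) i ≫ e.hom = sec h I i := fun i =>
    (coproductIsCoproduct (fun _ : I => T)).comp_coconePointUniqueUpToIso_hom hc ⟨i⟩
  refine ⟨(Over.isoMk e ?_).symm⟩
  refine Sigma.hom_ext _ _ fun i => ?_
  change Sigma.ι (fun _ : I => T) i ≫ e.hom ≫ pullback.snd _ _ = Sigma.ι (fun _ : I => T) i ≫ Sigma.desc _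
  rw [reassoc_of% he, sec_snd, Sigma.ι_desc]

end ConstBC


/-- In a Noetherian topological space connected components are open. -/
theorem isOpen_connectedComponent_of_noetherianSpace {α : Type*} [TopologicalSpace α] [NoetherianSpace α]
    (x : α) : IsOpen (connectedComponent x) := by
  have hfin := NoetherianSpace.finite_irreducibleComponents (α := α)
  let T : Set (Set α) := {Z ∈ irreducibleComponents α | ¬ Z ⊆ connectedComponent x}
  have hT : T.Finite := hfin.subset (fun Z hZ => hZ.1)
  have hcl : IsClosed (⋃ Z ∈ T, Z) :=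
    hT.isClosed_biUnion fun Z hZ => isClosed_of_mem_irreducibleComponents Z hZ.1
  have heq : (connectedComponent x)ᶜ = ⋃ Z ∈ T, Z := by
    ext y
    simp only [Set.mem_compl_iff, Set.mem_iUnion, exists_prop]
    constructor
    · intro hy
      refine ⟨irreducibleComponent y, ⟨irreducibleComponent_mem_irreducibleComponents y, fun hsub => ?_⟩,
        mem_irreducibleComponent⟩
      exact hy (hsub mem_irreducibleComponent)
    · rintro ⟨Z, ⟨hZ, hZx⟩, hyZ⟩ hy
      apply hZx
      have hpre : IsPreconnected Z := hZ.1.2.isPreconnected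
      have := hpre.subset_connectedComponent hyZ
      rwa [← connectedComponent_eq hy] at this
  rw [← isClosed_compl_iff, heq]
  exact hcl


/-- Refinement of a chart to a connected Noetherian open. -/
theorem exists_connected_chart {S : Scheme.{u}} [IsLocallyNoetherian S] (P : Over S)
    {S' : Scheme.{u}} (f : S' ⟶ S) [Etale f] (I : Type u) (φ : Red.bc f P ≅ TwC.const S' I) (s' : S') :
    ∃ (A : S'.Opens), s' ∈ A ∧ NoetherianSpace A ∧ ConnectedSpace A ∧
      Nonempty (Red.bc (A.ι ≫ f) P ≅ TwC.const (A : Scheme.{u}) I) := by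
  have : IsLocallyNoetherian S' := LocallyOfFiniteType.isLocallyNoetherian f
  obtain ⟨A₀, hA₀, hs', -⟩ := exists_isAffineOpen_mem_and_subset (x := s') (U := ⊤) trivial
  have hR₀ : IsNoetherianRing Γ(S', A₀) := IsLocallyNoetherian.component_noetherian ⟨A₀, hA₀⟩
  have hN₀ : NoetherianSpace (A₀ : Set S') := noetherianSpace_of_isAffineOpen A₀ hA₀
  let C : Set (A₀ : Set S') := connectedComponent (⟨s', hs'⟩ : (A₀ : Set S'))
  have hCo : IsOpen C := isOpen_connectedComponent_of_noetherianSpace _
  let A : S'.Opens := ⟨Subtype.val '' C, A₀.isOpen.isOpenMap_subtype_val _ hCo⟩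
  have hAA₀ : (A : Set S') ⊆ A₀ := by
    rintro _ ⟨y, -, rfl⟩
    exact y.2
  refine ⟨A, ⟨⟨s', hs'⟩, mem_connectedComponent, rfl⟩, ?_, ?_, ?_⟩
  · rw [noetherianSpace_set_iff] at hN₀
    change NoetherianSpace (A : Set S')
    rw [noetherianSpace_set_iff]
    intro t ht
    exact hN₀ t (ht.trans hAA₀)
  · change ConnectedSpace (A : Set S')
    rw [← isConnected_iff_connectedSpace]
    exact (isConnected_connectedComponent).image _ continuous_subtype_val.continuousOn
  · obtain ⟨ψ⟩ := nonempty_bc_const_iso A.ι I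
    exact ⟨(Over.pullbackComp A.ι f).app P ≪≫ (Over.pullback A.ι).mapIso φ ≪≫ ψ⟩


section Core

variable {A Y : Scheme.{u}} [ConnectedSpace A] (I : Type u) (c : Y ⟶ ∐ (fun _ : I => A))
  [IsOpenImmersion c] [IsClosedImmersion c]

omit [ConnectedSpace A] in
lemma desc_ι_apply (i : I) (a : A) :
    (Sigma.desc (fun _ : I => 𝟙 A)) (Sigma.ι (fun _ : I => A) i a) = a := by
  rw [← Scheme.Hom.comp_apply, Sigma.ι_desc]
  rfl

/-- Connectedness: if the clopen `range c` meets the `i`-th copy of `A` it contains it. -/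
lemma mem_range_of_mem (i : I) (a₀ a : A) (h : Sigma.ι (fun _ : I => A) i a₀ ∈ Set.range c.base) :
    Sigma.ι (fun _ : I => A) i a ∈ Set.range c.base := by
  have hcl : IsClopen (Set.range c.base) :=
    ⟨c.isClosedEmbedding.isClosed_range, c.isOpenEmbedding.isOpen_range⟩
  have h2 : IsClopen ((Sigma.ι (fun _ : I => A) i).base ⁻¹' Set.range c.base) :=
    hcl.preimage (Sigma.ι (fun _ : I => A) i).continuous
  have h3 := h2.eq_univ ⟨a₀, h⟩
  have : a ∈ (Sigma.ι (fun _ : I => A) i).base ⁻¹' Set.range c.base := by rw [h3]; trivial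
  exact this

set_option backward.isDefEq.respectTransparency.types false in
/-- If one fibre of `Y ⟶ A` is finite then `Y ⟶ A` is finite. -/
theorem isFinite_of_finite_fibre (a : A)
    (hfin : ((c ≫ Sigma.desc (fun _ : I => 𝟙 A)).base ⁻¹' {a}).Finite) :
    IsFinite (c ≫ Sigma.desc (fun _ : I => 𝟙 A)) := by
  classical
  let I₀ : Set I := {i | ∃ a₀, Sigma.ι (fun _ : I => A) i a₀ ∈ Set.range c.base}
  have hI₀ : I₀.Finite := by
    have hex : ∀ i : I₀, ∃ y : Y, c y = Sigma.ι (fun _ : I => A) i.1 a := fun i => by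
      obtain ⟨a₀, ha₀⟩ := i.2
      exact mem_range_of_mem I c i.1 a₀ a ha₀
    choose y hy using hex
    have hmem : ∀ i : I₀, y i ∈ (c ≫ Sigma.desc (fun _ : I => 𝟙 A)).base ⁻¹' {a} := fun i => by
      change (c ≫ Sigma.desc (fun _ : I => 𝟙 A)) (y i) = a
      rw [Scheme.Hom.comp_apply, hy, desc_ι_apply]
    have hinj : Function.Injective (fun i : I₀ => (⟨y i, hmem i⟩ :
        ((c ≫ Sigma.desc (fun _ : I => 𝟙 A)).base ⁻¹' {a} : Set Y))) := by
      intro i j hij
      have h1 : y i = y j := congrArg Subtype.val hij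
      have h2 : Sigma.ι (fun _ : I => A) i.1 a = Sigma.ι (fun _ : I => A) j.1 a := by
        rw [← hy, ← hy, h1]
      have h3 := (sigmaι_eq_iff (fun _ : I => A) i.1 j.1 a a).mp h2
      exact Subtype.ext (congrArg Sigma.fst h3)
    have := hfin.to_subtype
    exact Set.finite_coe_iff.mp (Finite.of_injective _ hinj)
  have hqc : QuasiCompact (c ≫ Sigma.desc (fun _ : I => 𝟙 A)) := by
    refine ⟨fun K hKo hKc => ?_⟩
    have heq : (c ≫ Sigma.desc (fun _ : I => 𝟙 A)).base ⁻¹' K =
        ⋃ i ∈ I₀, c.base ⁻¹' ((Sigma.ι (fun _ : I => A) i).base '' K) := by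
      ext y
      simp only [Set.mem_preimage, Set.mem_iUnion, exists_prop]
      constructor
      · intro hyK
        obtain ⟨⟨i, a'⟩, ha'⟩ := (sigmaMk (fun _ : I => A)).surjective (c y)
        rw [sigmaMk_mk] at ha'
        have h1 : (c ≫ Sigma.desc (fun _ : I => 𝟙 A)) y = a' := by
          rw [Scheme.Hom.comp_apply, ← ha', desc_ι_apply]
        refine ⟨i, ⟨a', ⟨y, ha'.symm⟩⟩, a', ?_, ha'⟩
        rw [← h1]
        exact hyK
      · rintro ⟨i, -, a', ha'K, ha'⟩
        change (c ≫ Sigma.desc (fun _ : I => 𝟙 A)) y ∈ K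
        rw [Scheme.Hom.comp_apply, ← ha', desc_ι_apply]
        exact ha'K
    rw [heq]
    refine hI₀.isCompact_biUnion fun i _ => ?_
    exact c.isClosedEmbedding.isCompact_preimage (hKc.image (Sigma.ι (fun _ : I => A) i).continuous)
  exact Groth.Agent.R2.H97.TwConstFinite.isFinite_of_closed_in_const I c

end Core


/-- Étale morphisms are locally quasi-finite. -/
theorem locallyQuasiFinite_of_etale {X Y : Scheme.{u}} (f : X ⟶ Y) [Etale f] : LocallyQuasiFinite f := by
  refine ⟨fun {U} hU {V} hV e => ?_⟩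
  have h := (HasRingHomProperty.iff_appLE (P := @Etale)).mp ‹Etale f› ⟨U, hU⟩ ⟨V, hV⟩ e
  algebraize [(f.appLE U V e).hom]
  have : Algebra.Etale Γ(Y, U) Γ(X, V) := h
  exact (inferInstance : Algebra.QuasiFinite Γ(Y, U) Γ(X, V))


/-- The analysis over one connected chart. -/
theorem chart_key {S : Scheme.{u}} (P : Over S) {Z : Scheme.{u}} (z : Z ⟶ P.left)
    [IsOpenImmersion z] [IsClosedImmersion z]
    {A : Scheme.{u}} (f : A ⟶ S) [Etale f] [NoetherianSpace A] [ConnectedSpace A]
    (I : Type u) (φ : Red.bc f P ≅ TwC.const A I)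
    (a : A) (ha : ((z ≫ P.hom).base ⁻¹' {f a}).Finite) :
    IsFinite (pullback.snd (z ≫ P.hom) f) ∧ ∀ a' : A, ((z ≫ P.hom).base ⁻¹' {f a'}).Finite := by
  set g := z ≫ P.hom with hg
  let zA : pullback g f ⟶ pullback P.hom f :=
    pullback.lift (pullback.fst _ _ ≫ z) (pullback.snd _ _) (by rw [Category.assoc, pullback.condition])
  have hzA1 : zA ≫ pullback.fst P.hom f = pullback.fst g f ≫ z := pullback.lift_fst _ _ _
  have hzA2 : zA ≫ pullback.snd P.hom f = pullback.snd g f := pullback.lift_snd _ _ _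
  have hbig : IsPullback (pullback.fst g f) (zA ≫ pullback.snd P.hom f) (z ≫ P.hom) f := by
    rw [hzA2]
    exact IsPullback.of_hasPullback _ _
  have htop : IsPullback (pullback.fst g f) zA z (pullback.fst P.hom f) :=
    IsPullback.of_bot hbig hzA1.symm (IsPullback.of_hasPullback P.hom f)
  have hzAc : IsClosedImmersion zA :=
    MorphismProperty.of_isPullback (P := @IsClosedImmersion) htop inferInstance
  have hzAo : IsOpenImmersion zA :=
    MorphismProperty.of_isPullback (P := @IsOpenImmersion) htop inferInstance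
  let c : pullback g f ⟶ ∐ (fun _ : I => A) := zA ≫ φ.hom.left
  have hφ : φ.hom.left ≫ Sigma.desc (fun _ : I => 𝟙 A) = pullback.snd P.hom f := Over.w φ.hom
  have hc : c ≫ Sigma.desc (fun _ : I => 𝟙 A) = pullback.snd g f := by
    rw [Category.assoc, hφ, hzA2]
  have hiso : IsIso φ.hom.left := inferInstanceAs (IsIso ((Over.forget _).map φ.hom))
  have hcc : IsClosedImmersion c := inferInstance
  have hco : IsOpenImmersion c := inferInstance
  have hlqf : LocallyQuasiFinite f := locallyQuasiFinite_of_etale f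
  -- the fibre of `pullback.snd g f` over `a` is finite
  have hfib : ((pullback.snd g f).base ⁻¹' {a}).Finite := by
    have h1 : ((pullback.fst g f).base ⁻¹' (g.base ⁻¹' {f a})).Finite :=
      (pullback.fst g f).finite_preimage ha
    refine h1.subset ?_
    intro y hy
    have hy' : (pullback.snd g f) y = a := hy
    change g ((pullback.fst g f) y) = f a
    rw [← Scheme.Hom.comp_apply, pullback.condition, Scheme.Hom.comp_apply, hy']
  have hfin : IsFinite (pullback.snd g f) := by
    rw [← hc]
    refine isFinite_of_finite_fibre I c a ?_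
    rw [hc]
    exact hfib
  refine ⟨hfin, fun a' => ?_⟩
  have h2 : ((pullback.snd g f).base ⁻¹' {a'}).Finite := (pullback.snd g f).finite_preimage_singleton a'
  refine (h2.image (pullback.fst g f).base).subset ?_
  intro x hx
  obtain ⟨y, hy1, hy2⟩ := Scheme.Pullback.exists_preimage_pullback (f := g) (g := f) x a' hx
  exact ⟨y, hy2, hy1⟩

set_option backward.isDefEq.respectTransparency.types false in
/-- SGA3 X 5.13: over a connected locally Noetherian base, an open and closed subscheme of a quasi-isotrivial twisted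
constant scheme one of whose fibres is finite is finite over the base. -/
theorem isFinite_of_clopen_of_isTwConst_etale {S : Scheme.{u}} [IsLocallyNoetherian S] [ConnectedSpace S]
    (P : Over S) (hP : TwC.IsTwConst TwC.Topology.etale P)
    {Z : Scheme.{u}} (z : Z ⟶ P.left) [IsOpenImmersion z] [IsClosedImmersion z]
    (hs : ∃ s : S, Set.Finite ((z ≫ P.hom).base ⁻¹' {s})) :
    IsFinite (z ≫ P.hom) := by
  have hchart : ∀ s : S, ∃ (A : Scheme.{u}) (fA : A ⟶ S), Etale fA ∧ NoetherianSpace A ∧ ConnectedSpace A ∧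
      s ∈ Set.range fA.base ∧ ∃ I : Type u, Nonempty (Red.bc fA P ≅ TwC.const A I) := by
    intro s
    obtain ⟨S', f, hf, ⟨s', rfl⟩, I, ⟨φ⟩⟩ := hP s
    obtain ⟨A, hsA, hN, hC, hψ⟩ := exists_connected_chart P f I φ s'
    exact ⟨A, A.ι ≫ f, inferInstance, hN, hC, ⟨⟨s', hsA⟩, rfl⟩, I, hψ⟩
  choose A fA hfA hN hC hsA I hφ using hchart
  have key : ∀ (s : S) (a : A s), ((z ≫ P.hom).base ⁻¹' {fA s a}).Finite →
      IsFinite (pullback.snd (z ≫ P.hom) (fA s)) ∧
        ∀ a' : A s, ((z ≫ P.hom).base ⁻¹' {fA s a'}).Finite := by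
    intro s a ha
    have := hfA s
    have := hN s
    have := hC s
    obtain ⟨φ⟩ := hφ s
    exact chart_key P z (fA s) (I s) φ a ha
  let G : Set S := {w | ((z ≫ P.hom).base ⁻¹' {w}).Finite}
  have hrange : ∀ s : S, IsOpen (Set.range (fA s).base) := fun s => by
    have := hfA s
    exact (fA s).isOpenMap.isOpen_range
  have hGo : IsOpen G := by
    rw [isOpen_iff_mem_nhds]
    intro w hw
    obtain ⟨a₀, ha₀⟩ := hsA w
    have hwG : ((z ≫ P.hom).base ⁻¹' {fA w a₀}).Finite := by rw [ha₀]; exact hw
    refine Filter.mem_of_superset ((hrange w).mem_nhds ⟨a₀, ha₀⟩) ?_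
    rintro _ ⟨a', rfl⟩
    exact (key w a₀ hwG).2 a'
  have hGc : IsOpen Gᶜ := by
    rw [isOpen_iff_mem_nhds]
    intro w hw
    obtain ⟨a₀, ha₀⟩ := hsA w
    refine Filter.mem_of_superset ((hrange w).mem_nhds ⟨a₀, ha₀⟩) ?_
    rintro _ ⟨a', rfl⟩ ha'
    apply hw
    have := (key w a' ha').2 a₀
    rw [ha₀] at this
    exact this
  have hGu : G = Set.univ := IsClopen.eq_univ ⟨isOpen_compl_iff.mp hGc, hGo⟩ hs
  have := Groth.Agent.R2.H44.FppfLocal.isFinite.{u}
  refine MorphismProperty.IsLocalAtTarget.of_forall_pullbackSnd (P := @IsFinite)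
    (K := Scheme.fppfPrecoverage) (R := Presieve.ofArrows A fA) ?_ ?_
  · rw [Scheme.fppfPrecoverage, Scheme.ofArrows_mem_precoverage_iff]
    refine ⟨fun x => ⟨x, hsA x⟩, fun s => ?_⟩
    have := hfA s
    exact ⟨inferInstance, inferInstance⟩
  · rintro U g' _ ⟨s⟩
    obtain ⟨a₀, -⟩ := hsA s
    have hmem : fA s a₀ ∈ G := by rw [hGu]; trivial
    exact (key s a₀ hmem).1

end Groth.Agent.R2.H97.TwConstEtale
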