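import Mathlib
import Groth.Prelude.Def_TwC
import Groth.Agent.R2.H97TwConstFinite
import Groth.Agent.R2.H97TwConstEtale

/-!
# Isotrivial twisted constant groups are unions of clopen finite pieces (helper97; S5308)
-/

set_option autoImplicit false
universe u
open CategoryTheory CategoryTheory.Limits AlgebraicGeometry TopologicalSpace MonoidalCategory

namespace Groth.Agent.R2.H97.TwConstIsotrivial

/-- SGA3 X 5.11 (i) ⇒ (ii): every point of an isotrivial twisted constant group has an open and closed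
neighbourhood finite over the base. (Neither commutativity nor the group structure is used beyond the charts.) -/
theorem exists_clopen_finite {S : Scheme.{u}} (R : Over S) [GrpObj R]
    (hR : TwC.IsTwConstGrp TwC.Topology.finiteEtale R) (x : R.left) :
    ∃ U : R.left.Opens, x ∈ U ∧ IsClosed (U : Set R.left) ∧ IsFinite (U.ι ≫ R.hom) := by
  classical
  obtain ⟨S', f, hfin, hét, hsurj, hloc⟩ := hR
  have hfpqc : TwC.IsTwConst TwC.Topology.fpqc R := by
    refine ⟨S', f, inferInstance, hsurj, fun V hV => ?_, fun s' => ?_⟩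
    · refine ⟨f ⁻¹ᵁ V, ?_, ?_⟩
      · exact QuasiCompact.isCompact_preimage (f := f) _ V.2 hV.isCompact
      · exact Set.image_preimage_eq _ hsurj.surj
    · obtain ⟨U, hs', -, M, _, e, -⟩ := hloc s'
      exact ⟨U, hs', M, ⟨e⟩⟩
  obtain ⟨s', hs'⟩ := hsurj.surj (R.hom.base x)
  obtain ⟨U, hs'U, hUcl, M, _, φ, -⟩ := hloc s'
  set k : (U : Scheme.{u}) ⟶ S := U.ι ≫ f with hk
  have hUι : IsClosedImmersion U.ι :=
    IsClosedImmersion.of_isPreimmersion _ (by rw [Scheme.Opens.range_ι]; exact hUcl)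
  have hkfin : IsFinite k := by rw [hk]; infer_instance
  have hkét : Etale k := by rw [hk]; infer_instance
  obtain ⟨u₀, hu₀⟩ : s' ∈ Set.range U.ι.base := by rw [Scheme.Opens.range_ι]; exact hs'U
  have hxs : R.hom x = k u₀ := by
    rw [hk, Scheme.Hom.comp_apply, hu₀]
    exact hs'.symm
  obtain ⟨x'', hx1, hx2⟩ := Scheme.Pullback.exists_preimage_pullback x u₀ hxs
  obtain ⟨⟨m, w⟩, hmw⟩ := (sigmaMk (fun _ : M => (U : Scheme.{u}))).surjective (φ.hom.left x'')
  rw [sigmaMk_mk] at hmw
  have hisoφ : IsIso φ.inv.left := inferInstanceAs (IsIso ((Over.forget _).map φ.inv))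
  let q : (∐ (fun _ : M => (U : Scheme.{u}))) ⟶ R.left := φ.inv.left ≫ pullback.fst R.hom k
  let h : (U : Scheme.{u}) ⟶ R.left := Sigma.ι (fun _ : M => (U : Scheme.{u})) m ≫ q
  have hφinv : φ.inv.left ≫ pullback.snd R.hom k = Sigma.desc (fun _ : M => 𝟙 (U : Scheme.{u})) :=
    Over.w φ.inv
  have hh : h ≫ R.hom = k := by
    simp only [h, q, Category.assoc]
    rw [pullback.condition, ← Category.assoc φ.inv.left, hφinv, ← Category.assoc, Sigma.ι_desc,
      Category.id_comp]
  have hxh : h w = x := by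
    simp only [h, q]
    rw [Scheme.Hom.comp_apply, hmw, Scheme.Hom.comp_apply, ← Scheme.Hom.comp_apply φ.hom.left]
    have : φ.hom.left ≫ φ.inv.left = 𝟙 _ := by
      rw [← Over.comp_left, φ.hom_inv_id]; rfl
    rw [this]
    exact hx1
  have hétq : Etale q := inferInstance
  have hopen : IsOpen (Set.range h.base) := h.isOpenMap.isOpen_range
  have hclι : IsClosed (Set.range (Sigma.ι (fun _ : M => (U : Scheme.{u})) m).base) := by
    rw [← isOpen_compl_iff]
    have heq : (Set.range (Sigma.ι (fun _ : M => (U : Scheme.{u})) m).base)ᶜ =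
        ⋃ m' ∈ {m' : M | m' ≠ m}, Set.range (Sigma.ι (fun _ : M => (U : Scheme.{u})) m').base := by
      ext y
      simp only [Set.mem_compl_iff, Set.mem_range, Set.mem_iUnion, Set.mem_ofPred_eq, exists_prop]
      obtain ⟨⟨m₁, w₁⟩, hy⟩ := (sigmaMk (fun _ : M => (U : Scheme.{u}))).surjective y
      rw [sigmaMk_mk] at hy
      constructor
      · intro hne
        refine ⟨m₁, ?_, w₁, hy⟩
        rintro rfl
        exact hne ⟨w₁, hy⟩
      · rintro ⟨m', hm', w', hw'⟩ ⟨w₂, hw₂⟩
        have := (sigmaι_eq_iff (fun _ : M => (U : Scheme.{u})) m' m w' w₂).mp (hw'.trans hw₂.symm)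
        exact hm' (congrArg Sigma.fst this)
    rw [heq]
    exact isOpen_biUnion fun m' _ => (Sigma.ι (fun _ : M => (U : Scheme.{u})) m').isOpenEmbedding.isOpen_range
  have hclosed : IsClosed (Set.range h.base) := by
    have : Set.range h.base = q.base '' Set.range (Sigma.ι (fun _ : M => (U : Scheme.{u})) m).base := by
      rw [← Set.range_comp]; rfl
    rw [this]
    exact q.isClosedMap _ hclι
  let V : R.left.Opens := ⟨Set.range h.base, hopen⟩
  refine ⟨V, ⟨w, hxh⟩, hclosed, ?_⟩
  have hVι : IsClosedImmersion V.ι :=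
    IsClosedImmersion.of_isPreimmersion _ (by rw [Scheme.Opens.range_ι]; exact hclosed)
  have hrange : Set.range h.base ⊆ Set.range V.ι.base := by
    rw [Scheme.Opens.range_ι]
    exact fun _ hy => hy
  let h' : (U : Scheme.{u}) ⟶ V := IsOpenImmersion.lift V.ι h hrange
  have hh' : h' ≫ V.ι = h := IsOpenImmersion.lift_fac _ _ _
  have hsurj' : Function.Surjective h'.base := by
    intro v
    have hv : V.ι v ∈ (V : Set R.left) := by
      rw [← Scheme.Opens.range_ι]; exact ⟨v, rfl⟩
    obtain ⟨w₀, hw₀⟩ : V.ι v ∈ Set.range h.base := hv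
    refine ⟨w₀, ?_⟩
    apply V.ι.injective
    rw [← Scheme.Hom.comp_apply, hh', hw₀]
  have hqc : QuasiCompact (V.ι ≫ R.hom) := by
    refine ⟨fun K hKo hKc => ?_⟩
    have hkK : IsCompact (k.base ⁻¹' K) := QuasiCompact.isCompact_preimage (f := k) _ hKo hKc
    have heq : (V.ι ≫ R.hom).base ⁻¹' K = h'.base '' (k.base ⁻¹' K) := by
      have hcomp : h' ≫ (V.ι ≫ R.hom) = k := by rw [← Category.assoc, hh', hh]
      ext v
      constructor
      · intro hv
        obtain ⟨w₀, rfl⟩ := hsurj' v
        refine ⟨w₀, ?_, rfl⟩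
        change k w₀ ∈ K
        rw [← hcomp, Scheme.Hom.comp_apply]
        exact hv
      · rintro ⟨w₀, hw₀, rfl⟩
        change (V.ι ≫ R.hom) (h' w₀) ∈ K
        rw [← Scheme.Hom.comp_apply, hcomp]
        exact hw₀
    rw [heq]
    exact hkK.image h'.continuous
  exact Groth.Agent.R2.H97.TwConstFinite.isFinite_of_closed_of_isTwConst R hfpqc V.ι

end Groth.Agent.R2.H97.TwConstIsotrivial
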