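import Mathlib
import Groth.Prelude.Def_TwC
import Groth.Prelude.Def_CAlg2
import Groth.Agent.R2.H97TwConstEtale
import Groth.Agent.Lib.Helper3EtGUSchF
import Groth.Agent.Lib.Helper3IrrTopD

/-!
# Connected components of quasi-isotrivial twisted constant schemes over geometrically unibranch bases
(helper97; SGA3 X 5.14, for S5268)
-/

set_option autoImplicit false
universe u
open CategoryTheory CategoryTheory.Limits AlgebraicGeometry TopologicalSpace

namespace Groth.Agent.R2.H97.TwConstUnibranch

open Groth.Agent.R2.H97.TwConstEtale Groth.Agent.Lib.Helper3.IrrTop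

section Top

/-- If every point has an open neighbourhood which is a Noetherian space, connected components are open. -/
theorem isOpen_connectedComponent_of_locally_noetherian {α : Type*} [TopologicalSpace α]
    (h : ∀ y : α, ∃ V : Set α, IsOpen V ∧ y ∈ V ∧ NoetherianSpace V) (x : α) :
    IsOpen (connectedComponent x) := by
  rw [isOpen_iff_mem_nhds]
  intro y hy
  obtain ⟨V, hVo, hyV, hVn⟩ := h y
  let C' : Set V := connectedComponent (⟨y, hyV⟩ : V)
  have hC'o : IsOpen C' := isOpen_connectedComponent_of_noetherianSpace _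
  have hopen : IsOpen (Subtype.val '' C') := hVo.isOpenMap_subtype_val _ hC'o
  have hconn : IsConnected (Subtype.val '' C') :=
    isConnected_connectedComponent.image _ continuous_subtype_val.continuousOn
  have hyC' : y ∈ Subtype.val '' C' := ⟨⟨y, hyV⟩, mem_connectedComponent, rfl⟩
  have hsub : Subtype.val '' C' ⊆ connectedComponent x := by
    rw [connectedComponent_eq hy]
    exact hconn.isPreconnected.subset_connectedComponent hyC'
  exact Filter.mem_of_superset (hopen.mem_nhds hyC') hsub

end Top

section Scheme

/-- Connected components of a locally Noetherian scheme are open. -/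
theorem isOpen_connectedComponent_of_isLocallyNoetherian (X : Scheme.{u}) [IsLocallyNoetherian X] (x : X) :
    IsOpen (connectedComponent x) := by
  apply isOpen_connectedComponent_of_locally_noetherian
  intro y
  obtain ⟨A₀, hA₀, hy, -⟩ := exists_isAffineOpen_mem_and_subset (x := y) (U := ⊤) trivial
  have hR₀ : IsNoetherianRing Γ(X, A₀) := IsLocallyNoetherian.component_noetherian ⟨A₀, hA₀⟩
  exact ⟨A₀, A₀.isOpen, hy, noetherianSpace_of_isAffineOpen A₀ hA₀⟩

/-- The minimal points (for generization). -/
def minPts (X : Scheme.{u}) : Set X := {ξ | ∀ y : X, y ⤳ ξ → y = ξ}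

theorem hyp_minPts (X : Scheme.{u}) [IsLocallyNoetherian X]
    (hmin : ∀ x : X, (nilradical (X.presheaf.stalk x)).IsPrime) : Hyp (minPts X) where
  ex x := by
    have hZ := irreducibleComponent_mem_irreducibleComponents x
    have hirr : IsIrreducible (irreducibleComponent x) := isIrreducible_irreducibleComponent
    have hcl : IsClosed (irreducibleComponent x) := isClosed_irreducibleComponent
    have hgen := hirr.isGenericPoint_genericPoint hcl
    refine ⟨hirr.genericPoint, ?_, ?_⟩
    · intro y hy
      have h1 : irreducibleComponent x ⊆ closure {y} := by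
        rw [← hgen.def]
        exact closure_minimal (Set.singleton_subset_iff.mpr (specializes_iff_mem_closure.mp hy))
          isClosed_closure
      have h2 : closure {y} ⊆ irreducibleComponent x := hZ.2 isIrreducible_singleton.closure h1
      have h3 : y ∈ closure {hirr.genericPoint} := by
        rw [hgen.def]; exact h2 (subset_closure rfl)
      exact ((specializes_iff_mem_closure.mpr h3).antisymm hy).eq.symm
    · rw [specializes_iff_mem_closure, hgen.def]
      exact mem_irreducibleComponent
  uniq x := by
    have := hmin x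
    let K : PrimeSpectrum (X.presheaf.stalk x) := ⟨nilradical _, hmin x⟩
    suffices key : ∀ ξ ∈ minPts X, ξ ⤳ x → ξ = X.fromSpecStalk x K by
      intro ξ hξ ξ' hξ' h1 h2
      rw [key ξ hξ h1, key ξ' hξ' h2]
    intro ξ hξ hs
    obtain ⟨P, rfl⟩ : ξ ∈ Set.range (X.fromSpecStalk x) := by
      rw [Scheme.range_fromSpecStalk]; exact hs
    have hPp : (PrimeSpectrum.asIdeal P).IsPrime := PrimeSpectrum.isPrime P
    have hKP : K ⤳ (P : PrimeSpectrum (X.presheaf.stalk x)) :=
      (PrimeSpectrum.le_iff_specializes K P).mp (nilradical_le_prime P.asIdeal)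
    have h2 : X.fromSpecStalk x K ⤳ X.fromSpecStalk x P := hKP.map (X.fromSpecStalk x).continuous
    exact (hξ _ h2).symm
  fin x := by
    classical
    obtain ⟨A₀, hA₀, hx, -⟩ := exists_isAffineOpen_mem_and_subset (x := x) (U := ⊤) trivial
    have hR₀ : IsNoetherianRing Γ(X, A₀) := IsLocallyNoetherian.component_noetherian ⟨A₀, hA₀⟩
    have hN : NoetherianSpace (A₀ : Set X) := noetherianSpace_of_isAffineOpen A₀ hA₀
    have hQS : QuasiSober (A₀ : Set X) :=
      inferInstanceAs (QuasiSober (A₀ : Scheme.{u}))
    refine ⟨A₀, A₀.isOpen, hx, ?_⟩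
    have hfin := NoetherianSpace.finite_irreducibleComponents (α := (A₀ : Set X))
    let F : Set (A₀ : Set X) → X := fun Z =>
      if h : IsIrreducible Z then (h.genericPoint : (A₀ : Set X)).1 else x
    refine (hfin.image F).subset ?_
    rintro ξ ⟨hξ, hξA⟩
    let ξ' : (A₀ : Set X) := ⟨ξ, hξA⟩
    refine ⟨irreducibleComponent ξ', irreducibleComponent_mem_irreducibleComponents ξ', ?_⟩
    have hirr : IsIrreducible (irreducibleComponent ξ') := isIrreducible_irreducibleComponent
    have hgen := hirr.isGenericPoint_genericPoint isClosed_irreducibleComponent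
    have hsp : hirr.genericPoint ⤳ ξ' := by
      rw [specializes_iff_mem_closure, hgen.def]
      exact mem_irreducibleComponent
    have hsp' : (hirr.genericPoint : (A₀ : Set X)).1 ⤳ ξ := (subtype_specializes_iff _ _).mp hsp
    show F (irreducibleComponent ξ') = ξ
    simp only [F, dif_pos hirr]
    exact hξ _ hsp'

/-- A connected locally Noetherian scheme all of whose local rings have a prime nilradical is irreducible. -/
theorem irreducibleSpace_of_connected (X : Scheme.{u}) [IsLocallyNoetherian X] [ConnectedSpace X]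
    (hmin : ∀ x : X, (nilradical (X.presheaf.stalk x)).IsPrime) : IrreducibleSpace X :=
  (hyp_minPts X hmin).irreducibleSpace

end Scheme

section Main

variable {S : Scheme.{u}}

set_option backward.isDefEq.respectTransparency.types false in
/-- A quasi-isotrivial twisted constant scheme is étale over the base. -/
theorem etale_of_isTwConst (P : Over S) (hP : TwC.IsTwConst TwC.Topology.etale P) : Etale P.hom := by
  have hchart : ∀ s : S, ∃ (A : Scheme.{u}) (fA : A ⟶ S), Etale fA ∧ s ∈ Set.range fA.base ∧
      ∃ I : Type u, Nonempty (Red.bc fA P ≅ TwC.const A I) := by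
    intro s
    obtain ⟨S', f, hf, hs, I, hφ⟩ := hP s
    exact ⟨S', f, hf, hs, I, hφ⟩
  choose A fA hfA hsA I hφ using hchart
  have := Groth.Agent.R2.H44.FppfLocal.etale.{u}
  refine MorphismProperty.IsLocalAtTarget.of_forall_pullbackSnd (P := @Etale)
    (K := Scheme.fppfPrecoverage) (R := Presieve.ofArrows A fA) ?_ ?_
  · rw [Scheme.fppfPrecoverage, Scheme.ofArrows_mem_precoverage_iff]
    refine ⟨fun x => ⟨x, hsA x⟩, fun s => ?_⟩
    have := hfA s
    exact ⟨inferInstance, inferInstance⟩
  · rintro U g' _ ⟨s⟩
    obtain ⟨φ⟩ := hφ s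
    have hφ' : φ.hom.left ≫ Sigma.desc (fun _ : I s => 𝟙 (A s)) = pullback.snd P.hom (fA s) :=
      Over.w φ.hom
    have hiso : IsIso φ.hom.left := inferInstanceAs (IsIso ((Over.forget _).map φ.hom))
    have hE : Etale (Sigma.desc (fun _ : I s => 𝟙 (A s))) :=
      IsZariskiLocalAtSource.sigmaDesc (fun _ => inferInstance)
    rw [← hφ']
    infer_instance

/-- Base change along equal morphisms. -/
noncomputable def bcCongr {X : Scheme.{u}} {a b : X ⟶ S} (h : a = b) (P : Over S) :
    Red.bc a P ≅ Red.bc b P := by
  subst h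
  exact Iso.refl _

/-- Restriction of a quasi-isotrivial twisted constant scheme to an open subscheme. -/
theorem isTwConst_restrict (P : Over S) (hP : TwC.IsTwConst TwC.Topology.etale P) (T : S.Opens) :
    TwC.IsTwConst TwC.Topology.etale (Red.bc T.ι P) := by
  intro t
  obtain ⟨S', f, hf, ⟨s', hs'⟩, I, ⟨φ⟩⟩ := hP (T.ι t)
  let pr := pullback.fst f T.ι
  let q := pullback.snd f T.ι
  obtain ⟨w, -, hw⟩ := Scheme.Pullback.exists_preimage_pullback (f := f) (g := T.ι) s' t hs'
  refine ⟨pullback f T.ι, q, inferInstance, ⟨w, hw⟩, I, ?_⟩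
  obtain ⟨ψ⟩ := nonempty_bc_const_iso pr I
  have hcond : pr ≫ f = q ≫ T.ι := pullback.condition
  exact ⟨((Over.pullbackComp q T.ι).app P).symm ≪≫ bcCongr hcond.symm P ≪≫
    (Over.pullbackComp pr f).app P ≪≫ (Over.pullback pr).mapIso φ ≪≫ ψ⟩

set_option backward.isDefEq.respectTransparency.types false in
/-- SGA3 X 5.14. -/
theorem main [IsLocallyNoetherian S] (hS : ∀ s : S, CAlg2.IsGeomUnibranch (S.presheaf.stalk s))
    (P : Over S) (hP : TwC.IsTwConst TwC.Topology.etale P) (x : P.left) :
    ∃ U : P.left.Opens, (U : Set P.left) = connectedComponent x ∧ IsFinite (U.ι ≫ P.hom) := by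
  have hEt : Etale P.hom := etale_of_isTwConst P hP
  have hPn : IsLocallyNoetherian P.left := LocallyOfFiniteType.isLocallyNoetherian P.hom
  let U : P.left.Opens :=
    ⟨connectedComponent x, isOpen_connectedComponent_of_isLocallyNoetherian P.left x⟩
  refine ⟨U, rfl, ?_⟩
  let s : S := P.hom x
  let T : S.Opens := ⟨connectedComponent s, isOpen_connectedComponent_of_isLocallyNoetherian S s⟩
  have himg : ∀ y ∈ connectedComponent x, P.hom y ∈ connectedComponent s := by
    intro y hy
    have : P.hom.base '' (connectedComponent x) ⊆ connectedComponent s :=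
      (isConnected_connectedComponent.image _
        P.hom.continuous.continuousOn).isPreconnected.subset_connectedComponent
        ⟨x, mem_connectedComponent, rfl⟩
    exact this ⟨y, hy, rfl⟩
  have hTc : ConnectedSpace (T : Scheme.{u}) :=
    isConnected_iff_connectedSpace.mp (isConnected_connectedComponent (x := s))
  have hUc : ConnectedSpace (U : Scheme.{u}) :=
    isConnected_iff_connectedSpace.mp (isConnected_connectedComponent (x := x))
  -- the lift of `U ⟶ S` through `T`
  have hrange : Set.range (U.ι ≫ P.hom).base ⊆ Set.range T.ι.base := by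
    rintro _ ⟨y, rfl⟩
    rw [Scheme.Opens.range_ι]
    exact himg _ y.2
  let g : (U : Scheme.{u}) ⟶ (T : Scheme.{u}) := IsOpenImmersion.lift T.ι (U.ι ≫ P.hom) hrange
  have hg : g ≫ T.ι = U.ι ≫ P.hom := IsOpenImmersion.lift_fac _ _ _
  let z : (U : Scheme.{u}) ⟶ (Red.bc T.ι P).left := pullback.lift U.ι g hg.symm
  have hz1 : z ≫ pullback.fst P.hom T.ι = U.ι := pullback.lift_fst _ _ _
  have hz2 : z ≫ (Red.bc T.ι P).hom = g := pullback.lift_snd _ _ _
  have hzo : IsOpenImmersion z := by
    have : IsOpenImmersion (z ≫ pullback.fst P.hom T.ι) := by rw [hz1]; infer_instance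
    exact IsOpenImmersion.of_comp z (pullback.fst P.hom T.ι)
  have hzc : IsClosedImmersion z := by
    apply IsClosedImmersion.of_isPreimmersion
    have hcl : IsClosed ((pullback.fst P.hom T.ι).base ⁻¹' (connectedComponent x)) :=
      isClosed_connectedComponent.preimage (pullback.fst P.hom T.ι).continuous
    have heq : Set.range z.base = (pullback.fst P.hom T.ι).base ⁻¹' (connectedComponent x) := by
      ext w
      constructor
      · rintro ⟨y, rfl⟩
        show (pullback.fst P.hom T.ι) (z y) ∈ connectedComponent x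
        rw [← Scheme.Hom.comp_apply, hz1]
        exact y.2
      · intro hw
        refine ⟨⟨(pullback.fst P.hom T.ι) w, hw⟩, ?_⟩
        apply (pullback.fst P.hom T.ι).isOpenEmbedding.injective
        rw [← Scheme.Hom.comp_apply, hz1]
        rfl
    rw [heq]
    exact hcl
  -- stalks of `U` have prime nilradical, so `U` is irreducible
  have hUEt : Etale (U.ι ≫ P.hom) := inferInstance
  have hUn : IsLocallyNoetherian (U : Scheme.{u}) :=
    LocallyOfFiniteType.isLocallyNoetherian (U.ι ≫ P.hom)
  have hmin : ∀ y : (U : Scheme.{u}), (nilradical ((U : Scheme.{u}).presheaf.stalk y)).IsPrime := by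
    intro y
    refine Groth.Agent.Lib.Helper3.EtGUSch.nilradical_isPrime_stalk_of_etale_nhd (U.ι ≫ P.hom) y
      (hS _) ⟨⊤, trivial, ?_⟩
    infer_instance
  have hUirr : IrreducibleSpace (U : Scheme.{u}) := irreducibleSpace_of_connected _ hmin
  -- finiteness over `T`
  have hTn : IsLocallyNoetherian (T : Scheme.{u}) := LocallyOfFiniteType.isLocallyNoetherian T.ι
  have hgEt : Etale (z ≫ (Red.bc T.ι P).hom) := by
    have : Etale (Red.bc T.ι P).hom := by
      show Etale (pullback.snd P.hom T.ι)
      infer_instance
    infer_instance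
  have hlqf : LocallyQuasiFinite (z ≫ (Red.bc T.ι P).hom) := locallyQuasiFinite_of_etale _
  have hfin : IsFinite (z ≫ (Red.bc T.ι P).hom) := by
    refine isFinite_of_clopen_of_isTwConst_etale (Red.bc T.ι P) (isTwConst_restrict P hP T) z
      ⟨(z ≫ (Red.bc T.ι P).hom) (genericPoint (U : Scheme.{u})), ?_⟩
    refine (Set.finite_singleton (genericPoint (U : Scheme.{u}))).subset ?_
    intro c hc
    have hsp : genericPoint (U : Scheme.{u}) ⤳ c :=
      (genericPoint_spec (U : Scheme.{u})).specializes (Set.mem_univ _)
    exact (eq_of_specializes_of_fiber (z ≫ (Red.bc T.ι P).hom) hsp hc.symm).symm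
  -- `T ⟶ S` is a closed immersion
  have hTcl : IsClosedImmersion T.ι := by
    apply IsClosedImmersion.of_isPreimmersion
    rw [Scheme.Opens.range_ι]
    exact isClosed_connectedComponent
  have : U.ι ≫ P.hom = (z ≫ (Red.bc T.ι P).hom) ≫ T.ι := by rw [hz2, hg]
  rw [this]
  infer_instance

end Main

end Groth.Agent.R2.H97.TwConstUnibranch
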