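import Mathlib
set_option backward.isDefEq.respectTransparency.types false

/-!
# Isomorphisms in the contravariant Grothendieck construction (helper98)

Namespace `Groth.Agent.R2.H98.CoGr`.  For a pseudofunctor `F : LocallyDiscrete 𝒮ᵒᵖ ⥤ᵖ Cat`:

* `exists_iso` : an isomorphism `f` of the base and an isomorphism `a.fiber ≅ F(f)(b.fiber)` give an isomorphism
  `a ≅ b` in `∫ᶜ F` over `f`.
* `isIso_fiber` : the fiber component of an isomorphism of `∫ᶜ F` is an isomorphism.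
-/

set_option autoImplicit false
universe v₁ u₁ v₂ u₂
open CategoryTheory Opposite Bicategory Pseudofunctor CoGrothendieck

namespace Groth.Agent.R2.H98.CoGr

variable {𝒮 : Type u₁} [Category.{v₁} 𝒮] {F : LocallyDiscrete 𝒮ᵒᵖ ⥤ᵖ Cat.{v₂, u₂}}

/-- an isomorphism of the base and an isomorphism of fibers give an isomorphism in `∫ᶜ F` -/
theorem exists_iso (a b : ∫ᶜ F) (f : a.base ⟶ b.base) [IsIso f]
    (φ : a.fiber ≅ (F.map f.op.toLoc).toFunctor.obj b.fiber) :
    ∃ α : a ≅ b, α.hom.base = f := by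
  have h1 : Functor.IsStronglyCartesian (forget F) f (cartesianLift b.fiber f) :=
    isStronglyCartesian_homCartesianLift b.fiber f
  have h2 : IsIso (cartesianLift b.fiber f) :=
    Functor.IsStronglyCartesian.isIso_of_base_isIso (forget F) f (cartesianLift b.fiber f)
  let c : domainCartesianLift b.fiber f ≅ (⟨b.base, b.fiber⟩ : ∫ᶜ F) :=
    @asIso _ _ _ _ (cartesianLift b.fiber f) h2
  let d : a ≅ domainCartesianLift b.fiber f := (ι F a.base).mapIso φ
  refine ⟨d ≪≫ c, ?_⟩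
  change 𝟙 a.base ≫ f = f
  exact Category.id_comp f


theorem isSplitMono_of_comp_eq {C : Type*} [Category C] {A B D D' : C} (f : A ⟶ B) (g : B ⟶ D) (i : A ⟶ D')
    (e : D' = D) (hi : IsIso i) (h : f ≫ g = i ≫ eqToHom e) : IsSplitMono f := by
  subst e
  rw [eqToHom_refl, Category.comp_id] at h
  exact IsSplitMono.mk' ⟨g ≫ inv i, by rw [← Category.assoc, h, IsIso.hom_inv_id]⟩

theorem isSplitEpi_of_comp_eq {C : Type*} [Category C] {A B D D' : C} (f : A ⟶ B) (g : B ⟶ D) (i : A ⟶ D')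
    (e : D' = D) (hi : IsIso i) (h : f ≫ g = i ≫ eqToHom e) : IsSplitEpi g := by
  subst e
  rw [eqToHom_refl, Category.comp_id] at h
  exact IsSplitEpi.mk' ⟨inv i ≫ f, by rw [Category.assoc, h, IsIso.inv_hom_id]⟩

theorem epi_of_epi_comp_iso {C : Type*} [Category C] {A B D : C} (f : A ⟶ B) (g : B ⟶ D) (hg : IsIso g)
    (h : Epi (f ≫ g)) : Epi f := by
  have : f = (f ≫ g) ≫ inv g := by rw [Category.assoc, IsIso.hom_inv_id, Category.comp_id]
  rw [this]
  exact epi_comp _ _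


theorem isIso_mapId_inv_app (S : LocallyDiscrete 𝒮ᵒᵖ) (x : F.obj S) :
    IsIso ((F.mapId S).inv.toNatTrans.app x) :=
  ⟨⟨(F.mapId S).hom.toNatTrans.app x, Cat.Hom.inv_hom_id_toNatTrans_app _ _,
    Cat.Hom.hom_inv_id_toNatTrans_app _ _⟩⟩

theorem isIso_mapComp_inv_app {S S' S'' : LocallyDiscrete 𝒮ᵒᵖ} (f : S ⟶ S') (g : S' ⟶ S'') (x : F.obj S) :
    IsIso ((F.mapComp f g).inv.toNatTrans.app x) :=
  ⟨⟨(F.mapComp f g).hom.toNatTrans.app x, Cat.Hom.inv_hom_id_toNatTrans_app _ _,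
    Cat.Hom.hom_inv_id_toNatTrans_app _ _⟩⟩

theorem isSplitMono_fiber {a b : ∫ᶜ F} (α : a ≅ b) : IsSplitMono α.hom.fiber := by
  have e1 := Hom.congr α.hom_inv_id
  rw [categoryStruct_comp_fiber, categoryStruct_id_fiber] at e1
  exact isSplitMono_of_comp_eq _ _ _ _ (isIso_mapId_inv_app (F := F) ⟨op a.base⟩ a.fiber) e1

theorem faithful_of_iso {a b : ∫ᶜ F} (α : a ≅ b) : (F.map α.inv.base.op.toLoc).toFunctor.Faithful := by
  have hb : α.hom.base ≫ α.inv.base = 𝟙 a.base := congrArg (fun φ => φ.base) α.hom_inv_id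
  have hc : α.inv.base.op.toLoc ≫ α.hom.base.op.toLoc = 𝟙 (⟨op a.base⟩ : LocallyDiscrete 𝒮ᵒᵖ) := by
    change (α.inv.base.op ≫ α.hom.base.op).toLoc = _
    rw [← op_comp, hb]
    rfl
  let e : (F.map α.inv.base.op.toLoc).toFunctor ⋙ (F.map α.hom.base.op.toLoc).toFunctor ≅ 𝟭 _ :=
    (Cat.Hom.toNatIso (F.mapComp α.inv.base.op.toLoc α.hom.base.op.toLoc)).symm ≪≫
      eqToIso (by rw [hc]) ≪≫ Cat.Hom.toNatIso (F.mapId _)
  exact Functor.Faithful.of_comp_iso e

theorem epi_fiber {a b : ∫ᶜ F} (α : a ≅ b) : Epi α.hom.fiber := by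
  have e2 := Hom.congr α.inv_hom_id
  rw [categoryStruct_comp_fiber, categoryStruct_id_fiber] at e2
  have hF := faithful_of_iso α
  have h1 := isSplitEpi_of_comp_eq _ _ _ _ (isIso_mapId_inv_app (F := F) ⟨op b.base⟩ b.fiber) e2
  have h2 : Epi ((F.map α.inv.base.op.toLoc).toFunctor.map α.hom.fiber) :=
    epi_of_epi_comp_iso _ _ (isIso_mapComp_inv_app (F := F) α.hom.base.op.toLoc α.inv.base.op.toLoc b.fiber)
      h1.epi
  exact (F.map α.inv.base.op.toLoc).toFunctor.epi_of_epi_map h2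

theorem isIso_fiber {a b : ∫ᶜ F} (α : a ≅ b) : IsIso α.hom.fiber := by
  have h1 := isSplitMono_fiber α
  have h2 := epi_fiber α
  exact isIso_of_epi_of_isSplitMono _

end Groth.Agent.R2.H98.CoGr
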