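import Mathlib
import Groth.Agent.Lib.Helper20BlowUp

set_option autoImplicit false
universe u

open CategoryTheory CategoryTheory.Limits AlgebraicGeometry

namespace Groth.Agent.R2.H98.Contract

open Scheme.IdealSheafData

/-- pullback of ideal sheaves commutes with powers -/
theorem comap_pow {S T : Scheme.{u}} (g : S ⟶ T) (I : T.IdealSheafData) (n : ℕ) :
    (I ^ n).comap g = (I.comap g) ^ n := by
  induction n with
  | zero => rw [pow_zero, pow_zero, one_eq_top, one_eq_top, comap_top]
  | succ n ih => rw [pow_succ, pow_succ, Groth.Agent.Lib.Helper20.BlowUpBasic.comap_mul, ih]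

/-- ring-level: if `a^k ≤ a^(k+1)` and `a^k` is finitely generated, then `a^k` is generated by an idempotent -/
theorem exists_idempotent_of_pow_le {R : Type*} [CommRing R] [IsNoetherianRing R] (a : Ideal R) (k : ℕ)
    (h : a ^ k ≤ a ^ (k + 1)) : ∃ e : R, IsIdempotentElem e ∧ a ^ k = Ideal.span {e} := by
  have h1 : a ^ k = a ^ (k + 1) := le_antisymm h (Ideal.pow_le_pow_right (Nat.le_succ k))
  have h2 : ∀ j : ℕ, a ^ (k + j) = a ^ k := by
    intro j
    induction j with
    | zero => rfl
    | succ j ih => rw [← add_assoc, pow_succ, ih, ← pow_succ, ← h1]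
  have hidem : IsIdempotentElem (a ^ k) := by
    show a ^ k * a ^ k = a ^ k
    rw [← pow_add, h2]
  exact (Ideal.isIdempotentElem_iff_of_fg _ (IsNoetherian.noetherian _)).1 hidem

/-- on a locally Noetherian scheme, an ideal sheaf with `J^k ≤ J^(k+1)` has open support -/
theorem isOpen_support_of_pow_le {X : Scheme.{u}} [IsLocallyNoetherian X] (J : X.IdealSheafData) (k : ℕ)
    (h : J ^ k ≤ J ^ (k + 1)) : IsOpen (J.support : Set X) := by
  rw [isOpen_iff_forall_mem_open]
  intro x hx
  obtain ⟨U, hU, hxU, -⟩ := exists_isAffineOpen_mem_and_subset (x := x) (U := (⊤ : X.Opens)) trivial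
  haveI : IsNoetherianRing Γ(X, U) := IsLocallyNoetherian.component_noetherian ⟨U, hU⟩
  set a : Ideal Γ(X, U) := J.ideal ⟨U, hU⟩ with ha
  have hak : a ^ k ≤ a ^ (k + 1) := h ⟨U, hU⟩
  obtain ⟨e, he, hbe⟩ := exists_idempotent_of_pow_le a k hak
  have hea : e ∈ a := by
    have h1 : e ∈ a ^ k := by rw [hbe]; exact Ideal.subset_span rfl
    rcases Nat.eq_zero_or_pos k with hk | hk
    · have : e ∈ a ^ (k + 1) := hak h1
      rw [hk, zero_add, pow_one] at this
      exact this
    · exact Ideal.pow_le_self hk.ne' h1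
  -- pointwise description on `U`
  have key : ∀ y : X, y ∈ U → (y ∈ (J.support : Set X) ↔ y ∈ X.basicOpen (1 - e)) := by
    intro y hyU
    rw [SetLike.mem_coe, mem_support_iff_of_mem (U := ⟨U, hU⟩) hyU, Scheme.mem_zeroLocus_iff]
    simp only [Scheme.mem_basicOpen _ _ _ hyU]
    constructor
    · intro hz
      have h1 : ¬ IsUnit (X.presheaf.germ U y hyU e) := hz e hea
      have h2 : X.presheaf.germ U y hyU e + X.presheaf.germ U y hyU (1 - e) = 1 := by
        rw [← map_add, add_sub_cancel, map_one]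
      rcases IsLocalRing.isUnit_or_isUnit_of_add_one h2 with h3 | h3
      · exact absurd h3 h1
      · exact h3
    · intro hu f hf hfu
      have h1 : f ^ k ∈ Ideal.span {e} := by rw [← hbe]; exact Ideal.pow_mem_pow hf k
      obtain ⟨r, hr⟩ := Ideal.mem_span_singleton'.1 h1
      have h2 : (1 - e) * f ^ k = 0 := by
        rw [← hr]
        have : e * e = e := he
        linear_combination (-r) * this
      have h3 : IsUnit (X.presheaf.germ U y hyU ((1 - e) * f ^ k)) := by
        rw [map_mul, map_pow]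
        exact hu.mul (hfu.pow k)
      rw [h2, map_zero] at h3
      exact not_isUnit_zero h3
  refine ⟨X.basicOpen (1 - e), ?_, (X.basicOpen (1 - e)).isOpen, ?_⟩
  · intro y hy
    exact (key y (X.basicOpen_le _ hy)).2 hy
  · exact (key x hxU).1 hx


theorem contracting {C X Fx : Scheme.{u}} (k : Type u) [Field k]
    (pC : C ⟶ Spec (CommRingCat.of k)) [LocallyOfFiniteType pC]
    (pX : X ⟶ Spec (CommRingCat.of k)) (c₁ c₂ : C ⟶ X) (hc : c₁ ≫ pX = c₂ ≫ pX)
    (i : Fx ⟶ C) (δ : Fx ⟶ X) (hF : IsPullback i δ (pullback.lift c₁ c₂ hc) (pullback.diagonal pX))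
    (I : X.IdealSheafData) (W : C.Opens) (hW : Set.range i.base ⊆ (W : Set C))
    (k₀ : ℕ) (hpow : I.comap (W.ι ≫ c₁) ^ k₀ ≤ I.comap (W.ι ≫ c₂) ^ (k₀ + 1))
    (β : Fx.Opens) (hβ : _root_.IsConnected (β : Set Fx))
    (hβZ : (δ.base '' (β : Set Fx) ∩ (I.support : Set X)).Nonempty) :
    (β : Set Fx) ⊆ δ.base ⁻¹' (I.support : Set X) := by
  -- `Fx` is locally Noetherian
  haveI : IsLocallyNoetherian C := LocallyOfFiniteType.isLocallyNoetherian pC
  haveI : LocallyOfFiniteType i :=
    MorphismProperty.of_isPullback (P := @LocallyOfFiniteType) hF.flip inferInstance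
  haveI : IsLocallyNoetherian Fx := LocallyOfFiniteType.isLocallyNoetherian i
  -- `δ = i ≫ c₁ = i ≫ c₂`
  have h1 : i ≫ c₁ = δ := by
    have := congrArg (· ≫ pullback.fst pX pX) hF.w
    simp only [Category.assoc, pullback.diagonal_fst, Category.comp_id] at this
    rw [pullback.lift_fst] at this
    exact this
  have h2 : i ≫ c₂ = δ := by
    have := congrArg (· ≫ pullback.snd pX pX) hF.w
    simp only [Category.assoc, pullback.diagonal_snd, Category.comp_id] at this
    rw [pullback.lift_snd] at this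
    exact this
  -- `i` factors through `W`
  have hrange : Set.range i.base ⊆ Set.range W.ι.base := by
    rw [Scheme.Opens.range_ι]; exact hW
  let i' : Fx ⟶ W.toScheme := IsOpenImmersion.lift W.ι i hrange
  have hi' : i' ≫ W.ι = i := IsOpenImmersion.lift_fac _ _ _
  set J : Fx.IdealSheafData := I.comap δ with hJ
  have hJ1 : J = (I.comap (W.ι ≫ c₁)).comap i' := by
    rw [hJ, ← comap_comp, ← Category.assoc, hi', h1]
  have hJ2 : J = (I.comap (W.ι ≫ c₂)).comap i' := by
    rw [hJ, ← comap_comp, ← Category.assoc, hi', h2]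
  have hJpow : J ^ k₀ ≤ J ^ (k₀ + 1) := by
    calc J ^ k₀ = (I.comap (W.ι ≫ c₁) ^ k₀).comap i' := by rw [comap_pow, ← hJ1]
      _ ≤ (I.comap (W.ι ≫ c₂) ^ (k₀ + 1)).comap i' := comap_mono i' hpow
      _ = J ^ (k₀ + 1) := by rw [comap_pow, ← hJ2]
  have hopen : IsOpen (J.support : Set Fx) := isOpen_support_of_pow_le J k₀ hJpow
  have hsupp : (J.support : Set Fx) = δ.base ⁻¹' (I.support : Set X) := by
    rw [hJ, support_comap]; rfl
  have hclopen : IsClopen (δ.base ⁻¹' (I.support : Set X)) := by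
    rw [← hsupp]
    exact ⟨J.support.isClosed, hopen⟩
  apply hβ.isPreconnected.subset_isClopen hclopen
  obtain ⟨_, ⟨y, hyβ, rfl⟩, hyI⟩ := hβZ
  exact ⟨y, hyβ, hyI⟩

end Groth.Agent.R2.H98.Contract
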