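import Mathlib
import Groth.Agent.R2.H20CurveSpec
import Groth.Agent.R2.H98CurveGen

/-!
# PROJ:curves-rr package CR5 in the form of the interface file (helper98)
-/

set_option autoImplicit false
universe u

open CategoryTheory AlgebraicGeometry

namespace Groth.Agent.R2.H98.CurveGen

/-- **CR5** in the shape of `H20.CurveSpec.GenStmt` (the hypothesis `Van2` is not needed). -/
theorem genStmt_spec (k : Type u) [Field k] (X : Scheme.{u}) [X.Over (Spec (CommRingCat.of k))]
    [IsIntegral X] [IsProper (X ↘ Spec (CommRingCat.of k))] :
    Groth.Agent.R2.H20.CurveSpec.GenStmt k X :=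
  fun hdim hfin _ _ hM s hs => genStmt hdim.le hfin hM s hs

end Groth.Agent.R2.H98.CurveGen
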