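import Mathlib
import Groth.Prelude.Def_Coh
import Groth.Prelude.Def_Pic
import Groth.Prelude.Def_CohB1
import Groth.Prelude.Def_CurvBase
import Groth.Agent.R2.H98CurveGen
import Groth.Agent.R2.H62CurveDeg
import Groth.Agent.Lib.Helper27PnSections

/-!
# `h^0(L) ≤ deg L + 1` on proper curves: cohomological part (helper98)

* `finrank_H0_le_of_shortExact`, `HHmap_zero_surjective_of_finrank_eq'`: linear algebra on the
  `H^0` part of the long exact sequence.
* `finrank_HH_eq_of_iso`, `euler_eq_of_iso`, `deg_eq_of_iso`: invariance under isomorphisms.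
* `HHmap_zero_surjective_of_app_top`: surjectivity on global sections gives surjectivity on `H^0`.
* `HHmap_one_injective_of_surjective`: if `H^0(S.X₂) → H^0(S.X₃)` is onto then
  `H^1(S.X₁) → H^1(S.X₂)` is injective.
-/

set_option autoImplicit false
set_option linter.style.haveILetI false
universe u

open CategoryTheory CategoryTheory.Limits AlgebraicGeometry TopologicalSpace Opposite

namespace Groth.Agent.R2.H98.CurveH0

open Groth.Agent.R2.H62.CohLES

variable {X : Scheme.{u}}

theorem arith_le {r₁ r₂ x₁ x₂ x₃ : ℕ} (hrk : r₂ + r₁ = x₂) (h1 : r₁ ≤ x₁) (h2 : r₂ ≤ x₃) :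
    x₂ ≤ x₁ + x₃ := by omega

theorem arith_eq {r₁ r₂ x₁ x₂ x₃ : ℕ} (hrk : r₂ + r₁ = x₂) (h1 : r₁ ≤ x₁) (h2 : r₂ ≤ x₃)
    (h : x₂ = x₁ + x₃) : r₂ = x₃ := by omega

section linalg

variable (k : Type u) [Field k] [X.Over (Spec (CommRingCat.of k))]

/-- `h^0(S.X₂) ≤ h^0(S.X₁) + h^0(S.X₃)` for a short exact sequence. -/
theorem finrank_H0_le_of_shortExact {S : ShortComplex X.Modules} (hS : S.ShortExact)
    (_h₁ : Module.Finite k (Coh.HH X S.X₁ 0)) (_h₂ : Module.Finite k (Coh.HH X S.X₂ 0))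
    (_h₃ : Module.Finite k (Coh.HH X S.X₃ 0)) :
    Module.finrank k (Coh.HH X S.X₂ 0) ≤
      Module.finrank k (Coh.HH X S.X₁ 0) + Module.finrank k (Coh.HH X S.X₃ 0) := by
  have hrk := LinearMap.finrank_range_add_finrank_ker (HHmapA k S.g 0)
  have hker : LinearMap.ker (HHmapA k S.g 0) = LinearMap.range (HHmapA k S.f 0) := by
    ext y
    simp only [LinearMap.mem_ker, LinearMap.mem_range]
    exact exact_f_g hS 0 y
  have h1 : Module.finrank k (LinearMap.range (HHmapA k S.f 0)) ≤
      Module.finrank k (Coh.HH X S.X₁ 0) := LinearMap.finrank_range_le _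
  have h2 : Module.finrank k (LinearMap.range (HHmapA k S.g 0)) ≤
      Module.finrank k (Coh.HH X S.X₃ 0) := Submodule.finrank_le _
  rw [hker] at hrk
  exact arith_le hrk h1 h2

/-- if `h^0(S.X₂) = h^0(S.X₁) + h^0(S.X₃)` then `H^0(S.X₂) → H^0(S.X₃)` is onto. -/
theorem HHmap_zero_surjective_of_finrank_eq' {S : ShortComplex X.Modules} (hS : S.ShortExact)
    (_h₁ : Module.Finite k (Coh.HH X S.X₁ 0)) (_h₂ : Module.Finite k (Coh.HH X S.X₂ 0))
    (_h₃ : Module.Finite k (Coh.HH X S.X₃ 0))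
    (h : Module.finrank k (Coh.HH X S.X₂ 0) =
      Module.finrank k (Coh.HH X S.X₁ 0) + Module.finrank k (Coh.HH X S.X₃ 0)) :
    Function.Surjective (HHmap S.g 0) := by
  have hrk := LinearMap.finrank_range_add_finrank_ker (HHmapA k S.g 0)
  have hker : LinearMap.ker (HHmapA k S.g 0) = LinearMap.range (HHmapA k S.f 0) := by
    ext y
    simp only [LinearMap.mem_ker, LinearMap.mem_range]
    exact exact_f_g hS 0 y
  have h1 : Module.finrank k (LinearMap.range (HHmapA k S.f 0)) ≤
      Module.finrank k (Coh.HH X S.X₁ 0) := LinearMap.finrank_range_le _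
  have h2 : Module.finrank k (LinearMap.range (HHmapA k S.g 0)) ≤
      Module.finrank k (Coh.HH X S.X₃ 0) := Submodule.finrank_le _
  rw [hker] at hrk
  have h3 : Module.finrank k (LinearMap.range (HHmapA k S.g 0)) =
      Module.finrank k (Coh.HH X S.X₃ 0) := arith_eq hrk h1 h2 h
  have h4 : LinearMap.range (HHmapA k S.g 0) = ⊤ := Submodule.eq_top_of_finrank_eq h3
  exact LinearMap.range_eq_top.1 h4

/-- the map induced on cohomology by an isomorphism is a linear equivalence. -/
noncomputable def HHequivOfIso {M N : X.Modules} (e : M ≅ N) (n : ℕ) :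
    Coh.HH X M n ≃ₗ[k] Coh.HH X N n :=
  LinearEquiv.ofLinearMap (HHmapA k e.hom n) (HHmapA k e.inv n)
    (by
      ext y
      change HHmap e.hom n (HHmap e.inv n y) = y
      rw [← HHmap_comp, e.inv_hom_id, HHmap_id])
    (by
      ext y
      change HHmap e.inv n (HHmap e.hom n y) = y
      rw [← HHmap_comp, e.hom_inv_id, HHmap_id])

theorem finrank_HH_eq_of_iso {M N : X.Modules} (e : M ≅ N) (n : ℕ) :
    Module.finrank k (Coh.HH X M n) = Module.finrank k (Coh.HH X N n) :=
  (HHequivOfIso k e n).finrank_eq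

theorem euler_eq_of_iso {M N : X.Modules} (e : M ≅ N) : Curv2.euler k X M = Curv2.euler k X N := by
  unfold Curv2.euler
  congr 1
  funext i
  rw [finrank_HH_eq_of_iso k e i]

theorem deg_eq_of_iso {M N : X.Modules} (e : M ≅ N) (n : ℕ) :
    Curv2.deg k X M n = Curv2.deg k X N n := by
  unfold Curv2.deg
  rw [euler_eq_of_iso k e]

theorem subsingleton_HH_of_iso {M N : X.Modules} (e : M ≅ N) (n : ℕ)
    (h : Subsingleton (Coh.HH X N n)) : Subsingleton (Coh.HH X M n) := by
  refine ⟨fun a b => ?_⟩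
  have ha : a = HHmap e.inv n (HHmap e.hom n a) := by
    rw [← HHmap_comp, e.hom_inv_id, HHmap_id]
  have hb : b = HHmap e.inv n (HHmap e.hom n b) := by
    rw [← HHmap_comp, e.hom_inv_id, HHmap_id]
  rw [ha, hb, Subsingleton.elim (HHmap e.hom n a) (HHmap e.hom n b)]

end linalg

section les

/-- surjectivity on global sections gives surjectivity on `H^0`. -/
theorem HHmap_zero_surjective_of_app_top {M N : X.Modules} (g : M ⟶ N)
    (h : ∀ q : Γ(N, ⊤), ∃ T : Γ(M, ⊤), g.app ⊤ T = q) : Function.Surjective (HHmap g 0) := by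
  let eM := Groth.Agent.Lib.Helper27PnSections.hh0Equiv X M
  let eN := Groth.Agent.Lib.Helper27PnSections.hh0Equiv X N
  intro z
  obtain ⟨T, hT⟩ := h (eN z)
  refine ⟨eM.symm T, ?_⟩
  apply eN.injective
  have h1 := CategoryTheory.Sheaf.H.equiv₀_naturality (f := toAbMap g) (hT := Limits.isTerminalTop)
    (eM.symm T)
  have h2 : eM (eM.symm T) = T := AddEquiv.apply_symm_apply _ _
  refine h1.symm.trans ?_
  change g.app ⊤ (eM (eM.symm T)) = eN z
  rw [h2, hT]

/-- if `H^0(S.X₂) → H^0(S.X₃)` is onto then `H^1(S.X₁) → H^1(S.X₂)` is injective. -/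
theorem HHmap_one_injective_of_surjective {S : ShortComplex X.Modules} (hS : S.ShortExact)
    (h : Function.Surjective (HHmap S.g 0)) : Function.Injective (HHmap S.f 1) := by
  rw [injective_iff_map_eq_zero]
  intro y hy
  obtain ⟨z, rfl⟩ := (exact_δ_f hS 0 y).1 hy
  obtain ⟨w, rfl⟩ := h z
  exact (exact_g_δ hS 0 _).2 ⟨w, rfl⟩

/-- for a monomorphism `φ`, if every global section of `coker φ` lifts, then `H^1(φ)` is
injective. -/
theorem HHmap_one_injective_of_lift {M N : X.Modules} (φ : M ⟶ N) [Mono φ]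
    (h : ∀ q : Γ(cokernel φ, ⊤), ∃ T : Γ(N, ⊤), (cokernel.π φ).app ⊤ T = q) :
    Function.Injective (HHmap φ 1) :=
  HHmap_one_injective_of_surjective
    (S := ShortComplex.mk φ (cokernel.π φ) (cokernel.condition φ))
    (Groth.Agent.R2.H62.CurveCore.shortExact_cokernel φ)
    (HHmap_zero_surjective_of_app_top (cokernel.π φ) h)

/-- abstract arithmetic used for `h^0 ≤ deg + h^0(O)`. -/
theorem int_le_of_nat_le {a b c : ℕ} {d : ℤ} (h : a ≤ b + c) (hd : d = c) : (a : ℤ) ≤ d + b := by
  omega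

/-- abstract arithmetic used for the equality case. -/
theorem nat_eq_of_int_eq {a b c : ℕ} {d : ℤ} (h : (a : ℤ) = d + b) (hd : d = c) : a = b + c := by
  omega

end les

end Groth.Agent.R2.H98.CurveH0
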