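import Mathlib
import Groth.Prelude.Def_Coh
import Groth.Prelude.Def_Pic
import Groth.Prelude.Def_CohB1
import Groth.Prelude.Def_CurvBase
import Groth.Agent.R2.H98CurveGen
import Groth.Agent.Lib.Helper23FinTypeLocal
import Groth.Agent.Lib.Helper2QcPush
import Groth.Agent.Lib.Helper23Support

/-!
# Multiplication by sections and cokernels on curves: the induction step (helper98)

`X` an integral proper curve over a field, `L` invertible with two sections `s t` without common
zero, `P` invertible.  With `σ = (· ⊗ s) : P ⟶ P ⊗ L`, `σ' = (· ⊗ s) : P ⊗ L ⟶ P ⊗ L ⊗ L` and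
cokernels `Q`, `Q'`: if every global section of `Q` lifts to `P ⊗ L`, then every global section of
`Q'` lifts to `P ⊗ L ⊗ L` (`lift_step`).  The lift is `T ⊗ t` where `T` lifts a suitable section
of `Q`.
-/

set_option autoImplicit false
set_option linter.style.haveILetI false
universe u

open CategoryTheory CategoryTheory.Limits AlgebraicGeometry TopologicalSpace Opposite

namespace Groth.Agent.R2.H98.CurveH0

open Groth.Agent.Lib.Helper23.SecTw Groth.Agent.Lib.Helper23.GenLocus
  Groth.Agent.Lib.Helper23.Extend Groth.Agent.Lib.Helper6 Groth.Agent.R2.H98.CurveGen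

variable {X : Scheme.{u}}

/-- two sections which agree locally are equal. -/
theorem eq_of_locally_eq (M : X.Modules) {V : X.Opens} (a b : Γ(M, V))
    (h : ∀ x ∈ V, ∃ (V' : X.Opens) (hV' : V' ≤ V), x ∈ V' ∧ res M hV' a = res M hV' b) : a = b := by
  rw [← sub_eq_zero]
  apply Groth.Agent.Lib.Helper2.QcPush.section_eq_zero_of_cover
  intro x hx
  obtain ⟨V', hV', hxV', heq⟩ := h x hx
  refine ⟨V', hV', hxV', ?_⟩
  change res M hV' (a - b) = 0
  rw [res_sub, heq, sub_self]

/-- for an invertible `L`, `(z ⊗ a) ⊗ b = (z ⊗ b) ⊗ a`. -/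
theorem tm_tm_comm (P : X.Modules) {L : X.Modules} (hL : PicF.IsInvertible L) (V : X.Opens)
    (z : Γ(P, V)) (a b : Γ(L, V)) :
    tm (CohB1.tensorMod P L) L V (tm P L V z a) b =
      tm (CohB1.tensorMod P L) L V (tm P L V z b) a := by
  apply eq_of_locally_eq
  intro x hx
  obtain ⟨W, e, hxW, he⟩ := exists_gen L hL x
  have hV' : V ⊓ W ≤ V := inf_le_left
  have hW' : V ⊓ W ≤ W := inf_le_right
  refine ⟨V ⊓ W, hV', ⟨hx, hxW⟩, ?_⟩
  rw [res_tm, res_tm, res_tm, res_tm]
  rw [← coef_spec he hW' (res L hV' a), ← coef_spec he hW' (res L hV' b)]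
  simp only [tm_smul_left, tm_smul_right]
  rw [smul_comm]

/-- local lifting through multiplication by a section `u`, near a point where `u` generates. -/
theorem exists_local_lift_mulSec {P L : X.Modules} (hP : PicF.IsInvertible P)
    (hL : PicF.IsInvertible L) (u : Coh.structureModule X ⟶ L) (x : X)
    (hx : x ∈ CohB1.genLocus L u) {V : X.Opens} (hxV : x ∈ V) (p : Γ(CohB1.tensorMod P L, V)) :
    ∃ (V' : X.Opens) (hV' : V' ≤ V), x ∈ V' ∧ ∃ p' : Γ(P, V'),
      (mulSec P u).app V' p' = res _ hV' p := by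
  obtain ⟨W, hxW, -, e, f, hsv, hbo, he⟩ := exists_frame L hL u x
  obtain ⟨W', n, hxW', hn⟩ := exists_gen P hP x
  have h₁ : W ⊓ W' ≤ W := inf_le_left
  have h₂ : W ⊓ W' ≤ W' := inf_le_right
  set W₀ : X.Opens := W ⊓ W' with hW₀
  set e₀ : Γ(L, W₀) := res L h₁ e with he₀def
  set n₀ : Γ(P, W₀) := res P h₂ n with hn₀def
  set f₀ : Γ(X, W₀) := resf h₁ f with hf₀def
  have he₀ : IsGen L W₀ e₀ := he.mono h₁
  have hn₀ : IsGen P W₀ n₀ := hn.mono h₂
  have hsv₀ : sv u W₀ = f₀ • e₀ := by
    rw [← res_sv u h₁, hsv, res_smul]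
  have hgen : IsGen (CohB1.tensorMod P L) W₀ (tm P L W₀ n₀ e₀) := isGen_tm P L W₀ n₀ e₀ hn₀ he₀
  have hxf : x ∈ X.basicOpen f := by rw [hbo]; exact ⟨hx, hxW⟩
  have hxf₀ : x ∈ X.basicOpen f₀ := by
    rw [hf₀def, Scheme.basicOpen_res]; exact ⟨⟨hxW, hxW'⟩, hxf⟩
  have hbW : X.basicOpen f₀ ≤ W₀ := X.basicOpen_le f₀
  set V' : X.Opens := V ⊓ X.basicOpen f₀ with hV'def
  have hV'V : V' ≤ V := inf_le_left
  have hV'b : V' ≤ X.basicOpen f₀ := inf_le_right
  have hV'W : V' ≤ W₀ := hV'b.trans hbW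
  refine ⟨V', hV'V, ⟨hxV, hxf₀⟩, ?_⟩
  -- `f₀` is a unit on `V'`
  have hu : IsUnit (resf hV'W f₀) := by
    have h1 : IsUnit (resf hbW f₀) := RingedSpace.isUnit_res_basicOpen _ f₀
    have h2 : resf hV'W f₀ = resf hV'b (resf hbW f₀) := (resf_resf hbW hV'b f₀).symm
    rw [h2]
    exact h1.map _
  obtain ⟨g, hg⟩ := hu.exists_right_inv
  set c : Γ(X, V') := coef hgen hV'W (res _ hV'V p) with hc
  have hcs : c • res _ hV'W (tm P L W₀ n₀ e₀) = res _ hV'V p := coef_spec hgen hV'W _
  refine ⟨(c * g) • res P hV'W n₀, ?_⟩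
  rw [mulSec_app_frame P u e₀ f₀ hsv₀ n₀ hV'W (c * g), ← hcs]
  congr 1
  rw [mul_assoc, mul_comm g, hg, mul_one]

/-- the composite `M ⟶ N ⟶ coker` kills sections. -/
theorem cokernel_π_app_apply {M N : X.Modules} (φ : M ⟶ N) (V : X.Opens) (w : Γ(M, V)) :
    (cokernel.π φ).app V (φ.app V w) = 0 := by
  have h2 : (φ ≫ cokernel.π φ).app V w = 0 := by rw [cokernel.condition φ]; rfl
  exact h2

section step

open Groth.Agent.R2.H62.CurveCore Groth.Agent.R2.H62.CurveInv Groth.Agent.Lib.Helper23.Support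

/-- **The induction step.**  `s t` sections of `L` without common zero.  If every global section of
`coker (P ⟶ P ⊗ L)` lifts to `P ⊗ L`, then every global section of `coker (P ⊗ L ⟶ P ⊗ L ⊗ L)`
lifts to `P ⊗ L ⊗ L` (both maps being multiplication by `s`). -/
theorem lift_step (k : Type u) [Field k] [X.Over (Spec (CommRingCat.of k))] [IsIntegral X]
    [IsProper (X ↘ Spec (CommRingCat.of k))]
    (hdim : topologicalKrullDim X ≤ 1) {P L : X.Modules} (hP : PicF.IsInvertible P)
    (hL : PicF.IsInvertible L) (s t : Coh.structureModule X ⟶ L) (hs : s ≠ 0)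
    (hcov : CohB1.genLocus L s ⊔ CohB1.genLocus L t = ⊤)
    (hlift : ∀ q : Γ(cokernel (mulSec P s), ⊤), ∃ T : Γ(CohB1.tensorMod P L, ⊤),
      (cokernel.π (mulSec P s)).app ⊤ T = q) :
    ∀ q : Γ(cokernel (mulSec (CohB1.tensorMod P L) s), ⊤),
      ∃ T : Γ(CohB1.tensorMod (CohB1.tensorMod P L) L, ⊤),
        (cokernel.π (mulSec (CohB1.tensorMod P L) s)).app ⊤ T = q := by
  classical
  haveI := compactSpace_of_isProper k X
  haveI : IsLocallyNoetherian X :=
    LocallyOfFiniteType.isLocallyNoetherian (X ↘ (Spec (CommRingCat.of k)))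
  haveI : IsNoetherian X := {}
  have hP' : PicF.IsInvertible (CohB1.tensorMod P L) := isInvertible_tensorMod hP hL
  have hP'' : PicF.IsInvertible (CohB1.tensorMod (CohB1.tensorMod P L) L) :=
    isInvertible_tensorMod hP' hL
  have hσ : mulSec P s ≠ 0 := mulSec_ne_zero hP hL s hs
  have hσ' : mulSec (CohB1.tensorMod P L) s ≠ 0 := mulSec_ne_zero hP' hL s hs
  haveI : Mono (mulSec P s) := mono_of_ne_zero hP hP' _ hσ
  haveI : Mono (mulSec (CohB1.tensorMod P L) s) := mono_of_ne_zero hP' hP'' _ hσ'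
  have hS := shortExact_cokernel (mulSec P s)
  have hcP := isCoh_of_isInvertible hP
  have hcP' := isCoh_of_isInvertible hP'
  have hcP'' := isCoh_of_isInvertible hP''
  have hcQ := isCoh_cokernel hcP hcP' (mulSec P s)
  have hcQ' := isCoh_cokernel hcP' hcP'' (mulSec (CohB1.tensorMod P L) s)
  have hdQ := dim_support_cokernel_le_zero hdim hP hP' _ hσ
  have hdQ' := dim_support_cokernel_le_zero hdim hP' hP'' _ hσ'
  obtain ⟨hZfin, hZpt⟩ := Groth.Agent.R2.H98.FinDim.finite_of_isClosed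
    (Groth.Agent.S0020.result X _ hcQ.2) hdQ
  obtain ⟨hZ'fin, hZ'pt⟩ := Groth.Agent.R2.H98.FinDim.finite_of_isClosed
    (Groth.Agent.S0020.result X _ hcQ'.2) hdQ'
  set Q := cokernel (mulSec P s) with hQdef
  set Q' := cokernel (mulSec (CohB1.tensorMod P L) s) with hQ'def
  intro q
  let Z : Set X := CohB1.support Q ∪ CohB1.support Q'
  have hZf : Z.Finite := hZfin.union hZ'fin
  have hZp : ∀ x ∈ Z, IsClosed ({x} : Set X) := by
    rintro x (hx | hx)
    · exact hZpt x hx
    · exact hZ'pt x hx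
  have hZc : IsClosed Z := isClosed_of_finite_of_closedPoints hZf hZp
  -- local data: near every point, `q` is the class of some `p' ⊗ t`
  have hloc : ∀ x : X, ∃ W : X.Opens, x ∈ W ∧ ∃ p' : Γ(CohB1.tensorMod P L, W),
      (cokernel.π (mulSec (CohB1.tensorMod P L) s)).app W
        ((mulSec (CohB1.tensorMod P L) t).app W p') = res Q' le_top q := by
    intro x
    obtain ⟨A, hA, hxA, -⟩ := exists_isAffineOpen_mem_and_subset (X := X) (x := x) (U := ⊤) trivial
    haveI : (CohB1.tensorMod (CohB1.tensorMod P L) L).IsQuasicoherent := hcP''.1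
    haveI : Q'.IsQuasicoherent := hcQ'.1
    obtain ⟨p, hp⟩ := Groth.Agent.Lib.Helper23.FinType.surjective_app_of_epi
      (cokernel.π (mulSec (CohB1.tensorMod P L) s)) hA (res Q' le_top q)
    have hx : x ∈ CohB1.genLocus L s ⊔ CohB1.genLocus L t := by rw [hcov]; trivial
    rcases hx with hx | hx
    · obtain ⟨V', hV', hxV', p'', hp''⟩ := exists_local_lift_mulSec hP' hL s x hx hxA p
      refine ⟨V', hxV', 0, ?_⟩
      rw [map_zero, map_zero]
      have e1 : res Q' (le_top : V' ≤ ⊤) q = res Q' hV' (res Q' le_top q) := (res_res _ _ _ _).symm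
      rw [e1, ← hp]
      have e2 := app_map (cokernel.π (mulSec (CohB1.tensorMod P L) s)) (homOfLE hV') p
      have e3 : (cokernel.π (mulSec (CohB1.tensorMod P L) s)).app V'
          (res (CohB1.tensorMod (CohB1.tensorMod P L) L) hV' p) = 0 := by
        rw [← hp'']; exact cokernel_π_app_apply _ _ _
      exact (e2.symm.trans e3).symm
    · obtain ⟨V', hV', hxV', p', hp'⟩ := exists_local_lift_mulSec hP' hL t x hx hxA p
      refine ⟨V', hxV', p', ?_⟩
      rw [hp']
      have e2 := app_map (cokernel.π (mulSec (CohB1.tensorMod P L) s)) (homOfLE hV') p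
      have e1 : res Q' (le_top : V' ≤ ⊤) q = res Q' hV' (res Q' le_top q) := (res_res _ _ _ _).symm
      rw [e1, ← hp]
      exact e2
  choose W hxW p' hp' using hloc
  obtain ⟨q₀, hq₀⟩ := exists_glue_of_finite Q Z hZf hZp Set.subset_union_left (fun x : Z => W x)
    (fun x => hxW x) (fun x => (cokernel.π (mulSec P s)).app (W x) (p' x))
  obtain ⟨T₀, hT₀⟩ := hlift q₀
  refine ⟨(mulSec (CohB1.tensorMod P L) t).app ⊤ T₀, ?_⟩
  apply eq_of_locally_eq
  intro y _
  by_cases hy : y ∈ Z
  · obtain ⟨V, hVW, hyV, hqV⟩ := hq₀ ⟨y, hy⟩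
    refine ⟨V, le_top, hyV, ?_⟩
    -- `π (T₀|_V - p'_y|_V) = 0`
    set TV : Γ(CohB1.tensorMod P L, V) := res _ le_top T₀ with hTV
    set pV : Γ(CohB1.tensorMod P L, V) := res _ hVW (p' y) with hpV
    have h1 : (cokernel.π (mulSec P s)).app V (TV - pV) = 0 := by
      rw [map_sub, hTV, hpV]
      have e1 : (cokernel.π (mulSec P s)).app V (res _ le_top T₀) =
          res Q le_top ((cokernel.π (mulSec P s)).app ⊤ T₀) :=
        app_map (cokernel.π (mulSec P s)) (homOfLE le_top) T₀
      have e2 : (cokernel.π (mulSec P s)).app V (res _ hVW (p' y)) =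
          res Q hVW ((cokernel.π (mulSec P s)).app (W y) (p' y)) :=
        app_map (cokernel.π (mulSec P s)) (homOfLE hVW) (p' y)
      rw [e1, e2, hT₀, hqV, sub_self]
    obtain ⟨z, hz⟩ := Groth.Agent.Lib.Helper2.ModExact.exists_app_eq_of_shortExact _ hS V (TV - pV) h1
    replace hz : (mulSec P s).app V z = TV - pV := hz
    -- commutation of the two multiplications
    have hcomm : (mulSec (CohB1.tensorMod P L) t).app V ((mulSec P s).app V z) =
        (mulSec (CohB1.tensorMod P L) s).app V ((mulSec P t).app V z) := by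
      rw [mulSec_app, mulSec_app, mulSec_app, mulSec_app]
      exact tm_tm_comm P hL V z (sv s V) (sv t V)
    have h2 : (cokernel.π (mulSec (CohB1.tensorMod P L) s)).app V
        ((mulSec (CohB1.tensorMod P L) t).app V (TV - pV)) = 0 := by
      rw [← hz, hcomm, cokernel_π_app_apply]
    rw [map_sub, map_sub, sub_eq_zero] at h2
    have e3 : res Q' (le_top : V ≤ ⊤) ((cokernel.π (mulSec (CohB1.tensorMod P L) s)).app ⊤
        ((mulSec (CohB1.tensorMod P L) t).app ⊤ T₀)) =
        (cokernel.π (mulSec (CohB1.tensorMod P L) s)).app V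
          ((mulSec (CohB1.tensorMod P L) t).app V TV) := by
      rw [hTV]
      have a1 := app_map (mulSec (CohB1.tensorMod P L) t) (homOfLE (le_top : V ≤ ⊤)) T₀
      have a2 := app_map (cokernel.π (mulSec (CohB1.tensorMod P L) s)) (homOfLE (le_top : V ≤ ⊤))
        ((mulSec (CohB1.tensorMod P L) t).app ⊤ T₀)
      change (mulSec (CohB1.tensorMod P L) t).app V (res _ le_top T₀) = _ at a1
      rw [a1]
      exact a2.symm
    have e4 : (cokernel.π (mulSec (CohB1.tensorMod P L) s)).app V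
        ((mulSec (CohB1.tensorMod P L) t).app V pV) = res Q' (le_top : V ≤ ⊤) q := by
      rw [hpV]
      have a1 := app_map (mulSec (CohB1.tensorMod P L) t) (homOfLE hVW) (p' y)
      have a2 := app_map (cokernel.π (mulSec (CohB1.tensorMod P L) s)) (homOfLE hVW)
        ((mulSec (CohB1.tensorMod P L) t).app (W y) (p' y))
      change (mulSec (CohB1.tensorMod P L) t).app V (res _ hVW (p' y)) = _ at a1
      rw [a1]
      refine a2.trans ?_
      rw [hp' y]
      exact res_res _ _ _ _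
    rw [e3, h2, e4]
  · refine ⟨⟨Zᶜ, hZc.isOpen_compl⟩, le_top, hy, ?_⟩
    have h0 := eq_zero_of_disjoint_support Q' ⟨Zᶜ, hZc.isOpen_compl⟩
      (fun x hx hxs => hx (Or.inr hxs))
    exact (h0 _).trans (h0 _).symm

end step

end Groth.Agent.R2.H98.CurveH0
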