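import Mathlib
import Groth.Prelude.Def_Coh
import Groth.Prelude.Def_Pic
import Groth.Prelude.Def_CohB1
import Groth.Prelude.Def_CurvBase
import Groth.Agent.R2.H98CurveH0
import Groth.Agent.R2.H98CurveH0Step
import Groth.Agent.R2.H54AmpleFinal
import Groth.Agent.R2.H65CurveAff
import Groth.Agent.R2.H87YBlowUp
import Groth.Agent.Lib.Helper23TensorUnit
import Groth.Agent.Lib.Helper23AmpleIso

/-!
# `h^0(L) ≤ deg L + 1` on proper curves, and the equality case (helper98)

`X` an integral proper curve over a field `k` (against `HFin k X`), `L` invertible with a nonzero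
section `s`.

* `finrank_H0_le`: `h^0(L) ≤ deg L + h^0(O_X)`.
* `subsingleton_H1_of_finrank_eq`: if `h^0(L) = deg L + h^0(O_X)` and `deg L > 0`, then
  `H^1(X, O_X) = 0`.

Route for the second: equality makes `H^0(L) → H^0(L/sO)` onto, so there is a section `t` of `L`
without common zero with `s`; `X_s`, `X_t` are affine (helper65, CR4), so `L` is ample and
`H^1(L^n) = 0` for large `n` (helper54/55/91 Serre vanishing).  Multiplying by `t` shows inductively
that `H^0(L^{n+1}) → H^0(L^{n+1}/sL^n)` is onto for all `n` (`lift_step`), so all the maps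
`H^1(L^n) → H^1(L^{n+1})` are injective, and `H^1(O_X) ↪ H^1(L^n) = 0`.
-/

set_option autoImplicit false
set_option linter.style.haveILetI false
universe u

open CategoryTheory CategoryTheory.Limits AlgebraicGeometry TopologicalSpace Opposite

namespace Groth.Agent.R2.H98.CurveH0

open Groth.Agent.Lib.Helper23.SecTw Groth.Agent.Lib.Helper23.GenLocus
  Groth.Agent.Lib.Helper23.Extend Groth.Agent.Lib.Helper6 Groth.Agent.R2.H98.CurveGen
  Groth.Agent.R2.H62.CurveCore Groth.Agent.R2.H62.CurveInv Groth.Agent.R2.H62.CohLES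
  Groth.Agent.Lib.Helper23.TensorUnit

section ample

variable {X : Scheme.{u}}

/-- two sections of `L` without common zero and with affine non-vanishing loci make `L` ample. -/
theorem isAmple_of_two_sections [CompactSpace X] {L : X.Modules} (hL : PicF.IsInvertible L)
    (s t : Coh.structureModule X ⟶ L)
    (hcov : CohB1.genLocus L s ⊔ CohB1.genLocus L t = ⊤)
    (hs : IsAffineOpen (CohB1.genLocus L s)) (ht : IsAffineOpen (CohB1.genLocus L t)) :
    CohB1.IsAmple L := by
  let u : CohB1.tensorPow L 1 ≅ L := unitTensorIso L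
  have key : ∀ a : Coh.structureModule X ⟶ L,
      CohB1.genLocus (CohB1.tensorPow L (0 + 1)) (a ≫ u.inv) = CohB1.genLocus L a := fun a =>
    Groth.Agent.Lib.Helper23.AmpleIso.genLocus_comp_iso u.symm a
  refine ⟨hL, inferInstance, fun x => ?_⟩
  have hx : x ∈ CohB1.genLocus L s ⊔ CohB1.genLocus L t := by rw [hcov]; trivial
  rcases hx with hx | hx
  · exact ⟨0, s ≫ u.inv, (key s).symm ▸ hx, (key s).symm ▸ hs⟩
  · exact ⟨0, t ≫ u.inv, (key t).symm ▸ hx, (key t).symm ▸ ht⟩

end ample

variable {k : Type u} [Field k] {X : Scheme.{u}} [X.Over (Spec (CommRingCat.of k))] [IsIntegral X]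
  [IsProper (X ↘ Spec (CommRingCat.of k))]

/-- `h^0(P) ≤ deg P + h^0(O_X)` for an invertible module with a nonzero section. -/
theorem finrank_H0_le (hdim : topologicalKrullDim X ≤ 1) (hfin : HFin k X) {P : X.Modules}
    (hP : PicF.IsInvertible P) (ψ : Coh.structureModule X ⟶ P) (hψ : ψ ≠ 0) :
    (Module.finrank k (Coh.HH X P 0) : ℤ) ≤
      Curv2.deg k X P 1 + Module.finrank k (Coh.HH X (Coh.structureModule X) 0) := by
  have hO := isInvertible_structureModule X
  haveI : Mono ψ := mono_of_ne_zero hO hP ψ hψ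
  have hcO := isCoh_of_isInvertible hO
  have hcP := isCoh_of_isInvertible hP
  have hcQ := isCoh_cokernel hcO hcP ψ
  have hdeg : Curv2.deg k X P 1 = Module.finrank k (Coh.HH X (cokernel ψ) 0) := by
    have h := deg_eq_add_finrank hdim hfin hO hP ψ hψ
    rw [deg_structureModule, zero_add] at h
    exact h
  have h : Module.finrank k (Coh.HH X P 0) ≤
      Module.finrank k (Coh.HH X (Coh.structureModule X) 0) +
        Module.finrank k (Coh.HH X (cokernel ψ) 0) :=
    finrank_H0_le_of_shortExact k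
      (S := ShortComplex.mk ψ (cokernel.π ψ) (cokernel.condition ψ)) (shortExact_cokernel ψ)
      (hfin _ hcO 0) (hfin _ hcP 0) (hfin _ hcQ 0)
  exact int_le_of_nat_le h hdeg

/-- equality `h^0(P) = deg P + h^0(O_X)` forces `H^0(P) → H^0(coker ψ)` to be onto. -/
theorem HHmap_zero_surjective_of_eq (hdim : topologicalKrullDim X ≤ 1) (hfin : HFin k X)
    {P : X.Modules} (hP : PicF.IsInvertible P) (ψ : Coh.structureModule X ⟶ P) (hψ : ψ ≠ 0)
    (heq : (Module.finrank k (Coh.HH X P 0) : ℤ) =
      Curv2.deg k X P 1 + Module.finrank k (Coh.HH X (Coh.structureModule X) 0)) :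
    Function.Surjective (HHmap (cokernel.π ψ) 0) := by
  have hO := isInvertible_structureModule X
  haveI : Mono ψ := mono_of_ne_zero hO hP ψ hψ
  have hcO := isCoh_of_isInvertible hO
  have hcP := isCoh_of_isInvertible hP
  have hcQ := isCoh_cokernel hcO hcP ψ
  have hdeg : Curv2.deg k X P 1 = Module.finrank k (Coh.HH X (cokernel ψ) 0) := by
    have h := deg_eq_add_finrank hdim hfin hO hP ψ hψ
    rw [deg_structureModule, zero_add] at h
    exact h
  exact HHmap_zero_surjective_of_finrank_eq' k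
    (S := ShortComplex.mk ψ (cokernel.π ψ) (cokernel.condition ψ)) (shortExact_cokernel ψ)
    (hfin _ hcO 0) (hfin _ hcP 0) (hfin _ hcQ 0) (nat_eq_of_int_eq heq hdeg)
/-- if all the cokernel sections lift and `H^1(L^{n₀}) = 0`, then `H^1(O_X) = 0`. -/
theorem subsingleton_H1_of_lift {L : X.Modules} (hL : PicF.IsInvertible L)
    (s : Coh.structureModule X ⟶ L) (hs : s ≠ 0)
    (hlift : ∀ n, ∀ q : Γ(cokernel (mulSec (CohB1.tensorPow L n) s), ⊤),
      ∃ T : Γ(CohB1.tensorMod (CohB1.tensorPow L n) L, ⊤),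
        (cokernel.π (mulSec (CohB1.tensorPow L n) s)).app ⊤ T = q)
    (n₀ : ℕ) (hvan : Subsingleton (Coh.HH X (CohB1.tensorPow L n₀) 1)) :
    Subsingleton (Coh.HH X (Coh.structureModule X) 1) := by
  have hPw : ∀ n, PicF.IsInvertible (CohB1.tensorPow L n) := fun n => isInvertible_tensorPow hL n
  have hinj : ∀ n, Function.Injective (HHmap (mulSec (CohB1.tensorPow L n) s) 1) := by
    intro n
    haveI : Mono (mulSec (CohB1.tensorPow L n) s) :=
      mono_of_ne_zero (hPw n) (isInvertible_tensorMod (hPw n) hL) _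
        (mulSec_ne_zero (hPw n) hL s hs)
    exact HHmap_one_injective_of_lift (mulSec (CohB1.tensorPow L n) s) (hlift n)
  have hdesc : ∀ n, Subsingleton (Coh.HH X (CohB1.tensorPow L n) 1) →
      Subsingleton (Coh.HH X (CohB1.tensorPow L 0) 1) := by
    intro n
    induction n with
    | zero => exact id
    | succ n ih =>
      intro h
      have h' : Subsingleton (Coh.HH X (CohB1.tensorMod (CohB1.tensorPow L n) L) 1) := h
      exact ih (@Function.Injective.subsingleton _ _ _ (hinj n) h')
  exact hdesc n₀ hvan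
/-- the second section. -/
theorem exists_second_section (hdim : topologicalKrullDim X ≤ 1) (hfin : HFin k X)
    {L : X.Modules} (hL : PicF.IsInvertible L) (s : Coh.structureModule X ⟶ L) (hs : s ≠ 0)
    (heq : (Module.finrank k (Coh.HH X L 0) : ℤ) =
      Curv2.deg k X L 1 + Module.finrank k (Coh.HH X (Coh.structureModule X) 0)) :
    (∀ q : Γ(cokernel (mulSec (CohB1.tensorPow L 0) s), ⊤),
      ∃ T : Γ(CohB1.tensorMod (CohB1.tensorPow L 0) L, ⊤),
        (cokernel.π (mulSec (CohB1.tensorPow L 0) s)).app ⊤ T = q) ∧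
    ∃ t : Coh.structureModule X ⟶ L, CohB1.genLocus L s ⊔ CohB1.genLocus L t = ⊤ := by
  have hPw : ∀ n, PicF.IsInvertible (CohB1.tensorPow L n) := fun n => isInvertible_tensorPow hL n
  let u : CohB1.tensorPow L 1 ≅ L := unitTensorIso L
  have hσ₀ : mulSec (CohB1.tensorPow L 0) s ≠ 0 := mulSec_ne_zero (hPw 0) hL s hs
  have heq₁ : (Module.finrank k (Coh.HH X (CohB1.tensorPow L 1) 0) : ℤ) =
      Curv2.deg k X (CohB1.tensorPow L 1) 1 +
        Module.finrank k (Coh.HH X (Coh.structureModule X) 0) := by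
    rw [finrank_HH_eq_of_iso k u 0, deg_eq_of_iso k u 1]
    exact heq
  have hsurj₀ : Function.Surjective (HHmap (cokernel.π (mulSec (CohB1.tensorPow L 0) s)) 0) :=
    HHmap_zero_surjective_of_eq hdim hfin (hPw 1) (mulSec (CohB1.tensorPow L 0) s) hσ₀ heq₁
  obtain ⟨t₁, ht₁⟩ := exists_section_of_surjective k hdim hL s hs 0 hsurj₀
  refine ⟨fun q => app_top_surjective_of_HHmap _ hsurj₀ q, t₁ ≫ u.hom, ?_⟩
  rw [Groth.Agent.Lib.Helper23.AmpleIso.genLocus_comp_iso u t₁]
  exact ht₁

/-- **Equality case.** -/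
theorem subsingleton_H1_of_finrank_eq (hdim : topologicalKrullDim X ≤ 1) (hfin : HFin k X)
    {L : X.Modules} (hL : PicF.IsInvertible L) (s : Coh.structureModule X ⟶ L) (hs : s ≠ 0)
    (heq : (Module.finrank k (Coh.HH X L 0) : ℤ) =
      Curv2.deg k X L 1 + Module.finrank k (Coh.HH X (Coh.structureModule X) 0))
    (hpos : 0 < Curv2.deg k X L 1) :
    Subsingleton (Coh.HH X (Coh.structureModule X) 1) := by
  classical
  haveI := compactSpace_of_isProper k X
  have hO := isInvertible_structureModule X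
  have hPw : ∀ n, PicF.IsInvertible (CohB1.tensorPow L n) := fun n => isInvertible_tensorPow hL n
  obtain ⟨hlift₀, t, hcov⟩ := exists_second_section hdim hfin hL s hs heq
  -- `X_s ≠ X, ∅`
  have hs1 : CohB1.genLocus L s ≠ ⊤ := by
    intro htop
    haveI : IsIso s := (Groth.Agent.R2.H87.YBlowUp.genLocus_eq_top_iff L s).1 htop
    have h1 : Curv2.deg k X (Coh.structureModule X) 1 = Curv2.deg k X L 1 :=
      deg_eq_of_iso k (asIso s) 1
    rw [deg_structureModule] at h1
    exact absurd h1 hpos.ne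
  have hs2 : CohB1.genLocus L s ≠ ⊥ := genLocus_ne_bot hL s hs
  -- `L` is ample
  obtain ⟨haff_s, haff_t⟩ :=
    Groth.Agent.R2.H65.CurveAff.affine_genLocus k X hdim L hL s t hcov hs1 hs2
  have hample : CohB1.IsAmple L := isAmple_of_two_sections hL s t hcov haff_s haff_t
  -- Serre vanishing
  obtain ⟨n₀, hn₀⟩ := Groth.Agent.R2.H54.AmpleFinal.ampleVanishing k X
    (X ↘ Spec (CommRingCat.of k)) L hample (Coh.structureModule X) (isCoh_of_isInvertible hO)
  have hvan : Subsingleton (Coh.HH X (CohB1.tensorPow L n₀) 1) :=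
    subsingleton_HH_of_iso (unitTensorIso (CohB1.tensorPow L n₀)).symm 1
      (hn₀ n₀ le_rfl 1 Nat.one_pos)
  -- all the lifting statements
  have hlift : ∀ n, ∀ q : Γ(cokernel (mulSec (CohB1.tensorPow L n) s), ⊤),
      ∃ T : Γ(CohB1.tensorMod (CohB1.tensorPow L n) L, ⊤),
        (cokernel.π (mulSec (CohB1.tensorPow L n) s)).app ⊤ T = q := by
    intro n
    induction n with
    | zero => exact hlift₀
    | succ n ih => exact lift_step k hdim (hPw n) hL s t hs hcov ih
  exact subsingleton_H1_of_lift hL s hs hlift n₀ hvan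

end Groth.Agent.R2.H98.CurveH0
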