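import Mathlib
import Groth.Prelude.Def_HMNum

set_option autoImplicit false
universe u
open CategoryTheory CategoryTheory.Limits MonoidalCategory CartesianMonoidalCategory MonObj AlgebraicGeometry Opposite

noncomputable section

namespace Groth.Agent.R2.H98.Dense

set_option backward.isDefEq.respectTransparency false in
/-- two morphisms to a separated scheme agreeing on a scheme-theoretically dominant morphism are equal -/
theorem ext_of_schDominant {W X Y Z : Scheme.{u}} {f g : X ⟶ Y} (s : Y ⟶ Z) [IsSeparated s]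
    (h : f ≫ s = g ≫ s) (j : W ⟶ X) [IsSchemeTheoreticallyDominant j] (hU : j ≫ f = j ≫ g) : f = g := by
  let X' : Over Z := Over.mk (f ≫ s)
  let Y' : Over Z := Over.mk s
  let U' : Over Z := Over.mk (j ≫ f ≫ s)
  let f' : X' ⟶ Y' := Over.homMk f
  let g' : X' ⟶ Y' := Over.homMk g
  let j' : U' ⟶ X' := Over.homMk j
  have : IsSeparated Y'.hom := ‹_›
  have hfac : (equalizer.lift j' (by ext1; exact hU : j' ≫ f' = j' ≫ g')).left ≫ (equalizer.ι f' g').left = j := by
    rw [← Over.comp_left, equalizer.lift_ι]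
    rfl
  have hker : (equalizer.ι f' g').left.ker = ⊥ := by
    have := Scheme.Hom.le_ker_comp
      (equalizer.lift j' (by ext1; exact hU : j' ≫ f' = j' ≫ g')).left (equalizer.ι f' g').left
    rw [hfac, j.ker_eq_bot] at this
    exact le_bot_iff.mp this
  have := IsClosedImmersion.isIso_iff_ker_eq_bot.mpr hker
  rw [← cancel_epi (equalizer.ι f' g').left]
  exact congr($(equalizer.condition f' g').left)

theorem schDominant_Spec_map {R A : CommRingCat.{u}} (ψ : R ⟶ A) (hψ : Function.Injective ψ.hom) :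
    IsSchemeTheoreticallyDominant (Spec.map ψ) := by
  rw [isSchemeTheoreticallyDominant_iff]
  apply Scheme.IdealSheafData.ext_of_isAffine
  rw [Scheme.Hom.ker_apply]
  simp only [Scheme.IdealSheafData.ideal_bot, Pi.bot_apply]
  rw [← RingHom.injective_iff_ker_eq_bot]
  have e : (Spec.map ψ).appTop = (Scheme.ΓSpecIso R).hom ≫ ψ ≫ (Scheme.ΓSpecIso A).inv := by
    rw [← Category.assoc, ← Scheme.ΓSpecIso_naturality, Category.assoc, Iso.hom_inv_id, Category.comp_id]
  show Function.Injective (Spec.map ψ).appTop.hom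
  rw [e]
  simp only [CommRingCat.hom_comp, RingHom.coe_comp]
  exact ((ConcreteCategory.bijective_of_isIso (Scheme.ΓSpecIso A).inv).1.comp hψ).comp
    (ConcreteCategory.bijective_of_isIso (Scheme.ΓSpecIso R).hom).1

section ring

variable (R : Type u) [CommRing R] {M N : Type} [CommMonoid M] [CommMonoid N] (f : M →* N)
  (hf : Function.Injective f) (k : Type u) [CommRing k] [Algebra R k]

/-- restriction of coefficients along an injective monoid map, as a linear map -/
def retr : MonoidAlgebra R N →ₗ[R] MonoidAlgebra R M where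
  toFun := MonoidAlgebra.comapDomain f hf
  map_add' := MonoidAlgebra.comapDomain_add f hf
  map_smul' r x := by
    ext m
    simp

theorem retr_mapDomain (x : MonoidAlgebra R M) :
    retr R f hf (MonoidAlgebra.mapDomainBialgHom R f x) = x := by
  induction x using MonoidAlgebra.induction_linear with
  | zero => simp
  | add x y hx hy => rw [map_add, map_add, hx, hy]
  | single m r =>
    rw [MonoidAlgebra.mapDomainBialgHom_single]
    exact MonoidAlgebra.comapDomain_single_map f hf m r

include hf in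
theorem tensor_map_injective :
    Function.Injective (Algebra.TensorProduct.map (MonoidAlgebra.mapDomainBialgHom R f).toAlgHom
      (AlgHom.id R k)) := by
  have h : ∀ z, (LinearMap.rTensor k (retr R f hf))
      ((Algebra.TensorProduct.map (MonoidAlgebra.mapDomainBialgHom R f).toAlgHom (AlgHom.id R k)) z) = z := by
    intro z
    induction z using TensorProduct.induction_on with
    | zero => simp
    | tmul a b =>
      rw [Algebra.TensorProduct.map_tmul, LinearMap.rTensor_tmul]
      simp only [AlgHom.coe_id, id_eq]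
      congr 1
      exact retr_mapDomain R f hf a
    | add x y hx hy => rw [map_add, map_add, hx, hy]
  exact Function.LeftInverse.injective h

end ring

section pb

open TensorProduct

variable (R A A' k : Type u) [CommRing R] [CommRing A] [CommRing A'] [CommRing k] [Algebra R A] [Algebra R A']
  [Algebra R k] (φ : A →ₐ[R] A')

theorem schDominant_of_isPullback
    (hφ : Function.Injective (Algebra.TensorProduct.map φ (AlgHom.id R k)))
    {P P' : Scheme.{u}} {t : Spec (.of k) ⟶ Spec (.of R)}
    (ht : t = Spec.map (CommRingCat.ofHom (algebraMap R k)))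
    {fst : P ⟶ Spec (.of A)} {snd : P ⟶ Spec (.of k)}
    (hP : IsPullback fst snd (Spec.map (CommRingCat.ofHom (algebraMap R A))) t)
    {fst' : P' ⟶ Spec (.of A')} {snd' : P' ⟶ Spec (.of k)}
    (hP' : IsPullback fst' snd' (Spec.map (CommRingCat.ofHom (algebraMap R A'))) t)
    (j : P' ⟶ P) (h1 : j ≫ fst = fst' ≫ Spec.map (CommRingCat.ofHom φ.toRingHom)) (h2 : j ≫ snd = snd') :
    IsSchemeTheoreticallyDominant j := by
  subst ht
  let e := hP.isoPullback ≪≫ pullbackSpecIso R A k
  let e' := hP'.isoPullback ≪≫ pullbackSpecIso R A' k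
  have key : j = e'.hom ≫ Spec.map (CommRingCat.ofHom
      (Algebra.TensorProduct.map φ (AlgHom.id R k)).toRingHom) ≫ e.inv := by
    apply hP.hom_ext
    · rw [h1]
      simp only [e, e', Iso.trans_hom, Iso.trans_inv, Category.assoc, IsPullback.isoPullback_inv_fst,
        pullbackSpecIso_inv_fst]
      rw [← Spec.map_comp]
      have hr : CommRingCat.ofHom (Algebra.TensorProduct.includeLeftRingHom (R := R) (A := A) (B := k)) ≫
          CommRingCat.ofHom (Algebra.TensorProduct.map φ (AlgHom.id R k)).toRingHom =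
          CommRingCat.ofHom φ.toRingHom ≫
            CommRingCat.ofHom (Algebra.TensorProduct.includeLeftRingHom (R := R) (A := A') (B := k)) := by
        ext x
        simp
      rw [hr, Spec.map_comp, pullbackSpecIso_hom_fst_assoc, IsPullback.isoPullback_hom_fst_assoc]
    · rw [h2]
      simp only [e, e', Iso.trans_hom, Iso.trans_inv, Category.assoc, IsPullback.isoPullback_inv_snd,
        pullbackSpecIso_inv_snd]
      rw [← Spec.map_comp]
      have hr : CommRingCat.ofHom (RingHomClass.toRingHom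
            (Algebra.TensorProduct.includeRight (R := R) (A := A) (B := k))) ≫
          CommRingCat.ofHom (Algebra.TensorProduct.map φ (AlgHom.id R k)).toRingHom =
          CommRingCat.ofHom (RingHomClass.toRingHom
            (Algebra.TensorProduct.includeRight (R := R) (A := A') (B := k))) := by
        ext x
        simp
      rw [hr, pullbackSpecIso_hom_snd, IsPullback.isoPullback_hom_snd]
  rw [key]
  haveI := schDominant_Spec_map (CommRingCat.ofHom
      (Algebra.TensorProduct.map φ (AlgHom.id R k)).toRingHom) hφ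
  infer_instance

end pb

section incl

theorem pb_map_left_fst {S S' : Scheme.{u}} (t : S' ⟶ S) {A B : Over S} (m : A ⟶ B) :
    ((Over.pullback t).map m).left ≫ pullback.fst B.hom t = pullback.fst A.hom t ≫ m.left := by
  simp only [Over.pullback, Over.homMk_left]
  exact pullback.lift_fst _ _ _

theorem pb_map_left_snd {S S' : Scheme.{u}} (t : S' ⟶ S) {A B : Over S} (m : A ⟶ B) :
    ((Over.pullback t).map m).left ≫ pullback.snd B.hom t = pullback.snd A.hom t := by
  simp only [Over.pullback, Over.homMk_left]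
  exact pullback.lift_snd _ _ _

variable (k : Type u) [Field k]

theorem schDominant_incl :
    IsSchemeTheoreticallyDominant (HMNum.incl (Spec (CommRingCat.of k))).left := by
  letI : Algebra (ULift.{u} ℤ) k :=
    ((algebraMap ℤ k).comp (ULift.ringEquiv : ULift.{u} ℤ ≃+* ℤ).toRingHom).toAlgebra
  let t : Spec (CommRingCat.of k) ⟶ Spec (CommRingCat.of (ULift.{u} ℤ)) :=
    Limits.IsTerminal.from specULiftZIsTerminal (Spec (CommRingCat.of k))
  have ht : t = Spec.map (CommRingCat.ofHom (algebraMap (ULift.{u} ℤ) k)) := specULiftZIsTerminal.hom_ext _ _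
  let f : (Multiplicative ↥HMNum.plus) →* Multiplicative ℤ := AddMonoidHom.toMultiplicative HMNum.plus.subtype
  have hf : Function.Injective f := fun x y h => Subtype.ext h
  refine schDominant_of_isPullback (ULift.{u} ℤ) (MonoidAlgebra (ULift.{u} ℤ) (Multiplicative ↥HMNum.plus))
    (MonoidAlgebra (ULift.{u} ℤ) (Multiplicative ℤ)) k (MonoidAlgebra.mapDomainBialgHom (ULift.{u} ℤ) f).toAlgHom
    (tensor_map_injective (ULift.{u} ℤ) f hf k) ht
    (IsPullback.of_hasPullback (Magnet.AMon (ULift.{u} ℤ) ↥HMNum.plus).hom t)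
    (IsPullback.of_hasPullback (Magnet.AMon (ULift.{u} ℤ) ℤ).hom t)
    (HMNum.incl (Spec (CommRingCat.of k))).left ?_ ?_
  · exact pb_map_left_fst t (Magnet.AMon.map (ULift.{u} ℤ) HMNum.plus.subtype)
  · exact pb_map_left_snd t (Magnet.AMon.map (ULift.{u} ℤ) HMNum.plus.subtype)

theorem isPullback_whiskerRight {S : Scheme.{u}} {A B : Over S} (m : A ⟶ B) (T : Over S) :
    IsPullback (fst A T).left (m ▷ T).left m.left (fst B T).left := by
  have outer : IsPullback ((m ▷ T).left ≫ (snd B T).left) (fst A T).left T.hom (m.left ≫ B.hom) := by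
    have e1 : (m ▷ T).left ≫ (snd B T).left = (snd A T).left := by
      rw [← Over.comp_left, whiskerRight_snd]
    rw [e1, Over.w m]
    exact (IsPullback.of_hasPullback A.hom T.hom).flip
  have right : IsPullback (snd B T).left (fst B T).left T.hom B.hom :=
    (IsPullback.of_hasPullback B.hom T.hom).flip
  have comm : (m ▷ T).left ≫ (fst B T).left = (fst A T).left ≫ m.left := by
    rw [← Over.comp_left, ← Over.comp_left, whiskerRight_fst]
  exact (IsPullback.of_right outer comm right).flip

theorem schDominant_incl_whiskerRight (T : Over (Spec (CommRingCat.of k))) :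
    IsSchemeTheoreticallyDominant (HMNum.incl (Spec (CommRingCat.of k)) ▷ T).left := by
  haveI := schDominant_incl k
  haveI : Flat T.hom := inferInstance
  haveI : Flat (fst (HMNum.A1 (Spec (CommRingCat.of k))) T).left :=
    inferInstanceAs (Flat (pullback.fst (HMNum.A1 (Spec (CommRingCat.of k))).hom T.hom))
  haveI : QuasiCompact (HMNum.incl (Spec (CommRingCat.of k))).left := by
    haveI : IsAffine (Magnet.AMon (ULift.{u} ℤ) ℤ).left :=
      inferInstanceAs (IsAffine (Spec (CommRingCat.of (MonoidAlgebra (ULift.{u} ℤ) (Multiplicative ℤ)))))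
    haveI : IsAffine (Magnet.AMon (ULift.{u} ℤ) ↥HMNum.plus).left :=
      inferInstanceAs (IsAffine (Spec (CommRingCat.of (MonoidAlgebra (ULift.{u} ℤ) (Multiplicative ↥HMNum.plus)))))
    haveI : IsAffine (Red.Gm (Spec (CommRingCat.of k))).left :=
      inferInstanceAs (IsAffine (pullback (Magnet.AMon (ULift.{u} ℤ) ℤ).hom
        (Limits.IsTerminal.from specULiftZIsTerminal (Spec (CommRingCat.of k)))))
    haveI : IsAffine (HMNum.A1 (Spec (CommRingCat.of k))).left :=
      inferInstanceAs (IsAffine (pullback (Magnet.AMon (ULift.{u} ℤ) ↥HMNum.plus).hom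
        (Limits.IsTerminal.from specULiftZIsTerminal (Spec (CommRingCat.of k)))))
    infer_instance
  exact IsSchemeTheoreticallyDominant.of_isPullback
    (isPullback_whiskerRight (HMNum.incl (Spec (CommRingCat.of k))) T)

end incl

section attr

variable {S : Scheme.{u}} {G X : Over S} [GrpObj G] (a : AlgGrp.Action G X) (l : Red.Gm S ⟶ G) [IsMonHom l]

/-- on `G_m × T` a point of the attractor is the orbit map of its value at the unit section -/
theorem incl_whisker_comp {T : Over S} (φ : (HMNum.attrPlus a l).obj (op T)) :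
    (HMNum.incl S ▷ T) ≫ φ.1 =
      (Red.Gm S ◁ ((Magnet.attrToX (HMNum.gmAct a l) HMNum.plus).app (op T) φ)) ≫ (HMNum.gmAct a l).act := by
  apply Magnet.hom_ext_lift₂
  intro T' g t
  have h := φ.2
  rw [Magnet.MonAct.mem_eqvHom_iff] at h
  have h1 := h T' g 1 t
  have e1 : lift g (1 : T' ⟶ HMNum.A1 S) ≫ (Magnet.subAct S ℤ HMNum.plus).act = g ≫ HMNum.incl S := by
    rw [Magnet.subAct, Magnet.MonAct.lift_restrict_act, Magnet.MonAct.lift_regular_act, _root_.mul_one]
  rw [e1] at h1
  rw [lift_whiskerRight_assoc, h1, lift_whiskerLeft_assoc, Magnet.MonAct.eqvHom.evalAt_app]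
  congr 2
  rw [comp_lift_assoc]
  congr 2
  rw [Hom.one_def, ← Category.assoc, toUnit_unique (t ≫ toUnit _) (toUnit T')]

end attr

section uniq

variable (k : Type u) [Field k] {G X : Over (Spec (CommRingCat.of k))} [GrpObj G] (a : AlgGrp.Action G X)
  (l : Red.Gm (Spec (CommRingCat.of k)) ⟶ G) [IsMonHom l]

/-- uniqueness of the equivariant extension to the affine line, for a separated target over a field -/
theorem attr_ext [IsSeparated X.hom] {T : Over (Spec (CommRingCat.of k))}
    (φ₁ φ₂ : (HMNum.attrPlus a l).obj (op T))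
    (h : (Magnet.attrToX (HMNum.gmAct a l) HMNum.plus).app (op T) φ₁ =
      (Magnet.attrToX (HMNum.gmAct a l) HMNum.plus).app (op T) φ₂) : φ₁ = φ₂ := by
  apply Subtype.ext
  apply Over.OverMorphism.ext
  haveI := schDominant_incl_whiskerRight k T
  refine ext_of_schDominant X.hom ?_ (HMNum.incl (Spec (CommRingCat.of k)) ▷ T).left ?_
  · rw [Over.w, Over.w]
  · rw [← Over.comp_left, ← Over.comp_left, incl_whisker_comp, incl_whisker_comp, h]

theorem isLimitPt_unique [IsSeparated X.hom] {T : Over (Spec (CommRingCat.of k))} (x y y' : T ⟶ X)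
    (h : HMNum.IsLimitPt a l x y) (h' : HMNum.IsLimitPt a l x y') : y = y' := by
  obtain ⟨φ, h1, h2⟩ := h
  obtain ⟨φ', h1', h2'⟩ := h'
  have := attr_ext k a l φ φ' (h1.trans h1'.symm)
  subst this
  exact h2.symm.trans h2'

end uniq

section origin

variable (S : Scheme.{u})

theorem isIso_AMon_bot_hom : IsIso (Magnet.AMon (ULift.{u} ℤ) ↥(⊥ : AddSubmonoid ℤ)).hom := by
  haveI : Subsingleton (Multiplicative ↥(⊥ : AddSubmonoid ℤ)) :=
    ⟨fun x y => by
      have hx : ((Multiplicative.toAdd x : ↥(⊥ : AddSubmonoid ℤ)) : ℤ) = 0 :=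
        (AddSubmonoid.mem_bot).1 (Multiplicative.toAdd x : ↥(⊥ : AddSubmonoid ℤ)).2
      have hy : ((Multiplicative.toAdd y : ↥(⊥ : AddSubmonoid ℤ)) : ℤ) = 0 :=
        (AddSubmonoid.mem_bot).1 (Multiplicative.toAdd y : ↥(⊥ : AddSubmonoid ℤ)).2
      exact Multiplicative.toAdd.injective (Subtype.ext (hx.trans hy.symm))⟩
  let e : MonoidAlgebra (ULift.{u} ℤ) (Multiplicative ↥(⊥ : AddSubmonoid ℤ)) ≃ₐ[ULift.{u} ℤ] ULift.{u} ℤ :=
    MonoidAlgebra.uniqueAlgEquiv (ULift.{u} ℤ) (Multiplicative ↥(⊥ : AddSubmonoid ℤ))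
  have hb : Function.Bijective (algebraMap (ULift.{u} ℤ)
      (MonoidAlgebra (ULift.{u} ℤ) (Multiplicative ↥(⊥ : AddSubmonoid ℤ)))) := by
    have : ⇑(algebraMap (ULift.{u} ℤ)
        (MonoidAlgebra (ULift.{u} ℤ) (Multiplicative ↥(⊥ : AddSubmonoid ℤ)))) = ⇑e.symm := by
      funext r
      rw [← e.symm.commutes r]
      rfl
    rw [this]
    exact e.symm.bijective
  haveI : IsIso (CommRingCat.ofHom (algebraMap (ULift.{u} ℤ)
      (MonoidAlgebra (ULift.{u} ℤ) (Multiplicative ↥(⊥ : AddSubmonoid ℤ))))) := by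
    rw [ConcreteCategory.isIso_iff_bijective]
    exact hb
  show IsIso (Spec.map (CommRingCat.ofHom (algebraMap (ULift.{u} ℤ)
      (MonoidAlgebra (ULift.{u} ℤ) (Multiplicative ↥(⊥ : AddSubmonoid ℤ))))))
  infer_instance

theorem amons_bot_ext {T' : Over S} (p q : T' ⟶ Magnet.AMonS S ↥(⊥ : AddSubmonoid ℤ)) : p = q := by
  haveI := isIso_AMon_bot_hom
  haveI : IsIso (Magnet.AMonS S ↥(⊥ : AddSubmonoid ℤ)).hom :=
    inferInstanceAs (IsIso (pullback.snd (Magnet.AMon (ULift.{u} ℤ) ↥(⊥ : AddSubmonoid ℤ)).hom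
      (Limits.IsTerminal.from specULiftZIsTerminal S)))
  apply Over.OverMorphism.ext
  rw [← cancel_mono (Magnet.AMonS S ↥(⊥ : AddSubmonoid ℤ)).hom, Over.w, Over.w]

theorem smul_origin {T' : Over S} (g : T' ⟶ Red.Gm S) :
    lift g (toUnit T' ≫ HMNum.origin S) ≫ (Magnet.subAct S ℤ HMNum.plus).act = toUnit T' ≫ HMNum.origin S := by
  have h := Magnet.isEquivariant_faceMapS S HMNum.isFace_bot
  unfold Magnet.MonAct.IsEquivariant at h
  unfold HMNum.origin
  rw [← Category.assoc (toUnit T'), ← lift_whiskerLeft_assoc, ← h, ← Category.assoc]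
  congr 1
  exact amons_bot_ext S _ _

end origin

section fixed

variable {S : Scheme.{u}} {G X : Over S} [GrpObj G] (a : AlgGrp.Action G X) (l : Red.Gm S ⟶ G) [IsMonHom l]

/-- the limit point of a point of the attractor is fixed -/
theorem isFixedBy_limitPt {T : Over S} (φ : (HMNum.attrPlus a l).obj (op T)) :
    HMNum.IsFixedBy a l (HMNum.limitPt φ) := by
  intro T' t g
  have h := φ.2
  rw [Magnet.MonAct.mem_eqvHom_iff] at h
  have h1 := h T' g (toUnit T' ≫ HMNum.origin S) t
  rw [smul_origin, Magnet.MonAct.lift_restrict_act, Magnet.MonAct.ofAction_act] at h1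
  have e : t ≫ HMNum.limitPt φ = lift (toUnit T' ≫ HMNum.origin S) t ≫ φ.1 := by
    rw [HMNum.limitPt_eq, comp_lift_assoc, ← Category.assoc, toUnit_unique (t ≫ toUnit _) (toUnit T'),
      Category.comp_id]
  rw [e, ← h1]

theorem isFixedBy_of_isLimitPt {T : Over S} (x y : T ⟶ X) (h : HMNum.IsLimitPt a l x y) :
    HMNum.IsFixedBy a l y := by
  obtain ⟨φ, -, h2⟩ := h
  rw [← h2]
  exact isFixedBy_limitPt a l φ

/-- the constant extension at a fixed point -/
def constAttr {T : Over S} (y : T ⟶ X) (hy : HMNum.IsFixedBy a l y) : (HMNum.attrPlus a l).obj (op T) :=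
  ⟨snd _ T ≫ y, by
    rw [Magnet.MonAct.mem_eqvHom_iff]
    intro T' g b t
    rw [lift_snd_assoc, lift_snd_assoc, Magnet.MonAct.lift_restrict_act, Magnet.MonAct.ofAction_act, hy T' t g]⟩

theorem isLimitPt_self_of_isFixedBy {T : Over S} (y : T ⟶ X) (hy : HMNum.IsFixedBy a l y) :
    HMNum.IsLimitPt a l y y := by
  refine ⟨constAttr a l y hy, ?_, ?_⟩
  · rw [Magnet.MonAct.eqvHom.evalAt_app]
    show lift _ _ ≫ snd _ T ≫ y = y
    rw [lift_snd_assoc, Category.id_comp]
  · rw [HMNum.limitPt_eq]
    show lift _ _ ≫ snd _ T ≫ y = y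
    rw [lift_snd_assoc, Category.id_comp]

end fixed

section final

variable (k : Type u) [Field k] {G X : Over (Spec (CommRingCat.of k))} [GrpObj G] {a : AlgGrp.Action G X}
  (B : GLinSh.LinBun G a) (l : Red.Gm (Spec (CommRingCat.of k)) ⟶ G) [IsMonHom l]

/-- `μ(x, λ) = μ(y, λ)` for `y` the limit of `λ(u)·x` -/
theorem isMu_iff_of_isLimitPt [IsSeparated X.hom] {T : Over (Spec (CommRingCat.of k))} (x y : T ⟶ X)
    (hy : HMNum.IsLimitPt a l x y) (m : ℤ) : HMNum.IsMu B l x m ↔ HMNum.IsMu B l y m := by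
  have hfix := isFixedBy_of_isLimitPt a l x y hy
  have hyy := isLimitPt_self_of_isFixedBy a l y hfix
  constructor
  · rintro ⟨y₁, h1, hw⟩
    have := isLimitPt_unique k a l x y y₁ hy h1
    subst this
    exact ⟨y, hyy, hw⟩
  · rintro ⟨y₂, h2, hw⟩
    have := isLimitPt_unique k a l y y y₂ hyy h2
    subst this
    exact ⟨y, hy, hw⟩

end final

end Groth.Agent.R2.H98.Dense
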