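import Mathlib
import Groth.Agent.R2.H98Contract

/-!
# Fixed points of a contracting correspondence (helper98)

`isClopen_preimage_support`: clopen version of `H98.Contract.contracting`.
`finite_discrete_of_closedPoints_isOpen`: a Noetherian T0 space all of whose closed points are open
is finite and discrete.
-/

set_option autoImplicit false
universe u

open AlgebraicGeometry CategoryTheory CategoryTheory.Limits
open AlgebraicGeometry.Scheme.IdealSheafData

namespace Groth.Agent.R2.H98.FixDiscrete

open Groth.Agent.R2.H98.Contract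

/-- clopen version of `contracting`: the preimage under `δ` of the support of `I` is clopen in the
fixed point scheme. -/
theorem isClopen_preimage_support {C X Fx : Scheme.{u}} (k : Type u) [Field k]
    (pC : C ⟶ Spec (CommRingCat.of k)) [LocallyOfFiniteType pC]
    (pX : X ⟶ Spec (CommRingCat.of k)) (c₁ c₂ : C ⟶ X) (hc : c₁ ≫ pX = c₂ ≫ pX)
    (i : Fx ⟶ C) (δ : Fx ⟶ X) (hF : IsPullback i δ (pullback.lift c₁ c₂ hc) (pullback.diagonal pX))
    (I : X.IdealSheafData) (W : C.Opens) (hW : Set.range i.base ⊆ (W : Set C))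
    (k₀ : ℕ) (hpow : I.comap (W.ι ≫ c₁) ^ k₀ ≤ I.comap (W.ι ≫ c₂) ^ (k₀ + 1)) :
    IsClopen (δ.base ⁻¹' (I.support : Set X)) := by
  haveI : IsLocallyNoetherian C := LocallyOfFiniteType.isLocallyNoetherian pC
  haveI : LocallyOfFiniteType i :=
    MorphismProperty.of_isPullback (P := @LocallyOfFiniteType) hF.flip inferInstance
  haveI : IsLocallyNoetherian Fx := LocallyOfFiniteType.isLocallyNoetherian i
  have h1 : i ≫ c₁ = δ := by
    have := congrArg (· ≫ pullback.fst pX pX) hF.w
    simp only [Category.assoc, pullback.diagonal_fst, Category.comp_id] at this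
    rw [pullback.lift_fst] at this
    exact this
  have h2 : i ≫ c₂ = δ := by
    have := congrArg (· ≫ pullback.snd pX pX) hF.w
    simp only [Category.assoc, pullback.diagonal_snd, Category.comp_id] at this
    rw [pullback.lift_snd] at this
    exact this
  have hrange : Set.range i.base ⊆ Set.range W.ι.base := by
    rw [Scheme.Opens.range_ι]; exact hW
  let i' : Fx ⟶ W.toScheme := IsOpenImmersion.lift W.ι i hrange
  have hi' : i' ≫ W.ι = i := IsOpenImmersion.lift_fac _ _ _
  set J : Fx.IdealSheafData := I.comap δ with hJ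
  have hJ1 : J = (I.comap (W.ι ≫ c₁)).comap i' := by
    rw [hJ, ← comap_comp, ← Category.assoc, hi', h1]
  have hJ2 : J = (I.comap (W.ι ≫ c₂)).comap i' := by
    rw [hJ, ← comap_comp, ← Category.assoc, hi', h2]
  have hJpow : J ^ k₀ ≤ J ^ (k₀ + 1) := by
    calc J ^ k₀ = (I.comap (W.ι ≫ c₁) ^ k₀).comap i' := by rw [comap_pow, ← hJ1]
      _ ≤ (I.comap (W.ι ≫ c₂) ^ (k₀ + 1)).comap i' := comap_mono i' hpow
      _ = J ^ (k₀ + 1) := by rw [comap_pow, ← hJ2]
  have hopen : IsOpen (J.support : Set Fx) := isOpen_support_of_pow_le J k₀ hJpow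
  have hsupp : (J.support : Set Fx) = δ.base ⁻¹' (I.support : Set X) := by
    rw [hJ, support_comap]; rfl
  rw [← hsupp]
  exact ⟨J.support.isClosed, hopen⟩

/-- a compact T0 space all of whose closed points are open is finite and discrete. -/
theorem finite_discrete_of_closedPoints_isOpen {T : Type*} [TopologicalSpace T] [T0Space T]
    [CompactSpace T] (h : ∀ y : T, IsClosed ({y} : Set T) → IsOpen ({y} : Set T)) :
    Finite T ∧ DiscreteTopology T := by
  have hall : ∀ y : T, IsClosed ({y} : Set T) := by
    let U : Set T := ⋃ y ∈ {y : T | IsClosed ({y} : Set T)}, {y}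
    have hU : IsOpen U := isOpen_biUnion fun y hy => h y hy
    have hUc : Uᶜ = ∅ := by
      by_contra hne
      obtain ⟨z, hz, hzc⟩ := hU.isClosed_compl.exists_closed_singleton
        (Set.nonempty_iff_ne_empty.2 hne)
      apply hz
      exact Set.mem_biUnion (x := z) hzc rfl
    intro y
    have hy : y ∈ U := by
      by_contra hy
      have : y ∈ Uᶜ := hy
      rw [hUc] at this
      exact this
    obtain ⟨z, hz, hyz⟩ := Set.mem_iUnion₂.1 hy
    rw [Set.mem_singleton_iff] at hyz
    rw [hyz]; exact hz
  haveI : DiscreteTopology T := discreteTopology_iff_isOpen_singleton.2 fun y => h y (hall y)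
  exact ⟨finite_of_compact_of_discrete, inferInstance⟩

end Groth.Agent.R2.H98.FixDiscrete
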