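import Mathlib
import Groth.Prelude.Def_Coh
import Groth.Prelude.Def_Pic
import Groth.Prelude.Def_CohB1
import Groth.Prelude.Def_CurvBase
import Groth.Agent.R2.H98CurveGen
import Groth.Agent.R2.H62CurveInv
import Groth.Agent.Lib.Helper2Ass
import Groth.Agent.Lib.Helper4NormDelta
import Groth.Agent.Lib.Helper23SecTw7

/-!
# Associated points and multiplication by a section (helper98)

* `isWeakAssPoint_of_tensorMod`: `Ass(F ⊗ N) ⊆ Ass(F)` for an invertible `N`.
* `stalkLin_mulSec_mem`: at a point `x` outside `X_s`, the stalk map of `(· ⊗ s) : G ⟶ G ⊗ E` has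
  image in `𝔪_x • (G ⊗ E)_x`.
* `eq_zero_of_mulSec_app_top`: if `X_s` contains all (weakly) associated points of the
  quasi-coherent module `G`, then `(· ⊗ s)` is injective on global sections.
-/

set_option autoImplicit false
set_option linter.style.haveILetI false
universe u

open CategoryTheory CategoryTheory.Limits AlgebraicGeometry TopologicalSpace Opposite

namespace Groth.Agent.R2.H98.NegTwistAss

open Groth.Agent.Lib.Helper23.SecTw Groth.Agent.Lib.Helper23.GenLocus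
  Groth.Agent.Lib.Helper6 Groth.Agent.R2.H98.CurveGen
  Groth.Agent.R2.H62.CurveInv Groth.Agent.Lib.Helper4.NormDelta

variable {X : Scheme.{u}}

theorem germ_res (M : X.Modules) {U V : X.Opens} (h : V ≤ U) (x : X) (hx : x ∈ V) (m : Γ(M, U)) :
    M.presheaf.germ V x hx (res M h m) = M.presheaf.germ U x (h hx) m :=
  TopCat.Presheaf.germ_res_apply M.presheaf (homOfLE h) x hx m

theorem germ_resf {U V : X.Opens} (h : V ≤ U) (x : X) (hx : x ∈ V) (r : Γ(X, U)) :
    X.presheaf.germ V x hx (resf h r) = X.presheaf.germ U x (h hx) r :=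
  TopCat.Presheaf.germ_res_apply X.presheaf (homOfLE h) x hx r

/-- tensoring with a local generator of `N` reflects and preserves vanishing of germs. -/
theorem germ_tm_eq_zero_iff (F N : X.Modules) {W : X.Opens} (ε : Γ(N, W)) (hgen : IsGen N W ε)
    {A : X.Opens} (hA : A ≤ W) (x : X) (hx : x ∈ A) (γ : Γ(F, A)) :
    (CohB1.tensorMod F N).presheaf.germ A x hx (tm F N A γ (res N hA ε)) = 0 ↔
      F.presheaf.germ A x hx γ = 0 := by
  constructor
  · intro h
    obtain ⟨B, hB, hxB, h0⟩ := exists_res_eq_zero_of_germ _ _ x hx h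
    have h1 : res (CohB1.tensorMod F N) hB (tm F N A γ (res N hA ε)) = 0 := h0
    rw [res_tm, res_res] at h1
    have h2 : tm F N B (res F hB γ) (res N (hB.trans hA) ε) =
        tm F N B 0 (res N (hB.trans hA) ε) := by rw [h1, tm_zero_left]
    have h3 : res F hB γ = 0 := injective_tm_of_isGen F N W ε hgen B (hB.trans hA) h2
    rw [← germ_res F hB x hxB γ, h3, map_zero]
  · intro h
    obtain ⟨B, hB, hxB, h0⟩ := exists_res_eq_zero_of_germ _ _ x hx h
    have h1 : res F hB γ = 0 := h0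
    rw [← germ_res (CohB1.tensorMod F N) hB x hxB, res_tm, h1, tm_zero_left, map_zero]

/-- `Ass(F ⊗ N) ⊆ Ass(F)` for an invertible module `N` (weakly associated points). -/
theorem isWeakAssPoint_of_tensorMod (F N : X.Modules) (hN : PicF.IsInvertible N) (x : X)
    (h : Curv2.IsWeakAssPoint (CohB1.tensorMod F N) x) : Curv2.IsWeakAssPoint F x := by
  obtain ⟨m', hm'⟩ := h
  obtain ⟨W, ε, hxW, hgen⟩ := exists_gen N hN x
  obtain ⟨V₀, hxV₀, τ₀, rfl⟩ := (CohB1.tensorMod F N).presheaf.exists_germ_eq m'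
  have hxV : x ∈ V₀ ⊓ W := ⟨hxV₀, hxW⟩
  have hVW : V₀ ⊓ W ≤ W := inf_le_right
  obtain ⟨γ, hγ⟩ := (bijective_tm_of_isGen F N W ε hgen (V₀ ⊓ W) hVW).2
    (res (CohB1.tensorMod F N) (inf_le_left : V₀ ⊓ W ≤ V₀) τ₀)
  replace hγ : tm F N (V₀ ⊓ W) γ (res N hVW ε) =
    res (CohB1.tensorMod F N) (inf_le_left : V₀ ⊓ W ≤ V₀) τ₀ := hγ
  refine ⟨F.presheaf.germ (V₀ ⊓ W) x hxV γ, ?_⟩
  rw [← hm']
  congr 1
  ext a
  rw [Groth.Agent.Lib.Helper2.Ass.mem_kerSpan_iff, Groth.Agent.Lib.Helper2.Ass.mem_kerSpan_iff]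
  obtain ⟨V', hxV', α, rfl⟩ := X.presheaf.exists_germ_eq a
  have hxA : x ∈ (V₀ ⊓ W) ⊓ V' := ⟨hxV, hxV'⟩
  have hA1 : (V₀ ⊓ W) ⊓ V' ≤ V₀ ⊓ W := inf_le_left
  have hA2 : (V₀ ⊓ W) ⊓ V' ≤ V' := inf_le_right
  have e1 : X.presheaf.germ V' x hxV' α • F.presheaf.germ (V₀ ⊓ W) x hxV γ =
      F.presheaf.germ _ x hxA (resf hA2 α • res F hA1 γ) := by
    rw [Groth.Agent.Lib.Helper2.QCoh.germ_smul, germ_res, germ_resf]
  have e2 : X.presheaf.germ V' x hxV' α •
        (CohB1.tensorMod F N).presheaf.germ V₀ x hxV₀ τ₀ =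
      (CohB1.tensorMod F N).presheaf.germ _ x hxA
        (tm F N _ (resf hA2 α • res F hA1 γ) (res N (hA1.trans hVW) ε)) := by
    rw [tm_smul_left, Groth.Agent.Lib.Helper2.QCoh.germ_smul, germ_resf,
      ← res_res N hVW hA1, ← res_tm, hγ, germ_res, germ_res]
  rw [e1, e2]
  exact (germ_tm_eq_zero_iff F N ε hgen (hA1.trans hVW) x hxA _).symm

/-- at a point outside `X_s` the stalk map of `(· ⊗ s)` lands in `𝔪_x • (G ⊗ E)_x`. -/
theorem stalkLin_mulSec_mem (G : X.Modules) {E : X.Modules} (hE : PicF.IsInvertible E)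
    (s : Coh.structureModule X ⟶ E) (x : X) (hx : x ∉ CohB1.genLocus E s)
    (g : G.presheaf.stalk x) :
    stalkLin (mulSec G s) x g ∈
      (IsLocalRing.maximalIdeal (X.presheaf.stalk x)) •
        (⊤ : Submodule (X.presheaf.stalk x) ((CohB1.tensorMod G E).presheaf.stalk x)) := by
  obtain ⟨W, ε, hxW, hgen⟩ := exists_gen E hE x
  obtain ⟨V₀, hxV₀, γ₀, rfl⟩ := G.presheaf.exists_germ_eq g
  have hxV : x ∈ V₀ ⊓ W := ⟨hxV₀, hxW⟩
  have hVW : V₀ ⊓ W ≤ W := inf_le_right
  have hc : x ∉ X.basicOpen (coef hgen le_rfl (sv s W)) := by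
    rw [← genLocus_inf_eq_coef s hgen]
    exact fun h => hx h.1
  have hcm : X.presheaf.germ W x hxW (coef hgen le_rfl (sv s W)) ∈
      IsLocalRing.maximalIdeal (X.presheaf.stalk x) := by
    rw [IsLocalRing.mem_maximalIdeal, mem_nonunits_iff]
    intro hu
    exact hc ((X.toRingedSpace.mem_basicOpen _ x hxW).2 hu)
  have hsv : sv s (V₀ ⊓ W) = resf hVW (coef hgen le_rfl (sv s W)) • res E hVW ε := by
    rw [← res_sv s hVW, ← res_smul, ← sv_eq_coef_smul s hgen]
  rw [← germ_res G (inf_le_left : V₀ ⊓ W ≤ V₀) x hxV γ₀, stalkLin_germ, mulSec_app, hsv,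
    tm_smul_right, Groth.Agent.Lib.Helper2.QCoh.germ_smul, germ_resf]
  exact Submodule.smul_mem_smul hcm trivial

/-- if `X_s` contains the weakly associated points of `G` then `(· ⊗ s)` is injective on global
sections. -/
theorem eq_zero_of_mulSec_app_top (G : X.Modules) [G.IsQuasicoherent] {E : X.Modules}
    (s : Coh.structureModule X ⟶ E)
    (hU : ∀ x : X, Curv2.IsWeakAssPoint G x → x ∈ CohB1.genLocus E s)
    (σ : Γ(G, ⊤)) (h : (mulSec G s).app ⊤ σ = 0) : σ = 0 := by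
  by_contra hσ
  obtain ⟨y, hyT, hyW, hgy⟩ :=
    Groth.Agent.Lib.Helper2.Ass.exists_isWeakAssPoint_of_ne_zero_open G ⊤ σ hσ
  have hyU := hU y hyW
  apply hgy
  rw [mulSec_app] at h
  have hle : CohB1.genLocus E s ≤ ⊤ := le_top
  have h1 : res (CohB1.tensorMod G E) hle (tm G E ⊤ σ (sv s ⊤)) = 0 := by
    rw [h]; exact res_zero _ hle
  rw [res_tm, res_sv] at h1
  have hgen := isGen_sv_genLocus E s
  have h2 : tm G E _ (res G hle σ) (res E le_rfl (sv s (CohB1.genLocus E s))) =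
      tm G E _ 0 (res E le_rfl (sv s (CohB1.genLocus E s))) := by
    rw [res_self, h1, tm_zero_left]
  have h3 : res G hle σ = 0 := injective_tm_of_isGen G E _ _ hgen _ le_rfl h2
  rw [← germ_res G hle y hyU σ, h3, map_zero]

end Groth.Agent.R2.H98.NegTwistAss
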