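import Mathlib

/-!
# Closed points of a proper scheme inside an affine open; a stabilisation lemma (helper98)

* `isClosed_singleton_of_closure_subset`: on a scheme proper over a field, a point whose closure
  lies in an affine open is a closed point.
* `exists_forall_add_eq`: a function `d : ℕ → ℕ` with `d (n + e) ≤ d n` satisfies
  `d (n + e) = d n` for all large `n`.
-/

set_option autoImplicit false
set_option linter.style.haveILetI false
universe u

open CategoryTheory CategoryTheory.Limits AlgebraicGeometry TopologicalSpace Opposite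

namespace Groth.Agent.R2.H98.NegTwistTop

/-- a function `d : ℕ → ℕ` with `d (n + e) ≤ d n` for all `n` is eventually `e`-periodic. -/
theorem exists_forall_add_eq (d : ℕ → ℕ) (e : ℕ) (h : ∀ n, d (n + e) ≤ d n) :
    ∃ n₀, ∀ n, n₀ ≤ n → d (n + e) = d n := by
  -- potential `Φ n = ∑_{r < e} d (n + r)`
  let Φ : ℕ → ℕ := fun n => ∑ r ∈ Finset.range e, d (n + r)
  have hstep : ∀ n, Φ (n + 1) + d n = Φ n + d (n + e) := by
    intro n
    change (∑ r ∈ Finset.range e, d (n + 1 + r)) + d n =
      (∑ r ∈ Finset.range e, d (n + r)) + d (n + e)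
    have h1 : (∑ r ∈ Finset.range e, d (n + 1 + r)) = ∑ r ∈ Finset.range e, d (n + (r + 1)) := by
      refine Finset.sum_congr rfl fun r _ => ?_
      congr 1; omega
    rw [h1]
    have h2 := Finset.sum_range_succ (fun r => d (n + r)) e
    have h3 := Finset.sum_range_succ' (fun r => d (n + r)) e
    simp only [Nat.add_zero] at h3
    omega
  have hanti : ∀ n, Φ (n + 1) ≤ Φ n := by
    intro n
    have := hstep n
    have := h n
    omega
  -- an antitone sequence of naturals is eventually constant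
  have hex : ∃ n₀, ∀ n, n₀ ≤ n → Φ n = Φ n₀ := by
    have hwf := WellFounded.has_min (r := (· < ·)) Nat.lt_wfRel.wf (Set.range Φ) ⟨Φ 0, 0, rfl⟩
    obtain ⟨m, ⟨n₀, rfl⟩, hmin⟩ := hwf
    refine ⟨n₀, fun n hn => ?_⟩
    have hle : Φ n ≤ Φ n₀ := by
      induction n, hn using Nat.le_induction with
      | base => exact le_rfl
      | succ n _ ih => exact (hanti n).trans ih
    have hge : ¬ Φ n < Φ n₀ := hmin (Φ n) ⟨n, rfl⟩
    omega
  obtain ⟨n₀, hn₀⟩ := hex
  refine ⟨n₀, fun n hn => ?_⟩
  have h1 := hstep n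
  have h2 := hn₀ n hn
  have h3 := hn₀ (n + 1) (by omega)
  omega

/-- on a scheme proper over a field, a point whose closure lies in an affine open is closed. -/
theorem isClosed_singleton_of_closure_subset (k : Type u) [Field k] (X : Scheme.{u})
    [X.Over (Spec (CommRingCat.of k))] [IsProper (X ↘ Spec (CommRingCat.of k))]
    {U : X.Opens} (hU : IsAffineOpen U) (y : X)
    (h : closure ({y} : Set X) ⊆ (U : Set X)) : IsClosed ({y} : Set X) := by
  have hyU : y ∈ U := h (subset_closure rfl)
  let p : ↥(Spec Γ(X, U)) := hU.primeIdealOf ⟨y, hyU⟩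
  let I : Ideal Γ(X, U) := (hU.primeIdealOf ⟨y, hyU⟩).asIdeal
  have hp : hU.fromSpec p = y := hU.fromSpec_primeIdealOf ⟨y, hyU⟩
  let q : Γ(X, U) ⟶ CommRingCat.of (Γ(X, U) ⧸ I) := CommRingCat.ofHom (Ideal.Quotient.mk I)
  have hq : Function.Surjective q := Ideal.Quotient.mk_surjective
  haveI : IsClosedImmersion (Spec.map q) := IsClosedImmersion.spec_of_surjective q hq
  let φ : Spec (CommRingCat.of (Γ(X, U) ⧸ I)) ⟶ X := Spec.map q ≫ hU.fromSpec
  -- the range of `Spec.map q` is the closure of `p`
  have hr1 : Set.range (Spec.map q) = closure ({p} : Set ↥(Spec Γ(X, U))) := by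
    have h1 : closure ({p} : Set ↥(Spec Γ(X, U))) = PrimeSpectrum.zeroLocus (I : Set Γ(X, U)) :=
      PrimeSpectrum.closure_singleton (hU.primeIdealOf ⟨y, hyU⟩)
    have h2 := range_comap_of_surjective (Γ(X, U) ⧸ I) (Ideal.Quotient.mk I)
      Ideal.Quotient.mk_surjective
    rw [Ideal.mk_ker] at h2
    rw [h1]
    exact h2
  have hemb : Topology.IsEmbedding hU.fromSpec := hU.fromSpec.isOpenEmbedding.isEmbedding
  have hr2 : hU.fromSpec '' closure ({p} : Set ↥(Spec Γ(X, U))) = closure ({y} : Set X) := by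
    rw [hemb.closure_eq_preimage_closure_image, Set.image_singleton, hp,
      Set.image_preimage_eq_inter_range, hU.range_fromSpec]
    exact Set.inter_eq_left.2 h
  have hrange : Set.range φ = closure ({y} : Set X) := by
    change Set.range (Spec.map q ≫ hU.fromSpec) = _
    rw [Scheme.Hom.comp_base, TopCat.coe_comp, Set.range_comp, hr1, hr2]
  haveI : IsClosedImmersion φ := IsClosedImmersion.of_isPreimmersion φ (hrange ▸ isClosed_closure)
  let f : Spec (CommRingCat.of (Γ(X, U) ⧸ I)) ⟶ Spec (CommRingCat.of k) :=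
    φ ≫ (X ↘ Spec (CommRingCat.of k))
  haveI : IsProper f := inferInstance
  haveI : IsDomain (Γ(X, U) ⧸ I) :=
    (Ideal.Quotient.isDomain_iff_prime I).2 (hU.primeIdealOf ⟨y, hyU⟩).isPrime
  have hfield : IsField Γ(Spec (CommRingCat.of (Γ(X, U) ⧸ I)), ⊤) :=
    isField_of_universallyClosed k f
  have hfield' : IsField (Γ(X, U) ⧸ I) :=
    (Scheme.ΓSpecIso (CommRingCat.of (Γ(X, U) ⧸ I))).commRingCatIsoToRingEquiv.symm.toMulEquiv.isField
      hfield
  have hmax : I.IsMaximal := Ideal.Quotient.maximal_of_isField _ hfield'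
  have hcl : closure ({p} : Set ↥(Spec Γ(X, U))) = {p} :=
    IsClosed.closure_eq ((PrimeSpectrum.isClosed_singleton_iff_isMaximal
      (hU.primeIdealOf ⟨y, hyU⟩)).2 hmax)
  rw [hcl, Set.image_singleton, hp] at hr2
  rw [hr2]
  exact isClosed_closure

end Groth.Agent.R2.H98.NegTwistTop
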