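import Mathlib
import Groth.Prelude.Def_Coh
import Groth.Prelude.Def_Pic
import Groth.Prelude.Def_CohB1
import Groth.Prelude.Def_CurvBase
import Groth.Prelude.Def_ClSub2
import Groth.Agent.R2.H98NegTwistTop
import Groth.Agent.R2.H98NegTwistAss
import Groth.Agent.R2.H98CurveH0
import Groth.Agent.R2.H79TwistCalc
import Groth.Agent.Lib.Helper2TensorInv
import Groth.Agent.Lib.Helper2FibreCrit2
import Groth.Agent.Lib.Helper23SecTw9
import Groth.Agent.Lib.Helper23SecTw10
import Groth.Agent.Lib.Helper23AmpleIso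
import Groth.Agent.S1576

/-!
# Vanishing of `H^0(X, F ⊗ L^{-n})` for `n ≫ 0` when `F` has no closed associated point (helper98)

`X` proper over a field `k`, `L` ample with inverse `M`, `F` coherent with no closed associated
point.  Then `H^0(X, F ⊗ M^n) = 0` for `n ≫ 0` (`subsingleton_H0_negTwist`, against the finiteness
hypothesis `HFin k X`).

Route: pick a section `s` of `E = L^e` with `X_s` affine and `Ass(F) ⊆ X_s`.  Multiplication by `s`
gives maps `μ_n : F ⊗ M^{n+e} ⟶ F ⊗ M^n`, injective on `H^0` since `Ass(F ⊗ M^n) ⊆ Ass(F) ⊆ X_s`.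
By finite dimensionality `H^0(μ_n)` is bijective for `n ≥ n₀`, so a section `σ` of `F ⊗ M^n` is
divisible by every power of `s`: its germs at the points outside `X_s` vanish by Krull's
intersection theorem.  If `σ ≠ 0` it has a nonzero germ at an associated point `y`; the closure of
`y` then lies in the affine `X_s`, so `y` is closed by properness: contradiction.
-/

set_option autoImplicit false
set_option linter.style.haveILetI false
universe u

open CategoryTheory CategoryTheory.Limits AlgebraicGeometry TopologicalSpace Opposite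

namespace Groth.Agent.R2.H98.NegTwist

open Groth.Agent.Lib.Helper23.SecTw Groth.Agent.Lib.Helper23.GenLocus
  Groth.Agent.Lib.Helper6 Groth.Agent.R2.H98.CurveGen
  Groth.Agent.R2.H62.CurveInv Groth.Agent.Lib.Helper4.NormDelta
  Groth.Agent.R2.H62.CohLES Groth.Agent.R2.H62.CurveCore
  Groth.Agent.R2.H98.NegTwistAss Groth.Agent.R2.H98.NegTwistTop
  Groth.Agent.Lib.Helper23.AmpleIso Groth.Agent.Lib.Helper23.TensorUnit
  Groth.Agent.R2.H79.TwistCalc

/-- commutativity of the tensor product. -/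
noncomputable def tensorComm {X : Scheme.{u}} (F G : X.Modules) :
    CohB1.tensorMod F G ≅ CohB1.tensorMod G F :=
  Groth.Agent.Lib.Helper21.ModTensor5.brdApp X.sheaf F G

variable {X : Scheme.{u}}

/-- naturality of `H^0(X, M) ≃ M(X)`. -/
theorem hh0Equiv_naturality {M N : X.Modules} (g : M ⟶ N) (z : Coh.HH X M 0) :
    Groth.Agent.Lib.Helper27PnSections.hh0Equiv X N (HHmap g 0 z) =
      g.app ⊤ (Groth.Agent.Lib.Helper27PnSections.hh0Equiv X M z) :=
  (CategoryTheory.Sheaf.H.equiv₀_naturality (f := toAbMap g) (hT := Limits.isTerminalTop) z).symm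

theorem app_inv_hom {A B : X.Modules} (e : A ≅ B) (U : X.Opens) (z : Γ(A, U)) :
    e.inv.app U (e.hom.app U z) = z := by
  have h2 : e.hom.app U ≫ e.inv.app U = 𝟙 _ := by
    rw [← Scheme.Modules.Hom.comp_app, e.hom_inv_id]
    rfl
  rw [← ConcreteCategory.comp_apply, h2]
  rfl

theorem stalkLin_comp_apply {A B C : X.Modules} (φ : A ⟶ B) (ψ : B ⟶ C) (x : X)
    (z : A.presheaf.stalk x) : stalkLin (φ ≫ ψ) x z = stalkLin ψ x (stalkLin φ x z) := by
  obtain ⟨V, hxV, t, rfl⟩ := A.presheaf.exists_germ_eq z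
  rw [stalkLin_germ, stalkLin_germ, stalkLin_germ]
  rfl

/-- `(F ⊗ M^{n+e}) ⊗ L^e ≅ F ⊗ M^n` when `L ⊗ M ≅ O`. -/
theorem nonempty_twist_iso (F L M : X.Modules) (hL : PicF.IsInvertible L)
    (hM : PicF.IsInvertible M) (ι : CohB1.tensorMod L M ≅ Coh.structureModule X) (n e : ℕ) :
    Nonempty (CohB1.tensorMod (CohB1.tensorMod F (CohB1.tensorPow M (n + e))) (CohB1.tensorPow L e) ≅
      CohB1.tensorMod F (CohB1.tensorPow M n)) := by
  obtain ⟨c⟩ := nonempty_tensorMod_comm_iso M L hM hL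
  obtain ⟨a⟩ := nonempty_tensorMod_tensorPow_add_iso (Coh.structureModule X) M
    (isInvertible_structureModule X) hM n e (n + e) rfl
  obtain ⟨b⟩ := nonempty_tensorPow_tensorMod_iso M L hM hL e
  -- `M^e ⊗ L^e ≅ O`
  let u : CohB1.tensorMod (CohB1.tensorPow M e) (CohB1.tensorPow L e) ≅ Coh.structureModule X :=
    b ≪≫ tensorPowIso (c ≪≫ ι) e ≪≫ tensorPowUnitIso e
  -- `M^{n+e} ≅ M^n ⊗ M^e`
  let v : CohB1.tensorPow M (n + e) ≅ CohB1.tensorMod (CohB1.tensorPow M n) (CohB1.tensorPow M e) :=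
    (unitTensorIso _).symm ≪≫ a.symm ≪≫ tensorModIso (unitTensorIso (CohB1.tensorPow M n)) (Iso.refl _)
  -- `M^{n+e} ⊗ L^e ≅ M^n`
  let κ : CohB1.tensorMod (CohB1.tensorPow M (n + e)) (CohB1.tensorPow L e) ≅ CohB1.tensorPow M n :=
    tensorModIso v (Iso.refl _) ≪≫ tensorAssocIso _ _ _ ≪≫ tensorModIso (Iso.refl _) u ≪≫
      tensorUnitIso _
  exact ⟨tensorAssocIso F _ _ ≪≫ tensorModIso (Iso.refl F) κ⟩

/-- linear maps whose image lies in `I • ⊤` send `J • ⊤` into `(J * I) • ⊤`. -/
theorem map_mem_smul_top {R A B : Type*} [CommRing R] [AddCommGroup A] [Module R A]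
    [AddCommGroup B] [Module R B] (f : A →ₗ[R] B) (I J : Ideal R)
    (hf : ∀ a, f a ∈ I • (⊤ : Submodule R B)) (a : A) (ha : a ∈ J • (⊤ : Submodule R A)) :
    f a ∈ (J * I) • (⊤ : Submodule R B) := by
  have h1 : Submodule.map f (J • (⊤ : Submodule R A)) ≤ (J * I) • (⊤ : Submodule R B) := by
    rw [Submodule.map_smul'', mul_smul]
    refine Submodule.smul_mono le_rfl ?_
    rintro _ ⟨a', -, rfl⟩
    exact hf a'
  exact h1 ⟨a, ha, rfl⟩

/-- the negative twists `F ⊗ M^n`. -/
noncomputable abbrev negTw (F M : X.Modules) (n : ℕ) : X.Modules :=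
  CohB1.tensorMod F (CohB1.tensorPow M n)

/-- **Vanishing of `H^0` of negative twists** when no associated point is closed. -/
theorem subsingleton_H0_negTwist (k : Type u) [Field k] (X : Scheme.{u})
    [X.Over (Spec (CommRingCat.of k))] [IsProper (X ↘ Spec (CommRingCat.of k))]
    (hfin : HFin k X)
    (L : X.Modules) (hL : CohB1.IsAmple L) (M : X.Modules) (hM : ClSub.IsInverseOf L M)
    (F : X.Modules) (hF : Coh.IsCoh F)
    (hass : ∀ x : X, IsClosed ({x} : Set X) → ¬ Curv2.IsAssPoint F x) :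
    ∃ n₀ : ℕ, ∀ n : ℕ, n₀ ≤ n →
      Subsingleton (Coh.HH X (CohB1.tensorMod F (CohB1.tensorPow M n)) 0) := by
  classical
  haveI : IsLocallyNoetherian X :=
    LocallyOfFiniteType.isLocallyNoetherian (X ↘ (Spec (CommRingCat.of k)))
  haveI : CompactSpace X := hL.2.1
  obtain ⟨ι⟩ := hM
  have hLinv : PicF.IsInvertible L := hL.1
  have hMinv : PicF.IsInvertible M :=
    Groth.Agent.Lib.Helper2.TensorInv.isInvertible_of_tensor_iso M L
      (tensorComm M L ≪≫ ι)
  have hMn : ∀ n, PicF.IsInvertible (CohB1.tensorPow M n) :=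
    fun n => isInvertible_tensorPow hMinv n
  have hGcoh : ∀ n, Coh.IsCoh (negTw F M n) := fun n => isCoh_tensorMod F _ hF (hMn n)
  have hGass : ∀ n x, Curv2.IsWeakAssPoint (negTw F M n) x → Curv2.IsAssPoint F x :=
    fun n x h => (Groth.Agent.Lib.Helper2.Ass.isAssPoint_iff_isWeakAssPoint F x).2
      (isWeakAssPoint_of_tensorMod F _ (hMn n) x h)
  have hZfin : {x : X | Curv2.IsAssPoint F x}.Finite :=
    (Groth.Agent.S1576.result X F hF ⊤ (by rw [Opens.coe_top]; exact isCompact_univ)).subset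
      (fun x hx => ⟨trivial, hx⟩)
  obtain ⟨m, s, hZs, -, haff⟩ :=
    exists_affine_genLocus_of_finite L hL _ hZfin ⊤ (fun _ _ => trivial)
  have hE : PicF.IsInvertible (CohB1.tensorPow L (m + 1)) := isInvertible_tensorPow hLinv (m + 1)
  have hθ : ∀ n, Nonempty (CohB1.tensorMod (negTw F M (n + (m + 1))) (CohB1.tensorPow L (m + 1)) ≅
      negTw F M n) := fun n => nonempty_twist_iso F L M hLinv hMinv ι n (m + 1)
  let θ := fun n => (hθ n).some
  let μ : ∀ n, negTw F M (n + (m + 1)) ⟶ negTw F M n := fun n => mulSec _ s ≫ (θ n).hom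
  -- `μ n` is injective on global sections
  have hμinj : ∀ n (σ : Γ(negTw F M (n + (m + 1)), ⊤)), (μ n).app ⊤ σ = 0 → σ = 0 := by
    intro n σ h
    haveI : (negTw F M (n + (m + 1))).IsQuasicoherent := (hGcoh _).1
    refine eq_zero_of_mulSec_app_top _ s (fun x hx => hZs (hGass _ x hx)) σ ?_
    have h1 : (θ n).hom.app ⊤ ((mulSec (negTw F M (n + (m + 1))) s).app ⊤ σ) = 0 := h
    have h2 := app_inv_hom (θ n) ⊤ ((mulSec (negTw F M (n + (m + 1))) s).app ⊤ σ)
    rw [h1, map_zero] at h2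
    exact h2.symm
  -- the stalk maps of `μ n` outside `X_s` land in `𝔪 • ⊤`
  have hμstalk : ∀ n (x : X), x ∉ CohB1.genLocus _ s → ∀ g,
      stalkLin (μ n) x g ∈ (IsLocalRing.maximalIdeal (X.presheaf.stalk x)) •
        (⊤ : Submodule (X.presheaf.stalk x) ((negTw F M n).presheaf.stalk x)) := by
    intro n x hx g
    have h0 : stalkLin (μ n) x g = stalkLin (θ n).hom x
        (stalkLin (mulSec (negTw F M (n + (m + 1))) s) x g) := stalkLin_comp_apply _ _ x g
    rw [h0]
    have h1 := stalkLin_mulSec_mem (negTw F M (n + (m + 1))) hE s x hx g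
    have h2 : Submodule.map (stalkLin (θ n).hom x)
        ((IsLocalRing.maximalIdeal (X.presheaf.stalk x)) • ⊤) ≤
        (IsLocalRing.maximalIdeal (X.presheaf.stalk x)) • ⊤ := by
      rw [Submodule.map_smul'']
      exact Submodule.smul_mono le_rfl le_top
    exact h2 ⟨_, h1, rfl⟩
  -- finite dimensionality
  haveI hfinG : ∀ n, Module.Finite k (Coh.HH X (negTw F M n) 0) := fun n => hfin _ (hGcoh n) 0
  have hHinj : ∀ n, Function.Injective (HHmapA k (μ n) 0) := by
    intro n
    rw [injective_iff_map_eq_zero]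
    intro z hz
    have h1 := hh0Equiv_naturality (μ n) z
    have hz' : HHmap (μ n) 0 z = 0 := hz
    rw [hz', map_zero] at h1
    have h2 := hμinj n _ h1.symm
    exact (Groth.Agent.Lib.Helper27PnSections.hh0Equiv X _).injective (h2.trans (map_zero _).symm)
  obtain ⟨n₀, hn₀⟩ := exists_forall_add_eq
    (fun n => Module.finrank k (Coh.HH X (negTw F M n) 0)) (m + 1)
    (fun n => LinearMap.finrank_le_finrank_of_injective (hHinj n))
  have hHsurj : ∀ n, n₀ ≤ n → Function.Surjective (HHmapA k (μ n) 0) := fun n hn =>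
    (LinearMap.injective_iff_surjective_of_finrank_eq_finrank (hn₀ n hn)).1 (hHinj n)
  have hμsurj : ∀ n, n₀ ≤ n → ∀ σ : Γ(negTw F M n, ⊤),
      ∃ τ : Γ(negTw F M (n + (m + 1)), ⊤), (μ n).app ⊤ τ = σ := by
    intro n hn σ
    obtain ⟨z, hz⟩ := hHsurj n hn ((Groth.Agent.Lib.Helper27PnSections.hh0Equiv X _).symm σ)
    refine ⟨Groth.Agent.Lib.Helper27PnSections.hh0Equiv X _ z, ?_⟩
    rw [← hh0Equiv_naturality]
    have hz' : HHmap (μ n) 0 z = (Groth.Agent.Lib.Helper27PnSections.hh0Equiv X _).symm σ := hz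
    rw [hz', AddEquiv.apply_symm_apply]
  -- divisibility of germs outside `X_s`
  have hdiv : ∀ (j n : ℕ), n₀ ≤ n → ∀ (σ : Γ(negTw F M n, ⊤)) (x : X),
      x ∉ CohB1.genLocus _ s →
      (negTw F M n).presheaf.germ ⊤ x trivial σ ∈
        (IsLocalRing.maximalIdeal (X.presheaf.stalk x)) ^ j •
          (⊤ : Submodule (X.presheaf.stalk x) ((negTw F M n).presheaf.stalk x)) := by
    intro j
    induction j with
    | zero =>
      intro n _ σ x _
      rw [pow_zero, Ideal.one_eq_top, Submodule.top_smul]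
      trivial
    | succ j ih =>
      intro n hn σ x hx
      obtain ⟨τ, rfl⟩ := hμsurj n hn σ
      rw [← stalkLin_germ (μ n) x ⊤ trivial τ, pow_succ]
      exact map_mem_smul_top (stalkLin (μ n) x) _ _ (hμstalk n x hx) _
        (ih (n + (m + 1)) (by omega) τ x hx)
  -- Krull's intersection theorem
  have hgerm : ∀ n, n₀ ≤ n → ∀ (σ : Γ(negTw F M n, ⊤)) (x : X), x ∉ CohB1.genLocus _ s →
      (negTw F M n).presheaf.germ ⊤ x trivial σ = 0 := by
    intro n hn σ x hx
    haveI : (negTw F M n).IsQuasicoherent := (hGcoh n).1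
    haveI : SheafOfModules.IsFiniteType (R := X.ringCatSheaf) (negTw F M n) := (hGcoh n).2
    haveI : Module.Finite (X.presheaf.stalk x) ((negTw F M n).presheaf.stalk x) :=
      Groth.Agent.Lib.Helper2.FibreCrit.finite_stalk (negTw F M n) x
    have hk := Ideal.iInf_pow_smul_eq_bot_of_isLocalRing
      (M := (negTw F M n).presheaf.stalk x) (IsLocalRing.maximalIdeal (X.presheaf.stalk x))
      (IsLocalRing.maximalIdeal.isMaximal _).ne_top
    have hmem : (negTw F M n).presheaf.germ ⊤ x trivial σ ∈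
        (⨅ i : ℕ, (IsLocalRing.maximalIdeal (X.presheaf.stalk x)) ^ i •
          (⊤ : Submodule (X.presheaf.stalk x) ((negTw F M n).presheaf.stalk x))) := by
      rw [Submodule.mem_iInf]
      exact fun j => hdiv j n hn σ x hx
    rw [hk] at hmem
    exact (Submodule.mem_bot _).1 hmem
  refine ⟨n₀, fun n hn => ?_⟩
  have hzero : ∀ σ : Γ(negTw F M n, ⊤), σ = 0 := by
    intro σ
    by_contra hσ
    haveI : (negTw F M n).IsQuasicoherent := (hGcoh n).1
    obtain ⟨y, hyT, hyW, hgy⟩ :=
      Groth.Agent.Lib.Helper2.Ass.exists_isWeakAssPoint_of_ne_zero_open _ ⊤ σ hσ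
    have hyF := hGass n y hyW
    have hcl : closure ({y} : Set X) ⊆ (CohB1.genLocus _ s : Set X) := by
      intro z hz
      by_contra hzs
      have hgz := hgerm n hn σ z hzs
      obtain ⟨W, hW, hzW, h0⟩ := exists_res_eq_zero_of_germ _ σ z trivial hgz
      have hyz : y ⤳ z := specializes_iff_mem_closure.2 hz
      have hyW' : y ∈ W := hyz.mem_open W.2 hzW
      apply hgy
      have h1 : res (negTw F M n) hW σ = 0 := h0
      rw [← germ_res (negTw F M n) hW y hyW' σ, h1, map_zero]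
    exact hass y (isClosed_singleton_of_closure_subset k X haff y hcl) hyF
  refine ⟨fun a b => ?_⟩
  apply (Groth.Agent.Lib.Helper27PnSections.hh0Equiv X _).injective
  exact (hzero _).trans (hzero _).symm

end Groth.Agent.R2.H98.NegTwist
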