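import Mathlib
import Groth.Prelude.Def_Coh
import Groth.Prelude.Def_Pic
import Groth.Prelude.Def_CohB1
import Groth.Prelude.Def_CurvBase
import Groth.Agent.R2.H98NegTwist
import Groth.Agent.R2.H62AsympRR
import Groth.Agent.R2.H54AmpleFinal
import Groth.Agent.R2.H34InvDual
import Groth.Agent.Lib.Helper23Restr2

/-!
# `h^0(X, F ⊗ L^m) = O(m^d)` on a projective scheme of dimension `d` (helper98)

`X` proper over a field `k` with an ample invertible module `A`, `dim X ≤ d`, `L` invertible, `F`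
coherent.  Then `dim_k H^0(X, F ⊗ L^m) = O(m^d)`.

Route: let `L'` be an inverse of `L`.  For `N ≫ 0` the module `K = L' ⊗ A^N` has a section `t` not
vanishing at the (finitely many) associated points of `F`; multiplication by `t^m` embeds
`H^0(F ⊗ L^m)` into `H^0((F ⊗ L^m) ⊗ K^m) ≅ H^0(F ⊗ B^m)` with `B = A^N` ample; for `m ≫ 0` the
latter is `χ(F ⊗ B^m)` by Serre vanishing, a polynomial in `m` of degree `≤ d` (Snapper).
-/

set_option autoImplicit false
set_option linter.style.haveILetI false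
universe u

open CategoryTheory CategoryTheory.Limits AlgebraicGeometry TopologicalSpace Opposite

namespace Groth.Agent.R2.H98.H0Growth

open Groth.Agent.Lib.Helper23.SecTw Groth.Agent.Lib.Helper23.GenLocus
  Groth.Agent.Lib.Helper6 Groth.Agent.R2.H98.CurveGen
  Groth.Agent.R2.H62.CohLES Groth.Agent.R2.H62.CurveCore
  Groth.Agent.R2.H98.NegTwistAss Groth.Agent.R2.H98.NegTwist
  Groth.Agent.Lib.Helper23.AmpleIso Groth.Agent.Lib.Helper23.TensorUnit
  Groth.Agent.R2.H79.TwistCalc Groth.Agent.R2.H98.CurveH0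

/-- a polynomial of degree `≤ d` is `O(n^d)` on the positive integers. -/
theorem exists_poly_bound (Q : Polynomial ℚ) (d : ℕ) (hd : Q.natDegree ≤ d) :
    ∃ C : ℚ, 0 ≤ C ∧ ∀ n : ℕ, 1 ≤ n → Q.eval (n : ℚ) ≤ C * (n : ℚ) ^ d := by
  refine ⟨∑ j ∈ Finset.range (d + 1), |Q.coeff j|, Finset.sum_nonneg fun _ _ => abs_nonneg _,
    fun n hn => ?_⟩
  have h1 : Q.eval (n : ℚ) = ∑ j ∈ Finset.range (d + 1), Q.coeff j * (n : ℚ) ^ j :=
    Polynomial.eval_eq_sum_range' (Nat.lt_succ_of_le hd) _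
  rw [h1, Finset.sum_mul]
  refine Finset.sum_le_sum fun j hj => ?_
  have hj' : j ≤ d := Nat.lt_succ_iff.1 (Finset.mem_range.1 hj)
  have hn1 : (1 : ℚ) ≤ (n : ℚ) := by exact_mod_cast hn
  have hpow : (n : ℚ) ^ j ≤ (n : ℚ) ^ d := pow_le_pow_right₀ hn1 hj'
  have hpos : (0 : ℚ) ≤ (n : ℚ) ^ j := by positivity
  calc Q.coeff j * (n : ℚ) ^ j ≤ |Q.coeff j| * (n : ℚ) ^ j :=
        mul_le_mul_of_nonneg_right (le_abs_self _) hpos
    _ ≤ |Q.coeff j| * (n : ℚ) ^ d := mul_le_mul_of_nonneg_left hpow (abs_nonneg _)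

variable {X : Scheme.{u}}

/-- injectivity on global sections gives injectivity on `H^0`. -/
theorem HHmap_zero_injective_of_app_top {M N : X.Modules} (g : M ⟶ N)
    (h : ∀ σ : Γ(M, ⊤), g.app ⊤ σ = 0 → σ = 0) : Function.Injective (HHmap g 0) := by
  rw [injective_iff_map_eq_zero]
  intro z hz
  have h1 := hh0Equiv_naturality g z
  rw [hz, map_zero] at h1
  have h2 := h _ h1.symm
  exact (Groth.Agent.Lib.Helper27PnSections.hh0Equiv X _).injective (h2.trans (map_zero _).symm)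

/-- `dim_k H^0(X, F ⊗ L^m) = O(m^d)`. -/
theorem isBigO_finrank_H0 (k : Type u) [Field k] (X : Scheme.{u})
    [X.Over (Spec (CommRingCat.of k))] [IsProper (X ↘ Spec (CommRingCat.of k))]
    (hfin : HFin k X) (A : X.Modules) (hA : CohB1.IsAmple A) (d : ℕ)
    (hd : topologicalKrullDim X ≤ (d : WithBot ℕ∞)) (L : X.Modules) (hL : PicF.IsInvertible L)
    (F : X.Modules) (hF : Coh.IsCoh F) :
    (fun m : ℕ => (Module.finrank k (Coh.HH X (CohB1.tensorMod F (CohB1.tensorPow L m)) 0) : ℝ))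
      =O[Filter.atTop] (fun m : ℕ => (m : ℝ) ^ d) := by
  classical
  haveI : IsLocallyNoetherian X :=
    LocallyOfFiniteType.isLocallyNoetherian (X ↘ (Spec (CommRingCat.of k)))
  haveI : CompactSpace X := hA.2.1
  have hAinv : PicF.IsInvertible A := hA.1
  have hZfin : {x : X | Curv2.IsAssPoint F x}.Finite :=
    (Groth.Agent.S1576.result X F hF ⊤ (by rw [Opens.coe_top]; exact isCompact_univ)).subset
      (fun x hx => ⟨trivial, hx⟩)
  obtain ⟨L', hL'inv, ⟨ι⟩, -⟩ := Groth.Agent.R2.H34.InvDual.exists_inverse L hL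
  obtain ⟨V, N₀, hZV, hsec⟩ := exists_sections_eventually A hA L' hL'inv _ hZfin
  obtain ⟨t, ht⟩ := hsec (N₀ + 1) (Nat.le_succ _)
  have hBinv : PicF.IsInvertible (CohB1.tensorPow A (N₀ + 1)) := isInvertible_tensorPow hAinv _
  have hB : CohB1.IsAmple (CohB1.tensorPow A (N₀ + 1)) :=
    (isAmple_tensorPow_iff A hAinv (N₀ + 1) (Nat.succ_pos _)).1 hA
  have hKinv : PicF.IsInvertible (CohB1.tensorMod L' (CohB1.tensorPow A (N₀ + 1))) :=
    isInvertible_tensorMod hL'inv hBinv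
  -- `L ⊗ K ≅ B`
  let κ : CohB1.tensorMod L (CohB1.tensorMod L' (CohB1.tensorPow A (N₀ + 1))) ≅
      CohB1.tensorPow A (N₀ + 1) :=
    (tensorAssocIso L L' _).symm ≪≫ tensorModIso ι (Iso.refl _) ≪≫ unitTensorIso _
  -- `(F ⊗ L^m) ⊗ K^m ≅ F ⊗ B^m`
  have hΘ : ∀ m : ℕ, Nonempty (CohB1.tensorMod (CohB1.tensorMod F (CohB1.tensorPow L m))
      (CohB1.tensorPow (CohB1.tensorMod L' (CohB1.tensorPow A (N₀ + 1))) m) ≅
      CohB1.tensorMod F (CohB1.tensorPow (CohB1.tensorPow A (N₀ + 1)) m)) := by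
    intro m
    obtain ⟨b⟩ := nonempty_tensorPow_tensorMod_iso L _ hL hKinv m
    exact ⟨tensorAssocIso F _ _ ≪≫ tensorModIso (Iso.refl F) (b ≪≫ tensorPowIso κ m)⟩
  -- the comparison of dimensions
  have hle : ∀ m : ℕ, 1 ≤ m →
      Module.finrank k (Coh.HH X (CohB1.tensorMod F (CohB1.tensorPow L m)) 0) ≤
        Module.finrank k (Coh.HH X (CohB1.tensorMod F
          (CohB1.tensorPow (CohB1.tensorPow A (N₀ + 1)) m)) 0) := by
    intro m hm
    obtain ⟨Θ⟩ := hΘ m
    have hLm : PicF.IsInvertible (CohB1.tensorPow L m) := isInvertible_tensorPow hL m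
    have hGcoh : Coh.IsCoh (CohB1.tensorMod F (CohB1.tensorPow L m)) :=
      isCoh_tensorMod F _ hF hLm
    haveI : (CohB1.tensorMod F (CohB1.tensorPow L m)).IsQuasicoherent := hGcoh.1
    have hKm : PicF.IsInvertible
        (CohB1.tensorPow (CohB1.tensorMod L' (CohB1.tensorPow A (N₀ + 1))) m) :=
      isInvertible_tensorPow hKinv m
    have hinj : Function.Injective (HHmapA k (mulSec (CohB1.tensorMod F (CohB1.tensorPow L m))
        (SecTwist.powHom t m)) 0) := by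
      refine HHmap_zero_injective_of_app_top _ (fun σ hσ => ?_)
      refine eq_zero_of_mulSec_app_top _ (SecTwist.powHom t m) (fun x hx => ?_) σ hσ
      rw [genLocus_powHom hKinv t m hm]
      apply ht
      apply hZV
      exact (Groth.Agent.Lib.Helper2.Ass.isAssPoint_iff_isWeakAssPoint F x).2
        (isWeakAssPoint_of_tensorMod F _ hLm x hx)
    haveI : Module.Finite k (Coh.HH X (CohB1.tensorMod (CohB1.tensorMod F (CohB1.tensorPow L m))
        (CohB1.tensorPow (CohB1.tensorMod L' (CohB1.tensorPow A (N₀ + 1))) m)) 0) :=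
      hfin _ (isCoh_tensorMod _ _ hGcoh hKm) 0
    rw [← finrank_HH_eq_of_iso k Θ 0]
    exact LinearMap.finrank_le_finrank_of_injective hinj
  -- Serre vanishing and the Hilbert polynomial
  obtain ⟨m₀, hm₀⟩ := Groth.Agent.R2.H54.AmpleFinal.ampleVanishing k X
    (X ↘ Spec (CommRingCat.of k)) _ hB F hF
  have hsupp : topologicalKrullDim (CohB1.support F) ≤ (d : WithBot ℕ∞) :=
    (topologicalKrullDim_subspace_le X (CohB1.support F)).trans hd
  obtain ⟨Q, hQd, hQ⟩ := Groth.Agent.R2.H62.Snapper.exists_isHilbPoly k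
    (CohB1.tensorPow A (N₀ + 1)) hBinv F hF d hsupp
  obtain ⟨C, hC0, hC⟩ := exists_poly_bound Q d hQd
  refine Asymptotics.IsBigO.of_bound (C : ℝ) ?_
  rw [Filter.eventually_atTop]
  refine ⟨m₀ + 1, fun m hm => ?_⟩
  have hm1 : 1 ≤ m := by omega
  have hm0 : m₀ ≤ m := by omega
  have h1 := hle m hm1
  have h2 := Groth.Agent.R2.H62.Snapper.euler_eq_finrank_zero (k := k)
    (CohB1.tensorMod F (CohB1.tensorPow (CohB1.tensorPow A (N₀ + 1)) m)) (hm₀ m hm0)
  have h3 : (Curv2.euler k X (CohB1.tensorMod F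
      (CohB1.tensorPow (CohB1.tensorPow A (N₀ + 1)) m)) : ℚ) = Q.eval (m : ℚ) := hQ m
  have h4 := hC m hm1
  rw [Real.norm_of_nonneg (Nat.cast_nonneg _), Real.norm_of_nonneg (by positivity)]
  have h5 : ((Module.finrank k (Coh.HH X (CohB1.tensorMod F (CohB1.tensorPow L m)) 0) : ℕ) : ℚ) ≤
      C * (m : ℚ) ^ d := by
    calc ((Module.finrank k (Coh.HH X (CohB1.tensorMod F (CohB1.tensorPow L m)) 0) : ℕ) : ℚ)
        ≤ ((Module.finrank k (Coh.HH X (CohB1.tensorMod F
          (CohB1.tensorPow (CohB1.tensorPow A (N₀ + 1)) m)) 0) : ℕ) : ℚ) := by exact_mod_cast h1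
      _ = Q.eval (m : ℚ) := by rw [← h3, h2]; push_cast; rfl
      _ ≤ C * (m : ℚ) ^ d := h4
  exact_mod_cast h5

end Groth.Agent.R2.H98.H0Growth
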