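import Mathlib
import Groth.Prelude.Def_HMNum

set_option autoImplicit false
universe u
open CategoryTheory MonoidalCategory CartesianMonoidalCategory MonObj AlgebraicGeometry Opposite
open GIT

noncomputable section

namespace Groth.Agent.R2.H98.HMConj

variable {S : Scheme.{u}} {G X V : Over S} [GrpObj G]

/-- the constant `T`-point of `G` attached to a section `g₀` -/
abbrev kst (g₀ : 𝟙_ (Over S) ⟶ G) (T : Over S) : T ⟶ G := toUnit T ≫ g₀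

theorem comp_kst (g₀ : 𝟙_ (Over S) ⟶ G) {T T' : Over S} (t : T' ⟶ T) : t ≫ kst g₀ T = kst g₀ T' := by
  unfold kst
  rw [← Category.assoc, toUnit_unique (t ≫ toUnit T) (toUnit T')]

theorem kst_inv (g₀ : 𝟙_ (Over S) ⟶ G) (T : Over S) : kst g₀⁻¹ T = (kst g₀ T)⁻¹ := by
  unfold kst
  rw [GrpObj.comp_inv]

/-- conjugate of a one-parameter subgroup by a section -/
abbrev conj (g₀ : 𝟙_ (Over S) ⟶ G) {H : Over S} (l : H ⟶ G) : H ⟶ G :=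
  (toUnit _ ≫ g₀)⁻¹ * l * (toUnit _ ≫ g₀)

theorem comp_conj (g₀ : 𝟙_ (Over S) ⟶ G) {H : Over S} (l : H ⟶ G) {T : Over S} (u : T ⟶ H) :
    u ≫ conj g₀ l = (kst g₀ T)⁻¹ * (u ≫ l) * kst g₀ T := by
  unfold conj
  rw [MonObj.comp_mul, MonObj.comp_mul, GrpObj.comp_inv, comp_kst]

instance isMonHom_conj (g₀ : 𝟙_ (Over S) ⟶ G) {H : Over S} [MonObj H] (l : H ⟶ G) [IsMonHom l] :
    IsMonHom (conj g₀ l) where
  one_hom := by
    rw [comp_conj, IsMonHom.one_hom, MonObj.one_eq_one]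
    group
  mul_hom := by
    rw [comp_conj, IsMonHom.mul_hom, MonObj.mul_eq_mul, MonObj.comp_mul, MonObj.comp_mul,
      tensorHom_fst, tensorHom_snd, tensorHom_fst, tensorHom_snd, comp_conj, comp_conj]
    group

section act

variable (a : AlgGrp.Action G X)

theorem one_smul {T : Over S} (x : T ⟶ X) : lift (1 : T ⟶ G) x ≫ a.act = x :=
  (Magnet.MonAct.ofAction a).lift_one_act x

theorem mul_smul {T : Over S} (g h : T ⟶ G) (x : T ⟶ X) :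
    lift (g * h) x ≫ a.act = lift g (lift h x ≫ a.act) ≫ a.act :=
  (Magnet.MonAct.ofAction a).lift_mul_act g h x

theorem comp_smul {T T' : Over S} (t : T' ⟶ T) (g : T ⟶ G) (x : T ⟶ X) :
    t ≫ lift g x ≫ a.act = lift (t ≫ g) (t ≫ x) ≫ a.act := by
  rw [comp_lift_assoc]

theorem inv_smul_smul {T : Over S} (g : T ⟶ G) (x : T ⟶ X) :
    lift g⁻¹ (lift g x ≫ a.act) ≫ a.act = x := by
  rw [← mul_smul, inv_mul_cancel, one_smul]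

theorem smul_inv_smul {T : Over S} (g : T ⟶ G) (x : T ⟶ X) :
    lift g (lift g⁻¹ x ≫ a.act) ≫ a.act = x := by
  rw [← mul_smul, mul_inv_cancel, one_smul]

theorem gmAct_smul (l : Red.Gm S ⟶ G) [IsMonHom l] {T : Over S} (g : T ⟶ Red.Gm S) (x : T ⟶ X) :
    lift g x ≫ (HMNum.gmAct a l).act = lift (g ≫ l) x ≫ a.act := by
  rw [Magnet.MonAct.lift_restrict_act, Magnet.MonAct.ofAction_act]

/-- translate a point of the attractor of `l` by `g₀⁻¹`: a point of the attractor of the conjugate -/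
def conjAttr (l : Red.Gm S ⟶ G) [IsMonHom l] (g₀ : 𝟙_ (Over S) ⟶ G) {T : Over S}
    (φ : (HMNum.attrPlus a l).obj (op T)) : (HMNum.attrPlus a (conj g₀ l)).obj (op T) :=
  ⟨lift (kst g₀⁻¹ _) φ.1 ≫ a.act, by
    have h := φ.2
    rw [Magnet.MonAct.mem_eqvHom_iff] at h ⊢
    intro T' g b t
    rw [comp_smul, comp_smul, comp_kst, comp_kst, h, gmAct_smul, gmAct_smul, ← mul_smul, ← mul_smul,
      comp_conj, kst_inv]
    congr 2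
    group⟩

theorem isLimitPt_conj (l : Red.Gm S ⟶ G) [IsMonHom l] (g₀ : 𝟙_ (Over S) ⟶ G) {T : Over S}
    (x y : T ⟶ X) (h : HMNum.IsLimitPt a l (lift (kst g₀ T) x ≫ a.act) y) :
    HMNum.IsLimitPt a (conj g₀ l) x (lift (kst g₀⁻¹ T) y ≫ a.act) := by
  obtain ⟨φ, h1, h2⟩ := h
  refine ⟨conjAttr a l g₀ φ, ?_, ?_⟩
  · rw [Magnet.MonAct.eqvHom.evalAt_app] at h1 ⊢
    show lift _ _ ≫ lift (kst g₀⁻¹ _) φ.1 ≫ a.act = x
    rw [comp_smul, h1, comp_kst, kst_inv, inv_smul_smul]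
  · rw [HMNum.limitPt_eq] at h2 ⊢
    show lift _ _ ≫ lift (kst g₀⁻¹ _) φ.1 ≫ a.act = _
    rw [comp_smul, h2, comp_kst]

theorem isFixedBy_conj (l : Red.Gm S ⟶ G) (g₀ : 𝟙_ (Over S) ⟶ G) {T : Over S} (y : T ⟶ X)
    (h : HMNum.IsFixedBy a l y) : HMNum.IsFixedBy a (conj g₀ l) (lift (kst g₀⁻¹ T) y ≫ a.act) := by
  intro T' t g
  rw [comp_smul, comp_kst, ← mul_smul, comp_conj, kst_inv]
  have e : (kst g₀ T')⁻¹ * (g ≫ l) * kst g₀ T' * (kst g₀ T')⁻¹ = (kst g₀ T')⁻¹ * (g ≫ l) := by group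
  rw [e, mul_smul, h T' t g]

end act

section ev

/-- evaluation of a section at a point -/
def ev {W T' : Over S} (p : T' ⟶ W) (O : W.left.Opens) (h : ⊤ ≤ p.left ⁻¹ᵁ O) (s : Γ(W.left, O)) :
    Γ(T'.left, ⊤) :=
  p.left.appLE O ⊤ h s

theorem ev_congr {W T' : Over S} {p p' : T' ⟶ W} (e : p = p') (O : W.left.Opens) (h : ⊤ ≤ p.left ⁻¹ᵁ O)
    (s : Γ(W.left, O)) : ev p O h s = ev p' O (e ▸ h) s := by
  subst e; rfl

theorem ev_mul {W T' : Over S} (p : T' ⟶ W) (O : W.left.Opens) (h : ⊤ ≤ p.left ⁻¹ᵁ O) (s s' : Γ(W.left, O)) :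
    ev p O h (s * s') = ev p O h s * ev p O h s' :=
  map_mul (p.left.appLE O ⊤ h).hom s s'

theorem ev_comp {W W' T' : Over S} (p : T' ⟶ W) (f : W ⟶ W') (O' : W'.left.Opens) (O : W.left.Opens)
    (e : O ≤ f.left ⁻¹ᵁ O') (h : ⊤ ≤ p.left ⁻¹ᵁ O) (h' : ⊤ ≤ (p ≫ f).left ⁻¹ᵁ O') (s : Γ(W'.left, O')) :
    ev p O h (f.left.appLE O' O e s) = ev (p ≫ f) O' h' s := by
  have := Scheme.Hom.appLE_comp_appLE p.left f.left O' O ⊤ e h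
  exact congrArg (fun k => k.hom s) this

end ev

section weight

variable {a : AlgGrp.Action G X} (B : GLinSh.LinBun G a)

theorem evalFn_congr {U : X.left.Opens} (y : Γ(B.V.left, B.π.left ⁻¹ᵁ U)) {T' : Over S} {v v' : T' ⟶ B.V}
    (e : v = v') (h : ⊤ ≤ v.left ⁻¹ᵁ (B.π.left ⁻¹ᵁ U)) (h' : ⊤ ≤ v'.left ⁻¹ᵁ (B.π.left ⁻¹ᵁ U)) :
    HMNum.evalFn B.π y v h = HMNum.evalFn B.π y v' h' := by
  subst e; rfl

/-- the fibrewise linearity of the lifted action, evaluated at points -/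
theorem linearLift_eval {U U' : X.left.Opens} (y : Γ(B.V.left, B.π.left ⁻¹ᵁ U)) (hy : y ∈ B.atlas.chart U)
    (y' : Γ(B.V.left, B.π.left ⁻¹ᵁ U')) (hy' : y' ∈ B.atlas.chart U') :
    ∃ c : Γ((G ⊗ X).left, a.act.left ⁻¹ᵁ U' ⊓ (snd G X).left ⁻¹ᵁ U),
      ∀ (T' : Over S) (h : T' ⟶ G) (w : T' ⟶ B.V) (hw : ⊤ ≤ w.left ⁻¹ᵁ (B.π.left ⁻¹ᵁ U))
        (hhw : ⊤ ≤ (lift h w ≫ B.lift.act).left ⁻¹ᵁ (B.π.left ⁻¹ᵁ U'))
        (hb : ⊤ ≤ (lift h (w ≫ B.π)).left ⁻¹ᵁ (a.act.left ⁻¹ᵁ U' ⊓ (snd G X).left ⁻¹ᵁ U)),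
        HMNum.evalFn B.π y' (lift h w ≫ B.lift.act) hhw =
          ev (lift h (w ≫ B.π)) _ hb c * HMNum.evalFn B.π y w hw := by
  obtain ⟨c, hc⟩ := B.lift_linear U U' y y' hy hy'
  refine ⟨c, ?_⟩
  intro T' h w hw hhw hb
  have e1 : lift h w ≫ (G ◁ B.π) = lift h (w ≫ B.π) := lift_whiskerLeft _ _ _
  have hp : ⊤ ≤ (lift h w).left ⁻¹ᵁ (GLinSh.liftOpen a B.π U U') := by
    have : (lift h w).left ⁻¹ᵁ (GLinSh.liftOpen a B.π U U') =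
        (lift h w ≫ (G ◁ B.π)).left ⁻¹ᵁ (a.act.left ⁻¹ᵁ U' ⊓ (snd G X).left ⁻¹ᵁ U) := rfl
    rw [this, e1]
    exact hb
  have key := congrArg (ev (lift h w) _ hp) hc
  rw [ev_mul] at key
  rw [ev_comp (h' := hhw)] at key
  rw [ev_comp (h' := by rw [e1]; exact hb)] at key
  rw [ev_comp (h' := by rw [lift_snd]; exact hw)] at key
  rw [ev_congr e1, ev_congr (lift_snd h w)] at key
  exact key

theorem preimage_eq_top_of_comp {T T' : Over S} {W : Over S} (t : T' ⟶ T) (x₀ : T ⟶ W) {q : T' ⟶ W}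
    (e : q = t ≫ x₀) {U : W.left.Opens} (hU : x₀.left ⁻¹ᵁ U = ⊤) : ⊤ ≤ q.left ⁻¹ᵁ U := by
  subst e
  have h2 : (t ≫ x₀).left ⁻¹ᵁ U = t.left ⁻¹ᵁ (x₀.left ⁻¹ᵁ U) := rfl
  rw [h2, hU]
  exact le_of_eq rfl

theorem act_π {T' : Over S} (h : T' ⟶ G) (w : T' ⟶ B.V) :
    (lift h w ≫ B.lift.act) ≫ B.π = lift h (w ≫ B.π) ≫ a.act := by
  rw [Category.assoc, B.lift_π, lift_whiskerLeft_assoc]

theorem hasFibreWeight_conj (l : Red.Gm S ⟶ G) (g₀ : 𝟙_ (Over S) ⟶ G) {T : Over S} (y : T ⟶ X) (w : ℤ)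
    (h : HMNum.HasFibreWeight B l y w)
    (hc : ∃ (U' : X.left.Opens) (c' : Γ(B.V.left, B.π.left ⁻¹ᵁ U')), c' ∈ B.atlas.chart U' ∧
      (lift (kst g₀⁻¹ T) y ≫ a.act).left ⁻¹ᵁ U' = ⊤) :
    HMNum.HasFibreWeight B (conj g₀ l) (lift (kst g₀⁻¹ T) y ≫ a.act) w := by
  obtain ⟨hfix, U₀, c₀, hc₀, hU₀, hwt⟩ := h
  obtain ⟨U', c', hc', hU'⟩ := hc
  refine ⟨isFixedBy_conj a l g₀ y hfix, U', c', hc', hU', ?_⟩
  obtain ⟨d, hd⟩ := linearLift_eval B c₀ hc₀ c' hc'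
  intro T' t g v hv hgv
  -- the translated points
  have hw₁ : (lift (kst g₀ T') v ≫ B.lift.act) ≫ B.π = t ≫ y := by
    rw [act_π, hv, comp_smul, comp_kst, kst_inv, smul_inv_smul]
  have hw₂ : (lift (g ≫ l) (lift (kst g₀ T') v ≫ B.lift.act) ≫ B.lift.act) ≫ B.π = t ≫ y := by
    rw [act_π, hw₁, hfix T' t g]
  have h1 := hwt T' t g _ hw₁ hw₂
  have e_v : lift (kst g₀ T')⁻¹ (lift (kst g₀ T') v ≫ B.lift.act) ≫ B.lift.act = v :=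
    inv_smul_smul B.lift _ v
  have e_gv : lift (kst g₀ T')⁻¹ (lift (g ≫ l) (lift (kst g₀ T') v ≫ B.lift.act) ≫ B.lift.act) ≫ B.lift.act =
      lift (g ≫ conj g₀ l) v ≫ B.lift.act := by
    rw [comp_conj, mul_smul, mul_smul]
  have hbD : ⊤ ≤ (lift (kst g₀ T')⁻¹ (t ≫ y)).left ⁻¹ᵁ (a.act.left ⁻¹ᵁ U' ⊓ (snd G X).left ⁻¹ᵁ U₀) := by
    show ⊤ ≤ (lift (kst g₀ T')⁻¹ (t ≫ y)).left ⁻¹ᵁ (a.act.left ⁻¹ᵁ U') ⊓
      (lift (kst g₀ T')⁻¹ (t ≫ y)).left ⁻¹ᵁ ((snd G X).left ⁻¹ᵁ U₀)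
    apply le_inf
    · exact preimage_eq_top_of_comp t (lift (kst g₀⁻¹ T) y ≫ a.act)
        (q := lift (kst g₀ T')⁻¹ (t ≫ y) ≫ a.act) (by rw [comp_smul, comp_kst, kst_inv]) hU'
    · exact preimage_eq_top_of_comp t y (q := lift (kst g₀ T')⁻¹ (t ≫ y) ≫ snd G X) (by rw [lift_snd]) hU₀
  have hd' : ∀ (wi : T' ⟶ B.V) (hwi : wi ≫ B.π = t ≫ y) (k1 : ⊤ ≤ wi.left ⁻¹ᵁ (B.π.left ⁻¹ᵁ U₀))
      (k2 : ⊤ ≤ (lift (kst g₀ T')⁻¹ wi ≫ B.lift.act).left ⁻¹ᵁ (B.π.left ⁻¹ᵁ U')),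
      HMNum.evalFn B.π c' (lift (kst g₀ T')⁻¹ wi ≫ B.lift.act) k2 =
        ev (lift (kst g₀ T')⁻¹ (t ≫ y)) _ hbD d * HMNum.evalFn B.π c₀ wi k1 := by
    intro wi hwi k1 k2
    rw [hd T' (kst g₀ T')⁻¹ wi k1 k2 (by rw [hwi]; exact hbD)]
    rw [ev_congr (by rw [hwi] : lift (kst g₀ T')⁻¹ (wi ≫ B.π) = lift (kst g₀ T')⁻¹ (t ≫ y))]
  rw [evalFn_congr B c' e_gv.symm _ (by rw [e_gv]; exact HMNum.top_le_preimage B.π hU' hgv),
    evalFn_congr B c' e_v.symm _ (by rw [e_v]; exact HMNum.top_le_preimage B.π hU' hv),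
    hd' _ hw₂ (HMNum.top_le_preimage B.π hU₀ hw₂), hd' _ hw₁ (HMNum.top_le_preimage B.π hU₀ hw₁), h1]
  ring

theorem isMu_conj (l : Red.Gm S ⟶ G) [IsMonHom l] (g₀ : 𝟙_ (Over S) ⟶ G) {T : Over S} (x : T ⟶ X) (m : ℤ)
    (hcov : ∀ y' : T ⟶ X, ∃ (U' : X.left.Opens) (c' : Γ(B.V.left, B.π.left ⁻¹ᵁ U')),
      c' ∈ B.atlas.chart U' ∧ y'.left ⁻¹ᵁ U' = ⊤)
    (h : HMNum.IsMu B l (lift (kst g₀ T) x ≫ a.act) m) : HMNum.IsMu B (conj g₀ l) x m := by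
  obtain ⟨y, hy, hw⟩ := h
  exact ⟨lift (kst g₀⁻¹ T) y ≫ a.act, isLimitPt_conj a l g₀ x y hy,
    hasFibreWeight_conj B l g₀ y (-m) hw (hcov _)⟩

end weight

section field

variable (k : Type u) [Field k] {G X : Over (Spec (CommRingCat.of k))} [GrpObj G]
  {a : AlgGrp.Action G X} (B : GLinSh.LinBun G a)

theorem exists_chart_of_field (y' : 𝟙_ (Over (Spec (CommRingCat.of k))) ⟶ X) :
    ∃ (U' : X.left.Opens) (c' : Γ(B.V.left, B.π.left ⁻¹ᵁ U')),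
      c' ∈ B.atlas.chart U' ∧ y'.left ⁻¹ᵁ U' = ⊤ := by
  let pt : ↥(Spec (CommRingCat.of k)) := (default : PrimeSpectrum k)
  obtain ⟨U', hpt, c', hc'⟩ := B.atlas.cover (y'.left.base pt)
  refine ⟨U', c', hc', ?_⟩
  ext z
  have : z = pt := Subsingleton.elim (α := PrimeSpectrum k) z pt
  subst this
  simp only [TopologicalSpace.Opens.coe_top, Set.mem_univ, iff_true]
  exact hpt

omit [GrpObj G] in
theorem kst_unit {S : Scheme.{u}} {G : Over S} (g₀ : 𝟙_ (Over S) ⟶ G) : kst g₀ (𝟙_ (Over S)) = g₀ := by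
  unfold kst
  rw [toUnit_unit, Category.id_comp]

theorem isMu_congr {S : Scheme.{u}} {G X : Over S} [GrpObj G] {a : AlgGrp.Action G X} (B : GLinSh.LinBun G a)
    {l l' : Red.Gm S ⟶ G} [IsMonHom l] [IsMonHom l'] (e : l = l') {T : Over S} (x : T ⟶ X) (m : ℤ) :
    HMNum.IsMu B l x m ↔ HMNum.IsMu B l' x m := by
  subst e
  exact Iff.rfl

theorem conj_inv_conj {S : Scheme.{u}} {G : Over S} [GrpObj G] (g₀ : 𝟙_ (Over S) ⟶ G) {H : Over S} (l : H ⟶ G) :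
    conj g₀⁻¹ (conj g₀ l) = l := by
  unfold conj
  rw [GrpObj.comp_inv]
  group

/-- `μ(g₀·x, λ) = μ(x, g₀⁻¹ λ g₀)` -/
theorem isMu_conj_iff (l : Red.Gm (Spec (CommRingCat.of k)) ⟶ G) [IsMonHom l]
    (g₀ : 𝟙_ (Over (Spec (CommRingCat.of k))) ⟶ G)
    (l' : Red.Gm (Spec (CommRingCat.of k)) ⟶ G) [IsMonHom l']
    (hl' : l' = (toUnit _ ≫ g₀)⁻¹ * l * (toUnit _ ≫ g₀))
    (x : 𝟙_ (Over (Spec (CommRingCat.of k))) ⟶ X) (m : ℤ) :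
    HMNum.IsMu B l (lift g₀ x ≫ a.act) m ↔ HMNum.IsMu B l' x m := by
  have hl'' : l' = conj g₀ l := hl'
  subst hl''
  constructor
  · intro h
    refine isMu_conj B l g₀ x m (exists_chart_of_field k B) ?_
    rw [kst_unit]
    exact h
  · intro h
    have h2 := isMu_conj B (conj g₀ l) g₀⁻¹ (lift g₀ x ≫ a.act) m (exists_chart_of_field k B) (by
      rw [kst_unit, inv_smul_smul]
      exact h)
    exact (isMu_congr B (conj_inv_conj g₀ l) _ m).1 h2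

end field

end Groth.Agent.R2.H98.HMConj
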