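import Mathlib
import Groth.Prelude
import Groth.Agent.Lib.Helper20UFDPic
import Groth.Agent.Lib.Helper23SecTw10
import Groth.Agent.Lib.Helper23LocGen
import Groth.Agent.Lib.Helper23PB
import Groth.Agent.Lib.Helper23RestrTensor
import Groth.Agent.Lib.Helper23TensorUnit
set_option backward.isDefEq.respectTransparency.types false

/-!
# Cancellation of invertible modules and small pullback calculus (helper98)

Namespace `Groth.Agent.R2.H98.KL`.

* `cancel` : for invertible `M M' N`, `M ⊗ N ≅ M' ⊗ N` implies `M ≅ M'` (no inverse module is constructed;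
  the isomorphism is glued from local frames with helper23's `exists_iso_of_frames`).
* `trivial_of_tensor_iso` : `M ⊗ N ≅ N` implies `M ≅ O`.
* `pbComp` : `f^* g^* L ≅ h^* L` for `f ≫ g = h`.
* `trivial_of_field` : invertible modules on the spectrum of a field are trivial.
-/

set_option autoImplicit false
universe u
open CategoryTheory CategoryTheory.Limits AlgebraicGeometry TopologicalSpace Opposite

namespace Groth.Agent.R2.H98.KL

open Groth.Agent.Lib.Helper6 Groth.Agent.Lib.Helper23.SecTw Groth.Agent.Lib.Helper23.GenLocus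
  Groth.Agent.Lib.Helper23.Extend

variable {X : Scheme.{u}}

/-- simultaneous frames of three modules over one open -/
structure Fr3 (M M' N : X.Modules) where
  W : X.Opens
  a : Γ(M, W)
  a' : Γ(M', W)
  e : Γ(N, W)
  ha : IsGen M W a
  ha' : IsGen M' W a'
  he : IsGen N W e

theorem exists_fr3 (M M' N : X.Modules) (hM : PicF.IsInvertible M) (hM' : PicF.IsInvertible M')
    (hN : PicF.IsInvertible N) (x : X) : ∃ p : Fr3 M M' N, x ∈ p.W := by
  obtain ⟨W₁, a, hx₁, ha⟩ := exists_gen M hM x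
  obtain ⟨W₂, a', hx₂, ha'⟩ := exists_gen M' hM' x
  obtain ⟨W₃, e, hx₃, he⟩ := exists_gen N hN x
  have h1 : W₁ ⊓ W₂ ⊓ W₃ ≤ W₁ := inf_le_left.trans inf_le_left
  have h2 : W₁ ⊓ W₂ ⊓ W₃ ≤ W₂ := inf_le_left.trans inf_le_right
  have h3 : W₁ ⊓ W₂ ⊓ W₃ ≤ W₃ := inf_le_right
  exact ⟨⟨W₁ ⊓ W₂ ⊓ W₃, _, _, _, ha.mono h1, ha'.mono h2, he.mono h3⟩, ⟨⟨hx₁, hx₂⟩, hx₃⟩⟩

section cancel

variable {M M' N : X.Modules} (φ : CohB1.tensorMod M N ≅ CohB1.tensorMod M' N)

/-- the generator `a ⊗ e` of `M ⊗ N` -/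
noncomputable def Fr3.t (p : Fr3 M M' N) : Γ(CohB1.tensorMod M N, p.W) := tm M N p.W p.a p.e

/-- the generator `a' ⊗ e` of `M' ⊗ N` -/
noncomputable def Fr3.t' (p : Fr3 M M' N) : Γ(CohB1.tensorMod M' N, p.W) := tm M' N p.W p.a' p.e

theorem Fr3.ht (p : Fr3 M M' N) : IsGen (CohB1.tensorMod M N) p.W p.t := isGen_tm M N p.W p.a p.e p.ha p.he

theorem Fr3.ht' (p : Fr3 M M' N) : IsGen (CohB1.tensorMod M' N) p.W p.t' :=
  isGen_tm M' N p.W p.a' p.e p.ha' p.he

/-- the unit comparing `φ (a ⊗ e)` with `a' ⊗ e` -/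
noncomputable def Fr3.u (p : Fr3 M M' N) : Γ(X, p.W) := coef p.ht' le_rfl (φ.hom.app p.W p.t)

theorem Fr3.u_spec (p : Fr3 M M' N) : p.u φ • p.t' = φ.hom.app p.W p.t := by
  have h := coef_spec p.ht' le_rfl (φ.hom.app p.W p.t)
  rw [res_self] at h
  exact h

theorem Fr3.isUnit_u (p : Fr3 M M' N) : IsUnit (p.u φ) :=
  Groth.Agent.Lib.Helper23.PB.isUnit_coef_of_isGen p.ht' (Groth.Agent.Lib.Helper23.PB.isGen_of_iso φ p.ht)

/-- the twisted frame of `M'` -/
noncomputable def Fr3.b (p : Fr3 M M' N) : Γ(M', p.W) := p.u φ • p.a'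

theorem Fr3.hb (p : Fr3 M M' N) : IsGen M' p.W (p.b φ) :=
  Groth.Agent.Lib.Helper20.UFDPic.isGen_unit_smul p.ha' _ (p.isUnit_u φ)

theorem Fr3.compat (p q : Fr3 M M' N) (g : Γ(X, p.W ⊓ q.W))
    (hg : res M inf_le_left p.a = g • res M inf_le_right q.a) :
    res M' inf_le_left (p.b φ) = g • res M' inf_le_right (q.b φ) := by
  -- transition functions of the other two frames
  obtain ⟨g', hg'⟩ := exists_transition' p.a' q.ha'
  obtain ⟨ε, hε⟩ := exists_transition' p.e q.he
  obtain ⟨ε', hε'⟩ := exists_transition' q.e p.he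
  -- `ε` is a unit
  have hεε' : ε * resf (le_of_eq (inf_comm _ _)) ε' = 1 := by
    apply (q.he _ inf_le_right).1
    change (ε * resf (le_of_eq (inf_comm _ _)) ε') • res N inf_le_right q.e = (1 : Γ(X, p.W ⊓ q.W)) • res N inf_le_right q.e
    have h1 : res N (le_of_eq (inf_comm p.W q.W)) (res N inf_le_left q.e) =
        res N (le_of_eq (inf_comm p.W q.W)) (ε' • res N inf_le_right p.e) := congrArg _ hε'
    rw [res_res, res_smul, res_res] at h1
    rw [one_smul, mul_comm, mul_smul, ← hε]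
    exact h1.symm
  -- restrict `φ (a ⊗ e)` in two ways
  have key : (g * ε * resf (inf_le_right : p.W ⊓ q.W ≤ q.W) (q.u φ)) •
        res (CohB1.tensorMod M' N) (inf_le_right : p.W ⊓ q.W ≤ q.W) q.t' =
      (resf (inf_le_left : p.W ⊓ q.W ≤ p.W) (p.u φ) * g' * ε) •
        res (CohB1.tensorMod M' N) (inf_le_right : p.W ⊓ q.W ≤ q.W) q.t' := by
    have h1 : res (CohB1.tensorMod M' N) inf_le_left (φ.hom.app p.W p.t) =
        (g * ε) • res (CohB1.tensorMod M' N) inf_le_right (φ.hom.app q.W q.t) := by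
      have e1 : res (CohB1.tensorMod M' N) (inf_le_left : p.W ⊓ q.W ≤ p.W) (φ.hom.app p.W p.t) =
          φ.hom.app (p.W ⊓ q.W) (res (CohB1.tensorMod M N) inf_le_left p.t) :=
        (app_map φ.hom (homOfLE inf_le_left) p.t).symm
      have e2 : res (CohB1.tensorMod M' N) (inf_le_right : p.W ⊓ q.W ≤ q.W) (φ.hom.app q.W q.t) =
          φ.hom.app (p.W ⊓ q.W) (res (CohB1.tensorMod M N) inf_le_right q.t) :=
        (app_map φ.hom (homOfLE inf_le_right) q.t).symm
      rw [e1, e2, Fr3.t, Fr3.t, res_tm, res_tm, hg, hε, tm_smul_smul, Scheme.Modules.Hom.app_smul]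
    rw [← p.u_spec φ, ← q.u_spec φ, res_smul, res_smul, Fr3.t', res_tm, hg', hε, tm_smul_smul, smul_smul,
      smul_smul, ← res_tm] at h1
    rw [← mul_assoc] at h1
    exact h1.symm
  have key2 : g * ε * resf (inf_le_right : p.W ⊓ q.W ≤ q.W) (q.u φ) =
      resf (inf_le_left : p.W ⊓ q.W ≤ p.W) (p.u φ) * g' * ε :=
    (q.ht' _ inf_le_right).1 key
  have key3 : g * resf (inf_le_right : p.W ⊓ q.W ≤ q.W) (q.u φ) =
      resf (inf_le_left : p.W ⊓ q.W ≤ p.W) (p.u φ) * g' := by
    have h : g * ε * resf (inf_le_right : p.W ⊓ q.W ≤ q.W) (q.u φ) * resf (le_of_eq (inf_comm _ _)) ε' =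
        resf (inf_le_left : p.W ⊓ q.W ≤ p.W) (p.u φ) * g' * ε * resf (le_of_eq (inf_comm _ _)) ε' := by
      rw [key2]
    rw [mul_right_comm g ε, mul_assoc (g * _), hεε', mul_one, mul_assoc (resf _ _ * g'), hεε', mul_one] at h
    exact h
  rw [Fr3.b, Fr3.b, res_smul, res_smul, hg', smul_smul, smul_smul, key3]

include φ in
/-- Cancellation: for invertible modules, `M ⊗ N ≅ M' ⊗ N` implies `M ≅ M'`. -/
theorem cancel (hM : PicF.IsInvertible M) (hM' : PicF.IsInvertible M') (hN : PicF.IsInvertible N) :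
    Nonempty (M ≅ M') := by
  obtain ⟨Φ, -⟩ := exists_iso_of_frames M M' (fun p : Fr3 M M' N => p.W)
    (fun x => exists_fr3 M M' N hM hM' hN x) (fun p => p.a) (fun p => p.b φ) (fun p => p.ha)
    (fun p => p.hb φ) (fun p q g hg => Fr3.compat φ p q g hg)
  exact ⟨Φ⟩

end cancel

/-- `M ⊗ N ≅ N` with `M`, `N` invertible implies `M ≅ O_X`. -/
theorem trivial_of_tensor_iso {M N : X.Modules} (hM : PicF.IsInvertible M) (hN : PicF.IsInvertible N)
    (φ : CohB1.tensorMod M N ≅ N) : Nonempty (M ≅ Coh.structureModule X) :=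
  cancel (φ ≪≫ (Groth.Agent.Lib.Helper23.TensorUnit.unitTensorIso N).symm) hM
    (Groth.Agent.Lib.Helper23.TensorUnit.isInvertible_structureModule X) hN

/-- composite of inverse images along a commuting triangle -/
noncomputable def pbComp {Y Z W : Scheme.{u}} (f : Y ⟶ Z) (g : Z ⟶ W) (h : Y ⟶ W) (e : f ≫ g = h)
    (L : W.Modules) :
    (Scheme.Modules.pullback f).obj ((Scheme.Modules.pullback g).obj L) ≅
      (Scheme.Modules.pullback h).obj L :=
  (Scheme.Modules.pullbackComp f g).app L ≪≫ (Scheme.Modules.pullbackCongr e).app L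

/-- invertible modules on the spectrum of a field are trivial -/
theorem trivial_of_field (k : Type u) [Field k] (N : (Spec (CommRingCat.of k)).Modules)
    (hN : PicF.IsInvertible N) : Nonempty (N ≅ Coh.structureModule (Spec (CommRingCat.of k))) := by
  have y : Spec (CommRingCat.of k) := (default : PrimeSpectrum k)
  obtain ⟨W, hyW, hW⟩ := Groth.Agent.Lib.Helper20.ParaFLib.exists_triv N hN y
  have hWtop : W = ⊤ := by
    ext z
    have hz : z = y := (inferInstance : Subsingleton (PrimeSpectrum k)).elim z y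
    simp only [hz, hyW, SetLike.mem_coe, TopologicalSpace.Opens.coe_top, Set.mem_univ]
  exact Groth.Agent.Lib.Helper20.ParaFLib.nonempty_iso_of_triv_top N (hW.of_eq hWtop)

end Groth.Agent.R2.H98.KL
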