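import Mathlib
import Groth.Prelude
import Groth.Agent.R2.H98KL
set_option backward.isDefEq.respectTransparency.types false

/-!
# The subgroup scheme `K(L)`: the Mumford bundle is trivial on `X × K(L)` (helper98)

Namespace `Groth.Agent.R2.H98.KL2`.  `k` a field, `X` a `k`-group scheme, `L` an invertible module on `X`.

* `one_pullback_trivial` : `1^* L ≅ O_T` for the unit point `1 : T ⟶ X`.
* `tensor_iso_of_lambda` : from `(q^*M ⊗ p^*L) ⊗ (z q)^*L ≅ m_z^*L` on `X × T` get `M ⊗ z^*L ≅ z^*L` (pull back along `(e, id)`).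
* `lambda_trivial` : if `i : K ⟶ X` is `K(L)` then `(O ⊗ p^*L) ⊗ (i q)^*L ≅ m_i^*L` on `X × K`.
* `square` : for a `T`-point `y` of `K(L)` and any `T`-point `w` of `X`: `w^*L ⊗ (i y)^*L ≅ (w · i y)^*L`.
-/

set_option autoImplicit false
universe u
open CategoryTheory MonoidalCategory CartesianMonoidalCategory MonObj GrpObj AlgebraicGeometry

namespace Groth.Agent.R2.H98.KL2

open Groth.Agent.R2.H98.KL

/-- inverse image of a module along a morphism of `S`-schemes -/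
noncomputable abbrev pb {S : Scheme.{u}} {A B : Over S} (f : A ⟶ B) (L : B.left.Modules) : A.left.Modules :=
  (Scheme.Modules.pullback f.left).obj L

/-- inverse image along a commutative triangle in `Over S` -/
noncomputable def pbO {S : Scheme.{u}} {A B C : Over S} (f : A ⟶ B) (g : B ⟶ C) (h : A ⟶ C) (e : f ≫ g = h)
    (L : C.left.Modules) : pb f (pb g L) ≅ pb h L :=
  pbComp f.left g.left h.left (by rw [← e]; rfl) L

/-- inverse image along equal morphisms -/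
noncomputable def pbEq {S : Scheme.{u}} {A B : Over S} {f g : A ⟶ B} (e : f = g) (L : B.left.Modules) :
    pb f L ≅ pb g L :=
  eqToIso (by rw [e])

/-- inverse image along the identity -/
noncomputable def pbId {S : Scheme.{u}} (A : Over S) (M : A.left.Modules) : pb (𝟙 A) M ≅ M :=
  (Scheme.Modules.pullbackId A.left).app M

/-- inverse image commutes with the tensor product -/
noncomputable def pbTensor {S : Scheme.{u}} {A B : Over S} (f : A ⟶ B) (M N : B.left.Modules) :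
    pb f (CohB1.tensorMod M N) ≅ CohB1.tensorMod (pb f M) (pb f N) :=
  Groth.Agent.Lib.Helper23.RestrTensor.pullbackTensorIso M N f.left

/-- inverse image of the structure module -/
noncomputable def pbUnit {S : Scheme.{u}} {A B : Over S} (f : A ⟶ B) :
    pb f (Coh.structureModule B.left) ≅ Coh.structureModule A.left :=
  Groth.Agent.Lib.Helper23.PB.pullbackUnitIso f.left

theorem isInvertible_pb {S : Scheme.{u}} {A B : Over S} (f : A ⟶ B) (L : B.left.Modules)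
    (hL : PicF.IsInvertible L) : PicF.IsInvertible (pb f L) :=
  Groth.Agent.Lib.Helper23.PB.isInvertible_pullback f.left L hL

variable {k : Type u} [Field k] {X : Over (Spec (CommRingCat.of k))} [GrpObj X]

/-- the inverse image of an invertible module along the unit point is trivial -/
theorem one_pullback_trivial (L : X.left.Modules) (hL : PicF.IsInvertible L)
    (T : Over (Spec (CommRingCat.of k))) :
    Nonempty (pb (1 : T ⟶ X) L ≅ Coh.structureModule T.left) := by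
  have hηL : PicF.IsInvertible (pb (η[X] : 𝟙_ _ ⟶ X) L) := isInvertible_pb _ L hL
  obtain ⟨τ⟩ := trivial_of_field k _ hηL
  exact ⟨(pbO (toUnit T) (η[X] : 𝟙_ _ ⟶ X) (1 : T ⟶ X) rfl L).symm ≪≫
    (Scheme.Modules.pullback (toUnit T).left).mapIso τ ≪≫ pbUnit (toUnit T)⟩

/-- Pull back along `(e, id) : T ⟶ X × T`. -/
theorem tensor_iso_of_lambda (L : X.left.Modules) (hL : PicF.IsInvertible L)
    {T : Over (Spec (CommRingCat.of k))} (z : T ⟶ X) (M : T.left.Modules)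
    (h : AgPol.IsLambdaSheaf ((X ◁ z) ≫ μ[X]).left (fst X T).left (snd X T ≫ z).left L
      ((Scheme.Modules.pullback (snd X T).left).obj M)) :
    Nonempty (CohB1.tensorMod M (pb z L) ≅ pb z L) := by
  obtain ⟨Φ⟩ := h
  let s : T ⟶ X ⊗ T := lift (1 : T ⟶ X) (𝟙 T)
  have hs1 : s ≫ fst X T = 1 := lift_fst _ _
  have hs2 : s ≫ snd X T = 𝟙 T := lift_snd _ _
  have hs3 : s ≫ snd X T ≫ z = z := by rw [← Category.assoc, hs2, Category.id_comp]
  have hs4 : s ≫ (X ◁ z) ≫ μ[X] = z := by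
    rw [← Category.assoc, lift_whiskerLeft, Category.id_comp, ← Hom.mul_def, _root_.one_mul]
  obtain ⟨τ⟩ := one_pullback_trivial L hL T
  have e1 : pb s (pb (fst X T) L) ≅ Coh.structureModule T.left := pbO s (fst X T) 1 hs1 L ≪≫ τ
  have e2 : pb s (pb (snd X T) M) ≅ M := pbO s (snd X T) (𝟙 T) hs2 M ≪≫ pbId T M
  have e3 : pb s (pb (snd X T ≫ z) L) ≅ pb z L := pbO s (snd X T ≫ z) z hs3 L
  have e4 : pb s (pb ((X ◁ z) ≫ μ[X]) L) ≅ pb z L := pbO s ((X ◁ z) ≫ μ[X]) z hs4 L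
  exact ⟨PicGrp.tensorModIso
      ((Groth.Agent.Lib.Helper23.TensorUnit.tensorUnitIso M).symm ≪≫ PicGrp.tensorModIso e2.symm e1.symm ≪≫
        (pbTensor s _ _).symm) e3.symm ≪≫
    (pbTensor s _ _).symm ≪≫ (Scheme.Modules.pullback s.left).mapIso Φ ≪≫ e4⟩

/-- The Mumford bundle of `L` is trivial on `X × K(L)`. -/
theorem lambda_trivial (L : X.left.Modules) (hL : PicF.IsInvertible L)
    {K : Over (Spec (CommRingCat.of k))} (i : K ⟶ X) (hK : ThetaGrp.IsKL X L i) :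
    AgPol.IsLambdaSheaf ((X ◁ i) ≫ μ[X]).left (fst X K).left (snd X K ≫ i).left L
      (Coh.structureModule (X ⊗ K).left) := by
  obtain ⟨M, hM, hΦ⟩ := (hK.univ K i).2 ⟨𝟙 K, Category.id_comp i⟩
  obtain ⟨ψ⟩ := tensor_iso_of_lambda L hL i M hΦ
  obtain ⟨ρ⟩ := trivial_of_tensor_iso hM (isInvertible_pb i L hL) ψ
  obtain ⟨Φ⟩ := hΦ
  exact ⟨PicGrp.tensorModIso (PicGrp.tensorModIso
    ((pbUnit (snd X K)).symm ≪≫ (Scheme.Modules.pullback (snd X K).left).mapIso ρ.symm) (Iso.refl _))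
    (Iso.refl _) ≪≫ Φ⟩

/-- Theorem of the square for points of `K(L)`: `w^*L ⊗ (i y)^*L ≅ (w · i y)^*L`. -/
theorem square (L : X.left.Modules) {K : Over (Spec (CommRingCat.of k))} (i : K ⟶ X)
    (hΘ : AgPol.IsLambdaSheaf ((X ◁ i) ≫ μ[X]).left (fst X K).left (snd X K ≫ i).left L
      (Coh.structureModule (X ⊗ K).left))
    {T : Over (Spec (CommRingCat.of k))} (w : T ⟶ X) (y : T ⟶ K) :
    Nonempty (CohB1.tensorMod (pb w L) (pb (y ≫ i) L) ≅ pb (w * (y ≫ i)) L) := by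
  obtain ⟨Θ⟩ := hΘ
  let r : T ⟶ X ⊗ K := lift w y
  have hr1 : r ≫ fst X K = w := lift_fst _ _
  have hr2 : r ≫ snd X K ≫ i = y ≫ i := by rw [← Category.assoc, lift_snd]
  have hr3 : r ≫ (X ◁ i) ≫ μ[X] = w * (y ≫ i) := by
    rw [← Category.assoc, lift_whiskerLeft, ← Hom.mul_def]
  have e0 : pb r (Coh.structureModule (X ⊗ K).left) ≅ Coh.structureModule T.left := pbUnit r
  have e1 : pb r (pb (fst X K) L) ≅ pb w L := pbO r (fst X K) w hr1 L
  have e2 : pb r (pb (snd X K ≫ i) L) ≅ pb (y ≫ i) L := pbO r (snd X K ≫ i) (y ≫ i) hr2 L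
  have e3 : pb r (pb ((X ◁ i) ≫ μ[X]) L) ≅ pb (w * (y ≫ i)) L := pbO r ((X ◁ i) ≫ μ[X]) _ hr3 L
  exact ⟨PicGrp.tensorModIso
      ((Groth.Agent.Lib.Helper23.TensorUnit.unitTensorIso _).symm ≪≫ PicGrp.tensorModIso e0.symm e1.symm ≪≫
        (pbTensor r _ _).symm) e2.symm ≪≫
    (pbTensor r _ _).symm ≪≫ (Scheme.Modules.pullback r.left).mapIso Θ ≪≫ e3⟩

end Groth.Agent.R2.H98.KL2

namespace Groth.Agent.R2.H98.KL2

open Groth.Agent.R2.H98.KL

variable {k : Type u} [Field k] {X : Over (Spec (CommRingCat.of k))} [GrpObj X]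

theorem whiskerLeft_mul {T : Over (Spec (CommRingCat.of k))} (z : T ⟶ X) :
    (X ◁ z) ≫ μ[X] = fst X T * (snd X T ≫ z) := by
  rw [Hom.mul_def, ← lift_whiskerLeft, lift_fst_snd, Category.id_comp]

theorem transl_fst_eq {T : Over (Spec (CommRingCat.of k))} (z : T ⟶ X) :
    ThetaGrp.transl X z ≫ fst X T = (X ◁ z) ≫ μ[X] := by
  rw [ThetaGrp.transl_fst, whiskerLeft_mul]

/-- `(q^*O ⊗ p^*L) ≅ p^*L` on `X × T` -/
noncomputable def unitFactor (L : X.left.Modules) (T : Over (Spec (CommRingCat.of k))) :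
    CohB1.tensorMod ((Scheme.Modules.pullback (snd X T).left).obj (Coh.structureModule T.left))
      (pb (fst X T) L) ≅ pb (fst X T) L :=
  PicGrp.tensorModIso (pbUnit (snd X T)) (Iso.refl _) ≪≫ Groth.Agent.Lib.Helper23.TensorUnit.unitTensorIso _

/-- the Mumford-triviality condition with trivial module on `T`, from an isomorphism
`p^*L ⊗ (z q)^*L ≅ (p · z q)^*L` -/
theorem isMumfordTriv_of_iso (L : X.left.Modules) {T : Over (Spec (CommRingCat.of k))} (z : T ⟶ X)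
    (h : Nonempty (CohB1.tensorMod (pb (fst X T) L) (pb (snd X T ≫ z) L) ≅
      pb (fst X T * (snd X T ≫ z)) L)) :
    ThetaGrp.IsMumfordTriv X L z := by
  obtain ⟨φ⟩ := h
  exact ⟨Coh.structureModule T.left, Groth.Agent.Lib.Helper23.TensorUnit.isInvertible_structureModule _,
    ⟨PicGrp.tensorModIso (unitFactor L T) (Iso.refl _) ≪≫ φ ≪≫ pbEq (whiskerLeft_mul z).symm L⟩⟩

section subgroup

variable (L : X.left.Modules) (hL : PicF.IsInvertible L)
  {K : Over (Spec (CommRingCat.of k))} (i : K ⟶ X) (hK : ThetaGrp.IsKL X L i)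
include hL hK

/-- the unit point factors through `K(L)` -/
theorem exists_one (T : Over (Spec (CommRingCat.of k))) : ∃ y : T ⟶ K, y ≫ i = 1 := by
  refine (hK.univ T 1).1 (isMumfordTriv_of_iso L 1 ?_)
  obtain ⟨τ⟩ := one_pullback_trivial L hL (X ⊗ T)
  have h1 : snd X T ≫ (1 : T ⟶ X) = 1 := MonObj.comp_one _
  have h2 : fst X T * (snd X T ≫ (1 : T ⟶ X)) = fst X T := by rw [h1, _root_.mul_one]
  exact ⟨PicGrp.tensorModIso (Iso.refl _) (pbEq h1 L ≪≫ τ) ≪≫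
    Groth.Agent.Lib.Helper23.TensorUnit.tensorUnitIso _ ≪≫ pbEq h2.symm L⟩

/-- products of points of `K(L)` factor through `K(L)` -/
theorem exists_mul (T : Over (Spec (CommRingCat.of k))) (y₁ y₂ : T ⟶ K) :
    ∃ y : T ⟶ K, y ≫ i = (y₁ ≫ i) * (y₂ ≫ i) := by
  have hΘ := lambda_trivial L hL i hK
  refine (hK.univ T _).1 (isMumfordTriv_of_iso L _ ?_)
  obtain ⟨s1⟩ := square L i hΘ ((snd X T ≫ y₁) ≫ i) (snd X T ≫ y₂)
  obtain ⟨s2⟩ := square L i hΘ (fst X T) (snd X T ≫ y₁)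
  obtain ⟨s3⟩ := square L i hΘ (fst X T * ((snd X T ≫ y₁) ≫ i)) (snd X T ≫ y₂)
  have h1 : snd X T ≫ ((y₁ ≫ i) * (y₂ ≫ i)) = ((snd X T ≫ y₁) ≫ i) * ((snd X T ≫ y₂) ≫ i) := by
    rw [MonObj.comp_mul, Category.assoc, Category.assoc]
  have h2 : fst X T * ((snd X T ≫ y₁) ≫ i) * ((snd X T ≫ y₂) ≫ i) =
      fst X T * (snd X T ≫ ((y₁ ≫ i) * (y₂ ≫ i))) := by
    rw [h1, _root_.mul_assoc]
  exact ⟨PicGrp.tensorModIso (Iso.refl _) (pbEq h1 L ≪≫ s1.symm) ≪≫
    (Groth.Agent.Lib.Helper23.LocGen.tensorAssoc _ _ _).symm ≪≫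
    PicGrp.tensorModIso s2 (Iso.refl _) ≪≫ s3 ≪≫ pbEq h2 L⟩

/-- inverses of points of `K(L)` factor through `K(L)` -/
theorem exists_inv (T : Over (Spec (CommRingCat.of k))) (y₁ : T ⟶ K) :
    ∃ y : T ⟶ K, y ≫ i = (y₁ ≫ i)⁻¹ := by
  have hΘ := lambda_trivial L hL i hK
  refine (hK.univ T _).1 (isMumfordTriv_of_iso L _ ?_)
  set x' : X ⊗ T ⟶ X := (snd X T ≫ y₁) ≫ i with hx'
  obtain ⟨s1⟩ := square L i hΘ (fst X T * x'⁻¹) (snd X T ≫ y₁)
  obtain ⟨s2⟩ := square L i hΘ (x'⁻¹) (snd X T ≫ y₁)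
  obtain ⟨τ⟩ := one_pullback_trivial L hL (X ⊗ T)
  have h1 : snd X T ≫ (y₁ ≫ i)⁻¹ = x'⁻¹ := by
    rw [GrpObj.comp_inv, ← Category.assoc]
  have h2 : fst X T * x'⁻¹ * x' = fst X T := _root_.inv_mul_cancel_right _ _
  have h3 : x'⁻¹ * x' = 1 := _root_.inv_mul_cancel _
  have h4 : fst X T * x'⁻¹ = fst X T * (snd X T ≫ (y₁ ≫ i)⁻¹) := by rw [h1]
  obtain ⟨c⟩ := Groth.Agent.Lib.Helper23.SecTw.nonempty_tensorMod_comm_iso (pb x' L) (pb (x'⁻¹) L)
    (isInvertible_pb _ L hL) (isInvertible_pb _ L hL)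
  exact ⟨PicGrp.tensorModIso ((s1 ≪≫ pbEq h2 L).symm) (pbEq h1 L) ≪≫
    Groth.Agent.Lib.Helper23.LocGen.tensorAssoc _ _ _ ≪≫
    PicGrp.tensorModIso (Iso.refl _) (c ≪≫ s2 ≪≫ pbEq h3 L ≪≫ τ) ≪≫
    Groth.Agent.Lib.Helper23.TensorUnit.tensorUnitIso _ ≪≫ pbEq h4 L⟩

end subgroup

end Groth.Agent.R2.H98.KL2
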