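import Mathlib
import Groth.Prelude.Def_HMNum
import Groth.Agent.R2.H98HMConj
import Groth.Agent.R2.H98Dense

set_option autoImplicit false
universe u
open CategoryTheory CategoryTheory.Limits MonoidalCategory CartesianMonoidalCategory MonObj AlgebraicGeometry Opposite

noncomputable section

namespace Groth.Agent.R2.H98.Parab

open Groth.Agent.R2.H98.HMConj Groth.Agent.R2.H98.Dense

section star

variable (k : Type u) [Field k] {G : Over (Spec (CommRingCat.of k))} [GrpObj G]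
  (l : Red.Gm (Spec (CommRingCat.of k)) ⟶ G) [IsMonHom l] (g₀ : 𝟙_ (Over (Spec (CommRingCat.of k))) ⟶ G)
  (f : HMNum.A1 (Spec (CommRingCat.of k)) ⟶ G)
  (hf : HMNum.incl (Spec (CommRingCat.of k)) ≫ f = l * (toUnit _ ≫ g₀) * l⁻¹)

include hf in
/-- `f(u·s) = λ(u) f(s) λ(u)⁻¹` -/
theorem f_smul [IsSeparated G.hom] {T' : Over (Spec (CommRingCat.of k))}
    (u : T' ⟶ Red.Gm (Spec (CommRingCat.of k))) (s : T' ⟶ HMNum.A1 (Spec (CommRingCat.of k))) :
    (lift u s ≫ (Magnet.subAct (Spec (CommRingCat.of k)) ℤ HMNum.plus).act) ≫ f =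
      (u ≫ l) * (s ≫ f) * (u ≫ l)⁻¹ := by
  -- two morphisms `A1 ⊗ Gm ⟶ G`
  let F₁ : HMNum.A1 (Spec (CommRingCat.of k)) ⊗ Red.Gm (Spec (CommRingCat.of k)) ⟶ G :=
    (lift (snd _ _) (fst _ _) ≫ (Magnet.subAct (Spec (CommRingCat.of k)) ℤ HMNum.plus).act) ≫ f
  let F₂ : HMNum.A1 (Spec (CommRingCat.of k)) ⊗ Red.Gm (Spec (CommRingCat.of k)) ⟶ G :=
    (snd _ _ ≫ l) * (fst _ _ ≫ f) * (snd _ _ ≫ l)⁻¹
  have key : F₁ = F₂ := by
    apply Over.OverMorphism.ext
    haveI := schDominant_incl_whiskerRight k (Red.Gm (Spec (CommRingCat.of k)))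
    refine ext_of_schDominant G.hom ?_
      (HMNum.incl (Spec (CommRingCat.of k)) ▷ Red.Gm (Spec (CommRingCat.of k))).left ?_
    · rw [Over.w, Over.w]
    · rw [← Over.comp_left, ← Over.comp_left]
      congr 1
      apply Magnet.hom_ext_lift₂
      intro T'' v w
      have e1 : lift (v ≫ HMNum.incl (Spec (CommRingCat.of k))) w ≫ F₁ =
          ((w * v) ≫ HMNum.incl (Spec (CommRingCat.of k))) ≫ f := by
        show lift (v ≫ HMNum.incl (Spec (CommRingCat.of k))) w ≫ (lift (snd _ _) (fst _ _) ≫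
          (Magnet.subAct (Spec (CommRingCat.of k)) ℤ HMNum.plus).act) ≫ f = _
        rw [Category.assoc, comp_lift_assoc, lift_snd, lift_fst, Magnet.subAct,
          Magnet.MonAct.lift_restrict_act_assoc, Magnet.MonAct.lift_regular_act_assoc]
        congr 1
        exact (MonObj.mul_comp w v (HMNum.incl (Spec (CommRingCat.of k)))).symm
      have e2 : lift (v ≫ HMNum.incl (Spec (CommRingCat.of k))) w ≫ F₂ =
          (w ≫ l) * ((v ≫ HMNum.incl (Spec (CommRingCat.of k))) ≫ f) * (w ≫ l)⁻¹ := by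
        show lift (v ≫ HMNum.incl (Spec (CommRingCat.of k))) w ≫
          ((snd _ _ ≫ l) * (fst _ _ ≫ f) * (snd _ _ ≫ l)⁻¹) = _
        rw [MonObj.comp_mul, MonObj.comp_mul, GrpObj.comp_inv, lift_snd_assoc, lift_fst_assoc]
      rw [lift_whiskerRight_assoc, lift_whiskerRight_assoc, e1, e2, Category.assoc, Category.assoc, hf,
        MonObj.comp_mul, MonObj.comp_mul, GrpObj.comp_inv, MonObj.comp_mul, MonObj.comp_mul, GrpObj.comp_inv,
        MonObj.mul_comp, ← Category.assoc, ← Category.assoc,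
        toUnit_unique ((w * v) ≫ toUnit _) (toUnit T''), toUnit_unique (v ≫ toUnit _) (toUnit T'')]
      group
  have h2 := congrArg (fun F => lift s u ≫ F) key
  simp only [F₁, F₂] at h2
  rw [Category.assoc, comp_lift_assoc, lift_snd, lift_fst, MonObj.comp_mul, MonObj.comp_mul, GrpObj.comp_inv,
    lift_snd_assoc, lift_fst_assoc, ← Category.assoc] at h2
  exact h2

/-- the value of `f` at the origin -/
abbrev gam : 𝟙_ (Over (Spec (CommRingCat.of k))) ⟶ G := HMNum.origin (Spec (CommRingCat.of k)) ≫ f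

include hf in
/-- `f(0)` centralises `λ` -/
theorem conj_gam_inv [IsSeparated G.hom] : conj (gam k f)⁻¹ l = l := by
  have h := f_smul k l g₀ f hf (𝟙 (Red.Gm (Spec (CommRingCat.of k))))
    (toUnit _ ≫ HMNum.origin (Spec (CommRingCat.of k)))
  rw [smul_origin, Category.id_comp, Category.assoc] at h
  unfold conj gam
  rw [GrpObj.comp_inv, inv_inv]
  have h' : toUnit (Red.Gm (Spec (CommRingCat.of k))) ≫ HMNum.origin (Spec (CommRingCat.of k)) ≫ f * l =
      l * (toUnit (Red.Gm (Spec (CommRingCat.of k))) ≫ HMNum.origin (Spec (CommRingCat.of k)) ≫ f) := by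
    nth_rewrite 1 [h]
    group
  rw [h']
  group

variable {X : Over (Spec (CommRingCat.of k))} (a : AlgGrp.Action G X)

include hf in
theorem parab_equivariant [IsSeparated G.hom] {T : Over (Spec (CommRingCat.of k))}
    (φ : (HMNum.attrPlus a l).obj (op T)) :
    ((Magnet.subAct (Spec (CommRingCat.of k)) ℤ HMNum.plus).prod
        (Magnet.MonAct.trivial (Red.Gm (Spec (CommRingCat.of k))) T)).IsEquivariant
      (HMNum.gmAct a l) (lift (fst _ T ≫ f) φ.1 ≫ a.act) := by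
  have h := φ.2
  rw [Magnet.MonAct.mem_eqvHom_iff] at h ⊢
  intro T' g b t
  rw [comp_smul, comp_smul, lift_fst_assoc, lift_fst_assoc, h, gmAct_smul, gmAct_smul, ← HMConj.mul_smul,
    ← HMConj.mul_smul, f_smul k l g₀ f hf g b]
  congr 2
  group

/-- the point `(s, t) ↦ f(s)·φ(s, t)` of the attractor -/
def parabAttr [IsSeparated G.hom] {T : Over (Spec (CommRingCat.of k))}
    (φ : (HMNum.attrPlus a l).obj (op T)) (hf : HMNum.incl (Spec (CommRingCat.of k)) ≫ f = l * (toUnit _ ≫ g₀) * l⁻¹) :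
    (HMNum.attrPlus a l).obj (op T) :=
  ⟨lift (fst _ T ≫ f) φ.1 ≫ a.act, parab_equivariant k l g₀ f hf a φ⟩

include hf in
theorem one_comp_f : η[HMNum.A1 (Spec (CommRingCat.of k))] ≫ f = g₀ := by
  have e : η[HMNum.A1 (Spec (CommRingCat.of k))] =
      η[Red.Gm (Spec (CommRingCat.of k))] ≫ HMNum.incl (Spec (CommRingCat.of k)) :=
    (IsMonHom.one_hom (f := HMNum.incl (Spec (CommRingCat.of k)))).symm
  rw [e, Category.assoc, hf, MonObj.comp_mul, MonObj.comp_mul, GrpObj.comp_inv, IsMonHom.one_hom,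
    ← Category.assoc, toUnit_unique (η[Red.Gm (Spec (CommRingCat.of k))] ≫ toUnit _) (𝟙 _), MonObj.one_eq_one]
  simp

include hf in
theorem isLimitPt_parab [IsSeparated G.hom] {T : Over (Spec (CommRingCat.of k))} (x y : T ⟶ X)
    (h : HMNum.IsLimitPt a l x y) :
    HMNum.IsLimitPt a l (lift (kst g₀ T) x ≫ a.act) (lift (kst (gam k f) T) y ≫ a.act) := by
  obtain ⟨φ, h1, h2⟩ := h
  refine ⟨parabAttr k l g₀ f a φ hf, ?_, ?_⟩
  · rw [Magnet.MonAct.eqvHom.evalAt_app] at h1 ⊢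
    show lift _ _ ≫ lift (fst _ T ≫ f) φ.1 ≫ a.act = _
    rw [comp_smul, h1, lift_fst_assoc, Category.assoc, one_comp_f k l g₀ f hf]
  · rw [HMNum.limitPt_eq] at h2 ⊢
    show lift _ _ ≫ lift (fst _ T ≫ f) φ.1 ≫ a.act = _
    rw [comp_smul, h2, lift_fst_assoc, Category.assoc]

include hf in
theorem isMu_act_of_parab [IsSeparated G.hom] (B : GLinSh.LinBun G a)
    (x : 𝟙_ (Over (Spec (CommRingCat.of k))) ⟶ X) (m : ℤ) (h : HMNum.IsMu B l x m) :
    HMNum.IsMu B l (lift g₀ x ≫ a.act) m := by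
  obtain ⟨y, hy, hw⟩ := h
  refine ⟨lift (kst (gam k f) (𝟙_ _)) y ≫ a.act, ?_, ?_⟩
  · have := isLimitPt_parab k l g₀ f hf a x y hy
    rwa [kst_unit] at this
  · have hw' := hasFibreWeight_conj B l (gam k f)⁻¹ y (-m) hw (exists_chart_of_field k B _)
    rw [conj_gam_inv k l g₀ f hf, inv_inv] at hw'
    exact hw'

end star

section final

variable (k : Type u) [Field k] {G X : Over (Spec (CommRingCat.of k))} [GrpObj G]
  {a : AlgGrp.Action G X} (B : GLinSh.LinBun G a)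

/-- `μ(x, λ) = μ(x, γ⁻¹λγ)` for `γ ∈ P(λ)` -/
theorem isMu_iff_parab [IsSeparated G.hom] (x : 𝟙_ (Over (Spec (CommRingCat.of k))) ⟶ X)
    (l : Red.Gm (Spec (CommRingCat.of k)) ⟶ G) [IsMonHom l] (g₀ : 𝟙_ (Over (Spec (CommRingCat.of k))) ⟶ G)
    (hg₀ : ∃ f : HMNum.A1 (Spec (CommRingCat.of k)) ⟶ G,
      HMNum.incl (Spec (CommRingCat.of k)) ≫ f = l * (toUnit _ ≫ g₀) * l⁻¹)
    (l' : Red.Gm (Spec (CommRingCat.of k)) ⟶ G) [IsMonHom l']
    (hl' : l' = (toUnit _ ≫ g₀)⁻¹ * l * (toUnit _ ≫ g₀)) (m : ℤ) :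
    HMNum.IsMu B l x m ↔ HMNum.IsMu B l' x m := by
  obtain ⟨f, hf⟩ := hg₀
  rw [← isMu_conj_iff k B l g₀ l' hl' x m]
  constructor
  · exact isMu_act_of_parab k l g₀ f hf a B x m
  · intro h
    have hf' : HMNum.incl (Spec (CommRingCat.of k)) ≫ f⁻¹ = l * (toUnit _ ≫ g₀⁻¹) * l⁻¹ := by
      rw [GrpObj.comp_inv, hf, GrpObj.comp_inv]
      group
    have := isMu_act_of_parab k l g₀⁻¹ f⁻¹ hf' a B (lift g₀ x ≫ a.act) m h
    rwa [HMConj.inv_smul_smul] at this

end final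

end Groth.Agent.R2.H98.Parab
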