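import Mathlib
import Groth.Prelude.Def_FibClv

set_option autoImplicit false
universe v₁ v₂ v₃ u₁ u₂ u₃

open CategoryTheory CategoryTheory.Functor

namespace Groth.Agent.R2.H98.Split

variable {𝒮 : Type u₁} [Category.{v₁} 𝒮] {𝒳 : Type u₂} [Category.{v₂} 𝒳]
  {𝒴 : Type u₃} [Category.{v₃} 𝒴]

/-- homlift along a composite functor -/
theorem isHomLift_comp_iff (Φ : 𝒳 ⥤ 𝒴) (q : 𝒴 ⥤ 𝒮) {R S : 𝒮} {a b : 𝒳} (f : R ⟶ S) (φ : a ⟶ b) :
    (Φ ⋙ q).IsHomLift f φ ↔ q.IsHomLift f (Φ.map φ) := by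
  constructor
  · intro h
    exact IsHomLift.of_fac q f (Φ.map φ) (IsHomLift.domain_eq (Φ ⋙ q) f φ)
      (IsHomLift.codomain_eq (Φ ⋙ q) f φ) (IsHomLift.fac (Φ ⋙ q) f φ)
  · intro h
    exact IsHomLift.of_fac (Φ ⋙ q) f φ (IsHomLift.domain_eq q f (Φ.map φ))
      (IsHomLift.codomain_eq q f (Φ.map φ)) (IsHomLift.fac q f (Φ.map φ))

/-- a fully faithful functor reflects cartesian morphisms -/
theorem isCartesian_of_map (Φ : 𝒳 ⥤ 𝒴) [Φ.Full] [Φ.Faithful] (q : 𝒴 ⥤ 𝒮) {R S : 𝒮} {a b : 𝒳}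
    (f : R ⟶ S) (φ : a ⟶ b) [hc : q.IsCartesian f (Φ.map φ)] : (Φ ⋙ q).IsCartesian f φ := by
  haveI : (Φ ⋙ q).IsHomLift f φ := (isHomLift_comp_iff Φ q f φ).2 inferInstance
  refine ⟨?_⟩
  intro a' φ' hφ'
  haveI : q.IsHomLift f (Φ.map φ') := (isHomLift_comp_iff Φ q f φ').1 hφ'
  refine ⟨Φ.preimage (IsCartesian.map q f (Φ.map φ) (Φ.map φ')), ⟨?_, ?_⟩, ?_⟩
  · rw [isHomLift_comp_iff, Functor.map_preimage]
    infer_instance
  · apply Φ.map_injective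
    rw [Functor.map_comp, Functor.map_preimage, IsCartesian.fac]
  · rintro χ ⟨hχ1, hχ2⟩
    apply Φ.map_injective
    rw [Functor.map_preimage]
    haveI : q.IsHomLift (𝟙 R) (Φ.map χ) := (isHomLift_comp_iff Φ q (𝟙 R) χ).1 hχ1
    apply IsCartesian.map_uniq
    rw [← Functor.map_comp, hχ2]


section transport

variable (q : 𝒴 ⥤ 𝒮) (Φ : 𝒳 ⥤ 𝒴) (Ψ : 𝒴 ⥤ 𝒳)

theorem faithful_of_inv (h₁ : Φ ⋙ Ψ = 𝟭 𝒳) : Φ.Faithful := by
  refine ⟨fun {a b} φ ψ h => ?_⟩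
  have e1 := Functor.congr_hom h₁ φ
  have e2 := Functor.congr_hom h₁ ψ
  simp only [Functor.comp_map, Functor.id_map] at e1 e2
  have e3 : Ψ.map (Φ.map φ) = Ψ.map (Φ.map ψ) := by rw [h]
  rw [e1, e2] at e3
  exact (cancel_mono _).1 ((cancel_epi _).1 e3)

theorem full_of_inv (h₁ : Φ ⋙ Ψ = 𝟭 𝒳) (h₂ : Ψ ⋙ Φ = 𝟭 𝒴) : Φ.Full := by
  refine ⟨fun {a b} χ => ?_⟩
  refine ⟨eqToHom (Functor.congr_obj h₁ a).symm ≫ Ψ.map χ ≫ eqToHom (Functor.congr_obj h₁ b), ?_⟩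
  have e1 := Functor.congr_hom h₂ χ
  simp only [Functor.comp_map, Functor.id_map] at e1
  rw [Functor.map_comp, Functor.map_comp, e1, eqToHom_map, eqToHom_map]
  simp

theorem obj_inv_obj (h₂ : Ψ ⋙ Φ = 𝟭 𝒴) (b : 𝒴) : Φ.obj (Ψ.obj b) = b := Functor.congr_obj h₂ b

theorem inv_obj_obj (h₁ : Φ ⋙ Ψ = 𝟭 𝒳) (a : 𝒳) : Ψ.obj (Φ.obj a) = a := Functor.congr_obj h₁ a

variable [Φ.Full] [Φ.Faithful] (h₂ : Ψ ⋙ Φ = 𝟭 𝒴) (L : FibCat.Cleavage q)

/-- transport of a cleavage along an isomorphism of categories over the base -/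
@[reducible] noncomputable def transportCleavage : FibCat.Cleavage (Φ ⋙ q) where
  obj {_ _ a} ha f := Ψ.obj (L.obj (a := Φ.obj a) ha f)
  lift {_ _ a} ha f :=
    Φ.preimage (eqToHom (obj_inv_obj Φ Ψ h₂ (L.obj (a := Φ.obj a) ha f)) ≫ L.lift (a := Φ.obj a) ha f)
  isCartesian {R S a} ha f := by
    haveI : q.IsHomLift (𝟙 R)
        (eqToIso (obj_inv_obj Φ Ψ h₂ (L.obj (a := Φ.obj a) ha f))).hom := by
      rw [eqToIso.hom]
      exact IsHomLift.eqToHom_codomain_lift_id _ (L.obj_proj ha f)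
    haveI : q.IsCartesian f (Φ.map (Φ.preimage
        (eqToHom (obj_inv_obj Φ Ψ h₂ (L.obj (a := Φ.obj a) ha f)) ≫ L.lift (a := Φ.obj a) ha f))) := by
      rw [Functor.map_preimage]
      exact IsCartesian.of_iso_comp q f (L.lift (a := Φ.obj a) ha f)
        (eqToIso (obj_inv_obj Φ Ψ h₂ (L.obj (a := Φ.obj a) ha f)))
    exact isCartesian_of_map Φ q f _


theorem map_transport_lift {R S : 𝒮} {a : 𝒳} (ha : (Φ ⋙ q).obj a = S) (f : R ⟶ S) :
    Φ.map ((transportCleavage q Φ Ψ h₂ L).lift ha f) =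
      eqToHom (obj_inv_obj Φ Ψ h₂ (L.obj (a := Φ.obj a) ha f)) ≫ L.lift (a := Φ.obj a) ha f :=
  Functor.map_preimage _ _

omit [Φ.Full] [Φ.Faithful] in
theorem lift_congr {R S : 𝒮} {b b' : 𝒴} (hbb : b' = b) (hb : q.obj b = S) (hb' : q.obj b' = S)
    (g : R ⟶ S) :
    ∃ h : L.obj hb' g = L.obj hb g, L.lift hb' g ≫ eqToHom hbb = eqToHom h ≫ L.lift hb g := by
  subst hbb
  exact ⟨rfl, by simp⟩

theorem isSplitting_transport (h₁ : Φ ⋙ Ψ = 𝟭 𝒳) (hL : L.IsSplitting) :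
    (transportCleavage q Φ Ψ h₂ L).IsSplitting := by
  obtain ⟨hN, hC⟩ := hL
  refine ⟨?_, ?_⟩
  · intro S a ha
    obtain ⟨h₀, hl₀⟩ := hN (a := Φ.obj a) ha
    have h : (transportCleavage q Φ Ψ h₂ L).obj ha (𝟙 S) = a :=
      (congrArg Ψ.obj h₀).trans (inv_obj_obj Φ Ψ h₁ a)
    refine ⟨h, ?_⟩
    apply Φ.map_injective
    rw [map_transport_lift, hl₀, eqToHom_map, eqToHom_trans]
  · intro S T U f g a ha
    obtain ⟨h₀, hl₀⟩ := hC f g (a := Φ.obj a) ha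
    -- the object `b = L.obj ha f`
    obtain ⟨h₃, hl₃⟩ := lift_congr q L (obj_inv_obj Φ Ψ h₂ (L.obj (a := Φ.obj a) ha f))
      (L.obj_proj (a := Φ.obj a) ha f) ((transportCleavage q Φ Ψ h₂ L).obj_proj ha f) g
    have h : (transportCleavage q Φ Ψ h₂ L).obj ((transportCleavage q Φ Ψ h₂ L).obj_proj ha f) g =
        (transportCleavage q Φ Ψ h₂ L).obj ha (g ≫ f) := congrArg Ψ.obj (h₃.trans h₀)
    refine ⟨h, ?_⟩
    apply Φ.map_injective
    rw [Functor.map_comp, Functor.map_comp, eqToHom_map]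
    rw [map_transport_lift, map_transport_lift, map_transport_lift]
    rw [Category.assoc, ← Category.assoc (L.lift _ g)]
    erw [hl₃]
    rw [Category.assoc, hl₀]
    simp only [eqToHom_trans_assoc]

end transport

section coGrothendieck

open Pseudofunctor Pseudofunctor.CoGrothendieck Opposite

variable {𝒮 : Type u₁} [Category.{v₁} 𝒮] (F : 𝒮ᵒᵖ ⥤ Cat.{v₂, u₂})

theorem gmap {R S : 𝒮} (f : R ⟶ S) : F.toPseudofunctor'.map f.op.toLoc = F.map f.op := rfl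

theorem gmap_id_obj (S : 𝒮) (x : F.toPseudofunctor'.obj ⟨op S⟩) :
    (F.toPseudofunctor'.map (𝟙 S).op.toLoc).toFunctor.obj x = x := by
  rw [gmap, op_id, F.map_id]
  rfl

theorem gmap_comp_obj {S T U : 𝒮} (f : T ⟶ S) (g : U ⟶ T) (x : F.toPseudofunctor'.obj ⟨op S⟩) :
    (F.toPseudofunctor'.map g.op.toLoc).toFunctor.obj
      ((F.toPseudofunctor'.map f.op.toLoc).toFunctor.obj x) =
    (F.toPseudofunctor'.map (g ≫ f).op.toLoc).toFunctor.obj x := by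
  rw [gmap, gmap, gmap, op_comp, F.map_comp]
  rfl

/-- a morphism of `∫ᶜ F` whose fibre component is an `eqToHom` -/
def IsEq {X Y : ∫ᶜ F.toPseudofunctor'} (m : X ⟶ Y) : Prop :=
  ∃ pf : X.fiber = (F.toPseudofunctor'.map m.base.op.toLoc).toFunctor.obj Y.fiber, m.fiber = eqToHom pf

theorem ext_of_isEq {X Y : ∫ᶜ F.toPseudofunctor'} (m m' : X ⟶ Y) (hb : m.base = m'.base)
    (hm : IsEq F m) (hm' : IsEq F m') : m = m' := by
  obtain ⟨pf, hf⟩ := hm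
  obtain ⟨pf', hf'⟩ := hm'
  apply Hom.ext m m' hb
  rw [hf, hf', eqToHom_trans]

theorem eqToHom_base {X Y : ∫ᶜ F.toPseudofunctor'} (h : X = Y) :
    (eqToHom h).base = eqToHom (congrArg (·.base) h) := by
  subst h
  rfl

theorem isEq_id (X : ∫ᶜ F.toPseudofunctor') : IsEq F (𝟙 X) := by
  refine ⟨(gmap_id_obj F X.base X.fiber).symm, ?_⟩
  rw [categoryStruct_id_fiber]
  simp
  rfl

theorem isEq_eqToHom {X Y : ∫ᶜ F.toPseudofunctor'} (h : X = Y) : IsEq F (eqToHom h) := by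
  subst h
  exact isEq_id F X


theorem isEq_comp {X Y Z : ∫ᶜ F.toPseudofunctor'} (m : X ⟶ Y) (n : Y ⟶ Z) (hm : IsEq F m) (hn : IsEq F n) :
    IsEq F (m ≫ n) := by
  obtain ⟨pf, hf⟩ := hm
  obtain ⟨pf', hf'⟩ := hn
  refine ⟨?_, ?_⟩
  · rw [categoryStruct_comp_base]
    rw [← gmap_comp_obj, ← pf', ← pf]
  · rw [categoryStruct_comp_fiber, hf, hf', eqToHom_map]
    have key : (F.toPseudofunctor'.mapComp n.base.op.toLoc m.base.op.toLoc).inv.toNatTrans.app Z.fiber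
        = eqToHom (show (F.toPseudofunctor'.map n.base.op.toLoc ≫
              F.toPseudofunctor'.map m.base.op.toLoc).toFunctor.obj Z.fiber =
            (F.toPseudofunctor'.map (n.base.op.toLoc ≫ m.base.op.toLoc)).toFunctor.obj Z.fiber from
            gmap_comp_obj F n.base m.base Z.fiber) := by
      rw [Functor.toPseudofunctor'_mapComp, eqToIso.inv, Cat.eqToHom_app]
      all_goals rfl
    rw [key, eqToHom_trans, eqToHom_trans]
    all_goals rfl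

theorem isEq_cartesianLift {R S : 𝒮} (x : F.toPseudofunctor'.obj ⟨op S⟩) (f : R ⟶ S) :
    IsEq F (cartesianLift x f) := ⟨rfl, rfl⟩



/-- the canonical cleavage of `∫ᶜ F` -/
noncomputable abbrev K₀ : FibCat.Cleavage (CoGrothendieck.forget F.toPseudofunctor') :=
  FibCat.Cleavage.ofCoGrothendieck F.toPseudofunctor'

theorem K₀_obj_rfl {R : 𝒮} (a : ∫ᶜ F.toPseudofunctor') (f : R ⟶ a.base) :
    (K₀ F).obj (a := a) rfl f = domainCartesianLift a.fiber f := by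
  show domainCartesianLift a.fiber (f ≫ eqToHom rfl) = _
  rw [eqToHom_refl, Category.comp_id]

theorem isEq_K₀_lift {R S : 𝒮} (a : ∫ᶜ F.toPseudofunctor') (ha : a.base = S) (f : R ⟶ S) :
    IsEq F ((K₀ F).lift (a := a) ha f) :=
  isEq_cartesianLift F a.fiber (f ≫ eqToHom ha.symm)

theorem K₀_lift_base {R S : 𝒮} (a : ∫ᶜ F.toPseudofunctor') (ha : a.base = S) (f : R ⟶ S) :
    ((K₀ F).lift (a := a) ha f).base = f ≫ eqToHom ha.symm := rfl

theorem K₀_obj_comp {S T U : 𝒮} (f : T ⟶ S) (g : U ⟶ T) (a : ∫ᶜ F.toPseudofunctor')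
    (ha : a.base = S) :
    (K₀ F).obj ((K₀ F).obj_proj (a := a) ha f) g = (K₀ F).obj (a := a) ha (g ≫ f) := by
  subst ha
  show domainCartesianLift (domainCartesianLift a.fiber (f ≫ 𝟙 a.base)).fiber (g ≫ 𝟙 T) =
    domainCartesianLift a.fiber ((g ≫ f) ≫ 𝟙 a.base)
  rw [Category.comp_id, Category.comp_id, Category.comp_id]
  exact CoGrothendieck.ext rfl (heq_of_eq (gmap_comp_obj F f g a.fiber))

theorem isSplitting_ofCoGrothendieck :
    (FibCat.Cleavage.ofCoGrothendieck F.toPseudofunctor').IsSplitting := by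
  refine ⟨?_, ?_⟩
  · intro S a ha
    subst ha
    have h : (K₀ F).obj (a := a) rfl (𝟙 _) = a := by
      rw [K₀_obj_rfl]
      exact CoGrothendieck.ext rfl (heq_of_eq (gmap_id_obj F a.base a.fiber))
    refine ⟨h, ?_⟩
    apply ext_of_isEq F _ _ _ (isEq_K₀_lift F a rfl _) (isEq_eqToHom F h)
    rw [K₀_lift_base, eqToHom_base]
    simp
    rfl
  · intro S T U f g a ha
    subst ha
    have h : (K₀ F).obj ((K₀ F).obj_proj (a := a) rfl f) g = (K₀ F).obj (a := a) rfl (g ≫ f) :=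
      K₀_obj_comp F f g a rfl
    refine ⟨h, ?_⟩
    apply ext_of_isEq F _ _ _ (isEq_comp F _ _ (isEq_K₀_lift F _ _ _) (isEq_K₀_lift F a rfl _))
      (isEq_comp F _ _ (isEq_eqToHom F h) (isEq_K₀_lift F a rfl _))
    rw [categoryStruct_comp_base, categoryStruct_comp_base, K₀_lift_base, K₀_lift_base, K₀_lift_base,
      eqToHom_base]
    show (g ≫ 𝟙 _) ≫ f ≫ 𝟙 _ = 𝟙 _ ≫ (g ≫ f) ≫ 𝟙 _
    simp


/-- the final statement: a category isomorphic over the base to `∫ᶜ F` for a strict `F` is split -/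
theorem exists_isSplitting_of_iso {𝒳 : Type u₂} [Category.{v₂} 𝒳]
    (p : 𝒳 ⥤ 𝒮)
    (Φ : 𝒳 ⥤ Pseudofunctor.CoGrothendieck F.toPseudofunctor')
    (Ψ : Pseudofunctor.CoGrothendieck F.toPseudofunctor' ⥤ 𝒳)
    (h₁ : Φ ⋙ Ψ = 𝟭 𝒳) (h₂ : Ψ ⋙ Φ = 𝟭 _)
    (h₃ : Φ ⋙ Pseudofunctor.CoGrothendieck.forget F.toPseudofunctor' = p) :
    ∃ K : FibCat.Cleavage p, K.IsSplitting := by
  subst h₃
  haveI := full_of_inv Φ Ψ h₁ h₂
  haveI := faithful_of_inv Φ Ψ h₁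
  exact ⟨transportCleavage _ Φ Ψ h₂ (K₀ F), isSplitting_transport _ Φ Ψ h₂ (K₀ F) h₁
    (isSplitting_ofCoGrothendieck F)⟩

end coGrothendieck

end Groth.Agent.R2.H98.Split
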