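import Mathlib
import Groth.Prelude
import Groth.Agent.R2.H98KL2
import Groth.Agent.R2.H98CoGr
set_option backward.isDefEq.respectTransparency.types false

/-!
# Points of the theta group and isomorphisms `L_T ≅ t_x^* L_T` (helper98)

Namespace `Groth.Agent.R2.H98.Theta`.

* `isIso_transl_left` : translations are isomorphisms.
* `exists_thetaPt` : an isomorphism `L_T ≅ t_x^* L_T` gives a point of `G(L)(T)` over `x`.
* `nonempty_iso_of_thetaPt` : a point of `G(L)(T)` over `x` gives an isomorphism `L_T ≅ t_x^* L_T`.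
* `exists_lift_of_local` : factoring through a monomorphism is Zariski-local on the source.
-/

set_option autoImplicit false
universe u
open CategoryTheory CategoryTheory.Limits MonoidalCategory CartesianMonoidalCategory MonObj GrpObj AlgebraicGeometry

namespace Groth.Agent.R2.H98.Theta

open Groth.Agent.R2.H98.KL Groth.Agent.R2.H98.KL2

section theta

variable {S : Scheme.{u}} {A : Over S} [GrpObj A] (L : A.left.Modules)

theorem isIso_transl_left {T : Over S} (x : T ⟶ A) : IsIso (ThetaGrp.transl A x).left := by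
  have h1 : ThetaGrp.transl A x ≫ ThetaGrp.transl A x⁻¹ = 𝟙 _ := by
    rw [← ThetaGrp.transl_mul, _root_.mul_inv_cancel, ThetaGrp.transl_one]
  have h2 : ThetaGrp.transl A x⁻¹ ≫ ThetaGrp.transl A x = 𝟙 _ := by
    rw [← ThetaGrp.transl_mul, _root_.inv_mul_cancel, ThetaGrp.transl_one]
  exact ⟨⟨(ThetaGrp.transl A x⁻¹).left, by rw [← Over.comp_left, h1]; rfl, by rw [← Over.comp_left, h2]; rfl⟩⟩

/-- an isomorphism `L_T ≅ t_x^* L_T` gives a point of the theta group over `x` -/
theorem exists_thetaPt {T : Over S} (x : T ⟶ A)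
    (φ : (Scheme.Modules.pullback (fst A T).left).obj L ≅
      (Scheme.Modules.pullback (ThetaGrp.transl A x).left).obj ((Scheme.Modules.pullback (fst A T).left).obj L)) :
    ∃ β : ThetaGrp.thetaPts A L T, ThetaGrp.IsOverPt β x := by
  haveI := isIso_transl_left x
  obtain ⟨α, hα⟩ := Groth.Agent.R2.H98.CoGr.exists_iso (F := ThetaGrp.modPF.{u}) (ThetaGrp.thetaObj A L T)
    (ThetaGrp.thetaObj A L T) (ThetaGrp.transl A x).left φ
  exact ⟨⟨α, ⟨x, hα⟩⟩, hα⟩

/-- a point of the theta group over `x` gives an isomorphism `L_T ≅ t_x^* L_T` -/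
theorem nonempty_iso_of_thetaPt {T : Over S} (x : T ⟶ A) (β : ThetaGrp.thetaPts A L T)
    (hβ : ThetaGrp.IsOverPt β x) :
    Nonempty ((Scheme.Modules.pullback (fst A T).left).obj L ≅
      (Scheme.Modules.pullback (ThetaGrp.transl A x).left).obj
        ((Scheme.Modules.pullback (fst A T).left).obj L)) := by
  have h := Groth.Agent.R2.H98.CoGr.isIso_fiber β.1
  have hb : β.1.hom.base = (ThetaGrp.transl A x).left := hβ
  exact ⟨@asIso _ _ _ _ β.1.hom.fiber h ≪≫ eqToIso (by rw [hb]; rfl)⟩

end theta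

/-- factoring through a monomorphism is Zariski-local on the source -/
theorem exists_lift_of_local {S : Scheme.{u}} {T K A : Over S} (i : K ⟶ A) [Mono i.left] (x : T ⟶ A)
    (h : ∀ t : T.left, ∃ U : T.left.Opens, t ∈ U ∧ ∃ y : Over.mk (U.ι ≫ T.hom) ⟶ K,
      y ≫ i = (Over.homMk U.ι rfl : Over.mk (U.ι ≫ T.hom) ⟶ T) ≫ x) :
    ∃ y : T ⟶ K, y ≫ i = x := by
  choose U hU y hy using h
  let 𝒰 : T.left.OpenCover :=
    { I₀ := T.left, X := fun t => (U t), f := fun t => (U t).ι,
      mem₀ := by
        rw [Scheme.presieve₀_mem_precoverage_iff]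
        refine ⟨fun t ↦ ⟨t, by simpa using hU t⟩, inferInstance⟩ }
  have hy' : ∀ t, (y t).left ≫ i.left = (U t).ι ≫ x.left := fun t => by
    have := congrArg (fun f => f.left) (hy t)
    simpa using this
  let g : T.left ⟶ K.left := 𝒰.glueMorphisms (fun t => (y t).left) (fun t t' => by
    rw [← cancel_mono i.left, Category.assoc, Category.assoc, hy', hy']
    exact pullback.condition_assoc _)
  have hg : ∀ t, (U t).ι ≫ g = (y t).left := fun t => 𝒰.ι_glueMorphisms _ _ t
  have hgi : g ≫ i.left = x.left := by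
    refine 𝒰.hom_ext _ _ fun t => ?_
    change (U t).ι ≫ g ≫ i.left = (U t).ι ≫ x.left
    rw [← Category.assoc, hg, hy']
  have hw : g ≫ K.hom = T.hom := by
    rw [← Over.w i, ← Category.assoc, hgi, Over.w x]
  exact ⟨Over.homMk g hw, by ext; exact hgi⟩

end Groth.Agent.R2.H98.Theta
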