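import Mathlib
import Groth.Agent.Lib.Helper24Binary
import Groth.Agent.Lib.Helper24Trisec

set_option autoImplicit false
universe u

open MvPolynomial Module

namespace Groth.Agent.R2.H98.Trisec
open Groth.Agent.Lib.Helper24Binary Groth.Agent.Lib.Helper24Trisec

variable (K : Type u) [Field K]

/-- dehomogenisation of a binary form of degree `n` has degree at most `n` -/
theorem natDegree_dehom_le {n : ℕ} (g : MvPolynomial (Fin 2) K) (hg : g.IsHomogeneous n) :
    (MvPolynomial.aeval ![(Polynomial.X : Polynomial K), 1] g).natDegree ≤ n := by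
  classical
  rw [g.as_sum, map_sum]
  refine Polynomial.natDegree_sum_le_of_forall_le _ _ ?_
  intro m hm
  have hd : m 0 + m 1 = n := by
    have := hg.degree_eq_sum_deg_support hm
    rw [this, Finset.sum_subset (Finset.subset_univ _)
      (by intro x _ hx; exact Finsupp.notMem_support_iff.mp hx), Fin.sum_univ_two]
  rw [MvPolynomial.aeval_monomial, Finsupp.prod_fintype _ _ (fun _ => pow_zero _), Fin.prod_univ_two]
  simp only [Matrix.cons_val_zero, Matrix.cons_val_one, one_pow, mul_one]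
  rw [← Polynomial.C_eq_algebraMap]
  refine (Polynomial.natDegree_C_mul_le _ _).trans ?_
  rw [Polynomial.natDegree_X_pow]
  omega

/-- a nonzero binary cubic over an algebraically closed field is a quadric times a linear form -/
theorem exists_factor [IsAlgClosed K] (g : MvPolynomial (Fin 2) K)
    (hg : g ∈ homogeneousSubmodule (Fin 2) K 3) (hg0 : g ≠ 0) :
    ∃ e ∈ homogeneousSubmodule (Fin 2) K 2, ∃ l ∈ homogeneousSubmodule (Fin 2) K 1,
      e ≠ 0 ∧ g = e * l := by
  set p : Polynomial K := MvPolynomial.aeval ![(Polynomial.X : Polynomial K), 1] g with hp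
  have hgp : p.homogenize 3 = g := Polynomial.homogenize_eq_of_isHomogeneous hg rfl
  have hdeg : p.natDegree ≤ 3 := natDegree_dehom_le K g hg
  obtain ⟨p₁, p₂, h₁, h₂, hpp⟩ : ∃ p₁ p₂ : Polynomial K, p₁.natDegree ≤ 2 ∧ p₂.natDegree ≤ 1 ∧
      p = p₁ * p₂ := by
    by_cases h3 : p.natDegree ≤ 2
    · exact ⟨p, 1, h3, by simp, by simp⟩
    · have h3' : p.natDegree = 3 := by omega
      have hp0 : p ≠ 0 := by
        intro h0
        rw [h0] at h3'
        simp at h3'
      have hdeg0 : p.degree ≠ 0 := by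
        rw [Polynomial.degree_eq_natDegree hp0, h3']
        norm_num
      obtain ⟨r, hr⟩ := IsAlgClosed.exists_root p hdeg0
      obtain ⟨q, hq⟩ := Polynomial.dvd_iff_isRoot.2 hr
      have hq0 : q ≠ 0 := by
        intro h0
        rw [h0, mul_zero] at hq
        exact hp0 hq
      have hXr : (Polynomial.X - Polynomial.C r : Polynomial K) ≠ 0 := Polynomial.X_sub_C_ne_zero r
      have hnd : p.natDegree = 1 + q.natDegree := by
        rw [hq, Polynomial.natDegree_mul hXr hq0, Polynomial.natDegree_X_sub_C]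
      refine ⟨q, Polynomial.X - Polynomial.C r, by omega, by
        rw [Polynomial.natDegree_X_sub_C], ?_⟩
      rw [hq, mul_comm]
  refine ⟨p₁.homogenize 2, Polynomial.isHomogeneous_homogenize p₁, p₂.homogenize 1,
    Polynomial.isHomogeneous_homogenize p₂, ?_, ?_⟩
  · intro h0
    apply hg0
    rw [← hgp, hpp, show (3 : ℕ) = 2 + 1 from rfl, Polynomial.homogenize_mul _ _ h₁ h₂, h0,
      zero_mul]
  · rw [← hgp, hpp, show (3 : ℕ) = 2 + 1 from rfl, Polynomial.homogenize_mul _ _ h₁ h₂]


/-- multiplication by a fixed polynomial as a map from `H_k` -/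
noncomputable def mulFrom (k : ℕ) (g : MvPolynomial (Fin 2) K) :
    homogeneousSubmodule (Fin 2) K k →ₗ[K] MvPolynomial (Fin 2) K :=
  (LinearMap.mulLeft K g).comp (homogeneousSubmodule (Fin 2) K k).subtype

theorem mulFrom_apply (k : ℕ) (g : MvPolynomial (Fin 2) K) (q : homogeneousSubmodule (Fin 2) K k) :
    mulFrom K k g q = g * q.1 := rfl

theorem mulFrom_injective (k : ℕ) {g : MvPolynomial (Fin 2) K} (hg0 : g ≠ 0) :
    Function.Injective (mulFrom K k g) := by
  intro a b hab
  apply Subtype.ext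
  exact mul_left_cancel₀ hg0 hab

theorem range_mulFrom (k : ℕ) (g : MvPolynomial (Fin 2) K) :
    LinearMap.range (mulFrom K k g) =
      (homogeneousSubmodule (Fin 2) K k).map (LinearMap.mulLeft K g) := by
  rw [mulFrom, LinearMap.range_comp, Submodule.range_subtype]

theorem finrank_range_mulFrom (k : ℕ) {g : MvPolynomial (Fin 2) K} (hg0 : g ≠ 0) :
    finrank K (LinearMap.range (mulFrom K k g)) = k + 1 := by
  rw [LinearMap.finrank_range_of_inj (mulFrom_injective K k hg0), finrank_homog]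

/-- under the separation hypothesis, no nonzero cubic `g` has `g · H₂ ⊆ V` when `dim V = 4` -/
theorem no_full [IsAlgClosed K] (V : Submodule K (MvPolynomial (Fin 2) K))
    (hdim : finrank K ↥V = 4)
    (hsep : ∀ e ∈ homogeneousSubmodule (Fin 2) K 2, e ≠ 0 →
      ∀ F ∈ homogeneousSubmodule (Fin 2) K 5, ∃ v ∈ V,
        ∃ h ∈ homogeneousSubmodule (Fin 2) K 3, F = v + e * h)
    (g : MvPolynomial (Fin 2) K) (hg : g ∈ homogeneousSubmodule (Fin 2) K 3) (hg0 : g ≠ 0)
    (hgV : ∀ q ∈ homogeneousSubmodule (Fin 2) K 2, g * q ∈ V) : False := by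
  obtain ⟨e, he, l, hl, he0, hgel⟩ := exists_factor K g hg hg0
  haveI : Module.Finite K V := Module.finite_of_finrank_pos (by rw [hdim]; norm_num)
  set E : Submodule K (MvPolynomial (Fin 2) K) := LinearMap.range (mulFrom K 3 e) with hE
  set N : Submodule K (MvPolynomial (Fin 2) K) := LinearMap.range (mulFrom K 2 g) with hN
  have hEr : finrank K E = 4 := finrank_range_mulFrom K 3 he0
  have hNr : finrank K N = 3 := finrank_range_mulFrom K 2 hg0
  have hNV : N ≤ V ⊓ E := by
    rintro _ ⟨q, rfl⟩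
    refine ⟨hgV q.1 q.2, ?_⟩
    refine ⟨⟨l * q.1, ?_⟩, ?_⟩
    · exact IsHomogeneous.mul (m := 1) (n := 2) hl q.2
    · rw [mulFrom_apply, mulFrom_apply, hgel, mul_assoc]
  have h5 : homogeneousSubmodule (Fin 2) K 5 ≤ V ⊔ E := by
    intro F hF
    obtain ⟨v, hv, h, hh, rfl⟩ := hsep e he he0 F hF
    exact Submodule.add_mem_sup hv ⟨⟨h, hh⟩, rfl⟩
  have h1 := Submodule.finrank_sup_add_finrank_inf_eq V E
  have h2 : finrank K (homogeneousSubmodule (Fin 2) K 5) ≤ finrank K ↥(V ⊔ E) :=
    Submodule.finrank_mono h5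
  have h3 : finrank K N ≤ finrank K ↥(V ⊓ E) := Submodule.finrank_mono hNV
  rw [finrank_homog] at h2
  omega


theorem infinite_trisecants [IsAlgClosed K] [CharZero K] (V : Submodule K (MvPolynomial (Fin 2) K))
    (hV : V ≤ homogeneousSubmodule (Fin 2) K 5) (hdim : finrank K ↥V = 4)
    (hsep : ∀ e ∈ homogeneousSubmodule (Fin 2) K 2, e ≠ 0 →
      ∀ F ∈ homogeneousSubmodule (Fin 2) K 5, ∃ v ∈ V,
        ∃ h ∈ homogeneousSubmodule (Fin 2) K 3, F = v + e * h)
    (F : Finset (MvPolynomial (Fin 2) K)) :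
    ∃ g ∈ homogeneousSubmodule (Fin 2) K 3, g ≠ 0 ∧
      2 ≤ finrank K ↥(V ⊓ (homogeneousSubmodule (Fin 2) K 2).map (LinearMap.mulLeft K g)) ∧
      ∀ g' ∈ F, ∀ c : K, g ≠ c • g' := by
  classical
  have hVfin : Module.Finite K V := Module.finite_of_finrank_pos (by rw [hdim]; norm_num)
  set U' : Submodule K (homogeneousSubmodule (Fin 2) K 5) :=
    V.comap (homogeneousSubmodule (Fin 2) K 5).subtype with hU'
  have h1 : finrank K U' = finrank K V :=
    LinearEquiv.finrank_eq (Submodule.comapSubtypeEquivOfLe hV)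
  have h2 := Submodule.finrank_quotient_add_finrank U'
  rw [finrank_homog, h1, hdim] at h2
  have hQ : finrank K (homogeneousSubmodule (Fin 2) K 5 ⧸ U') = 2 := by omega
  let b : Basis (Fin 2) K (homogeneousSubmodule (Fin 2) K 5 ⧸ U') := Module.finBasisOfFinrankEq K _ hQ
  let Φ := mulQ K (show 3 + 2 = 5 by norm_num) U'
  -- the functional `ℓ_t = b₀* + t b₁*`
  let ℓ : K → ((homogeneousSubmodule (Fin 2) K 5 ⧸ U') →ₗ[K] K) := fun t => b.coord 0 + t • b.coord 1
  -- for every `t` a nonzero cubic killed by `ℓ_t`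
  have hex : ∀ t : K, ∃ g : homogeneousSubmodule (Fin 2) K 3, g ≠ 0 ∧
      ∀ q : homogeneousSubmodule (Fin 2) K 2, ℓ t (Φ g q) = 0 := by
    intro t
    have hker : LinearMap.ker (Φ.compr₂ (ℓ t)) ≠ ⊥ := by
      apply LinearMap.ker_ne_bot_of_finrank_lt
      rw [Module.finrank_linearMap, finrank_homog, finrank_homog, Module.finrank_self]
      norm_num
    obtain ⟨g, hg, hg0⟩ := (Submodule.ne_bot_iff _).1 hker
    refine ⟨g, hg0, fun q => ?_⟩
    have := LinearMap.mem_ker.1 hg
    have h3 := congrArg (fun f => f q) this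
    simpa using h3
  choose γ hγ0 hγ using hex
  -- if `ℓ_t` and `ℓ_t'` both kill `g`, then `g · H₂ ⊆ V`
  have hboth : ∀ (t t' : K) (g : homogeneousSubmodule (Fin 2) K 3), t ≠ t' →
      (∀ q : homogeneousSubmodule (Fin 2) K 2, ℓ t (Φ g q) = 0) →
      (∀ q : homogeneousSubmodule (Fin 2) K 2, ℓ t' (Φ g q) = 0) →
      ∀ q ∈ homogeneousSubmodule (Fin 2) K 2, g.1 * q ∈ V := by
    intro t t' g htt h h' q hq
    have e1 := h ⟨q, hq⟩
    have e2 := h' ⟨q, hq⟩
    simp only [ℓ, LinearMap.add_apply, LinearMap.smul_apply, smul_eq_mul] at e1 e2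
    have hb1 : b.coord 1 (Φ g ⟨q, hq⟩) = 0 := by
      have : (t - t') * b.coord 1 (Φ g ⟨q, hq⟩) = 0 := by linear_combination e1 - e2
      rcases mul_eq_zero.1 this with h0 | h0
      · exact absurd (sub_eq_zero.1 h0) htt
      · exact h0
    have hb0 : b.coord 0 (Φ g ⟨q, hq⟩) = 0 := by rw [hb1, mul_zero, add_zero] at e1; exact e1
    have hz : Φ g ⟨q, hq⟩ = 0 := by
      apply b.ext_elem
      intro i
      fin_cases i
      · simpa using hb0
      · simpa using hb1
    exact (mulQ_eq_zero_iff K (show 3 + 2 = 5 by norm_num) V g ⟨q, hq⟩).1 hz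
  -- choose a good parameter
  have hgood : ∃ t : K, ∀ g' ∈ F, ∀ c : K, (γ t).1 ≠ c • g' := by
    by_contra hcon
    push Not at hcon
    choose f hfF c hc using hcon
    haveI : Infinite K := inferInstance
    obtain ⟨t, t', htt, hff⟩ := Finite.exists_ne_map_eq_of_infinite
      (fun t : K => (⟨f t, hfF t⟩ : (F : Set (MvPolynomial (Fin 2) K))))
    have hff' : f t = f t' := congrArg Subtype.val hff
    have hγt0 : (γ t).1 ≠ 0 := fun h => hγ0 t (Subtype.ext h)
    have hγt'0 : (γ t').1 ≠ 0 := fun h => hγ0 t' (Subtype.ext h)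
    have hct : c t ≠ 0 := by
      intro h0; apply hγt0; rw [hc t, h0, zero_smul]
    have hct' : c t' ≠ 0 := by
      intro h0; apply hγt'0; rw [hc t', h0, zero_smul]
    have hrel : γ t = (c t * (c t')⁻¹) • γ t' := by
      apply Subtype.ext
      show (γ t).1 = (c t * (c t')⁻¹) • (γ t').1
      rw [hc t, hc t', hff', smul_smul, mul_assoc, inv_mul_cancel₀ hct', mul_one]
    have hkill' : ∀ q : homogeneousSubmodule (Fin 2) K 2, ℓ t' (Φ (γ t) q) = 0 := by
      intro q
      rw [hrel, map_smul, LinearMap.smul_apply, map_smul, hγ t' q, smul_zero]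
    exact no_full K V hdim hsep (γ t).1 (γ t).2 hγt0 (hboth t t' (γ t) htt (hγ t) hkill')
  obtain ⟨t, ht⟩ := hgood
  have hg0 : (γ t).1 ≠ 0 := fun h => hγ0 t (Subtype.ext h)
  refine ⟨(γ t).1, (γ t).2, hg0, ?_, ht⟩
  -- the dimension estimate
  let ψ : homogeneousSubmodule (Fin 2) K 2 →ₗ[K] K := (b.coord 1).comp (Φ (γ t))
  have hψker : 2 ≤ finrank K (LinearMap.ker ψ) := by
    have hrn := LinearMap.finrank_range_add_finrank_ker ψ
    rw [finrank_homog] at hrn
    have hle : finrank K (LinearMap.range ψ) ≤ 1 := by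
      have := Submodule.finrank_le (LinearMap.range ψ)
      rwa [Module.finrank_self] at this
    omega
  set N : Submodule K (MvPolynomial (Fin 2) K) := (LinearMap.ker ψ).map (mulFrom K 2 (γ t).1) with hN
  have hNrank : finrank K N = finrank K (LinearMap.ker ψ) :=
    (LinearEquiv.finrank_eq (Submodule.equivMapOfInjective _ (mulFrom_injective K 2 hg0) _)).symm
  have hNle : N ≤ V ⊓ (homogeneousSubmodule (Fin 2) K 2).map (LinearMap.mulLeft K (γ t).1) := by
    rintro _ ⟨q, hq, rfl⟩
    have hq1 : b.coord 1 (Φ (γ t) q) = 0 := LinearMap.mem_ker.1 hq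
    have hq0 : b.coord 0 (Φ (γ t) q) = 0 := by
      have := hγ t q
      simp only [ℓ, LinearMap.add_apply, LinearMap.smul_apply, smul_eq_mul] at this
      rw [hq1, mul_zero, add_zero] at this
      exact this
    have hz : Φ (γ t) q = 0 := by
      apply b.ext_elem
      intro i
      fin_cases i
      · simpa using hq0
      · simpa using hq1
    refine ⟨(mulQ_eq_zero_iff K (show 3 + 2 = 5 by norm_num) V (γ t) q).1 hz, ?_⟩
    exact ⟨q.1, q.2, rfl⟩
  haveI : Module.Finite K ↥(V ⊓ (homogeneousSubmodule (Fin 2) K 2).map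
      (LinearMap.mulLeft K (γ t).1)) := Submodule.finiteDimensional_inf_left V _
  have := Submodule.finrank_mono hNle
  omega

end Groth.Agent.R2.H98.Trisec
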