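import Mathlib
import Groth.Prelude.Def_Coh
import Groth.Prelude.Def_Pic
import Groth.Prelude.Def_CohB1
import Groth.Prelude.Def_CurvBase
import Groth.Agent.R2.H98CurveH0
import Groth.Agent.Lib.Helper23SecTw6
import Groth.Agent.Lib.Helper23SecTw9

/-!
# `h^0(L^m) ≤ h^0((L ⊗ E)^m)` for an effective `E` (helper98)

`X` integral and proper over a field `k` (against `HFin k X`), `L`, `E` invertible, `s` a nonzero
section of `E`.  Multiplication by `s^{⊗ m}` is a monomorphism `L^m ⟶ L^m ⊗ E^m ≅ (L ⊗ E)^m`, and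
`H^0` is left exact.
-/

set_option autoImplicit false
set_option linter.style.haveILetI false
universe u

open CategoryTheory CategoryTheory.Limits AlgebraicGeometry TopologicalSpace Opposite

namespace Groth.Agent.R2.H98.VolMono

open Groth.Agent.Lib.Helper23.SecTw Groth.Agent.R2.H98.CurveGen Groth.Agent.R2.H98.CurveH0
  Groth.Agent.R2.H62.CurveCore Groth.Agent.R2.H62.CurveInv Groth.Agent.R2.H62.CohLES

variable {k : Type u} [Field k] {X : Scheme.{u}} [X.Over (Spec (CommRingCat.of k))] [IsIntegral X]
  [IsProper (X ↘ Spec (CommRingCat.of k))]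

/-- a positive tensor power of a nonzero section of an invertible module on an integral scheme is
nonzero. -/
theorem powHom_ne_zero {E : X.Modules} (hE : PicF.IsInvertible E) (s : Coh.structureModule X ⟶ E)
    (hs : s ≠ 0) (m : ℕ) (hm : 0 < m) : SecTwist.powHom s m ≠ 0 := by
  intro h0
  have h1 := genLocus_powHom hE s m hm
  rw [h0, genLocus_zero _ (isInvertible_tensorPow hE m)] at h1
  exact genLocus_ne_bot hE s hs h1.symm

/-- `h^0(L^m) ≤ h^0((L ⊗ E)^m)` when `E` has a nonzero section. -/
theorem finrank_H0_tensorPow_le (hfin : HFin k X) {L E : X.Modules} (hL : PicF.IsInvertible L)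
    (hE : PicF.IsInvertible E) (s : Coh.structureModule X ⟶ E) (hs : s ≠ 0) (m : ℕ) :
    Module.finrank k (Coh.HH X (CohB1.tensorPow L m) 0) ≤
      Module.finrank k (Coh.HH X (CohB1.tensorPow (CohB1.tensorMod L E) m) 0) := by
  rcases Nat.eq_zero_or_pos m with rfl | hm
  · exact le_refl _
  have hLm := isInvertible_tensorPow hL m
  have hEm := isInvertible_tensorPow hE m
  have hLEm := isInvertible_tensorMod hLm hEm
  have hσ := powHom_ne_zero hE s hs m hm
  have hφ : mulSec (CohB1.tensorPow L m) (SecTwist.powHom s m) ≠ 0 :=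
    mulSec_ne_zero hLm hEm _ hσ
  haveI : Mono (mulSec (CohB1.tensorPow L m) (SecTwist.powHom s m)) :=
    mono_of_ne_zero hLm hLEm _ hφ
  have hinj : Function.Injective
      (HHmapA k (mulSec (CohB1.tensorPow L m) (SecTwist.powHom s m)) 0) :=
    Groth.Agent.R2.H62.CohLES.HHmap_f_zero_injective
      (shortExact_cokernel (mulSec (CohB1.tensorPow L m) (SecTwist.powHom s m)))
  haveI : Module.Finite k
      (Coh.HH X (CohB1.tensorMod (CohB1.tensorPow L m) (CohB1.tensorPow E m)) 0) :=
    hfin _ (isCoh_of_isInvertible hLEm) 0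
  obtain ⟨ι⟩ := nonempty_tensorPow_tensorMod_iso L E hL hE m
  rw [← finrank_HH_eq_of_iso k ι 0]
  exact LinearMap.finrank_le_finrank_of_injective hinj

end Groth.Agent.R2.H98.VolMono
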