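import Mathlib
import Groth.Prelude.Def_DCoh2
import Groth.Agent.Lib.Helper2RelTildeExact

/-!
# Quasi-isomorphisms of complexes of `O_X`-modules are detected on sections over a basis (helper99)

* `quasiIso_iff_acyclic_mappingCone`
* `secAb X U` : sections over `U` as an additive functor to abelian groups
* `exactAt_of_basis`, `quasiIso_of_basis`
-/

set_option autoImplicit false
universe u
open CategoryTheory CategoryTheory.Limits AlgebraicGeometry TopologicalSpace Opposite

namespace Groth.Agent.R2.H99.AffPush

section Abstract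

variable {C : Type*} [Category C] [Abelian C]

theorem quasiIso_iff_acyclic_mappingCone {K L : CochainComplex C ℤ} (f : K ⟶ L) :
    QuasiIso f ↔ (CochainComplex.mappingCone f).Acyclic := by
  rw [← HomotopyCategory.quotient_obj_mem_subcategoryAcyclic_iff_acyclic,
    ← HomologicalComplex.mem_quasiIso_iff, ← HomotopyCategory.quotient_map_mem_quasiIso_iff,
    HomotopyCategory.quasiIso_eq_trW_subcategoryAcyclic]
  exact (HomotopyCategory.subcategoryAcyclic C).trW_iff_of_distinguished _
    (HomotopyCategory.mappingCone_triangleh_distinguished f)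

lemma exactAt_of_iso {K L : CochainComplex C ℤ} (e : K ≅ L)
    (n : ℤ) (h : K.ExactAt n) : L.ExactAt n := by
  rw [HomologicalComplex.exactAt_iff_isZero_homology] at h ⊢
  exact h.of_iso ((HomologicalComplex.homologyFunctor _ _ n).mapIso e.symm)

end Abstract

variable {X : Scheme.{u}}

/-- sections over an open subset, with values in abelian groups -/
noncomputable def secAb (X : Scheme.{u}) (U : X.Opens) : X.Modules ⥤ AddCommGrpCat.{u} :=
  Scheme.Modules.toPresheaf X ⋙ (evaluation _ _).obj (op U)

instance (U : X.Opens) : (secAb X U).Additive where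
  map_add := by intros; rfl

lemma secAb_map (U : X.Opens) {M N : X.Modules} (φ : M ⟶ N) :
    (secAb X U).map φ = φ.app U := rfl

/-- exactness in one degree is detected on sections over a basis -/
theorem exactAt_of_basis (C : CochainComplex X.Modules ℤ) (n : ℤ) (𝔅 : Set X.Opens)
    (hB : Opens.IsBasis 𝔅)
    (h : ∀ U ∈ 𝔅, (((secAb X U).mapHomologicalComplex (ComplexShape.up ℤ)).obj C).ExactAt n) :
    C.ExactAt n := by
  rw [HomologicalComplex.exactAt_iff]
  apply Groth.Agent.Lib.Helper2.RelTildeExact.exact_of_locally_exact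
  intro V s hs x hx
  obtain ⟨B, hB𝔅, hxB, hBV⟩ := Opens.isBasis_iff_nbhd.1 hB hx
  refine ⟨B, hBV, hxB, ?_⟩
  have hex := h B hB𝔅
  rw [HomologicalComplex.exactAt_iff, ShortComplex.ab_exact_iff] at hex
  have hs' : ((C.sc n).g.app B) ((C.sc n).X₂.presheaf.map (homOfLE hBV).op s) = 0 := by
    rw [Groth.Agent.Lib.Helper2.ModExact.app_map (C.sc n).g (homOfLE hBV) s, hs, map_zero]
  obtain ⟨t, ht⟩ := hex _ hs'
  exact ⟨t, ht⟩

/-- quasi-isomorphisms are detected on sections over a basis -/
theorem quasiIso_of_basis {F G : CochainComplex X.Modules ℤ} (g : F ⟶ G) (𝔅 : Set X.Opens)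
    (hB : Opens.IsBasis 𝔅)
    (h : ∀ U ∈ 𝔅, QuasiIso (((secAb X U).mapHomologicalComplex (ComplexShape.up ℤ)).map g)) :
    QuasiIso g := by
  rw [quasiIso_iff_acyclic_mappingCone]
  intro n
  apply exactAt_of_basis _ n 𝔅 hB
  intro U hU
  have h1 := (quasiIso_iff_acyclic_mappingCone _).1 (h U hU) n
  exact exactAt_of_iso
    (CochainComplex.mappingCone.mapHomologicalComplexIso g (secAb X U)).symm n h1

end Groth.Agent.R2.H99.AffPush
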