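import Groth.Agent.R2.H99AffPush8
import Groth.Agent.Lib.Helper17Hyp19
import Groth.Agent.Lib.Helper23ModLocal

/-!
# `Rf_*` reflects isomorphisms on `D_QCoh` for affine `f` (helper99)
-/

set_option autoImplicit false
set_option linter.style.haveILetI false
universe u
open CategoryTheory CategoryTheory.Limits AlgebraicGeometry TopologicalSpace Opposite
attribute [local instance] HasDerivedCategory.standard

namespace Groth.Agent.R2.H99.AffPush

open Groth.Agent.R2.H4.Perf Groth.Agent.R2.H99.PCNoeth Groth.Agent.R2.H5.PCTilde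
  Groth.Agent.R2.H5.PerfTilde Groth.Agent.Lib.Helper17.Hyp

variable {X Y : Scheme.{u}}

/-- isomorphisms in `D(O_X)` are detected on a cover by open immersions -/
theorem isIso_of_restrictD_cover {E F : DCoh.D X} (α : E ⟶ F)
    (h : ∀ x : X, ∃ (U : Scheme.{u}) (j : U ⟶ X) (_ : IsOpenImmersion j) (y : U), j y = x ∧
      IsIso ((DCoh.restrictD j).map α)) : IsIso α := by
  rw [DerivedCategory.isIso_iff]
  intro n
  choose U j hj y hy hα using h
  haveI := hj
  refine Groth.Agent.Lib.Helper23.ModLocal.isIso_of_isIso_restrict _ U j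
    (fun x => ⟨x, y x, hy x⟩) (fun x => ?_)
  haveI := hα x
  exact (isIso_homology_map_iff (Scheme.Modules.restrictFunctor (j x)) α n).1 inferInstance

/-- restriction of scalars reflects isomorphisms on derived categories -/
theorem isIso_of_isIso_restrictD {A B : CommRingCat.{u}} (φ : A ⟶ B)
    {M N : DerivedCategory (ModuleCat.{u} B)} (a : M ⟶ N)
    (h : IsIso ((ModuleCat.restrictScalars.{u} φ.hom).mapDerivedCategory.map a)) : IsIso a := by
  rw [DerivedCategory.isIso_iff]
  intro n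
  haveI := h
  have h1 := (isIso_homology_map_iff (ModuleCat.restrictScalars.{u} φ.hom) a n).1 inferInstance
  exact isIso_of_reflects_iso _ (ModuleCat.restrictScalars.{u} φ.hom)

attribute [local instance] Groth.Agent.R2.H28.HasRpush.hasRpush

/-- on an affine chart -/
theorem chart_reflects (f : X ⟶ Y) [IsAffineHom f] {W : Y.Opens} (hW : IsAffineOpen W)
    {E F : DCoh.D X} (hE : DCoh.IsQCohD E) (hF : DCoh.IsQCohD F) (α : E ⟶ F)
    (hα : IsIso ((DCoh.Rpush f).map α)) :
    IsIso ((DCoh.restrictD (hW.preimage f).fromSpec).map α) := by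
  obtain ⟨M₁, ⟨e₁⟩, -⟩ := exists_affine_model E hE (hW.preimage f)
  obtain ⟨M₂, ⟨e₂⟩, -⟩ := exists_affine_model F hF (hW.preimage f)
  obtain ⟨bridge⟩ := nonempty_rpushRestrictSpecIso f hW
  -- the map of modules
  let ff := tildeDFullyFaithful Γ(X, f ⁻¹ᵁ W)
  let a : M₁ ⟶ M₂ := ff.preimage
    (e₁.hom ≫ (DCoh.restrictD (hW.preimage f).fromSpec).map α ≫ e₂.inv)
  have ha : (DCoh.tildeD Γ(X, f ⁻¹ᵁ W)).map a =
      e₁.hom ≫ (DCoh.restrictD (hW.preimage f).fromSpec).map α ≫ e₂.inv := ff.map_preimage _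
  -- `R(Spec φ)_*` of the restriction of `α` is an isomorphism
  have h1 : IsIso ((DCoh.Rpush (Spec.map (f.app W))).map
      ((DCoh.restrictD (hW.preimage f).fromSpec).map α)) := by
    have nat := bridge.hom.naturality α
    haveI := hα
    haveI : IsIso ((DCoh.Rpush f ⋙ DCoh.restrictD hW.fromSpec).map α) :=
      inferInstanceAs (IsIso ((DCoh.restrictD hW.fromSpec).map ((DCoh.Rpush f).map α)))
    have h2 : IsIso (bridge.hom.app E ≫
        (DCoh.restrictD (hW.preimage f).fromSpec ⋙ DCoh.Rpush (Spec.map (f.app W))).map α) := by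
      rw [← nat]; infer_instance
    exact IsIso.of_isIso_comp_left (bridge.hom.app E)
      ((DCoh.restrictD (hW.preimage f).fromSpec ⋙ DCoh.Rpush (Spec.map (f.app W))).map α)
  -- hence `R(Spec φ)_* (a~)` is an isomorphism
  have h3 : IsIso ((DCoh.Rpush (Spec.map (f.app W))).map ((DCoh.tildeD Γ(X, f ⁻¹ᵁ W)).map a)) := by
    rw [ha]
    haveI := h1
    simp only [Functor.map_comp]
    infer_instance
  -- hence `(a_A)~` is an isomorphism
  have h4 : IsIso ((DCoh.tildeD Γ(Y, W)).map
      ((ModuleCat.restrictScalars.{u} (f.app W).hom).mapDerivedCategory.map a)) := by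
    have nat := (tildeDRpushIso (f.app W)).hom.naturality a
    haveI := h3
    haveI : IsIso ((DCoh.tildeD Γ(X, f ⁻¹ᵁ W) ⋙ DCoh.Rpush (Spec.map (f.app W))).map a) :=
      inferInstanceAs (IsIso ((DCoh.Rpush (Spec.map (f.app W))).map
        ((DCoh.tildeD Γ(X, f ⁻¹ᵁ W)).map a)))
    have h5 : IsIso ((tildeDRpushIso (f.app W)).hom.app M₁ ≫
        ((ModuleCat.restrictScalars.{u} (f.app W).hom).mapDerivedCategory ⋙
          DCoh.tildeD Γ(Y, W)).map a) := by
      rw [← nat]; infer_instance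
    exact IsIso.of_isIso_comp_left ((tildeDRpushIso (f.app W)).hom.app M₁)
      (((ModuleCat.restrictScalars.{u} (f.app W).hom).mapDerivedCategory ⋙
          DCoh.tildeD Γ(Y, W)).map a)
  have h6 : IsIso ((ModuleCat.restrictScalars.{u} (f.app W).hom).mapDerivedCategory.map a) := by
    haveI := h4
    exact (tildeDFullyFaithful Γ(Y, W)).isIso_of_isIso_map _
  haveI : IsIso a := isIso_of_isIso_restrictD (f.app W) a h6
  have h7 : (DCoh.restrictD (hW.preimage f).fromSpec).map α =
      e₁.inv ≫ (DCoh.tildeD Γ(X, f ⁻¹ᵁ W)).map a ≫ e₂.hom := by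
    rw [ha]; simp
  rw [h7]
  infer_instance

/-- `Rf_*` reflects isomorphisms between objects of `D_QCoh` for `f` affine -/
theorem isIso_of_isIso_rpush_of_affine (f : X ⟶ Y) [IsAffineHom f]
    {E F : DCoh.D X} (hE : DCoh.IsQCohD E) (hF : DCoh.IsQCohD F) (α : E ⟶ F)
    (hα : IsIso ((DCoh.Rpush f).map α)) : IsIso α := by
  apply isIso_of_restrictD_cover
  intro x
  obtain ⟨_, ⟨W, hW0, rfl⟩, hyW, -⟩ :=
    Y.isBasis_affineOpens.exists_subset_of_mem_open (Set.mem_univ (f x)) isOpen_univ
  have hW : IsAffineOpen W := hW0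
  obtain ⟨pt, hpt⟩ : x ∈ Set.range (hW.preimage f).fromSpec := by
    rw [(hW.preimage f).range_fromSpec]; exact hyW
  exact ⟨_, (hW.preimage f).fromSpec, inferInstance, pt, hpt, chart_reflects f hW hE hF α hα⟩

end Groth.Agent.R2.H99.AffPush
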