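import Groth.Agent.R2.H99AffPush1
import Groth.Agent.R2.H5DQCohAff4
import Groth.Agent.R2.H5PerfTilde
import Groth.Agent.R2.H28DerBase

/-!
# Complexes of quasi-coherent modules on `Spec R` are acyclic for global sections (helper99)
-/

set_option autoImplicit false
set_option linter.style.haveILetI false
universe u
open CategoryTheory CategoryTheory.Limits AlgebraicGeometry TopologicalSpace Opposite
attribute [local instance] HasDerivedCategory.standard

namespace Groth.Agent.R2.H99.AffPush

open Groth.Agent.R2.H5.DQCohAff Groth.Agent.R2.H5.PerfTilde Groth.Agent.Lib.Helper17.KInj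
  Groth.Agent.Lib.Helper17 Groth.Agent.S1055

section Spec

variable (R : CommRingCat.{u}) [PreservesFiniteLimits (tilde.functor R)]

lemma adjD_unit_fac (N : CochainComplex (ModuleCat.{u} R) ℤ) :
    (adjD R).unit.app (DerivedCategory.Q.obj N) ≫
        (RΓd R).map ((tilde.functor R).mapDerivedCategoryFactors.hom.app N) =
      DerivedCategory.Q.map ((SerreLoc.adjHC tilde.adjunction (ComplexShape.up ℤ)).unit.app N) ≫
        (β R).app ((TC R).obj N) := by
  haveI := isGrothendieckAbelian_modules (Spec (CommRingCat.of R))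
  haveI := isRightDerivedFunctor_comp_mapDerivedCategory (tilde.functor R) (ΓR R)
    tilde.adjunction (RΓd R) (β R)
  exact Adjunction.derivedη_fac_app (SerreLoc.adjHC tilde.adjunction (ComplexShape.up ℤ))
    (HomologicalComplex.quasiIso (ModuleCat.{u} R) (ComplexShape.up ℤ))
    (tilde.functor R).mapDerivedCategoryFactors.hom (β R) N

/-- the unit of `RΓ` is invertible on the tilde of a complex of modules -/
lemma isIso_β_tilde (N : CochainComplex (ModuleCat.{u} R) ℤ) :
    IsIso ((β R).app ((TC R).obj N)) := by
  have h := adjD_unit_fac R N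
  haveI : IsIso ((adjD R).unit.app (DerivedCategory.Q.obj N)) :=
    ((tildeD_equivalence R).1 _).2
  haveI : IsIso (DerivedCategory.Q.map
      ((SerreLoc.adjHC (tilde.adjunction (R := R)) (ComplexShape.up ℤ)).unit.app N)) := inferInstance
  have h2 : IsIso (DerivedCategory.Q.map
      ((SerreLoc.adjHC (tilde.adjunction (R := R)) (ComplexShape.up ℤ)).unit.app N) ≫
        (β R).app ((TC R).obj N)) := by
    rw [← h]; infer_instance
  exact IsIso.of_isIso_comp_left (DerivedCategory.Q.map
      ((SerreLoc.adjHC (tilde.adjunction (R := R)) (ComplexShape.up ℤ)).unit.app N)) _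

/-- the unit of `RΓ` is invertible on complexes with quasi-coherent terms -/
lemma isIso_β_of_qcoh (G : CochainComplex (Spec (CommRingCat.of R)).Modules ℤ)
    (hG : ∀ i, (G.X i).IsQuasicoherent) : IsIso ((β R).app G) := by
  haveI := isIso_β_tilde R ((ΓC R).obj G)
  have nat := (β R).naturality (tildeΓCIso R G hG).hom
  have h2 : IsIso (((ΓR R).mapHomologicalComplex (ComplexShape.up ℤ) ⋙ DerivedCategory.Q).map
      (tildeΓCIso R G hG).hom ≫ (β R).app G) := by
    rw [nat]; infer_instance
  exact IsIso.of_isIso_comp_left (((ΓR R).mapHomologicalComplex (ComplexShape.up ℤ) ⋙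
    DerivedCategory.Q).map (tildeΓCIso R G hG).hom) _

/-- global sections of a K-injective resolution of a complex with quasi-coherent terms -/
theorem quasiIso_ΓR_of_qcoh {G J : CochainComplex (Spec (CommRingCat.of R)).Modules ℤ}
    (s : G ⟶ J) [QuasiIso s] [J.IsKInjective] (hG : ∀ i, (G.X i).IsQuasicoherent) :
    QuasiIso (((ΓR R).mapHomologicalComplex (ComplexShape.up ℤ)).map s) := by
  haveI := isGrothendieckAbelian_modules (Spec (CommRingCat.of R))
  haveI := isIso_β_of_qcoh R G hG
  haveI := isIso_app_of_isKInjective (ΓR R) (RΓd R) (β R) J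
  have nat := (β R).naturality s
  haveI : IsIso (DerivedCategory.Q.map s) := by
    rw [DerivedCategory.isIso_Q_map_iff_quasiIso]; infer_instance
  have h2 : IsIso (((ΓR R).mapHomologicalComplex (ComplexShape.up ℤ) ⋙ DerivedCategory.Q).map s ≫
      (β R).app J) := by
    rw [nat]
    haveI : IsIso ((DerivedCategory.Q ⋙ RΓd R).map s) :=
      inferInstanceAs (IsIso ((RΓd R).map (DerivedCategory.Q.map s)))
    infer_instance
  have h3 : IsIso (((ΓR R).mapHomologicalComplex (ComplexShape.up ℤ) ⋙ DerivedCategory.Q).map s) :=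
    IsIso.of_isIso_comp_right _ ((β R).app J)
  exact (DerivedCategory.isIso_Q_map_iff_quasiIso _ _).1 h3

end Spec

end Groth.Agent.R2.H99.AffPush
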