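import Groth.Agent.R2.H99AffPush2
import Groth.Agent.S9498

/-!
# Complexes of quasi-coherent modules on an affine scheme are acyclic for global sections;
sections of a K-injective resolution over affine opens (helper99)
-/

set_option autoImplicit false
set_option linter.style.haveILetI false
universe u
open CategoryTheory CategoryTheory.Limits AlgebraicGeometry TopologicalSpace Opposite
attribute [local instance] HasDerivedCategory.standard

namespace Groth.Agent.R2.H99.AffPush

open Groth.Agent.R2.H5.DQCohAff Groth.Agent.R2.H5.PerfTilde Groth.Agent.Lib.Helper17.KInj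
  Groth.Agent.Lib.Helper17 Groth.Agent.S1055 Groth.Agent.R2.H28.DerBase

section Generic

variable {A B C : Type*} [Category A] [Category B] [Category C] [Abelian A] [Abelian B] [Abelian C]

lemma quasiIso_map_of_natIso {Ψ Ψ' : A ⥤ B} [Ψ.Additive] [Ψ'.Additive] (e : Ψ ≅ Ψ')
    {K L : CochainComplex A ℤ} (s : K ⟶ L)
    (h : QuasiIso ((Ψ.mapHomologicalComplex (ComplexShape.up ℤ)).map s)) :
    QuasiIso ((Ψ'.mapHomologicalComplex (ComplexShape.up ℤ)).map s) := by
  refine (_root_.quasiIso_iff_of_arrow_mk_iso _ _ (Arrow.isoMk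
    ((NatIso.mapHomologicalComplex e (ComplexShape.up ℤ)).app K)
    ((NatIso.mapHomologicalComplex e (ComplexShape.up ℤ)).app L) ?_)).1 h
  exact ((NatIso.mapHomologicalComplex e (ComplexShape.up ℤ)).hom.naturality s).symm

lemma quasiIso_map_comp (Ψ₁ : A ⥤ B) (Ψ₂ : B ⥤ C) [Ψ₁.Additive] [Ψ₂.Additive]
    [Ψ₂.PreservesHomology] {K L : CochainComplex A ℤ} (s : K ⟶ L)
    (h : QuasiIso ((Ψ₁.mapHomologicalComplex (ComplexShape.up ℤ)).map s)) :
    QuasiIso (((Ψ₁ ⋙ Ψ₂).mapHomologicalComplex (ComplexShape.up ℤ)).map s) := by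
  have h2 : QuasiIso ((Ψ₂.mapHomologicalComplex (ComplexShape.up ℤ)).map
      ((Ψ₁.mapHomologicalComplex (ComplexShape.up ℤ)).map s)) := inferInstance
  exact h2

end Generic

section Equiv

variable {U V : Scheme.{u}} (e : U ≅ V)

/-- the direct image along an isomorphism of schemes is an equivalence -/
noncomputable def pushEquiv : U.Modules ≌ V.Modules :=
  CategoryTheory.Equivalence.mk (Scheme.Modules.pushforward e.hom) (Scheme.Modules.pushforward e.inv)
    ((Scheme.Modules.pushforwardId U).symm ≪≫
      Scheme.Modules.pushforwardCongr e.hom_inv_id.symm ≪≫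
      (Scheme.Modules.pushforwardComp e.hom e.inv).symm)
    (Scheme.Modules.pushforwardComp e.inv e.hom ≪≫
      Scheme.Modules.pushforwardCongr e.inv_hom_id ≪≫ Scheme.Modules.pushforwardId V)

instance : (Scheme.Modules.pushforward e.hom).IsEquivalence :=
  (pushEquiv e).isEquivalence_functor

/-- the direct image along an isomorphism is the restriction along the inverse -/
noncomputable def pushIsoRestrict :
    Scheme.Modules.pushforward e.hom ≅ Scheme.Modules.restrictFunctor e.inv :=
  Adjunction.leftAdjointUniq (pushEquiv e).toAdjunction (Scheme.Modules.restrictAdjunction e.inv)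

lemma isQuasicoherent_pushforward_iso (M : U.Modules) [M.IsQuasicoherent] :
    ((Scheme.Modules.pushforward e.hom).obj M).IsQuasicoherent :=
  (SheafOfModules.isQuasicoherent V.ringCatSheaf).prop_of_iso ((pushIsoRestrict e).app M).symm
    (inferInstanceAs ((Scheme.Modules.restrictFunctor e.inv).obj M).IsQuasicoherent)

end Equiv

section Aff

instance (R : CommRingCat.{u}) : PreservesFiniteLimits (tilde.functor R) :=
  (Groth.Agent.S9498.aux R).1

variable (U : Scheme.{u}) [IsAffine U]

/-- transport to `Spec Γ(U, ⊤)` -/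
noncomputable abbrev pAff : U.Modules ⥤ (Spec (CommRingCat.of Γ(U, ⊤))).Modules :=
  Scheme.Modules.pushforward U.isoSpec.hom

instance : (pAff U).IsEquivalence :=
  inferInstanceAs (Scheme.Modules.pushforward U.isoSpec.hom).IsEquivalence

noncomputable def gammaAbIso : DCoh.gammaAb U ≅
    pAff U ⋙ ΓR Γ(U, ⊤) ⋙ forget₂ (ModuleCat.{u} Γ(U, ⊤)) AddCommGrpCat.{u} :=
  NatIso.ofComponents (fun M => Iso.refl _) (fun f => by rfl)

/-- complexes of quasi-coherent modules on an affine scheme are acyclic for global sections -/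
theorem quasiIso_gammaAb_of_qcoh {F J : CochainComplex U.Modules ℤ} (s : F ⟶ J) [QuasiIso s]
    [J.IsKInjective] (hF : ∀ i, (F.X i).IsQuasicoherent) :
    QuasiIso (((DCoh.gammaAb U).mapHomologicalComplex (ComplexShape.up ℤ)).map s) := by
  haveI : QuasiIso (((pAff U).mapHomologicalComplex (ComplexShape.up ℤ)).map s) := inferInstance
  haveI : CochainComplex.IsKInjective (((pAff U).mapHomologicalComplex (ComplexShape.up ℤ)).obj J) :=
    isKInjective_pushforward_open U.isoSpec.hom J
  have h1 := quasiIso_ΓR_of_qcoh Γ(U, ⊤) (((pAff U).mapHomologicalComplex (ComplexShape.up ℤ)).map s)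
    (fun i => haveI := hF i; isQuasicoherent_pushforward_iso U.isoSpec (F.X i))
  have h2 : QuasiIso (((pAff U ⋙ ΓR Γ(U, ⊤)).mapHomologicalComplex (ComplexShape.up ℤ)).map s) := h1
  have h3 := quasiIso_map_comp (pAff U ⋙ ΓR Γ(U, ⊤))
    (forget₂ (ModuleCat.{u} Γ(U, ⊤)) AddCommGrpCat.{u}) s h2
  exact quasiIso_map_of_natIso (gammaAbIso U).symm s h3

end Aff

section Open

variable {X : Scheme.{u}}

/-- sections over `V` are the global sections of the restriction to `V` -/
noncomputable def secAbRestrictIso (V : X.Opens) :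
    secAb X V ≅ Scheme.Modules.restrictFunctor V.ι ⋙ DCoh.gammaAb (V : Scheme.{u}) :=
  NatIso.ofComponents
    (fun M => M.presheaf.mapIso (eqToIso (by simp : op V = op (V.ι ''ᵁ ⊤))))
    (fun {M N} φ => by
      exact ((Scheme.Modules.Hom.mapPresheaf φ).naturality
        (eqToHom (by simp : op V = op (V.ι ''ᵁ ⊤)))).symm)

/-- sections over an affine open of a K-injective resolution of a complex with quasi-coherent terms -/
theorem quasiIso_secAb_of_qcoh {V : X.Opens} (hV : IsAffineOpen V)
    {F I : CochainComplex X.Modules ℤ} (s : F ⟶ I) [QuasiIso s] [I.IsKInjective]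
    (hF : ∀ i, (F.X i).IsQuasicoherent) :
    QuasiIso (((secAb X V).mapHomologicalComplex (ComplexShape.up ℤ)).map s) := by
  haveI : IsAffine (V : Scheme.{u}) := hV
  haveI := isKInjective_restrict V I
  haveI : QuasiIso ((DCoh.restrictCx V).map s) := inferInstance
  have h1 := quasiIso_gammaAb_of_qcoh (V : Scheme.{u}) ((DCoh.restrictCx V).map s)
    (fun i => haveI := hF i
      inferInstanceAs ((Scheme.Modules.restrictFunctor V.ι).obj (F.X i)).IsQuasicoherent)
  have h2 : QuasiIso (((Scheme.Modules.restrictFunctor V.ι ⋙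
      DCoh.gammaAb (V : Scheme.{u})).mapHomologicalComplex (ComplexShape.up ℤ)).map s) := h1
  exact quasiIso_map_of_natIso (secAbRestrictIso V).symm s h2

end Open

end Groth.Agent.R2.H99.AffPush
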