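import Groth.Agent.R2.H99AffPush3

/-!
# For an affine morphism `f` and a complex `F` of quasi-coherent modules, `f_* F ⟶ Rf_* F` is an
isomorphism (helper99)
-/

set_option autoImplicit false
set_option linter.style.haveILetI false
universe u
open CategoryTheory CategoryTheory.Limits AlgebraicGeometry TopologicalSpace Opposite
attribute [local instance] HasDerivedCategory.standard

namespace Groth.Agent.R2.H99.AffPush

open Groth.Agent.R2.H5.DQCohAff Groth.Agent.Lib.Helper17.KInj
  Groth.Agent.Lib.Helper17 Groth.Agent.R2.H28.DerBase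

section Transfer

variable {A : Type*} [Category A] [Abelian A] {B : Type*} [Category B] [Abelian B]
  [HasDerivedCategory A] [HasDerivedCategory B]
  (G : B ⥤ A) [G.Additive]
  (RG : DerivedCategory B ⥤ DerivedCategory A)
  (βK : G.mapHomotopyCategory (ComplexShape.up ℤ) ⋙ DerivedCategory.Qh ⟶
    DerivedCategory.Qh ⋙ RG)

/-- the unit on the homotopy category is invertible at the image of a complex as soon as the unit on
complexes is (copied from helper28's S11124). -/
lemma isIso_app_quotient_of_isIso_unitOfK (M : CochainComplex B ℤ)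
    (h : IsIso ((unitOfK G RG βK).app M)) :
    IsIso (βK.app ((HomotopyCategory.quotient B (ComplexShape.up ℤ)).obj M)) := by
  have e : (unitOfK G RG βK).app M = (isoF₀ G).inv.app M ≫
      βK.app ((HomotopyCategory.quotient B (ComplexShape.up ℤ)).obj M) ≫
      RG.map ((DerivedCategory.quotientCompQhIso B).hom.app M) := by
    simp [unitOfK, γOfK]
  rw [e] at h
  haveI := h
  haveI h2 : IsIso (βK.app ((HomotopyCategory.quotient B (ComplexShape.up ℤ)).obj M) ≫
      RG.map ((DerivedCategory.quotientCompQhIso B).hom.app M)) :=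
    IsIso.of_isIso_comp_left ((isoF₀ G).inv.app M) _
  exact IsIso.of_isIso_comp_right _ (RG.map ((DerivedCategory.quotientCompQhIso B).hom.app M))

end Transfer

variable {X S : Scheme.{u}}

/-- sections of the direct image -/
noncomputable def pushSecAbIso (f : X ⟶ S) (W : S.Opens) :
    Scheme.Modules.pushforward f ⋙ secAb S W ≅ secAb X (f ⁻¹ᵁ W) :=
  NatIso.ofComponents (fun M => Iso.refl _) (fun f => by rfl)

/-- the direct image along an affine morphism of a K-injective resolution of a complex with
quasi-coherent terms is a quasi-isomorphism -/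
theorem quasiIso_push_of_qcoh (f : X ⟶ S) [IsAffineHom f]
    {F I : CochainComplex X.Modules ℤ} (s : F ⟶ I) [QuasiIso s] [I.IsKInjective]
    (hF : ∀ i, (F.X i).IsQuasicoherent) :
    QuasiIso (((Scheme.Modules.pushforward f).mapHomologicalComplex (ComplexShape.up ℤ)).map s) := by
  refine quasiIso_of_basis _ S.affineOpens S.isBasis_affineOpens (fun W hW => ?_)
  have h1 := quasiIso_secAb_of_qcoh (hW.preimage f) s hF
  have h2 : QuasiIso (((Scheme.Modules.pushforward f ⋙ secAb S W).mapHomologicalComplex
      (ComplexShape.up ℤ)).map s) :=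
    quasiIso_map_of_natIso (pushSecAbIso f W).symm s h1
  exact h2

/-- `f_* F ⟶ Rf_* F` is an isomorphism for `f` affine and `F` a complex of quasi-coherent modules -/
theorem isIso_unitC_of_affine (f : X ⟶ S) [IsAffineHom f] [DCoh.HasRpush f]
    (F : CochainComplex X.Modules ℤ) (hF : ∀ i, (F.X i).IsQuasicoherent) :
    IsIso ((unitC f).app F) := by
  obtain ⟨I, s, hI, hs⟩ := exists_kInjective_resolution_modules X F
  haveI := hI
  haveI := hs
  haveI := Groth.Agent.R2.H28.DerBase.isGrothendieckAbelian_modules X
  haveI := quasiIso_push_of_qcoh f s hF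
  haveI := isIso_app_of_isKInjective (Scheme.Modules.pushforward f) (DCoh.Rpush f) (unitC f) I
  have nat := (unitC f).naturality s
  haveI : IsIso (DerivedCategory.Q.map s) := by
    rw [DerivedCategory.isIso_Q_map_iff_quasiIso]; infer_instance
  haveI : IsIso ((DerivedCategory.Q ⋙ DCoh.Rpush f).map s) :=
    inferInstanceAs (IsIso ((DCoh.Rpush f).map (DerivedCategory.Q.map s)))
  haveI : IsIso (((Scheme.Modules.pushforward f).mapHomologicalComplex (ComplexShape.up ℤ) ⋙
      DerivedCategory.Q).map s) := by
    change IsIso (DerivedCategory.Q.map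
      (((Scheme.Modules.pushforward f).mapHomologicalComplex (ComplexShape.up ℤ)).map s))
    rw [DerivedCategory.isIso_Q_map_iff_quasiIso]; infer_instance
  have h2 : IsIso ((unitC f).app F ≫ (DerivedCategory.Q ⋙ DCoh.Rpush f).map s) := by
    rw [← nat]; infer_instance
  exact IsIso.of_isIso_comp_right _ ((DerivedCategory.Q ⋙ DCoh.Rpush f).map s)

end Groth.Agent.R2.H99.AffPush
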