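import Groth.Agent.R2.H99AffPush4

/-!
# The direct image of `M~` along `Spec B ⟶ Spec A` is `(M_A)~` (helper99)
-/

set_option autoImplicit false
set_option linter.style.haveILetI false
universe u
open CategoryTheory CategoryTheory.Limits AlgebraicGeometry TopologicalSpace Opposite

namespace Groth.Agent.R2.H99.AffPush

variable {A B : CommRingCat.{u}} (φ : A ⟶ B)

/-- global sections of a direct image along `Spec B ⟶ Spec A` -/
noncomputable def pushΓIso :
    Scheme.Modules.pushforward (Spec.map φ) ⋙ moduleSpecΓFunctor (R := A) ≅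
      moduleSpecΓFunctor (R := B) ⋙ ModuleCat.restrictScalars φ.hom :=
  NatIso.ofComponents
    (fun N => (TopCat.Sheaf.forget _ _ ⋙ (evaluation _ _).obj (op ⊤)).mapIso
      ((pushforwardCompModulesSpecToSheafIso φ).app N))
    (fun {N N'} g => by
      have h := (pushforwardCompModulesSpecToSheafIso φ).hom.naturality g
      exact congrArg (fun k => (TopCat.Sheaf.forget _ _ ⋙ (evaluation _ _).obj (op ⊤)).map k) h)

/-- the direct image of `M~` is `(M_A)~`, naturally in `M` -/
noncomputable def tildePushIso :
    (tilde.functor B ⋙ Scheme.Modules.pushforward (Spec.map φ) :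
        ModuleCat.{u} B ⥤ (Spec (CommRingCat.of A)).Modules) ≅
      ModuleCat.restrictScalars.{u} φ.hom ⋙ tilde.functor A := by
  have e1 : (tilde.functor B ⋙ Scheme.Modules.pushforward (Spec.map φ)) ⋙
      (moduleSpecΓFunctor (R := A) ⋙ tilde.functor A) ≅
      tilde.functor B ⋙ Scheme.Modules.pushforward (Spec.map φ) := by
    haveI : IsIso (Functor.whiskerLeft (tilde.functor B ⋙ Scheme.Modules.pushforward (Spec.map φ))
        (Scheme.Modules.fromTildeΓNatTrans (R := A))) := by
      refine @NatIso.isIso_of_isIso_app _ _ _ _ _ _ _ (fun M => ?_)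
      exact isIso_fromTildeΓ_pushforward φ ((tilde.functor B).obj M)
    exact asIso (Functor.whiskerLeft (tilde.functor B ⋙ Scheme.Modules.pushforward (Spec.map φ))
        (Scheme.Modules.fromTildeΓNatTrans (R := A))) ≪≫ Functor.rightUnitor _
  have e2 : (tilde.functor B ⋙ Scheme.Modules.pushforward (Spec.map φ)) ⋙
      moduleSpecΓFunctor (R := A) ≅ ModuleCat.restrictScalars φ.hom :=
    Functor.associator _ _ _ ≪≫ Functor.isoWhiskerLeft (tilde.functor B) (pushΓIso φ) ≪≫
      (Functor.associator _ _ _).symm ≪≫
      Functor.isoWhiskerRight (tilde.toTildeΓNatIso (R := B)).symm _ ≪≫ Functor.leftUnitor _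
  exact e1.symm ≪≫ (Functor.associator _ _ _).symm ≪≫ Functor.isoWhiskerRight e2 (tilde.functor A)

end Groth.Agent.R2.H99.AffPush
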