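import Groth.Agent.R2.H99AffPush5
import Groth.Prelude.Def_DDual2

/-!
# `Rf_* (M~) ≅ (M_A)~` for `f : Spec B ⟶ Spec A`, naturally in `M ∈ D(B)` (helper99)
-/

set_option autoImplicit false
set_option linter.style.haveILetI false
universe u
open CategoryTheory CategoryTheory.Limits AlgebraicGeometry TopologicalSpace Opposite
attribute [local instance] HasDerivedCategory.standard

namespace Groth.Agent.R2.H99.AffPush

open Groth.Agent.R2.H28.DerBase Groth.Agent.S1055

variable {A B : CommRingCat.{u}} (φ : A ⟶ B)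

/-- termwise version of `tildePushIso` -/
noncomputable def tildePushCxIso :
    TC B ⋙
        (Scheme.Modules.pushforward (Spec.map φ)).mapHomologicalComplex
          (ComplexShape.up ℤ) ≅
      (ModuleCat.restrictScalars.{u} φ.hom).mapHomologicalComplex (ComplexShape.up ℤ) ⋙
        TC A :=
  (compCxIso (tilde.functor B)
      (Scheme.Modules.pushforward (Spec.map φ))).symm ≪≫
    NatIso.mapHomologicalComplex (tildePushIso φ) (ComplexShape.up ℤ) ≪≫
    compCxIso (ModuleCat.restrictScalars.{u} φ.hom) (tilde.functor A)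

variable [PreservesFiniteLimits (tilde.functor A)]
  [PreservesFiniteLimits (tilde.functor B)]
  [DCoh.HasRpush (Spec.map φ)]

/-- the unit of `Rf_*` is invertible on tildes of complexes -/
noncomputable def unitCTildeIso :
    TC B ⋙
        ((Scheme.Modules.pushforward (Spec.map φ)).mapHomologicalComplex
          (ComplexShape.up ℤ) ⋙ DerivedCategory.Q) ≅
      TC B ⋙ (DerivedCategory.Q ⋙ DCoh.Rpush (Spec.map φ)) :=
  haveI : IsIso (Functor.whiskerLeft (TC B)
      (unitC (Spec.map φ))) := by
    refine @NatIso.isIso_of_isIso_app _ _ _ _ _ _ _ (fun M => ?_)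
    exact isIso_unitC_of_affine (Spec.map φ) _ (fun i =>
      inferInstanceAs ((tilde.functor B).obj (M.X i)).IsQuasicoherent)
  asIso (Functor.whiskerLeft (TC B) (unitC (Spec.map φ)))

/-- `Rf_* (M~) ≅ (M_A)~`, naturally in `M ∈ D(B)` -/
noncomputable def tildeDRpushIso :
    DCoh.tildeD B ⋙ DCoh.Rpush (Spec.map φ) ≅
      (ModuleCat.restrictScalars.{u} φ.hom).mapDerivedCategory ⋙ DCoh.tildeD A :=
  letI _h₁ : Localization.Lifting DerivedCategory.Q
      (HomologicalComplex.quasiIso (ModuleCat.{u} B) (ComplexShape.up ℤ))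
      (TC B ⋙
        ((Scheme.Modules.pushforward (Spec.map φ)).mapHomologicalComplex
          (ComplexShape.up ℤ) ⋙ DerivedCategory.Q))
      (DCoh.tildeD B ⋙ DCoh.Rpush (Spec.map φ)) :=
    ⟨(Functor.associator _ _ _).symm ≪≫
      Functor.isoWhiskerRight (tilde.functor B).mapDerivedCategoryFactors _ ≪≫
      Functor.associator _ _ _ ≪≫ (unitCTildeIso φ).symm⟩
  letI _h₂ : Localization.Lifting DerivedCategory.Q
      (HomologicalComplex.quasiIso (ModuleCat.{u} B) (ComplexShape.up ℤ))
      ((ModuleCat.restrictScalars.{u} φ.hom).mapHomologicalComplex (ComplexShape.up ℤ) ⋙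
        (TC A ⋙ DerivedCategory.Q))
      ((ModuleCat.restrictScalars.{u} φ.hom).mapDerivedCategory ⋙ DCoh.tildeD A) :=
    ⟨(Functor.associator _ _ _).symm ≪≫
      Functor.isoWhiskerRight (ModuleCat.restrictScalars.{u} φ.hom).mapDerivedCategoryFactors _ ≪≫
      Functor.associator _ _ _ ≪≫
      Functor.isoWhiskerLeft _ (tilde.functor A).mapDerivedCategoryFactors⟩
  Localization.liftNatIso DerivedCategory.Q
    (HomologicalComplex.quasiIso (ModuleCat.{u} B) (ComplexShape.up ℤ)) _ _ _ _
    ((Functor.associator _ _ _).symm ≪≫ Functor.isoWhiskerRight (tildePushCxIso φ) DerivedCategory.Q ≪≫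
      Functor.associator _ _ _)

end Groth.Agent.R2.H99.AffPush
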