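import Groth.Agent.R2.H99AffPush6
import Groth.Agent.R2.H28OpenBC

/-!
# Derived direct image and restriction to affine charts `Spec Γ(Y, W) ⟶ Y` (helper99)
-/

set_option autoImplicit false
set_option linter.style.haveILetI false
universe u
open CategoryTheory CategoryTheory.Limits AlgebraicGeometry TopologicalSpace Opposite
attribute [local instance] HasDerivedCategory.standard

namespace Groth.Agent.R2.H99.AffPush

open Groth.Agent.R2.H28.DerBase Groth.Agent.R2.H28.OpenBC Groth.Agent.Lib.Helper17.KInj

variable {X Y : Scheme.{u}}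

/-- restriction along `fromSpec` in terms of restriction to the open and the iso with `Spec` -/
noncomputable def restrictFromSpecIso {W : Y.Opens} (hW : IsAffineOpen W) :
    Scheme.Modules.restrictFunctor hW.fromSpec ≅
      Scheme.Modules.restrictFunctor W.ι ⋙ Scheme.Modules.pushforward hW.isoSpec.hom :=
  (Scheme.Modules.restrictFunctorComp hW.isoSpec.inv W.ι : _) ≪≫
    Functor.isoWhiskerLeft _ (pushIsoRestrict hW.isoSpec).symm

/-- restriction along `fromSpec` preserves K-injective complexes -/
theorem isKInjective_restrict_fromSpec {W : Y.Opens} (hW : IsAffineOpen W)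
    (I : CochainComplex Y.Modules ℤ) [I.IsKInjective] :
    CochainComplex.IsKInjective
      (((Scheme.Modules.restrictFunctor hW.fromSpec).mapHomologicalComplex (ComplexShape.up ℤ)).obj I) := by
  haveI := isKInjective_restrict W I
  haveI : CochainComplex.IsKInjective
      (((Scheme.Modules.restrictFunctor W.ι).mapHomologicalComplex (ComplexShape.up ℤ) ⋙
        (Scheme.Modules.pushforward hW.isoSpec.hom).mapHomologicalComplex (ComplexShape.up ℤ)).obj I) :=
    isKInjective_pushforward_open hW.isoSpec.hom
      (((Scheme.Modules.restrictFunctor W.ι).mapHomologicalComplex (ComplexShape.up ℤ)).obj I)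
  exact CochainComplex.isKInjective_of_iso
    (((NatIso.mapHomologicalComplex (restrictFromSpecIso hW) (ComplexShape.up ℤ)).app I ≪≫
      (compCxIso (Scheme.Modules.restrictFunctor W.ι)
        (Scheme.Modules.pushforward hW.isoSpec.hom)).app I).symm)

variable (f : X ⟶ Y) [IsAffineHom f]

/-- base change of direct images of modules to affine charts -/
noncomputable def bcIsoSpec {W : Y.Opens} (hW : IsAffineOpen W) :
    Scheme.Modules.pushforward f ⋙ Scheme.Modules.restrictFunctor hW.fromSpec ≅
      Scheme.Modules.restrictFunctor (hW.preimage f).fromSpec ⋙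
        Scheme.Modules.pushforward (Spec.map (f.app W)) :=
  Functor.isoWhiskerLeft _ (restrictFromSpecIso hW) ≪≫ (Functor.associator _ _ _).symm ≪≫
    Functor.isoWhiskerRight (baseChangeIso f W) _ ≪≫ Functor.associator _ _ _ ≪≫
    Functor.isoWhiskerLeft _ (Scheme.Modules.pushforwardComp _ _ ≪≫
      Scheme.Modules.pushforwardCongr (Scheme.Opens.toSpecΓ_naturality f W).symm ≪≫
      (Scheme.Modules.pushforwardComp _ _).symm) ≪≫
    (Functor.associator _ _ _).symm ≪≫
    Functor.isoWhiskerRight (restrictFromSpecIso (hW.preimage f)).symm _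

/-- `(Rf_* E)|_{Spec Γ(Y, W)} ≅ R(Spec φ)_* (E|_{Spec Γ(X, f⁻¹W)})`, naturally in `E` -/
theorem nonempty_rpushRestrictSpecIso {W : Y.Opens} (hW : IsAffineOpen W) [DCoh.HasRpush f]
    [DCoh.HasRpush (Spec.map (f.app W))] :
    Nonempty (DCoh.Rpush f ⋙ DCoh.restrictD hW.fromSpec ≅
      DCoh.restrictD (hW.preimage f).fromSpec ⋙ DCoh.Rpush (Spec.map (f.app W))) := by
  classical
  have h1 : (DCoh.Rpush f ⋙ DCoh.restrictD hW.fromSpec).IsRightDerivedFunctor
      (compUnit (Scheme.Modules.pushforward f) (DCoh.Rpush f) (unitC f)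
        (Scheme.Modules.restrictFunctor hW.fromSpec) (DCoh.restrictD hW.fromSpec)
        (Scheme.Modules.restrictFunctor hW.fromSpec).mapDerivedCategoryFactors.inv)
      (HomologicalComplex.quasiIso X.Modules (ComplexShape.up ℤ)) :=
    isRightDerivedFunctor_comp _ _ _ _ _ _ (fun I _ => inferInstance)
  have h0 : (DCoh.restrictD (hW.preimage f).fromSpec).IsRightDerivedFunctor
      (Scheme.Modules.restrictFunctor (hW.preimage f).fromSpec).mapDerivedCategoryFactors.inv
      (HomologicalComplex.quasiIso X.Modules (ComplexShape.up ℤ)) :=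
    Functor.isRightDerivedFunctor_of_inverts _ _ _
  have h2 : (DCoh.restrictD (hW.preimage f).fromSpec ⋙
        DCoh.Rpush (Spec.map (f.app W))).IsRightDerivedFunctor
      (compUnit (Scheme.Modules.restrictFunctor (hW.preimage f).fromSpec)
        (DCoh.restrictD (hW.preimage f).fromSpec)
        (Scheme.Modules.restrictFunctor (hW.preimage f).fromSpec).mapDerivedCategoryFactors.inv
        (Scheme.Modules.pushforward (Spec.map (f.app W))) (DCoh.Rpush (Spec.map (f.app W)))
        (unitC (Spec.map (f.app W))))
      (HomologicalComplex.quasiIso X.Modules (ComplexShape.up ℤ)) := by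
    refine isRightDerivedFunctor_comp _ _ _ _ _ _ (fun I hI => ?_)
    have := hI
    have := isKInjective_restrict_fromSpec (hW.preimage f) I
    exact isIso_app_of_isKInjective (Scheme.Modules.pushforward (Spec.map (f.app W)))
      (DCoh.Rpush (Spec.map (f.app W))) (unitC (Spec.map (f.app W))) _
  exact ⟨Functor.rightDerivedNatIso (DCoh.Rpush f ⋙ DCoh.restrictD hW.fromSpec)
    (DCoh.restrictD (hW.preimage f).fromSpec ⋙ DCoh.Rpush (Spec.map (f.app W)))
    (compUnit (Scheme.Modules.pushforward f) (DCoh.Rpush f) (unitC f)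
        (Scheme.Modules.restrictFunctor hW.fromSpec) (DCoh.restrictD hW.fromSpec)
        (Scheme.Modules.restrictFunctor hW.fromSpec).mapDerivedCategoryFactors.inv)
    (compUnit (Scheme.Modules.restrictFunctor (hW.preimage f).fromSpec)
        (DCoh.restrictD (hW.preimage f).fromSpec)
        (Scheme.Modules.restrictFunctor (hW.preimage f).fromSpec).mapDerivedCategoryFactors.inv
        (Scheme.Modules.pushforward (Spec.map (f.app W))) (DCoh.Rpush (Spec.map (f.app W)))
        (unitC (Spec.map (f.app W))))
    (HomologicalComplex.quasiIso X.Modules (ComplexShape.up ℤ))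
    (Functor.isoWhiskerRight (NatIso.mapHomologicalComplex (bcIsoSpec f hW) (ComplexShape.up ℤ))
      DerivedCategory.Q)⟩

end Groth.Agent.R2.H99.AffPush
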