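import Groth.Agent.R2.H99AffPush7
import Groth.Agent.R2.H99PCNoeth
import Groth.Agent.R2.H28HasRpush
import Groth.Agent.R2.H28RpushQCohA
import Groth.Agent.S6940
import Groth.Agent.S2066

/-!
# Pseudo-coherence and finite direct images (helper99)
-/

set_option autoImplicit false
set_option linter.style.haveILetI false
universe u
open CategoryTheory CategoryTheory.Limits AlgebraicGeometry TopologicalSpace Opposite
attribute [local instance] HasDerivedCategory.standard

namespace Groth.Agent.R2.H99.AffPush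

open Groth.Agent.R2.H4.Perf Groth.Agent.R2.H99.PCNoeth Groth.Agent.R2.H5.PCTilde
  Groth.Agent.R2.H28.RpushQCoh

variable {X Y : Scheme.{u}}

/-- pseudo-coherence can be checked on a cover by open immersions -/
lemma isPC_of_cover (m : ℤ) (K : DCoh.D X)
    (h : ∀ x : X, ∃ (U : Scheme.{u}) (j : U ⟶ X) (_ : IsOpenImmersion j) (y : U), j y = x ∧
      DCoh.IsPseudoCoherentD m ((DCoh.restrictD j).obj K)) :
    DCoh.IsPseudoCoherentD m K := by
  rw [isPseudoCoherentD_iff]
  apply loc_of_loc_restrict (isLocalPred_spApprox m)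
  intro x
  obtain ⟨U, j, hj, y, hy, hK⟩ := h x
  rw [isPseudoCoherentD_iff] at hK
  obtain ⟨U', j', hj', y', hy', hK'⟩ := hK y
  exact ⟨U, j, hj, y, hy, U', j', hj', y', hy', hK'⟩

lemma isPC_restrict (m : ℤ) {U : Scheme.{u}} (j : U ⟶ X) [IsOpenImmersion j] (K : DCoh.D X)
    (h : DCoh.IsPseudoCoherentD m K) : DCoh.IsPseudoCoherentD m ((DCoh.restrictD j).obj K) := by
  rw [isPseudoCoherentD_iff] at h ⊢
  exact loc_restrict (isLocalPred_spApprox m) j K h

attribute [local instance] Groth.Agent.R2.H28.HasRpush.hasRpush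

/-- the comparison on an affine chart -/
theorem chart_iff (f : X ⟶ Y) [IsAffineHom f] {W : Y.Opens} (hW : IsAffineOpen W)
    (hB : letI := (f.app W).hom.toAlgebra
      DRing.IsPseudoCoherentModule' Γ(Y, W) Γ(X, f ⁻¹ᵁ W))
    (E : DCoh.D X) (hE : DCoh.IsQCohD E) (m : ℤ) :
    DCoh.IsPseudoCoherentD m ((DCoh.restrictD (hW.preimage f).fromSpec).obj E) ↔
      DCoh.IsPseudoCoherentD m ((DCoh.restrictD hW.fromSpec).obj ((DCoh.Rpush f).obj E)) := by
  letI := (f.app W).hom.toAlgebra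
  obtain ⟨M, ⟨e⟩, -⟩ := exists_affine_model E hE (hW.preimage f)
  obtain ⟨bridge⟩ := nonempty_rpushRestrictSpecIso f hW
  have e2 : (DCoh.restrictD hW.fromSpec).obj ((DCoh.Rpush f).obj E) ≅
      (DCoh.tildeD Γ(Y, W)).obj ((DRing.restrictD (algebraMap Γ(Y, W) Γ(X, f ⁻¹ᵁ W))).obj M) :=
    bridge.app E ≪≫ (DCoh.Rpush (Spec.map (f.app W))).mapIso e.symm ≪≫
      (tildeDRpushIso (f.app W)).app M
  have h1 : DCoh.IsPseudoCoherentD m ((DCoh.restrictD (hW.preimage f).fromSpec).obj E) ↔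
      DCoh.IsPseudoCoherentD m ((DCoh.tildeD Γ(X, f ⁻¹ᵁ W)).obj M) :=
    ⟨isPseudoCoherentD_of_iso m e.symm, isPseudoCoherentD_of_iso m e⟩
  have h2 : DCoh.IsPseudoCoherentD m ((DCoh.restrictD hW.fromSpec).obj ((DCoh.Rpush f).obj E)) ↔
      DCoh.IsPseudoCoherentD m ((DCoh.tildeD Γ(Y, W)).obj
        ((DRing.restrictD (algebraMap Γ(Y, W) Γ(X, f ⁻¹ᵁ W))).obj M)) :=
    ⟨isPseudoCoherentD_of_iso m e2, isPseudoCoherentD_of_iso m e2.symm⟩
  rw [h1, h2]
  exact (isPseudoCoherentD_tildeD_iff M m).trans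
    (((Groth.Agent.S6940.result hB M m).1).trans (isPseudoCoherentD_tildeD_iff _ m).symm)



/-- `B` as a module over `A`, two ways -/
noncomputable def restrictSelfIso {A B : CommRingCat.{u}} (φ : A ⟶ B) :
    letI := φ.hom.toAlgebra
    (ModuleCat.restrictScalars.{u} φ.hom).obj (ModuleCat.of B B) ≅ ModuleCat.of A B :=
  letI := φ.hom.toAlgebra
  LinearEquiv.toModuleIso
    { AddEquiv.refl B with
      map_smul' := fun _ _ => rfl }

/-- the direct image of the structure sheaf on an affine chart -/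
theorem pcModule_of_push (f : X ⟶ Y) [IsAffineHom f]
    (hO : ∀ m : ℤ, DCoh.IsPseudoCoherentD m
      (DCoh.inD Y ((Scheme.Modules.pushforward f).obj (Coh.structureModule X))))
    {W : Y.Opens} (hW : IsAffineOpen W) :
    letI := (f.app W).hom.toAlgebra
    DRing.IsPseudoCoherentModule' Γ(Y, W) Γ(X, f ⁻¹ᵁ W) := by
  letI := (f.app W).hom.toAlgebra
  apply (Groth.Agent.S2066.result _).1.1
  intro m
  have h1 := isPC_restrict m hW.fromSpec _ (hO m)
  have iso : (DCoh.restrictD hW.fromSpec).obj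
        (DCoh.inD Y ((Scheme.Modules.pushforward f).obj (Coh.structureModule X))) ≅
      (DCoh.tildeD Γ(Y, W)).obj (Dual.inD Γ(Y, W) Γ(X, f ⁻¹ᵁ W)) :=
    restrictInDIso hW.fromSpec _ ≪≫
      (DerivedCategory.singleFunctor _ 0).mapIso
        ((bcIsoSpec f hW).app (Coh.structureModule X) ≪≫
          (Scheme.Modules.pushforward (Spec.map (f.app W))).mapIso
            (Scheme.Modules.restrictUnitIso (hW.preimage f).fromSpec ≪≫
              (tildeSelf (R := Γ(X, f ⁻¹ᵁ W))).symm) ≪≫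
          (tildePushIso (f.app W)).app (ModuleCat.of Γ(X, f ⁻¹ᵁ W) Γ(X, f ⁻¹ᵁ W)) ≪≫
          (tilde.functor Γ(Y, W)).mapIso (restrictSelfIso (f.app W))) ≪≫
      (((tilde.functor Γ(Y, W)).mapDerivedCategorySingleFunctor 0).app _).symm
  exact (isPseudoCoherentD_tildeD_iff _ m).1 (isPseudoCoherentD_of_iso m iso h1)

/-- pseudo-coherence and finite (more generally affine) direct images -/
theorem isPC_iff_rpush_of_affine (f : X ⟶ Y) [IsAffineHom f]
    (hO : ∀ m : ℤ, DCoh.IsPseudoCoherentD m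
      (DCoh.inD Y ((Scheme.Modules.pushforward f).obj (Coh.structureModule X))))
    (E : DCoh.D X) (hE : DCoh.IsQCohD E) (m : ℤ) :
    DCoh.IsPseudoCoherentD m E ↔ DCoh.IsPseudoCoherentD m ((DCoh.Rpush f).obj E) := by
  constructor
  · intro h
    apply isPC_of_cover
    intro y
    obtain ⟨_, ⟨W, hW0, rfl⟩, hyW, -⟩ :=
      Y.isBasis_affineOpens.exists_subset_of_mem_open (Set.mem_univ y) isOpen_univ
    have hW : IsAffineOpen W := hW0
    obtain ⟨pt, hpt⟩ : y ∈ Set.range hW.fromSpec := by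
      rw [hW.range_fromSpec]; exact hyW
    exact ⟨_, hW.fromSpec, inferInstance, pt, hpt,
      (chart_iff f hW (pcModule_of_push f hO hW) E hE m).1 (isPC_restrict m _ E h)⟩
  · intro h
    apply isPC_of_cover
    intro x
    obtain ⟨_, ⟨W, hW0, rfl⟩, hyW, -⟩ :=
      Y.isBasis_affineOpens.exists_subset_of_mem_open (Set.mem_univ (f x)) isOpen_univ
    have hW : IsAffineOpen W := hW0
    obtain ⟨pt, hpt⟩ : x ∈ Set.range (hW.preimage f).fromSpec := by
      rw [(hW.preimage f).range_fromSpec]; exact hyW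
    exact ⟨_, (hW.preimage f).fromSpec, inferInstance, pt, hpt,
      (chart_iff f hW (pcModule_of_push f hO hW) E hE m).2 (isPC_restrict m hW.fromSpec _ h)⟩

end Groth.Agent.R2.H99.AffPush
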