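import Groth.Agent.R2.H99AffPush4
import Groth.Agent.R2.H28GammaAcyc

/-!
# Isomorphisms in `D(O_Y)` are detected by `RΓ` over affine opens (helper99)
-/

set_option autoImplicit false
set_option linter.style.haveILetI false
universe u
open CategoryTheory CategoryTheory.Limits AlgebraicGeometry TopologicalSpace Opposite
attribute [local instance] HasDerivedCategory.standard

namespace Groth.Agent.R2.H99.AffPush

open Groth.Agent.R2.H5.DQCohAff Groth.Agent.Lib.Helper17.KInj
  Groth.Agent.Lib.Helper17 Groth.Agent.R2.H28.DerBase Groth.Agent.R2.H28.GammaAcyc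

variable {Y : Scheme.{u}}

/-- for a map `g` of K-injective complexes, `RΓ(U, Q(g)|_U)` is an isomorphism iff `g` is a
quasi-isomorphism on sections over `U` -/
theorem isIso_RΓ_restrict_iff (U : Y.Opens) [DCoh.HasRΓ (U : Scheme.{u})]
    {I₁ I₂ : CochainComplex Y.Modules ℤ} [I₁.IsKInjective] [I₂.IsKInjective] (g : I₁ ⟶ I₂) :
    IsIso ((DCoh.RΓ (U : Scheme.{u})).map ((DCoh.restrictD U.ι).map (DerivedCategory.Q.map g))) ↔
      QuasiIso (((secAb Y U).mapHomologicalComplex (ComplexShape.up ℤ)).map g) := by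
  haveI := isKInjective_restrict U I₁
  haveI := isKInjective_restrict U I₂
  haveI := Groth.Agent.R2.H28.DerBase.isGrothendieckAbelian_modules (U : Scheme.{u})
  haveI := isIso_app_of_isKInjective (DCoh.gammaAb (U : Scheme.{u})) (DCoh.RΓ (U : Scheme.{u}))
    (unitΓ (U : Scheme.{u})) ((DCoh.restrictCx U).obj I₁)
  haveI := isIso_app_of_isKInjective (DCoh.gammaAb (U : Scheme.{u})) (DCoh.RΓ (U : Scheme.{u}))
    (unitΓ (U : Scheme.{u})) ((DCoh.restrictCx U).obj I₂)
  -- step 1: restrictD (Q g) versus Q (g|_U)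
  have n1 := (Scheme.Modules.restrictFunctor U.ι).mapDerivedCategoryFactors.hom.naturality g
  have s1 : IsIso ((DCoh.RΓ (U : Scheme.{u})).map ((DCoh.restrictD U.ι).map (DerivedCategory.Q.map g))) ↔
      IsIso ((DCoh.RΓ (U : Scheme.{u})).map (DerivedCategory.Q.map ((DCoh.restrictCx U).map g))) := by
    have e : Arrow.mk ((DCoh.restrictD U.ι).map (DerivedCategory.Q.map g)) ≅
        Arrow.mk (DerivedCategory.Q.map ((DCoh.restrictCx U).map g)) :=
      Arrow.isoMk ((Scheme.Modules.restrictFunctor U.ι).mapDerivedCategoryFactors.app I₁)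
        ((Scheme.Modules.restrictFunctor U.ι).mapDerivedCategoryFactors.app I₂) n1.symm
    exact (MorphismProperty.isomorphisms _).arrow_mk_iso_iff
      ((DCoh.RΓ (U : Scheme.{u})).mapArrow.mapIso e)
  -- step 2: the unit of RΓ
  have n2 := (unitΓ (U : Scheme.{u})).naturality ((DCoh.restrictCx U).map g)
  have s2 : IsIso ((DCoh.RΓ (U : Scheme.{u})).map (DerivedCategory.Q.map ((DCoh.restrictCx U).map g))) ↔
      IsIso (DerivedCategory.Q.map (((DCoh.gammaAb (U : Scheme.{u})).mapHomologicalComplex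
        (ComplexShape.up ℤ)).map ((DCoh.restrictCx U).map g))) := by
    have e : Arrow.mk (DerivedCategory.Q.map (((DCoh.gammaAb (U : Scheme.{u})).mapHomologicalComplex
        (ComplexShape.up ℤ)).map ((DCoh.restrictCx U).map g))) ≅
        Arrow.mk ((DCoh.RΓ (U : Scheme.{u})).map
          (DerivedCategory.Q.map ((DCoh.restrictCx U).map g))) :=
      Arrow.isoMk (asIso ((unitΓ (U : Scheme.{u})).app ((DCoh.restrictCx U).obj I₁)))
        (asIso ((unitΓ (U : Scheme.{u})).app ((DCoh.restrictCx U).obj I₂))) n2.symm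
    exact ((MorphismProperty.isomorphisms _).arrow_mk_iso_iff e).symm
  rw [s1, s2, DerivedCategory.isIso_Q_map_iff_quasiIso]
  constructor
  · intro h
    have h2 : QuasiIso (((Scheme.Modules.restrictFunctor U.ι ⋙
        DCoh.gammaAb (U : Scheme.{u})).mapHomologicalComplex (ComplexShape.up ℤ)).map g) := h
    exact quasiIso_map_of_natIso (secAbRestrictIso U).symm g h2
  · intro h
    have h2 := quasiIso_map_of_natIso (secAbRestrictIso U) g h
    exact h2

/-- isomorphisms in `D(O_Y)` are detected by `RΓ` over affine opens -/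
theorem isIso_iff_isIso_RΓ_affine [hR : ∀ U : Y.Opens, DCoh.HasRΓ (U : Scheme.{u})]
    {G₁ G₂ : DCoh.D Y} (φ : G₁ ⟶ G₂) :
    IsIso φ ↔ ∀ U : Y.Opens, IsAffineOpen U →
      IsIso ((DCoh.RΓ (U : Scheme.{u})).map ((DCoh.restrictD U.ι).map φ)) := by
  constructor
  · intro h U _
    infer_instance
  · intro h
    obtain ⟨I₁, s₁, hI₁, hs₁⟩ := exists_kInjective_resolution_modules Y (DerivedCategory.Q.objPreimage G₁)
    obtain ⟨I₂, s₂, hI₂, hs₂⟩ := exists_kInjective_resolution_modules Y (DerivedCategory.Q.objPreimage G₂)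
    haveI := hI₁
    haveI := hI₂
    haveI : IsIso (DerivedCategory.Q.map s₁) := by
      rw [DerivedCategory.isIso_Q_map_iff_quasiIso]; exact hs₁
    haveI : IsIso (DerivedCategory.Q.map s₂) := by
      rw [DerivedCategory.isIso_Q_map_iff_quasiIso]; exact hs₂
    let e₁ : G₁ ≅ DerivedCategory.Q.obj I₁ :=
      (DerivedCategory.Q.objObjPreimageIso G₁).symm ≪≫ asIso (DerivedCategory.Q.map s₁)
    let e₂ : G₂ ≅ DerivedCategory.Q.obj I₂ :=
      (DerivedCategory.Q.objObjPreimageIso G₂).symm ≪≫ asIso (DerivedCategory.Q.map s₂)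
    obtain ⟨g, hg⟩ := exists_map_eq_of_isKInjective I₁ I₂ (e₁.inv ≫ φ ≫ e₂.hom)
    have hφ : φ = e₁.hom ≫ DerivedCategory.Q.map g ≫ e₂.inv := by
      rw [hg]; simp
    have hq : QuasiIso g := by
      refine quasiIso_of_basis g Y.affineOpens Y.isBasis_affineOpens (fun U hU => ?_)
      rw [← isIso_RΓ_restrict_iff U g, hg]
      haveI := h U hU
      simp only [Functor.map_comp]
      infer_instance
    haveI : IsIso (DerivedCategory.Q.map g) := by
      rw [DerivedCategory.isIso_Q_map_iff_quasiIso]; exact hq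
    rw [hφ]
    infer_instance

end Groth.Agent.R2.H99.AffPush
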