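import Mathlib
import Groth.Agent.Lib.Helper1RelPC
set_option backward.isDefEq.respectTransparency.types false

/-!
# helper99: relative pseudo-coherence in chart form, part 1 (ring level)

* `exists_common_lift` : two charts `φ : A[x_1..x_n] ↠ B`, `ψ : A[y_1..y_k] ↠ B` agreeing on `A`
  are dominated by a common polynomial ring `T` through surjections `σ₁, σ₂` with
  pseudo-coherent targets.
-/

set_option autoImplicit false
universe u
open CategoryTheory CategoryTheory.Limits
attribute [local instance] HasDerivedCategory.standard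

namespace Groth.Agent.R2.H99.ChartPC

open Groth.Agent.Lib.Helper1.RelPC Groth.Agent.Lib.Helper1.Restrict

theorem exists_common_lift {A B : Type u} [CommRing A] [CommRing B] {n k : ℕ}
    (φ : MvPolynomial (Fin n) A →+* B) (hφ : Function.Surjective φ)
    (ψ : MvPolynomial (Fin k) A →+* B) (hψ : Function.Surjective ψ)
    (hC : φ.comp MvPolynomial.C = ψ.comp MvPolynomial.C) :
    ∃ (T : Type u) (_ : CommRing T) (σ₁ : T →+* MvPolynomial (Fin n) A)
      (σ₂ : T →+* MvPolynomial (Fin k) A),
      Function.Surjective σ₁ ∧ Function.Surjective σ₂ ∧ BPC σ₁ ∧ BPC σ₂ ∧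
        φ.comp σ₁ = ψ.comp σ₂ := by
  choose f hf using fun j : Fin k => hφ (ψ (MvPolynomial.X j))
  choose g hg using fun i : Fin n => hψ (φ (MvPolynomial.X i))
  let comm : MvPolynomial (Fin k) (MvPolynomial (Fin n) A) →+*
      MvPolynomial (Fin n) (MvPolynomial (Fin k) A) :=
    (MvPolynomial.commAlgEquiv A (Fin k) (Fin n)).toRingEquiv.toRingHom
  have hcomm : Function.Bijective comm := (MvPolynomial.commAlgEquiv A (Fin k) (Fin n)).bijective
  let σ₁ : MvPolynomial (Fin k) (MvPolynomial (Fin n) A) →+* MvPolynomial (Fin n) A :=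
    MvPolynomial.eval f
  let σ₂ : MvPolynomial (Fin k) (MvPolynomial (Fin n) A) →+* MvPolynomial (Fin k) A :=
    (MvPolynomial.eval g : MvPolynomial (Fin n) (MvPolynomial (Fin k) A) →+* _).comp comm
  refine ⟨MvPolynomial (Fin k) (MvPolynomial (Fin n) A), inferInstance, σ₁, σ₂, ?_, ?_, ?_, ?_, ?_⟩
  · intro p
    exact ⟨MvPolynomial.C p, MvPolynomial.eval_C _⟩
  · intro p
    obtain ⟨q, hq⟩ := hcomm.2 (MvPolynomial.C p)
    exact ⟨q, by simp [σ₂, hq]⟩
  · exact bpc_mvEval k _ f
  · exact bpc_comp _ _ (bpc_of_bijective _ hcomm) (bpc_mvEval n _ g)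
  · refine MvPolynomial.ringHom_ext (fun q => ?_) (fun j => ?_)
    · have h1 : (ψ.comp σ₂).comp MvPolynomial.C = φ := by
        refine MvPolynomial.ringHom_ext (fun a => ?_) (fun i => ?_)
        · have := congrArg (fun F => F a) hC
          simp only [RingHom.comp_apply] at this
          simp [σ₂, comm, this]
        · simp [σ₂, comm, hg]
      have h2 := congrArg (fun F => F q) h1
      simp only [RingHom.comp_apply] at h2
      simp only [RingHom.comp_apply]
      rw [h2]
      simp [σ₁]
    · simp [σ₁, σ₂, comm, hf]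

end Groth.Agent.R2.H99.ChartPC
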