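import Mathlib
import Groth.Agent.R2.H99PCEngine
import Groth.Agent.R2.H99PCDescent2
import Groth.Agent.R2.H99AffPush3
import Groth.Agent.R2.H54ClosedImmHom
import Groth.Agent.R2.H28OpenBC
set_option backward.isDefEq.respectTransparency.types false

/-!
# helper99: pushforward along a closed immersion and pseudo-coherence, part 1

* `pushD i` : the (termwise) derived direct image along a closed immersion;
* `pushRestrictD i W : pushD i ⋙ restrictD W.ι ≅ restrictD (i⁻¹W).ι ⋙ pushD (i ∣_ W)`;
-/

set_option autoImplicit false
set_option linter.style.haveILetI false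
universe u
open CategoryTheory CategoryTheory.Limits AlgebraicGeometry HomologicalComplex
  CategoryTheory.Pretriangulated

attribute [local instance] HasDerivedCategory.standard

namespace Groth.Agent.R2.H99.ClosedPC

open DerivedCategory Groth.Agent.R2.H4.Conn Groth.Agent.R2.H4.Perf
  Groth.Agent.R2.H99.PCEngine Groth.Agent.R2.H99.PCDescent
  Groth.Agent.R2.H54.ClosedImmHom Groth.Agent.R2.H54.ClosedImm
  Groth.Agent.Lib.Helper1.PT

section Basic

variable {Z X : Scheme.{u}} (i : Z ⟶ X) [IsClosedImmersion i]

/-- the termwise derived direct image along a closed immersion. -/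
noncomputable abbrev pushD : DCoh.D Z ⥤ DCoh.D X :=
  (Scheme.Modules.pushforward i).mapDerivedCategory

instance (W : X.Opens) : IsClosedImmersion (i ∣_ W) :=
  MorphismProperty.of_isPullback (isPullback_morphismRestrict i W).flip inferInstance

/-- base change of the derived direct image to an open subscheme. -/
noncomputable def pushRestrictD (W : X.Opens) :
    pushD i ⋙ DCoh.restrictD W.ι ≅ DCoh.restrictD (i ⁻¹ᵁ W).ι ⋙ pushD (i ∣_ W) :=
  (mapDerivedCategoryComp _ _).symm ≪≫
    mapDerivedCategoryCongr (Groth.Agent.R2.H28.OpenBC.baseChangeIso i W) ≪≫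
    mapDerivedCategoryComp _ _

end Basic

end Groth.Agent.R2.H99.ClosedPC
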