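import Mathlib
import Groth.Agent.R2.H99ClosedPC1
import Groth.Agent.R2.H4PerfTri
import Groth.Agent.R2.H28RelPC
set_option backward.isDefEq.respectTransparency.types false

/-!
# helper99: pushforward along a closed immersion and pseudo-coherence, part 2

* `pcAll X` : the triangulated subcategory of pseudo-coherent objects of `D(O_X)`;
* `isPC_push_finLocFree` : for a closed immersion `i` with `i_* O` pseudo-coherent, `i_* M` is
  pseudo-coherent for every finite locally free `M`.
-/

set_option autoImplicit false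
set_option linter.style.haveILetI false
universe u
open CategoryTheory CategoryTheory.Limits AlgebraicGeometry HomologicalComplex
  CategoryTheory.Pretriangulated

attribute [local instance] HasDerivedCategory.standard

namespace Groth.Agent.R2.H99.ClosedPC

open DerivedCategory ZeroObject Groth.Agent.R2.H4.Conn Groth.Agent.R2.H4.Perf
  Groth.Agent.R2.H99.PCEngine Groth.Agent.R2.H99.PCDescent
  Groth.Agent.R2.H54.ClosedImmHom Groth.Agent.R2.H54.ClosedImm
  Groth.Agent.Lib.Helper1.PT

section PcAll

variable (X : Scheme.{u})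

/-- pseudo-coherent in every degree. -/
def pcAll : ObjectProperty (DCoh.D X) := fun K => ∀ m : ℤ, DCoh.IsPseudoCoherentD m K

instance : (pcAll X).IsClosedUnderIsomorphisms :=
  ⟨fun e h m => Groth.Agent.R2.H99.PCDescent2.isPC_of_iso e (h m)⟩

lemma pcAll_zero {K : DCoh.D X} (hK : IsZero K) : pcAll X K := by
  intro m
  refine Groth.Agent.R2.H99.PCDescent2.isPC_of_iso ((isZero_zero _).iso hK) ?_
  exact Groth.Agent.R2.H28.PCSingle.isPC_of_spRep m _ spRep_zero

instance : (pcAll X).ContainsZero := ⟨0, isZero_zero _, pcAll_zero X (isZero_zero _)⟩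

instance : (pcAll X).IsStableUnderShift ℤ where
  isStableUnderShiftBy n :=
    { le_shift := fun K hK m => by
        have h := hK (m + n)
        rw [isPseudoCoherentD_iff] at h
        exact (isPseudoCoherentD_iff m _).2 (loc_spApprox_shift h n m rfl) }

instance : (pcAll X).IsTriangulatedClosed₂ :=
  ObjectProperty.IsTriangulatedClosed₂.mk' (fun T hT h₁ h₃ m =>
    (isPseudoCoherentD_triangle m T hT).2.1 (h₁ m) (h₃ m))

instance : (pcAll X).IsTriangulated where

/-- finite coproducts of modules which are pseudo-coherent (in degree `0`). -/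
lemma pcAll_inD_sigma {n : ℕ} (N : X.Modules) (hN : pcAll X (DCoh.inD X N)) :
    pcAll X (DCoh.inD X (∐ fun _ : Fin n => N)) := by
  haveI : HasFiniteBiproducts X.Modules := HasFiniteBiproducts.of_hasFiniteProducts
  have e1 : (∐ fun _ : Fin n => N) ≅ ∏ᶜ fun _ : Fin n => N :=
    (biproduct.isoCoproduct _).symm ≪≫ biproduct.isoProduct _
  have e2 := PreservesProduct.iso (DerivedCategory.singleFunctor X.Modules 0) (fun _ : Fin n => N)
  refine (pcAll X).prop_of_iso
    ((DerivedCategory.singleFunctor X.Modules 0).mapIso e1 ≪≫ e2).symm ?_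
  exact (pcAll X).prop_product (fun _ => hN)

end PcAll

section Empty

/-- every module on an empty scheme vanishes. -/
lemma isZero_of_isEmpty {Y : Scheme.{u}} [IsEmpty Y] (M : Y.Modules) : IsZero M := by
  apply Groth.Agent.R2.H28.RelPC.isZero_of_cover M (fun e : PEmpty.{1} => e.elim)
  · rw [eq_top_iff]
    intro x
    exact (IsEmpty.false x).elim
  · intro e
    exact e.elim

end Empty

section LemmaA

open Scheme.Modules

/-- `inD` commutes with restriction to an open subscheme. -/
noncomputable def restrictDInD {U X : Scheme.{u}} (j : U ⟶ X) [IsOpenImmersion j] (N : X.Modules) :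
    (DCoh.restrictD j).obj (DCoh.inD X N) ≅ DCoh.inD U ((restrictFunctor j).obj N) :=
  ((restrictFunctor j).mapDerivedCategorySingleFunctor 0).app N

variable {Z X : Scheme.{u}} (i : Z ⟶ X) [IsClosedImmersion i]

/-- `inD` commutes with the direct image along a closed immersion. -/
noncomputable def pushDInD (M : Z.Modules) :
    (pushD i).obj (DCoh.inD Z M) ≅ DCoh.inD X ((pushforward i).obj M) :=
  ((pushforward i).mapDerivedCategorySingleFunctor 0).app M

/-- the hypothesis "`i_* O` is pseudo-coherent" restricts to opens. -/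
lemma hO_restrict (hO : pcAll X (DCoh.inD X ((pushforward i).obj (Coh.structureModule Z))))
    (W : X.Opens) :
    pcAll W (DCoh.inD W ((pushforward (i ∣_ W)).obj (Coh.structureModule (i ⁻¹ᵁ W)))) := by
  intro m
  have h1 := isPC_restrict m W.ι _ (hO m)
  refine Groth.Agent.R2.H99.PCDescent2.isPC_of_iso ?_ h1
  exact restrictDInD W.ι _ ≪≫ (DerivedCategory.singleFunctor _ 0).mapIso
    ((Groth.Agent.R2.H28.OpenBC.baseChangeIso i W).app _ ≪≫
      (pushforward (i ∣_ W)).mapIso (restrictUnitIso _))

/-- **Lemma A**: for a closed immersion `i` with `i_* O_Z` pseudo-coherent, the direct image of a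
finite locally free module is pseudo-coherent. -/
theorem isPC_push_finLocFree
    (hO : pcAll X (DCoh.inD X ((pushforward i).obj (Coh.structureModule Z))))
    (M : Z.Modules) (hM : FlatMod.IsFinLocFree M) :
    pcAll X (DCoh.inD X ((pushforward i).obj M)) := by
  intro m
  apply isPC_of_locally
  intro x
  by_cases hx : x ∈ Set.range i
  · obtain ⟨z, rfl⟩ := hx
    obtain ⟨U, n, hzU, ⟨e⟩⟩ := hM z
    obtain ⟨W, hW⟩ : ∃ W : X.Opens, i ⁻¹ᵁ W = U := by
      obtain ⟨W, hWo, hWU⟩ := i.isEmbedding.isInducing.isOpen_iff.1 U.isOpen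
      exact ⟨⟨W, hWo⟩, TopologicalSpace.Opens.ext hWU⟩
    subst hW
    refine ⟨W, W.ι, inferInstance, ⟨i z, hzU⟩, rfl, ?_⟩
    have h2 := pcAll_inD_sigma W (n := n) _ (hO_restrict i hO W)
    refine Groth.Agent.R2.H99.PCDescent2.isPC_of_iso ?_ (h2 m)
    refine (DerivedCategory.singleFunctor _ 0).mapIso ?_ ≪≫ (restrictDInD W.ι _).symm
    exact (PreservesCoproduct.iso (pushforward (i ∣_ W)) _).symm ≪≫
      (pushforward (i ∣_ W)).mapIso e.symm ≪≫
      ((Groth.Agent.R2.H28.OpenBC.baseChangeIso i W).app M).symm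
  · let W : X.Opens := ⟨(Set.range i)ᶜ, i.isClosedEmbedding.isClosed_range.isOpen_compl⟩
    refine ⟨W, W.ι, inferInstance, ⟨x, hx⟩, rfl, ?_⟩
    haveI : IsEmpty ((i ⁻¹ᵁ W : Z.Opens) : Scheme.{u}) := ⟨fun z => z.2 ⟨z.1, rfl⟩⟩
    apply pcAll_zero
    refine IsZero.of_iso ?_ (restrictDInD W.ι _ ≪≫ (DerivedCategory.singleFunctor _ 0).mapIso
      ((Groth.Agent.R2.H28.OpenBC.baseChangeIso i W).app M))
    apply Functor.map_isZero
    exact (pushforward (i ∣_ W)).map_isZero (isZero_of_isEmpty _)

end LemmaA

end Groth.Agent.R2.H99.ClosedPC
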