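import Mathlib
import Groth.Agent.R2.H99ClosedPC2
import Groth.Agent.Lib.Helper1Devissage
set_option backward.isDefEq.respectTransparency.types false

/-!
# helper99: pushforward along a closed immersion and pseudo-coherence, part 3

* `pcAll_push_spRep` : the direct image of a strictly perfect complex is pseudo-coherent;
* `isPC_of_conn` : the target of an `m`-connected map from an `m`-pseudo-coherent object is
  `m`-pseudo-coherent;
* `isPC_push` : `E` `m`-pseudo-coherent ⇒ `i_* E` `m`-pseudo-coherent.
-/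

set_option autoImplicit false
set_option linter.style.haveILetI false
universe u
open CategoryTheory CategoryTheory.Limits AlgebraicGeometry HomologicalComplex
  CategoryTheory.Pretriangulated

attribute [local instance] HasDerivedCategory.standard

namespace Groth.Agent.R2.H99.ClosedPC

open DerivedCategory ZeroObject Groth.Agent.R2.H4.Conn Groth.Agent.R2.H4.Perf
  Groth.Agent.R2.H99.PCEngine Groth.Agent.R2.H99.PCDescent
  Groth.Agent.R2.H54.ClosedImmHom Groth.Agent.R2.H54.ClosedImm
  Groth.Agent.Lib.Helper1.PT Scheme.Modules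

section Conn

variable {X : Scheme.{u}}

/-- an object of `D^{≤ m-1}` is `m`-pseudo-coherent. -/
lemma isPC_of_isLE (m : ℤ) (K : DCoh.D X) (hK : K.IsLE (m - 1)) : DCoh.IsPseudoCoherentD m K :=
  (isPseudoCoherentD_iff m K).2 (pc_of_spApprox (spApprox_of_isLE m K hK))

/-- the target of an `m`-connected map from an `m`-pseudo-coherent object. -/
lemma isPC_of_conn {m : ℤ} {P K : DCoh.D X} (α : P ⟶ K) (hα : Conn m α)
    (hP : DCoh.IsPseudoCoherentD m P) : DCoh.IsPseudoCoherentD m K := by
  obtain ⟨C, v, w, hT⟩ := distinguished_cocone_triangle α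
  have hC : C.IsLE (m - 1) := (conn_iff_of_distTriang _ hT m).1 hα
  exact (isPseudoCoherentD_triangle m _ hT).2.1 hP (isPC_of_isLE m C hC)

/-- every object of the derived category of an empty scheme vanishes. -/
lemma isZero_D_of_isEmpty {Y : Scheme.{u}} [IsEmpty Y] (K : DCoh.D Y) : IsZero K := by
  have h0 : IsIso (0 : K ⟶ 0) := by
    rw [DerivedCategory.isIso_iff]
    intro n
    exact isIso_of_source_target_iso_zero _ (isZero_of_isEmpty _).isoZero
      (((DerivedCategory.homologyFunctor _ n).map_isZero (isZero_zero _)).isoZero)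
  exact IsZero.of_iso (isZero_zero _) (asIso (0 : K ⟶ 0))

end Conn

section LemmaB

variable {Z X : Scheme.{u}} (i : Z ⟶ X) [IsClosedImmersion i]

/-- **Lemma B**: the direct image of a strictly perfect complex is pseudo-coherent. -/
theorem pcAll_push_spRep
    (hO : pcAll X (DCoh.inD X ((pushforward i).obj (Coh.structureModule Z))))
    (P : DCoh.D Z) (hP : SPRep P) : pcAll X ((pushD i).obj P) := by
  obtain ⟨E, ⟨⟨a, b, hv⟩, hfl⟩, ⟨e⟩⟩ := hP
  refine (pcAll X).prop_of_iso ((pushD i).mapIso e) ?_
  refine (pcAll X).prop_of_iso ((pushforward i).mapDerivedCategoryFactors.app E).symm ?_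
  refine Groth.Agent.Lib.Helper1.Devissage.induction_terms' (pcAll X)
    (fun K hK => pcAll_zero X hK)
    (fun T hT h1 h3 => (pcAll X).ext_of_isTriangulatedClosed₂ T hT h1 h3)
    (fun j M N ⟨f⟩ h => (pcAll X).prop_of_iso
      ((DerivedCategory.singleFunctor X.Modules j).mapIso f) h)
    _ a b (fun k hk => (pushforward i).map_isZero (hv k hk)) ?_
  intro j _ _
  have h1 : pcAll X (DCoh.inD X ((pushforward i).obj (E.X j))) :=
    isPC_push_finLocFree i hO (E.X j) (hfl j)
  have h2 := (pcAll X).le_shift (-j) _ h1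
  exact (pcAll X).prop_of_iso
    (((DerivedCategory.singleFunctors X.Modules).shiftIso (-j) j 0 (by lia)).app _) h2

/-- a neighbourhood of `i z` whose preimage is a prescribed neighbourhood of `z`. -/
lemma exists_opens_preimage_eq (U : Z.Opens) : ∃ W : X.Opens, i ⁻¹ᵁ W = U := by
  obtain ⟨W, hWo, hWU⟩ := i.isEmbedding.isInducing.isOpen_iff.1 U.isOpen
  exact ⟨⟨W, hWo⟩, TopologicalSpace.Opens.ext hWU⟩

/-- the complement of the image of a closed immersion. -/
def compl : X.Opens := ⟨(Set.range i)ᶜ, i.isClosedEmbedding.isClosed_range.isOpen_compl⟩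

instance : IsEmpty ((i ⁻¹ᵁ compl i : Z.Opens) : Scheme.{u}) := ⟨fun z => z.2 ⟨z.1, rfl⟩⟩

/-- the direct image vanishes away from the image. -/
lemma isZero_restrict_compl (K : DCoh.D Z) :
    IsZero ((DCoh.restrictD (compl i).ι).obj ((pushD i).obj K)) :=
  IsZero.of_iso ((pushD (i ∣_ compl i)).map_isZero (isZero_D_of_isEmpty _))
    ((pushRestrictD i (compl i)).app K)

/-- **Lemma C**: the direct image of an `m`-pseudo-coherent object along a closed immersion with
pseudo-coherent `i_* O` is `m`-pseudo-coherent. -/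
theorem isPC_push
    (hO : pcAll X (DCoh.inD X ((pushforward i).obj (Coh.structureModule Z))))
    (E : DCoh.D Z) (m : ℤ) (hE : DCoh.IsPseudoCoherentD m E) :
    DCoh.IsPseudoCoherentD m ((pushD i).obj E) := by
  apply isPC_of_locally
  intro x
  by_cases hx : x ∈ Set.range i
  · obtain ⟨z, rfl⟩ := hx
    rw [isPseudoCoherentD_iff, loc_iff_opens (isLocalPred_spApprox m)] at hE
    obtain ⟨U, hzU, P, α, hP, hα⟩ := hE z
    obtain ⟨W, rfl⟩ := exists_opens_preimage_eq i U
    refine ⟨W, W.ι, inferInstance, ⟨i z, hzU⟩, rfl, ?_⟩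
    refine Groth.Agent.R2.H99.PCDescent2.isPC_of_iso ((pushRestrictD i W).app E).symm ?_
    exact isPC_of_conn ((pushD (i ∣_ W)).map α) (conn_map _ α m hα)
      (pcAll_push_spRep (i ∣_ W) (hO_restrict i hO W) P hP m)
  · refine ⟨compl i, (compl i).ι, inferInstance, ⟨x, hx⟩, rfl, ?_⟩
    exact pcAll_zero _ (isZero_restrict_compl i E) m

end LemmaB

end Groth.Agent.R2.H99.ClosedPC
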