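import Mathlib
import Groth.Agent.R2.H99ClosedPC3
import Groth.Agent.R2.H4PCTop
import Groth.Agent.Lib.Helper23PB
set_option backward.isDefEq.respectTransparency.types false

/-!
# helper99: pushforward along a closed immersion and pseudo-coherence, part 4 (the converse)

* `isPC_of_push` : for a closed immersion `i` with `i_* O` pseudo-coherent,
  `i_* E` `m`-pseudo-coherent ⇒ `E` `m`-pseudo-coherent, for ARBITRARY `E ∈ D(O_Z)`.
-/

set_option autoImplicit false
set_option linter.style.haveILetI false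
universe u
open CategoryTheory CategoryTheory.Limits AlgebraicGeometry HomologicalComplex
  CategoryTheory.Pretriangulated

attribute [local instance] HasDerivedCategory.standard

namespace Groth.Agent.R2.H99.ClosedPC

open DerivedCategory ZeroObject Groth.Agent.R2.H4.Conn Groth.Agent.R2.H4.Perf
  Groth.Agent.R2.H99.PCEngine Groth.Agent.R2.H99.PCDescent
  Groth.Agent.R2.H54.ClosedImmHom Groth.Agent.R2.H54.ClosedImm
  Groth.Agent.Lib.Helper1.PT Scheme.Modules Groth.Agent.R2.H99.AffPush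

section Comp

variable {A B C : Scheme.{u}} (f : A ⟶ B) (g : B ⟶ C) [IsClosedImmersion f] [IsClosedImmersion g]

/-- the derived direct image along a composite of closed immersions. -/
noncomputable def pushDComp : pushD (f ≫ g) ≅ pushD f ⋙ pushD g :=
  mapDerivedCategoryCongr (pushforwardComp f g).symm ≪≫ mapDerivedCategoryComp _ _

end Comp

/-- a faithful functor preserving zero morphisms reflects zero objects. -/
lemma isZero_of_faithful {C D : Type*} [Category C] [Category D] [HasZeroMorphisms C]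
    [HasZeroMorphisms D] (F : C ⥤ D) [F.Faithful] [F.PreservesZeroMorphisms] {M : C}
    (h : IsZero (F.obj M)) : IsZero M := by
  rw [IsZero.iff_id_eq_zero]
  apply F.map_injective
  rw [F.map_zero]
  exact h.eq_of_src _ _

section FT

open Groth.Agent.Lib.Helper23.FinType Groth.Agent.R2.H99.FTDescent

variable {Z X : Scheme.{u}} (i : Z ⟶ X) [IsClosedImmersion i]

set_option backward.isDefEq.respectTransparency false in
/-- a module whose direct image along a closed immersion is of finite type is of finite type. -/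
theorem isFT_of_push (N : Z.Modules) (h : CohB1.IsFT ((pushforward i).obj N)) : CohB1.IsFT N := by
  haveI : SheafOfModules.IsFiniteType (R := X.ringCatSheaf) ((pushforward i).obj N) := h
  obtain ⟨ι, V, gen, hgen, hV, -⟩ := exists_isOpenCover_generatingSections ((pushforward i).obj N)
  apply isFT_of_locally
  intro z
  obtain ⟨k, hk⟩ : ∃ k, i z ∈ V k := by
    have : i z ∈ (⨆ k, V k : X.Opens) := by rw [hV.iSup_eq_top]; trivial
    exact TopologicalSpace.Opens.mem_iSup.1 this
  refine ⟨i ⁻¹ᵁ V k, hk, ?_⟩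
  haveI : PreservesColimitsOfSize.{u, u} (pullback (i ∣_ V k)) :=
    (pullbackPushforwardAdjunction (i ∣_ V k)).leftAdjoint_preservesColimits
  let G1 : ((pushforward (i ∣_ V k)).obj (N.restrict (i ⁻¹ᵁ V k).ι)).GeneratingSections :=
    (gen k).ofEpi ((Groth.Agent.R2.H28.OpenBC.baseChangeIso i (V k)).app N).hom
  let G2 := G1.map (pullback (i ∣_ V k)) (Groth.Agent.Lib.Helper23.PB.pullbackUnitIso (i ∣_ V k)).symm
  haveI : IsIso ((pullbackPushforwardAdjunction (i ∣_ V k)).counit.app (N.restrict (i ⁻¹ᵁ V k).ι)) :=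
    isIso_counit_app (i ∣_ V k) _
  let G3 := G2.ofEpi
    ((pullbackPushforwardAdjunction (i ∣_ V k)).counit.app (N.restrict (i ⁻¹ᵁ V k).ι))
  haveI : G3.IsFiniteType := ⟨(hgen k).finite⟩
  exact isFT_of_generatingSections _ G3

end FT

/-- the predicate for the engine. -/
def Hci (m : ℤ) (U : Scheme.{u}) (K : DCoh.D U) : Prop :=
  ∃ (X' : Scheme.{u}) (i : U ⟶ X') (_ : IsClosedImmersion i),
    pcAll X' (DCoh.inD X' ((pushforward i).obj (Coh.structureModule U))) ∧
    DCoh.IsPseudoCoherentD m ((pushD i).obj K)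

section Axioms

variable (m : ℤ)

lemma hci_of_iso {U : Scheme.{u}} {K K' : DCoh.D U} (e : K ≅ K') (h : Hci m U K) :
    Hci m U K' := by
  obtain ⟨X', i, hi, hO, hpc⟩ := h
  exact ⟨X', i, hi, hO, Groth.Agent.R2.H99.PCDescent2.isPC_of_iso ((pushD i).mapIso e) hpc⟩

lemma hci_restrict {U' U : Scheme.{u}} (j : U' ⟶ U) [IsOpenImmersion j] (K : DCoh.D U)
    (h : Hci m U K) : Hci m U' ((DCoh.restrictD j).obj K) := by
  obtain ⟨X', i, hi, hO, hpc⟩ := h
  obtain ⟨W, hW⟩ := exists_opens_preimage_eq i j.opensRange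
  let e₀ : ((i ⁻¹ᵁ W : U.Opens) : Scheme.{u}) ≅ U' :=
    IsOpenImmersion.isoOfRangeEq (i ⁻¹ᵁ W).ι j (by
      rw [Scheme.Opens.range_ι, hW]; rfl)
  have fac : e₀.hom ≫ j = (i ⁻¹ᵁ W).ι := IsOpenImmersion.isoOfRangeEq_hom_fac _ _ _
  refine ⟨W, e₀.inv ≫ (i ∣_ W), inferInstance, ?_, ?_⟩
  · have h1 := hO_restrict i hO W
    refine (pcAll W).prop_of_iso ((DerivedCategory.singleFunctor _ 0).mapIso ?_) h1
    exact (pushforward (i ∣_ W)).mapIso ((restrictUnitIso e₀.hom).symm ≪≫
      ((pushIsoRestrict e₀.symm).app _).symm) ≪≫ (pushforwardComp e₀.inv (i ∣_ W)).app _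
  · have h1 := isPC_restrict m W.ι _ hpc
    refine Groth.Agent.R2.H99.PCDescent2.isPC_of_iso ?_ h1
    refine (pushRestrictD i W).app K ≪≫ (pushD (i ∣_ W)).mapIso ?_ ≪≫
      ((pushDComp e₀.inv (i ∣_ W)).app _).symm
    exact (restrictDCongr fac.symm).app K ≪≫ (restrictDComp e₀.hom j).app K ≪≫
      ((mapDerivedCategoryCongr (pushIsoRestrict e₀.symm)).app _).symm

lemma hci_cone {U : Scheme.{u}} (T : Triangle (DCoh.D U)) (hT : T ∈ distTriang _)
    (hP : SPRep T.obj₁) (h : Hci m U T.obj₂) : Hci m U T.obj₃ := by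
  obtain ⟨X', i, hi, hO, hpc⟩ := h
  refine ⟨X', i, hi, hO, ?_⟩
  have hT' := (pushD i).map_distinguished T hT
  exact (isPseudoCoherentD_triangle m _ hT').1 (pcAll_push_spRep i hO T.obj₁ hP (m + 1)) hpc

open Groth.Agent.Lib.Helper17.AdjWay in
lemma hci_bdd {U : Scheme.{u}} (K : DCoh.D U) (hU : IsAffine U) (h : Hci m U K) :
    ∃ b : ℤ, K.IsLE b := by
  obtain ⟨X', i, hi, hO, hpc⟩ := h
  rw [isPseudoCoherentD_iff, loc_iff_opens (isLocalPred_spApprox m)] at hpc
  choose W hW hWK using fun u : U => hpc (i u)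
  choose bb hbb using fun u => (hWK u).exists_isLE
  obtain ⟨t, ht⟩ := isCompact_univ.elim_finite_subcover
    (fun u => ((i ⁻¹ᵁ W u : U.Opens) : Set U))
    (fun u => (i ⁻¹ᵁ W u).isOpen) (fun u _ => Set.mem_iUnion.2 ⟨u, hW u⟩)
  obtain ⟨b, hb⟩ := (t.image bb).exists_le
  refine ⟨b, ?_⟩
  rw [DerivedCategory.isLE_iff]
  intro n hn
  apply Groth.Agent.R2.H28.RelPC.isZero_of_cover _ (fun u : t => i ⁻¹ᵁ W u.1)
  · rw [eq_top_iff]
    intro x _
    have h5 := ht (Set.mem_univ x)
    simp only [Set.mem_iUnion] at h5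
    obtain ⟨u, hut, hu⟩ := h5
    exact TopologicalSpace.Opens.mem_iSup.2 ⟨⟨u, hut⟩, hu⟩
  · intro u
    apply isZero_of_faithful (pushforward (i ∣_ W u.1))
    have hle : ((DCoh.restrictD (W u.1).ι).obj ((pushD i).obj K)).IsLE b :=
      DerivedCategory.TStructure.t.isLE_of_le _ (bb u.1) b
        (hb _ (Finset.mem_image_of_mem bb u.2))
    have hz : IsZero (DCoh.HD ((DCoh.restrictD (W u.1).ι).obj ((pushD i).obj K)) n) :=
      DerivedCategory.isZero_of_isLE _ b n hn
    refine IsZero.of_iso hz ?_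
    exact (pushforward (i ∣_ W u.1)).mapIso
        (homologyIso (restrictFunctor (i ⁻¹ᵁ W u.1).ι) K n).symm ≪≫
      (homologyIso (pushforward (i ∣_ W u.1)) _ n).symm ≪≫
      (DerivedCategory.homologyFunctor _ n).mapIso ((pushRestrictD i (W u.1)).app K).symm

open Groth.Agent.Lib.Helper17.AdjWay in
lemma hci_ft {U : Scheme.{u}} (K : DCoh.D U) (b : ℤ) (hb : m ≤ b) (hK : K.IsLE b)
    (h : Hci m U K) : CohB1.IsFT (DCoh.HD K b) := by
  obtain ⟨X', i, hi, hO, hpc⟩ := h
  have h5 : DCoh.IsPseudoCoherentD b ((pushD i).obj K) :=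
    Groth.Agent.R2.H99.PCDescent2.isPC_mono hb hpc
  have hle : ((pushD i).obj K).IsLE b := Groth.Agent.R2.H4.Conn.isLE_map _ K b hK
  have hz : ∀ n : ℤ, b < n → IsZero (DCoh.HD ((pushD i).obj K) n) := fun n hn =>
    DerivedCategory.isZero_of_isLE _ b n hn
  have h6 := (Groth.Agent.R2.H4.PCTop.finiteType_top_cohomology_of_pseudoCoherent b _ h5).1 hz
  exact isFT_of_push i _ (isFT_of_iso' (homologyIso (pushforward i) K b) h6)

/-- the predicate satisfies the axioms of the engine. -/
theorem engine_hci : Engine m (Hci m) where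
  loc := ⟨fun e h => hci_of_iso m e h, fun j _ K h => hci_restrict m j K h⟩
  bdd := fun K hU h => hci_bdd m K hU h
  ft := fun K b hb hK h => hci_ft m K b hb hK h
  cone := fun T hT hP h => hci_cone m T hT hP h

end Axioms

/-- **the converse**: for a closed immersion `i` with `i_* O` pseudo-coherent, an object whose
direct image is `m`-pseudo-coherent is `m`-pseudo-coherent (no quasi-coherence assumption). -/
theorem isPC_of_push {Z X : Scheme.{u}} (i : Z ⟶ X) [IsClosedImmersion i]
    (hO : pcAll X (DCoh.inD X ((pushforward i).obj (Coh.structureModule Z))))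
    (E : DCoh.D Z) (m : ℤ) (h : DCoh.IsPseudoCoherentD m ((pushD i).obj E)) :
    DCoh.IsPseudoCoherentD m E :=
  (engine_hci m).main E ⟨X, i, inferInstance, hO, h⟩

/-- closed immersions with pseudo-coherent `i_* O` detect `m`-pseudo-coherence. -/
theorem isPC_push_iff {Z X : Scheme.{u}} (i : Z ⟶ X) [IsClosedImmersion i]
    (hO : pcAll X (DCoh.inD X ((pushforward i).obj (Coh.structureModule Z))))
    (E : DCoh.D Z) (m : ℤ) :
    DCoh.IsPseudoCoherentD m E ↔ DCoh.IsPseudoCoherentD m ((pushD i).obj E) :=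
  ⟨isPC_push i hO E m, isPC_of_push i hO E m⟩

end Groth.Agent.R2.H99.ClosedPC
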