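import Mathlib
import Groth.Agent.R2.H99ClosedPC4
import Groth.Agent.R2.H99ChartPC1
import Groth.Agent.R2.H99AffPush8
import Groth.Prelude.Def_DerSch2
set_option backward.isDefEq.respectTransparency.types false

/-!
# helper99: relative pseudo-coherence in chart form, part 2

* `hO_of_bpc` : a ring map with pseudo-coherent target gives a closed immersion of spectra with
  pseudo-coherent direct image of the structure sheaf;
* `chartPC_iff` : `ChartPC` in terms of the derived direct image;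
* `chartPC_of_chartPC` : independence of the chart (S7207).
-/

set_option autoImplicit false
set_option linter.style.haveILetI false
universe u
open CategoryTheory CategoryTheory.Limits AlgebraicGeometry HomologicalComplex
  CategoryTheory.Pretriangulated

attribute [local instance] HasDerivedCategory.standard

namespace Groth.Agent.R2.H99.ChartPC

open DerivedCategory ZeroObject Groth.Agent.R2.H4.Conn Groth.Agent.R2.H4.Perf
  Groth.Agent.R2.H99.PCDescent Groth.Agent.R2.H99.ClosedPC
  Groth.Agent.Lib.Helper1.RelPC Groth.Agent.Lib.Helper1.Restrict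
  Scheme.Modules Groth.Agent.R2.H99.AffPush Groth.Agent.R2.H5.PCTilde

section Spec

variable {A B : CommRingCat.{u}} (φ : A ⟶ B)

/-- a surjective ring map with pseudo-coherent target: the direct image of the structure sheaf
along the closed immersion of spectra is pseudo-coherent. -/
lemma hO_of_bpc (hφ : BPC φ.hom) :
    pcAll (Spec A) (DCoh.inD (Spec A)
      ((pushforward (Spec.map φ)).obj (Coh.structureModule (Spec B)))) := by
  intro m
  have iso : DCoh.inD (Spec A) ((pushforward (Spec.map φ)).obj (Coh.structureModule (Spec B))) ≅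
      (DCoh.tildeD A).obj ((G φ.hom).obj (ModuleCat.of B B)) :=
    (DerivedCategory.singleFunctor _ 0).mapIso
        ((pushforward (Spec.map φ)).mapIso (tildeSelf (R := B)).symm ≪≫
          (tildePushIso φ).app (ModuleCat.of B B)) ≪≫
      (((tilde.functor A).mapDerivedCategorySingleFunctor 0).app _).symm
  exact Groth.Agent.R2.H99.PCDescent2.isPC_of_iso iso.symm
    ((isPseudoCoherentD_tildeD_iff _ m).2 (hφ m))

end Spec

section Chart

variable {X Y : Scheme.{u}}

lemma isPC_pushD_congr {Z W : Scheme.{u}} {f g : Z ⟶ W} (h : f = g) [IsClosedImmersion f]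
    [IsClosedImmersion g] (K : DCoh.D Z) (m : ℤ) :
    DCoh.IsPseudoCoherentD m ((pushD f).obj K) ↔ DCoh.IsPseudoCoherentD m ((pushD g).obj K) := by
  subst h
  rfl

/-- `ChartPC` through the derived direct image of the restriction. -/
theorem chartPC_iff (U : X.Opens) (hU : IsAffineOpen U) (V : Y.Opens) {n : ℕ}
    (φ : MvPolynomial (Fin n) Γ(Y, V) →+* Γ(X, U)) (hφ : Function.Surjective φ) (m : ℤ)
    (K : DCoh.D X) :
    haveI := Groth.Agent.R2.H28.RelPC.isClosedImmersion_chartImm U hU φ hφ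
    DerSch.ChartPC m K U V φ ↔
      DCoh.IsPseudoCoherentD m ((pushD (DerSch.chartImm U φ)).obj ((DCoh.restrictD U.ι).obj K)) := by
  haveI := Groth.Agent.R2.H28.RelPC.isClosedImmersion_chartImm U hU φ hφ
  have key : ∀ (G : CochainComplex X.Modules ℤ) (e : DCoh.toD X G ≅ K),
      (pushD (DerSch.chartImm U φ)).obj ((DCoh.restrictD U.ι).obj K) ≅
        DCoh.toD _ ((DerSch.pushCx (DerSch.chartImm U φ)).obj ((DCoh.restrictCx U).obj G)) :=
    fun G e =>
      (pushD (DerSch.chartImm U φ)).mapIso ((DCoh.restrictD U.ι).mapIso e.symm ≪≫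
        (restrictFunctor U.ι).mapDerivedCategoryFactors.app G) ≪≫
      (pushforward (DerSch.chartImm U φ)).mapDerivedCategoryFactors.app _
  constructor
  · intro h
    exact Groth.Agent.R2.H99.PCDescent2.isPC_of_iso
      (key (Q.objPreimage K) (Q.objObjPreimageIso K)).symm
      (h (Q.objPreimage K) ⟨Q.objObjPreimageIso K⟩)
  · intro h G ⟨e⟩
    exact Groth.Agent.R2.H99.PCDescent2.isPC_of_iso (key G e) h

/-- enlarging a chart through a surjection with pseudo-coherent target. -/
theorem isPC_chart_lift_iff (U : X.Opens) (hU : IsAffineOpen U) {P T : Type u} [CommRing P]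
    [CommRing T] (φ : P →+* Γ(X, U)) (hφ : Function.Surjective φ)
    (σ : T →+* P) (hσ : Function.Surjective σ) (hb : BPC σ) (m : ℤ) (K : DCoh.D U)
    [IsClosedImmersion (U.toSpecΓ ≫ Spec.map (CommRingCat.ofHom φ))]
    [IsClosedImmersion (U.toSpecΓ ≫ Spec.map (CommRingCat.ofHom (φ.comp σ)))] :
    DCoh.IsPseudoCoherentD m ((pushD (U.toSpecΓ ≫ Spec.map (CommRingCat.ofHom φ))).obj K) ↔
      DCoh.IsPseudoCoherentD m
        ((pushD (U.toSpecΓ ≫ Spec.map (CommRingCat.ofHom (φ.comp σ)))).obj K) := by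
  haveI : IsClosedImmersion (Spec.map (CommRingCat.ofHom σ)) :=
    IsClosedImmersion.spec_of_surjective _ hσ
  have hO := hO_of_bpc (CommRingCat.ofHom σ) hb
  have h1 := isPC_push_iff (Spec.map (CommRingCat.ofHom σ)) hO
    ((pushD (U.toSpecΓ ≫ Spec.map (CommRingCat.ofHom φ))).obj K) m
  rw [h1]
  have fac : (U.toSpecΓ ≫ Spec.map (CommRingCat.ofHom φ)) ≫ Spec.map (CommRingCat.ofHom σ) =
      U.toSpecΓ ≫ Spec.map (CommRingCat.ofHom (φ.comp σ)) := by
    rw [Category.assoc, ← Spec.map_comp]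
    rfl
  haveI : IsClosedImmersion ((U.toSpecΓ ≫ Spec.map (CommRingCat.ofHom φ)) ≫
      Spec.map (CommRingCat.ofHom σ)) := inferInstance
  rw [← isPC_pushD_congr fac K m]
  have e := (pushDComp (U.toSpecΓ ≫ Spec.map (CommRingCat.ofHom φ))
    (Spec.map (CommRingCat.ofHom σ))).app K
  exact ⟨Groth.Agent.R2.H99.PCDescent2.isPC_of_iso e.symm,
    Groth.Agent.R2.H99.PCDescent2.isPC_of_iso e⟩

lemma isClosedImmersion_toSpecΓ_comp (U : X.Opens) (hU : IsAffineOpen U) {P : Type u} [CommRing P]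
    (φ : P →+* Γ(X, U)) (hφ : Function.Surjective φ) :
    IsClosedImmersion (U.toSpecΓ ≫ Spec.map (CommRingCat.ofHom φ)) := by
  haveI : IsIso U.toSpecΓ := by rw [← hU.isoSpec_hom]; infer_instance
  haveI : IsClosedImmersion (Spec.map (CommRingCat.ofHom φ)) :=
    IsClosedImmersion.spec_of_surjective _ hφ
  infer_instance

/-- **S7207**: independence of the chart. -/
theorem chartPC_of_chartPC (U : X.Opens) (hU : IsAffineOpen U) (V : Y.Opens) (m : ℤ)
    (E : DCoh.D X) {n : ℕ} (φ : MvPolynomial (Fin n) Γ(Y, V) →+* Γ(X, U))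
    (hφ : Function.Surjective φ) (hE : DerSch.ChartPC m E U V φ)
    {k : ℕ} (ψ : MvPolynomial (Fin k) Γ(Y, V) →+* Γ(X, U)) (hψ : Function.Surjective ψ)
    (hC : φ.comp MvPolynomial.C = ψ.comp MvPolynomial.C) :
    DerSch.ChartPC m E U V ψ := by
  obtain ⟨T, _, σ₁, σ₂, hs₁, hs₂, hb₁, hb₂, hcomp⟩ := exists_common_lift φ hφ ψ hψ hC
  haveI := isClosedImmersion_toSpecΓ_comp U hU φ hφ
  haveI := isClosedImmersion_toSpecΓ_comp U hU ψ hψ
  haveI := isClosedImmersion_toSpecΓ_comp U hU (φ.comp σ₁) (hφ.comp hs₁)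
  haveI := isClosedImmersion_toSpecΓ_comp U hU (ψ.comp σ₂) (hψ.comp hs₂)
  rw [chartPC_iff U hU V φ hφ m E] at hE
  rw [chartPC_iff U hU V ψ hψ m E]
  have h1 := (isPC_chart_lift_iff U hU φ hφ σ₁ hs₁ hb₁ m ((DCoh.restrictD U.ι).obj E)).1 hE
  have heq : U.toSpecΓ ≫ Spec.map (CommRingCat.ofHom (φ.comp σ₁)) =
      U.toSpecΓ ≫ Spec.map (CommRingCat.ofHom (ψ.comp σ₂)) := by rw [hcomp]
  rw [isPC_pushD_congr heq] at h1
  exact (isPC_chart_lift_iff U hU ψ hψ σ₂ hs₂ hb₂ m ((DCoh.restrictD U.ι).obj E)).2 h1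

end Chart

end Groth.Agent.R2.H99.ChartPC
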