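import Mathlib
import Groth.Agent.R2.H99ChartPC2
set_option backward.isDefEq.respectTransparency.types false

/-!
# helper99: relative pseudo-coherence in chart form, part 3

* `pushDIsoRestrictD e : pushD e.hom ≅ restrictD e.inv` for an isomorphism of schemes;
* `pushRestrictGen` : base change of the derived direct image along a closed immersion for a
  general cartesian square of open immersions.
-/

set_option autoImplicit false
set_option linter.style.haveILetI false
universe u
open CategoryTheory CategoryTheory.Limits AlgebraicGeometry HomologicalComplex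
  CategoryTheory.Pretriangulated

attribute [local instance] HasDerivedCategory.standard

namespace Groth.Agent.R2.H99.ChartPC

open DerivedCategory ZeroObject Groth.Agent.R2.H4.Conn Groth.Agent.R2.H4.Perf
  Groth.Agent.R2.H99.PCDescent Groth.Agent.R2.H99.ClosedPC
  Scheme.Modules Groth.Agent.R2.H99.AffPush

section Iso

variable {A B : Scheme.{u}} (e : A ≅ B)

/-- the derived direct image along an isomorphism is the restriction along its inverse. -/
noncomputable def pushDIsoRestrictD : pushD e.hom ≅ DCoh.restrictD e.inv :=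
  mapDerivedCategoryCongr (pushIsoRestrict e)

end Iso

section Gen

variable {Z X' W' Z' : Scheme.{u}} (i : Z ⟶ X') [IsClosedImmersion i]
  (jX : W' ⟶ X') [IsOpenImmersion jX] (jZ : Z' ⟶ Z) [IsOpenImmersion jZ]
  (i' : Z' ⟶ W') [IsClosedImmersion i']

/-- base change of the derived direct image along a closed immersion, for a cartesian square
whose vertical maps are open immersions. -/
theorem nonempty_pushRestrictGen (comm : i' ≫ jX = jZ ≫ i)
    (hr : Set.range jZ = i ⁻¹' (Set.range jX)) (K : DCoh.D Z) :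
    Nonempty ((DCoh.restrictD jX).obj ((pushD i).obj K) ≅
      (pushD i').obj ((DCoh.restrictD jZ).obj K)) := by
  let W : X'.Opens := jX.opensRange
  let eW : W' ≅ (W : Scheme.{u}) :=
    IsOpenImmersion.isoOfRangeEq jX W.ι (by rw [Scheme.Opens.range_ι]; rfl)
  have facW : eW.hom ≫ W.ι = jX := IsOpenImmersion.isoOfRangeEq_hom_fac _ _ _
  let eZ : Z' ≅ ((i ⁻¹ᵁ W : Z.Opens) : Scheme.{u}) :=
    IsOpenImmersion.isoOfRangeEq jZ (i ⁻¹ᵁ W).ι (by rw [Scheme.Opens.range_ι, hr]; rfl)
  have facZ : eZ.hom ≫ (i ⁻¹ᵁ W).ι = jZ := IsOpenImmersion.isoOfRangeEq_hom_fac _ _ _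
  have hi' : i' = eZ.hom ≫ (i ∣_ W) ≫ eW.inv := by
    rw [← cancel_mono jX, comm, Category.assoc, Category.assoc, ← facW, Iso.inv_hom_id_assoc,
      morphismRestrict_ι, reassoc_of% facZ]
  subst hi'
  have facZ' : eZ.inv ≫ jZ = (i ⁻¹ᵁ W).ι := by rw [← facZ, Iso.inv_hom_id_assoc]
  -- the chain of isomorphisms
  have e1 : (DCoh.restrictD jX).obj ((pushD i).obj K) ≅
      (DCoh.restrictD eW.hom).obj ((DCoh.restrictD W.ι).obj ((pushD i).obj K)) :=
    (restrictDCongr facW.symm).app _ ≪≫ (restrictDComp eW.hom W.ι).app _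
  have e2 : (DCoh.restrictD W.ι).obj ((pushD i).obj K) ≅
      (pushD (i ∣_ W)).obj ((DCoh.restrictD (i ⁻¹ᵁ W).ι).obj K) := (pushRestrictD i W).app K
  have e3 : (DCoh.restrictD (i ⁻¹ᵁ W).ι).obj K ≅
      (pushD eZ.hom).obj ((DCoh.restrictD jZ).obj K) :=
    (restrictDCongr facZ'.symm).app _ ≪≫ (restrictDComp eZ.inv jZ).app _ ≪≫
      ((pushDIsoRestrictD eZ).app _).symm
  have e4 : (DCoh.restrictD eW.hom).obj
        ((pushD (i ∣_ W)).obj ((pushD eZ.hom).obj ((DCoh.restrictD jZ).obj K))) ≅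
      (pushD eW.inv).obj
        ((pushD (i ∣_ W)).obj ((pushD eZ.hom).obj ((DCoh.restrictD jZ).obj K))) :=
    ((pushDIsoRestrictD eW.symm).app _).symm
  have e5 : (pushD eW.inv).obj
        ((pushD (i ∣_ W)).obj ((pushD eZ.hom).obj ((DCoh.restrictD jZ).obj K))) ≅
      (pushD (eZ.hom ≫ (i ∣_ W) ≫ eW.inv)).obj ((DCoh.restrictD jZ).obj K) :=
    ((pushDComp (i ∣_ W) eW.inv).app _).symm ≪≫
      ((pushDComp eZ.hom ((i ∣_ W) ≫ eW.inv)).app _).symm
  exact ⟨e1 ≪≫ (DCoh.restrictD eW.hom).mapIso (e2 ≪≫ (pushD (i ∣_ W)).mapIso e3) ≪≫ e4 ≪≫ e5⟩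

end Gen

end Groth.Agent.R2.H99.ChartPC
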