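import Mathlib
import Groth.Agent.R2.H99ChartPC3
set_option backward.isDefEq.respectTransparency.types false

/-!
# helper99: relative pseudo-coherence in chart form, part 4

* `PCvia U hU φ hφ m K` : `K|_U` pushed forward along `U ≅ Spec Γ(U) ↪ Spec P` is `m`-pseudo-coherent;
* `pcVia_lift_iff` : invariance under enlarging `P` through a surjection with pseudo-coherent
  target;
* `awayLift`, `pcVia_basicOpen` : passage to a principal open of `U`.
-/

set_option autoImplicit false
set_option linter.style.haveILetI false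
universe u
open CategoryTheory CategoryTheory.Limits AlgebraicGeometry HomologicalComplex
  CategoryTheory.Pretriangulated

attribute [local instance] HasDerivedCategory.standard

namespace Groth.Agent.R2.H99.ChartPC

open DerivedCategory ZeroObject Groth.Agent.R2.H4.Conn Groth.Agent.R2.H4.Perf
  Groth.Agent.R2.H99.PCDescent Groth.Agent.R2.H99.ClosedPC
  Groth.Agent.Lib.Helper1.RelPC Groth.Agent.Lib.Helper1.Restrict
  Scheme.Modules Groth.Agent.R2.H99.AffPush

variable {X : Scheme.{u}}

/-- the closed immersion attached to a surjection onto the ring of an affine open. -/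
noncomputable abbrev cImm (U : X.Opens) {P : Type u} [CommRing P] (φ : P →+* Γ(X, U)) :
    (U : Scheme.{u}) ⟶ Spec (CommRingCat.of P) :=
  U.toSpecΓ ≫ Spec.map (CommRingCat.ofHom φ)

/-- pseudo-coherence through a presentation of the ring of an affine open. -/
def PCvia (U : X.Opens) (hU : IsAffineOpen U) {P : Type u} [CommRing P] (φ : P →+* Γ(X, U))
    (hφ : Function.Surjective φ) (m : ℤ) (K : DCoh.D X) : Prop :=
  haveI := isClosedImmersion_toSpecΓ_comp U hU φ hφ
  DCoh.IsPseudoCoherentD m ((pushD (cImm U φ)).obj ((DCoh.restrictD U.ι).obj K))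

lemma chartPC_iff_pcVia {Y : Scheme.{u}} (U : X.Opens) (hU : IsAffineOpen U) (V : Y.Opens) {n : ℕ}
    (φ : MvPolynomial (Fin n) Γ(Y, V) →+* Γ(X, U)) (hφ : Function.Surjective φ) (m : ℤ)
    (K : DCoh.D X) : DerSch.ChartPC m K U V φ ↔ PCvia U hU φ hφ m K :=
  chartPC_iff U hU V φ hφ m K

/-- enlarging the presentation through a surjection with pseudo-coherent target. -/
theorem pcVia_lift_iff (U : X.Opens) (hU : IsAffineOpen U) {P T : Type u} [CommRing P]
    [CommRing T] (φ : P →+* Γ(X, U)) (hφ : Function.Surjective φ)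
    (σ : T →+* P) (hσ : Function.Surjective σ) (hb : BPC σ) (m : ℤ) (K : DCoh.D X) :
    PCvia U hU φ hφ m K ↔ PCvia U hU (φ.comp σ) (hφ.comp hσ) m K := by
  haveI := isClosedImmersion_toSpecΓ_comp U hU φ hφ
  haveI := isClosedImmersion_toSpecΓ_comp U hU (φ.comp σ) (hφ.comp hσ)
  exact isPC_chart_lift_iff U hU φ hφ σ hσ hb m _

/-- two presentations with the same composite. -/
lemma pcVia_congr (U : X.Opens) (hU : IsAffineOpen U) {P : Type u} [CommRing P]
    {φ φ' : P →+* Γ(X, U)} (h : φ = φ') (hφ : Function.Surjective φ) (m : ℤ) (K : DCoh.D X) :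
    PCvia U hU φ hφ m K ↔ PCvia U hU φ' (h ▸ hφ) m K := by
  subst h
  rfl

section Away

variable (U : X.Opens) (hU : IsAffineOpen U) {P : Type u} [CommRing P] (φ : P →+* Γ(X, U))
  (g : P)

/-- restriction to the basic open -/
noncomputable abbrev resBasic : Γ(X, U) →+* Γ(X, X.basicOpen (φ g)) :=
  (X.presheaf.map (homOfLE (X.basicOpen_le (φ g))).op).hom

/-- the induced presentation of the ring of the basic open `D(φ g)`. -/
lemma isUnit_resBasic : IsUnit (((resBasic U φ g).comp φ) g) :=
  X.toRingedSpace.isUnit_res_basicOpen (φ g)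

noncomputable def awayLift : Localization.Away g →+* Γ(X, X.basicOpen (φ g)) :=
  IsLocalization.Away.lift (S := Localization.Away g) g (g := (resBasic U φ g).comp φ)
    (isUnit_resBasic U φ g)

lemma awayLift_comp :
    (awayLift U φ g).comp (algebraMap P (Localization.Away g)) = (resBasic U φ g).comp φ := by
  ext p
  exact IsLocalization.Away.lift_eq g (isUnit_resBasic U φ g) p

include hU in
lemma awayLift_surjective (hφ : Function.Surjective φ) :
    Function.Surjective (awayLift U φ g) := by
  haveI := hU.isLocalization_basicOpen (φ g)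
  intro b'
  obtain ⟨⟨b, ⟨_, k, rfl⟩⟩, hb⟩ := IsLocalization.surj (Submonoid.powers (φ g)) b'
  obtain ⟨p, rfl⟩ := hφ b
  have hu : IsUnit (resBasic U φ g (φ g)) := X.toRingedSpace.isUnit_res_basicOpen (φ g)
  refine ⟨IsLocalization.mk' (M := Submonoid.powers g) (Localization.Away g) p ⟨g ^ k, k, rfl⟩, ?_⟩
  have h1 : awayLift U φ g (IsLocalization.mk' (Localization.Away g) p
      (⟨g ^ k, k, rfl⟩ : Submonoid.powers g)) * awayLift U φ g (algebraMap P _ (g ^ k)) =
      awayLift U φ g (algebraMap P _ p) := by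
    rw [← map_mul, IsLocalization.mk'_spec]
  have h2 : ∀ q : P, awayLift U φ g (algebraMap P _ q) = resBasic U φ g (φ q) := fun q =>
    congrArg (fun F => F q) (awayLift_comp U φ g)
  rw [h2, h2] at h1
  have hb' : b' * resBasic U φ g (φ (g ^ k)) = resBasic U φ g (φ p) := by
    simpa [RingHom.algebraMap_toAlgebra] using hb
  have hu' : IsUnit (resBasic U φ g (φ (g ^ k))) := by
    rw [map_pow, map_pow]; exact hu.pow k
  exact hu'.mul_left_injective (h1.trans hb'.symm)

include hU in
/-- **passage to a principal open** of the affine open `U`. -/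
theorem pcVia_basicOpen (hφ : Function.Surjective φ) (m : ℤ) (K : DCoh.D X)
    (h : PCvia U hU φ hφ m K) :
    PCvia (X.basicOpen (φ g)) (hU.basicOpen (φ g)) (awayLift U φ g)
      (awayLift_surjective U hU φ g hφ) m K := by
  haveI := isClosedImmersion_toSpecΓ_comp U hU φ hφ
  haveI := isClosedImmersion_toSpecΓ_comp (X.basicOpen (φ g)) (hU.basicOpen (φ g))
    (awayLift U φ g) (awayLift_surjective U hU φ g hφ)
  let jX : Spec (CommRingCat.of (Localization.Away g)) ⟶ Spec (CommRingCat.of P) :=
    Spec.map (CommRingCat.ofHom (algebraMap P (Localization.Away g)))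
  let jZ : ((X.basicOpen (φ g) : X.Opens) : Scheme.{u}) ⟶ (U : Scheme.{u}) :=
    X.homOfLE (X.basicOpen_le (φ g))
  have comm : cImm (X.basicOpen (φ g)) (awayLift U φ g) ≫ jX = jZ ≫ cImm U φ := by
    have h1 : (X.basicOpen (φ g)).toSpecΓ ≫
        Spec.map (X.presheaf.map (homOfLE (X.basicOpen_le (φ g))).op) = jZ ≫ U.toSpecΓ :=
      Scheme.Opens.toSpecΓ_SpecMap_presheaf_map _ _ _
    have h2 : CommRingCat.ofHom (algebraMap P (Localization.Away g)) ≫
        CommRingCat.ofHom (awayLift U φ g) =
        CommRingCat.ofHom φ ≫ X.presheaf.map (homOfLE (X.basicOpen_le (φ g))).op := by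
      ext p
      exact congrArg (fun F => F p) (awayLift_comp U φ g)
    simp only [cImm, jX, Category.assoc, ← Spec.map_comp]
    rw [h2, Spec.map_comp, reassoc_of% h1]
  have hr : Set.range jZ = cImm U φ ⁻¹' (Set.range jX) := by
    have e1 : Set.range jZ = ((U.ι ⁻¹ᵁ X.basicOpen (φ g) : (U : Scheme.{u}).Opens) : Set U) := by
      rw [← Scheme.opensRange_homOfLE (X.basicOpen_le (φ g))]; rfl
    have e2 : Set.range jX =
        ((show (Spec (CommRingCat.of P)).Opens from PrimeSpectrum.basicOpen g) :
          Set (Spec (CommRingCat.of P))) := by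
      rw [← Scheme.Hom.opensRange_localizationAway (R := CommRingCat.of P) g]; rfl
    rw [e1, e2, ← Scheme.Opens.toSpecΓ_preimage_basicOpen]
    rfl
  obtain ⟨e⟩ := nonempty_pushRestrictGen (cImm U φ) jX jZ
    (cImm (X.basicOpen (φ g)) (awayLift U φ g)) comm hr ((DCoh.restrictD U.ι).obj K)
  have h1 := Groth.Agent.R2.H99.PCDescent.isPC_restrict m jX _ h
  refine Groth.Agent.R2.H99.PCDescent2.isPC_of_iso (e ≪≫ (pushD _).mapIso ?_) h1
  exact ((restrictDComp jZ U.ι).app K).symm ≪≫ (restrictDCongr (X.homOfLE_ι _)).app K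

end Away

end Groth.Agent.R2.H99.ChartPC
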