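import Mathlib
import Groth.Agent.R2.H99ChartPC4
import Groth.Agent.Lib.Helper1LocBC
set_option backward.isDefEq.respectTransparency.types false

/-!
# helper99: relative pseudo-coherence in chart form, part 5

* `exists_away_pres` : presentation `Q[T] ↠ Q'` of a localization away from an element;
* `exists_chart_basicOpen` : from a chart on `U` to a chart on a principal open of `U`;
* `exists_chart_base` : from a chart over a principal open `D(r)` of the base to a chart over `V`.
-/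

set_option autoImplicit false
set_option linter.style.haveILetI false
universe u
open CategoryTheory CategoryTheory.Limits AlgebraicGeometry HomologicalComplex
  CategoryTheory.Pretriangulated

attribute [local instance] HasDerivedCategory.standard

namespace Groth.Agent.R2.H99.ChartPC

open DerivedCategory ZeroObject Groth.Agent.R2.H99.ClosedPC
  Groth.Agent.Lib.Helper1.RelPC Groth.Agent.Lib.Helper1.Restrict Groth.Agent.Lib.Helper1.LocBC

/-- presentation of a localization away from an element. -/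
theorem exists_away_pres {Q Q' : Type u} [CommRing Q] [CommRing Q'] [Algebra Q Q'] (q : Q)
    [IsLocalization.Away q Q'] :
    ∃ σ : Polynomial Q →+* Q', Function.Surjective σ ∧ BPC σ ∧
      σ.comp Polynomial.C = algebraMap Q Q' := by
  let e : Localization.Away q ≃ₐ[Q] Q' :=
    IsLocalization.algEquiv (Submonoid.powers q) (Localization.Away q) Q'
  refine ⟨e.toRingEquiv.toRingHom.comp (awayPres₀ q), ?_, ?_, ?_⟩
  · exact e.surjective.comp (awayPres₀_surjective q)
  · exact bpc_comp _ _ (bpc_awayPres₀ q) (bpc_of_bijective _ e.bijective)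
  · ext a
    show e (awayPres₀ q (Polynomial.C a)) = _
    rw [awayPres₀_C, AlgEquiv.commutes]

variable {X Y : Scheme.{u}} (f : X ⟶ Y)

/-- **chart on a principal open of `U`** from a chart on `U`. -/
theorem exists_chart_basicOpen (U : X.Opens) (hU : IsAffineOpen U) (V : Y.Opens)
    (h : U ≤ f ⁻¹ᵁ V) (m : ℤ) (E : DCoh.D X) {n : ℕ}
    (φ : MvPolynomial (Fin n) Γ(Y, V) →+* Γ(X, U)) (hφ : DerSch.IsChart f U V h φ)
    (hE : DerSch.ChartPC m E U V φ) (g : MvPolynomial (Fin n) Γ(Y, V))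
    (h' : X.basicOpen (φ g) ≤ f ⁻¹ᵁ V) :
    ∃ ψ : MvPolynomial (Fin (n + 1)) Γ(Y, V) →+* Γ(X, X.basicOpen (φ g)),
      DerSch.IsChart f (X.basicOpen (φ g)) V h' ψ ∧
        DerSch.ChartPC m E (X.basicOpen (φ g)) V ψ := by
  have h1 := (chartPC_iff_pcVia U hU V φ hφ.1 m E).1 hE
  have h2 := pcVia_basicOpen U hU φ g hφ.1 m E h1
  have h3 := (pcVia_lift_iff _ (hU.basicOpen (φ g)) (awayLift U φ g)
    (awayLift_surjective U hU φ g hφ.1) (awayPres₀ g) (awayPres₀_surjective g)
    (bpc_awayPres₀ g) m E).1 h2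
  let ε : MvPolynomial (Fin (n + 1)) Γ(Y, V) →+* Polynomial (MvPolynomial (Fin n) Γ(Y, V)) :=
    (MvPolynomial.finSuccEquiv Γ(Y, V) n).toRingEquiv.toRingHom
  have hε : Function.Bijective ε := (MvPolynomial.finSuccEquiv Γ(Y, V) n).bijective
  have h4 := (pcVia_lift_iff _ (hU.basicOpen (φ g)) ((awayLift U φ g).comp (awayPres₀ g))
    ((awayLift_surjective U hU φ g hφ.1).comp (awayPres₀_surjective g)) ε hε.2
    (bpc_of_bijective ε hε) m E).1 h3
  refine ⟨((awayLift U φ g).comp (awayPres₀ g)).comp ε,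
    ⟨((awayLift_surjective U hU φ g hφ.1).comp (awayPres₀_surjective g)).comp hε.2, ?_⟩,
    (chartPC_iff_pcVia _ (hU.basicOpen (φ g)) V _ _ m E).2 h4⟩
  ext a
  have e1 : ε (MvPolynomial.C a) = Polynomial.C (MvPolynomial.C a) := by
    simp [ε, MvPolynomial.finSuccEquiv_apply]
  have e2 : awayLift U φ g (algebraMap _ _ (MvPolynomial.C a)) =
      resBasic U φ g (φ (MvPolynomial.C a)) :=
    congrArg (fun F => F (MvPolynomial.C a)) (awayLift_comp U φ g)
  have e3 : φ (MvPolynomial.C a) = (f.appLE V U h).hom a :=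
    congrArg (fun F => F a) hφ.2
  show awayLift U φ g (awayPres₀ g (ε (MvPolynomial.C a))) = _
  rw [e1, awayPres₀_C, e2, e3]
  show (f.appLE V U h ≫ X.presheaf.map (homOfLE (X.basicOpen_le (φ g))).op).hom a = _
  rw [Scheme.Hom.appLE_map]

attribute [local instance] MvPolynomial.algebraMvPolynomial in
/-- **chart over `V`** from a chart over a principal open `D(r)` of the affine open `V`. -/
theorem exists_chart_base (V : Y.Opens) (hV : IsAffineOpen V) (r : Γ(Y, V)) (U : X.Opens)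
    (hU : IsAffineOpen U) (hUr : U ≤ f ⁻¹ᵁ Y.basicOpen r) (hUV : U ≤ f ⁻¹ᵁ V) (m : ℤ)
    (E : DCoh.D X) {n : ℕ} (φ : MvPolynomial (Fin n) Γ(Y, Y.basicOpen r) →+* Γ(X, U))
    (hφ : DerSch.IsChart f U (Y.basicOpen r) hUr φ)
    (hE : DerSch.ChartPC m E U (Y.basicOpen r) φ) :
    ∃ ψ : MvPolynomial (Fin (n + 1)) Γ(Y, V) →+* Γ(X, U),
      DerSch.IsChart f U V hUV ψ ∧ DerSch.ChartPC m E U V ψ := by
  haveI := hV.isLocalization_basicOpen r
  haveI : IsLocalization.Away (MvPolynomial.C r : MvPolynomial (Fin n) Γ(Y, V))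
      (MvPolynomial (Fin n) Γ(Y, Y.basicOpen r)) := by
    have := MvPolynomial.isLocalization (σ := Fin n) (Submonoid.powers r) Γ(Y, Y.basicOpen r)
    rwa [Submonoid.map_powers] at this
  obtain ⟨σ, hσs, hσb, hσC⟩ := exists_away_pres
    (Q := MvPolynomial (Fin n) Γ(Y, V)) (Q' := MvPolynomial (Fin n) Γ(Y, Y.basicOpen r))
    (MvPolynomial.C r)
  have h1 := (chartPC_iff_pcVia U hU (Y.basicOpen r) φ hφ.1 m E).1 hE
  have h2 := (pcVia_lift_iff U hU φ hφ.1 σ hσs hσb m E).1 h1
  let ε : MvPolynomial (Fin (n + 1)) Γ(Y, V) →+* Polynomial (MvPolynomial (Fin n) Γ(Y, V)) :=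
    (MvPolynomial.finSuccEquiv Γ(Y, V) n).toRingEquiv.toRingHom
  have hε : Function.Bijective ε := (MvPolynomial.finSuccEquiv Γ(Y, V) n).bijective
  have h3 := (pcVia_lift_iff U hU (φ.comp σ) (hφ.1.comp hσs) ε hε.2
    (bpc_of_bijective ε hε) m E).1 h2
  refine ⟨(φ.comp σ).comp ε, ⟨(hφ.1.comp hσs).comp hε.2, ?_⟩,
    (chartPC_iff_pcVia U hU V _ _ m E).2 h3⟩
  ext a
  have e1 : ε (MvPolynomial.C a) = Polynomial.C (MvPolynomial.C a) := by
    simp [ε, MvPolynomial.finSuccEquiv_apply]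
  have e2 : σ (Polynomial.C (MvPolynomial.C a)) =
      MvPolynomial.C (algebraMap Γ(Y, V) Γ(Y, Y.basicOpen r) a) := by
    have := congrArg (fun F => F (MvPolynomial.C a)) hσC
    simp only [RingHom.comp_apply] at this
    rw [this, MvPolynomial.algebraMap_def, MvPolynomial.map_C]
  have e3 : ∀ b, φ (MvPolynomial.C b) = (f.appLE (Y.basicOpen r) U hUr).hom b := fun b =>
    congrArg (fun F => F b) hφ.2
  show φ (σ (ε (MvPolynomial.C a))) = _
  rw [e1, e2, e3]
  show (Y.presheaf.map (homOfLE (Y.basicOpen_le r)).op ≫ f.appLE (Y.basicOpen r) U hUr).hom a = _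
  rw [Scheme.Hom.map_appLE]

end Groth.Agent.R2.H99.ChartPC
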