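/-
Helper library (helper99): base change of `H¹(L_{S/R})` along an extension `S → T` which lifts to a
formally étale map of formally smooth extensions.
-/
import Mathlib

set_option autoImplicit false
set_option backward.isDefEq.respectTransparency false
set_option linter.style.haveILetI false
set_option linter.unusedSectionVars false
universe u
open TensorProduct Algebra

namespace Groth.Agent.R2.H99.H1CotStdEtale

section General

variable {R S T : Type u} [CommRing R] [CommRing S] [CommRing T]
variable [Algebra R S] [Algebra R T] [Algebra S T] [IsScalarTower R S T]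

/-- The canonical hom from the standard extension to any extension. -/
noncomputable def selfHom (Q : Extension.{u} R T) : (Generators.self R T).toExtension.Hom Q where
  toRingHom := (MvPolynomial.aeval Q.σ).toRingHom
  toRingHom_algebraMap := (MvPolynomial.aeval Q.σ).commutes
  algebraMap_toRingHom := by
    have : (IsScalarTower.toAlgHom R Q.Ring T).comp (MvPolynomial.aeval Q.σ) =
        IsScalarTower.toAlgHom _ (Generators.self R T).toExtension.Ring _ := by
      ext i
      change _ = algebraMap (Generators.self R T).Ring _ (.X i)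
      simp
    exact DFunLike.congr_fun this

theorem map_equivH1Cotangent (P : Extension.{u} R S) (Q : Extension.{u} R T)
    [FormallySmooth R P.Ring] [FormallySmooth R Q.Ring] (f : P.Hom Q) (x : P.H1Cotangent) :
    Algebra.H1Cotangent.map R R S T (P.equivH1CotangentOfFormallySmooth x) =
      Q.equivH1CotangentOfFormallySmooth (Extension.H1Cotangent.map f x) := by
  obtain ⟨y, rfl⟩ := P.equivH1CotangentOfFormallySmooth.symm.surjective x
  rw [LinearEquiv.apply_symm_apply, ← LinearEquiv.symm_apply_eq]
  haveI : FormallySmooth R (Generators.self R S).toExtension.Ring :=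
    inferInstanceAs (FormallySmooth R (MvPolynomial _ _))
  haveI : FormallySmooth R (Generators.self R T).toExtension.Ring :=
    inferInstanceAs (FormallySmooth R (MvPolynomial _ _))
  unfold Extension.equivH1CotangentOfFormallySmooth
  rw [Extension.H1Cotangent.equivOfFormallySmooth_symm,
    Extension.H1Cotangent.equivOfFormallySmooth_symm,
    Extension.H1Cotangent.equivOfFormallySmooth_apply (f := selfHom Q),
    Extension.H1Cotangent.equivOfFormallySmooth_apply (f := selfHom P)]
  rw [Algebra.H1Cotangent.map, ← Extension.H1Cotangent.map_comp_apply,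
    ← Extension.H1Cotangent.map_comp_apply]
  exact congr($(Extension.H1Cotangent.map_eq _ _) y)

/-- If `Q.Ring` is flat over `P.Ring` and `ker Q ≤ ker P · Q.Ring` then `Q ⊗ ker P → ker Q` is
bijective. -/
theorem bijective_mapKer_liftBaseChange {P : Extension.{u} R S} {Q : Extension.{u} R T}
    (f : P.Hom Q) [alg : Algebra P.Ring Q.Ring] (halg : algebraMap P.Ring Q.Ring = f.toRingHom)
    [Module.Flat P.Ring Q.Ring] (hker : Q.ker ≤ P.ker.map (algebraMap P.Ring Q.Ring)) :
    Function.Bijective ((f.mapKer halg).liftBaseChange Q.Ring) := by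
  constructor
  · -- injective, by flatness
    have h1 : Function.Injective
        (LinearMap.lTensor Q.Ring (P.ker.subtype : P.ker →ₗ[P.Ring] P.Ring)) :=
      Module.Flat.lTensor_preserves_injective_linearMap _ Subtype.val_injective
    have hcomp : ∀ z : Q.Ring ⊗[P.Ring] P.ker,
        ((LinearMap.liftBaseChange Q.Ring (f.mapKer halg)) z).1 =
          TensorProduct.rid P.Ring Q.Ring (LinearMap.lTensor Q.Ring (P.ker.subtype) z) := by
      intro z
      induction z using TensorProduct.induction_on with
      | zero => simp
      | tmul a b =>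
        simp only [LinearMap.liftBaseChange_tmul, LinearMap.lTensor_tmul, TensorProduct.rid_tmul]
        change a * f.toRingHom b.1 = b.1 • a
        rw [Algebra.smul_def, mul_comm, halg]
      | add a b ha hb =>
        rw [map_add, map_add, map_add, ← ha, ← hb]
        rfl
    intro a b hab
    apply h1
    apply (TensorProduct.rid P.Ring Q.Ring).injective
    rw [← hcomp, ← hcomp, hab]
  · -- surjective, by the kernel condition
    rintro ⟨q, hq⟩
    have hq' : q ∈ P.ker.map (algebraMap P.Ring Q.Ring) := hker hq
    have key : ∀ q ∈ P.ker.map (algebraMap P.Ring Q.Ring),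
        ∃ z : Q.Ring ⊗[P.Ring] P.ker,
          ((LinearMap.liftBaseChange Q.Ring (f.mapKer halg)) z).1 = q := by
      intro q hq
      refine Submodule.span_induction (p := fun q _ => ∃ z : Q.Ring ⊗[P.Ring] P.ker,
          ((LinearMap.liftBaseChange Q.Ring (f.mapKer halg)) z).1 = q) ?_ ?_ ?_ ?_ hq
      · rintro _ ⟨r, hr, rfl⟩
        refine ⟨(1 : Q.Ring) ⊗ₜ[P.Ring] (⟨r, hr⟩ : P.ker), ?_⟩
        simp only [LinearMap.liftBaseChange_tmul, one_smul]
        change f.toRingHom r = _
        rw [halg]
      · exact ⟨0, by simp⟩
      · rintro a b _ _ ⟨za, rfl⟩ ⟨zb, rfl⟩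
        exact ⟨za + zb, by rw [map_add]; rfl⟩
      · rintro c a _ ⟨za, rfl⟩
        exact ⟨c • za, by rw [map_smul]; rfl⟩
    obtain ⟨z, hz⟩ := key q hq'
    exact ⟨z, Subtype.ext hz⟩

/-- If `P → Q` is a formally étale map of formally smooth extensions over `S → T` flat, with
`ker Q = Q ⊗ ker P`, then `T ⊗ H¹(L_{S/R}) → H¹(L_{T/R})` is bijective. -/
theorem bijective_liftBaseChange_of_hom (P : Extension.{u} R S) (Q : Extension.{u} R T)
    [FormallySmooth R P.Ring] [FormallySmooth R Q.Ring] (f : P.Hom Q)
    [alg : Algebra P.Ring Q.Ring] (halg : algebraMap P.Ring Q.Ring = f.toRingHom)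
    [Module.Flat S T] (H₁ : f.toRingHom.FormallyEtale)
    (H₂ : Function.Bijective ((f.mapKer halg).liftBaseChange Q.Ring)) :
    Function.Bijective ((Algebra.H1Cotangent.map R R S T).liftBaseChange T) := by
  let E := Extension.tensorH1CotangentOfFormallyEtale f halg H₁ H₂
  let eP := P.equivH1CotangentOfFormallySmooth
  let eQ := Q.equivH1CotangentOfFormallySmooth
  let eP' : T ⊗[S] P.H1Cotangent ≃ₗ[T] T ⊗[S] Algebra.H1Cotangent R S :=
    LinearEquiv.baseChange S T _ _ eP
  have key : (Algebra.H1Cotangent.map R R S T).liftBaseChange T ∘ₗ eP'.toLinearMap =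
      eQ.toLinearMap ∘ₗ E.toLinearMap := by
    ext x
    simp only [AlgebraTensorModule.curry_apply, curry_apply, LinearMap.coe_restrictScalars,
      LinearMap.coe_comp, LinearEquiv.coe_coe, Function.comp_apply]
    have h1 : eP' (1 ⊗ₜ x) = 1 ⊗ₜ eP x := rfl
    have h2 : E (1 ⊗ₜ x) = Extension.H1Cotangent.map f x := by
      simp [E, Extension.tensorH1CotangentOfFormallyEtale]
    rw [h1, h2, LinearMap.liftBaseChange_tmul, one_smul]
    exact congr(($(map_equivH1Cotangent P Q f x)).1.val)
  have key2 : ⇑((Algebra.H1Cotangent.map R R S T).liftBaseChange T) =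
      (⇑eQ ∘ ⇑E) ∘ ⇑eP'.symm := by
    funext z
    obtain ⟨w, rfl⟩ := eP'.surjective z
    have := congr($key w)
    simpa using this
  rw [key2]
  exact (eQ.bijective.comp E.bijective).comp eP'.symm.bijective

end General

section StdEtale

variable {R S T : Type u} [CommRing R] [CommRing S] [CommRing T]
variable [Algebra R S] [Algebra R T] [Algebra S T] [IsScalarTower R S T]

/-- If `R → S` is surjective with kernel `I`, `S → T` is flat, and `T` is the quotient by `I` of a
standard étale `R`-algebra, then `T ⊗ H¹(L_{S/R}) → H¹(L_{T/R})` is bijective. -/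
theorem bijective_liftBaseChange_of_standardEtalePair
    (hRS : Function.Surjective (algebraMap R S)) [Module.Flat S T]
    (P : StandardEtalePair R) (x : T) (hx : P.HasMap x)
    (hsurj : Function.Surjective (P.lift x hx))
    (hker : RingHom.ker (P.lift x hx) ≤
      (RingHom.ker (algebraMap R S)).map (algebraMap R P.Ring)) :
    Function.Bijective ((Algebra.H1Cotangent.map R R S T).liftBaseChange T) := by
  let PE : Extension.{u} R S := .ofSurjective (Algebra.ofId R S) hRS
  let QE : Extension.{u} R T := .ofSurjective (P.lift x hx) hsurj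
  let f : PE.Hom QE :=
    { toRingHom := algebraMap R P.Ring
      toRingHom_algebraMap := fun r => rfl
      algebraMap_toRingHom := fun r => by
        change (P.lift x hx) (algebraMap R P.Ring r) = algebraMap S T (algebraMap R S r)
        rw [AlgHom.commutes, ← IsScalarTower.algebraMap_apply] }
  haveI : FormallySmooth R PE.Ring := (inferInstance : FormallySmooth R R)
  haveI : FormallySmooth R QE.Ring := (inferInstance : FormallySmooth R P.Ring)
  letI alg : Algebra PE.Ring QE.Ring := (inferInstance : Algebra R P.Ring)
  refine bijective_liftBaseChange_of_hom PE QE f rfl ?_ ?_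
  · exact RingHom.formallyEtale_algebraMap.mpr (inferInstance : FormallyEtale R P.Ring)
  · haveI : Module.Flat PE.Ring QE.Ring := (inferInstance : Module.Flat R P.Ring)
    exact bijective_mapKer_liftBaseChange f rfl hker

end StdEtale

section Field

open Polynomial

variable {R k' k : Type u} [CommRing R] [Field k'] [Field k]
variable [Algebra R k'] [Algebra R k] [Algebra k' k] [IsScalarTower R k' k]

/-- For `R → k'` surjective onto a field and `k/k'` finite separable,
`k ⊗ H¹(L_{k'/R}) → H¹(L_{k/R})` is bijective. -/
theorem bijective_liftBaseChange_of_finite_separable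
    (hRS : Function.Surjective (algebraMap R k')) [FiniteDimensional k' k]
    [Algebra.IsSeparable k' k] :
    Function.Bijective ((Algebra.H1Cotangent.map R R k' k).liftBaseChange k) := by
  obtain ⟨α, hα⟩ := Field.exists_primitive_element k' k
  have hint : IsIntegral k' α := Algebra.IsIntegral.isIntegral α
  set g := minpoly k' α with hg
  have hgmonic : g.Monic := minpoly.monic hint
  have hgsep : g.Separable := Algebra.IsSeparable.isSeparable k' α
  have hglift : g ∈ Polynomial.lifts (algebraMap R k') :=
    (Polynomial.mem_lifts _).mpr (Polynomial.map_surjective _ hRS g)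
  obtain ⟨G, hGg, -, hGmonic⟩ := Polynomial.lifts_and_degree_eq_and_monic hglift hgmonic
  let P : StandardEtalePair R := ⟨G, hGmonic, derivative G, ⟨1, 0, 1, by simp⟩⟩
  have haevalG : ∀ p : R[X], aeval α p = aeval α (p.map (algebraMap R k')) := fun p =>
    (aeval_map_algebraMap k' α p).symm
  have hx : P.HasMap α := by
    refine ⟨?_, ?_⟩
    · change aeval α G = 0
      rw [haevalG, hGg]
      exact minpoly.aeval k' α
    · change IsUnit (aeval α (derivative G))
      rw [haevalG, ← Polynomial.derivative_map, hGg]
      exact (hgsep.aeval_derivative_ne_zero (minpoly.aeval k' α)).isUnit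
  haveI : Module.Flat k' k := inferInstance
  refine bijective_liftBaseChange_of_standardEtalePair hRS P α hx ?_ ?_
  · -- surjectivity
    intro y
    have hy : y ∈ (IntermediateField.adjoin k' {α}).toSubalgebra := by rw [hα]; trivial
    rw [IntermediateField.adjoin_simple_toSubalgebra_of_isAlgebraic hint.isAlgebraic,
      Algebra.adjoin_singleton_eq_range_aeval] at hy
    obtain ⟨p, rfl⟩ := hy
    obtain ⟨p', rfl⟩ := Polynomial.map_surjective _ hRS p
    refine ⟨aeval P.X p', ?_⟩
    rw [← Polynomial.aeval_algHom_apply, P.lift_X, haevalG]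
    rfl
  · -- kernel
    intro q hq
    let Pres : StandardEtalePresentation R P.Ring :=
      ⟨P, P.X, P.hasMap_X, by simpa [StandardEtalePair.lift_X_left] using Function.bijective_id⟩
    obtain ⟨h, n, hn⟩ := Pres.exists_mul_aeval_x_g_pow_eq_aeval_x q
    change q * aeval P.X (derivative G) ^ n = aeval P.X h at hn
    have h0 : aeval α h = 0 := by
      have := congr((P.lift α hx) $hn)
      rw [map_mul, (RingHom.mem_ker).mp hq, zero_mul, ← Polynomial.aeval_algHom_apply,
        P.lift_X] at this
      exact this.symm
    rw [haevalG] at h0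
    obtain ⟨mbar, hm⟩ := minpoly.dvd k' α h0
    obtain ⟨m, rfl⟩ := Polynomial.map_surjective _ hRS mbar
    have hd : (h - G * m).map (algebraMap R k') = 0 := by
      rw [Polynomial.map_sub, Polynomial.map_mul, hGg, hm, sub_self]
    have hJ : ∀ d : R[X], d.map (algebraMap R k') = 0 →
        aeval P.X d ∈ (RingHom.ker (algebraMap R k')).map (algebraMap R P.Ring) := by
      intro d hd
      rw [Polynomial.aeval_eq_sum_range]
      refine Ideal.sum_mem _ fun i _ => ?_
      rw [Algebra.smul_def]
      refine Ideal.mul_mem_right _ _ (Ideal.mem_map_of_mem _ ?_)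
      rw [RingHom.mem_ker, ← Polynomial.coeff_map, hd, Polynomial.coeff_zero]
    have hG0 : aeval P.X G = 0 := P.hasMap_X.1
    have hh : aeval P.X h ∈ (RingHom.ker (algebraMap R k')).map (algebraMap R P.Ring) := by
      have := hJ _ hd
      rwa [map_sub, map_mul, hG0, zero_mul, sub_zero] at this
    have hu : IsUnit (aeval P.X (derivative G) ^ n) := (P.hasMap_X.2).pow n
    rw [← hn] at hh
    obtain ⟨u, hu⟩ := hu
    have : q = (q * aeval P.X (derivative G) ^ n) * ↑u⁻¹ := by
      rw [← hu, mul_assoc, Units.mul_inv, mul_one]
    rw [this]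
    exact Ideal.mul_mem_right _ _ hh

end Field

end Groth.Agent.R2.H99.H1CotStdEtale
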