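/-
helper99: integral closedness in a localization ascends along smooth (e.g. étale) ring maps.
-/
import Mathlib

set_option autoImplicit false
set_option linter.style.haveILetI false

namespace Groth.Agent.R2.H99.IntClosEtale

open TensorProduct

/-- If every element of `Ro` integral over `R` comes from `R`, then every element of
`S ⊗[R] integralClosure R Ro` maps into the image of `S` in `S ⊗[R] Ro`. -/
theorem map_mem_range_of_integralClosure_le {R S Ro : Type*} [CommRing R] [CommRing S] [CommRing Ro]
    [Algebra R S] [Algebra R Ro]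
    (h : ∀ a : Ro, IsIntegral R a → a ∈ Set.range (algebraMap R Ro))
    (z : S ⊗[R] integralClosure R Ro) :
    Algebra.TensorProduct.map (AlgHom.id S S) (integralClosure R Ro).val z ∈
      Set.range (algebraMap S (S ⊗[R] Ro)) := by
  induction z with
  | zero => exact ⟨0, by simp⟩
  | add x y hx hy =>
    obtain ⟨a, ha⟩ := hx
    obtain ⟨b, hb⟩ := hy
    exact ⟨a + b, by rw [map_add, map_add, ha, hb]⟩
  | tmul s c =>
    obtain ⟨r, hr⟩ := h c.1 c.2
    refine ⟨r • s, ?_⟩
    rw [Algebra.TensorProduct.map_tmul, Algebra.TensorProduct.algebraMap_apply]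
    simp only [AlgHom.coe_id, id_eq, Subalgebra.coe_val, Algebra.algebraMap_self, RingHom.id_apply]
    rw [← hr, Algebra.algebraMap_eq_smul_one, TensorProduct.tmul_smul, TensorProduct.smul_tmul']

/-- Integral closedness in the localization away from `f` ascends along smooth ring maps. -/
theorem mem_range_of_isIntegral_of_smooth {R S Ro So : Type*} [CommRing R] [CommRing S]
    [CommRing Ro] [CommRing So] [Algebra R S] [Algebra.Smooth R S] [Algebra R Ro] [Algebra S So]
    [Algebra R So] [Algebra Ro So] [IsScalarTower R S So] [IsScalarTower R Ro So]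
    (f : R) [IsLocalization.Away f Ro] [IsLocalization.Away (algebraMap R S f) So]
    (h : ∀ a : Ro, IsIntegral R a → a ∈ Set.range (algebraMap R Ro))
    (b : So) (hb : IsIntegral S b) : b ∈ Set.range (algebraMap S So) := by
  haveI : IsLocalization (Algebra.algebraMapSubmonoid S (Submonoid.powers f)) So := by
    rw [Algebra.algebraMapSubmonoid_powers]
    infer_instance
  haveI : Algebra.IsPushout R S Ro So :=
    Algebra.isPushout_of_isLocalization (Submonoid.powers f) Ro S So
  let e : S ⊗[R] Ro ≃ₐ[S] So := Algebra.IsPushout.equiv R S Ro So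
  have hb' : IsIntegral S (e.symm b) := hb.map e.symm
  obtain ⟨z, hz⟩ := (TensorProduct.toIntegralClosure_bijective_of_smooth (R := R) (S := S)
    (B := Ro)).2 ⟨e.symm b, hb'⟩
  have hz' : Algebra.TensorProduct.map (AlgHom.id S S) (integralClosure R Ro).val z = e.symm b := by
    have := congrArg Subtype.val hz
    simpa [TensorProduct.toIntegralClosure] using this
  obtain ⟨s, hs⟩ := map_mem_range_of_integralClosure_le (S := S) h z
  refine ⟨s, ?_⟩
  have : e (algebraMap S (S ⊗[R] Ro) s) = b := by
    rw [hs, hz', e.apply_symm_apply]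
  rw [← this, e.commutes]

end Groth.Agent.R2.H99.IntClosEtale
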