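import Mathlib
import Groth.Agent.R2.H99PCDescent2
import Groth.Agent.R2.H99PCQCoh
import Groth.Agent.R2.H5PerfTilde
import Groth.Agent.R2.H4FlatPerf
import Groth.Agent.S6961
set_option backward.isDefEq.respectTransparency.types false

/-!
# helper99: fpqc descent of perfectness for ARBITRARY objects of `D(O_X)`
-/

set_option autoImplicit false
set_option linter.style.haveILetI false
universe u
open CategoryTheory CategoryTheory.Limits AlgebraicGeometry TopologicalSpace

attribute [local instance] HasDerivedCategory.standard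

namespace Groth.Agent.R2.H99.PerfDescent

open DerivedCategory Groth.Agent.R2.H4.Perf Groth.Agent.R2.H4.Conn Groth.Agent.R2.H99.PCNoeth
  Groth.Agent.Lib.Helper1.Sky Groth.Agent.R2.H5.LpullQCoh Groth.Agent.R2.H99.PCDescent
  Groth.Agent.R2.H5.PerfTilde

attribute [local instance] Groth.Agent.Lib.Helper1.Sky.hasLpull

section Basic

variable {X : Scheme.{u}}

/-- perfectness can be checked locally, along arbitrary open immersions. -/
lemma isPerfect_of_locally (K : DCoh.D X)
    (h : ∀ x : X, ∃ (U : Scheme.{u}) (j : U ⟶ X) (_ : IsOpenImmersion j) (y : U), j y = x ∧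
      DCoh.IsPerfect ((DCoh.restrictD j).obj K)) : DCoh.IsPerfect K := by
  rw [isPerfect_iff]
  apply loc_of_loc_restrict isLocalPred_spRep
  intro x
  obtain ⟨U, j, hj, y, hy, hK⟩ := h x
  rw [isPerfect_iff] at hK
  obtain ⟨U', j', hj', y', hy', hK'⟩ := hK y
  exact ⟨U, j, hj, y, hy, U', j', hj', y', hy', hK'⟩

end Basic

section Affine

open Groth.Agent.S1055 Groth.Agent.Lib.Helper1.LDer

variable {A : Type u} [CommRing A] {ι : Type u} [Finite ι] (B : ι → Type u) [∀ k, CommRing (B k)]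
  (ψ : ∀ k, A →+* B k)

variable [PreservesFiniteLimits (tilde.functor (CommRingCat.of A))]

/-- affine fpqc descent of perfectness along a finite jointly surjective flat family. -/
theorem isPerfect_of_cover (P : CochainComplex (ModuleCat.{u} A) ℤ) [P.IsKProjective]
    (hflat : ∀ k, (ψ k).Flat)
    (hsurj : ∀ p : PrimeSpectrum A, ∃ (k : ι) (q : PrimeSpectrum (B k)),
      PrimeSpectrum.comap (ψ k) q = p)
    (h : ∀ k, DCoh.IsPerfect
      ((DCoh.Lpull (Spec.map (CommRingCat.ofHom (ψ k)))).obj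
        ((DCoh.tildeD (CommRingCat.of A)).obj (DerivedCategory.Q.obj P)))) :
    DRing.IsPerfect A (DerivedCategory.Q.obj P) := by
  haveI : PreservesFiniteLimits (tilde.functor (CommRingCat.of (∀ k, B k))) :=
    (Groth.Agent.S9498.aux (CommRingCat.of (∀ k, B k))).1
  let φ : A →+* (∀ k, B k) := phi B ψ
  let T : DCoh.D (Spec (CommRingCat.of A)) :=
    (DCoh.tildeD (CommRingCat.of A)).obj (DerivedCategory.Q.obj P)
  let G : DCoh.D (Spec (CommRingCat.of (∀ k, B k))) := (DCoh.Lpull (ff φ)).obj T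
  let c : ∀ k, Spec (CommRingCat.of (B k)) ⟶ Spec (CommRingCat.of (∀ k, B k)) := fun k =>
    Spec.map (CommRingCat.ofHom (Pi.evalRingHom B k))
  have hc : ∀ k, c k ≫ ff φ = Spec.map (CommRingCat.ofHom (ψ k)) := by
    intro k
    rw [← Spec.map_comp, ← CommRingCat.ofHom_comp, evalRingHom_comp_phi]
  -- Claim 1
  have h1 : ∀ k, DCoh.IsPerfect ((DCoh.restrictD (c k)).obj G) := by
    intro k
    obtain ⟨e1⟩ := nonempty_lpull_comp_iso (c k) (ff φ)
    obtain ⟨e2⟩ := nonempty_lpull_congr (hc k)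
    exact isPerfect_of_iso (restrictDIsoLpull (c k) G ≪≫ e1.app T ≪≫ e2.app T).symm (h k)
  -- Claim 2
  have h2 : DCoh.IsPerfect G := by
    apply isPerfect_of_locally
    intro y
    obtain ⟨k, q, hq⟩ := PrimeSpectrum.exists_comap_evalRingHom_eq (R := B) y
    exact ⟨Spec (CommRingCat.of (B k)), c k, inferInstance, q, hq, h1 k⟩
  -- Claim 3
  haveI := isIso_α2_app φ P
  let e : G ≅ (DCoh.tildeD (CommRingCat.of (∀ k, B k))).obj
      (DerivedCategory.Q.obj ((bcCx φ).obj P)) :=
    asIso ((α2 φ).app P) ≪≫ ((facT (CommRingCat.of (∀ k, B k))).app _).symm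
  have h4 : DRing.IsPerfect (∀ k, B k) (DerivedCategory.Q.obj ((bcCx φ).obj P)) :=
    (isPerfect_tildeD_iff _).1 (isPerfect_of_iso e h2)
  letI := φ.toAlgebra
  haveI := faithfullyFlat_pi B ψ hflat hsurj
  exact Groth.Agent.S6961.result (R := A) (R' := ∀ k, B k) P h4

end Affine

section Main

open Groth.Agent.Lib.Helper1.KF

variable {X' X : Scheme.{u}} (f : X' ⟶ X)

/-- **fpqc descent of perfectness** for objects of `D_QCoh`. -/
theorem isPerfect_of_lpull_qcoh [Flat f] [Surjective f] [QuasiCompact f]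
    (E : DCoh.D X) (hE : DCoh.IsQCohD E)
    (h : DCoh.IsPerfect ((DCoh.Lpull f).obj E)) : DCoh.IsPerfect E := by
  apply isPerfect_of_locally
  intro x
  obtain ⟨_, ⟨V, hV, rfl⟩, hxV, -⟩ :=
    X.isBasis_affineOpens.exists_subset_of_mem_open (Set.mem_univ x) isOpen_univ
  have hV : IsAffineOpen V := hV
  let y : Spec Γ(X, V) := hV.primeIdealOf ⟨x, hxV⟩
  have hy : hV.fromSpec y = x := hV.fromSpec_primeIdealOf ⟨x, hxV⟩
  refine ⟨Spec Γ(X, V), hV.fromSpec, inferInstance, y, hy, ?_⟩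
  obtain ⟨M, ⟨e⟩, -⟩ := exists_affine_model E hE hV
  obtain ⟨P, π, hP, -, hπ, -⟩ := exists_kprojective_resolution (DerivedCategory.Q.objPreimage M)
  haveI : P.IsKProjective := hP
  haveI : IsIso (DerivedCategory.Q.map π) := (DerivedCategory.isIso_Q_map_iff_quasiIso (φ := π)).2 hπ
  let eP : DerivedCategory.Q.obj P ≅ M :=
    asIso (DerivedCategory.Q.map π) ≪≫ DerivedCategory.Q.objObjPreimageIso M
  obtain ⟨t, ht⟩ := exists_finite_affine_cover f hV
  -- the data of the cover
  let ι : Type u := ↥t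
  let Wk : ι → X'.Opens := fun k => (k.1.1 : X'.Opens)
  have hWk : ∀ k : ι, IsAffineOpen (Wk k) := fun k => k.1.1.2
  have hle : ∀ k : ι, Wk k ≤ f ⁻¹ᵁ V := fun k => k.1.2
  let ψ : ∀ k : ι, Γ(X, V) ⟶ Γ(X', Wk k) := fun k => f.appLE V (Wk k) (hle k)
  have hsq : ∀ k : ι, Spec.map (ψ k) ≫ hV.fromSpec = (hWk k).fromSpec ≫ f := fun k =>
    IsAffineOpen.SpecMap_appLE_fromSpec f hV (hWk k) (hle k)
  have key : DRing.IsPerfect Γ(X, V) (DerivedCategory.Q.obj P) := by
    refine isPerfect_of_cover (A := Γ(X, V)) (ι := ι) (fun k => Γ(X', Wk k))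
      (fun k => (ψ k).hom) P (fun k => f.flat_appLE hV (hWk k) (hle k)) ?_ ?_
    · -- surjectivity on spectra
      intro p
      obtain ⟨x', hx'⟩ := Surjective.surj (f := f) (hV.fromSpec p)
      have hx'V : x' ∈ f ⁻¹ᵁ V := by
        change f x' ∈ V
        rw [hx']
        have h0 : hV.fromSpec p ∈ hV.fromSpec.opensRange := ⟨p, rfl⟩
        rwa [hV.opensRange_fromSpec] at h0
      have := ht hx'V
      simp only [Set.mem_iUnion] at this
      obtain ⟨W, hWt, hxW⟩ := this
      let k : ι := ⟨W, hWt⟩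
      let q : Spec Γ(X', Wk k) := (hWk k).primeIdealOf ⟨x', hxW⟩
      have hq : (hWk k).fromSpec q = x' := (hWk k).fromSpec_primeIdealOf ⟨x', hxW⟩
      refine ⟨k, q, ?_⟩
      have h1 : hV.fromSpec ((Spec.map (ψ k)) q) = hV.fromSpec p := by
        rw [← Scheme.Hom.comp_apply, hsq k, Scheme.Hom.comp_apply, hq, hx']
      exact hV.fromSpec.isOpenEmbedding.injective h1
    · intro k
      obtain ⟨e1⟩ := nonempty_lpull_comp_iso (Spec.map (ψ k)) hV.fromSpec
      obtain ⟨e2⟩ := nonempty_lpull_congr (hsq k)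
      obtain ⟨e3⟩ := nonempty_lpull_comp_iso (hWk k).fromSpec f
      have h1 : DCoh.IsPerfect
          ((DCoh.Lpull (hWk k).fromSpec).obj ((DCoh.Lpull f).obj E)) :=
        isPerfect_lpull _ _ h
      let eT : (DCoh.tildeD Γ(X, V)).obj (DerivedCategory.Q.obj P) ≅
          (DCoh.Lpull hV.fromSpec).obj E :=
        (DCoh.tildeD Γ(X, V)).mapIso eP ≪≫ e ≪≫ restrictDIsoLpull hV.fromSpec E
      exact isPerfect_of_iso
        ((DCoh.Lpull (Spec.map (ψ k))).mapIso eT ≪≫ e1.app E ≪≫ e2.app E ≪≫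
          (e3.app E).symm).symm h1
  have h2 : DRing.IsPerfect Γ(X, V) M :=
    Groth.Agent.Lib.Helper17.DCompare.isPerfect_of_iso eP key
  exact isPerfect_of_iso e ((isPerfect_tildeD_iff M).2 h2)

/-- **fpqc descent of perfectness**, for arbitrary objects of `D(O_X)`. -/
theorem isPerfect_of_lpull_flat [Flat f] [Surjective f] [QuasiCompact f]
    (E : DCoh.D X) (h : DCoh.IsPerfect ((DCoh.Lpull f).obj E)) : DCoh.IsPerfect E := by
  have hpc : ∀ m : ℤ, DCoh.IsPseudoCoherentD m E := fun m =>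
    Groth.Agent.R2.H99.PCDescent2.isPseudoCoherentD_of_lpull_flat f m E
      (Groth.Agent.R2.H4.FlatPerf.isPseudoCoherentD_of_isPerfect _ h m)
  have hq : DCoh.IsQCohD E := fun i =>
    Groth.Agent.R2.H99.PCQCoh.isQCoh_HD_of_isPseudoCoherentD (i - 1) E (hpc (i - 1)) i (by omega)
  exact isPerfect_of_lpull_qcoh f E hq h

end Main

end Groth.Agent.R2.H99.PerfDescent
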