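import Mathlib
import Groth.Agent.S11329
import Groth.Agent.S9498
import Groth.Agent.Lib.Helper23QCohLocal
import Groth.Agent.Lib.Helper23QCohSum
import Groth.Agent.Lib.Helper23ModLocal
import Groth.Agent.Lib.Helper23QCohExt
import Groth.Agent.Lib.Helper23QCohAbelian

/-!
# Injective objects of `QCoh(X)` are flasque, `X` Noetherian (helper99)

Every quasi-coherent module on a Noetherian scheme embeds into a flasque quasi-coherent module
(a finite direct sum of direct images of `E~`, `E` injective, from affine opens); an injective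
object of `QCoh(X)` is a retract of such a module.
-/

set_option autoImplicit false
set_option linter.style.haveILetI false
universe u
open CategoryTheory CategoryTheory.Limits AlgebraicGeometry TopologicalSpace Opposite

namespace Groth.Agent.R2.H99.QCohInj

open Groth.Agent.Lib.Helper23.QCohLocal

attribute [local instance] Abelian.hasFiniteBiproducts

variable {X : Scheme.{u}}

/-- all restriction maps are surjective -/
def IsFlasque (M : X.Modules) : Prop :=
  ∀ (U V : X.Opens) (h : U ≤ V), Function.Surjective (M.presheaf.map (homOfLE h).op)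

theorem naturality_apply {M N : X.Modules} (φ : M ⟶ N) {U V : X.Opens} (h : U ≤ V) (s : Γ(M, V)) :
    N.presheaf.map (homOfLE h).op (φ.app V s) = φ.app U (M.presheaf.map (homOfLE h).op s) := by
  have := congrArg (fun f => f s) (φ.mapPresheaf.naturality (homOfLE h).op)
  exact this.symm

theorem sum_app {M N : X.Modules} {ι : Type*} (t : Finset ι) (φ : ι → (M ⟶ N)) (U : X.Opens)
    (s : Γ(M, U)) : (∑ k ∈ t, φ k).app U s = ∑ k ∈ t, (φ k).app U s := by
  classical
  induction t using Finset.induction_on with
  | empty => simp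
  | insert a t ha ih =>
    rw [Finset.sum_insert ha, Finset.sum_insert ha, Scheme.Modules.Hom.add_app]
    change (φ a).app U s + (∑ k ∈ t, φ k).app U s = _
    rw [ih]

theorem isFlasque_pushforward {Y : Scheme.{u}} (f : Y ⟶ X) (M : Y.Modules) (hM : IsFlasque M) :
    IsFlasque ((Scheme.Modules.pushforward f).obj M) :=
  fun U V h => hM (f ⁻¹ᵁ U) (f ⁻¹ᵁ V) ((Opens.map f.base).monotone h)

theorem isFlasque_biproduct {n : ℕ} (A : Fin n → X.Modules) (hA : ∀ k, IsFlasque (A k)) :
    IsFlasque (⨁ A) := by
  intro U V h s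
  choose t ht using fun k => hA k U V h ((biproduct.π A k).app U s)
  refine ⟨∑ k, (biproduct.ι A k).app V (t k), ?_⟩
  rw [map_sum]
  have h1 : ∀ k, (⨁ A).presheaf.map (homOfLE h).op ((biproduct.ι A k).app V (t k)) =
      (biproduct.ι A k).app U ((biproduct.π A k).app U s) := fun k => by
    rw [naturality_apply, ht]
  simp_rw [h1]
  have h2 := congrArg (fun φ : (⨁ A) ⟶ (⨁ A) => φ.app U s) (biproduct.total (f := A))
  simp only [sum_app, Scheme.Modules.Hom.id_app] at h2
  exact h2

theorem isFlasque_of_retract {M N : X.Modules} (i : M ⟶ N) (r : N ⟶ M) (h : i ≫ r = 𝟙 M)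
    (hN : IsFlasque N) : IsFlasque M := by
  intro U V hUV s
  obtain ⟨t, ht⟩ := hN U V hUV (i.app U s)
  refine ⟨r.app V t, ?_⟩
  rw [naturality_apply, ht]
  have := congrArg (fun φ : M ⟶ M => φ.app U s) h
  exact this

theorem isFlasque_tilde (R : CommRingCat.{u}) [IsNoetherianRing R] (E : ModuleCat.{u} R)
    [Injective E] : IsFlasque ((tilde.functor R).obj E) := by
  intro U V h
  haveI : Module.Injective R E := Module.injective_module_of_injective_object R E
  exact Groth.Agent.S11329.result R E U V h

attribute [local instance] restrictFunctor_isRightAdjoint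

theorem exists_local_embedding [IsNoetherian X] (M : X.Modules) [M.IsQuasicoherent] {W : X.Opens}
    (hW : IsAffineOpen W) :
    ∃ (G : X.Modules) (φ : M ⟶ G), G.IsQuasicoherent ∧ IsFlasque G ∧
      Mono ((Scheme.Modules.restrictFunctor hW.fromSpec).map φ) := by
  haveI : IsNoetherianRing Γ(X, W) := IsLocallyNoetherian.component_noetherian ⟨W, hW⟩
  let R : CommRingCat.{u} := Γ(X, W)
  let j : Spec R ⟶ X := hW.fromSpec
  let B : (Spec R).Modules := (Scheme.Modules.restrictFunctor j).obj M
  haveI : B.IsQuasicoherent := Scheme.Modules.isQuasicoherent_restrictFunctor j M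
  let E : ModuleCat.{u} R := Injective.under ((ΓF R).obj B)
  let c : (ΓF R).obj B ⟶ E := Injective.ι _
  haveI : IsIso ((tildeΓAdj R).counit.app B) := isIso_fromTildeΓ B
  let m : B ⟶ (tilde.functor R).obj E := inv ((tildeΓAdj R).counit.app B) ≫ (tilde.functor R).map c
  haveI : Mono ((tilde.functor R).map c) := Groth.Agent.S9498.tilde_map_mono c
  have hm : Mono m := mono_comp _ _
  let φ : M ⟶ (Scheme.Modules.pushforward j).obj ((tilde.functor R).obj E) :=
    (Scheme.Modules.restrictAdjunction j).homEquiv _ _ m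
  haveI : IsNoetherianRing R := ‹_›
  haveI hq : ((tilde.functor R).obj E).IsQuasicoherent :=
    inferInstanceAs (tilde E).IsQuasicoherent
  refine ⟨_, φ, isQuasicoherent_pushforward j ((tilde.functor R).obj E),
    isFlasque_pushforward j _ (isFlasque_tilde R E), ?_⟩
  have h1 : (Scheme.Modules.restrictFunctor j).map φ ≫
      (Scheme.Modules.restrictAdjunction j).counit.app _ = m :=
    (Adjunction.homEquiv_counit (adj := Scheme.Modules.restrictAdjunction j) (g := φ)).symm.trans
      (Equiv.symm_apply_apply _ m)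
  exact mono_of_mono_fac h1

theorem exists_fin_affine_cover [CompactSpace X] :
    ∃ (n : ℕ) (W : Fin n → X.Opens), (∀ k, IsAffineOpen (W k)) ∧ ∀ x : X, ∃ k, x ∈ W k := by
  classical
  have h : ∀ x : X, ∃ U : X.Opens, IsAffineOpen U ∧ x ∈ U := fun x => by
    obtain ⟨U, hU, hx, -⟩ := exists_isAffineOpen_mem_and_subset (x := x) (U := ⊤) trivial
    exact ⟨U, hU, hx⟩
  choose U hU hxU using h
  obtain ⟨t, ht⟩ := CompactSpace.elim_nhds_subcover (fun x => ((U x : X.Opens) : Set X))
    (fun x => (U x).isOpen.mem_nhds (hxU x))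
  refine ⟨t.card, fun k => U (t.equivFin.symm k).1, fun k => hU _, fun x => ?_⟩
  have hx : x ∈ ⋃ y ∈ t, ((U y : X.Opens) : Set X) := by rw [ht]; trivial
  simp only [Set.mem_iUnion] at hx
  obtain ⟨y, hy, hxy⟩ := hx
  refine ⟨t.equivFin ⟨y, hy⟩, ?_⟩
  change x ∈ U (t.equivFin.symm (t.equivFin ⟨y, hy⟩)).1
  rw [Equiv.symm_apply_apply]
  exact hxy

theorem exists_embedding [IsNoetherian X] (M : X.Modules) [M.IsQuasicoherent] :
    ∃ (G : X.Modules) (φ : M ⟶ G), G.IsQuasicoherent ∧ IsFlasque G ∧ Mono φ := by
  obtain ⟨n, W, hW, hcov⟩ := exists_fin_affine_cover (X := X)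
  choose G φ hq hf hmono using fun k => exists_local_embedding M (hW k)
  refine ⟨⨁ G, biproduct.lift φ, isQuasicoherent_biproduct G hq, isFlasque_biproduct G hf, ?_⟩
  refine Groth.Agent.Lib.Helper23.ModLocal.mono_of_mono_restrict (biproduct.lift φ)
    (fun k => Spec Γ(X, W k)) (fun k => (hW k).fromSpec) ?_ ?_
  · intro x
    obtain ⟨k, hk⟩ := hcov x
    have hx : x ∈ Set.range (hW k).fromSpec := by
      rw [(hW k).range_fromSpec]; exact hk
    obtain ⟨y, hy⟩ := hx
    exact ⟨k, y, hy⟩
  · intro k
    have h1 : (Scheme.Modules.restrictFunctor (hW k).fromSpec).map (biproduct.lift φ) ≫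
        (Scheme.Modules.restrictFunctor (hW k).fromSpec).map (biproduct.π G k) =
        (Scheme.Modules.restrictFunctor (hW k).fromSpec).map (φ k) := by
      rw [← Functor.map_comp, biproduct.lift_π]
    haveI := hmono k
    haveI : Mono ((Scheme.Modules.restrictFunctor (hW k).fromSpec).map (biproduct.lift φ) ≫
        (Scheme.Modules.restrictFunctor (hW k).fromSpec).map (biproduct.π G k)) := by
      rw [h1]; infer_instance
    exact mono_of_mono _ ((Scheme.Modules.restrictFunctor (hW k).fromSpec).map (biproduct.π G k))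

theorem isFlasque_of_injective [IsNoetherian X]
    (J : ObjectProperty.FullSubcategory (fun M : X.Modules => Coh.IsQCoh M)) (hJ : Injective J) :
    IsFlasque J.obj := by
  haveI : J.obj.IsQuasicoherent := J.property
  obtain ⟨G, φ, hq, hf, hmono⟩ := exists_embedding J.obj
  let G' : ObjectProperty.FullSubcategory (fun M : X.Modules => Coh.IsQCoh M) := ⟨G, hq⟩
  let φ' : J ⟶ G' := ObjectProperty.homMk φ
  haveI : Mono φ' :=
    (ObjectProperty.ι (fun M : X.Modules => Coh.IsQCoh M)).mono_of_mono_map hmono
  let r : G' ⟶ J := Injective.factorThru (𝟙 J) φ'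
  have hr : φ' ≫ r = 𝟙 J := Injective.comp_factorThru _ _
  exact isFlasque_of_retract φ r.hom (congrArg (fun f => f.hom) hr) hf

end Groth.Agent.R2.H99.QCohInj
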