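import Mathlib
import Groth.Prelude.Def_CxOX
import Groth.Prelude.Def_DCoh3
import Groth.Agent.S0997
import Groth.Agent.S1105
import Groth.Agent.S7031
import Groth.Agent.S9498
import Groth.Agent.R2.H4Perf
import Groth.Agent.R2.H5PerfTilde
import Groth.Agent.R2.H12DevH
import Groth.Agent.Lib.Helper17AdjWay1
import Groth.Agent.Lib.Helper23FinType2

/-!
# Bounded coherent complexes on a regular locally Noetherian scheme are perfect (helper99, round 2)

Namespace `Groth.Agent.R2.H99.RegPerf`.

* `isPerfect_of_bounded_finite` : over a regular Noetherian ring, an object of `D(A)` with bounded, finite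
  cohomology is perfect (the `←` direction of S7031, without its derived-tensor binder).
* `isPerfect_of_regular` : S1005.
-/

set_option autoImplicit false
set_option linter.style.haveILetI false
universe u
open CategoryTheory CategoryTheory.Limits AlgebraicGeometry

attribute [local instance] HasDerivedCategory.standard

namespace Groth.Agent.R2.H99.RegPerf

open DerivedCategory

section Ring

open Pretriangulated Groth.Agent.Lib.Helper1.Cone Groth.Agent.Lib.Helper1.Devissage Groth.Agent.S7030

/-- over a regular Noetherian ring, bounded + finite cohomology implies perfect. -/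
theorem isPerfect_of_bounded_finite (R : Type u) [CommRing R] [IsNoetherianRing R]
    (hreg : ∀ p : PrimeSpectrum R, IsRegularLocalRing (Localization.AtPrime p.asIdeal))
    (K : Dual.D R) (a b : ℤ)
    (hab : ∀ i : ℤ, (i < a ∨ b < i) → IsZero ((homologyFunctor (ModuleCat.{u} R) i).obj K))
    (hfin : ∀ i : ℤ, Module.Finite R ((homologyFunctor (ModuleCat.{u} R) i).obj K)) :
    DRing.IsPerfect R K := by
  apply induction_homology' (perf R) (fun K hK => isPerfect_of_isZero hK)
    (fun T hT h1 h3 => isPerfect_ext T hT h1 h3) K a b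
  · intro i hi
    exact hab i hi
  · intro j _ _
    have := hfin j
    exact isPerfect_single _ ((Groth.Agent.S6962.result R hreg (Dual.HD R K j)).2 this) j

end Ring

section Scheme

open Groth.Agent.R2.H4.Perf Groth.Agent.Lib.Helper17.AdjWay Groth.Agent.Lib.Helper23.FinType

variable {X : Scheme.{u}}

instance (R : CommRingCat.{u}) : PreservesFiniteLimits (tilde.functor R) :=
  (Groth.Agent.S9498.aux R).1

/-- the local rings of an affine open of a scheme with regular stalks are regular. -/
lemma isRegularLocalRing_atPrime (hreg : ∀ x : X, IsRegularLocalRing (X.presheaf.stalk x))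
    {V : X.Opens} (hV : IsAffineOpen V) (p : PrimeSpectrum Γ(X, V)) :
    IsRegularLocalRing (Localization.AtPrime p.asIdeal) := by
  have hy : hV.fromSpec p ∈ V := by
    have : hV.fromSpec p ∈ hV.fromSpec.opensRange := ⟨p, rfl⟩
    rwa [hV.opensRange_fromSpec] at this
  letI alg : Algebra Γ(X, V) (X.presheaf.stalk (hV.fromSpec p)) :=
    TopCat.Presheaf.algebra_section_stalk X.presheaf ⟨hV.fromSpec p, hy⟩
  haveI loc : IsLocalization.AtPrime (X.presheaf.stalk (hV.fromSpec p)) p.asIdeal :=
    hV.isLocalization_stalk' p hy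
  haveI := hreg (hV.fromSpec p)
  exact IsRegularLocalRing.of_ringEquiv
    (IsLocalization.algEquiv p.asIdeal.primeCompl (X.presheaf.stalk (hV.fromSpec p))
      (Localization.AtPrime p.asIdeal)).toRingEquiv

/-- **S1005**: on a locally Noetherian scheme with regular local rings, bounded complexes with coherent
cohomology are perfect. -/
theorem isPerfect_of_regular [IsLocallyNoetherian X]
    (hreg : ∀ x : X, IsRegularLocalRing (X.presheaf.stalk x))
    (K : DCoh.D X) (a b : ℤ) [K.IsGE a] [K.IsLE b] (hK : DCoh.IsCohD K) : DCoh.IsPerfect K := by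
  rw [isPerfect_iff]
  apply loc_of_loc_restrict isLocalPred_spRep
  intro x
  obtain ⟨_, ⟨V, hV, rfl⟩, hxV, -⟩ :=
    X.isBasis_affineOpens.exists_subset_of_mem_open (Set.mem_univ x) isOpen_univ
  have hV : IsAffineOpen V := hV
  haveI : IsNoetherianRing Γ(X, V) := IsLocallyNoetherian.component_noetherian ⟨V, hV⟩
  let A : CommRingCat.{u} := Γ(X, V)
  let j : Spec A ⟶ X := hV.fromSpec
  let y : Spec A := hV.primeIdealOf ⟨x, hxV⟩
  have hy : j y = x := hV.fromSpec_primeIdealOf ⟨x, hxV⟩
  refine ⟨Spec A, j, inferInstance, y, hy, ?_⟩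
  -- the restriction `K'` of `K` to `Spec A`
  let K' : DCoh.D (Spec A) := (DCoh.restrictD j).obj K
  have iso3 : ∀ i : ℤ, DCoh.HD K' i ≅ (Scheme.Modules.restrictFunctor j).obj (DCoh.HD K i) :=
    fun i => homologyIso (Scheme.Modules.restrictFunctor j) K i
  have hq : DCoh.IsQCohD K' := by
    intro i
    haveI : (DCoh.HD K i).IsQuasicoherent := (hK i).1
    exact Groth.Agent.R2.H12.Dev.qcoh_of_iso (iso3 i).symm inferInstance
  obtain ⟨M, ⟨e⟩⟩ := ((Groth.Agent.S0997.result A).2.2 K').1 hq
  -- cohomology of `M`
  have isoH : ∀ i : ℤ, (homologyFunctor (ModuleCat.{u} A) i).obj M ≅ ΓU (DCoh.HD K i) hV := by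
    intro i
    have ε : (tilde.functor A).obj ((homologyFunctor (ModuleCat.{u} A) i).obj M) ≅
        (Scheme.Modules.restrictFunctor j).obj (DCoh.HD K i) :=
      (homologyIso (tilde.functor A) M i).symm ≪≫
        (homologyFunctor _ i).mapIso e ≪≫ iso3 i
    exact (tilde.toTildeΓNatIso (R := A)).app _ ≪≫ (moduleSpecΓFunctor (R := A)).mapIso ε
  have hperfM : DRing.IsPerfect A M := by
    refine isPerfect_of_bounded_finite A (fun p => isRegularLocalRing_atPrime hreg hV p) M a b ?_ ?_
    · intro i hi
      have hz : IsZero (DCoh.HD K i) := by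
        rcases hi with hi | hi
        · exact DerivedCategory.isZero_of_isGE K a i hi
        · exact DerivedCategory.isZero_of_isLE K b i hi
      exact IsZero.of_iso ((moduleSpecΓFunctor (R := A)).map_isZero
        ((Scheme.Modules.restrictFunctor j).map_isZero hz)) (isoH i)
    · intro i
      haveI : (DCoh.HD K i).IsQuasicoherent := (hK i).1
      haveI : SheafOfModules.IsFiniteType (R := X.ringCatSheaf) (DCoh.HD K i) := (hK i).2
      have h1 : Module.Finite Γ(X, V) Γ(DCoh.HD K i, V) := finite_of_isFiniteType _ hV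
      have h2 : Module.Finite Γ(X, V) (ΓU (DCoh.HD K i) hV) := (finite_ΓU_iff _ hV).2 h1
      exact Module.Finite.equiv (isoH i).toLinearEquiv.symm
  have hperf : DCoh.IsPerfect K' :=
    Groth.Agent.R2.H5.PerfTilde.isPerfect_of_iso e ((Groth.Agent.S1105.result A M).2 hperfM)
  rw [isPerfect_iff] at hperf
  exact hperf y

end Scheme

end Groth.Agent.R2.H99.RegPerf
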