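/-
helper99: strong approximation for the additive group of a number field off one finite place
(rational form), via Minkowski's lattice point theorem.
-/
import Mathlib

set_option autoImplicit false
set_option linter.style.haveILetI false

namespace Groth.Agent.R2.H99.SAGa

open NumberField IsDedekindDomain HeightOneSpectrum
open NumberField.mixedEmbedding
open scoped nonZeroDivisors

variable (K : Type*) [Field K] [NumberField K]

omit [NumberField K] in
/-- The value of an infinite place on a rational number. -/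
theorem infinitePlace_ratCast (w : InfinitePlace K) (q : ℚ) : w (q : K) = |(q : ℝ)| := by
  rw [← InfinitePlace.norm_embedding_eq, map_ratCast, Complex.norm_ratCast]

/-- (S3) every element of `K` is within bounded archimedean distance of an algebraic integer. -/
theorem exists_bound_sub_integer :
    ∃ R : ℝ, 0 < R ∧ ∀ x : K, ∃ γ : 𝓞 K, ∀ w : InfinitePlace K, w (x - algebraMap (𝓞 K) K γ) ≤ R := by
  classical
  set b := integralBasis K with hb
  refine ⟨∑ i, ∑ w : InfinitePlace K, w (b i) + 1, ?_, ?_⟩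
  · have : 0 ≤ ∑ i, ∑ w : InfinitePlace K, w (b i) :=
      Finset.sum_nonneg fun i _ => Finset.sum_nonneg fun w _ => apply_nonneg w _
    linarith
  intro x
  refine ⟨∑ i, (round (b.repr x i)) • RingOfIntegers.basis K i, fun w => ?_⟩
  have hx : x = ∑ i, (b.repr x i) • b i := (b.sum_repr x).symm
  have hγ : algebraMap (𝓞 K) K (∑ i, (round (b.repr x i)) • RingOfIntegers.basis K i) =
      ∑ i, ((round (b.repr x i) : ℤ) : ℚ) • b i := by
    rw [map_sum]
    refine Finset.sum_congr rfl fun i _ => ?_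
    rw [hb, integralBasis_apply, zsmul_eq_mul, map_mul, map_intCast, Rat.smul_def, Rat.cast_intCast]
  have hdiff : x - algebraMap (𝓞 K) K (∑ i, (round (b.repr x i)) • RingOfIntegers.basis K i) =
      ∑ i, ((b.repr x i - (round (b.repr x i) : ℤ) : ℚ) : K) * b i := by
    rw [hγ]
    calc x - ∑ i, ((round (b.repr x i) : ℤ) : ℚ) • b i
        = (∑ i, (b.repr x i) • b i) - ∑ i, ((round (b.repr x i) : ℤ) : ℚ) • b i := by
          rw [← hx]
      _ = _ := by
          rw [← Finset.sum_sub_distrib]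
          refine Finset.sum_congr rfl fun i _ => ?_
          rw [Rat.smul_def, Rat.smul_def, ← sub_mul, Rat.cast_sub]
  rw [hdiff]
  calc w (∑ i, ((b.repr x i - (round (b.repr x i) : ℤ) : ℚ) : K) * b i)
      ≤ ∑ i, w (((b.repr x i - (round (b.repr x i) : ℤ) : ℚ) : K) * b i) := w.1.sum_le _ _
    _ ≤ ∑ i, w (b i) := by
        refine Finset.sum_le_sum fun i _ => ?_
        rw [map_mul, infinitePlace_ratCast]
        have h1 : |((b.repr x i - (round (b.repr x i) : ℤ) : ℚ) : ℝ)| ≤ 1 := by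
          have := abs_sub_round (b.repr x i)
          have h2 : |(b.repr x i - (round (b.repr x i) : ℤ) : ℚ)| ≤ 1 := this.trans (by norm_num)
          exact_mod_cast h2
        calc _ ≤ 1 * w (b i) := mul_le_mul_of_nonneg_right h1 (apply_nonneg w _)
          _ = w (b i) := one_mul _
    _ ≤ ∑ i, ∑ w : InfinitePlace K, w (b i) :=
        Finset.sum_le_sum fun i _ =>
          Finset.single_le_sum (f := fun w : InfinitePlace K => w (b i))
            (fun w _ => apply_nonneg w _) (Finset.mem_univ w)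
    _ ≤ _ := by linarith


/-- (S2) small elements in `𝔭₀^{-m} J`. -/
theorem exists_small (v₀ : HeightOneSpectrum (𝓞 K)) (J : Ideal (𝓞 K)) (hJ : J ≠ ⊥) (δ : ℝ)
    (hδ : 0 < δ) :
    ∃ (m : ℕ) (l : K), l ≠ 0 ∧
      (∀ y ∈ v₀.asIdeal ^ m, ∃ j ∈ J, algebraMap (𝓞 K) K j = l * algebraMap (𝓞 K) K y) ∧
      ∀ w : InfinitePlace K, w l < δ := by
  classical
  set P₀ : FractionalIdeal (𝓞 K)⁰ K := (v₀.asIdeal : FractionalIdeal (𝓞 K)⁰ K) with hP₀
  have hP₀ne : P₀ ≠ 0 := FractionalIdeal.coeIdeal_ne_zero.mpr v₀.ne_bot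
  have hJne : (J : FractionalIdeal (𝓞 K)⁰ K) ≠ 0 := FractionalIdeal.coeIdeal_ne_zero.mpr hJ
  let f : InfinitePlace K → NNReal := fun _ => δ.toNNReal
  have hf : ∀ w, ((f w : NNReal) : ℝ) = δ := fun w => Real.coe_toNNReal δ hδ.le
  set V := MeasureTheory.volume (convexBodyLT K f) with hV
  have hVpos : 0 < V := by
    rw [hV, convexBodyLT_volume]
    refine ENNReal.mul_pos (by exact_mod_cast convexBodyLTFactor_ne_zero K) ?_
    rw [ENNReal.coe_ne_zero]
    refine Finset.prod_ne_zero_iff.mpr fun w _ => pow_ne_zero _ ?_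
    simpa [f] using hδ
  set C := MeasureTheory.volume (ZSpan.fundamentalDomain (latticeBasis K)) *
    (2 : ENNReal) ^ (Module.finrank ℝ (mixedSpace K)) with hC
  have hCtop : C ≠ ⊤ := by
    have h1 := minkowskiBound_lt_top K 1
    rw [minkowskiBound, volume_fundamentalDomain_fractionalIdealLatticeBasis] at h1
    simp only [Units.val_one, FractionalIdeal.absNorm_one, Rat.cast_one, ENNReal.ofReal_one,
      one_mul] at h1
    exact h1.ne
  -- the norm of `𝔭₀` is at least two
  have hq : (2 : ℝ) ≤ (Ideal.absNorm v₀.asIdeal : ℝ) := by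
    have h0 : Ideal.absNorm v₀.asIdeal ≠ 0 := fun h => v₀.ne_bot (Ideal.absNorm_eq_zero_iff.mp h)
    have h1 : Ideal.absNorm v₀.asIdeal ≠ 1 := fun h =>
      v₀.isPrime.ne_top (Ideal.absNorm_eq_one_iff.mp h)
    have : 2 ≤ Ideal.absNorm v₀.asIdeal := by omega
    exact_mod_cast this
  -- choose `m`
  obtain ⟨r, hr0, hr⟩ : ∃ r : ℝ, 0 < r ∧ ENNReal.ofReal r * C < V := by
    by_cases hC0 : C = 0
    · exact ⟨1, one_pos, by rw [hC0, mul_zero]; exact hVpos⟩
    · have hdiv : 0 < V / C := ENNReal.div_pos hVpos.ne' hCtop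
      obtain ⟨r, hr0, hr⟩ := ENNReal.lt_iff_exists_real_btwn.mp hdiv
      refine ⟨r, ?_, ?_⟩
      · exact ENNReal.ofReal_pos.mp hr.1
      · exact (ENNReal.lt_div_iff_mul_lt (Or.inl hC0) (Or.inl hCtop)).mp hr.2
  obtain ⟨m, hm⟩ : ∃ m : ℕ, (Ideal.absNorm J : ℝ) / (Ideal.absNorm v₀.asIdeal : ℝ) ^ m < r := by
    have hA : (0 : ℝ) ≤ (Ideal.absNorm J : ℝ) := Nat.cast_nonneg _
    obtain ⟨m, hm⟩ := pow_unbounded_of_one_lt ((Ideal.absNorm J : ℝ) / r)
      (show (1 : ℝ) < (Ideal.absNorm v₀.asIdeal : ℝ) by linarith)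
    refine ⟨m, ?_⟩
    have hpos : (0 : ℝ) < (Ideal.absNorm v₀.asIdeal : ℝ) ^ m := by positivity
    rw [div_lt_iff₀ hpos]
    rw [div_lt_iff₀ hr0] at hm
    linarith
  let I : (FractionalIdeal (𝓞 K)⁰ K)ˣ :=
    Units.mk0 (P₀ ^ (-(m : ℤ)) * (J : FractionalIdeal (𝓞 K)⁰ K))
      (mul_ne_zero (zpow_ne_zero _ hP₀ne) hJne)
  have hnorm : ((FractionalIdeal.absNorm (I : FractionalIdeal (𝓞 K)⁰ K) : ℚ) : ℝ) =
      (Ideal.absNorm J : ℝ) / (Ideal.absNorm v₀.asIdeal : ℝ) ^ m := by
    simp only [I, Units.val_mk0, map_mul, hP₀, zpow_neg, zpow_natCast, map_inv₀, map_pow,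
      FractionalIdeal.coeIdeal_absNorm]
    push_cast
    rw [div_eq_inv_mul]
  have hbound : minkowskiBound K I < V := by
    rw [minkowskiBound, volume_fundamentalDomain_fractionalIdealLatticeBasis, mul_assoc, ← hC, hnorm]
    refine lt_of_le_of_lt ?_ hr
    gcongr
  obtain ⟨a, haI, ha0, haw⟩ := exists_ne_zero_mem_ideal_lt K I hbound
  refine ⟨m, a, ha0, ?_, fun w => by rw [← hf w]; exact haw w⟩
  intro y hy
  have hyP : algebraMap (𝓞 K) K y ∈ ((v₀.asIdeal ^ m : Ideal (𝓞 K)) : FractionalIdeal (𝓞 K)⁰ K) :=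
    (FractionalIdeal.mem_coeIdeal _).mpr ⟨y, hy, rfl⟩
  have hmul := FractionalIdeal.mul_mem_mul haI hyP
  have hI : (I : FractionalIdeal (𝓞 K)⁰ K) *
      ((v₀.asIdeal ^ m : Ideal (𝓞 K)) : FractionalIdeal (𝓞 K)⁰ K) = J := by
    simp only [I, Units.val_mk0, FractionalIdeal.coeIdeal_pow, zpow_neg, zpow_natCast]
    rw [← hP₀, mul_right_comm, inv_mul_cancel₀ (pow_ne_zero _ hP₀ne), one_mul]
  rw [hI] at hmul
  obtain ⟨j, hj, hja⟩ := (FractionalIdeal.mem_coeIdeal _).mp hmul
  exact ⟨j, hj, hja⟩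

open WithZero in
/-- (S2') small elements with prescribed finite valuations, no condition at `v₀`. -/
theorem exists_small_val (v₀ : HeightOneSpectrum (𝓞 K)) (S : Finset (HeightOneSpectrum (𝓞 K)))
    (M : ℕ) (δ : ℝ) (hδ : 0 < δ) :
    ∃ l : K, l ≠ 0 ∧ (∀ v ∈ S, v ≠ v₀ → v.valuation K l ≤ exp (-(M : ℤ))) ∧
      (∀ v : HeightOneSpectrum (𝓞 K), v ≠ v₀ → v.valuation K l ≤ 1) ∧
      ∀ w : InfinitePlace K, w l < δ := by
  classical
  set J : Ideal (𝓞 K) := ∏ v ∈ S, v.asIdeal ^ M with hJ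
  have hJne : J ≠ ⊥ := by
    rw [hJ, ← Ideal.zero_eq_bot, Finset.prod_ne_zero_iff]
    intro v _
    exact pow_ne_zero _ v.ne_bot
  obtain ⟨m, l, hl0, hl, hw⟩ := exists_small K v₀ J hJne δ hδ
  have key : ∀ v : HeightOneSpectrum (𝓞 K), v ≠ v₀ →
      ∃ j ∈ J, v.valuation K l = v.valuation K (algebraMap (𝓞 K) K j) := by
    intro v hv
    have hnle : ¬ (v₀.asIdeal ^ m ≤ v.asIdeal) := by
      intro hle
      have h1 : v₀.asIdeal ≤ v.asIdeal := v.isPrime.le_of_pow_le hle
      have h2 : v₀.asIdeal = v.asIdeal := v₀.isMaximal.eq_of_le v.isPrime.ne_top h1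
      exact hv (HeightOneSpectrum.ext h2.symm)
    obtain ⟨y, hy, hyv⟩ := SetLike.not_le_iff_exists.mp hnle
    obtain ⟨j, hj, hjl⟩ := hl y hy
    refine ⟨j, hj, ?_⟩
    have hy1 : v.valuation K (algebraMap (𝓞 K) K y) = 1 := by
      rw [valuation_of_algebraMap]
      exact (intValuation_eq_one_iff_mem_primeCompl v y).mpr hyv
    rw [hjl, map_mul, hy1, mul_one]
  refine ⟨l, hl0, ?_, ?_, hw⟩
  · intro v hvS hv
    obtain ⟨j, hj, hjv⟩ := key v hv
    rw [hjv, valuation_of_algebraMap, intValuation_le_pow_iff_mem]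
    have hle : J ≤ v.asIdeal ^ M := Ideal.le_of_dvd (Finset.dvd_prod_of_mem _ hvS)
    exact hle hj
  · intro v hv
    obtain ⟨j, hj, hjv⟩ := key v hv
    rw [hjv]
    exact valuation_le_one v j

open WithZero

/-- a nonzero element of `ℤᵐ⁰` is bounded below by some `exp (-M)`. -/
theorem exists_exp_neg_le (x : ℤᵐ⁰) (hx : x ≠ 0) : ∃ M : ℕ, exp (-(M : ℤ)) ≤ x := by
  refine ⟨(-(log x)).toNat, ?_⟩
  have h1 : x = exp (log x) := (WithZero.exp_log hx).symm
  rw [h1, WithZero.exp_le_exp, WithZero.log_exp]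
  have := Int.self_le_toNat (-(log x))
  omega

/-- (S1) simultaneous approximation at finitely many finite places by an element integral at all
other finite places. -/
theorem exists_approx_finite (S : Finset (HeightOneSpectrum (𝓞 K)))
    (a : HeightOneSpectrum (𝓞 K) → K) (N : ℕ) :
    ∃ x : K, (∀ v ∈ S, v.valuation K (x - a v) ≤ exp (-(N : ℤ))) ∧
      ∀ v : HeightOneSpectrum (𝓞 K), v ∉ S → v.valuation K x ≤ 1 := by
  classical
  -- common denominator
  obtain ⟨⟨s, hs⟩, hsa⟩ := IsLocalization.exist_integer_multiples_of_finset (𝓞 K)⁰ (S.image a)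
  have hs0 : s ≠ 0 := nonZeroDivisors.ne_zero hs
  have hsK : algebraMap (𝓞 K) K s ≠ 0 := by
    simpa using hs0
  have hb : ∀ v ∈ S, ∃ b : 𝓞 K, algebraMap (𝓞 K) K b = algebraMap (𝓞 K) K s * a v := by
    intro v hv
    obtain ⟨b, hb⟩ := hsa (a v) (Finset.mem_image_of_mem a hv)
    refine ⟨b, ?_⟩
    rw [hb]
    exact Algebra.smul_def s (a v)
  choose! b hb using hb
  -- primes dividing `s`
  have hfin : {v : HeightOneSpectrum (𝓞 K) | v.asIdeal ∣ Ideal.span {s}}.Finite :=
    Ideal.finite_factors (by simpa using hs0)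
  set S' : Finset (HeightOneSpectrum (𝓞 K)) := S ∪ hfin.toFinset with hS'
  -- uniform bound on the valuations of `s`
  have hM : ∃ M : ℕ, ∀ v ∈ S', exp (-(M : ℤ)) ≤ v.intValuation s := by
    have : ∀ v : HeightOneSpectrum (𝓞 K), ∃ M : ℕ, exp (-(M : ℤ)) ≤ v.intValuation s :=
      fun v => exists_exp_neg_le _ (v.intValuation_ne_zero s hs0)
    choose Mv hMv using this
    refine ⟨∑ v ∈ S', Mv v, fun v hv => le_trans ?_ (hMv v)⟩
    rw [WithZero.exp_le_exp]
    have : Mv v ≤ ∑ v ∈ S', Mv v := Finset.single_le_sum (fun _ _ => Nat.zero_le _) hv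
    omega
  obtain ⟨M, hM⟩ := hM
  -- CRT
  obtain ⟨y, hy⟩ := IsDedekindDomain.exists_forall_sub_mem_ideal (s := S')
    (fun v : HeightOneSpectrum (𝓞 K) => v.asIdeal) (fun _ => N + M) (fun v _ => v.prime)
    (fun v _ u _ hvu h => hvu (HeightOneSpectrum.ext h))
    (fun v => if v.1 ∈ S then b v.1 else 0)
  refine ⟨algebraMap (𝓞 K) K y / algebraMap (𝓞 K) K s, ?_, ?_⟩
  · intro v hv
    have hvS' : v ∈ S' := Finset.mem_union_left _ hv
    have h1 := hy v hvS'
    simp only [hv, if_true] at h1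
    have h2 : algebraMap (𝓞 K) K y / algebraMap (𝓞 K) K s - a v =
        algebraMap (𝓞 K) K (y - b v) / algebraMap (𝓞 K) K s := by
      rw [map_sub, hb v hv]
      field_simp
    rw [h2, map_div₀, valuation_of_algebraMap, valuation_of_algebraMap]
    have h3 : v.intValuation (y - b v) ≤ exp (-((N + M : ℕ) : ℤ)) :=
      (intValuation_le_pow_iff_mem v _ _).mpr h1
    have h4 : v.intValuation s ≠ 0 := v.intValuation_ne_zero s hs0
    rw [div_le_iff₀ (zero_lt_iff.mpr h4)]
    calc v.intValuation (y - b v) ≤ exp (-((N + M : ℕ) : ℤ)) := h3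
      _ = exp (-(N : ℤ)) * exp (-(M : ℤ)) := by
          rw [← WithZero.exp_add]; congr 1; push_cast; ring
      _ ≤ exp (-(N : ℤ)) * v.intValuation s := by
          gcongr
          exact hM v hvS'
  · intro v hv
    rw [map_div₀, valuation_of_algebraMap, valuation_of_algebraMap]
    have h4 : v.intValuation s ≠ 0 := v.intValuation_ne_zero s hs0
    rw [div_le_iff₀ (zero_lt_iff.mpr h4), one_mul]
    by_cases hvS' : v ∈ S'
    · have h1 := hy v hvS'
      simp only [hv, if_false, sub_zero] at h1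
      have h3 : v.intValuation y ≤ exp (-((N + M : ℕ) : ℤ)) :=
        (intValuation_le_pow_iff_mem v _ _).mpr h1
      refine h3.trans (le_trans ?_ (hM v hvS'))
      rw [WithZero.exp_le_exp]
      push_cast
      omega
    · have h5 : ¬ v.asIdeal ∣ Ideal.span {s} := by
        intro h
        exact hvS' (Finset.mem_union_right _ (hfin.mem_toFinset.mpr h))
      have h6 : v.intValuation s = 1 := by
        have := (intValuation_lt_one_iff_dvd v s).not.mpr h5
        exact le_antisymm (intValuation_le_one v s) (not_lt.mp this)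
      rw [h6]
      exact intValuation_le_one v y

/-- weak approximation at the infinite places, in terms of the absolute values. -/
theorem exists_approx_infinite (c : InfinitePlace K → K) (ε : ℝ) (hε : 0 < ε) :
    ∃ x : K, ∀ w : InfinitePlace K, w (x - c w) < ε := by
  classical
  have hd := InfinitePlace.denseRange_algebraMap_pi K
  let p : (w : InfinitePlace K) → WithAbs w.1 := fun w => WithAbs.toAbs w.1 (c w)
  have hopen : IsOpen (Metric.ball p ε) := Metric.isOpen_ball
  obtain ⟨x, hx⟩ := hd.exists_mem_open hopen ⟨p, Metric.mem_ball_self hε⟩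
  refine ⟨x, fun w => ?_⟩
  rw [Metric.mem_ball, dist_pi_lt_iff hε] at hx
  have := hx w
  rw [dist_eq_norm] at this
  exact this


/-- **Strong approximation for the additive group off one finite place** (rational form). -/
theorem strongApprox_rational (v₀ : HeightOneSpectrum (𝓞 K))
    (S : Finset (HeightOneSpectrum (𝓞 K))) (a : HeightOneSpectrum (𝓞 K) → K) (N : ℕ)
    (c : InfinitePlace K → K) (ε : ℝ) (hε : 0 < ε) :
    ∃ x : K, (∀ v ∈ S, v ≠ v₀ → v.valuation K (x - a v) ≤ exp (-(N : ℤ))) ∧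
      (∀ v : HeightOneSpectrum (𝓞 K), v ∉ S → v ≠ v₀ → v.valuation K x ≤ 1) ∧
      ∀ w : InfinitePlace K, w (x - c w) < ε := by
  classical
  obtain ⟨x₀, hx₀S, hx₀⟩ := exists_approx_finite K S a N
  obtain ⟨c', hc'⟩ := exists_approx_infinite K (fun w => c w - x₀) (ε / 2) (half_pos hε)
  obtain ⟨R, hR0, hR⟩ := exists_bound_sub_integer K
  obtain ⟨l, hl0, hlS, hl, hlw⟩ := exists_small_val K v₀ S N (ε / (2 * R)) (by positivity)
  obtain ⟨γ, hγ⟩ := hR (l⁻¹ * c')
  set u : K := l * algebraMap (𝓞 K) K γ with hu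
  have huv : ∀ v : HeightOneSpectrum (𝓞 K), v.valuation K u ≤ v.valuation K l := by
    intro v
    rw [hu, map_mul]
    calc v.valuation K l * v.valuation K (algebraMap (𝓞 K) K γ)
        ≤ v.valuation K l * 1 := by
          gcongr
          exact valuation_le_one v γ
      _ = v.valuation K l := mul_one _
  have huw : ∀ w : InfinitePlace K, w (u - c') < ε / 2 := by
    intro w
    have h1 : u - c' = l * (algebraMap (𝓞 K) K γ - l⁻¹ * c') := by
      rw [hu, mul_sub, ← mul_assoc, mul_inv_cancel₀ hl0, one_mul]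
    rw [h1, map_mul]
    have h2 : w (algebraMap (𝓞 K) K γ - l⁻¹ * c') ≤ R := by
      rw [← neg_sub]
      have h3 : w (-(l⁻¹ * c' - algebraMap (𝓞 K) K γ)) = w (l⁻¹ * c' - algebraMap (𝓞 K) K γ) :=
        w.1.map_neg _
      rw [h3]
      exact hγ w
    calc w l * w (algebraMap (𝓞 K) K γ - l⁻¹ * c') ≤ w l * R :=
          mul_le_mul_of_nonneg_left h2 (apply_nonneg w _)
      _ < ε / (2 * R) * R := mul_lt_mul_of_pos_right (hlw w) hR0
      _ = ε / 2 := by field_simp
  refine ⟨x₀ + u, ?_, ?_, ?_⟩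
  · intro v hvS hv
    have h1 : x₀ + u - a v = (x₀ - a v) + u := by ring
    rw [h1]
    refine (Valuation.map_add _ _ _).trans (max_le (hx₀S v hvS) ((huv v).trans (hlS v hvS hv)))
  · intro v hvS hv
    exact (Valuation.map_add _ _ _).trans (max_le (hx₀ v hvS) ((huv v).trans (hl v hv)))
  · intro w
    have h1 : x₀ + u - c w = (u - c') + (c' - (c w - x₀)) := by ring
    rw [h1]
    calc w ((u - c') + (c' - (c w - x₀))) ≤ w (u - c') + w (c' - (c w - x₀)) := w.1.add_le _ _
      _ < ε / 2 + ε / 2 := add_lt_add (huw w) (hc' w)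
      _ = ε := add_halves ε

end Groth.Agent.R2.H99.SAGa
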