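/-
helper99: strong approximation for the additive group of a number field off one finite place
(topological form: open subsets of the completions).
-/
import Groth.Agent.R2.H99SAGa

set_option autoImplicit false
set_option linter.style.haveILetI false

namespace Groth.Agent.R2.H99.SAGa

open NumberField IsDedekindDomain HeightOneSpectrum WithZero

variable (K : Type*) [Field K] [NumberField K]

omit [NumberField K] in
/-- norm of the image of an element of `K` in the completion at an infinite place -/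
theorem norm_algebraMap_completion (w : InfinitePlace K) (x : K) :
    ‖algebraMap K w.Completion x‖ = w x :=
  InfinitePlace.Completion.norm_coe w (WithAbs.toAbs w.1 x)

/-- valuation of the image of an element of `K` in the completion at a finite place -/
theorem valued_algebraMap_adicCompletion (v : HeightOneSpectrum (𝓞 K)) (x : K) :
    Valued.v (algebraMap K (v.adicCompletion K) x) = v.valuation K x :=
  valuedAdicCompletion_eq_valuation' v x

/-- a nonempty open subset of the completion at a finite place contains a ball around a point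
of `K` -/
theorem exists_ball_subset_finite (v : HeightOneSpectrum (𝓞 K)) (Ω : Set (v.adicCompletion K))
    (hΩ : IsOpen Ω) (hne : Ω.Nonempty) :
    ∃ (a : K) (N : ℕ), ∀ x : K, v.valuation K (x - a) ≤ exp (-(N : ℤ)) →
      algebraMap K (v.adicCompletion K) x ∈ Ω := by
  obtain ⟨a, ha⟩ := (denseRange_algebraMap K v).exists_mem_open hΩ hne
  obtain ⟨γ, hγ⟩ := Valued.mem_nhds.mp (hΩ.mem_nhds ha)
  have hγ0 : MonoidWithZeroHom.ValueGroup₀.embedding γ.1 ≠ 0 := by
    rw [ne_eq, map_eq_zero_iff _ MonoidWithZeroHom.ValueGroup₀.embedding_injective]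
    exact γ.ne_zero
  obtain ⟨M, hM⟩ := exists_exp_neg_le (MonoidWithZeroHom.ValueGroup₀.embedding γ.1) hγ0
  refine ⟨a, M + 1, fun x hx => hγ ?_⟩
  show (Valued.v (R := v.adicCompletion K)).restrict
    (algebraMap K (v.adicCompletion K) x - algebraMap K (v.adicCompletion K) a) < γ.1
  rw [Valuation.restrict_lt_iff_lt_embedding, ← map_sub, valued_algebraMap_adicCompletion]
  refine lt_of_le_of_lt hx (lt_of_lt_of_le ?_ hM)
  rw [WithZero.exp_lt_exp]
  push_cast
  omega

omit [NumberField K] in
/-- a nonempty open subset of the completion at an infinite place contains a ball around a point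
of `K` -/
theorem exists_ball_subset_infinite (w : InfinitePlace K) (Ω : Set w.Completion)
    (hΩ : IsOpen Ω) (hne : Ω.Nonempty) :
    ∃ (c : K) (ε : ℝ), 0 < ε ∧ ∀ x : K, w (x - c) < ε → algebraMap K w.Completion x ∈ Ω := by
  have hd : DenseRange (algebraMap K w.Completion) := by
    have := InfinitePlace.Completion.denseRange_coe w
    exact this.comp (WithAbs.equiv w.1).symm.surjective.denseRange
      (InfinitePlace.Completion.continuous_coe w)
  obtain ⟨c, hc⟩ := hd.exists_mem_open hΩ hne
  obtain ⟨ε, hε, hball⟩ := Metric.isOpen_iff.mp hΩ _ hc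
  refine ⟨c, ε, hε, fun x hx => hball ?_⟩
  rw [Metric.mem_ball, dist_eq_norm, ← map_sub, norm_algebraMap_completion]
  exact hx

/-- **Strong approximation for the additive group off one finite place** (topological form). -/
theorem strongApprox_top (v₀ : HeightOneSpectrum (𝓞 K))
    (S : Finset (HeightOneSpectrum (𝓞 K)))
    (Ωf : (v : HeightOneSpectrum (𝓞 K)) → Set (v.adicCompletion K))
    (hΩf : ∀ v ∈ S, v ≠ v₀ → IsOpen (Ωf v) ∧ (Ωf v).Nonempty)
    (Ωi : (w : InfinitePlace K) → Set w.Completion)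
    (hΩi : ∀ w, IsOpen (Ωi w) ∧ (Ωi w).Nonempty) :
    ∃ x : K, (∀ v ∈ S, v ≠ v₀ → algebraMap K (v.adicCompletion K) x ∈ Ωf v) ∧
      (∀ w, algebraMap K w.Completion x ∈ Ωi w) ∧
      (∀ v : HeightOneSpectrum (𝓞 K), v ∉ S → v ≠ v₀ → v.valuation K x ≤ 1) := by
  classical
  have hf : ∀ v : HeightOneSpectrum (𝓞 K), ∃ (a : K) (N : ℕ), v ∈ S → v ≠ v₀ → ∀ x : K,
      v.valuation K (x - a) ≤ exp (-(N : ℤ)) → algebraMap K (v.adicCompletion K) x ∈ Ωf v := by
    intro v
    by_cases hv : v ∈ S ∧ v ≠ v₀
    · obtain ⟨a, N, h⟩ := exists_ball_subset_finite K v (Ωf v) (hΩf v hv.1 hv.2).1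
        (hΩf v hv.1 hv.2).2
      exact ⟨a, N, fun _ _ => h⟩
    · exact ⟨0, 0, fun h1 h2 => absurd ⟨h1, h2⟩ hv⟩
  choose a Nv ha using hf
  have hi : ∀ w : InfinitePlace K, ∃ (c : K) (ε : ℝ), 0 < ε ∧ ∀ x : K, w (x - c) < ε →
      algebraMap K w.Completion x ∈ Ωi w :=
    fun w => exists_ball_subset_infinite K w (Ωi w) (hΩi w).1 (hΩi w).2
  choose c εw hεw hc using hi
  -- uniform precision
  set N : ℕ := ∑ v ∈ S, Nv v with hN
  obtain ⟨ε, hε, hεle⟩ : ∃ ε : ℝ, 0 < ε ∧ ∀ w, ε ≤ εw w := by
    refine ⟨Finset.univ.inf' Finset.univ_nonempty εw, ?_, fun w => Finset.inf'_le _ (Finset.mem_univ w)⟩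
    rw [Finset.lt_inf'_iff]
    exact fun w _ => hεw w
  obtain ⟨x, hxS, hx, hxw⟩ := strongApprox_rational K v₀ S a N c ε hε
  refine ⟨x, ?_, ?_, hx⟩
  · intro v hvS hv
    refine ha v hvS hv x ((hxS v hvS hv).trans ?_)
    rw [WithZero.exp_le_exp]
    have : Nv v ≤ N := Finset.single_le_sum (f := Nv) (fun _ _ => Nat.zero_le _) hvS
    omega
  · intro w
    exact hc w x ((hxw w).trans_le (hεle w))

end Groth.Agent.R2.H99.SAGa
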