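/-
helper99: polynomial and valuation lemmas for strong approximation on the complement of a
codimension-two closed subset of affine space (S19976).
-/
import Mathlib
import Groth.Agent.Lib.Helper28FGDim

set_option autoImplicit false
set_option linter.style.haveILetI false

namespace Groth.Agent.R2.H99.SAPoly

universe u

section Equiv
open MvPolynomial

variable {R R' : Type*} [CommRing R] [CommRing R']

/-- naturality of `finSuccEquiv` with respect to change of coefficients -/
theorem finSuccEquiv_map (φ : R →+* R') (n : ℕ) (F : MvPolynomial (Fin (n + 1)) R) :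
    finSuccEquiv R' n (MvPolynomial.map φ F) =
      Polynomial.map (MvPolynomial.map φ) (finSuccEquiv R n F) := by
  have h : ((finSuccEquiv R' n).toAlgHom.toRingHom.comp
        (MvPolynomial.map φ)) =
      (Polynomial.mapRingHom (MvPolynomial.map φ)).comp
        (finSuccEquiv R n).toAlgHom.toRingHom := by
    refine MvPolynomial.ringHom_ext (fun r => ?_) (fun i => ?_)
    · simp [finSuccEquiv_apply]
    · refine Fin.cases ?_ (fun j => ?_) i
      · simp [finSuccEquiv_X_zero]
      · simp [finSuccEquiv_X_succ]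
  exact RingHom.congr_fun h F

theorem finSuccEquiv_rename_succ (n : ℕ) (g : MvPolynomial (Fin n) R) :
    finSuccEquiv R n (rename Fin.succ g) = Polynomial.C g := by
  have h : ((finSuccEquiv R n).toAlgHom.toRingHom.comp
      (rename (R := R) Fin.succ : MvPolynomial (Fin n) R →ₐ[R] _).toRingHom) = Polynomial.C := by
    refine MvPolynomial.ringHom_ext (fun r => ?_) (fun i => ?_)
    · simp [finSuccEquiv_apply]
    · simp [finSuccEquiv_X_succ]
  exact RingHom.congr_fun h g

variable {L : Type*} [CommRing L] [Algebra R L]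

/-- evaluation at `Fin.cons t y` through `finSuccEquiv` -/
theorem aeval_cons_eq (n : ℕ) (t : L) (y : Fin n → L) (F : MvPolynomial (Fin (n + 1)) R) :
    aeval (Fin.cons t y : Fin (n + 1) → L) F =
      (Polynomial.map ((aeval y : MvPolynomial (Fin n) R →ₐ[R] L) : MvPolynomial (Fin n) R →+* L)
        (finSuccEquiv R n F)).eval t := by
  have h : ((aeval (Fin.cons t y : Fin (n + 1) → L) : MvPolynomial (Fin (n + 1)) R →ₐ[R] L) :
      MvPolynomial (Fin (n + 1)) R →+* L) =
      ((Polynomial.evalRingHom t).comp (Polynomial.mapRingHom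
        ((aeval y : MvPolynomial (Fin n) R →ₐ[R] L) : MvPolynomial (Fin n) R →+* L))).comp
        (finSuccEquiv R n).toAlgHom.toRingHom := by
    refine MvPolynomial.ringHom_ext (fun r => ?_) (fun i => ?_)
    · simp [finSuccEquiv_apply]
    · refine Fin.cases ?_ (fun j => ?_) i
      · simp [finSuccEquiv_X_zero]
      · simp [finSuccEquiv_X_succ]
  exact RingHom.congr_fun h F


end Equiv

section Val
open MvPolynomial
variable {L Γ₀ : Type*} [CommRing L] [LinearOrderedCommGroupWithZero Γ₀] (v : Valuation L Γ₀)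

/-- values of polynomials with integral coefficients at integral points are integral -/
theorem val_aeval_le_one {R σ : Type*} [CommRing R] [Algebra R L]
    (hR : ∀ r : R, v (algebraMap R L r) ≤ 1) (P : σ → L) (hP : ∀ i, v (P i) ≤ 1)
    (F : MvPolynomial σ R) : v (aeval P F) ≤ 1 := by
  induction F using MvPolynomial.induction_on with
  | C r => simpa using hR r
  | add p q hp hq =>
    rw [map_add]
    exact (v.map_add _ _).trans (max_le hp hq)
  | mul_X p i hp =>
    rw [map_mul, aeval_X, map_mul]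
    exact mul_le_one' hp (hP i)

/-- a polynomial with coefficients in the maximal ideal takes values in the maximal ideal at
integral points -/
theorem val_eval_lt_one (p : Polynomial L) (hp : ∀ e, v (p.coeff e) < 1) (t : L) (ht : v t ≤ 1) :
    v (p.eval t) < 1 := by
  rw [Polynomial.eval_eq_sum_range]
  refine v.map_sum_lt one_ne_zero fun e _ => ?_
  rw [map_mul, map_pow]
  calc v (p.coeff e) * v t ^ e ≤ v (p.coeff e) * 1 := by
        gcongr
        exact pow_le_one₀ zero_le ht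
    _ = v (p.coeff e) := mul_one _
    _ < 1 := hp e

theorem val_det_le_one {ι : Type*} [Fintype ι] [DecidableEq ι] (M : Matrix ι ι L)
    (hM : ∀ i j, v (M i j) ≤ 1) : v M.det ≤ 1 := by
  rw [Matrix.det_apply]
  refine v.map_sum_le fun σ _ => ?_
  have h1 : v (∏ i, M (σ i) i) ≤ 1 := by
    rw [map_prod]
    exact Finset.prod_le_one' fun i _ => hM _ _
  rcases Int.units_eq_one_or (Equiv.Perm.sign σ) with h | h
  · rw [h, one_smul]; exact h1
  · rw [h, Units.neg_smul, one_smul, Valuation.map_neg]; exact h1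

/-- Vandermonde argument: if a polynomial of degree `≤ d` takes values in the maximal ideal at
`d + 1` integral points with pairwise unit differences, all its coefficients lie in the maximal
ideal. -/
theorem val_coeff_lt_one_of_vandermonde (d : ℕ) (t : Fin (d + 1) → L) (ht : ∀ i, v (t i) ≤ 1)
    (htt : ∀ i j, i ≠ j → v (t i - t j) = 1) (c : Fin (d + 1) → L)
    (hy : ∀ i, v (∑ e, c e * t i ^ (e : ℕ)) < 1) : ∀ e, v (c e) < 1 := by
  classical
  set V := Matrix.vandermonde t with hV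
  have hVc : ∀ i, (V.mulVec c) i = ∑ e, c e * t i ^ (e : ℕ) := by
    intro i
    simp only [Matrix.mulVec, dotProduct, hV, Matrix.vandermonde_apply]
    exact Finset.sum_congr rfl fun e _ => mul_comm _ _
  have hdet : v V.det = 1 := by
    rw [hV, Matrix.det_vandermonde, map_prod]
    refine Finset.prod_eq_one fun i _ => ?_
    rw [map_prod]
    refine Finset.prod_eq_one fun j hj => ?_
    exact htt j i (Finset.mem_Ioi.mp hj).ne'
  have hadj : ∀ e i, v (V.adjugate e i) ≤ 1 := by
    intro e i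
    rw [Matrix.adjugate_apply]
    refine val_det_le_one v _ fun a b => ?_
    rw [Matrix.updateRow_apply]
    split_ifs with h
    · by_cases hb : b = e
      · subst hb; simp
      · rw [Pi.single_eq_of_ne hb]; simp
    · rw [hV, Matrix.vandermonde_apply, map_pow]
      exact pow_le_one₀ zero_le (ht a)
  intro e
  have hkey : V.det * c e = ∑ i, V.adjugate e i * (V.mulVec c) i := by
    have h1 : (V.adjugate * V).mulVec c = V.det • c := by
      rw [Matrix.adjugate_mul, Matrix.smul_mulVec, Matrix.one_mulVec]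
    have h2 := congrFun h1 e
    rw [← Matrix.mulVec_mulVec] at h2
    simp only [Pi.smul_apply, smul_eq_mul] at h2
    rw [← h2]
    rfl
  have h3 : v (V.det * c e) < 1 := by
    rw [hkey]
    refine v.map_sum_lt one_ne_zero fun i _ => ?_
    rw [map_mul, hVc]
    calc v (V.adjugate e i) * v (∑ e, c e * t i ^ (e : ℕ))
        ≤ 1 * v (∑ e, c e * t i ^ (e : ℕ)) := by
          gcongr
          exact hadj e i
      _ = v (∑ e, c e * t i ^ (e : ℕ)) := one_mul _
      _ < 1 := hy i
  rwa [map_mul, hdet, one_mul] at h3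

end Val


section Elim
open Polynomial

attribute [local instance] Polynomial.algebra in
/-- Elimination: an ideal of `A[X]` of "codimension `≥ 2`" meets `A` nontrivially. -/
theorem exists_C_mem_of_dim {A : Type u} [CommRing A] [IsDomain A] [IsNoetherianRing A] (N : ℕ)
    (hN : ∀ 𝔮 : Ideal A[X], 𝔮.IsPrime →
      ((𝔮.height : ℕ∞) : WithBot ℕ∞) + ringKrullDim (A[X] ⧸ 𝔮) = N)
    (J : Ideal A[X]) (hJ : ringKrullDim (A[X] ⧸ J) + 2 ≤ (N : WithBot ℕ∞)) :
    ∃ g : A, g ≠ 0 ∧ C g ∈ J := by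
  by_contra hcon
  push Not at hcon
  set M : Submonoid A[X] := (nonZeroDivisors A).map (C : A →+* A[X]) with hM
  have hdisj : Disjoint (J : Set A[X]) (M : Set A[X]) := by
    rw [Set.disjoint_left]
    rintro x hxJ ⟨g, hg, rfl⟩
    exact hcon g (nonZeroDivisors.ne_zero hg) hxJ
  obtain ⟨𝔮, h𝔮, hJ𝔮, h𝔮M⟩ := Ideal.exists_le_prime_disjoint J M hdisj
  haveI := h𝔮
  haveI : IsLocalization M (FractionRing A)[X] :=
    Polynomial.isLocalization (nonZeroDivisors A) (FractionRing A)
  have hht : (𝔮.map (algebraMap A[X] (FractionRing A)[X])).height = 𝔮.height :=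
    IsLocalization.height_map_of_disjoint M 𝔮 h𝔮M.symm
  have hprime : (𝔮.map (algebraMap A[X] (FractionRing A)[X])).IsPrime :=
    IsLocalization.isPrime_of_isPrime_disjoint M _ 𝔮 h𝔮 h𝔮M.symm
  have hle1 : ((𝔮.height : ℕ∞) : WithBot ℕ∞) ≤ 1 := by
    rw [← hht]
    refine (Ideal.height_le_ringKrullDim_of_ne_top hprime.ne_top).trans ?_
    rw [Polynomial.ringKrullDim_of_isNoetherianRing, ringKrullDim_eq_zero_of_field, zero_add]
  have hsurj : ringKrullDim (A[X] ⧸ 𝔮) ≤ ringKrullDim (A[X] ⧸ J) :=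
    ringKrullDim_le_of_surjective (Ideal.Quotient.factor hJ𝔮) (Ideal.Quotient.factor_surjective hJ𝔮)
  have h1 := hN 𝔮 h𝔮
  -- arithmetic in `WithBot ℕ∞`
  have hnt : Nontrivial (A[X] ⧸ 𝔮) := Ideal.Quotient.nontrivial_iff.mpr h𝔮.ne_top
  have hnn : (0 : WithBot ℕ∞) ≤ ringKrullDim (A[X] ⧸ 𝔮) := ringKrullDim_nonneg_of_nontrivial
  have h2 : (N : WithBot ℕ∞) ≤ 1 + ringKrullDim (A[X] ⧸ J) := by
    rw [← h1]
    exact add_le_add hle1 hsurj
  have h3 : ringKrullDim (A[X] ⧸ J) + 2 ≤ 1 + ringKrullDim (A[X] ⧸ J) := hJ.trans h2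
  have hnnJ : (0 : WithBot ℕ∞) ≤ ringKrullDim (A[X] ⧸ J) := hnn.trans hsurj
  have hfin : ringKrullDim (A[X] ⧸ J) ≤ (N : WithBot ℕ∞) := le_trans (le_add_of_nonneg_right (by norm_num)) hJ
  -- write the dimension as a natural number
  obtain ⟨D, hD⟩ : ∃ D : ℕ, ringKrullDim (A[X] ⧸ J) = (D : WithBot ℕ∞) := by
    induction h : ringKrullDim (A[X] ⧸ J) with
    | bot => rw [h] at hnnJ; simp at hnnJ
    | coe x =>
      induction x with
      | top =>
        rw [h] at hfin
        have h' : ((⊤ : ℕ∞) : WithBot ℕ∞) ≤ ((N : ℕ∞) : WithBot ℕ∞) := hfin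
        rw [WithBot.coe_le_coe, top_le_iff] at h'
        exact absurd h' (ENat.natCast_ne_top N)
      | coe y => exact ⟨y, rfl⟩
  rw [hD] at h3
  have : ((D + 2 : ℕ) : WithBot ℕ∞) ≤ ((1 + D : ℕ) : WithBot ℕ∞) := by
    push_cast
    exact h3
  have := (Nat.cast_le (α := WithBot ℕ∞)).mp this
  omega


theorem hN_poly (k : Type u) [Field k] (n : ℕ) : ∀ 𝔮 : Ideal (MvPolynomial (Fin n) k)[X], 𝔮.IsPrime →
      ((𝔮.height : ℕ∞) : WithBot ℕ∞) + ringKrullDim ((MvPolynomial (Fin n) k)[X] ⧸ 𝔮) =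
        ((n + 1 : ℕ) : WithBot ℕ∞) := by
  intro 𝔮 h𝔮
  let e := (MvPolynomial.finSuccEquiv k n).toRingEquiv
  haveI hk : LocCoh.IsCohenMacaulayRing k := Groth.Agent.Lib.Helper28.isCohenMacaulayRing_of_field k
  haveI hCM : LocCoh.IsCohenMacaulayRing (MvPolynomial (Fin (n + 1)) k) :=
    Groth.Agent.Lib.Helper28.isCohenMacaulayRing_mvPolynomial_fin (n + 1)
  haveI : (𝔮.comap (e : MvPolynomial (Fin (n + 1)) k →+* _)).IsPrime := Ideal.comap_isPrime _ _
  have h1 := Groth.Agent.Lib.Helper28.height_add_ringKrullDim_quotient_eq_of_forall_isMaximal_height_eq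
    (n + 1) (Groth.Agent.Lib.Helper28.height_eq_of_isMaximal_mvPolynomial_fin k (n + 1))
    (𝔮.comap (e : MvPolynomial (Fin (n + 1)) k →+* _))
  have h2 : (𝔮.comap (e : MvPolynomial (Fin (n + 1)) k →+* _)).height = 𝔮.height :=
    RingEquiv.height_comap e 𝔮
  have h3 : ringKrullDim (MvPolynomial (Fin (n + 1)) k ⧸
      𝔮.comap (e : MvPolynomial (Fin (n + 1)) k →+* _)) =
      ringKrullDim ((MvPolynomial (Fin n) k)[X] ⧸ 𝔮) :=
    ringKrullDim_eq_of_ringEquiv (Ideal.quotientEquiv _ _ e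
      (Ideal.map_comap_of_surjective _ e.surjective 𝔮).symm)
  rw [h2, h3] at h1
  exact h1


theorem exists_rename_succ_mem (k : Type u) [Field k] (n : ℕ)
    (I : Ideal (MvPolynomial (Fin (n + 1)) k))
    (hI : ringKrullDim (MvPolynomial (Fin (n + 1)) k ⧸ I) + 2 ≤ ((n + 1 : ℕ) : WithBot ℕ∞)) :
    ∃ g : MvPolynomial (Fin n) k, g ≠ 0 ∧ MvPolynomial.rename Fin.succ g ∈ I := by
  let e : MvPolynomial (Fin (n + 1)) k ≃+* (MvPolynomial (Fin n) k)[X] :=
    (MvPolynomial.finSuccEquiv k n).toRingEquiv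
  obtain ⟨J, hJ⟩ : ∃ J : Ideal (MvPolynomial (Fin n) k)[X], J = I.map (e : _ →+* _) := ⟨_, rfl⟩
  have hJdim : ringKrullDim ((MvPolynomial (Fin n) k)[X] ⧸ J) =
      ringKrullDim (MvPolynomial (Fin (n + 1)) k ⧸ I) :=
    (ringKrullDim_eq_of_ringEquiv (Ideal.quotientEquiv I J e hJ)).symm
  have hJ2 : ringKrullDim ((MvPolynomial (Fin n) k)[X] ⧸ J) + 2 ≤ ((n + 1 : ℕ) : WithBot ℕ∞) := by
    rw [hJdim]; exact hI
  obtain ⟨g, hg0, hgJ⟩ := exists_C_mem_of_dim (n + 1) (hN_poly k n) J hJ2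
  refine ⟨g, hg0, ?_⟩
  have h1 : e (MvPolynomial.rename Fin.succ g) = C g := by
    rw [← finSuccEquiv_rename_succ]
    rfl
  rw [hJ, ← h1] at hgJ
  obtain ⟨x, hxI, hx⟩ := (Ideal.mem_map_of_equiv e _).mp hgJ
  rwa [e.injective hx] at hxI


/-- If all coefficients (w.r.t. the first variable) of the generators of `I` lie in `I'`, then
`codim I ≥ 2` implies `codim I' ≥ 2`. -/
theorem dim_coeff_ideal (k : Type u) [Field k] (n : ℕ) {ι : Type*}
    (F : ι → MvPolynomial (Fin (n + 1)) k) (I' : Ideal (MvPolynomial (Fin n) k))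
    (hgen : ∀ j e, (MvPolynomial.finSuccEquiv k n (F j)).coeff e ∈ I')
    (hI : ringKrullDim (MvPolynomial (Fin (n + 1)) k ⧸ Ideal.span (Set.range F)) + 2 ≤
      ((n + 1 : ℕ) : WithBot ℕ∞)) :
    ringKrullDim (MvPolynomial (Fin n) k ⧸ I') + 2 ≤ (n : WithBot ℕ∞) := by
  let e : MvPolynomial (Fin (n + 1)) k ≃+* (MvPolynomial (Fin n) k)[X] :=
    (MvPolynomial.finSuccEquiv k n).toRingEquiv
  set I := Ideal.span (Set.range F) with hIdef
  -- `I ≤ comap e (I'[X])`
  have hle : I ≤ (I'.map (C : MvPolynomial (Fin n) k →+* _)).comap (e : _ →+* _) := by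
    rw [hIdef, Ideal.span_le]
    rintro _ ⟨j, rfl⟩
    show e (F j) ∈ I'.map C
    rw [Ideal.mem_map_C_iff]
    exact hgen j
  -- the induced surjection on quotients
  let φ : MvPolynomial (Fin (n + 1)) k ⧸ I →+*
      (MvPolynomial (Fin n) k)[X] ⧸ I'.map (C : MvPolynomial (Fin n) k →+* _) :=
    Ideal.quotientMap _ (e : _ →+* _) hle
  have hφ : Function.Surjective φ :=
    Ideal.quotientMap_surjective e.surjective
  have h1 : ringKrullDim ((MvPolynomial (Fin n) k)[X] ⧸ I'.map (C : MvPolynomial (Fin n) k →+* _)) ≤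
      ringKrullDim (MvPolynomial (Fin (n + 1)) k ⧸ I) := ringKrullDim_le_of_surjective φ hφ
  have h2 : ringKrullDim ((MvPolynomial (Fin n) k ⧸ I')[X]) =
      ringKrullDim ((MvPolynomial (Fin n) k)[X] ⧸ I'.map (C : MvPolynomial (Fin n) k →+* _)) :=
    ringKrullDim_eq_of_ringEquiv (Ideal.polynomialQuotientEquivQuotientPolynomial I')
  have h3 : ringKrullDim (MvPolynomial (Fin n) k ⧸ I') + 1 ≤
      ringKrullDim ((MvPolynomial (Fin n) k ⧸ I')[X]) :=
    ringKrullDim_succ_le_ringKrullDim_polynomial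
  have h4 : ringKrullDim (MvPolynomial (Fin n) k ⧸ I') + 1 + 2 ≤ ((n + 1 : ℕ) : WithBot ℕ∞) :=
    le_trans (add_le_add_left (h3.trans (h2.le.trans h1)) 2) hI
  -- arithmetic
  induction h : ringKrullDim (MvPolynomial (Fin n) k ⧸ I') with
  | bot => simp
  | coe x =>
    rw [h] at h4
    induction x with
    | top =>
      exfalso
      have h5 : ((⊤ : ℕ∞) : WithBot ℕ∞) + 1 + 2 = ((⊤ : ℕ∞) : WithBot ℕ∞) := rfl
      rw [h5] at h4
      have h' : ((⊤ : ℕ∞) : WithBot ℕ∞) ≤ (((n + 1 : ℕ) : ℕ∞) : WithBot ℕ∞) := h4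
      rw [WithBot.coe_le_coe, top_le_iff] at h'
      exact absurd h' (ENat.natCast_ne_top _)
    | coe y =>
      have h5 : (((y + 1 + 2 : ℕ) : ℕ∞) : WithBot ℕ∞) ≤ (((n + 1 : ℕ) : ℕ∞) : WithBot ℕ∞) := by
        push_cast
        exact h4
      rw [WithBot.coe_le_coe, Nat.cast_le] at h5
      have h6 : (((y + 2 : ℕ) : ℕ∞) : WithBot ℕ∞) ≤ (((n : ℕ) : ℕ∞) : WithBot ℕ∞) := by
        rw [WithBot.coe_le_coe, Nat.cast_le]
        omega
      push_cast at h6
      exact h6


end Elim

end Groth.Agent.R2.H99.SAPoly
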