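/-
helper99: local lemmas (finite and infinite places) for strong approximation on the complement of a
codimension-two closed subset of affine space (S19976).
-/
import Groth.Agent.R2.H99SAPoly
import Groth.Agent.R2.H99SAGaTop

set_option autoImplicit false
set_option linter.style.haveILetI false
set_option linter.unusedSectionVars false

namespace Groth.Agent.R2.H99.SALocal

open NumberField IsDedekindDomain HeightOneSpectrum WithZero
open Groth.Agent.R2.H99.SAPoly Groth.Agent.R2.H99.SAGa

universe u

section Val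
variable {L Γ₀ : Type*} [CommRing L] [LinearOrderedCommGroupWithZero Γ₀] (v : Valuation L Γ₀)

/-- polynomials with integral coefficients are congruent at congruent integral points -/
theorem val_eval_sub_lt_one (p : Polynomial L) (hp : ∀ e, v (p.coeff e) ≤ 1) (a b : L)
    (ha : v a ≤ 1) (hb : v b ≤ 1) (hab : v (a - b) < 1) : v (p.eval a - p.eval b) < 1 := by
  rw [Polynomial.eval_eq_sum_range, Polynomial.eval_eq_sum_range, ← Finset.sum_sub_distrib]
  refine v.map_sum_lt one_ne_zero fun e _ => ?_
  rw [← mul_sub, map_mul, ← geom_sum₂_mul, map_mul]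
  have h1 : v (∑ i ∈ Finset.range e, a ^ i * b ^ (e - 1 - i)) ≤ 1 := by
    refine v.map_sum_le fun i _ => ?_
    rw [map_mul, map_pow, map_pow]
    exact mul_le_one' (pow_le_one₀ zero_le ha) (pow_le_one₀ zero_le hb)
  calc v (p.coeff e) * (v (∑ i ∈ Finset.range e, a ^ i * b ^ (e - 1 - i)) * v (a - b))
      ≤ 1 * (1 * v (a - b)) := by gcongr; exact hp e
    _ = v (a - b) := by rw [one_mul, one_mul]
    _ < 1 := hab

/-- values of polynomials with integral coefficients at integral points are integral -/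
theorem val_eval_le_one_of_coeff {σ : Type*} (F : MvPolynomial σ L)
    (hF : ∀ d, v (F.coeff d) ≤ 1) (P : σ → L) (hP : ∀ i, v (P i) ≤ 1) :
    v (MvPolynomial.eval P F) ≤ 1 := by
  rw [MvPolynomial.eval_eq]
  refine v.map_sum_le fun d _ => ?_
  rw [map_mul, map_prod]
  refine mul_le_one' (hF d) (Finset.prod_le_one' fun i _ => ?_)
  rw [map_pow]
  exact pow_le_one₀ zero_le (hP i)

end Val


/-- an open subset of a finite power contains a product box around each of its points -/
theorem exists_box {X : Type*} [TopologicalSpace X] {n : ℕ} (Ω : Set (Fin (n + 1) → X))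
    (hΩ : IsOpen Ω) (Z : Fin (n + 1) → X) (hZ : Z ∈ Ω) :
    ∃ (A : Set X) (B : Set (Fin n → X)), IsOpen A ∧ IsOpen B ∧ Z 0 ∈ A ∧
      (fun i => Z i.succ) ∈ B ∧ ∀ t ∈ A, ∀ y ∈ B, (Fin.cons t y : Fin (n + 1) → X) ∈ Ω := by
  let c : X × (Fin n → X) → (Fin (n + 1) → X) := fun p => Fin.cons p.1 p.2
  have hc : Continuous c := by
    refine continuous_pi fun i => ?_
    refine Fin.cases ?_ (fun j => ?_) i
    · simpa [c] using continuous_fst
    · have : Continuous fun p : X × (Fin n → X) => p.2 j :=
        (continuous_apply j).comp continuous_snd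
      simpa [c] using this
  have hopen : IsOpen (c ⁻¹' Ω) := hΩ.preimage hc
  have hmem : (Z 0, fun i => Z i.succ) ∈ c ⁻¹' Ω := by
    show (Fin.cons (Z 0) (fun i => Z i.succ) : Fin (n + 1) → X) ∈ Ω
    have : (Fin.cons (Z 0) (fun i => Z i.succ) : Fin (n + 1) → X) = Z := Fin.cons_self_tail Z
    rwa [this]
  obtain ⟨A, B, hA, hB, hZA, hZB, hsub⟩ := isOpen_prod_iff.mp hopen _ _ hmem
  exact ⟨A, B, hA, hB, hZA, hZB, fun t ht y hy => hsub (Set.mk_mem_prod ht hy)⟩


variable (k : Type u) [Field k] [NumberField k]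

/-- the `O_v`-points of the complement of `V(f_1, …, f_m)` in affine `n`-space -/
def Ugood {n m : ℕ} (f : Fin m → MvPolynomial (Fin n) (𝓞 k)) (v : HeightOneSpectrum (𝓞 k)) :
    Set (Fin n → v.adicCompletion k) :=
  {R | (∀ i, R i ∈ v.adicCompletionIntegers k) ∧ ∃ j, Valued.v (MvPolynomial.aeval R
      (MvPolynomial.map (algebraMap (𝓞 k) k) (f j))) = 1}

/-- the same condition for rational points -/
def UgoodK {n m : ℕ} (f : Fin m → MvPolynomial (Fin n) (𝓞 k)) (v : HeightOneSpectrum (𝓞 k)) :
    Set (Fin n → k) :=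
  {P | (∀ i, v.valuation k (P i) ≤ 1) ∧ ∃ j, v.valuation k (MvPolynomial.aeval P
      (MvPolynomial.map (algebraMap (𝓞 k) k) (f j))) = 1}

variable {k}

theorem aeval_coe {n : ℕ} (v : HeightOneSpectrum (𝓞 k)) (P : Fin n → k)
    (F : MvPolynomial (Fin n) k) :
    MvPolynomial.aeval (fun i => algebraMap k (v.adicCompletion k) (P i)) F =
      algebraMap k (v.adicCompletion k) (MvPolynomial.aeval P F) :=
  (MvPolynomial.comp_aeval_apply P (Algebra.ofId k (v.adicCompletion k)) F).symm

omit [NumberField k] in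
theorem aeval_coe_infinite {n : ℕ} (w : InfinitePlace k) (P : Fin n → k)
    (F : MvPolynomial (Fin n) k) :
    MvPolynomial.aeval (fun i => algebraMap k w.Completion (P i)) F =
      algebraMap k w.Completion (MvPolynomial.aeval P F) :=
  (MvPolynomial.comp_aeval_apply P (Algebra.ofId k w.Completion) F).symm

theorem mem_Ugood_coe_iff {n m : ℕ} (f : Fin m → MvPolynomial (Fin n) (𝓞 k))
    (v : HeightOneSpectrum (𝓞 k)) (P : Fin n → k) :
    (fun i => algebraMap k (v.adicCompletion k) (P i)) ∈ Ugood k f v ↔ P ∈ UgoodK k f v := by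
  simp only [Ugood, UgoodK, Set.mem_ofPred_eq, mem_adicCompletionIntegers, aeval_coe,
    valued_algebraMap_adicCompletion]

/-- the set of `O_v`-points of the complement is open -/
theorem isOpen_Ugood {n m : ℕ} (f : Fin m → MvPolynomial (Fin n) (𝓞 k))
    (v : HeightOneSpectrum (𝓞 k)) : IsOpen (Ugood k f v) := by
  have h1 : Ugood k f v = (⋂ i, (fun R : Fin n → v.adicCompletion k => R i) ⁻¹'
      (v.adicCompletionIntegers k : Set (v.adicCompletion k))) ∩
      ⋃ j, (fun R : Fin n → v.adicCompletion k => MvPolynomial.aeval R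
        (MvPolynomial.map (algebraMap (𝓞 k) k) (f j))) ⁻¹'
        {x : v.adicCompletion k | Valued.v x = 1} := by
    ext R
    simp [Ugood]
  rw [h1]
  refine IsOpen.inter (isOpen_iInter_of_finite fun i => ?_) (isOpen_iUnion fun j => ?_)
  · exact (Valued.isOpen_valuationSubring (v.adicCompletion k)).preimage (continuous_apply i)
  · refine IsOpen.preimage ?_ ?_
    · have : (fun R : Fin n → v.adicCompletion k => MvPolynomial.aeval R
          (MvPolynomial.map (algebraMap (𝓞 k) k) (f j))) =
          fun R => MvPolynomial.eval R (MvPolynomial.map (algebraMap k (v.adicCompletion k))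
            (MvPolynomial.map (algebraMap (𝓞 k) k) (f j))) := by
        funext R
        rw [MvPolynomial.aeval_def, MvPolynomial.eval₂_eq_eval_map]
      rw [this]
      exact MvPolynomial.continuous_eval _
    · have h2 : {x : v.adicCompletion k | Valued.v x = 1} =
          {x | (Valued.v (R := v.adicCompletion k)).restrict x = 1} := by
        ext x
        simp [Valuation.restrict_eq_one_iff]
      rw [h2]
      exact (Valued.isClopen_sphere (v.adicCompletion k) one_ne_zero).isOpen


/-- the family of coefficients of the `f j` with respect to the first variable, up to degree `d` -/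
noncomputable def coeffFam {n m : ℕ} (f : Fin m → MvPolynomial (Fin (n + 1)) (𝓞 k)) (d : ℕ) :
    Fin (m * (d + 1)) → MvPolynomial (Fin n) (𝓞 k) :=
  fun i => (MvPolynomial.finSuccEquiv (𝓞 k) n (f (finProdFinEquiv.symm i).1)).coeff
    ((finProdFinEquiv.symm i).2 : ℕ)

theorem coeffFam_apply {n m : ℕ} (f : Fin m → MvPolynomial (Fin (n + 1)) (𝓞 k)) (d : ℕ)
    (j : Fin m) (e : Fin (d + 1)) :
    coeffFam f d (finProdFinEquiv (j, e)) =
      (MvPolynomial.finSuccEquiv (𝓞 k) n (f j)).coeff (e : ℕ) := by
  simp [coeffFam]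

/-- evaluation of `f j` at `Fin.cons t y` through the fibre polynomial, for points in an
`𝓞 k`-algebra which is also a `k`-algebra -/
theorem aeval_cons_map {L : Type*} [CommRing L] [Algebra (𝓞 k) L] [Algebra k L]
    [IsScalarTower (𝓞 k) k L] {n : ℕ} (F : MvPolynomial (Fin (n + 1)) (𝓞 k)) (t : L)
    (y : Fin n → L) :
    MvPolynomial.aeval (Fin.cons t y : Fin (n + 1) → L)
        (MvPolynomial.map (algebraMap (𝓞 k) k) F) =
      (Polynomial.map ((MvPolynomial.aeval y : MvPolynomial (Fin n) (𝓞 k) →ₐ[𝓞 k] L) :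
        MvPolynomial (Fin n) (𝓞 k) →+* L) (MvPolynomial.finSuccEquiv (𝓞 k) n F)).eval t := by
  rw [MvPolynomial.aeval_map_algebraMap, aeval_cons_eq]

/-- if `Fin.cons t y` is an `O_v`-point of the complement of `V(f)`, then `y` is an `O_v`-point
of the complement of the zero locus of the coefficients -/
theorem tail_mem_Ugood {n m : ℕ} (f : Fin m → MvPolynomial (Fin (n + 1)) (𝓞 k)) (d : ℕ)
    (hd : ∀ j, (MvPolynomial.finSuccEquiv (𝓞 k) n (f j)).natDegree ≤ d)
    (v : HeightOneSpectrum (𝓞 k)) (t : v.adicCompletion k) (y : Fin n → v.adicCompletion k)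
    (h : (Fin.cons t y : Fin (n + 1) → v.adicCompletion k) ∈ Ugood k f v) :
    y ∈ Ugood k (coeffFam f d) v := by
  obtain ⟨hint, j, hj⟩ := h
  have ht : Valued.v t ≤ 1 := by
    have := hint 0
    rwa [Fin.cons_zero, mem_adicCompletionIntegers] at this
  have hy : ∀ i, Valued.v (y i) ≤ 1 := by
    intro i
    have := hint i.succ
    rwa [Fin.cons_succ, mem_adicCompletionIntegers] at this
  refine ⟨fun i => (mem_adicCompletionIntegers _ _ _).mpr (hy i), ?_⟩
  rw [aeval_cons_map] at hj
  set φ := Polynomial.map ((MvPolynomial.aeval y : MvPolynomial (Fin n) (𝓞 k) →ₐ[𝓞 k]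
    v.adicCompletion k) : MvPolynomial (Fin n) (𝓞 k) →+* v.adicCompletion k)
    (MvPolynomial.finSuccEquiv (𝓞 k) n (f j)) with hφ
  have hR : ∀ r : 𝓞 k, Valued.v (algebraMap (𝓞 k) (v.adicCompletion k) r) ≤ 1 := by
    intro r
    rw [IsScalarTower.algebraMap_apply (𝓞 k) k (v.adicCompletion k),
      valued_algebraMap_adicCompletion]
    exact valuation_le_one v r
  have hcoeff_le : ∀ e, Valued.v (φ.coeff e) ≤ 1 := by
    intro e
    rw [hφ, Polynomial.coeff_map]
    exact val_aeval_le_one _ hR y hy _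
  -- some coefficient is a unit
  have hex : ∃ e, Valued.v (φ.coeff e) = 1 := by
    by_contra hcon
    push Not at hcon
    have hlt : ∀ e, Valued.v (φ.coeff e) < 1 := fun e => lt_of_le_of_ne (hcoeff_le e) (hcon e)
    have := val_eval_lt_one _ φ hlt t ht
    rw [hj] at this
    exact lt_irrefl _ this
  obtain ⟨e, he⟩ := hex
  have hed : e ≤ d := by
    by_contra hlt
    push Not at hlt
    have h0 : φ.coeff e = 0 := by
      rw [hφ, Polynomial.coeff_map, Polynomial.coeff_eq_zero_of_natDegree_lt
        (lt_of_le_of_lt (hd j) hlt), map_zero]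
    rw [h0, map_zero] at he
    exact zero_ne_one he
  refine ⟨finProdFinEquiv (j, ⟨e, Nat.lt_succ_of_le hed⟩), ?_⟩
  rw [coeffFam_apply, MvPolynomial.aeval_map_algebraMap]
  rw [hφ, Polynomial.coeff_map] at he
  exact he

/-- `d + 1` algebraic integers pairwise incongruent modulo a prime of norm `> d` -/
theorem exists_incongruent (v : HeightOneSpectrum (𝓞 k)) (d : ℕ)
    (hcard : d < Ideal.absNorm v.asIdeal) :
    ∃ t : Fin (d + 1) → 𝓞 k, ∀ i j, i ≠ j → t i - t j ∉ v.asIdeal := by
  classical
  haveI : Finite (𝓞 k ⧸ v.asIdeal) := Ideal.finiteQuotientOfFreeOfNeBot v.asIdeal v.ne_bot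
  letI : Fintype (𝓞 k ⧸ v.asIdeal) := Fintype.ofFinite _
  have hc : Fintype.card (Fin (d + 1)) ≤ Fintype.card (𝓞 k ⧸ v.asIdeal) := by
    rw [Fintype.card_fin, ← Nat.card_eq_fintype_card]
    have : Ideal.absNorm v.asIdeal = Nat.card (𝓞 k ⧸ v.asIdeal) := by
      rw [Ideal.absNorm_apply, Submodule.cardQuot_apply]
    omega
  obtain ⟨g⟩ := Function.Embedding.nonempty_of_card_le hc
  refine ⟨fun i => Function.surjInv Ideal.Quotient.mk_surjective (g i), fun i j hij hmem => ?_⟩
  have h1 := Ideal.Quotient.eq.mpr hmem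
  have h2 : ∀ q : 𝓞 k ⧸ v.asIdeal, Ideal.Quotient.mk v.asIdeal
      (Function.surjInv Ideal.Quotient.mk_surjective q) = q :=
    fun q => Function.surjInv_eq Ideal.Quotient.mk_surjective q
  rw [h2, h2] at h1
  exact hij (g.injective h1)


/-- **Fibre lemma.** At a place with residue field of more than `d` elements, above an integral
point `x'` where some coefficient is a unit, the fibre contains an integral point where some
`f j` is a unit. -/
theorem exists_fibre_unit {n m : ℕ} (f : Fin m → MvPolynomial (Fin (n + 1)) (𝓞 k)) (d : ℕ)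
    (hd : ∀ j, (MvPolynomial.finSuccEquiv (𝓞 k) n (f j)).natDegree ≤ d)
    (v : HeightOneSpectrum (𝓞 k)) (hcard : d < Ideal.absNorm v.asIdeal)
    (x' : Fin n → k) (hx' : x' ∈ UgoodK k (coeffFam f d) v) :
    ∃ (t : 𝓞 k) (j : Fin m), v.valuation k (MvPolynomial.aeval
      (Fin.cons (algebraMap (𝓞 k) k t) x' : Fin (n + 1) → k)
      (MvPolynomial.map (algebraMap (𝓞 k) k) (f j))) = 1 := by
  classical
  obtain ⟨hint, i, hi⟩ := hx'
  obtain ⟨⟨j, e⟩, rfl⟩ := finProdFinEquiv.surjective i
  rw [coeffFam_apply, MvPolynomial.aeval_map_algebraMap] at hi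
  set φ := Polynomial.map ((MvPolynomial.aeval x' : MvPolynomial (Fin n) (𝓞 k) →ₐ[𝓞 k] k) :
    MvPolynomial (Fin n) (𝓞 k) →+* k) (MvPolynomial.finSuccEquiv (𝓞 k) n (f j)) with hφ
  have hR : ∀ r : 𝓞 k, v.valuation k (algebraMap (𝓞 k) k r) ≤ 1 := fun r => valuation_le_one v r
  have hdeg : φ.natDegree < d + 1 :=
    lt_of_le_of_lt (Polynomial.natDegree_map_le.trans (hd j)) (Nat.lt_succ_self d)
  obtain ⟨t, ht⟩ := exists_incongruent v d hcard
  by_contra hcon
  push Not at hcon
  have hlt : ∀ a : Fin (d + 1), v.valuation k (φ.eval (algebraMap (𝓞 k) k (t a))) < 1 := by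
    intro a
    have h1 := hcon (t a) j
    rw [aeval_cons_map] at h1
    refine lt_of_le_of_ne ?_ h1
    rw [← aeval_cons_map, MvPolynomial.aeval_map_algebraMap]
    refine val_aeval_le_one _ (fun r => ?_) _ (fun b => ?_) _
    · simpa using hR r
    · refine Fin.cases ?_ (fun b' => ?_) b
      · simpa using hR (t a)
      · simpa using hint b'
  have hsum : ∀ a : Fin (d + 1), φ.eval (algebraMap (𝓞 k) k (t a)) =
      ∑ e' : Fin (d + 1), φ.coeff (e' : ℕ) * (algebraMap (𝓞 k) k (t a)) ^ (e' : ℕ) := by
    intro a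
    rw [Polynomial.eval_eq_sum_range' hdeg, Finset.sum_range]
  have hV := val_coeff_lt_one_of_vandermonde (v.valuation k) d
    (fun a => algebraMap (𝓞 k) k (t a)) (fun a => hR (t a))
    (fun a b hab => by
      rw [← map_sub, valuation_of_algebraMap]
      exact (intValuation_eq_one_iff_mem_primeCompl v _).mpr (ht a b hab))
    (fun e' => φ.coeff (e' : ℕ)) (fun a => by rw [← hsum]; exact hlt a)
  have := hV e
  rw [hφ, Polynomial.coeff_map] at this
  rw [show ((MvPolynomial.aeval x' : MvPolynomial (Fin n) (𝓞 k) →ₐ[𝓞 k] k) :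
    MvPolynomial (Fin n) (𝓞 k) →+* k) ((MvPolynomial.finSuccEquiv (𝓞 k) n (f j)).coeff (e : ℕ)) =
    MvPolynomial.aeval x' ((MvPolynomial.finSuccEquiv (𝓞 k) n (f j)).coeff (e : ℕ)) from rfl,
    hi] at this
  exact lt_irrefl _ this

/-- the set of finite places where a nonzero element is not a unit is finite -/
theorem finite_setOf_valuation_ne_one (y : k) (hy : y ≠ 0) :
    {v : HeightOneSpectrum (𝓞 k) | v.valuation k y ≠ 1}.Finite := by
  refine ((HeightOneSpectrum.Support.finite (𝓞 k) y).union
    (HeightOneSpectrum.Support.finite (𝓞 k) y⁻¹)).subset ?_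
  intro v hv
  by_contra hcon
  simp only [Set.mem_union, HeightOneSpectrum.Support, Set.mem_ofPred_eq, not_or, not_lt] at hcon
  apply hv
  refine le_antisymm hcon.1 ?_
  have h2 := hcon.2
  rw [map_inv₀] at h2
  have hne : v.valuation k y ≠ 0 := (Valuation.ne_zero_iff _).mpr hy
  rwa [inv_le_one₀ (zero_lt_iff.mpr hne)] at h2

/-- the set of finite places where `y` is not a unit or some coefficient of some `b j` is not
integral is finite -/
theorem finite_exceptional {σ ι : Type*} [Finite ι] (y : k) (hy : y ≠ 0)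
    (b : ι → MvPolynomial σ k) :
    {v : HeightOneSpectrum (𝓞 k) | ¬ (v.valuation k y = 1 ∧
      ∀ j d, v.valuation k ((b j).coeff d) ≤ 1)}.Finite := by
  classical
  have h1 := finite_setOf_valuation_ne_one y hy
  have h2 : (⋃ j, ⋃ d ∈ (b j).support,
      HeightOneSpectrum.Support (𝓞 k) ((b j).coeff d)).Finite :=
    Set.finite_iUnion fun j => Set.Finite.biUnion (Finset.finite_toSet _)
      fun d _ => HeightOneSpectrum.Support.finite (𝓞 k) _
  refine (h1.union h2).subset ?_
  intro v hv
  by_contra hcon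
  simp only [Set.mem_union, Set.mem_ofPred_eq, Set.mem_iUnion, not_or, not_not, not_exists,
    HeightOneSpectrum.Support, not_lt] at hcon
  apply hv
  refine ⟨hcon.1, fun j d => ?_⟩
  by_cases hd : d ∈ (b j).support
  · exact hcon.2 j d hd
  · rw [MvPolynomial.notMem_support_iff.mp hd, map_zero]
    exact zero_le

/-- if `g(x')` is a `v`-unit, `g = ∑ b_j f_j` with `v`-integral `b_j`, then at every `v`-integral
point over `x'` some `f_j` is a `v`-unit -/
theorem exists_unit_of_combination {n m : ℕ} (f : Fin m → MvPolynomial (Fin (n + 1)) (𝓞 k))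
    (g : MvPolynomial (Fin n) k) (b : Fin m → MvPolynomial (Fin (n + 1)) k)
    (hgb : MvPolynomial.rename Fin.succ g =
      ∑ j, b j * MvPolynomial.map (algebraMap (𝓞 k) k) (f j))
    (v : HeightOneSpectrum (𝓞 k)) (hb : ∀ j d, v.valuation k ((b j).coeff d) ≤ 1)
    (P : Fin (n + 1) → k) (hP : ∀ i, v.valuation k (P i) ≤ 1)
    (hg : v.valuation k (MvPolynomial.eval (fun i => P i.succ) g) = 1) :
    ∃ j, v.valuation k (MvPolynomial.aeval P
      (MvPolynomial.map (algebraMap (𝓞 k) k) (f j))) = 1 := by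
  by_contra hcon
  push Not at hcon
  have h1 := congrArg (MvPolynomial.eval P) hgb
  rw [MvPolynomial.eval_rename, map_sum] at h1
  have h2 : v.valuation k (MvPolynomial.eval (P ∘ Fin.succ) g) < 1 := by
    rw [h1]
    refine (v.valuation k).map_sum_lt one_ne_zero fun j _ => ?_
    rw [map_mul, map_mul]
    have h3 : v.valuation k (MvPolynomial.eval P (b j)) ≤ 1 :=
      val_eval_le_one_of_coeff _ _ (hb j) P hP
    have h4 : v.valuation k (MvPolynomial.eval P
        (MvPolynomial.map (algebraMap (𝓞 k) k) (f j))) < 1 := by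
      have h5 : MvPolynomial.eval P (MvPolynomial.map (algebraMap (𝓞 k) k) (f j)) =
          MvPolynomial.aeval P (MvPolynomial.map (algebraMap (𝓞 k) k) (f j)) := by
        rw [MvPolynomial.aeval_def, MvPolynomial.eval, Algebra.algebraMap_self]; rfl
      rw [h5]
      refine lt_of_le_of_ne ?_ (hcon j)
      rw [MvPolynomial.aeval_map_algebraMap]
      exact val_aeval_le_one _ (fun r => valuation_le_one v r) P hP _
    calc _ ≤ 1 * v.valuation k (MvPolynomial.eval P
          (MvPolynomial.map (algebraMap (𝓞 k) k) (f j))) := by gcongr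
      _ < 1 := by rw [one_mul]; exact h4
  rw [show (P ∘ Fin.succ) = fun i => P i.succ from rfl, hg] at h2
  exact lt_irrefl _ h2


/-- the completion at an infinite place has no isolated points -/
theorem nhdsNE_neBot_completion (w : InfinitePlace k) (x : w.Completion) :
    (nhdsWithin x {x}ᶜ).NeBot := by
  letI : NontriviallyNormedField w.Completion := NontriviallyNormedField.ofNormNeOne
    ⟨algebraMap k w.Completion ((2 : ℚ) : k), by
      rw [ne_eq, map_eq_zero]
      norm_num, by
      rw [norm_algebraMap_completion, infinitePlace_ratCast]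
      norm_num⟩
  exact NormedField.nhdsNE_neBot x

/-- a nonzero polynomial does not vanish identically on a nonempty open subset of a power of the
completion at an infinite place -/
theorem exists_open_sub_ne_zero {n : ℕ} (w : InfinitePlace k) (g : MvPolynomial (Fin n) k)
    (hg : g ≠ 0) (B : Set (Fin n → w.Completion)) (hB : IsOpen B) (hne : B.Nonempty) :
    ∃ B' : Set (Fin n → w.Completion), B' ⊆ B ∧ IsOpen B' ∧ B'.Nonempty ∧
      ∀ y ∈ B', MvPolynomial.aeval y g ≠ 0 := by
  have hcont : Continuous fun y : Fin n → w.Completion => MvPolynomial.aeval y g := by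
    have : (fun y : Fin n → w.Completion => MvPolynomial.aeval y g) =
        fun y => MvPolynomial.eval y (MvPolynomial.map (algebraMap k w.Completion) g) := by
      funext y
      rw [MvPolynomial.aeval_def, MvPolynomial.eval₂_eq_eval_map]
    rw [this]
    exact MvPolynomial.continuous_eval _
  refine ⟨B ∩ {y | MvPolynomial.aeval y g ≠ 0}, Set.inter_subset_left,
    hB.inter (isOpen_ne_fun hcont continuous_const), ?_, fun y hy => hy.2⟩
  by_contra hempty
  rw [Set.not_nonempty_iff_eq_empty] at hempty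
  have hvanish : ∀ y ∈ B, MvPolynomial.aeval y g = 0 := by
    intro y hy
    by_contra h
    have : y ∈ B ∩ {y | MvPolynomial.aeval y g ≠ 0} := ⟨hy, h⟩
    rw [hempty] at this
    exact this
  obtain ⟨y₀, hy₀⟩ := hne
  obtain ⟨u, hu, hsub⟩ := (isOpen_pi_iff' (s := B)).mp hB y₀ hy₀
  have hinf : ∀ i, (u i).Infinite := fun i => by
    haveI := nhdsNE_neBot_completion w (y₀ i)
    exact infinite_of_mem_nhds (y₀ i) ((hu i).1.mem_nhds (hu i).2)
  have hzero : MvPolynomial.map (algebraMap k w.Completion) g = 0 := by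
    refine MvPolynomial.funext_set u hinf fun x hx => ?_
    rw [map_zero, ← MvPolynomial.eval₂_eq_eval_map, ← MvPolynomial.aeval_def]
    exact hvanish x (hsub hx)
  apply hg
  have hinj : Function.Injective (MvPolynomial.map (σ := Fin n) (algebraMap k w.Completion)) :=
    MvPolynomial.map_injective _ (algebraMap k w.Completion).injective
  exact hinj (by rw [hzero, map_zero])


/-- codimension `≥ 2` passes to the zero locus of the coefficients -/
theorem codim_coeffFam {n m : ℕ} (f : Fin m → MvPolynomial (Fin (n + 1)) (𝓞 k)) (d : ℕ)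
    (hd : ∀ j, (MvPolynomial.finSuccEquiv (𝓞 k) n (f j)).natDegree ≤ d)
    (hcodim : ringKrullDim (MvPolynomial (Fin (n + 1)) k ⧸ Ideal.span (Set.range fun j =>
        MvPolynomial.map (algebraMap (𝓞 k) k) (f j))) + 2 ≤ ((n + 1 : ℕ) : WithBot ℕ∞)) :
    ringKrullDim (MvPolynomial (Fin n) k ⧸ Ideal.span (Set.range fun i =>
        MvPolynomial.map (algebraMap (𝓞 k) k) (coeffFam f d i))) + 2 ≤ (n : WithBot ℕ∞) := by
  refine dim_coeff_ideal k n (fun j => MvPolynomial.map (algebraMap (𝓞 k) k) (f j)) _
    (fun j e => ?_) hcodim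
  rw [finSuccEquiv_map, Polynomial.coeff_map]
  by_cases he : e ≤ d
  · refine Ideal.subset_span ⟨finProdFinEquiv (j, ⟨e, Nat.lt_succ_of_le he⟩), ?_⟩
    simp only [coeffFam_apply]
  · push Not at he
    rw [Polynomial.coeff_eq_zero_of_natDegree_lt (lt_of_le_of_lt (hd j) he), map_zero]
    exact Ideal.zero_mem _

end Groth.Agent.R2.H99.SALocal
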