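import Mathlib

/-!
# Lengths of quotients along flat local homomorphisms (helper9)

* `length_quot_map` : for a flat local homomorphism of local rings `φ : A → B` and an ideal `J` of
  `A`, `ℓ_B(B/JB) = ℓ_A(A/J) * ℓ_B(B/m_A B)` (in `ℕ∞`).
* `toNat_length_quot_map` : the same after `ENat.toNat`.
-/

set_option autoImplicit false

namespace Groth.Agent.R2.H9.FlatLen

open IsLocalRing TensorProduct

theorem length_quot_map {A B : Type*} [CommRing A] [CommRing B] [IsLocalRing A] [IsLocalRing B]
    (φ : A →+* B) [IsLocalHom φ] (hφ : φ.Flat) (J : Ideal A) :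
    Module.length B (B ⧸ J.map φ) =
      Module.length A (A ⧸ J) * Module.length B (B ⧸ (maximalIdeal A).map φ) := by
  algebraize [φ]
  have hloc : IsLocalHom (algebraMap A B) := ‹IsLocalHom φ›
  have hφ' : φ = algebraMap A B := rfl
  rw [hφ', ← IsLocalRing.length_baseChange A B (A ⧸ J)]
  exact (Algebra.TensorProduct.quotIdealMapEquivTensorQuot B J).toLinearEquiv.length_eq

theorem toNat_length_quot_map {A B : Type*} [CommRing A] [CommRing B] [IsLocalRing A]
    [IsLocalRing B] (φ : A →+* B) [IsLocalHom φ] (hφ : φ.Flat) (J : Ideal A) :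
    (Module.length B (B ⧸ J.map φ)).toNat =
      (Module.length A (A ⧸ J)).toNat * (Module.length B (B ⧸ (maximalIdeal A).map φ)).toNat := by
  rw [length_quot_map φ hφ J, ENat.toNat_mul]

end Groth.Agent.R2.H9.FlatLen
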