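import Mathlib
import Groth.Agent.R2.H9FlatLen
import Groth.Agent.R2.H9FiberDeg

/-!
# Lengths of local rings at maximal points under base change (helper9)

* `length_stalk_eq_mul` : for a flat morphism, `ℓ(O_{X,x}) = ℓ(O_{Y,f x}) · ℓ(O_{X,x}/𝔪_{f x}O_{X,x})`.
* `length_stalk_eq_mul_fiber` : the same with the last factor the length of the local ring of the fibre.
* `length_stalk_eq_one_of_isReduced` : local rings at maximal points of reduced schemes have length 1.
-/

set_option autoImplicit false
set_option linter.style.haveILetI false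

universe u

open AlgebraicGeometry CategoryTheory CategoryTheory.Limits

namespace Groth.Agent.R2.H9.BcLen

theorem length_stalk_eq_mul {X Y : Scheme.{u}} (f : X ⟶ Y) [Flat f] (x : X) :
    Module.length (X.presheaf.stalk x) (X.presheaf.stalk x) =
      Module.length (Y.presheaf.stalk (f x)) (Y.presheaf.stalk (f x)) *
        Module.length (X.presheaf.stalk x) (X.presheaf.stalk x ⧸
          Ideal.map (f.stalkMap x).hom (IsLocalRing.maximalIdeal (Y.presheaf.stalk (f x)))) := by
  have hflat : (f.stalkMap x).hom.Flat := Flat.stalkMap f x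
  have h1 := Groth.Agent.R2.H9.FlatLen.length_quot_map (f.stalkMap x).hom hflat ⊥
  have h2 : Module.length (X.presheaf.stalk x)
      (X.presheaf.stalk x ⧸ (⊥ : Ideal (Y.presheaf.stalk (f x))).map (f.stalkMap x).hom) =
      Module.length (X.presheaf.stalk x) (X.presheaf.stalk x) := by
    rw [Ideal.map_bot]
    exact (Submodule.quotEquivOfEqBot (⊥ : Ideal (X.presheaf.stalk x)) rfl).length_eq
  have h3 : Module.length (Y.presheaf.stalk (f x))
      (Y.presheaf.stalk (f x) ⧸ (⊥ : Ideal (Y.presheaf.stalk (f x)))) =
      Module.length (Y.presheaf.stalk (f x)) (Y.presheaf.stalk (f x)) :=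
    (Submodule.quotEquivOfEqBot (⊥ : Ideal (Y.presheaf.stalk (f x))) rfl).length_eq
  rw [h2, h3] at h1
  exact h1

theorem length_stalk_eq_mul_fiber {X Y : Scheme.{u}} (f : X ⟶ Y) [Flat f] (x : X) :
    Module.length (X.presheaf.stalk x) (X.presheaf.stalk x) =
      Module.length (Y.presheaf.stalk (f x)) (Y.presheaf.stalk (f x)) *
        Module.length ((f.fiber (f x)).presheaf.stalk (f.asFiber x))
          ((f.fiber (f x)).presheaf.stalk (f.asFiber x)) := by
  rw [length_stalk_eq_mul f x,
    Groth.Agent.R2.H9.FiberDeg.length_stalk_fiber f x (f.asFiber x) (f.fiberι_asFiber x)]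

theorem closure_mem_irreducibleComponents_of_maximal {X : Scheme.{u}} (z : X)
    (hz : ∀ y : X, y ⤳ z → y = z) : closure {z} ∈ irreducibleComponents X := by
  refine ⟨isIrreducible_singleton.closure, ?_⟩
  intro T hT hle
  have hTc : IsIrreducible (closure T) := hT.closure
  obtain ⟨t, ht⟩ := QuasiSober.sober hTc isClosed_closure
  have hzT : z ∈ closure T := subset_closure (hle (subset_closure rfl))
  have htz : t ⤳ z := by
    rw [specializes_iff_mem_closure, ht.def]
    exact hzT
  have := hz t htz
  subst this
  intro y hy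
  have : y ∈ closure T := subset_closure hy
  rw [← ht.def] at this
  exact this

theorem length_stalk_eq_one_of_isReduced {F : Scheme.{u}} [IsReduced F] (z : F)
    (hz : ∀ y : F, y ⤳ z → y = z) :
    Module.length (F.presheaf.stalk z) (F.presheaf.stalk z) = 1 := by
  have hfield := isField_stalk_of_closure_mem_irreducibleComponents F z
    (closure_mem_irreducibleComponents_of_maximal z hz)
  letI := hfield.toField
  rw [Module.length_eq_one_iff]
  infer_instance

theorem asFiber_maximal {X Y : Scheme.{u}} (f : X ⟶ Y) (x : X) (hx : ∀ y : X, y ⤳ x → y = x)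
    (z : f.fiber (f x)) (hz : z ⤳ f.asFiber x) : z = f.asFiber x := by
  have h1 : f.fiberι (f x) z ⤳ f.fiberι (f x) (f.asFiber x) := hz.map (f.fiberι (f x)).continuous
  rw [f.fiberι_asFiber] at h1
  have h2 := hx _ h1
  apply (f.fiberι (f x)).isEmbedding.injective
  rw [h2, f.fiberι_asFiber]

/-- the fibres of the base change `Y ×_{k'} k'' → Y` along a geometrically reduced field extension
are reduced. -/
theorem isReduced_fiber_fst {S S'' Y : Scheme.{u}} (h : Y ⟶ S) (σ : S'' ⟶ S)
    [GeometricallyReduced σ] (y : Y) : IsReduced ((pullback.fst h σ).fiber y) := by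
  have sq1 : IsPullback (pullback.snd (pullback.fst h σ) (Y.fromSpecResidueField y))
      (pullback.fst (pullback.fst h σ) (Y.fromSpecResidueField y)) (Y.fromSpecResidueField y)
      (pullback.fst h σ) := (IsPullback.of_hasPullback _ _).flip
  have sq2 : IsPullback (pullback.fst h σ) (pullback.snd h σ) h σ := IsPullback.of_hasPullback _ _
  have sq := (sq1.paste_vert sq2).flip
  exact GeometricallyReduced.geometrically_isReduced (f := σ) (Y.fromSpecResidueField y ≫ h) _ _ sq

/-- For a geometrically reduced extension `σ`, the local ring at a maximal point of the base change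
`Y ×_S S''` has the same length as the local ring of its image in `Y`. -/
theorem length_stalk_fst_eq {S S'' Y : Scheme.{u}} (h : Y ⟶ S) (σ : S'' ⟶ S)
    [GeometricallyReduced σ] [Flat σ] (y'' : ↥(pullback h σ))
    (hy'' : ∀ z : ↥(pullback h σ), z ⤳ y'' → z = y'') :
    Module.length ((pullback h σ).presheaf.stalk y'') ((pullback h σ).presheaf.stalk y'') =
      Module.length (Y.presheaf.stalk ((pullback.fst h σ) y''))
        (Y.presheaf.stalk ((pullback.fst h σ) y'')) := by
  haveI : Flat (pullback.fst h σ) := MorphismProperty.pullback_fst (P := @Flat) _ _ inferInstance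
  haveI := isReduced_fiber_fst h σ ((pullback.fst h σ) y'')
  rw [length_stalk_eq_mul_fiber (pullback.fst h σ) y'',
    length_stalk_eq_one_of_isReduced _ (asFiber_maximal (pullback.fst h σ) y'' hy''), mul_one]

end Groth.Agent.R2.H9.BcLen
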