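import Mathlib
import Groth.Prelude.Def_Cyc

/-!
# Flat morphisms: injectivity of the maps on local rings; specialization maps (helper9)
-/

set_option autoImplicit false
set_option linter.style.haveILetI false

universe u

open AlgebraicGeometry CategoryTheory IsLocalRing

namespace Groth.Agent.R2.H9.FlatInj

variable {X Y : Scheme.{u}}

/-- a flat local homomorphism of local rings is injective. -/
theorem injective_of_flat_of_isLocalHom {A B : Type*} [CommRing A] [CommRing B] [IsLocalRing A]
    [IsLocalRing B] (φ : A →+* B) [IsLocalHom φ] (hφ : φ.Flat) : Function.Injective φ := by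
  algebraize [φ]
  haveI : IsLocalHom (algebraMap A B) := ‹IsLocalHom φ›
  haveI : Module.FaithfullyFlat A B := Module.FaithfullyFlat.of_flat_of_isLocalHom
  exact FaithfulSMul.algebraMap_injective A B

/-- a flat ring map preserves nonzerodivisors. -/
theorem map_mem_nonZeroDivisors_of_flat {A B : Type*} [CommRing A] [CommRing B] (φ : A →+* B)
    (hφ : φ.Flat) {a : A} (ha : a ∈ nonZeroDivisors A) : φ a ∈ nonZeroDivisors B := by
  algebraize [φ]
  have h1 : IsSMulRegular B a := Module.Flat.isSMulRegular_of_nonZeroDivisors ha
  rw [mem_nonZeroDivisors_iff_right]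
  intro c hc
  apply h1
  change a • c = a • (0 : B)
  rw [smul_zero, Algebra.smul_def, mul_comm]
  exact hc

theorem stalkMap_injective_of_flat (f : X ⟶ Y) [Flat f] (x : X) :
    Function.Injective (f.stalkMap x).hom :=
  injective_of_flat_of_isLocalHom (f.stalkMap x).hom (Flat.stalkMap f x)

/-- compatibility of the maps on residue fields with specialization. -/
theorem residueFieldMap_residue_specializes (f : X ⟶ Y) (x η : X) (h : η ⤳ x)
    (c : Y.presheaf.stalk (f x)) :
    f.residueFieldMap η (Y.residue (f η)
      (Y.presheaf.stalkSpecializes (f.base.hom.map_specializes h) c)) =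
      X.residue η (X.presheaf.stalkSpecializes h (f.stalkMap x c)) := by
  have h1 := ConcreteCategory.congr_hom (Scheme.residue_residueFieldMap f η)
    (Y.presheaf.stalkSpecializes (f.base.hom.map_specializes h) c)
  rw [← Scheme.Hom.stalkSpecializes_stalkMap_apply f η x h c]
  exact h1

/-- if `ξ = x` then an element of `O_{X,x}` with nonzero image in `κ(ξ)` is a unit. -/
theorem isUnit_of_specMap_ne_zero_of_eq (x ξ : X) (h : ξ ⤳ x) (heq : ξ = x)
    (a : X.presheaf.stalk x) (ha : Cyc.specMap x ξ h a ≠ 0) : IsUnit a := by
  subst heq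
  have h1 : Cyc.specMap ξ ξ h a = X.residue ξ a := by
    change X.residue ξ (X.presheaf.stalkSpecializes h a) = _
    rw [TopCat.Presheaf.stalkSpecializes_refl]
    rfl
  rw [h1] at ha
  exact (IsLocalRing.residue_ne_zero_iff_isUnit a).mp ha

end Groth.Agent.R2.H9.FlatInj
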