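import Mathlib
import Groth.Prelude.Def_Cyc
import Groth.Agent.Lib.Helper4DimFormulaY
import Groth.Agent.Lib.Helper5DetLattice

/-!
# The local rings `O_{X,x}/𝔭_ξ` of a specialization `ξ ⤳ x` and orders of vanishing (helper9)

* `isFractionRing_locQuot` : `κ(ξ)` is the fraction field of `Cyc.LocQuot x ξ h`.
* `ordAt_mul_unit` : multiplying by (the image of) a unit of `O_{X,x}` does not change `Cyc.ordAt`.
* `ordAt_eq_toNat_length` : for an immediate specialization (`δ ξ = δ x + 1`) and `f ∈ O_{X,x}` not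
  in `𝔭_ξ`, `ord_x(f̄) = ℓ_{O_{X,x}}(O_{X,x}/(𝔭_ξ + (f)))`.
-/

set_option autoImplicit false
set_option linter.style.haveILetI false

universe u

open AlgebraicGeometry CategoryTheory IsLocalRing

namespace Groth.Agent.R2.H9.LocQuot

variable {X : Scheme.{u}}

theorem residue_specializes_eq (x ξ : X) (h : ξ ⤳ x) (c : X.presheaf.stalk x) :
    X.residue ξ (X.presheaf.stalkSpecializes h c) =
      algebraMap (Cyc.LocQuot x ξ h) (X.residueField ξ)
        (Ideal.Quotient.mk (RingHom.ker (Cyc.specMap x ξ h)) c) := by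
  rw [RingHom.algebraMap_toAlgebra, Ideal.Quotient.lift_mk]
  rfl

theorem algebraMap_locQuot_injective (x ξ : X) (h : ξ ⤳ x) :
    Function.Injective (algebraMap (Cyc.LocQuot x ξ h) (X.residueField ξ)) := by
  rw [RingHom.algebraMap_toAlgebra]
  exact RingHom.lift_injective_of_ker_le_ideal _ _ le_rfl

instance (x ξ : X) (h : ξ ⤳ x) : FaithfulSMul (Cyc.LocQuot x ξ h) (X.residueField ξ) :=
  (faithfulSMul_iff_algebraMap_injective _ _).mpr (algebraMap_locQuot_injective x ξ h)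

instance (x ξ : X) (h : ξ ⤳ x) : IsDomain (Cyc.LocQuot x ξ h) :=
  (algebraMap_locQuot_injective x ξ h).isDomain

/-- `κ(ξ)` is the fraction field of `O_{X,x}/𝔭_ξ`. -/
instance isFractionRing_locQuot (x ξ : X) (h : ξ ⤳ x) :
    IsFractionRing (Cyc.LocQuot x ξ h) (X.residueField ξ) := by
  apply IsFractionRing.of_field
  intro z
  obtain ⟨w, rfl⟩ := X.residue_surjective ξ z
  obtain ⟨V, hV, hxV, -⟩ := exists_isAffineOpen_mem_and_subset (U := ⊤) (x := x) (by simp)
  have hξV : ξ ∈ V := h.mem_open V.2 hxV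
  letI := X.presheaf.algebra_section_stalk (U := V) ⟨ξ, hξV⟩
  haveI := hV.isLocalization_stalk ⟨ξ, hξV⟩
  obtain ⟨⟨g, s⟩, hgs⟩ := IsLocalization.surj (hV.primeIdealOf ⟨ξ, hξV⟩).asIdeal.primeCompl w
  have hu : IsUnit (algebraMap Γ(X, V) (X.presheaf.stalk ξ) s) :=
    IsLocalization.map_units (X.presheaf.stalk ξ) s
  have hsp : ∀ a : Γ(X, V), X.presheaf.stalkSpecializes h (X.presheaf.germ V x hxV a) =
      X.presheaf.germ V ξ hξV a := fun a =>
    ConcreteCategory.congr_hom (TopCat.Presheaf.germ_stalkSpecializes X.presheaf hxV h) a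
  refine ⟨Ideal.Quotient.mk _ (X.presheaf.germ V x hxV g),
    Ideal.Quotient.mk _ (X.presheaf.germ V x hxV s.1), ?_⟩
  rw [← residue_specializes_eq, ← residue_specializes_eq, hsp, hsp]
  have hne : X.residue ξ (X.presheaf.germ V ξ hξV s.1) ≠ 0 :=
    (hu.map (X.residue ξ).hom).ne_zero
  rw [eq_div_iff hne]
  have := congrArg (X.residue ξ).hom hgs
  rw [map_mul] at this
  exact this

section Alg

/-- `ℓ_{R/I}((R/I)/(f̄)) = ℓ_R(R/(I + (f)))`. -/
theorem length_quot_quot {R : Type*} [CommRing R] (I : Ideal R) (f : R) :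
    Module.length (R ⧸ I) ((R ⧸ I) ⧸ Ideal.span {Ideal.Quotient.mk I f}) =
      Module.length R (R ⧸ (I ⊔ Ideal.span {f})) := by
  rw [← Module.length_eq_of_surjective (S := R) (R := R ⧸ I)
    (M := (R ⧸ I) ⧸ Ideal.span {Ideal.Quotient.mk I f}) Ideal.Quotient.mk_surjective]
  have hmap : (Ideal.span {f}).map (Ideal.Quotient.mkₐ R I) =
      Ideal.span {Ideal.Quotient.mk I f} := by
    rw [Ideal.map_span, Set.image_singleton]
    rfl
  let e1 : ((R ⧸ I) ⧸ Ideal.span {Ideal.Quotient.mk I f}) ≃ₗ[R]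
      ((R ⧸ I) ⧸ (Ideal.span {f}).map (Ideal.Quotient.mkₐ R I)) :=
    ((Ideal.quotientEquivAlgOfEq R hmap.symm).toLinearEquiv)
  let e2 : ((R ⧸ I) ⧸ (Ideal.span {f}).map (Ideal.Quotient.mkₐ R I)) ≃ₗ[R]
      R ⧸ (I ⊔ Ideal.span {f}) :=
    (DoubleQuot.quotQuotEquivQuotSupₐ R I (Ideal.span {f})).toLinearEquiv
  exact (e1.trans e2).length_eq

end Alg

section ord

theorem ordAt_mul_unit (x ξ : X) (h : ξ ⤳ x) (a : X.residueField ξ) (c : X.presheaf.stalk x)
    (hc : IsUnit c) :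
    Cyc.ordAt x ξ h (a * X.residue ξ (X.presheaf.stalkSpecializes h c)) = Cyc.ordAt x ξ h a := by
  rw [residue_specializes_eq]
  unfold Cyc.ordAt CycAlg.ordFrac
  split_ifs with hcond
  · haveI := hcond.1
    haveI := hcond.2.1
    haveI := hcond.2.2.1
    haveI := hcond.2.2.2
    have hu : IsUnit (Ideal.Quotient.mk (RingHom.ker (Cyc.specMap x ξ h)) c) := hc.map _
    rw [map_mul, Ring.ordFrac_of_isUnit hu, mul_one]
  · rfl

/-- the order of the image of an element of the local ring along an immediate specialization. -/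
theorem ordAt_eq_toNat_ord [IsLocallyNoetherian X] (δ : X → ℤ) (hδ : Cyc.IsDimFun X δ) (x ξ : X)
    (h : ξ ⤳ x) (hδ1 : δ ξ = δ x + 1) (f : X.presheaf.stalk x)
    (hf : Cyc.specMap x ξ h f ≠ 0) :
    Cyc.ordAt x ξ h (X.residue ξ (X.presheaf.stalkSpecializes h f)) =
      ((Ring.ord (Cyc.LocQuot x ξ h)
        (Ideal.Quotient.mk (RingHom.ker (Cyc.specMap x ξ h)) f)).toNat : ℤ) := by
  rw [residue_specializes_eq]
  obtain ⟨k, hk, hδk⟩ := Groth.Agent.Lib.Helper4.DimFormula.isDimFun_eq_add_locQuotDim X δ hδ x ξ h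
  have hk1 : k = 1 := by omega
  subst hk1
  haveI : IsNoetherianRing (X.presheaf.stalk x) := inferInstance
  haveI : IsNoetherianRing (Cyc.LocQuot x ξ h) := inferInstance
  have hne : Ideal.Quotient.mk (RingHom.ker (Cyc.specMap x ξ h)) f ≠ 0 := by
    rw [Ne, Ideal.Quotient.eq_zero_iff_mem, RingHom.mem_ker]
    exact hf
  have := Groth.Agent.Lib.Helper5.DetLattice.ordFrac_div (Cyc.LocQuot x ξ h) (le_of_eq hk)
    (X.residueField ξ) hne one_ne_zero
  rw [map_one, div_one, Ring.ord_one] at this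
  rw [Cyc.ordAt, this]
  simp

/-- the order of the image of an element `f` of the local ring along an immediate specialization is
the length of `O_{X,x}/(𝔭_ξ + (f))`. -/
theorem ordAt_eq_toNat_length [IsLocallyNoetherian X] (δ : X → ℤ) (hδ : Cyc.IsDimFun X δ)
    (x ξ : X) (h : ξ ⤳ x) (hδ1 : δ ξ = δ x + 1) (f : X.presheaf.stalk x)
    (hf : Cyc.specMap x ξ h f ≠ 0) :
    Cyc.ordAt x ξ h (X.residue ξ (X.presheaf.stalkSpecializes h f)) =
      ((Module.length (X.presheaf.stalk x) (X.presheaf.stalk x ⧸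
        (RingHom.ker (Cyc.specMap x ξ h) ⊔ Ideal.span {f}))).toNat : ℤ) := by
  rw [ordAt_eq_toNat_ord δ hδ x ξ h hδ1 f hf, Ring.ord]
  congr 2
  exact length_quot_quot (RingHom.ker (Cyc.specMap x ξ h)) f

end ord

end Groth.Agent.R2.H9.LocQuot
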