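import Mathlib
import Groth.Prelude.Def_Cyc
import Groth.Agent.R2.H9LocQuot
import Groth.Agent.R2.H9FlatInj
import Groth.Agent.R2.H49OrdOpen

/-!
# `CycAlg.ordFrac`, `Cyc.ordAt` and `Cyc.divFun` under isomorphisms and open immersions (helper9)

* `cycOrdFrac_ringEquiv` : `CycAlg.ordFrac` is invariant under compatible ring isomorphisms.
* `ordAt_of_stalkMap_bijective` : `Cyc.ordAt` is compatible with a morphism which is an isomorphism
  on the local ring at `x` and on the residue field at `ξ`.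
* `divFun_openImmersion` : `Cyc.divFun` is compatible with open immersions.
-/

set_option autoImplicit false
set_option linter.style.haveILetI false

universe u

open AlgebraicGeometry CategoryTheory IsLocalRing TopologicalSpace

namespace Groth.Agent.R2.H9.OrdOpen

open Groth.Agent.R2.H9.LocQuot Groth.Agent.R2.H9.FlatInj

section Alg

variable {R R' K K' : Type u} [CommRing R] [CommRing R'] [Field K] [Field K'] [Algebra R K]
  [Algebra R' K']

theorem cond_of_ringEquiv (σ : R ≃+* R') (τ : K ≃+* K')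
    (h : ∀ r, τ (algebraMap R K r) = algebraMap R' K' (σ r))
    (hc : IsNoetherianRing R ∧ Ring.KrullDimLE 1 R ∧ Nontrivial R ∧ IsFractionRing R K) :
    IsNoetherianRing R' ∧ Ring.KrullDimLE 1 R' ∧ Nontrivial R' ∧ IsFractionRing R' K' := by
  haveI := hc.1
  haveI := hc.2.1
  haveI := hc.2.2.1
  haveI := hc.2.2.2
  refine ⟨isNoetherianRing_of_ringEquiv R σ, ?_, σ.injective.nontrivial, ?_⟩
  · rw [Ring.krullDimLE_iff, ← ringKrullDim_eq_of_ringEquiv σ, ← Ring.krullDimLE_iff]
    infer_instance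
  · haveI : FaithfulSMul R' K' := by
      rw [faithfulSMul_iff_algebraMap_injective]
      intro a b hab
      have h1 := h (σ.symm a)
      have h2 := h (σ.symm b)
      rw [σ.apply_symm_apply] at h1 h2
      rw [← h1, ← h2] at hab
      have := IsFractionRing.injective R K (τ.injective hab)
      exact σ.symm.injective this
    apply IsFractionRing.of_field
    intro z
    obtain ⟨a, b, hb, hz⟩ := IsFractionRing.div_surjective (A := R) (τ.symm z)
    refine ⟨σ a, σ b, ?_⟩
    rw [← h, ← h, ← map_div₀, hz, τ.apply_symm_apply]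

theorem cycOrdFrac_ringEquiv (σ : R ≃+* R') (τ : K ≃+* K')
    (h : ∀ r, τ (algebraMap R K r) = algebraMap R' K' (σ r)) (z : K) :
    CycAlg.ordFrac R' K' (τ z) = CycAlg.ordFrac R K z := by
  classical
  have h' : ∀ r, τ.symm (algebraMap R' K' r) = algebraMap R K (σ.symm r) := by
    intro r
    rw [RingEquiv.symm_apply_eq, h, σ.apply_symm_apply]
  unfold CycAlg.ordFrac
  by_cases hc : IsNoetherianRing R ∧ Ring.KrullDimLE 1 R ∧ Nontrivial R ∧ IsFractionRing R K
  · have hc' := cond_of_ringEquiv σ τ h hc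
    rw [dif_pos hc, dif_pos hc']
    haveI := hc.1
    haveI := hc.2.1
    haveI := hc.2.2.1
    haveI := hc.2.2.2
    haveI := hc'.1
    haveI := hc'.2.1
    haveI := hc'.2.2.1
    haveI := hc'.2.2.2
    haveI : IsDomain R := (IsFractionRing.injective R K).isDomain (algebraMap R K)
    haveI : IsDomain R' := (IsFractionRing.injective R' K').isDomain (algebraMap R' K')
    have := Groth.Agent.R2.H49.OrdOpen.ordFrac_ringEquiv σ (τ : K →+* K') h z
    simp only [RingEquiv.coe_toRingHom] at this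
    rw [this]
  · have hc' : ¬ (IsNoetherianRing R' ∧ Ring.KrullDimLE 1 R' ∧ Nontrivial R' ∧
        IsFractionRing R' K') := fun hh => hc (cond_of_ringEquiv σ.symm τ.symm h' hh)
    rw [dif_neg hc, dif_neg hc']

end Alg

section Geom

variable {X Y : Scheme.{u}}

theorem specMap_stalkMap (j : Y ⟶ X) (u ξ : Y) (h : ξ ⤳ u) (c : X.presheaf.stalk (j u)) :
    Cyc.specMap u ξ h (j.stalkMap u c) =
      j.residueFieldMap ξ (Cyc.specMap (j u) (j ξ) (j.base.hom.map_specializes h) c) :=
  (residueFieldMap_residue_specializes j u ξ h c).symm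

/-- `Cyc.ordAt` is compatible with a morphism inducing isomorphisms on the local ring at `u` and on
the residue field at `ξ`. -/
theorem ordAt_of_bijective (j : Y ⟶ X) (u ξ : Y) (h : ξ ⤳ u)
    (hs : Function.Bijective (j.stalkMap u).hom)
    (hr : Function.Bijective (j.residueFieldMap ξ).hom) (g : X.residueField (j ξ)) :
    Cyc.ordAt u ξ h (j.residueFieldMap ξ g) =
      Cyc.ordAt (j u) (j ξ) (j.base.hom.map_specializes h) g := by
  unfold Cyc.ordAt
  set h' := j.base.hom.map_specializes h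
  let σ₀ : X.presheaf.stalk (j u) ≃+* Y.presheaf.stalk u :=
    RingEquiv.ofBijective (j.stalkMap u).hom hs
  let τ : X.residueField (j ξ) ≃+* Y.residueField ξ :=
    RingEquiv.ofBijective (j.residueFieldMap ξ).hom hr
  have hστ : ∀ c, Cyc.specMap u ξ h (σ₀ c) = τ (Cyc.specMap (j u) (j ξ) h' c) :=
    fun c => specMap_stalkMap j u ξ h c
  have hker : RingHom.ker (Cyc.specMap u ξ h) =
      (RingHom.ker (Cyc.specMap (j u) (j ξ) h')).map (σ₀ : _ →+* _) := by
    have e1 := Ideal.comap_symm (I := RingHom.ker (Cyc.specMap (j u) (j ξ) h')) σ₀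
    have e2 : (RingHom.ker (Cyc.specMap (j u) (j ξ) h')).map (σ₀ : _ →+* _) =
        (RingHom.ker (Cyc.specMap (j u) (j ξ) h')).map σ₀ := rfl
    rw [e2, ← e1]
    ext a
    rw [Ideal.mem_comap, RingHom.mem_ker, RingHom.mem_ker]
    have := hστ (σ₀.symm a)
    rw [σ₀.apply_symm_apply] at this
    rw [this]
    exact (map_eq_zero_iff τ τ.injective)
  let σ : Cyc.LocQuot (j u) (j ξ) h' ≃+* Cyc.LocQuot u ξ h := Ideal.quotientEquiv _ _ σ₀ hker
  refine cycOrdFrac_ringEquiv σ τ (fun r => ?_) g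
  obtain ⟨c, rfl⟩ := Ideal.Quotient.mk_surjective r
  have e3 : σ (Ideal.Quotient.mk _ c) = Ideal.Quotient.mk _ (σ₀ c) := rfl
  rw [e3, ← residue_specializes_eq, ← residue_specializes_eq]
  exact (hστ c).symm

/-- `Cyc.divFun` is compatible with open immersions. -/
theorem divFun_openImmersion (j : Y ⟶ X) [IsOpenImmersion j] (δ : X → ℤ) (ξ u : Y)
    (g : X.residueField (j ξ)) :
    Cyc.divFun (fun y => δ (j y)) ξ (j.residueFieldMap ξ g) u = Cyc.divFun δ (j ξ) g (j u) := by
  classical
  unfold Cyc.divFun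
  have hiff : (j ξ ⤳ j u) ↔ (ξ ⤳ u) := j.isOpenEmbedding.isInducing.specializes_iff
  by_cases hc : ξ ⤳ u ∧ δ (j u) + 1 = δ (j ξ)
  · have hc' : j ξ ⤳ j u ∧ δ (j u) + 1 = δ (j ξ) := ⟨hiff.mpr hc.1, hc.2⟩
    rw [dif_pos hc, dif_pos hc']
    exact ordAt_of_bijective j u ξ hc.1 (ConcreteCategory.bijective_of_isIso (j.stalkMap u))
      (ConcreteCategory.bijective_of_isIso (j.residueFieldMap ξ)) g
  · have hc' : ¬ (j ξ ⤳ j u ∧ δ (j u) + 1 = δ (j ξ)) := fun hh => hc ⟨hiff.mp hh.1, hh.2⟩
    rw [dif_neg hc, dif_neg hc']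

end Geom

end Groth.Agent.R2.H9.OrdOpen
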