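import Mathlib
import Groth.Prelude.Def_Cyc
import Groth.Agent.R2.H9OrdOpen

/-!
# `Cyc.ordAt`, `Cyc.divFun` and pushforward of cycles along (closed) immersions (helper9)

* `residueFieldMap_bijective` : a morphism surjective on stalks induces isomorphisms of residue fields;
* `residueDegree_eq_one`;
* `ordAt_of_surjective` : `Cyc.ordAt` is compatible with a morphism that is surjective on the local
  ring at `u` and bijective on the residue field at `ξ`;
* `divFun_preimmersion` : `Cyc.divFun` is compatible with preimmersions;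
* `map_apply_of_injective`, `map_apply_of_notMem_range` : the pushforward of a cycle along an
  injective preimmersion.
-/

set_option autoImplicit false
set_option linter.style.haveILetI false

universe u

open AlgebraicGeometry CategoryTheory IsLocalRing TopologicalSpace

namespace Groth.Agent.R2.H9.OrdImm

open Groth.Agent.R2.H9.LocQuot Groth.Agent.R2.H9.FlatInj Groth.Agent.R2.H9.OrdOpen

variable {X Z : Scheme.{u}}

theorem residueFieldMap_bijective (j : Z ⟶ X) [SurjectiveOnStalks j] (z : Z) :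
    Function.Bijective (j.residueFieldMap z).hom := by
  refine ⟨(j.residueFieldMap z).hom.injective, ?_⟩
  intro a
  obtain ⟨b, rfl⟩ := IsLocalRing.residue_surjective a
  obtain ⟨c, rfl⟩ := j.stalkMap_surjective z b
  refine ⟨X.residue (j z) c, ?_⟩
  exact ConcreteCategory.congr_hom (Scheme.residue_residueFieldMap j z) c

theorem residueDegree_eq_one (j : Z ⟶ X) [SurjectiveOnStalks j] (z : Z) :
    j.residueDegree z = 1 := by
  unfold Scheme.Hom.residueDegree
  letI := (j.residueFieldMap z).hom.toAlgebra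
  have hb : Function.Bijective (algebraMap (X.residueField (j z)) (Z.residueField z)) :=
    residueFieldMap_bijective j z
  have e : X.residueField (j z) ≃ₗ[X.residueField (j z)] Z.residueField z :=
    LinearEquiv.ofBijective (Algebra.linearMap _ _) hb
  rw [← e.finrank_eq]
  exact Module.finrank_self _

/-- `Cyc.ordAt` is compatible with a morphism inducing a surjection on the local ring at `u` and an
isomorphism on the residue field at `ξ`. -/
theorem ordAt_of_surjective (j : Z ⟶ X) (u ξ : Z) (h : ξ ⤳ u)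
    (hs : Function.Surjective (j.stalkMap u).hom)
    (hr : Function.Bijective (j.residueFieldMap ξ).hom) (g : X.residueField (j ξ)) :
    Cyc.ordAt u ξ h (j.residueFieldMap ξ g) =
      Cyc.ordAt (j u) (j ξ) (j.base.hom.map_specializes h) g := by
  unfold Cyc.ordAt
  set h' := j.base.hom.map_specializes h
  let τ : X.residueField (j ξ) ≃+* Z.residueField ξ :=
    RingEquiv.ofBijective (j.residueFieldMap ξ).hom hr
  have hστ : ∀ c, Cyc.specMap u ξ h ((j.stalkMap u).hom c) = τ (Cyc.specMap (j u) (j ξ) h' c) :=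
    fun c => specMap_stalkMap j u ξ h c
  -- the composite `O_{X,j u} → O_{Z,u} → O_{Z,u}/𝔭_ξ`
  let φ : X.presheaf.stalk (j u) →+* Cyc.LocQuot u ξ h :=
    (Ideal.Quotient.mk (RingHom.ker (Cyc.specMap u ξ h))).comp (j.stalkMap u).hom
  have hφs : Function.Surjective φ := Ideal.Quotient.mk_surjective.comp hs
  have hφk : RingHom.ker φ = RingHom.ker (Cyc.specMap (j u) (j ξ) h') := by
    ext c
    rw [RingHom.mem_ker, RingHom.mem_ker]
    show Ideal.Quotient.mk _ ((j.stalkMap u).hom c) = 0 ↔ _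
    rw [Ideal.Quotient.eq_zero_iff_mem, RingHom.mem_ker, hστ]
    exact map_eq_zero_iff τ τ.injective
  let σ : Cyc.LocQuot (j u) (j ξ) h' ≃+* Cyc.LocQuot u ξ h :=
    (Ideal.quotEquivOfEq hφk.symm).trans (RingHom.quotientKerEquivOfSurjective hφs)
  refine cycOrdFrac_ringEquiv σ τ (fun r => ?_) g
  obtain ⟨c, rfl⟩ := Ideal.Quotient.mk_surjective r
  have e3 : σ (Ideal.Quotient.mk _ c) = Ideal.Quotient.mk _ ((j.stalkMap u).hom c) := rfl
  rw [e3, ← residue_specializes_eq, ← residue_specializes_eq]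
  exact (hστ c).symm

/-- `Cyc.divFun` is compatible with preimmersions. -/
theorem divFun_preimmersion (j : Z ⟶ X) [IsPreimmersion j] (δ : X → ℤ) (ξ u : Z)
    (g : X.residueField (j ξ)) :
    Cyc.divFun (fun y => δ (j y)) ξ (j.residueFieldMap ξ g) u = Cyc.divFun δ (j ξ) g (j u) := by
  classical
  unfold Cyc.divFun
  have hiff : (j ξ ⤳ j u) ↔ (ξ ⤳ u) := j.isEmbedding.isInducing.specializes_iff
  by_cases hc : ξ ⤳ u ∧ δ (j u) + 1 = δ (j ξ)
  · have hc' : j ξ ⤳ j u ∧ δ (j u) + 1 = δ (j ξ) := ⟨hiff.mpr hc.1, hc.2⟩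
    rw [dif_pos hc, dif_pos hc']
    exact ordAt_of_surjective j u ξ hc.1 (j.stalkMap_surjective u)
      (residueFieldMap_bijective j ξ) g
  · have hc' : ¬ (j ξ ⤳ j u ∧ δ (j u) + 1 = δ (j ξ)) := fun hh => hc ⟨hiff.mp hh.1, hh.2⟩
    rw [dif_neg hc, dif_neg hc']

theorem map_apply_of_injective (j : Z ⟶ X) [QuasiCompact j] [SurjectiveOnStalks j]
    (hinj : Function.Injective j) (δZ : Z → ℤ) (δ : X → ℤ) (hw : ∀ z, δZ z = δ (j z))
    (c : AlgebraicCycle Z ℤ) (z : Z) :
    (AlgebraicCycle.map j δZ δ c) (j z) = c z := by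
  change ∑ᶠ x ∈ j ⁻¹' {j z},
    c x * ((AlgebraicCycle.mapCoeff j δZ δ x : ℕ) : ℤ) = c z
  have hpre : j ⁻¹' {j z} = {z} := by
    ext x
    simp only [Set.mem_preimage, Set.mem_singleton_iff]
    exact hinj.eq_iff
  rw [hpre, finsum_mem_singleton]
  unfold AlgebraicCycle.mapCoeff
  rw [if_pos (hw z), residueDegree_eq_one]
  simp

theorem map_apply_of_notMem_range (j : Z ⟶ X) [QuasiCompact j] (δZ : Z → ℤ) (δ : X → ℤ)
    (c : AlgebraicCycle Z ℤ) (x : X) (hx : x ∉ Set.range j) :
    (AlgebraicCycle.map j δZ δ c) x = 0 := by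
  change ∑ᶠ y ∈ j ⁻¹' {x}, c y * ((AlgebraicCycle.mapCoeff j δZ δ y : ℕ) : ℤ) = 0
  have hpre : j ⁻¹' {x} = ∅ := by
    ext y
    simp only [Set.mem_preimage, Set.mem_singleton_iff, Set.mem_empty_iff_false, iff_false]
    exact fun h => hx ⟨y, h⟩
  rw [hpre, finsum_mem_empty]

/-- restriction of a cycle along an injective continuous map. -/
theorem exists_comap_cycle (e : Z ⟶ X) (hinj : Function.Injective e) (Γ : AlgebraicCycle X ℤ) :
    ∃ β : AlgebraicCycle Z ℤ, ∀ z, β z = Γ (e z) := by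
  refine ⟨⟨fun z => Γ (e z), fun _ _ => trivial, ?_⟩, fun z => rfl⟩
  intro z _
  obtain ⟨t, ht, hfin⟩ := Γ.supportLocallyFiniteWithinDomain' (e z) trivial
  refine ⟨e ⁻¹' t, e.continuous.continuousAt.preimage_mem_nhds ht, ?_⟩
  apply (hfin.preimage hinj.injOn).subset
  rintro y ⟨hy1, hy2⟩
  exact ⟨hy1, hy2⟩

theorem divFun_residueFieldCongr (δ : X → ℤ) {ξ ξ' : X} (e : ξ = ξ') (g : X.residueField ξ)
    (x : X) : Cyc.divFun δ ξ' ((X.residueFieldCongr e).hom g) x = Cyc.divFun δ ξ g x := by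
  subst e
  rfl

/-- A locally finite family of principal divisors on `X` all of whose generic points lie in the
image of a preimmersion `i : X₁ ⟶ X` gives a rational equivalence to zero on `X₁`. -/
theorem ratEquivZero_of_family_in_range {X₁ : Scheme.{u}} (i : X₁ ⟶ X) [IsPreimmersion i]
    (δ : X → ℤ) (k : ℤ) {ι' : Type u} (ξ : ι' → X) (f : (j : ι') → X.residueField (ξ j))
    (hξ : ∀ j, δ (ξ j) = k + 1) (hf : ∀ j, f j ≠ 0)
    (hlf : ∀ x : X, ∃ U : Set X, IsOpen U ∧ x ∈ U ∧ {j | (closure {ξ j} ∩ U).Nonempty}.Finite)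
    (hr : ∀ j, ξ j ∈ Set.range i) (a : AlgebraicCycle X₁ ℤ)
    (ha : ∀ x₁, a x₁ = ∑ᶠ j, Cyc.divFun δ (ξ j) (f j) (i x₁)) :
    Cyc.RatEquivZero (fun x => δ (i x)) k a := by
  classical
  choose ξ₁ hξ₁ using hr
  let f₁ : (j : ι') → X₁.residueField (ξ₁ j) := fun j =>
    (i.residueFieldMap (ξ₁ j)).hom ((X.residueFieldCongr (hξ₁ j).symm).hom (f j))
  refine ⟨ι', ξ₁, f₁, ?_, ?_, ?_, ?_⟩
  · intro j
    show δ (i (ξ₁ j)) = k + 1
    rw [hξ₁ j]
    exact hξ j
  · intro j h0
    apply hf j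
    have h1 := (map_eq_zero_iff _ (i.residueFieldMap (ξ₁ j)).hom.injective).mp h0
    exact (map_eq_zero_iff _ (X.residueFieldCongr (hξ₁ j).symm).hom.hom.injective).mp h1
  · intro x₁
    obtain ⟨U, hUo, hxU, hfin⟩ := hlf (i x₁)
    refine ⟨i ⁻¹' U, hUo.preimage i.continuous, hxU, ?_⟩
    apply hfin.subset
    rintro j ⟨y, hy1, hy2⟩
    refine ⟨i y, ?_, hy2⟩
    have h1 : i y ∈ i '' closure {ξ₁ j} := ⟨y, hy1, rfl⟩
    have h2 := image_closure_subset_closure_image i.continuous h1
    rw [Set.image_singleton, hξ₁ j] at h2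
    exact h2
  · intro x₁
    rw [ha x₁]
    apply finsum_congr
    intro j
    rw [← divFun_residueFieldCongr δ (hξ₁ j).symm (f j) (i x₁)]
    exact (divFun_preimmersion i δ (ξ₁ j) x₁ _).symm

end Groth.Agent.R2.H9.OrdImm
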