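import Mathlib
import Groth.Prelude.Def_Cyc
import Groth.Agent.Lib.Helper4DimFormulaY

/-!
# Generizations of a point and the primes of its local ring (helper9)

For a point `x` of a scheme `X`:
* `genPrime x ξ h` : the prime `𝔭_ξ` of `O_{X,x}` of a generization `ξ ⤳ x`;
* `fromSpecStalk_genPrime`, `genPrime_fromSpecStalk` : `ξ ↦ 𝔭_ξ` is inverse to `Spec O_{X,x} → X`;
* `isLocalization_stalkSpecializes` : `O_{X,ξ}` is the localization of `O_{X,x}` at `𝔭_ξ`;
* `length_localizedModule_eq` : `ℓ((O_{X,x})_{𝔭_ξ}) = ℓ(O_{X,ξ})`.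
-/

set_option autoImplicit false
set_option linter.style.haveILetI false

universe u

open AlgebraicGeometry CategoryTheory IsLocalRing

namespace Groth.Agent.R2.H9.StalkGen

open Groth.Agent.Lib.Helper4.VarDim Groth.Agent.Lib.Helper4.DimFormula

variable {X : Scheme.{u}} (x : X)

/-- the prime of `O_{X,x}` of a generization of `x`. -/
noncomputable def genPrime (ξ : X) (h : ξ ⤳ x) : PrimeSpectrum (X.presheaf.stalk x) :=
  ⟨RingHom.ker (Cyc.specMap x ξ h), RingHom.ker_isPrime _⟩

theorem genPrime_eq_comap (ξ : X) (h : ξ ⤳ x) :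
    genPrime x ξ h = Spec.map (X.presheaf.stalkSpecializes h) (closedPoint (X.presheaf.stalk ξ)) := by
  apply PrimeSpectrum.ext
  change RingHom.ker (Cyc.specMap x ξ h) =
    (maximalIdeal (X.presheaf.stalk ξ)).comap (X.presheaf.stalkSpecializes h).hom
  rw [← IsLocalRing.ker_residue, RingHom.comap_ker]
  rfl

theorem fromSpecStalk_genPrime (ξ : X) (h : ξ ⤳ x) :
    X.fromSpecStalk x (genPrime x ξ h) = ξ := by
  rw [genPrime_eq_comap, ← Scheme.Hom.comp_apply, Scheme.SpecMap_stalkSpecializes_fromSpecStalk h,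
    Scheme.fromSpecStalk_closedPoint]

theorem fromSpecStalk_specializes (P : PrimeSpectrum (X.presheaf.stalk x)) :
    X.fromSpecStalk x P ⤳ x := by
  have h : X.fromSpecStalk x P ∈ Set.range (X.fromSpecStalk x) := ⟨P, rfl⟩
  rw [Scheme.range_fromSpecStalk] at h
  exact h

theorem fromSpecStalk_injective : Function.Injective (X.fromSpecStalk x) :=
  (X.fromSpecStalk x).isEmbedding.injective

theorem genPrime_fromSpecStalk (P : PrimeSpectrum (X.presheaf.stalk x))
    (h : X.fromSpecStalk x P ⤳ x) : genPrime x (X.fromSpecStalk x P) h = P :=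
  fromSpecStalk_injective x (fromSpecStalk_genPrime x _ h)

theorem fromSpecStalk_eq_self_iff (P : PrimeSpectrum (X.presheaf.stalk x)) :
    X.fromSpecStalk x P = x ↔ P = closedPoint (X.presheaf.stalk x) := by
  constructor
  · intro h
    apply fromSpecStalk_injective x
    rw [h, Scheme.fromSpecStalk_closedPoint]
  · rintro rfl
    exact Scheme.fromSpecStalk_closedPoint

theorem fromSpecStalk_mono {P Q : PrimeSpectrum (X.presheaf.stalk x)} (h : P ≤ Q) :
    X.fromSpecStalk x P ⤳ X.fromSpecStalk x Q :=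
  ((PrimeSpectrum.le_iff_specializes P Q).mp h).map (X.fromSpecStalk x).continuous

section Loc

/-- `O_{X,ξ}` is the localization of `O_{X,x}` at the prime of `ξ`. -/
theorem isLocalization_stalkSpecializes (ξ : X) (h : ξ ⤳ x) :
    letI := (X.presheaf.stalkSpecializes h).hom.toAlgebra
    IsLocalization.AtPrime (X.presheaf.stalk ξ) (genPrime x ξ h).asIdeal := by
  letI algS := (X.presheaf.stalkSpecializes h).hom.toAlgebra
  obtain ⟨V, hV, hxV, -⟩ := exists_isAffineOpen_mem_and_subset (U := ⊤) (x := x) (by simp)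
  have hξV : ξ ∈ V := h.mem_open V.2 hxV
  letI algx := X.presheaf.algebra_section_stalk (U := V) ⟨x, hxV⟩
  letI algξ := X.presheaf.algebra_section_stalk (U := V) ⟨ξ, hξV⟩
  haveI locx := hV.isLocalization_stalk ⟨x, hxV⟩
  haveI locξ := hV.isLocalization_stalk ⟨ξ, hξV⟩
  haveI : IsScalarTower Γ(X, V) (X.presheaf.stalk x) (X.presheaf.stalk ξ) :=
    IsScalarTower.of_algebraMap_eq (fun a =>
      (ConcreteCategory.congr_hom (TopCat.Presheaf.germ_stalkSpecializes X.presheaf hxV h) a).symm)
  have hle : (hV.primeIdealOf ⟨ξ, hξV⟩).asIdeal ≤ (hV.primeIdealOf ⟨x, hxV⟩).asIdeal :=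
    (primeIdealOf_le_iff hV ξ x hξV hxV).mpr h
  have hcompl : (hV.primeIdealOf ⟨x, hxV⟩).asIdeal.primeCompl ≤
      (hV.primeIdealOf ⟨ξ, hξV⟩).asIdeal.primeCompl := fun a ha hmem => ha (hle hmem)
  have hunder := ker_specMap_under hV x ξ h hxV hξV
  have hmem_iff : ∀ a : Γ(X, V), algebraMap Γ(X, V) (X.presheaf.stalk x) a ∈
      (genPrime x ξ h).asIdeal ↔ a ∈ (hV.primeIdealOf ⟨ξ, hξV⟩).asIdeal := by
    intro a
    rw [← hunder]
    rfl
  haveI h1 : IsLocalization ((hV.primeIdealOf ⟨ξ, hξV⟩).asIdeal.primeCompl.map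
      (algebraMap Γ(X, V) (X.presheaf.stalk x))) (X.presheaf.stalk ξ) :=
    IsLocalization.isLocalization_of_submonoid_le (X.presheaf.stalk x) (X.presheaf.stalk ξ)
      (hV.primeIdealOf ⟨x, hxV⟩).asIdeal.primeCompl
      (hV.primeIdealOf ⟨ξ, hξV⟩).asIdeal.primeCompl hcompl
  refine IsLocalization.isLocalization_of_is_exists_mul_mem (X.presheaf.stalk ξ)
    ((hV.primeIdealOf ⟨ξ, hξV⟩).asIdeal.primeCompl.map
      (algebraMap Γ(X, V) (X.presheaf.stalk x))) (genPrime x ξ h).asIdeal.primeCompl ?_ ?_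
  · rintro _ ⟨a, ha, rfl⟩
    intro hmem
    exact ha ((hmem_iff a).mp hmem)
  · rintro ⟨z, hz⟩
    obtain ⟨⟨a, s⟩, has⟩ := IsLocalization.surj (hV.primeIdealOf ⟨x, hxV⟩).asIdeal.primeCompl z
    refine ⟨algebraMap Γ(X, V) (X.presheaf.stalk x) s, a, ?_, ?_⟩
    · intro ha
      have h2 : z * algebraMap Γ(X, V) (X.presheaf.stalk x) s ∈ (genPrime x ξ h).asIdeal := by
        rw [has]
        exact (hmem_iff a).mpr ha
      rcases (genPrime x ξ h).2.mem_or_mem h2 with h3 | h3
      · exact hz h3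
      · have hu : IsUnit (algebraMap Γ(X, V) (X.presheaf.stalk x) s) :=
          IsLocalization.map_units (X.presheaf.stalk x) s
        exact (genPrime x ξ h).2.ne_top (Ideal.eq_top_of_isUnit_mem _ h3 hu)
    · rw [mul_comm]
      exact has.symm

end Loc

section Len

theorem length_self_eq_of_ringEquiv {R S : Type*} [CommRing R] [CommRing S] (e : R ≃+* S) :
    Module.length R R = Module.length S S := by
  letI alg : Algebra R S := e.toRingHom.toAlgebra
  have hs : Function.Surjective (algebraMap R S) := e.surjective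
  rw [← Module.length_eq_of_surjective (M := S) hs]
  let e' : R ≃ₗ[R] S :=
    { e.toAddEquiv with
      map_smul' := fun r s => by
        change e (r * s) = r • e s
        rw [Algebra.smul_def, map_mul]
        rfl }
  exact e'.length_eq

/-- `ℓ((O_{X,x})_{𝔭_ξ}) = ℓ(O_{X,ξ})`. -/
theorem length_localizedModule_eq (ξ : X) (h : ξ ⤳ x) :
    Module.length (Localization.AtPrime (genPrime x ξ h).asIdeal)
      (LocalizedModule (genPrime x ξ h).asIdeal.primeCompl (X.presheaf.stalk x)) =
    Module.length (X.presheaf.stalk ξ) (X.presheaf.stalk ξ) := by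
  letI algS := (X.presheaf.stalkSpecializes h).hom.toAlgebra
  haveI := isLocalization_stalkSpecializes x ξ h
  have e : Localization.AtPrime (genPrime x ξ h).asIdeal ≃ₐ[X.presheaf.stalk x]
      X.presheaf.stalk ξ := IsLocalization.algEquiv (genPrime x ξ h).asIdeal.primeCompl _ _
  rw [← length_self_eq_of_ringEquiv e.toRingEquiv]

end Len

end Groth.Agent.R2.H9.StalkGen
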