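import Mathlib
import Groth.Agent.R2.H9BcLen
import Groth.Agent.R2.H9OrdImm
import Groth.Agent.R2.H9StalkGen
import Groth.Agent.Lib.Helper6Reduced

/-!
# Multiplicities of fibres under base change along a map that is surjective on stalks (helper9)

* `length_quot_of_isPullback` : in a pullback square `P = X ×_Z Y` with `g : Y → Z` surjective on
  stalks (e.g. a closed immersion), the fibre multiplicity of `snd : P → Y` at `p` is the fibre
  multiplicity of `f : X → Z` at `fst p`.
-/

set_option autoImplicit false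
set_option linter.style.haveILetI false

universe u

open AlgebraicGeometry CategoryTheory CategoryTheory.Limits

namespace Groth.Agent.R2.H9.BcLen

/-- `length_stalk_fiber` with a propositional equality for the base point. -/
theorem length_stalk_fiber' {X Y : Scheme.{u}} (f : X ⟶ Y) (x : X) (y : Y) (hy : f x = y)
    (w : f.fiber y) (hw : f.fiberι y w = x) :
    Module.length ((f.fiber y).presheaf.stalk w) ((f.fiber y).presheaf.stalk w) =
      Module.length (X.presheaf.stalk x) (X.presheaf.stalk x ⧸
        Ideal.map (f.stalkMap x).hom (IsLocalRing.maximalIdeal (Y.presheaf.stalk (f x)))) := by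
  subst hy
  exact Groth.Agent.R2.H9.FiberDeg.length_stalk_fiber f x w hw

theorem length_quot_of_isPullback {P X Y Z : Scheme.{u}} {fst : P ⟶ X} {snd : P ⟶ Y} {f : X ⟶ Z}
    {g : Y ⟶ Z} (h : IsPullback fst snd f g) [SurjectiveOnStalks g] (p : P) :
    Module.length (P.presheaf.stalk p) (P.presheaf.stalk p ⧸
        Ideal.map (snd.stalkMap p).hom (IsLocalRing.maximalIdeal (Y.presheaf.stalk (snd p)))) =
      Module.length (X.presheaf.stalk (fst p)) (X.presheaf.stalk (fst p) ⧸
        Ideal.map (f.stalkMap (fst p)).hom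
          (IsLocalRing.maximalIdeal (Z.presheaf.stalk (f (fst p))))) := by
  rw [← Groth.Agent.R2.H9.FiberDeg.length_stalk_fiber snd p (snd.asFiber p) (snd.fiberι_asFiber p)]
  let E : snd.fiber (snd p) ⟶ f.fiber (g (snd p)) :=
    pullback.map _ _ _ _ fst (Spec.map (g.residueFieldMap (snd p))) g h.w.symm (by simp)
  have key : IsPullback E (snd.fiberToSpecResidueField (snd p))
      (f.fiberToSpecResidueField (g (snd p))) (Spec.map (g.residueFieldMap (snd p))) :=
    isPullback_fiberToSpecResidueField_of_isPullback h (snd p)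
  haveI : IsIso (g.residueFieldMap (snd p)) := by
    rw [ConcreteCategory.isIso_iff_bijective]
    exact Groth.Agent.R2.H9.OrdImm.residueFieldMap_bijective g (snd p)
  haveI : IsIso (Spec.map (g.residueFieldMap (snd p))) := inferInstance
  haveI : IsIso E := key.isIso_fst_of_isIso
  have hEmor : E ≫ f.fiberι (g (snd p)) = snd.fiberι (snd p) ≫ fst := pullback.lift_fst _ _ _
  have hE : f.fiberι (g (snd p)) (E (snd.asFiber p)) = fst p := by
    have h0 := congrArg (fun φ : snd.fiber (snd p) ⟶ X => φ (snd.asFiber p)) hEmor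
    simp only [Scheme.Hom.comp_apply] at h0
    rw [h0, snd.fiberι_asFiber]
  have hfg : f (fst p) = g (snd p) := by
    have h0 := congrArg (fun φ : P ⟶ Z => φ p) h.w
    simpa only [Scheme.Hom.comp_apply] using h0
  rw [← length_stalk_fiber' f (fst p) (g (snd p)) hfg (E (snd.asFiber p)) hE]
  exact (Groth.Agent.R2.H9.StalkGen.length_self_eq_of_ringEquiv
    (asIso (E.stalkMap (snd.asFiber p))).commRingCatIsoToRingEquiv).symm

/-- the square relating the base change of the reduction with the base change. -/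
theorem isPullback_map_red {S S'' Y Y₀ : Scheme.{u}} (h : Y ⟶ S) (σ : S'' ⟶ S) (ι : Y₀ ⟶ Y) :
    IsPullback (pullback.map (ι ≫ h) σ h σ ι (𝟙 _) (𝟙 _) (Category.comp_id _)
        ((Category.comp_id _).trans (Category.id_comp _).symm))
      (pullback.fst (ι ≫ h) σ) (pullback.fst h σ) ι := by
  refine IsPullback.of_right (h₁₂ := pullback.snd h σ) (h₂₂ := h) (v₁₃ := σ) ?_ ?_
    (IsPullback.of_hasPullback h σ).flip
  · have h1 : pullback.map (ι ≫ h) σ h σ ι (𝟙 _) (𝟙 _) (Category.comp_id _)
        ((Category.comp_id _).trans (Category.id_comp _).symm) ≫ pullback.snd h σ =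
        pullback.snd (ι ≫ h) σ := by
      rw [pullback.lift_snd, Category.comp_id]
    rw [h1]
    exact (IsPullback.of_hasPullback (ι ≫ h) σ).flip
  · rw [pullback.lift_fst]

/-- EGA IV 4.7.x-type formula, general form: `ι : Y₀ → Y` a preimmersion (e.g. closed immersion) from
a reduced scheme. -/
theorem length_stalk_eq_mul_of_reduced {S S'' Y Y₀ : Scheme.{u}} (h : Y ⟶ S) (σ : S'' ⟶ S) [Flat σ]
    (ι : Y₀ ⟶ Y) [IsPreimmersion ι] [IsReduced Y₀]
    (z'' : ↥(pullback (ι ≫ h) σ))
    (hx'' : ∀ z : ↥(pullback h σ),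
      z ⤳ pullback.map (ι ≫ h) σ h σ ι (𝟙 _) (𝟙 _) (Category.comp_id _)
        ((Category.comp_id _).trans (Category.id_comp _).symm) z'' →
      z = pullback.map (ι ≫ h) σ h σ ι (𝟙 _) (𝟙 _) (Category.comp_id _)
        ((Category.comp_id _).trans (Category.id_comp _).symm) z'') :
    Module.length
        ((pullback h σ).presheaf.stalk (pullback.map (ι ≫ h) σ h σ ι (𝟙 _) (𝟙 _) (Category.comp_id _)
          ((Category.comp_id _).trans (Category.id_comp _).symm) z''))
        ((pullback h σ).presheaf.stalk (pullback.map (ι ≫ h) σ h σ ι (𝟙 _) (𝟙 _) (Category.comp_id _)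
          ((Category.comp_id _).trans (Category.id_comp _).symm) z'')) =
      Module.length
          (Y.presheaf.stalk ((pullback.fst h σ) (pullback.map (ι ≫ h) σ h σ ι (𝟙 _) (𝟙 _)
            (Category.comp_id _) ((Category.comp_id _).trans (Category.id_comp _).symm) z'')))
          (Y.presheaf.stalk ((pullback.fst h σ) (pullback.map (ι ≫ h) σ h σ ι (𝟙 _) (𝟙 _)
            (Category.comp_id _) ((Category.comp_id _).trans (Category.id_comp _).symm) z''))) *
        Module.length ((pullback (ι ≫ h) σ).presheaf.stalk z'')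
          ((pullback (ι ≫ h) σ).presheaf.stalk z'') := by
  haveI : Flat (pullback.fst h σ) := MorphismProperty.pullback_fst (P := @Flat) _ _ inferInstance
  haveI : Flat (pullback.fst (ι ≫ h) σ) :=
    MorphismProperty.pullback_fst (P := @Flat) _ _ inferInstance
  have hsq := isPullback_map_red h σ ι
  generalize pullback.map (ι ≫ h) σ h σ ι (𝟙 _) (𝟙 _) (Category.comp_id _)
    ((Category.comp_id _).trans (Category.id_comp _).symm) = j at hsq hx'' ⊢
  have hcomm : ∀ w, ι ((pullback.fst (ι ≫ h) σ) w) = (pullback.fst h σ) (j w) := by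
    intro w
    have h0 := congrArg (fun φ : pullback (ι ≫ h) σ ⟶ Y => φ w) hsq.w
    simp only [Scheme.Hom.comp_apply] at h0
    exact h0.symm
  have hmaxY : ∀ y : Y, y ⤳ (pullback.fst h σ) (j z'') → y = (pullback.fst h σ) (j z'') := by
    intro y hy
    obtain ⟨w, hw1, hw2⟩ := (Flat.generalizingMap (pullback.fst h σ)) hy
    rw [hx'' w hw1] at hw2
    exact hw2.symm
  have hmaxr : ∀ t : Y₀, t ⤳ (pullback.fst (ι ≫ h) σ) z'' →
      t = (pullback.fst (ι ≫ h) σ) z'' := by
    intro t ht
    have h1 : ι t ⤳ ι ((pullback.fst (ι ≫ h) σ) z'') := ht.map ι.continuous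
    rw [hcomm] at h1
    have h2 := hmaxY _ h1
    rw [← hcomm] at h2
    exact ι.isEmbedding.injective h2
  have hone := length_stalk_eq_one_of_isReduced ((pullback.fst (ι ≫ h) σ) z'') hmaxr
  rw [length_stalk_eq_mul (pullback.fst h σ) (j z''),
    length_stalk_eq_mul (pullback.fst (ι ≫ h) σ) z'', hone, one_mul,
    length_quot_of_isPullback hsq z'']

end Groth.Agent.R2.H9.BcLen
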