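import Mathlib
import Groth.Prelude.Def_Cyc
import Groth.Agent.Lib.Helper3RelDim
import Groth.Agent.Lib.Helper4DimFormulaAD

/-!
# Bounds on the induced dimension function along a morphism of relative dimension `r` (helper9)

* `exists_le_delta` : for `f` locally of finite type with `Cyc.HasRelDim f r` and
  `Cyc.DeltaCompat f δX δY`, at every point `δX x = δY (f x) + n` with `n ≤ r`.
-/

set_option autoImplicit false
universe u
open CategoryTheory AlgebraicGeometry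

namespace Groth.Agent.R2.H9.DeltaBound

open Groth.Agent.Lib.Helper4.DimFormula

theorem ptTrdeg_le {X Y : Scheme.{u}} (f : X ⟶ Y) [LocallyOfFiniteType f] (r : ℕ)
    (hr : Cyc.HasRelDim f r) (x : X) : ptTrdeg f x ≤ r := by
  rw [Groth.Agent.Lib.Helper3.RelDim.hasRelDim_iff_forall_fibreDimAt_eq] at hr
  have h1 := fibreDimAt_eq_stalk_add_ptTrdeg f x
  rw [hr x] at h1
  have h0 : (0 : WithBot ℕ∞) ≤
      ringKrullDim ((f.fiber (f.base x)).presheaf.stalk (f.asFiber x)) := ringKrullDim_nonneg_of_nontrivial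
  have h2 : ((ptTrdeg f x : ℕ) : WithBot ℕ∞) ≤ (r : WithBot ℕ∞) := by
    rw [h1]
    calc ((ptTrdeg f x : ℕ) : WithBot ℕ∞) = 0 + (ptTrdeg f x : WithBot ℕ∞) := (zero_add _).symm
      _ ≤ _ := add_le_add_left h0 _
  exact_mod_cast h2

theorem exists_le_delta {X Y : Scheme.{u}} (f : X ⟶ Y) [LocallyOfFiniteType f] (r : ℕ)
    (hr : Cyc.HasRelDim f r) (δX : X → ℤ) (δY : Y → ℤ) (hδ : Cyc.DeltaCompat f δX δY) (x : X) :
    ∃ n : ℕ, n ≤ r ∧ δX x = δY (f x) + n := by
  obtain ⟨n, hn, hδn⟩ := hδ x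
  have h3 := trdeg_eq_ptTrdeg f x
  have h4 : n = ptTrdeg f x := by
    have h5 : ((n : ℕ) : Cardinal.{u}) = (ptTrdeg f x : Cardinal.{u}) := hn.symm.trans h3
    exact_mod_cast h5
  exact ⟨n, h4 ▸ ptTrdeg_le f r hr x, hδn⟩

end Groth.Agent.R2.H9.DeltaBound
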