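import Mathlib
import Groth.Prelude.Def_Cyc
import Groth.Agent.R2.H9DeltaBound

/-!
# The induced dimension function at points which are generic in their fibre (helper9)

* `delta_eq_of_maximal` : for `f` locally of finite type with `Cyc.HasRelDim f r` and
  `Cyc.DeltaCompat f δX δY`, at a point `x` which is maximal (under generization) in its fibre,
  `δX x = δY (f x) + r`.
-/

set_option autoImplicit false
universe u
open CategoryTheory AlgebraicGeometry

namespace Groth.Agent.R2.H9.DeltaGen

open Groth.Agent.Lib.Helper4.DimFormula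

theorem delta_eq_of_maximal {X Y : Scheme.{u}} (f : X ⟶ Y) [LocallyOfFiniteType f] (r : ℕ)
    (hr : Cyc.HasRelDim f r) (δX : X → ℤ) (δY : Y → ℤ) (hδ : Cyc.DeltaCompat f δX δY) (x : X)
    (hmax : ∀ y : X, f.base y = f.base x → y ⤳ x → y = x) : δX x = δY (f x) + r := by
  obtain ⟨n, hn, hδn⟩ := hδ x
  have h3 := trdeg_eq_ptTrdeg f x
  have h4 : n = ptTrdeg f x := by
    have h5 : ((n : ℕ) : Cardinal.{u}) = (ptTrdeg f x : Cardinal.{u}) := hn.symm.trans h3
    exact_mod_cast h5
  rw [Groth.Agent.Lib.Helper3.RelDim.hasRelDim_iff_forall_fibreDimAt_eq] at hr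
  have h6 := fibreDimAt_eq_ptTrdeg_of_maximal f x hmax
  rw [hr x] at h6
  have h7 : r = ptTrdeg f x := by exact_mod_cast h6
  rw [hδn, h4, ← h7]

end Groth.Agent.R2.H9.DeltaGen
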