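import Mathlib
import Groth.Agent.Lib.Helper5CycLen
import Groth.Agent.R2.H9LocQuot

/-!
# One-dimensional Noetherian local rings: `ℓ(A/(f))` as a sum over the non-maximal primes (helper9)

* `length_quot_eq_finsum` : for `A` Noetherian local of dimension `≤ 1` and `f` a nonzerodivisor,
  `ℓ(A/(f)) = ∑_{𝔭 ≠ 𝔪} ℓ(A_𝔭) · ℓ_A(A/(𝔭 + (f)))`.
-/

set_option autoImplicit false
set_option linter.style.haveILetI false

universe u

open IsLocalRing

namespace Groth.Agent.R2.H9.DimOneLen

open Groth.Agent.R2.H9.LocQuot Groth.Agent.Lib.Helper5.CycLen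

variable (A : Type u) [CommRing A] [IsNoetherianRing A] [IsLocalRing A]

omit [IsNoetherianRing A] [IsLocalRing A] in
theorem length_quot_top_eq_zero (I : Ideal A) (hI : I = ⊤) : Module.length A (A ⧸ I) = 0 := by
  rw [Module.length_eq_zero_iff]
  exact Ideal.Quotient.subsingleton_iff.mpr hI

theorem length_quot_eq_finsum [Ring.KrullDimLE 1 A] (f : A) (hf : f ∈ nonZeroDivisors A) :
    ((Module.length A (A ⧸ Ideal.span {f})).toNat : ℤ) =
      ∑ᶠ (P : PrimeSpectrum A) (_ : P ≠ closedPoint A),
        ((Module.length (Localization.AtPrime P.asIdeal)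
          (LocalizedModule P.asIdeal.primeCompl A)).toNat : ℤ) *
        ((Module.length A (A ⧸ (P.asIdeal ⊔ Ideal.span {f}))).toNat : ℤ) := by
  by_cases hu : IsUnit f
  · have h1 : Ideal.span {f} = ⊤ := Ideal.span_singleton_eq_top.mpr hu
    rw [length_quot_top_eq_zero A _ h1]
    symm
    apply finsum_mem_eq_zero_of_forall_eq_zero
    intro P _
    rw [length_quot_top_eq_zero A _ (by rw [h1, sup_top_eq])]
    simp
  · -- the dimension is exactly one
    have hle : ringKrullDim A ≤ 1 := Ring.krullDimLE_iff.mp inferInstance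
    have hA : ringKrullDim A = 1 := by
      apply le_antisymm hle
      by_contra hlt
      rw [not_le] at hlt
      have h0 : ringKrullDim A ≤ 0 := by
        have : ringKrullDim A < ((0 : ℕ) : WithBot ℕ∞) + 1 := by simpa using hlt
        exact_mod_cast ENat.WithBot.lt_add_one_iff.mp this
      haveI : Ring.KrullDimLE 0 A := Ring.krullDimLE_iff.mpr h0
      have hnil : IsNilpotent f := Ring.KrullDimLE.isNilpotent_iff_mem_nonunits.mpr hu
      obtain ⟨n, hn⟩ := hnil
      have h2 : f ^ n ∈ nonZeroDivisors A := pow_mem hf n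
      rw [hn] at h2
      exact zero_notMem_nonZeroDivisors h2
    have hreg : IsSMulRegular A f := by
      intro a b hab
      have h1 : f * (a - b) = 0 := by
        rw [mul_sub, sub_eq_zero]
        exact hab
      exact sub_eq_zero.mp ((mul_left_mem_nonZeroDivisors_eq_zero_iff hf).mp h1)
    have hMemb : ∀ p ∈ associatedPrimes A A, p ∈ minimalPrimes A := by
      intro p hp
      haveI : p.IsPrime := hp.isPrime
      rw [minimal_iff_ne_maximal hA p]
      intro hpm
      have hfm : f ∈ maximalIdeal A := (mem_maximalIdeal f).mpr (mem_nonunits_iff.mpr hu)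
      have h1 : f ∈ ⋃ q ∈ associatedPrimes A A, (q : Set A) :=
        Set.mem_iUnion₂.mpr ⟨p, hp, hpm ▸ hfm⟩
      rw [biUnion_associatedPrimes_eq_compl_regular] at h1
      exact h1 hreg
    have hsupp : Module.support A A = Set.univ := by
      rw [Module.support_of_algebra]
      have hk : RingHom.ker (algebraMap A A) = ⊥ :=
        (RingHom.injective_iff_ker_eq_bot _).mp Function.injective_id
      rw [hk]
      exact PrimeSpectrum.zeroLocus_bot
    obtain ⟨F, hF⟩ : ∃ F : Finset (PrimeSpectrum A), ∀ p, p ∈ F ↔ p.asIdeal ∈ minimalPrimes A := by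
      have hfin : {p : PrimeSpectrum A | p.asIdeal ∈ minimalPrimes A}.Finite := by
        refine Set.Finite.preimage ?_ (minimalPrimes.finite_of_isNoetherianRing A)
        intro p _ q _ h
        exact PrimeSpectrum.ext h
      exact ⟨hfin.toFinset, fun p => by simp⟩
    obtain ⟨-, hsum⟩ := length_quot_smul_eq_sum hA hMemb hsupp f hf F hF
    have hrange : LinearMap.range (LinearMap.lsmul A A f) = Ideal.span {f} := by
      ext y
      rw [LinearMap.mem_range, Ideal.mem_span_singleton']
      constructor
      · rintro ⟨z, rfl⟩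
        exact ⟨z, mul_comm z f⟩
      · rintro ⟨z, rfl⟩
        exact ⟨z, mul_comm f z⟩
    rw [hrange] at hsum
    rw [hsum]
    have hset : {P : PrimeSpectrum A | P ≠ closedPoint A} = (F : Set (PrimeSpectrum A)) := by
      ext P
      rw [Set.mem_ofPred_eq, Finset.mem_coe, hF, minimal_iff_ne_maximal hA, Ne, Ne,
        PrimeSpectrum.ext_iff]
      rfl
    have h2 : (∑ᶠ (P : PrimeSpectrum A) (_ : P ≠ closedPoint A),
        ((Module.length (Localization.AtPrime P.asIdeal)
          (LocalizedModule P.asIdeal.primeCompl A)).toNat : ℤ) *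
        ((Module.length A (A ⧸ (P.asIdeal ⊔ Ideal.span {f}))).toNat : ℤ)) =
        ∑ᶠ P ∈ {P : PrimeSpectrum A | P ≠ closedPoint A},
        ((Module.length (Localization.AtPrime P.asIdeal)
          (LocalizedModule P.asIdeal.primeCompl A)).toNat : ℤ) *
        ((Module.length A (A ⧸ (P.asIdeal ⊔ Ideal.span {f}))).toNat : ℤ) := rfl
    rw [h2, hset, finsum_mem_coe_finset]
    refine Finset.sum_congr rfl fun P _ => ?_
    rw [Ring.ord, length_quot_quot]

end Groth.Agent.R2.H9.DimOneLen
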