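import Mathlib
import Groth.Agent.R2.H9LocQuot

/-!
# Orders of fractions along an immediate specialization (helper9)

* `exists_frac` : every element of `κ(ξ)` is a fraction of images of elements of `O_{X,x}` (`ξ ⤳ x`).
* `ordAt_div_eq` : `ord_x(ā/b̄) = ℓ(O_x/(𝔭_ξ + (a))) - ℓ(O_x/(𝔭_ξ + (b)))` for an immediate
  specialization `ξ ⤳ x` and `a, b ∈ O_{X,x} \ 𝔭_ξ`.
-/

set_option autoImplicit false
set_option linter.style.haveILetI false

universe u

open AlgebraicGeometry CategoryTheory IsLocalRing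

namespace Groth.Agent.R2.H9.OrdDiv

open Groth.Agent.R2.H9.LocQuot

variable {X : Scheme.{u}}

theorem exists_frac (x ξ : X) (h : ξ ⤳ x) (g : X.residueField ξ) :
    ∃ a b : X.presheaf.stalk x, Cyc.specMap x ξ h b ≠ 0 ∧
      g = X.residue ξ (X.presheaf.stalkSpecializes h a) /
        X.residue ξ (X.presheaf.stalkSpecializes h b) := by
  obtain ⟨a', b', hb', rfl⟩ := IsFractionRing.div_surjective (A := Cyc.LocQuot x ξ h) g
  obtain ⟨a, rfl⟩ := Ideal.Quotient.mk_surjective a'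
  obtain ⟨b, rfl⟩ := Ideal.Quotient.mk_surjective b'
  refine ⟨a, b, ?_, ?_⟩
  · intro h0
    have : Ideal.Quotient.mk (RingHom.ker (Cyc.specMap x ξ h)) b = 0 :=
      Ideal.Quotient.eq_zero_iff_mem.mpr (RingHom.mem_ker.mpr h0)
    rw [this] at hb'
    exact zero_notMem_nonZeroDivisors hb'
  · rw [residue_specializes_eq, residue_specializes_eq]

theorem specMap_eq (x ξ : X) (h : ξ ⤳ x) (a : X.presheaf.stalk x) :
    Cyc.specMap x ξ h a = X.residue ξ (X.presheaf.stalkSpecializes h a) := rfl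

theorem ordAt_div_eq [IsLocallyNoetherian X] (δ : X → ℤ) (hδ : Cyc.IsDimFun X δ) (x ξ : X)
    (h : ξ ⤳ x) (hδ1 : δ ξ = δ x + 1) (a b : X.presheaf.stalk x)
    (ha : Cyc.specMap x ξ h a ≠ 0) (hb : Cyc.specMap x ξ h b ≠ 0) :
    Cyc.ordAt x ξ h (X.residue ξ (X.presheaf.stalkSpecializes h a) /
        X.residue ξ (X.presheaf.stalkSpecializes h b)) =
      ((Module.length (X.presheaf.stalk x) (X.presheaf.stalk x ⧸
        (RingHom.ker (Cyc.specMap x ξ h) ⊔ Ideal.span {a}))).toNat : ℤ) -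
      ((Module.length (X.presheaf.stalk x) (X.presheaf.stalk x ⧸
        (RingHom.ker (Cyc.specMap x ξ h) ⊔ Ideal.span {b}))).toNat : ℤ) := by
  rw [residue_specializes_eq, residue_specializes_eq]
  obtain ⟨k, hk, hδk⟩ := Groth.Agent.Lib.Helper4.DimFormula.isDimFun_eq_add_locQuotDim X δ hδ x ξ h
  have hk1 : k = 1 := by omega
  subst hk1
  haveI : IsNoetherianRing (X.presheaf.stalk x) := inferInstance
  haveI : IsNoetherianRing (Cyc.LocQuot x ξ h) := inferInstance
  have hane : Ideal.Quotient.mk (RingHom.ker (Cyc.specMap x ξ h)) a ≠ 0 := by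
    rw [Ne, Ideal.Quotient.eq_zero_iff_mem, RingHom.mem_ker]
    exact ha
  have hbne : Ideal.Quotient.mk (RingHom.ker (Cyc.specMap x ξ h)) b ≠ 0 := by
    rw [Ne, Ideal.Quotient.eq_zero_iff_mem, RingHom.mem_ker]
    exact hb
  rw [Cyc.ordAt, Groth.Agent.Lib.Helper5.DetLattice.ordFrac_div (Cyc.LocQuot x ξ h) (le_of_eq hk)
    (X.residueField ξ) hane hbne, Ring.ord, Ring.ord, length_quot_quot, length_quot_quot]

end Groth.Agent.R2.H9.OrdDiv
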