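import Mathlib
import Groth.Prelude.Def_Cyc
import Groth.Agent.R2.H9OrdDiv
import Groth.Agent.Lib.Helper4VarDim2

/-!
# Local finiteness of principal divisors (helper9)

* `finite_codim_one_zeros` : on a Noetherian affine open `V`, a section `c` not vanishing at `ξ`
  vanishes at only finitely many points `y` of the closure of `ξ` with `δ y + 1 = δ ξ`.
* `divFun_support_locallyFinite` : the support of `Cyc.divFun δ ξ f` is locally finite.
* `exists_cycle_of_locallyFinite` : a locally finite family of principal divisors sums to an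
  algebraic cycle.
-/

set_option autoImplicit false
set_option linter.style.haveILetI false

universe u

open AlgebraicGeometry CategoryTheory IsLocalRing TopologicalSpace

namespace Groth.Agent.R2.H9.DivLF

open Groth.Agent.R2.H9.LocQuot Groth.Agent.R2.H9.OrdDiv Groth.Agent.Lib.Helper4.VarDim

variable {X : Scheme.{u}}

theorem not_mem_basicOpen_iff {V : X.Opens} (hV : IsAffineOpen V) (y : X) (hy : y ∈ V)
    (c : Γ(X, V)) : y ∉ X.basicOpen c ↔ c ∈ (hV.primeIdealOf ⟨y, hy⟩).asIdeal := by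
  rw [mem_primeIdealOf_iff hV y hy c, Scheme.mem_basicOpen _ _ _ hy]
  change ¬ IsUnit _ ↔ IsLocalRing.residue _ ((X.presheaf.germ V y hy).hom c) = 0
  rw [IsLocalRing.residue_eq_zero_iff, IsLocalRing.mem_maximalIdeal, mem_nonunits_iff]

theorem finite_codim_one_zeros [IsLocallyNoetherian X] (δ : X → ℤ) (hδ : Cyc.IsDimFun X δ)
    (ξ : X) {V : X.Opens} (hV : IsAffineOpen V) (c : Γ(X, V))
    (hc : ξ ∈ X.basicOpen c) :
    {y : X | y ∈ V ∧ ξ ⤳ y ∧ δ y + 1 = δ ξ ∧ y ∉ X.basicOpen c}.Finite := by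
  classical
  have hξV : ξ ∈ V := X.basicOpen_le c hc
  haveI : IsNoetherianRing Γ(X, V) := IsLocallyNoetherian.component_noetherian ⟨V, hV⟩
  set I : Ideal Γ(X, V) := (hV.primeIdealOf ⟨ξ, hξV⟩).asIdeal ⊔ Ideal.span {c} with hI
  have hfin := Ideal.finite_minimalPrimes_of_isNoetherianRing Γ(X, V) I
  let φ : X → Ideal Γ(X, V) := fun y =>
    if hy : y ∈ V then (hV.primeIdealOf ⟨y, hy⟩).asIdeal else ⊤
  apply Set.Finite.of_finite_image (f := φ)
  · apply hfin.subset
    rintro _ ⟨y, ⟨hyV, hξy, hδy, hyc⟩, rfl⟩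
    have hφ : φ y = (hV.primeIdealOf ⟨y, hyV⟩).asIdeal := dif_pos hyV
    rw [hφ]
    have hle : I ≤ (hV.primeIdealOf ⟨y, hyV⟩).asIdeal := by
      rw [hI, sup_le_iff, Ideal.span_singleton_le_iff_mem]
      exact ⟨(primeIdealOf_le_iff hV ξ y hξV hyV).mpr hξy,
        (not_mem_basicOpen_iff hV y hyV c).mp hyc⟩
    refine ⟨⟨(hV.primeIdealOf ⟨y, hyV⟩).isPrime, hle⟩, ?_⟩
    rintro Q ⟨hQp, hQI⟩ hQy
    -- the point of Q
    let Q' : PrimeSpectrum Γ(X, V) := ⟨Q, hQp⟩
    have hQV := fromSpec_mem hV Q'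
    have hQe := primeIdealOf_fromSpec hV Q' hQV
    have e1 : ξ ⤳ hV.fromSpec Q' := by
      rw [← primeIdealOf_le_iff hV _ _ hξV hQV, hQe]
      exact le_trans le_sup_left hQI
    have e2 : hV.fromSpec Q' ⤳ y := by
      rw [← primeIdealOf_le_iff hV _ _ hQV hyV, hQe]
      exact hQy
    have hcQ : hV.fromSpec Q' ∉ X.basicOpen c := by
      rw [not_mem_basicOpen_iff hV _ hQV, hQe]
      exact hQI (Ideal.mem_sup_right (Ideal.mem_span_singleton_self c))
    have hne1 : ξ ≠ hV.fromSpec Q' := fun h => hcQ (h ▸ hc)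
    by_cases hne2 : hV.fromSpec Q' = y
    · have : Q' = hV.primeIdealOf ⟨y, hyV⟩ := by
        rw [← hQe]
        congr 1
        exact Subtype.ext hne2
      rw [← this]
    · exfalso
      have h1 := (hδ _ _ e1 hne1).1
      have h2 := (hδ _ _ e2 hne2).1
      omega
  · intro y hy y' hy' hyy'
    obtain ⟨hyV, -⟩ := hy
    obtain ⟨hy'V, -⟩ := hy'
    have h1 : φ y = (hV.primeIdealOf ⟨y, hyV⟩).asIdeal := dif_pos hyV
    have h2 : φ y' = (hV.primeIdealOf ⟨y', hy'V⟩).asIdeal := dif_pos hy'V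
    rw [h1, h2] at hyy'
    exact primeIdealOf_injective hV y y' hyV hy'V (PrimeSpectrum.ext hyy')

theorem length_quot_sup_span_unit {R : Type*} [CommRing R] (I : Ideal R) (c : R) (hc : IsUnit c) :
    Module.length R (R ⧸ (I ⊔ Ideal.span {c})) = 0 := by
  have : I ⊔ Ideal.span {c} = ⊤ := by
    rw [Ideal.span_singleton_eq_top.mpr hc, sup_top_eq]
  rw [this]
  haveI : Subsingleton (R ⧸ (⊤ : Ideal R)) := Ideal.Quotient.subsingleton_iff.mpr rfl
  exact Module.length_eq_zero

theorem divFun_support_locallyFinite [IsLocallyNoetherian X] (δ : X → ℤ)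
    (hδ : Cyc.IsDimFun X δ) (ξ : X) (f : X.residueField ξ) (hf : f ≠ 0) (x : X) :
    ∃ V : X.Opens, x ∈ V ∧ ((V : Set X) ∩ Function.support (Cyc.divFun δ ξ f)).Finite := by
  classical
  by_cases h : ξ ⤳ x
  · obtain ⟨a, b, hb, hfeq⟩ := exists_frac x ξ h f
    have ha : Cyc.specMap x ξ h a ≠ 0 := by
      intro h0
      apply hf
      rw [hfeq, ← specMap_eq, h0, zero_div]
    obtain ⟨V₁, hxV₁, a₁, ha₁⟩ := X.presheaf.exists_germ_eq a
    obtain ⟨V₂, hxV₂, b₂, hb₂⟩ := X.presheaf.exists_germ_eq b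
    obtain ⟨V, hV, hxV, hVle⟩ :=
      exists_isAffineOpen_mem_and_subset (U := V₁ ⊓ V₂) (x := x) ⟨hxV₁, hxV₂⟩
    set a' : Γ(X, V) := X.presheaf.map (homOfLE (le_trans hVle inf_le_left)).op a₁ with ha'def
    set b' : Γ(X, V) := X.presheaf.map (homOfLE (le_trans hVle inf_le_right)).op b₂ with hb'def
    have ha' : X.presheaf.germ V x hxV a' = a := by
      rw [← ha₁, ha'def]
      exact X.presheaf.germ_res_apply _ _ _ _
    have hb' : X.presheaf.germ V x hxV b' = b := by
      rw [← hb₂, hb'def]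
      exact X.presheaf.germ_res_apply _ _ _ _
    have hξV : ξ ∈ V := h.mem_open V.2 hxV
    have key : ∀ (c : Γ(X, V)) (y : X) (hyV : y ∈ V) (hy : ξ ⤳ y),
        Cyc.specMap y ξ hy (X.presheaf.germ V y hyV c) =
          X.residue ξ (X.presheaf.germ V ξ hξV c) := by
      intro c y hyV hy
      rw [specMap_eq]
      congr 1
      rw [← ConcreteCategory.comp_apply, X.presheaf.germ_stalkSpecializes]
    have hunit : ∀ c : Γ(X, V), X.residue ξ (X.presheaf.germ V ξ hξV c) ≠ 0 →
        ξ ∈ X.basicOpen c := by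
      intro c hc
      rw [Scheme.mem_basicOpen _ _ _ hξV]
      by_contra hnu
      apply hc
      exact (IsLocalRing.residue_eq_zero_iff _).mpr hnu
    have hcA : ξ ∈ X.basicOpen a' := by
      apply hunit
      rw [← key a' x hxV h, ha']
      exact ha
    have hcB : ξ ∈ X.basicOpen b' := by
      apply hunit
      rw [← key b' x hxV h, hb']
      exact hb
    refine ⟨V, hxV, ?_⟩
    apply ((finite_codim_one_zeros δ hδ ξ hV a' hcA).union
      (finite_codim_one_zeros δ hδ ξ hV b' hcB)).subset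
    rintro y ⟨hyV, hy⟩
    rw [Function.mem_support] at hy
    unfold Cyc.divFun at hy
    by_cases hcond : ξ ⤳ y ∧ δ y + 1 = δ ξ
    · rw [dif_pos hcond] at hy
      by_contra hcon
      have hya : y ∈ X.basicOpen a' := by
        by_contra h1
        exact hcon (Or.inl ⟨hyV, hcond.1, hcond.2, h1⟩)
      have hyb : y ∈ X.basicOpen b' := by
        by_contra h1
        exact hcon (Or.inr ⟨hyV, hcond.1, hcond.2, h1⟩)
      rw [Scheme.mem_basicOpen _ _ _ hyV] at hya hyb
      apply hy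
      have e : f = X.residue ξ (X.presheaf.stalkSpecializes hcond.1 (X.presheaf.germ V y hyV a')) /
          X.residue ξ (X.presheaf.stalkSpecializes hcond.1 (X.presheaf.germ V y hyV b')) := by
        rw [hfeq, ← specMap_eq, ← specMap_eq, ← specMap_eq, ← specMap_eq,
          key a' y hyV hcond.1, key b' y hyV hcond.1, ← ha', ← hb', key a' x hxV h,
          key b' x hxV h]
      have h1 : Cyc.specMap y ξ hcond.1 (X.presheaf.germ V y hyV a') ≠ 0 := by
        rw [key a' y hyV hcond.1, ← key a' x hxV h, ha']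
        exact ha
      have h2 : Cyc.specMap y ξ hcond.1 (X.presheaf.germ V y hyV b') ≠ 0 := by
        rw [key b' y hyV hcond.1, ← key b' x hxV h, hb']
        exact hb
      rw [e, ordAt_div_eq δ hδ y ξ hcond.1 (by omega) _ _ h1 h2,
        length_quot_sup_span_unit _ _ hya, length_quot_sup_span_unit _ _ hyb]
      simp
    · rw [dif_neg hcond] at hy
      exact absurd rfl hy
  · refine ⟨⟨(closure {ξ})ᶜ, isClosed_closure.isOpen_compl⟩, ?_, ?_⟩
    · exact fun hx => h (specializes_iff_mem_closure.mpr hx)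
    · convert Set.finite_empty
      ext y
      simp only [Set.mem_inter_iff, Function.mem_support, Set.mem_empty_iff_false, iff_false,
        not_and, not_not]
      intro hy
      unfold Cyc.divFun
      rw [dif_neg]
      rintro ⟨h1, -⟩
      exact hy (specializes_iff_mem_closure.mp h1)

/-- A locally finite family of principal divisors sums to an algebraic cycle. -/
theorem exists_cycle_of_locallyFinite [IsLocallyNoetherian X] (δ : X → ℤ)
    (hδ : Cyc.IsDimFun X δ) {ι : Type*} (ξ : ι → X) (f : (i : ι) → X.residueField (ξ i))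
    (hf : ∀ i, f i ≠ 0)
    (hlf : ∀ x : X, ∃ U : Set X, IsOpen U ∧ x ∈ U ∧ {i | (closure {ξ i} ∩ U).Nonempty}.Finite) :
    ∃ D : AlgebraicCycle X ℤ, ∀ x, D x = ∑ᶠ i, Cyc.divFun δ (ξ i) (f i) x := by
  classical
  refine ⟨⟨fun x => ∑ᶠ i, Cyc.divFun δ (ξ i) (f i) x, fun _ _ => trivial, ?_⟩, fun x => rfl⟩
  intro z _
  obtain ⟨U, hUo, hzU, hJ⟩ := hlf z
  choose V hzV hVfin using fun i => divFun_support_locallyFinite δ hδ (ξ i) (f i) (hf i) z
  refine ⟨U ∩ ⋂ i ∈ {i | (closure {ξ i} ∩ U).Nonempty}, (V i : Set X), ?_, ?_⟩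
  · apply Filter.inter_mem (hUo.mem_nhds hzU)
    rw [Filter.biInter_mem hJ]
    intro i _
    exact (V i).2.mem_nhds (hzV i)
  · apply (hJ.biUnion (fun i _ => hVfin i)).subset
    rintro y ⟨⟨hyU, hyV⟩, hy⟩
    rw [Function.mem_support] at hy
    have : ∃ i, Cyc.divFun δ (ξ i) (f i) y ≠ 0 := by
      by_contra hcon
      push Not at hcon
      exact hy (finsum_eq_zero_of_forall_eq_zero hcon)
    obtain ⟨i, hi⟩ := this
    have hsp : ξ i ⤳ y := by
      by_contra hns
      apply hi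
      unfold Cyc.divFun
      rw [dif_neg]
      exact fun hc => hns hc.1
    have hiJ : i ∈ {i | (closure {ξ i} ∩ U).Nonempty} :=
      ⟨y, specializes_iff_mem_closure.mp hsp, hyU⟩
    rw [Set.mem_iUnion₂]
    refine ⟨i, hiJ, ?_, hi⟩
    rw [Set.mem_iInter₂] at hyV
    exact hyV i hiJ

/-- A family of points of an open subscheme `U` of a locally Noetherian scheme whose closures are
locally finite in `U` has locally finite closures in `X`. -/
theorem locallyFinite_of_open [IsLocallyNoetherian X] (U : X.Opens) {ι : Type*}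
    (ξ : ι → U.toScheme)
    (hlf : ∀ u : U.toScheme, ∃ W : Set U.toScheme, IsOpen W ∧ u ∈ W ∧
      {i | (closure {ξ i} ∩ W).Nonempty}.Finite) (x : X) :
    ∃ W' : Set X, IsOpen W' ∧ x ∈ W' ∧ {i | (closure {U.ι (ξ i)} ∩ W').Nonempty}.Finite := by
  obtain ⟨V, hV, hxV, -⟩ := exists_isAffineOpen_mem_and_subset (U := ⊤) (x := x) trivial
  haveI : IsNoetherianRing Γ(X, V) := IsLocallyNoetherian.component_noetherian ⟨V, hV⟩
  have hNS := noetherianSpace_of_isAffineOpen V hV
  refine ⟨V, V.2, hxV, ?_⟩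
  let K : Set U.toScheme := U.ι ⁻¹' (V : Set X)
  have hK : IsCompact K := by
    rw [U.ι.isOpenEmbedding.isInducing.isCompact_iff]
    have : U.ι '' K = Subtype.val '' {v : V | v.1 ∈ U} := by
      ext y
      constructor
      · rintro ⟨k, hk, rfl⟩
        exact ⟨⟨U.ι k, hk⟩, k.2, rfl⟩
      · rintro ⟨v, hv, rfl⟩
        exact ⟨⟨v.1, hv⟩, v.2, rfl⟩
    rw [this]
    exact (@NoetherianSpace.isCompact _ _ hNS _).image continuous_subtype_val
  choose W hWo huW hWfin using hlf
  obtain ⟨t, ht⟩ := hK.elim_nhds_subcover' (fun u _ => W u)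
    (fun u _ => (hWo u).mem_nhds (huW u))
  apply (t.finite_toSet.biUnion (fun p _ => hWfin p.1)).subset
  rintro i ⟨y, hy1, hy2⟩
  have hξV : U.ι (ξ i) ∈ V := (specializes_iff_mem_closure.mpr hy1).mem_open V.2 hy2
  have hξK : ξ i ∈ K := hξV
  obtain ⟨p, hp, hpW⟩ := Set.mem_iUnion₂.mp (ht hξK)
  rw [Set.mem_iUnion₂]
  exact ⟨p, hp, ⟨ξ i, subset_closure rfl, hpW⟩⟩

end Groth.Agent.R2.H9.DivLF
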