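import Mathlib
import Groth.Prelude
import Groth.Agent.S0603
import Groth.Agent.Lib.Helper28Unmixed
import Groth.Agent.Lib.Helper4DimFormulaP
import Groth.Agent.Lib.Helper4DimFormulaQ

/-!
# The spectrum of a field as a base for cycles (helper9)

* `isSetup_spec_field`: `Spec k` with `δ = 0` satisfies `Cyc.IsSetup`.
* `isDimFun_of_field`: for `X` locally of finite type over a field with `δ` induced from `Spec k`,
  `δ` is a dimension function.
-/

set_option autoImplicit false
set_option linter.style.haveILetI false

universe u

open CategoryTheory AlgebraicGeometry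

namespace Groth.Agent.R2.H9.FieldSetup

theorem isUniversallyCatenary_field (K : Type u) [Field K] : CAlg.IsUniversallyCatenary K := by
  haveI := Groth.Agent.Lib.Helper28.isCohenMacaulayRing_of_field K
  exact Groth.Agent.S0603.result K

theorem isSetup_spec_field (k : Type u) [Field k] :
    Cyc.IsSetup (Spec (CommRingCat.of k)) (fun _ => 0) := by
  refine ⟨inferInstance, ?_, ?_⟩
  · intro x
    have e1 : (Spec (CommRingCat.of k)).presheaf.stalk x ≃+* Localization.AtPrime x.asIdeal :=
      (Spec.stalkIso (CommRingCat.of k) x).commRingCatIsoToRingEquiv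
    have hu : ∀ m ∈ x.asIdeal.primeCompl, IsUnit m := by
      intro m hm
      apply IsUnit.mk0
      rintro rfl
      exact hm (Ideal.zero_mem _)
    have e2 : k ≃+* Localization.AtPrime x.asIdeal :=
      (IsLocalization.atUnits k x.asIdeal.primeCompl hu (S := Localization.AtPrime x.asIdeal)).toRingEquiv
    exact Groth.Agent.Lib.Helper4.DimFormula.isUniversallyCatenary_of_ringEquiv
      (e2.trans e1.symm) (isUniversallyCatenary_field k)
  · intro x y _ hne
    exact absurd (Subsingleton.elim x y) hne

theorem isDimFun_of_field (k : Type u) [Field k] {X : Scheme.{u}}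
    (f : X ⟶ Spec (CommRingCat.of k)) [LocallyOfFiniteType f] (δ : X → ℤ)
    (hδ : Cyc.DeltaCompat f δ (fun _ => 0)) : Cyc.IsDimFun X δ :=
  Groth.Agent.Lib.Helper4.DimFormula.isDimFun_of_deltaCompat f (fun _ => 0)
    (isSetup_spec_field k) δ hδ

theorem isLocallyNoetherian_of_field (k : Type u) [Field k] {X : Scheme.{u}}
    (f : X ⟶ Spec (CommRingCat.of k)) [LocallyOfFiniteType f] : IsLocallyNoetherian X :=
  LocallyOfFiniteType.isLocallyNoetherian f

end Groth.Agent.R2.H9.FieldSetup
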