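import Mathlib
import Groth.Prelude
import Groth.Agent.R2.H9FieldSetup
import Groth.Agent.S9126

/-!
# Schemes locally of finite type over a field satisfy `Cyc.IsSetup` (helper9)
-/

set_option autoImplicit false
set_option linter.style.haveILetI false

universe u

open AlgebraicGeometry CategoryTheory Limits

namespace Groth.Agent.R2.H9.ExtProd

open Groth.Agent.R2.H9.FieldSetup

theorem isUniversallyCatenary_stalk_of_field (k : Type u) [Field k] {X : Scheme.{u}}
    (f : X ⟶ Spec (CommRingCat.of k)) [LocallyOfFiniteType f] (x : X) :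
    CAlg.IsUniversallyCatenary (X.presheaf.stalk x) := by
  obtain ⟨_, ⟨U, hU, rfl⟩, hxU, -⟩ :=
    X.isBasis_affineOpens.exists_subset_of_mem_open (Set.mem_univ x) isOpen_univ
  have hV : IsAffineOpen (⊤ : (Spec (CommRingCat.of k)).Opens) := isAffineOpen_top _
  have e : U ≤ f ⁻¹ᵁ ⊤ := le_top
  have hft : (f.appLE ⊤ U e).hom.FiniteType := f.finiteType_appLE hV hU e
  have h0 : CAlg.IsUniversallyCatenary Γ(Spec (CommRingCat.of k), ⊤) :=
    Groth.Agent.Lib.Helper4.DimFormula.isUniversallyCatenary_of_ringEquiv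
      (Scheme.ΓSpecIso (CommRingCat.of k)).symm.commRingCatIsoToRingEquiv
      (isUniversallyCatenary_field k)
  letI : Algebra Γ(Spec (CommRingCat.of k), ⊤) Γ(X, U) := (f.appLE ⊤ U e).hom.toAlgebra
  haveI : Algebra.FiniteType Γ(Spec (CommRingCat.of k), ⊤) Γ(X, U) := hft
  have h1 : CAlg.IsUniversallyCatenary Γ(X, U) := Groth.Agent.S9126.result _ _ h0
  letI := TopCat.Presheaf.algebra_section_stalk X.presheaf ⟨x, hxU⟩
  haveI := hU.isLocalization_stalk ⟨x, hxU⟩
  haveI : Algebra.EssFiniteType Γ(X, U) (X.presheaf.stalk x) :=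
    Algebra.EssFiniteType.of_isLocalization _ (hU.primeIdealOf ⟨x, hxU⟩).asIdeal.primeCompl
  exact Groth.Agent.S9126.result _ _ h1

theorem isSetup_of_field (k : Type u) [Field k] {X : Scheme.{u}}
    (f : X ⟶ Spec (CommRingCat.of k)) [LocallyOfFiniteType f] (δ : X → ℤ)
    (hδ : Cyc.DeltaCompat f δ (fun _ => 0)) : Cyc.IsSetup X δ :=
  ⟨isLocallyNoetherian_of_field k f, isUniversallyCatenary_stalk_of_field k f,
    isDimFun_of_field k f δ hδ⟩

end Groth.Agent.R2.H9.ExtProd
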