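import Mathlib
import Groth.Prelude
import Groth.Agent.R2.H9ExtProdA
import Groth.Agent.R2.H9ExtProdB
import Groth.Agent.R2.H9PerfBCA
import Groth.Agent.Lib.Helper3LocDimBC
import Groth.Agent.Lib.Helper4VarDim5
import Groth.Agent.Lib.Helper4VarDim10
import Groth.Agent.Lib.Helper28FlatNormal

/-!
# Dimension of points of a product of schemes over a field (helper9)

`delta_le_add`: for `P = X ×_K Y` and `z ∈ P`, `trdeg_K κ(z) ≤ trdeg_K κ(pr₁ z) + trdeg_K κ(pr₂ z)`
(in terms of dimension functions induced from `Spec K`).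
-/

set_option autoImplicit false
set_option linter.style.haveILetI false

universe u

open AlgebraicGeometry CategoryTheory Limits IsLocalRing

namespace Groth.Agent.R2.H9.ExtProd

open Groth.Agent.Lib.Helper4.VarDim Groth.Agent.Lib.Helper3.LocDimBC Groth.Agent.R2.H9.PerfBC
open Groth.Agent.R2.H9.FieldSetup

attribute [local instance] Curv2.resAlgebra

/-- the transcendence degree does not change along a surjective first step. -/
theorem trdeg_comp_of_surjective {K K' L : Type u} [Field K] [Field K'] [Field L] (e : K →+* K')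
    (he : Function.Surjective e) (φ : K' →+* L) :
    @Algebra.trdeg K L _ _ (φ.comp e).toAlgebra = @Algebra.trdeg K' L _ _ φ.toAlgebra := by
  letI := e.toAlgebra
  letI := φ.toAlgebra
  letI := (φ.comp e).toAlgebra
  haveI : IsScalarTower K K' L := IsScalarTower.of_algebraMap_eq (fun _ => rfl)
  haveI : Algebra.IsIntegral K K' := Algebra.isIntegral_of_surjective he
  haveI : Algebra.IsAlgebraic K K' := Algebra.IsIntegral.isAlgebraic
  have h1 := _root_.trdeg_add_eq K K' (A := L)
  have h2 : Algebra.trdeg K K' = 0 := trdeg_eq_zero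
  rw [h2, zero_add] at h1
  exact h1.symm

/-- for a scheme over a field `K`, the transcendence degree of `κ(x)` over the residue field of
`Spec K` is its transcendence degree over `K`. -/
theorem trdeg_residueFieldMap_eq_of_field (K : Type u) [Field K] {X : Scheme.{u}}
    (f : X ⟶ Spec (CommRingCat.of K)) (x : X) :
    letI : X.Over (Spec (CommRingCat.of K)) := ⟨f⟩
    @Algebra.trdeg ((Spec (CommRingCat.of K)).residueField (f x)) (X.residueField x) _ _
      (f.residueFieldMap x).hom.toAlgebra = Algebra.trdeg K (X.residueField x) := by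
  letI : X.Over (Spec (CommRingCat.of K)) := ⟨f⟩
  let S := Spec (CommRingCat.of K)
  let e : K →+* S.residueField (f x) :=
    (S.residue (f x)).hom.comp ((S.presheaf.germ ⊤ (f x) trivial).hom.comp
      (Scheme.ΓSpecIso (CommRingCat.of K)).inv.hom)
  have he : Function.Surjective e := by
    intro t
    obtain ⟨a, b, hb, hab⟩ := exists_evaluation_div (isAffineOpen_top S) (f x) trivial t
    let a' : K := (Scheme.ΓSpecIso (CommRingCat.of K)).hom.hom a
    let b' : K := (Scheme.ΓSpecIso (CommRingCat.of K)).hom.hom b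
    have hinv : ∀ c : Γ(S, ⊤), (Scheme.ΓSpecIso (CommRingCat.of K)).inv.hom
        ((Scheme.ΓSpecIso (CommRingCat.of K)).hom.hom c) = c := fun c => by
      change ((Scheme.ΓSpecIso (CommRingCat.of K)).hom ≫
        (Scheme.ΓSpecIso (CommRingCat.of K)).inv).hom c = c
      rw [Iso.hom_inv_id]
      rfl
    have hea : e a' = (S.evaluation ⊤ (f x) trivial).hom a := by
      change (S.residue (f x)).hom ((S.presheaf.germ ⊤ (f x) trivial).hom _) = _
      rw [hinv]
      rfl
    have heb : e b' = (S.evaluation ⊤ (f x) trivial).hom b := by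
      change (S.residue (f x)).hom ((S.presheaf.germ ⊤ (f x) trivial).hom _) = _
      rw [hinv]
      rfl
    refine ⟨a' * b'⁻¹, ?_⟩
    have hb' : e b' ≠ 0 := by rw [heb]; exact hb
    rw [map_mul, map_inv₀, hea, heb, ← hab, mul_assoc, mul_inv_cancel₀ hb, mul_one]
  have hcomp : Curv2.resMap K X x = (f.residueFieldMap x).hom.comp e := by
    ext c
    change (X.residue x).hom ((X.presheaf.germ ⊤ x trivial).hom ((f.appTop).hom
      ((Scheme.ΓSpecIso (CommRingCat.of K)).inv.hom c))) =
      (f.residueFieldMap x).hom ((S.residue (f x)).hom ((S.presheaf.germ ⊤ (f x) trivial).hom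
        ((Scheme.ΓSpecIso (CommRingCat.of K)).inv.hom c)))
    have h1 := congrArg (fun φ : S.presheaf.stalk (f x) ⟶ X.residueField x => φ.hom
      ((S.presheaf.germ ⊤ (f x) trivial).hom ((Scheme.ΓSpecIso (CommRingCat.of K)).inv.hom c)))
      (Scheme.residue_residueFieldMap f x)
    refine Eq.trans ?_ h1.symm
    change _ = (X.residue x).hom ((f.stalkMap x).hom ((S.presheaf.germ ⊤ (f x) trivial).hom _))
    congr 1
    exact (Scheme.Hom.germ_stalkMap_apply f ⊤ x trivial _).symm
  have h2 := trdeg_comp_of_surjective e he (f.residueFieldMap x).hom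
  rw [← h2]
  change _ = @Algebra.trdeg K (X.residueField x) _ _ (Curv2.resMap K X x).toAlgebra
  rw [hcomp]

theorem isSetup_spec_field_const (k : Type u) [Field k] (c : ℤ) :
    Cyc.IsSetup (Spec (CommRingCat.of k)) (fun _ => c) :=
  ⟨(isSetup_spec_field k).1, (isSetup_spec_field k).2.1,
    fun x y _ hne => absurd (Subsingleton.elim x y) hne⟩

theorem isSetup_of_field_const (k : Type u) [Field k] {X : Scheme.{u}}
    (f : X ⟶ Spec (CommRingCat.of k)) [LocallyOfFiniteType f] (δ : X → ℤ) (c : ℤ)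
    (hδ : Cyc.DeltaCompat f δ (fun _ => c)) : Cyc.IsSetup X δ :=
  ⟨isLocallyNoetherian_of_field k f, isUniversallyCatenary_stalk_of_field k f,
    Groth.Agent.Lib.Helper4.DimFormula.isDimFun_of_deltaCompat f (fun _ => c)
      (isSetup_spec_field_const k c) δ hδ⟩

theorem trdeg_congr_hom {X S : Scheme.{u}} (h h' : X ⟶ S) (e : h = h') (x : X) :
    @Algebra.trdeg (S.residueField (h x)) (X.residueField x) _ _
        (h.residueFieldMap x).hom.toAlgebra =
      @Algebra.trdeg (S.residueField (h' x)) (X.residueField x) _ _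
        (h'.residueFieldMap x).hom.toAlgebra := by
  subst e
  rfl

theorem deltaCompat_congr_hom {X S : Scheme.{u}} (h h' : X ⟶ S) (e : h = h') (δ : X → ℤ)
    (δS : S → ℤ) (hd : Cyc.DeltaCompat h δ δS) : Cyc.DeltaCompat h' δ δS := by
  subst e
  exact hd

section Square

variable {P X Y : Scheme.{u}} (K : Type u) [Field K] {f : X ⟶ Spec (CommRingCat.of K)}
  {g : Y ⟶ Spec (CommRingCat.of K)} {a : P ⟶ X} {b : P ⟶ Y}

/-- the dimension function of the product, restricted to the fibre over `y`, is induced from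
`Spec κ(y)` with the constant `δY y`. -/
theorem deltaCompat_fiber (hP : IsPullback a b f g) (δY : Y → ℤ) (δ : P → ℤ)
    (hY : Cyc.DeltaCompat g δY (fun _ => 0)) (hXY : Cyc.DeltaCompat (a ≫ f) δ (fun _ => 0))
    (y : Y) :
    Cyc.DeltaCompat (b.fiberToSpecResidueField y) (fun z' => δ (b.fiberι y z'))
      (fun _ => δY y) := by
  intro z'
  obtain ⟨n₁, hn₁, hd₁⟩ := hXY (b.fiberι y z')
  obtain ⟨n₂, hn₂, hd₂⟩ := hY (b (b.fiberι y z'))
  have e1 := trdeg_comp b g (b.fiberι y z')
  rw [← trdeg_congr_hom _ _ hP.w (b.fiberι y z')] at e1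
  have e2 := trdeg_fiber b y z'
  have e3 := trdeg_residueFieldMap_eq_of_field (Y.residueField y)
    (b.fiberToSpecResidueField y) z'
  set c := @Algebra.trdeg (Y.residueField (b (b.fiberι y z'))) (P.residueField (b.fiberι y z')) _ _
    (b.residueFieldMap (b.fiberι y z')).hom.toAlgebra with hc
  have e1' : (n₂ : Cardinal.{u}) + c = n₁ := by
    rw [← hn₁, ← hn₂]
    exact e1
  have hclt : c < Cardinal.aleph0 :=
    lt_of_le_of_lt (le_add_self.trans_eq e1') (Cardinal.natCast_lt_aleph0)
  obtain ⟨n, hn⟩ := Cardinal.lt_aleph0.mp hclt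
  rw [hn] at e1'
  have h12 : n₂ + n = n₁ := by exact_mod_cast e1'
  refine ⟨n, ?_, ?_⟩
  · rw [← hn]
    exact e3.trans e2.symm
  · have h3 : δY y = n₂ := by
      rw [← fiberι_mem' b y z']
      simpa using hd₂
    show δ (b.fiberι y z') = δY y + n
    rw [hd₁, h3]
    push_cast [← h12]
    ring

/-- dimension bound on the fibre: `δ(z) ≤ δX(pr₁ z) + δY(y)` for `z` in the fibre over `y`. -/
theorem delta_fiber_le (hP : IsPullback a b f g) [LocallyOfFiniteType f] (δX : X → ℤ)
    (δY : Y → ℤ) (δ : P → ℤ) (hX : Cyc.DeltaCompat f δX (fun _ => 0))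
    (hY : Cyc.DeltaCompat g δY (fun _ => 0)) (hXY : Cyc.DeltaCompat (a ≫ f) δ (fun _ => 0))
    (y : Y) (z' : b.fiber y) :
    δ (b.fiberι y z') ≤ δX (a (b.fiberι y z')) + δY y := by
  obtain ⟨n, hn, hd⟩ := deltaCompat_fiber K hP δY δ hY hXY y z'
  obtain ⟨A, hA, hdA⟩ := hX (a (b.fiberι y z'))
  letI oX : X.Over (Spec (CommRingCat.of K)) := ⟨f⟩
  letI oF : (b.fiber y).Over (Spec (CommRingCat.of (Y.residueField y))) :=
    ⟨b.fiberToSpecResidueField y⟩
  haveI : LocallyOfFiniteType (X ↘ Spec (CommRingCat.of K)) :=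
    inferInstanceAs (LocallyOfFiniteType f)
  haveI hF' : LocallyOfFiniteType (b.fiberToSpecResidueField y) :=
    locallyOfFiniteType_fiberToSpecResidueField hP y
  haveI hF : LocallyOfFiniteType ((b.fiber y) ↘ Spec (CommRingCat.of (Y.residueField y))) := hF'
  have hA' : Algebra.trdeg K (X.residueField (a (b.fiberι y z'))) = A := by
    exact (trdeg_residueFieldMap_eq_of_field K f _).symm.trans hA
  have hn' : Algebra.trdeg (Y.residueField y) ((b.fiber y).residueField z') = n := by
    exact (trdeg_residueFieldMap_eq_of_field _ (b.fiberToSpecResidueField y) z').symm.trans hn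
  haveI : IsLocallyNoetherian X := LocallyOfFiniteType.isLocallyNoetherian f
  haveI : IsLocallyNoetherian (b.fiber y) :=
    LocallyOfFiniteType.isLocallyNoetherian (b.fiberToSpecResidueField y)
  obtain ⟨B, hB⟩ := exists_ringKrullDim_stalk_eq K X (a (b.fiberι y z'))
  obtain ⟨B', hB'⟩ := exists_ringKrullDim_stalk_eq (Y.residueField y) (b.fiber y) z'
  have h1 := localDim_eq_add K X _ A B hA' hB
  have h2 := localDim_eq_add (Y.residueField y) (b.fiber y) z' n B' hn' hB'
  have h3 := localDim_eq_of_isPullback_onePoint f (b.fiberToSpecResidueField y)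
    (b.fiberι y ≫ a) (Y.fromSpecResidueField y ≫ g) (isPullback_fiber hP y) z'
  have h4 : n + B' = A + B := by
    have : ((n + B' : ℕ) : WithBot ℕ∞) = ((A + B : ℕ) : WithBot ℕ∞) := by
      rw [← h1, ← h2]
      exact h3
    exact_mod_cast this
  haveI : Flat (b.fiberι y ≫ a) := flat_fiberι_comp hP y
  have hflat : ((b.fiberι y ≫ a).stalkMap z').hom.Flat := Flat.stalkMap (b.fiberι y ≫ a) z'
  letI : Algebra (X.presheaf.stalk ((b.fiberι y ≫ a) z')) ((b.fiber y).presheaf.stalk z') :=
    ((b.fiberι y ≫ a).stalkMap z').hom.toAlgebra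
  haveI : IsLocalHom (algebraMap (X.presheaf.stalk ((b.fiberι y ≫ a) z'))
      ((b.fiber y).presheaf.stalk z')) :=
    inferInstanceAs (IsLocalHom ((b.fiberι y ≫ a).stalkMap z').hom)
  haveI : Module.Flat (X.presheaf.stalk ((b.fiberι y ≫ a) z'))
      ((b.fiber y).presheaf.stalk z') := hflat
  have h5 := Groth.Agent.Lib.Helper28.ringKrullDim_eq_add_of_flat
    (R := X.presheaf.stalk ((b.fiberι y ≫ a) z')) (S := (b.fiber y).presheaf.stalk z')
    (Ideal.map ((b.fiberι y ≫ a).stalkMap z').hom
      (IsLocalRing.maximalIdeal ↥(X.presheaf.stalk ((b.fiberι y ≫ a) z')))) rfl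
  have hB2 : ringKrullDim (X.presheaf.stalk ((b.fiberι y ≫ a) z')) = B := hB
  rw [hB', hB2] at h5
  have hBB : B ≤ B' := by
    set c := ringKrullDim (↥((b.fiber y).presheaf.stalk z') ⧸
      Ideal.map ((b.fiberι y ≫ a).stalkMap z').hom
        (IsLocalRing.maximalIdeal ↥(X.presheaf.stalk ((b.fiberι y ≫ a) z')))) with hc
    have hcbot : c ≠ ⊥ := by
      intro h0
      rw [h0, WithBot.bot_add] at h5
      exact WithBot.coe_ne_bot h5
    obtain ⟨c₁, hc₁⟩ := WithBot.ne_bot_iff_exists.mp hcbot
    have h6 : ((B' : ℕ∞) : WithBot ℕ∞) = ((c₁ + (B : ℕ∞) : ℕ∞) : WithBot ℕ∞) := by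
      rw [WithBot.coe_add, hc₁]
      exact h5
    have h7 : (B' : ℕ∞) = c₁ + (B : ℕ∞) := WithBot.coe_injective h6
    have h8 : (B : ℕ∞) ≤ (B' : ℕ∞) := by
      rw [h7]
      exact le_add_self
    exact_mod_cast h8
  have hnA : n ≤ A := by omega
  have hd' : δ (b.fiberι y z') = δY y + n := hd
  rw [hd', hdA]
  have : (n : ℤ) ≤ A := by exact_mod_cast hnA
  simp only [zero_add]
  omega

end Square

end Groth.Agent.R2.H9.ExtProd
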