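import Mathlib
import Groth.Prelude.Def_Cyc
import Groth.Agent.R2.H9StalkGen

/-!
# Local rings of dimension at most one from a dimension function (helper9)

If `δ` is a dimension function on `X` and all generizations `z` of `y` have `δ z ≤ δ y + 1`, then
`O_{X,y}` has Krull dimension at most one, and every proper generization has `δ = δ y + 1`.
-/

set_option autoImplicit false
set_option linter.style.haveILetI false

universe u

open AlgebraicGeometry CategoryTheory IsLocalRing

namespace Groth.Agent.R2.H9.GenDim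

open Groth.Agent.R2.H9.StalkGen

variable {X : Scheme.{u}}

theorem delta_eq_of_generization (δ : X → ℤ) (hδ : Cyc.IsDimFun X δ) (y : X)
    (hdim : ∀ z : X, z ⤳ y → δ z ≤ δ y + 1) (ξ : X) (h : ξ ⤳ y) (hne : ξ ≠ y) :
    δ ξ = δ y + 1 := by
  have h1 := (hδ ξ y h hne).1
  have h2 := hdim ξ h
  omega

theorem krullDimLE_one_stalk (δ : X → ℤ) (hδ : Cyc.IsDimFun X δ) (y : X)
    (hdim : ∀ z : X, z ⤳ y → δ z ≤ δ y + 1) : Ring.KrullDimLE 1 (X.presheaf.stalk y) := by
  refine Ring.KrullDimLE.mk₁ fun I hI => ?_
  set P : PrimeSpectrum (X.presheaf.stalk y) := ⟨I, hI⟩ with hP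
  by_cases hPy : X.fromSpecStalk y P = y
  · right
    have h1 := (fromSpecStalk_eq_self_iff y P).mp hPy
    have h2 : I = maximalIdeal (X.presheaf.stalk y) := congrArg PrimeSpectrum.asIdeal h1
    rw [h2]
    infer_instance
  · left
    rw [minimalPrimes_eq_minimals]
    refine ⟨hI, fun J hJ hJI => ?_⟩
    set Q : PrimeSpectrum (X.presheaf.stalk y) := ⟨J, hJ⟩ with hQ
    have hQP : X.fromSpecStalk y Q ⤳ X.fromSpecStalk y P := fromSpecStalk_mono y hJI
    have hξ := delta_eq_of_generization δ hδ y hdim _ (fromSpecStalk_specializes y P) hPy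
    have hζ := hdim _ (fromSpecStalk_specializes y Q)
    by_cases heq : X.fromSpecStalk y Q = X.fromSpecStalk y P
    · have h1 : Q = P := fromSpecStalk_injective y heq
      have h2 : J = I := congrArg PrimeSpectrum.asIdeal h1
      exact h2.ge
    · have h1 := (hδ _ _ hQP heq).1
      omega

end Groth.Agent.R2.H9.GenDim
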