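import Mathlib
import Groth.Prelude.Def_Cyc
import Groth.Agent.R2.H9OrdDiv
import Groth.Agent.R2.H9StalkGen
import Groth.Agent.R2.H9GenDim
import Groth.Agent.R2.H9DimOneLen

/-!
# Summing orders over the generic points through a point (helper9)

* `ker_specMap_genericPoint` : on an integral scheme the prime of the generic point in `O_{X,x}` is `0`.
* `residueFieldCongr_residue_specializes` : transport of residues along an equality of points.
* `finsum_generizations_eq` : if `O_{X,x}` has dimension `≤ 1` (in terms of a dimension function) and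
  `u, v` are nonzerodivisors of `O_{X,x}`, then
  `∑_ξ ℓ(O_ξ) (ℓ(O_x/(𝔭_ξ + u)) − ℓ(O_x/(𝔭_ξ + v))) = ℓ(O_x/u) − ℓ(O_x/v)`,
  the sum over the proper generizations `ξ` of `x`.
-/

set_option autoImplicit false
set_option linter.style.haveILetI false

universe u

open AlgebraicGeometry CategoryTheory IsLocalRing

namespace Groth.Agent.R2.H9.PullDiv

open Groth.Agent.R2.H9.LocQuot Groth.Agent.R2.H9.OrdDiv Groth.Agent.R2.H9.StalkGen
  Groth.Agent.R2.H9.GenDim Groth.Agent.R2.H9.DimOneLen

variable {X : Scheme.{u}}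

theorem ker_specMap_genericPoint [IsIntegral X] (x : X) (h : genericPoint X ⤳ x) :
    RingHom.ker (Cyc.specMap x (genericPoint X) h) = ⊥ := by
  have hmax : IsLocalRing.maximalIdeal (X.presheaf.stalk (genericPoint X)) = ⊥ :=
    IsLocalRing.maximalIdeal_eq_bot
  rw [eq_bot_iff]
  intro c hc
  rw [RingHom.mem_ker] at hc
  have h1 : X.presheaf.stalkSpecializes h c ∈
      IsLocalRing.maximalIdeal (X.presheaf.stalk (genericPoint X)) :=
    (IsLocalRing.residue_eq_zero_iff _).mp hc
  rw [hmax, Ideal.mem_bot] at h1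
  rw [Ideal.mem_bot]
  exact (IsFractionRing.injective (X.presheaf.stalk x) X.functionField) (by
    rw [map_zero]
    exact h1)

theorem residueFieldCongr_residue_specializes (y ζ ζ' : X) (e : ζ = ζ') (h : ζ ⤳ y)
    (h' : ζ' ⤳ y) (c : X.presheaf.stalk y) :
    (X.residueFieldCongr e).hom (X.residue ζ (X.presheaf.stalkSpecializes h c)) =
      X.residue ζ' (X.presheaf.stalkSpecializes h' c) := by
  subst e
  rfl

section Sum

variable [IsLocallyNoetherian X] (δ : X → ℤ) (hδ : Cyc.IsDimFun X δ) (x : X)
  (hdim : ∀ z : X, z ⤳ x → δ z ≤ δ x + 1)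

include hδ hdim in
theorem finite_ne_closedPoint :
    {P : PrimeSpectrum (X.presheaf.stalk x) | P ≠ closedPoint (X.presheaf.stalk x)}.Finite := by
  haveI := krullDimLE_one_stalk δ hδ x hdim
  haveI : IsNoetherianRing (X.presheaf.stalk x) := inferInstance
  have hsub : {P : PrimeSpectrum (X.presheaf.stalk x) | P ≠ closedPoint (X.presheaf.stalk x)} ⊆
      PrimeSpectrum.asIdeal ⁻¹' (minimalPrimes (X.presheaf.stalk x)) := by
    intro P hP
    rcases Ring.krullDimLE_one_iff.mp inferInstance P.asIdeal P.2 with h1 | h1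
    · exact h1
    · exact absurd (PrimeSpectrum.ext (IsLocalRing.eq_maximalIdeal h1)) hP
  refine Set.Finite.subset (Set.Finite.preimage ?_
    (minimalPrimes.finite_of_isNoetherianRing (X.presheaf.stalk x))) hsub
  intro p _ q _ h
  exact PrimeSpectrum.ext h

open Classical in
include hδ hdim in
/-- the sum over the proper generizations of `x`. -/
theorem finsum_generizations_eq (p : X → Prop) (hp : ∀ ξ : X, ξ ⤳ x → ξ ≠ x → p ξ)
    (u v : X.presheaf.stalk x) (hu : u ∈ nonZeroDivisors (X.presheaf.stalk x))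
    (hv : v ∈ nonZeroDivisors (X.presheaf.stalk x)) :
    (∑ᶠ ξ : {ξ : X // p ξ},
      ((Module.length (X.presheaf.stalk ξ.1) (X.presheaf.stalk ξ.1)).toNat : ℤ) *
        (if h : ξ.1 ⤳ x ∧ δ x + 1 = δ ξ.1 then
          ((Module.length (X.presheaf.stalk x) (X.presheaf.stalk x ⧸
            (RingHom.ker (Cyc.specMap x ξ.1 h.1) ⊔ Ideal.span {u}))).toNat : ℤ) -
          ((Module.length (X.presheaf.stalk x) (X.presheaf.stalk x ⧸
            (RingHom.ker (Cyc.specMap x ξ.1 h.1) ⊔ Ideal.span {v}))).toNat : ℤ) else 0)) =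
      ((Module.length (X.presheaf.stalk x) (X.presheaf.stalk x ⧸ Ideal.span {u})).toNat : ℤ) -
      ((Module.length (X.presheaf.stalk x) (X.presheaf.stalk x ⧸ Ideal.span {v})).toNat : ℤ) := by
  classical
  haveI := krullDimLE_one_stalk δ hδ x hdim
  haveI : IsNoetherianRing (X.presheaf.stalk x) := inferInstance
  set F : X → ℤ := fun ξ =>
    ((Module.length (X.presheaf.stalk ξ) (X.presheaf.stalk ξ)).toNat : ℤ) *
      (if h : ξ ⤳ x ∧ δ x + 1 = δ ξ then
        ((Module.length (X.presheaf.stalk x) (X.presheaf.stalk x ⧸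
          (RingHom.ker (Cyc.specMap x ξ h.1) ⊔ Ideal.span {u}))).toNat : ℤ) -
        ((Module.length (X.presheaf.stalk x) (X.presheaf.stalk x ⧸
          (RingHom.ker (Cyc.specMap x ξ h.1) ⊔ Ideal.span {v}))).toNat : ℤ) else 0) with hF
  have hinj : Set.InjOn (X.fromSpecStalk x)
      {P : PrimeSpectrum (X.presheaf.stalk x) | P ≠ closedPoint _} :=
    (fromSpecStalk_injective x).injOn
  have hfin := finite_ne_closedPoint δ hδ x hdim
  change ∑ᶠ ξ : {ξ : X // p ξ}, F ξ.1 = _
  rw [finsum_subtype_eq_finsum_cond (f := F) p]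
  change ∑ᶠ ξ ∈ {ξ : X | p ξ}, F ξ = _
  rw [finsum_mem_inter_support_eq' F {ξ : X | p ξ}
      ((X.fromSpecStalk x) '' {P : PrimeSpectrum (X.presheaf.stalk x) | P ≠ closedPoint _}),
    finsum_mem_image hinj]
  · have hU : ((Module.length (X.presheaf.stalk x)
        (X.presheaf.stalk x ⧸ Ideal.span {u})).toNat : ℤ) =
        ∑ᶠ P ∈ {P : PrimeSpectrum (X.presheaf.stalk x) | P ≠ closedPoint _},
          ((Module.length (Localization.AtPrime P.asIdeal)
            (LocalizedModule P.asIdeal.primeCompl (X.presheaf.stalk x))).toNat : ℤ) *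
          ((Module.length (X.presheaf.stalk x)
            (X.presheaf.stalk x ⧸ (P.asIdeal ⊔ Ideal.span {u}))).toNat : ℤ) :=
      length_quot_eq_finsum _ u hu
    have hV : ((Module.length (X.presheaf.stalk x)
        (X.presheaf.stalk x ⧸ Ideal.span {v})).toNat : ℤ) =
        ∑ᶠ P ∈ {P : PrimeSpectrum (X.presheaf.stalk x) | P ≠ closedPoint _},
          ((Module.length (Localization.AtPrime P.asIdeal)
            (LocalizedModule P.asIdeal.primeCompl (X.presheaf.stalk x))).toNat : ℤ) *
          ((Module.length (X.presheaf.stalk x)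
            (X.presheaf.stalk x ⧸ (P.asIdeal ⊔ Ideal.span {v}))).toNat : ℤ) :=
      length_quot_eq_finsum _ v hv
    have hsub := finsum_mem_sub_distrib
      (s := {P : PrimeSpectrum (X.presheaf.stalk x) | P ≠ closedPoint _})
      (f := fun P : PrimeSpectrum (X.presheaf.stalk x) =>
          ((Module.length (Localization.AtPrime P.asIdeal)
            (LocalizedModule P.asIdeal.primeCompl (X.presheaf.stalk x))).toNat : ℤ) *
          ((Module.length (X.presheaf.stalk x)
            (X.presheaf.stalk x ⧸ (P.asIdeal ⊔ Ideal.span {u}))).toNat : ℤ))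
      (g := fun P : PrimeSpectrum (X.presheaf.stalk x) =>
          ((Module.length (Localization.AtPrime P.asIdeal)
            (LocalizedModule P.asIdeal.primeCompl (X.presheaf.stalk x))).toNat : ℤ) *
          ((Module.length (X.presheaf.stalk x)
            (X.presheaf.stalk x ⧸ (P.asIdeal ⊔ Ideal.span {v}))).toNat : ℤ))
      hfin
    rw [hU, hV]
    refine Eq.trans ?_ hsub
    refine finsum_mem_congr rfl fun P hP => ?_
    have hPx : X.fromSpecStalk x P ⤳ x := fromSpecStalk_specializes x P
    have hPne : X.fromSpecStalk x P ≠ x := fun h0 => hP ((fromSpecStalk_eq_self_iff x P).mp h0)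
    have hδP := delta_eq_of_generization δ hδ x hdim _ hPx hPne
    have hgp : genPrime x (X.fromSpecStalk x P) hPx = P := genPrime_fromSpecStalk x P hPx
    have hlen := length_localizedModule_eq x (X.fromSpecStalk x P) hPx
    rw [hgp] at hlen
    have hker : RingHom.ker (Cyc.specMap x (X.fromSpecStalk x P) hPx) = P.asIdeal :=
      congrArg PrimeSpectrum.asIdeal hgp
    rw [hF]
    beta_reduce
    rw [dif_pos ⟨hPx, hδP.symm⟩, hker, hlen, mul_sub]
  · intro ξ hξ
    have hne : F ξ ≠ 0 := hξ
    rw [hF] at hne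
    beta_reduce at hne
    by_cases h : ξ ⤳ x ∧ δ x + 1 = δ ξ
    · have hξne : ξ ≠ x := by
        rintro rfl
        omega
      constructor
      · intro _
        refine ⟨genPrime x ξ h.1, ?_, fromSpecStalk_genPrime x ξ h.1⟩
        intro h0
        apply hξne
        rw [← fromSpecStalk_genPrime x ξ h.1, h0]
        exact Scheme.fromSpecStalk_closedPoint
      · intro _
        exact hp ξ h.1 hξne
    · rw [dif_neg h, mul_zero] at hne
      exact absurd rfl hne

end Sum

end Groth.Agent.R2.H9.PullDiv
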