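import Mathlib
import Groth.Agent.R2.H9DimOneLen
import Groth.Agent.R2.H9StalkGen
import Groth.Agent.R2.H9LocQuot

/-!
# Lengths in quotients of local rings (helper9)

Pure algebra used for the flat pullback of principal divisors:
* `length_quot_sup_comap` : `ℓ_{B/J}((B/J)/(P̄ + (ū))) = ℓ_B(B/(P + (u)))`, `P` the preimage of `P̄`;
* `length_localization_quot` : `ℓ((B/J)_{P̄}) = ℓ_S(S/JS)` for `S` the localization of `B` at `P`;
* `length_quot_eq_finsum_quot` : the formula `ℓ(B/(J + (u))) = Σ ℓ((B/J)_{P̄}) ℓ(B/(P + (u)))` when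
  `B/J` has dimension at most one and `u` is a nonzerodivisor on `B/J`;
* `mk_map_mem_nonZeroDivisors_of_flat` : nonzerodivisors modulo a prime stay so after flat extension.
-/

set_option autoImplicit false
set_option linter.style.haveILetI false

universe u

open IsLocalRing

namespace Groth.Agent.R2.H9.QuotLen

open Groth.Agent.R2.H9.DimOneLen Groth.Agent.R2.H9.StalkGen Groth.Agent.R2.H9.LocQuot

section A

variable {B : Type u} [CommRing B]

theorem comap_sup_span (J : Ideal B) (P : Ideal (B ⧸ J)) (u : B) :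
    (P ⊔ Ideal.span {Ideal.Quotient.mk J u}).comap (Ideal.Quotient.mk J) =
      P.comap (Ideal.Quotient.mk J) ⊔ Ideal.span {u} := by
  apply le_antisymm
  · intro z hz
    rw [Ideal.mem_comap] at hz
    obtain ⟨p, hp, q, hq, hpq⟩ := Submodule.mem_sup.mp hz
    obtain ⟨c, rfl⟩ := Ideal.mem_span_singleton'.mp hq
    obtain ⟨c', rfl⟩ := Ideal.Quotient.mk_surjective c
    have h1 : Ideal.Quotient.mk J (z - c' * u) = p := by
      rw [map_sub, map_mul, ← hpq]
      ring
    have h2 : z - c' * u ∈ P.comap (Ideal.Quotient.mk J) := by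
      rw [Ideal.mem_comap, h1]
      exact hp
    have h3 : z = (z - c' * u) + c' * u := by ring
    rw [h3]
    exact Ideal.add_mem _ (Ideal.mem_sup_left h2)
      (Ideal.mem_sup_right (Ideal.mem_span_singleton'.mpr ⟨c', rfl⟩))
  · rw [sup_le_iff]
    constructor
    · exact Ideal.comap_mono le_sup_left
    · rw [Ideal.span_singleton_le_iff_mem, Ideal.mem_comap]
      exact Ideal.mem_sup_right (Ideal.mem_span_singleton_self _)

/-- `ℓ_{B/J}((B/J)/I') = ℓ_B(B/comap I')`. -/
theorem length_quot_comap (J : Ideal B) (I' : Ideal (B ⧸ J)) :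
    Module.length (B ⧸ J) ((B ⧸ J) ⧸ I') =
      Module.length B (B ⧸ I'.comap (Ideal.Quotient.mk J)) := by
  rw [← Module.length_eq_of_surjective (S := B) (R := B ⧸ J) (M := (B ⧸ J) ⧸ I')
    Ideal.Quotient.mk_surjective]
  set K := I'.comap (Ideal.Quotient.mk J) with hK
  have hJK : J ≤ K := by
    intro z hz
    rw [hK, Ideal.mem_comap, Ideal.Quotient.eq_zero_iff_mem.mpr hz]
    exact I'.zero_mem
  have hmap : K.map (Ideal.Quotient.mkₐ B J) = I' :=
    Ideal.map_comap_of_surjective _ Ideal.Quotient.mk_surjective I'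
  have hsup : J ⊔ K = K := sup_eq_right.mpr hJK
  let e1 : ((B ⧸ J) ⧸ I') ≃ₗ[B] ((B ⧸ J) ⧸ K.map (Ideal.Quotient.mkₐ B J)) :=
    (Ideal.quotientEquivAlgOfEq B hmap.symm).toLinearEquiv
  let e2 : ((B ⧸ J) ⧸ K.map (Ideal.Quotient.mkₐ B J)) ≃ₗ[B] B ⧸ (J ⊔ K) :=
    (DoubleQuot.quotQuotEquivQuotSupₐ B J K).toLinearEquiv
  let e3 : (B ⧸ (J ⊔ K)) ≃ₗ[B] B ⧸ K := (Ideal.quotientEquivAlgOfEq B hsup).toLinearEquiv
  exact ((e1.trans e2).trans e3).length_eq

theorem length_quot_sup_comap (J : Ideal B) (P : Ideal (B ⧸ J)) (u : B) :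
    Module.length (B ⧸ J) ((B ⧸ J) ⧸ (P ⊔ Ideal.span {Ideal.Quotient.mk J u})) =
      Module.length B (B ⧸ (P.comap (Ideal.Quotient.mk J) ⊔ Ideal.span {u})) := by
  rw [length_quot_comap, comap_sup_span]

end A

section Loc

variable {B : Type u} [CommRing B]

theorem primeCompl_eq (J : Ideal B) (P' : Ideal (B ⧸ J)) [P'.IsPrime] :
    Algebra.algebraMapSubmonoid (B ⧸ J) (P'.comap (Ideal.Quotient.mk J)).primeCompl =
      P'.primeCompl := by
  ext z
  constructor
  · rintro ⟨b, hb, rfl⟩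
    exact hb
  · intro hz
    obtain ⟨b, rfl⟩ := Ideal.Quotient.mk_surjective z
    exact ⟨b, hz, rfl⟩

/-- `ℓ((B/J)_{P̄}) = ℓ_S(S/JS)` for `S` the localization of `B` at the preimage of `P̄`. -/
theorem length_localization_quot (J : Ideal B) (P' : Ideal (B ⧸ J)) [P'.IsPrime] (S : Type u)
    [CommRing S] [Algebra B S] [IsLocalization.AtPrime S (P'.comap (Ideal.Quotient.mk J))] :
    Module.length (Localization.AtPrime P') (Localization.AtPrime P') =
      Module.length S (S ⧸ J.map (algebraMap B S)) := by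
  haveI : IsLocalization P'.primeCompl (S ⧸ J.map (algebraMap B S)) := by
    rw [← primeCompl_eq]
    infer_instance
  let e := IsLocalization.algEquiv P'.primeCompl (Localization.AtPrime P')
    (S ⧸ J.map (algebraMap B S))
  rw [length_self_eq_of_ringEquiv e.toRingEquiv]
  exact (Module.length_eq_of_surjective (S := S) (R := S ⧸ J.map (algebraMap B S))
    (M := S ⧸ J.map (algebraMap B S)) Ideal.Quotient.mk_surjective).symm

end Loc

section Sum

variable {B : Type u} [CommRing B] [IsNoetherianRing B] [IsLocalRing B]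

/-- `ℓ(B/(J + (u))) = Σ_{P̄ ≠ 𝔪} ℓ((B/J)_{P̄}) ℓ(B/(P + (u)))` when `B/J` has dimension at most one
and `u` is a nonzerodivisor on `B/J`. -/
theorem length_quot_eq_finsum_quot (J : Ideal B) [Nontrivial (B ⧸ J)] [Ring.KrullDimLE 1 (B ⧸ J)]
    (u : B) (hu : Ideal.Quotient.mk J u ∈ nonZeroDivisors (B ⧸ J)) :
    ((Module.length B (B ⧸ (J ⊔ Ideal.span {u}))).toNat : ℤ) =
      ∑ᶠ (P : PrimeSpectrum (B ⧸ J)) (_ : P ≠ closedPoint (B ⧸ J)),
        ((Module.length (Localization.AtPrime P.asIdeal)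
          (LocalizedModule P.asIdeal.primeCompl (B ⧸ J))).toNat : ℤ) *
        ((Module.length B (B ⧸ (P.asIdeal.comap (Ideal.Quotient.mk J) ⊔
          Ideal.span {u}))).toNat : ℤ) := by
  have h := length_quot_eq_finsum (B ⧸ J) (Ideal.Quotient.mk J u) hu
  rw [length_quot_quot] at h
  rw [h]
  refine finsum_congr fun P => ?_
  refine finsum_congr fun _ => ?_
  rw [length_quot_sup_comap]

end Sum

section Flat

open TensorProduct

/-- if `B` is flat over `A`, `𝔭` a prime of `A` and `a ∉ 𝔭`, then `a` is a nonzerodivisor on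
`B/𝔭B`. -/
theorem mk_algebraMap_mem_nonZeroDivisors_of_flat {A B : Type u} [CommRing A] [CommRing B]
    [Algebra A B] [Module.Flat A B] (𝔭 : Ideal A) [𝔭.IsPrime] (a : A) (ha : a ∉ 𝔭) :
    Ideal.Quotient.mk (𝔭.map (algebraMap A B)) (algebraMap A B a) ∈
      nonZeroDivisors (B ⧸ 𝔭.map (algebraMap A B)) := by
  let μ : (A ⧸ 𝔭) →ₗ[A] (A ⧸ 𝔭) := a • LinearMap.id
  have hμ : Function.Injective μ := by
    intro n n' hnn'
    have h1 : a • n = a • n' := hnn'
    rw [Algebra.smul_def, Algebra.smul_def] at h1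
    have h2 : algebraMap A (A ⧸ 𝔭) a ≠ 0 := by
      intro h0
      exact ha (Ideal.Quotient.eq_zero_iff_mem.mp h0)
    exact mul_left_cancel₀ h2 h1
  have hinj := Module.Flat.lTensor_preserves_injective_linearMap (M := B) μ hμ
  have hμt : ∀ w : B ⊗[A] (A ⧸ 𝔭), μ.lTensor B w = a • w := by
    intro w
    show (LinearMap.lTensor B (a • LinearMap.id)) w = a • w
    rw [LinearMap.lTensor_smul, LinearMap.lTensor_id]
    rfl
  let e := Algebra.TensorProduct.quotIdealMapEquivTensorQuot B 𝔭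
  rw [mem_nonZeroDivisors_iff_right]
  intro z hz
  have h1 : e (z * Ideal.Quotient.mk (𝔭.map (algebraMap A B)) (algebraMap A B a)) = 0 := by
    rw [hz, map_zero]
  have h2 : z * Ideal.Quotient.mk (𝔭.map (algebraMap A B)) (algebraMap A B a) =
      (algebraMap A B a) • z := by
    rw [mul_comm, Algebra.smul_def]
    rfl
  rw [h2, map_smul, algebraMap_smul, ← hμt] at h1
  have h3 : e z = 0 := hinj (by rw [h1, map_zero])
  exact (map_eq_zero_iff e e.injective).mp h3

end Flat

end Groth.Agent.R2.H9.QuotLen
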