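import Mathlib
import Groth.Prelude.Def_Cyc
import Groth.Agent.R2.H9QuotLen
import Groth.Agent.R2.H9GenDim
import Groth.Agent.R2.H9FlatInj
import Groth.Agent.R2.H9FlatLen
import Groth.Agent.R2.H9OrdDiv
import Groth.Agent.R2.H9DeltaBound
import Groth.Agent.R2.H9PullDiv

/-!
# Flat pullback of a principal divisor on an arbitrary integral closed subscheme (helper9)

`pullFun_divFun_eq` : for `f : X ⟶ Y` flat, locally of finite type, of relative dimension `r`,
`ζ ∈ Y` and `g ∈ κ(ζ)ˣ`,
`f^* div_ζ(g) = Σ_{ξ'} m(ξ') div_{ξ'}(g|ξ')`, the sum over the points `ξ'` of the fibre over `ζ` with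
`δX ξ' = δY ζ + r`, with `m(ξ') = ℓ(O_{X,ξ'}/𝔪_ζ O_{X,ξ'})`.
-/

set_option autoImplicit false
set_option linter.style.haveILetI false

universe u

open AlgebraicGeometry CategoryTheory IsLocalRing Classical

namespace Groth.Agent.R2.H9.PullDivGen

open Groth.Agent.R2.H9.StalkGen Groth.Agent.R2.H9.GenDim Groth.Agent.R2.H9.QuotLen
  Groth.Agent.R2.H9.LocQuot Groth.Agent.R2.H9.OrdDiv Groth.Agent.R2.H9.FlatInj
  Groth.Agent.R2.H9.FlatLen

variable {X Y : Scheme.{u}}

/-- `O_{X,x}/J` has dimension at most one if the points of `V(J)` have `δ ≤ δ x + 1`. -/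
theorem krullDimLE_one_quot (δ : X → ℤ) (hδ : Cyc.IsDimFun X δ) (x : X)
    (J : Ideal (X.presheaf.stalk x))
    (hdim : ∀ P : PrimeSpectrum (X.presheaf.stalk x), J ≤ P.asIdeal →
      δ (X.fromSpecStalk x P) ≤ δ x + 1) :
    Ring.KrullDimLE 1 (X.presheaf.stalk x ⧸ J) := by
  refine Ring.KrullDimLE.mk₁ fun I' hI' => ?_
  have hsurj : Function.Surjective (Ideal.Quotient.mk J) := Ideal.Quotient.mk_surjective
  set I := I'.comap (Ideal.Quotient.mk J) with hI
  have hIp : I.IsPrime := Ideal.IsPrime.comap _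
  have hJI : J ≤ I := by
    intro z hz
    rw [hI, Ideal.mem_comap, Ideal.Quotient.eq_zero_iff_mem.mpr hz]
    exact I'.zero_mem
  have hmapI : I.map (Ideal.Quotient.mk J) = I' := Ideal.map_comap_of_surjective _ hsurj I'
  set P : PrimeSpectrum (X.presheaf.stalk x) := ⟨I, hIp⟩ with hP
  by_cases hPx : X.fromSpecStalk x P = x
  · right
    have h1 := (fromSpecStalk_eq_self_iff x P).mp hPx
    have h2 : I = maximalIdeal (X.presheaf.stalk x) := congrArg PrimeSpectrum.asIdeal h1
    have h3 : I.IsMaximal := by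
      rw [h2]
      infer_instance
    rcases Ideal.map_eq_top_or_isMaximal_of_surjective (Ideal.Quotient.mk J) hsurj h3 with h4 | h4
    · rw [hmapI] at h4
      exact absurd h4 hI'.ne_top
    · rw [hmapI] at h4
      exact h4
  · left
    rw [minimalPrimes_eq_minimals]
    refine ⟨hI', fun K' hK' hK'I' => ?_⟩
    set K := K'.comap (Ideal.Quotient.mk J) with hK
    have hKp : K.IsPrime := Ideal.IsPrime.comap _
    have hJK : J ≤ K := by
      intro z hz
      rw [hK, Ideal.mem_comap, Ideal.Quotient.eq_zero_iff_mem.mpr hz]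
      exact K'.zero_mem
    have hKI : K ≤ I := Ideal.comap_mono hK'I'
    set Q : PrimeSpectrum (X.presheaf.stalk x) := ⟨K, hKp⟩ with hQ
    have hQP : X.fromSpecStalk x Q ⤳ X.fromSpecStalk x P := fromSpecStalk_mono x hKI
    have h1 := (hδ _ _ (fromSpecStalk_specializes x P) hPx).1
    have h2 := hdim P hJI
    have h3 := hdim Q hJK
    by_cases heq : X.fromSpecStalk x Q = X.fromSpecStalk x P
    · have h4 : Q = P := fromSpecStalk_injective x heq
      have h5 : K = I := congrArg PrimeSpectrum.asIdeal h4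
      have h6 : K.map (Ideal.Quotient.mk J) = K' := Ideal.map_comap_of_surjective _ hsurj K'
      rw [← hmapI, ← h6, h5]
    · have h4 := (hδ _ _ hQP heq).1
      omega

/-- the extension of `𝔭_{f ξ'} ⊆ O_{Y,f x}` to `O_{X,ξ'}` is `𝔪_{f ξ'} O_{X,ξ'}`. -/
theorem map_map_ker_specMap (f : X ⟶ Y) (x ξ' : X) (h : ξ' ⤳ x) :
    Ideal.map (X.presheaf.stalkSpecializes h).hom (Ideal.map (f.stalkMap x).hom
      (RingHom.ker (Cyc.specMap (f x) (f ξ') (f.base.hom.map_specializes h)))) =
    Ideal.map (f.stalkMap ξ').hom (maximalIdeal (Y.presheaf.stalk (f ξ'))) := by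
  set h' := f.base.hom.map_specializes h
  rw [Ideal.map_map]
  have hcomp : (X.presheaf.stalkSpecializes h).hom.comp (f.stalkMap x).hom =
      (f.stalkMap ξ').hom.comp (Y.presheaf.stalkSpecializes h').hom := by
    have := Scheme.Hom.stalkSpecializes_stalkMap f ξ' x h
    rw [← CommRingCat.hom_comp, ← CommRingCat.hom_comp, this]
  rw [hcomp, ← Ideal.map_map]
  congr 1
  letI := (Y.presheaf.stalkSpecializes h').hom.toAlgebra
  haveI := isLocalization_stalkSpecializes (f x) (f ξ') h'
  exact IsLocalization.AtPrime.map_eq_maximalIdeal (genPrime (f x) (f ξ') h').asIdeal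
    (Y.presheaf.stalk (f ξ'))

section Alg

theorem finite_ne_closedPoint_of_krullDimLE_one (A : Type u) [CommRing A] [IsNoetherianRing A]
    [IsLocalRing A] [Ring.KrullDimLE 1 A] :
    {P : PrimeSpectrum A | P ≠ closedPoint A}.Finite := by
  have hsub : {P : PrimeSpectrum A | P ≠ closedPoint A} ⊆
      PrimeSpectrum.asIdeal ⁻¹' (minimalPrimes A) := by
    intro P hP
    rcases Ring.krullDimLE_one_iff.mp inferInstance P.asIdeal P.2 with h1 | h1
    · exact h1
    · exact absurd (PrimeSpectrum.ext (IsLocalRing.eq_maximalIdeal h1)) hP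
  refine Set.Finite.subset (Set.Finite.preimage ?_ (minimalPrimes.finite_of_isNoetherianRing A)) hsub
  intro p _ q _ h
  exact PrimeSpectrum.ext h

theorem isLocalization_atPrime_congr {R S : Type*} [CommRing R] [CommRing S] [Algebra R S]
    {I I' : Ideal R} [I.IsPrime] [I'.IsPrime] (e : I = I')
    (h : IsLocalization.AtPrime S I) : IsLocalization.AtPrime S I' := by
  subst e
  exact h

end Alg

section Sum

variable [IsLocallyNoetherian X] (δ : X → ℤ) (hδ : Cyc.IsDimFun X δ) (x : X)
  (J : Ideal (X.presheaf.stalk x)) (hJ : J ≠ ⊤)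
  (hdim : ∀ P : PrimeSpectrum (X.presheaf.stalk x), J ≤ P.asIdeal →
    δ (X.fromSpecStalk x P) ≤ δ x + 1)

include hδ hJ hdim in
theorem finsum_generizations_quot_eq (p : X → Prop) (m : X → ℤ)
    (hp : ∀ ξ : X, ∀ h : ξ ⤳ x, ξ ≠ x → J ≤ (genPrime x ξ h).asIdeal → p ξ)
    (hpJ : ∀ ξ : X, ∀ h : ξ ⤳ x, p ξ → J ≤ (genPrime x ξ h).asIdeal)
    (hm : ∀ ξ : X, ∀ h : ξ ⤳ x, ξ ≠ x → J ≤ (genPrime x ξ h).asIdeal →
      m ξ = ((Module.length (X.presheaf.stalk ξ) (X.presheaf.stalk ξ ⧸
        J.map (X.presheaf.stalkSpecializes h).hom)).toNat : ℤ))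
    (u v : X.presheaf.stalk x)
    (hu : Ideal.Quotient.mk J u ∈ nonZeroDivisors (X.presheaf.stalk x ⧸ J))
    (hv : Ideal.Quotient.mk J v ∈ nonZeroDivisors (X.presheaf.stalk x ⧸ J)) :
    (∑ᶠ ξ : {ξ : X // p ξ}, m ξ.1 *
        (if h : ξ.1 ⤳ x ∧ δ x + 1 = δ ξ.1 then
          ((Module.length (X.presheaf.stalk x) (X.presheaf.stalk x ⧸
            (RingHom.ker (Cyc.specMap x ξ.1 h.1) ⊔ Ideal.span {u}))).toNat : ℤ) -
          ((Module.length (X.presheaf.stalk x) (X.presheaf.stalk x ⧸
            (RingHom.ker (Cyc.specMap x ξ.1 h.1) ⊔ Ideal.span {v}))).toNat : ℤ) else 0)) =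
      ((Module.length (X.presheaf.stalk x) (X.presheaf.stalk x ⧸ (J ⊔ Ideal.span {u}))).toNat : ℤ) -
      ((Module.length (X.presheaf.stalk x) (X.presheaf.stalk x ⧸ (J ⊔ Ideal.span {v}))).toNat : ℤ) := by
  classical
  haveI : Nontrivial (X.presheaf.stalk x ⧸ J) := Ideal.Quotient.nontrivial_iff.mpr hJ
  haveI := krullDimLE_one_quot δ hδ x J hdim
  haveI : IsNoetherianRing (X.presheaf.stalk x) := inferInstance
  haveI : IsLocalRing (X.presheaf.stalk x ⧸ J) :=
    IsLocalRing.of_surjective' (Ideal.Quotient.mk J) Ideal.Quotient.mk_surjective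
  have hsurj : Function.Surjective (Ideal.Quotient.mk J) := Ideal.Quotient.mk_surjective
  set F : X → ℤ := fun ξ => m ξ *
      (if h : ξ ⤳ x ∧ δ x + 1 = δ ξ then
        ((Module.length (X.presheaf.stalk x) (X.presheaf.stalk x ⧸
          (RingHom.ker (Cyc.specMap x ξ h.1) ⊔ Ideal.span {u}))).toNat : ℤ) -
        ((Module.length (X.presheaf.stalk x) (X.presheaf.stalk x ⧸
          (RingHom.ker (Cyc.specMap x ξ h.1) ⊔ Ideal.span {v}))).toNat : ℤ) else 0) with hF
  let Θ : PrimeSpectrum (X.presheaf.stalk x ⧸ J) → X := fun P' =>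
    X.fromSpecStalk x (PrimeSpectrum.comap (Ideal.Quotient.mk J) P')
  have hΘinj : Function.Injective Θ :=
    (fromSpecStalk_injective x).comp
      (PrimeSpectrum.comap_injective_of_surjective _ hsurj)
  have hinj : Set.InjOn Θ {P' : PrimeSpectrum (X.presheaf.stalk x ⧸ J) | P' ≠ closedPoint _} :=
    hΘinj.injOn
  have hfin := finite_ne_closedPoint_of_krullDimLE_one (X.presheaf.stalk x ⧸ J)
  -- facts about the point of a prime of the quotient
  have hJle : ∀ P' : PrimeSpectrum (X.presheaf.stalk x ⧸ J),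
      J ≤ (PrimeSpectrum.comap (Ideal.Quotient.mk J) P').asIdeal := by
    intro P' z hz
    rw [PrimeSpectrum.comap_asIdeal, Ideal.mem_comap, Ideal.Quotient.eq_zero_iff_mem.mpr hz]
    exact P'.asIdeal.zero_mem
  have hclosed : PrimeSpectrum.comap (Ideal.Quotient.mk J) (closedPoint _) =
      closedPoint (X.presheaf.stalk x) := by
    apply PrimeSpectrum.ext
    rw [PrimeSpectrum.comap_asIdeal]
    exact ((IsLocalRing.local_hom_TFAE (Ideal.Quotient.mk J)).out 0 4).mp
      (IsLocalHom.of_surjective _ hsurj)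
  have hΘne : ∀ P' : PrimeSpectrum (X.presheaf.stalk x ⧸ J), P' ≠ closedPoint _ → Θ P' ≠ x := by
    intro P' hP' h0
    apply hP'
    have h1 := (fromSpecStalk_eq_self_iff x _).mp h0
    rw [← hclosed] at h1
    exact PrimeSpectrum.comap_injective_of_surjective _ hsurj h1
  change ∑ᶠ ξ : {ξ : X // p ξ}, F ξ.1 = _
  rw [finsum_subtype_eq_finsum_cond (f := F) p]
  change ∑ᶠ ξ ∈ {ξ : X | p ξ}, F ξ = _
  rw [finsum_mem_inter_support_eq' F {ξ : X | p ξ}
      (Θ '' {P' : PrimeSpectrum (X.presheaf.stalk x ⧸ J) | P' ≠ closedPoint _}),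
    finsum_mem_image hinj]
  · have hU := length_quot_eq_finsum_quot J u hu
    have hV := length_quot_eq_finsum_quot J v hv
    have hsub := finsum_mem_sub_distrib
      (s := {P' : PrimeSpectrum (X.presheaf.stalk x ⧸ J) | P' ≠ closedPoint _})
      (f := fun P : PrimeSpectrum (X.presheaf.stalk x ⧸ J) =>
          ((Module.length (Localization.AtPrime P.asIdeal)
            (LocalizedModule P.asIdeal.primeCompl (X.presheaf.stalk x ⧸ J))).toNat : ℤ) *
          ((Module.length (X.presheaf.stalk x) (X.presheaf.stalk x ⧸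
            (P.asIdeal.comap (Ideal.Quotient.mk J) ⊔ Ideal.span {u}))).toNat : ℤ))
      (g := fun P : PrimeSpectrum (X.presheaf.stalk x ⧸ J) =>
          ((Module.length (Localization.AtPrime P.asIdeal)
            (LocalizedModule P.asIdeal.primeCompl (X.presheaf.stalk x ⧸ J))).toNat : ℤ) *
          ((Module.length (X.presheaf.stalk x) (X.presheaf.stalk x ⧸
            (P.asIdeal.comap (Ideal.Quotient.mk J) ⊔ Ideal.span {v}))).toNat : ℤ))
      hfin
    rw [hU, hV]
    refine Eq.trans ?_ hsub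
    refine finsum_mem_congr rfl fun P' hP' => ?_
    set P := PrimeSpectrum.comap (Ideal.Quotient.mk J) P' with hPdef
    have hPx : X.fromSpecStalk x P ⤳ x := fromSpecStalk_specializes x P
    have hPne : X.fromSpecStalk x P ≠ x := hΘne P' hP'
    have hδP : δ x + 1 = δ (X.fromSpecStalk x P) := by
      have h1 := (hδ _ _ hPx hPne).1
      have h2 := hdim P (hJle P')
      omega
    have hgp : genPrime x (X.fromSpecStalk x P) hPx = P := genPrime_fromSpecStalk x P hPx
    have hker : RingHom.ker (Cyc.specMap x (X.fromSpecStalk x P) hPx) =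
        P'.asIdeal.comap (Ideal.Quotient.mk J) := by
      have := congrArg PrimeSpectrum.asIdeal hgp
      exact this.trans (PrimeSpectrum.comap_asIdeal _ P')
    have hmP := hm (X.fromSpecStalk x P) hPx hPne (by rw [hgp]; exact hJle P')
    have hlen : Module.length (Localization.AtPrime P'.asIdeal)
        (LocalizedModule P'.asIdeal.primeCompl (X.presheaf.stalk x ⧸ J)) =
        Module.length (X.presheaf.stalk (X.fromSpecStalk x P))
          (X.presheaf.stalk (X.fromSpecStalk x P) ⧸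
            J.map (X.presheaf.stalkSpecializes hPx).hom) := by
      letI algS := (X.presheaf.stalkSpecializes hPx).hom.toAlgebra
      haveI h1 := isLocalization_stalkSpecializes x (X.fromSpecStalk x P) hPx
      haveI : IsLocalization.AtPrime (X.presheaf.stalk (X.fromSpecStalk x P))
          (P'.asIdeal.comap (Ideal.Quotient.mk J)) := by
        have e : (genPrime x (X.fromSpecStalk x P) hPx).asIdeal =
            P'.asIdeal.comap (Ideal.Quotient.mk J) := hker
        exact isLocalization_atPrime_congr e h1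
      exact length_localization_quot J P'.asIdeal (X.presheaf.stalk (X.fromSpecStalk x P))
    show F (X.fromSpecStalk x P) = _
    rw [hF]
    beta_reduce
    rw [dif_pos ⟨hPx, hδP⟩, hker, hmP, hlen, mul_sub]
  · intro ξ hξ
    have hne : F ξ ≠ 0 := hξ
    rw [hF] at hne
    beta_reduce at hne
    by_cases h : ξ ⤳ x ∧ δ x + 1 = δ ξ
    · have hξne : ξ ≠ x := by
        rintro rfl
        omega
      constructor
      · intro hpξ
        have hJξ := hpJ ξ h.1 hpξ
        have hprime : ((genPrime x ξ h.1).asIdeal.map (Ideal.Quotient.mk J)).IsPrime :=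
          Ideal.map_isPrime_of_surjective hsurj (by rw [Ideal.mk_ker]; exact hJξ)
        have hcm : ((genPrime x ξ h.1).asIdeal.map (Ideal.Quotient.mk J)).comap
            (Ideal.Quotient.mk J) = (genPrime x ξ h.1).asIdeal := by
          rw [Ideal.comap_map_of_surjective _ hsurj, ← RingHom.ker_eq_comap_bot, Ideal.mk_ker]
          exact sup_eq_left.mpr hJξ
        let P' : PrimeSpectrum (X.presheaf.stalk x ⧸ J) := ⟨_, hprime⟩
        have hcP : PrimeSpectrum.comap (Ideal.Quotient.mk J) P' = genPrime x ξ h.1 := by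
          apply PrimeSpectrum.ext
          rw [PrimeSpectrum.comap_asIdeal]
          exact hcm
        have hΘP : Θ P' = ξ := by
          show X.fromSpecStalk x (PrimeSpectrum.comap (Ideal.Quotient.mk J) P') = ξ
          rw [hcP, fromSpecStalk_genPrime]
        refine ⟨P', ?_, hΘP⟩
        intro h0
        apply hξne
        rw [← hΘP, h0]
        show X.fromSpecStalk x (PrimeSpectrum.comap (Ideal.Quotient.mk J) (closedPoint _)) = x
        rw [hclosed]
        exact Scheme.fromSpecStalk_closedPoint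
      · rintro ⟨P', -, hP'ξ⟩
        refine hp ξ h.1 hξne ?_
        have h1 : genPrime x ξ h.1 = PrimeSpectrum.comap (Ideal.Quotient.mk J) P' := by
          apply fromSpecStalk_injective x
          rw [fromSpecStalk_genPrime]
          exact hP'ξ.symm
        rw [h1]
        exact hJle P'
    · rw [dif_neg h, mul_zero] at hne
      exact absurd rfl hne

end Sum

section Helpers

theorem ker_specMap_congr (y ζ ζ' : Y) (e : ζ = ζ') (h : ζ ⤳ y) (h' : ζ' ⤳ y) :
    RingHom.ker (Cyc.specMap y ζ h) = RingHom.ker (Cyc.specMap y ζ' h') := by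
  subst e
  rfl

theorem specMap_stalkMap' (f : X ⟶ Y) (x ξ : X) (h : ξ ⤳ x) (c : Y.presheaf.stalk (f x)) :
    Cyc.specMap x ξ h (f.stalkMap x c) =
      f.residueFieldMap ξ (Cyc.specMap (f x) (f ξ) (f.base.hom.map_specializes h) c) :=
  (residueFieldMap_residue_specializes f x ξ h c).symm

theorem le_ker_of_map_le (f : X ⟶ Y) (x ξ : X) (h : ξ ⤳ x) (I : Ideal (Y.presheaf.stalk (f x)))
    (hI : I.map (f.stalkMap x).hom ≤ (genPrime x ξ h).asIdeal) :
    I ≤ RingHom.ker (Cyc.specMap (f x) (f ξ) (f.base.hom.map_specializes h)) := by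
  intro c hc
  have h1 : (f.stalkMap x).hom c ∈ (genPrime x ξ h).asIdeal := hI (Ideal.mem_map_of_mem _ hc)
  have h2 : Cyc.specMap x ξ h (f.stalkMap x c) = 0 := RingHom.mem_ker.mp h1
  rw [specMap_stalkMap'] at h2
  rw [RingHom.mem_ker]
  exact (map_eq_zero_iff _ (f.residueFieldMap ξ).hom.injective).mp h2

theorem map_le_of_le_ker (f : X ⟶ Y) (x ξ : X) (h : ξ ⤳ x) (I : Ideal (Y.presheaf.stalk (f x)))
    (hI : I ≤ RingHom.ker (Cyc.specMap (f x) (f ξ) (f.base.hom.map_specializes h))) :
    I.map (f.stalkMap x).hom ≤ (genPrime x ξ h).asIdeal := by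
  rw [Ideal.map_le_iff_le_comap]
  intro c hc
  rw [Ideal.mem_comap]
  show (f.stalkMap x).hom c ∈ RingHom.ker (Cyc.specMap x ξ h)
  rw [RingHom.mem_ker]
  have h1 : Cyc.specMap x ξ h (f.stalkMap x c) = _ := specMap_stalkMap' f x ξ h c
  have h2 : Cyc.specMap (f x) (f ξ) (f.base.hom.map_specializes h) c = 0 :=
    RingHom.mem_ker.mp (hI hc)
  rw [h2, map_zero] at h1
  exact h1

theorem specializes_of_ker_le (y ζ ζ' : Y) (h : ζ ⤳ y) (h' : ζ' ⤳ y)
    (hle : RingHom.ker (Cyc.specMap y ζ h) ≤ RingHom.ker (Cyc.specMap y ζ' h')) : ζ ⤳ ζ' := by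
  have := fromSpecStalk_mono y (P := genPrime y ζ h) (Q := genPrime y ζ' h') hle
  rwa [fromSpecStalk_genPrime, fromSpecStalk_genPrime] at this

theorem eq_of_ker_eq (y ζ ζ' : Y) (h : ζ ⤳ y) (h' : ζ' ⤳ y)
    (he : RingHom.ker (Cyc.specMap y ζ h) = RingHom.ker (Cyc.specMap y ζ' h')) : ζ = ζ' := by
  have h1 : genPrime y ζ h = genPrime y ζ' h' := PrimeSpectrum.ext he
  rw [← fromSpecStalk_genPrime y ζ h, h1, fromSpecStalk_genPrime]

end Helpers

end Groth.Agent.R2.H9.PullDivGen
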