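import Mathlib
import Groth.Prelude.Def_Cyc
import Groth.Agent.R2.H9PullDivGen

/-!
# Flat pullback of a principal divisor: the general formula (helper9)

`pullFun_divFun_eq` : for `f : X ⟶ Y` flat, locally of finite type, of relative dimension `r`,
`ζ ∈ Y` and `g ∈ κ(ζ)ˣ`,
`f^* div_ζ(g) = Σ_{ξ} m(ξ) div_{ξ}(g|ξ)`, the sum over the points `ξ` of the fibre over `ζ` with
`δX ξ = δY ζ + r`, with `m(ξ) = ℓ(O_{X,ξ}/𝔪_ζ O_{X,ξ})`.
-/

set_option autoImplicit false
set_option linter.style.haveILetI false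

universe u

open AlgebraicGeometry CategoryTheory IsLocalRing Classical

namespace Groth.Agent.R2.H9.PullDivMain

open Groth.Agent.R2.H9.StalkGen Groth.Agent.R2.H9.GenDim Groth.Agent.R2.H9.QuotLen
  Groth.Agent.R2.H9.LocQuot Groth.Agent.R2.H9.OrdDiv Groth.Agent.R2.H9.FlatInj
  Groth.Agent.R2.H9.FlatLen Groth.Agent.R2.H9.PullDivGen Groth.Agent.R2.H9.DeltaBound
  Groth.Agent.R2.H9.PullDiv Groth.Agent.R2.H9.DimOneLen

variable {X Y : Scheme.{u}}

theorem pullFun_divFun_eq (f : X ⟶ Y) [Flat f] [LocallyOfFiniteType f] (δX : X → ℤ) (δY : Y → ℤ)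
    (hX : Cyc.IsSetup X δX) (hY : Cyc.IsSetup Y δY) (r : ℕ) (hr : Cyc.HasRelDim f r)
    (hδ : Cyc.DeltaCompat f δX δY) (ζ : Y) (g : Y.residueField ζ) (hg : g ≠ 0) (x : X) :
    Cyc.pullFun f δX δY r (Cyc.divFun δY ζ g) x =
      ∑ᶠ ξ : {ξ : X // f ξ = ζ ∧ δX ξ = δY ζ + r},
        ((Module.length (X.presheaf.stalk ξ.1) (X.presheaf.stalk ξ.1 ⧸
          Ideal.map (f.stalkMap ξ.1).hom
            (maximalIdeal (Y.presheaf.stalk (f ξ.1))))).toNat : ℤ) *
        Cyc.divFun δX ξ.1 (f.residueFieldMap ξ.1 ((Y.residueFieldCongr ξ.2.1.symm).hom g)) x := by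
  haveI : IsLocallyNoetherian X := hX.1
  haveI : IsLocallyNoetherian Y := hY.1
  have hδX : Cyc.IsDimFun X δX := hX.2.2
  have hδY : Cyc.IsDimFun Y δY := hY.2.2
  obtain ⟨n, hn, hδx⟩ := exists_le_delta f r hr δX δY hδ x
  by_cases hcase : δX x + 1 = δY ζ + r
  swap
  · have hL : Cyc.pullFun f δX δY r (Cyc.divFun δY ζ g) x = 0 := by
      unfold Cyc.pullFun Cyc.divFun
      beta_reduce
      by_cases h1 : δX x = δY (f x) + r
      · have hc : ¬ (ζ ⤳ f x ∧ δY (f x) + 1 = δY ζ) := by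
          rintro ⟨-, h2⟩
          omega
        rw [if_pos h1, dif_neg hc, zero_mul]
      · rw [if_neg h1]
    rw [hL]
    symm
    apply finsum_eq_zero_of_forall_eq_zero
    intro ξ
    unfold Cyc.divFun
    beta_reduce
    have hc : ¬ (ξ.1 ⤳ x ∧ δX x + 1 = δX ξ.1) := by
      rintro ⟨-, h2⟩
      rw [ξ.2.2] at h2
      exact hcase h2
    rw [dif_neg hc, mul_zero]
  by_cases hζy : ζ ⤳ f x
  swap
  · have hL : Cyc.pullFun f δX δY r (Cyc.divFun δY ζ g) x = 0 := by
      unfold Cyc.pullFun Cyc.divFun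
      beta_reduce
      have hc : ¬ (ζ ⤳ f x ∧ δY (f x) + 1 = δY ζ) := fun h => hζy h.1
      rw [dif_neg hc, zero_mul, ite_self]
    rw [hL]
    symm
    apply finsum_eq_zero_of_forall_eq_zero
    intro ξ
    unfold Cyc.divFun
    beta_reduce
    have hc : ¬ (ξ.1 ⤳ x ∧ δX x + 1 = δX ξ.1) := by
      rintro ⟨h1, -⟩
      apply hζy
      have := f.base.hom.map_specializes h1
      rwa [ξ.2.1] at this
    rw [dif_neg hc, mul_zero]
  -- main case
  set pY : Ideal (Y.presheaf.stalk (f x)) := RingHom.ker (Cyc.specMap (f x) ζ hζy) with hpY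
  haveI hpYprime : pY.IsPrime := RingHom.ker_isPrime _
  set J : Ideal (X.presheaf.stalk x) := pY.map (f.stalkMap x).hom with hJdef
  haveI : IsNoetherianRing (X.presheaf.stalk x) := inferInstance
  obtain ⟨a, b, hb, hgab⟩ := exists_frac (f x) ζ hζy g
  have ha : Cyc.specMap (f x) ζ hζy a ≠ 0 := by
    intro h0
    apply hg
    rw [hgab, ← specMap_eq, h0, zero_div]
  have hflat : (f.stalkMap x).hom.Flat := Flat.stalkMap f x
  -- `J` is a proper ideal
  have hJtop : J ≠ ⊤ := by
    intro h0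
    have h1 : J ≤ maximalIdeal (X.presheaf.stalk x) := by
      rw [hJdef, Ideal.map_le_iff_le_comap]
      intro c hc
      rw [Ideal.mem_comap]
      have h2 : c ∈ maximalIdeal (Y.presheaf.stalk (f x)) :=
        IsLocalRing.le_maximalIdeal hpYprime.ne_top hc
      by_contra h3
      have h4 : IsUnit ((f.stalkMap x).hom c) := by
        by_contra h5
        exact h3 ((IsLocalRing.mem_maximalIdeal _).mpr h5)
      have h6 : IsUnit c := (isUnit_map_iff (f.stalkMap x).hom c).mp h4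
      exact ((IsLocalRing.mem_maximalIdeal _).mp h2) h6
    rw [h0] at h1
    exact (IsLocalRing.maximalIdeal.isMaximal _).ne_top (top_le_iff.mp h1)
  -- points of `V(J)` lie over specializations of `ζ`
  have hζfz : ∀ (z : X) (hz : z ⤳ x), J ≤ (genPrime x z hz).asIdeal → ζ ⤳ f z := by
    intro z hz hJz
    have h1 := le_ker_of_map_le f x z hz pY hJz
    exact specializes_of_ker_le (f x) ζ (f z) hζy (f.base.hom.map_specializes hz) h1
  have hdim : ∀ P : PrimeSpectrum (X.presheaf.stalk x), J ≤ P.asIdeal →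
      δX (X.fromSpecStalk x P) ≤ δX x + 1 := by
    intro P hP
    have hPx : X.fromSpecStalk x P ⤳ x := fromSpecStalk_specializes x P
    have hgp : genPrime x (X.fromSpecStalk x P) hPx = P := genPrime_fromSpecStalk x P hPx
    have h1 : ζ ⤳ f (X.fromSpecStalk x P) := hζfz _ hPx (by rw [hgp]; exact hP)
    obtain ⟨nz, hnz, hδz⟩ := exists_le_delta f r hr δX δY hδ (X.fromSpecStalk x P)
    have h2 : δY (f (X.fromSpecStalk x P)) ≤ δY ζ := by
      by_cases he : ζ = f (X.fromSpecStalk x P)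
      · rw [← he]
      · exact (hδY _ _ h1 he).1.le
    omega
  haveI : Nontrivial (X.presheaf.stalk x ⧸ J) := Ideal.Quotient.nontrivial_iff.mpr hJtop
  haveI hK1 := krullDimLE_one_quot δX hδX x J hdim
  -- nonzerodivisors
  have hnzd : ∀ c : Y.presheaf.stalk (f x), Cyc.specMap (f x) ζ hζy c ≠ 0 →
      Ideal.Quotient.mk J ((f.stalkMap x).hom c) ∈ nonZeroDivisors (X.presheaf.stalk x ⧸ J) := by
    intro c hc
    letI := (f.stalkMap x).hom.toAlgebra
    haveI : Module.Flat (Y.presheaf.stalk (f x)) (X.presheaf.stalk x) := hflat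
    exact mk_algebraMap_mem_nonZeroDivisors_of_flat pY c (fun h0 => hc (RingHom.mem_ker.mp h0))
  have hu := hnzd a ha
  have hv := hnzd b hb
  -- the index predicate and the multiplicities
  set p : X → Prop := fun ξ => f ξ = ζ ∧ δX ξ = δY ζ + r with hpdef
  set m : X → ℤ := fun ξ => ((Module.length (X.presheaf.stalk ξ) (X.presheaf.stalk ξ ⧸
      Ideal.map (f.stalkMap ξ).hom (maximalIdeal (Y.presheaf.stalk (f ξ))))).toNat : ℤ) with hmdef
  have hfξ : ∀ ξ : X, ∀ h : ξ ⤳ x, ξ ≠ x → J ≤ (genPrime x ξ h).asIdeal → f ξ = ζ := by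
    intro ξ h hne hJξ
    have hfξx : f ξ ⤳ f x := f.base.hom.map_specializes h
    have h1 : pY ≤ RingHom.ker (Cyc.specMap (f x) (f ξ) hfξx) := le_ker_of_map_le f x ξ h pY hJξ
    -- the image of the prime of `ξ` in `O_{X,x}/J` is a minimal prime
    have hsurj : Function.Surjective (Ideal.Quotient.mk J) := Ideal.Quotient.mk_surjective
    have hprime : ((genPrime x ξ h).asIdeal.map (Ideal.Quotient.mk J)).IsPrime :=
      Ideal.map_isPrime_of_surjective hsurj (by rw [Ideal.mk_ker]; exact hJξ)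
    have hcm : ((genPrime x ξ h).asIdeal.map (Ideal.Quotient.mk J)).comap
        (Ideal.Quotient.mk J) = (genPrime x ξ h).asIdeal := by
      rw [Ideal.comap_map_of_surjective _ hsurj, ← RingHom.ker_eq_comap_bot, Ideal.mk_ker]
      exact sup_eq_left.mpr hJξ
    have hmin : (genPrime x ξ h).asIdeal.map (Ideal.Quotient.mk J) ∈
        minimalPrimes (X.presheaf.stalk x ⧸ J) := by
      rcases Ring.krullDimLE_one_iff.mp hK1 _ hprime with h2 | h2
      · exact h2
      · exfalso
        apply hne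
        have h3 : (genPrime x ξ h).asIdeal.IsMaximal := by
          rw [← hcm]
          exact Ideal.comap_isMaximal_of_surjective _ hsurj
        have h4 : genPrime x ξ h = IsLocalRing.closedPoint (X.presheaf.stalk x) :=
          PrimeSpectrum.ext (IsLocalRing.eq_maximalIdeal h3)
        rw [← fromSpecStalk_genPrime x ξ h, h4]
        exact Scheme.fromSpecStalk_closedPoint
    have h2 : RingHom.ker (Cyc.specMap (f x) (f ξ) hfξx) ≤ pY := by
      intro c hc
      by_contra hcp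
      have h3 := hnzd c (fun h0 => hcp (RingHom.mem_ker.mpr h0))
      have h4 : Ideal.Quotient.mk J ((f.stalkMap x).hom c) ∈
          (genPrime x ξ h).asIdeal.map (Ideal.Quotient.mk J) := by
        apply Ideal.mem_map_of_mem
        exact map_le_of_le_ker f x ξ h _ le_rfl (Ideal.mem_map_of_mem _ hc)
      exact notMem_nonZeroDivisors_of_mem_mem_minimalPrimes h4 hmin h3
    exact (eq_of_ker_eq (f x) ζ (f ξ) hζy hfξx (le_antisymm h1 h2)).symm
  have hp : ∀ ξ : X, ∀ h : ξ ⤳ x, ξ ≠ x → J ≤ (genPrime x ξ h).asIdeal → p ξ := by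
    intro ξ h hne hJξ
    refine ⟨hfξ ξ h hne hJξ, ?_⟩
    have h1 := (hδX ξ x h hne).1
    have h2 := hdim (genPrime x ξ h) hJξ
    rw [fromSpecStalk_genPrime] at h2
    omega
  have hpJ : ∀ ξ : X, ∀ h : ξ ⤳ x, p ξ → J ≤ (genPrime x ξ h).asIdeal := by
    intro ξ h hpξ
    apply map_le_of_le_ker f x ξ h pY
    rw [hpY, ker_specMap_congr (f x) ζ (f ξ) hpξ.1.symm hζy (f.base.hom.map_specializes h)]
  have hm : ∀ ξ : X, ∀ h : ξ ⤳ x, ξ ≠ x → J ≤ (genPrime x ξ h).asIdeal →
      m ξ = ((Module.length (X.presheaf.stalk ξ) (X.presheaf.stalk ξ ⧸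
        J.map (X.presheaf.stalkSpecializes h).hom)).toNat : ℤ) := by
    intro ξ h hne hJξ
    have e1 := hfξ ξ h hne hJξ
    have e2 : pY = RingHom.ker (Cyc.specMap (f x) (f ξ) (f.base.hom.map_specializes h)) := by
      rw [hpY]
      exact ker_specMap_congr (f x) ζ (f ξ) e1.symm hζy _
    rw [hmdef, hJdef, e2, map_map_ker_specMap f x ξ h]
  -- the terms of the right hand side
  have hterm : ∀ ξ : {ξ : X // f ξ = ζ ∧ δX ξ = δY ζ + r},
      ((Module.length (X.presheaf.stalk ξ.1) (X.presheaf.stalk ξ.1 ⧸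
          Ideal.map (f.stalkMap ξ.1).hom
            (maximalIdeal (Y.presheaf.stalk (f ξ.1))))).toNat : ℤ) *
        Cyc.divFun δX ξ.1 (f.residueFieldMap ξ.1 ((Y.residueFieldCongr ξ.2.1.symm).hom g)) x =
      m ξ.1 *
      (if h : ξ.1 ⤳ x ∧ δX x + 1 = δX ξ.1 then
        ((Module.length (X.presheaf.stalk x) (X.presheaf.stalk x ⧸
          (RingHom.ker (Cyc.specMap x ξ.1 h.1) ⊔
            Ideal.span {(f.stalkMap x).hom a}))).toNat : ℤ) -
        ((Module.length (X.presheaf.stalk x) (X.presheaf.stalk x ⧸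
          (RingHom.ker (Cyc.specMap x ξ.1 h.1) ⊔
            Ideal.span {(f.stalkMap x).hom b}))).toNat : ℤ) else 0) := by
    intro ξ
    congr 1
    unfold Cyc.divFun
    beta_reduce
    by_cases h : ξ.1 ⤳ x ∧ δX x + 1 = δX ξ.1
    · rw [dif_pos h, dif_pos h]
      have hfξ' : f ξ.1 ⤳ f x := f.base.hom.map_specializes h.1
      have hTR := residueFieldCongr_residue_specializes (f x) ζ (f ξ.1) ξ.2.1.symm hζy hfξ'
      have hnat := residueFieldMap_residue_specializes f x ξ.1 h.1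
      have hfg : f.residueFieldMap ξ.1 ((Y.residueFieldCongr ξ.2.1.symm).hom g) =
          X.residue ξ.1 (X.presheaf.stalkSpecializes h.1 (f.stalkMap x a)) /
            X.residue ξ.1 (X.presheaf.stalkSpecializes h.1 (f.stalkMap x b)) := by
        rw [hgab, map_div₀, hTR, hTR, map_div₀, hnat, hnat]
      have hne : ∀ c : Y.presheaf.stalk (f x), Cyc.specMap (f x) ζ hζy c ≠ 0 →
          Cyc.specMap x ξ.1 h.1 (f.stalkMap x c) ≠ 0 := by
        intro c hc h0
        apply hc
        rw [specMap_eq] at h0 ⊢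
        rw [← hnat c, ← hTR c] at h0
        have h1 := (map_eq_zero_iff _ (f.residueFieldMap ξ.1).hom.injective).mp h0
        exact (map_eq_zero_iff _ (Y.residueFieldCongr ξ.2.1.symm).hom.hom.injective).mp h1
      rw [hfg, ordAt_div_eq δX hδX x ξ.1 h.1 (by omega) _ _ (hne a ha) (hne b hb)]
    · rw [dif_neg h, dif_neg h]
  rw [finsum_congr hterm,
    finsum_generizations_quot_eq δX hδX x J hJtop hdim p m hp hpJ hm _ _ hu hv]
  -- the left hand side
  have hJa : J ⊔ Ideal.span {(f.stalkMap x).hom a} =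
      (pY ⊔ Ideal.span {a}).map (f.stalkMap x).hom := by
    rw [Ideal.map_sup, Ideal.map_span, Set.image_singleton]
  have hJb : J ⊔ Ideal.span {(f.stalkMap x).hom b} =
      (pY ⊔ Ideal.span {b}).map (f.stalkMap x).hom := by
    rw [Ideal.map_sup, Ideal.map_span, Set.image_singleton]
  unfold Cyc.pullFun Cyc.divFun
  beta_reduce
  by_cases h1 : δX x = δY (f x) + r
  · have hcY : ζ ⤳ f x ∧ δY (f x) + 1 = δY ζ := ⟨hζy, by omega⟩
    rw [if_pos h1, dif_pos hcY]
    conv_lhs => rw [hgab]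
    rw [ordAt_div_eq δY hδY (f x) ζ hζy (by omega) a b ha hb, hJa, hJb,
      toNat_length_quot_map (f.stalkMap x).hom hflat (pY ⊔ Ideal.span {a}),
      toNat_length_quot_map (f.stalkMap x).hom hflat (pY ⊔ Ideal.span {b})]
    push_cast
    ring
  · rw [if_neg h1]
    have heq : ζ = f x := by
      by_contra hne'
      have := (hδY ζ (f x) hζy hne').1
      omega
    have hau : IsUnit a := isUnit_of_specMap_ne_zero_of_eq (f x) _ hζy heq a ha
    have hbu : IsUnit b := isUnit_of_specMap_ne_zero_of_eq (f x) _ hζy heq b hb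
    have hA : J ⊔ Ideal.span {(f.stalkMap x).hom a} = ⊤ := by
      rw [Ideal.span_singleton_eq_top.mpr (hau.map _), sup_top_eq]
    have hB : J ⊔ Ideal.span {(f.stalkMap x).hom b} = ⊤ := by
      rw [Ideal.span_singleton_eq_top.mpr (hbu.map _), sup_top_eq]
    rw [length_quot_top_eq_zero _ _ hA, length_quot_top_eq_zero _ _ hB]
    simp

end Groth.Agent.R2.H9.PullDivMain
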