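import Mathlib
import Groth.Prelude.Def_Cyc
import Groth.Agent.R2.H9PullDivMain
import Groth.Agent.R2.H9DivLF
import Groth.Agent.Lib.Helper4VarDim2

/-!
# Helpers for "flat pullback preserves rational equivalence" (helper9)

* `finsum_sigma'` : a finsum over a sigma type with finite support is an iterated finsum;
* `finite_fibre_generic` : an affine open of a locally Noetherian scheme contains finitely many
  points of a fibre with maximal `δ`;
* `pullFun_sub`, `pullFun_finsum` : linearity of the flat pullback formula.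
-/

set_option autoImplicit false
set_option linter.style.haveILetI false

universe u

open AlgebraicGeometry CategoryTheory IsLocalRing Classical

namespace Groth.Agent.R2.H9.PullRat

open Groth.Agent.Lib.Helper4.VarDim

theorem finsum_sigma' {ι : Type*} {T : ι → Type*} {M : Type*} [AddCommMonoid M]
    (F : (Σ i, T i) → M) (hF : (Function.support F).Finite) :
    ∑ᶠ j, F j = ∑ᶠ i, ∑ᶠ t : T i, F ⟨i, t⟩ := by
  set s := hF.toFinset with hsdef
  have hs : Function.support F ⊆ ↑s := by
    intro j hj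
    rw [hsdef, Finset.mem_coe, Set.Finite.mem_toFinset]
    exact hj
  rw [finsum_eq_sum_of_support_subset F hs]
  set S₁ := s.image Sigma.fst with hS₁
  let t : ∀ i, Finset (T i) := fun i => s.preimage (Sigma.mk i) sigma_mk_injective.injOn
  have h1 : ∑ᶠ i, ∑ᶠ b : T i, F ⟨i, b⟩ = ∑ i ∈ S₁, ∑ b ∈ t i, F ⟨i, b⟩ := by
    rw [finsum_eq_sum_of_support_subset _ (s := S₁)]
    · apply Finset.sum_congr rfl
      intro i _
      apply finsum_eq_sum_of_support_subset
      intro b hb
      rw [Finset.mem_coe, Finset.mem_preimage]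
      exact hs hb
    · intro i hi
      by_contra hn
      apply hi
      apply finsum_eq_zero_of_forall_eq_zero
      intro b
      by_contra hb
      apply hn
      rw [hS₁, Finset.mem_coe, Finset.mem_image]
      exact ⟨⟨i, b⟩, hs hb, rfl⟩
  rw [h1, ← Finset.sum_sigma]
  apply Finset.sum_congr _ (fun _ _ => rfl)
  ext j
  rw [Finset.mem_sigma, Finset.mem_preimage, hS₁, Finset.mem_image]
  constructor
  · intro hj
    exact ⟨⟨j, hj, rfl⟩, hj⟩
  · rintro ⟨-, hj⟩
    exact hj

variable {X Y : Scheme.{u}}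

/-- An affine open of a locally Noetherian scheme contains only finitely many points of the fibre
over `ζ` with `δX = d`, if `d` bounds `δX` on the fibre. -/
theorem finite_fibre_generic [IsLocallyNoetherian X] (f : X ⟶ Y) (δX : X → ℤ)
    (hδX : Cyc.IsDimFun X δX) (ζ : Y) (d : ℤ) (hbound : ∀ z : X, f z = ζ → δX z ≤ d)
    {V : X.Opens} (hV : IsAffineOpen V) :
    {ξ : X | ξ ∈ V ∧ f ξ = ζ ∧ δX ξ = d}.Finite := by
  haveI : IsNoetherianRing Γ(X, V) := IsLocallyNoetherian.component_noetherian ⟨V, hV⟩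
  -- the closed subset of `Spec Γ(V)` of points mapping into the closure of `ζ`
  set Z : Set (PrimeSpectrum Γ(X, V)) := hV.fromSpec ⁻¹' (f ⁻¹' closure {ζ}) with hZ
  have hZc : IsClosed Z :=
    (isClosed_closure.preimage f.continuous).preimage hV.fromSpec.continuous
  set I := PrimeSpectrum.vanishingIdeal Z with hI
  have hfin := Ideal.finite_minimalPrimes_of_isNoetherianRing Γ(X, V) I
  let φ : X → Ideal Γ(X, V) := fun y =>
    if hy : y ∈ V then (hV.primeIdealOf ⟨y, hy⟩).asIdeal else ⊤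
  apply Set.Finite.of_finite_image (f := φ)
  · apply hfin.subset
    rintro _ ⟨y, ⟨hyV, hfy, hδy⟩, rfl⟩
    have hφ : φ y = (hV.primeIdealOf ⟨y, hyV⟩).asIdeal := dif_pos hyV
    rw [hφ]
    have hyZ : hV.primeIdealOf ⟨y, hyV⟩ ∈ Z := by
      rw [hZ, Set.mem_preimage, Set.mem_preimage, hV.fromSpec_primeIdealOf ⟨y, hyV⟩]
      show f y ∈ closure {ζ}
      rw [hfy]
      exact subset_closure rfl
    have hle : I ≤ (hV.primeIdealOf ⟨y, hyV⟩).asIdeal := by
      intro c hc
      rw [hI, PrimeSpectrum.mem_vanishingIdeal] at hc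
      exact hc _ hyZ
    refine ⟨⟨(hV.primeIdealOf ⟨y, hyV⟩).isPrime, hle⟩, ?_⟩
    rintro Q ⟨hQp, hQI⟩ hQy
    let Q' : PrimeSpectrum Γ(X, V) := ⟨Q, hQp⟩
    have hQV := fromSpec_mem hV Q'
    have hQe := primeIdealOf_fromSpec hV Q' hQV
    have hQZ : Q' ∈ Z := by
      have h1 : Q' ∈ PrimeSpectrum.zeroLocus (I : Set Γ(X, V)) := hQI
      rw [hI, PrimeSpectrum.zeroLocus_vanishingIdeal_eq_closure, hZc.closure_eq] at h1
      exact h1
    have e2 : hV.fromSpec Q' ⤳ y := by
      rw [← primeIdealOf_le_iff hV _ _ hQV hyV, hQe]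
      exact hQy
    have hfQ : f (hV.fromSpec Q') = ζ := by
      have h1 : ζ ⤳ f (hV.fromSpec Q') := specializes_iff_mem_closure.mpr hQZ
      have h2 : f (hV.fromSpec Q') ⤳ ζ := by
        have := f.base.hom.map_specializes e2
        rwa [hfy] at this
      exact (h1.antisymm h2).symm.eq
    by_cases hne2 : hV.fromSpec Q' = y
    · have : Q' = hV.primeIdealOf ⟨y, hyV⟩ := by
        rw [← hQe]
        congr 1
        exact Subtype.ext hne2
      rw [← this]
    · exfalso
      have h1 := (hδX _ _ e2 hne2).1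
      have h2 := hbound _ hfQ
      omega
  · intro y hy y' hy' hyy'
    obtain ⟨hyV, -⟩ := hy
    obtain ⟨hy'V, -⟩ := hy'
    have h1 : φ y = (hV.primeIdealOf ⟨y, hyV⟩).asIdeal := dif_pos hyV
    have h2 : φ y' = (hV.primeIdealOf ⟨y', hy'V⟩).asIdeal := dif_pos hy'V
    rw [h1, h2] at hyy'
    exact primeIdealOf_injective hV y y' hyV hy'V (PrimeSpectrum.ext hyy')

theorem pullFun_sub (f : X ⟶ Y) (δX : X → ℤ) (δY : Y → ℤ) (r : ℤ) (a b : Y → ℤ) (x : X) :
    Cyc.pullFun f δX δY r (fun y => a y - b y) x =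
      Cyc.pullFun f δX δY r a x - Cyc.pullFun f δX δY r b x := by
  unfold Cyc.pullFun
  beta_reduce
  by_cases h : δX x = δY (f x) + r
  · rw [if_pos h, if_pos h, if_pos h, sub_mul]
  · rw [if_neg h, if_neg h, if_neg h, sub_zero]

theorem pullFun_finsum (f : X ⟶ Y) (δX : X → ℤ) (δY : Y → ℤ) (r : ℤ) {ι : Type*}
    (D : ι → Y → ℤ) (x : X) (hfin : (Function.support fun i => D i (f x)).Finite) :
    Cyc.pullFun f δX δY r (fun y => ∑ᶠ i, D i y) x = ∑ᶠ i, Cyc.pullFun f δX δY r (D i) x := by
  unfold Cyc.pullFun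
  beta_reduce
  by_cases h : δX x = δY (f x) + r
  · simp only [if_pos h]
    exact finsum_mul' _ _ hfin
  · simp only [if_neg h]
    rw [finsum_zero]

end Groth.Agent.R2.H9.PullRat
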