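import Mathlib
import Groth.Prelude
import Groth.Agent.R2.H9ExtProdC
import Groth.Agent.R2.H9PullRat
import Groth.Agent.R2.H9PullDivShift
import Groth.Agent.R2.H75C1Cap

/-!
# Exterior products and rational equivalence: auxiliary lemmas (helper9)

* `ordAt_residueFieldMap_eq_zero`: the order of a function pulled back from the residue field of
  `a ζ` vanishes at every specialization `z` of `ζ` with `a z = a ζ`.
* `divFun_cross_eq_zero`: vanishing of the cross terms.
* `pullFun_eq_finsum_family`: the explicit family for the flat pullback of a cycle rationally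
  equivalent to zero.
-/

set_option autoImplicit false
set_option linter.style.haveILetI false

universe u

open AlgebraicGeometry CategoryTheory Limits IsLocalRing

namespace Groth.Agent.R2.H9.ExtProd

open Groth.Agent.R2.H9.PullRat Groth.Agent.R2.H9.PullDivShift Groth.Agent.R2.H75.OrdTensor
open Groth.Agent.R2.H9.FieldSetup

theorem ordAt_residueFieldMap_eq_zero {P X : Scheme.{u}} (a : P ⟶ X) (z ζ : P) (hs : ζ ⤳ z)
    (hpt : a ζ = a z) (φ : X.residueField (a ζ)) (hφ : φ ≠ 0) :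
    Cyc.ordAt z ζ hs (a.residueFieldMap ζ φ) = 0 := by
  obtain ⟨u₀, rfl⟩ := IsLocalRing.residue_surjective (R := X.presheaf.stalk (a ζ)) φ
  have hu₀ : IsUnit u₀ := by
    by_contra hnu
    apply hφ
    exact (IsLocalRing.residue_eq_zero_iff _).mpr hnu
  have hge : a z ⤳ a ζ := hpt ▸ specializes_rfl
  have hX : a ζ ⤳ a z := a.base.hom.map_specializes hs
  set u₁ := X.presheaf.stalkSpecializes hge u₀ with hu₁def
  have h1 : X.presheaf.stalkSpecializes hX u₁ = u₀ := by
    change (X.presheaf.stalkSpecializes hge ≫ X.presheaf.stalkSpecializes hX) u₀ = u₀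
    rw [TopCat.Presheaf.stalkSpecializes_comp]
    have : X.presheaf.stalkSpecializes (hX.trans hge) = 𝟙 _ :=
      TopCat.Presheaf.stalkSpecializes_refl _ _
    rw [this]
    rfl
  have hu₁ : IsUnit u₁ := hu₀.map _
  have key : a.residueFieldMap ζ (IsLocalRing.residue _ u₀) =
      Cyc.specMap z ζ hs (a.stalkMap z u₁) := by
    have e1 : a.residueFieldMap ζ (X.residue (a ζ) u₀) = P.residue ζ (a.stalkMap ζ u₀) :=
      congrArg (fun φ : X.presheaf.stalk (a ζ) ⟶ P.residueField ζ => φ.hom u₀)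
        (Scheme.residue_residueFieldMap a ζ)
    refine e1.trans ?_
    rw [← h1, Scheme.Hom.stalkSpecializes_stalkMap_apply a ζ z hs u₁]
    rfl
  rw [key]
  exact ordAt_specMap_unit z ζ hs (hu₁.map _)

section Square

variable {P X Y : Scheme.{u}} (K : Type u) [Field K] {f : X ⟶ Spec (CommRingCat.of K)}
  {g : Y ⟶ Spec (CommRingCat.of K)} {a : P ⟶ X} {b : P ⟶ Y}

/-- dimension bound: `δ(z) ≤ δX(pr₁ z) + δY(pr₂ z)`. -/
theorem delta_le_add (hP : IsPullback a b f g) [LocallyOfFiniteType f] (δX : X → ℤ)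
    (δY : Y → ℤ) (δ : P → ℤ) (hX : Cyc.DeltaCompat f δX (fun _ => 0))
    (hY : Cyc.DeltaCompat g δY (fun _ => 0)) (hXY : Cyc.DeltaCompat (a ≫ f) δ (fun _ => 0))
    (z : P) : δ z ≤ δX (a z) + δY (b z) := by
  have h := delta_fiber_le K hP δX δY δ hX hY hXY (b z) (b.asFiber z)
  rwa [Scheme.Hom.fiberι_asFiber] at h

/-- the cross terms vanish: a function pulled back from `X`, living on a point of the fibre over
`y` of maximal dimension, has trivial divisor at the points outside of this fibre. -/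
theorem divFun_cross_eq_zero (hP : IsPullback a b f g) [LocallyOfFiniteType f]
    [LocallyOfFiniteType g] (δX : X → ℤ)
    (δY : Y → ℤ) (δ : P → ℤ) (hX : Cyc.DeltaCompat f δX (fun _ => 0))
    (hY : Cyc.DeltaCompat g δY (fun _ => 0)) (hXY : Cyc.DeltaCompat (a ≫ f) δ (fun _ => 0))
    (y : Y) (ξ' : b.fiber y)
    (hξ' : δ (b.fiberι y ξ') = δX (a (b.fiberι y ξ')) + δY y)
    (φ : X.residueField (a (b.fiberι y ξ'))) (hφ : φ ≠ 0) (z : P) (hz : b z ≠ y) :
    Cyc.divFun δ (b.fiberι y ξ') (a.residueFieldMap (b.fiberι y ξ') φ) z = 0 := by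
  unfold Cyc.divFun
  split_ifs with h
  · have hδX : Cyc.IsDimFun X δX := isDimFun_of_field K f δX hX
    have hδY : Cyc.IsDimFun Y δY := isDimFun_of_field K g δY hY
    have hsX : a (b.fiberι y ξ') ⤳ a z := a.base.hom.map_specializes h.1
    have hsY : y ⤳ b z := by
      have := b.base.hom.map_specializes h.1
      rwa [show b.base.hom (b.fiberι y ξ') = y from fiberι_mem' b y ξ'] at this
    have h1 : δY (b z) < δY y := (hδY y (b z) hsY (Ne.symm hz)).1
    have h2 := delta_le_add K hP δX δY δ hX hY hXY z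
    have h3 := h.2
    have hpt : a (b.fiberι y ξ') = a z := by
      by_contra hne
      have h4 : δX (a z) < δX (a (b.fiberι y ξ')) := (hδX _ _ hsX hne).1
      omega
    exact ordAt_residueFieldMap_eq_zero a z (b.fiberι y ξ') h.1 hpt φ hφ
  · rfl

end Square

section Family

variable {X Y : Scheme.{u}}

/-- the explicit family for the flat pullback of a cycle rationally equivalent to zero. -/
theorem pullFun_eq_finsum_family (f : X ⟶ Y) [Flat f] (δX : X → ℤ) (δY : Y → ℤ)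
    (hX : Cyc.IsSetup X δX) (hY : Cyc.IsSetup Y δY) (r : ℤ)
    (hB : ∀ z : X, δX z ≤ δY (f z) + r) {ι₀ : Type u} (ξ₀ : ι₀ → Y)
    (g₀ : (i : ι₀) → Y.residueField (ξ₀ i)) (hg₀ : ∀ i, g₀ i ≠ 0)
    (hlf₀ : ∀ y : Y, ∃ U : Set Y, IsOpen U ∧ y ∈ U ∧ {i | (closure {ξ₀ i} ∩ U).Nonempty}.Finite)
    (α : Y → ℤ) (hsum₀ : ∀ y : Y, α y = ∑ᶠ i, Cyc.divFun δY (ξ₀ i) (g₀ i) y) (x : X) :
    Cyc.pullFun f δX δY r α x =
      ∑ᶠ j : (Σ i, {ξ : X // f ξ = ξ₀ i ∧ δX ξ = δY (ξ₀ i) + r}),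
        Cyc.divFun δX j.2.1
          ((f.residueFieldMap j.2.1 ((Y.residueFieldCongr j.2.2.1.symm).hom (g₀ j.1))) ^
            (((Module.length (X.presheaf.stalk j.2.1) (X.presheaf.stalk j.2.1 ⧸
              Ideal.map (f.stalkMap j.2.1).hom
                (IsLocalRing.maximalIdeal (Y.presheaf.stalk (f j.2.1))))).toNat : ℕ) : ℤ)) x := by
  classical
  haveI : IsLocallyNoetherian X := hX.1
  haveI : IsLocallyNoetherian Y := hY.1
  have hδX : Cyc.IsDimFun X δX := hX.2.2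
  have hδY : Cyc.IsDimFun Y δY := hY.2.2
  let T : ι₀ → Type u := fun i => {ξ : X // f ξ = ξ₀ i ∧ δX ξ = δY (ξ₀ i) + r}
  let mult : X → ℕ := fun ξ => (Module.length (X.presheaf.stalk ξ) (X.presheaf.stalk ξ ⧸
    Ideal.map (f.stalkMap ξ).hom (IsLocalRing.maximalIdeal (Y.presheaf.stalk (f ξ))))).toNat
  let base : (j : Σ i, T i) → X.residueField j.2.1 := fun j =>
    f.residueFieldMap j.2.1 ((Y.residueFieldCongr j.2.2.1.symm).hom (g₀ j.1))
  have hbase : ∀ j, base j ≠ 0 := by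
    intro j h0
    apply hg₀ j.1
    have h1 := (map_eq_zero_iff _ (f.residueFieldMap j.2.1).hom.injective).mp h0
    exact (map_eq_zero_iff _ (Y.residueFieldCongr j.2.2.1.symm).hom.hom.injective).mp h1
  have hbound : ∀ i, ∀ z : X, f z = ξ₀ i → δX z ≤ δY (ξ₀ i) + r := by
    intro i z hz
    rw [← hz]
    exact hB z
  have hLF : ∀ x : X, ∃ U : Set X, IsOpen U ∧ x ∈ U ∧
      {j : Σ i, T i | (closure {j.2.1} ∩ U).Nonempty}.Finite := by
    intro x
    obtain ⟨W, hWo, hxW, hIW⟩ := hlf₀ (f x)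
    obtain ⟨V, hV, hxV, hVW⟩ :=
      exists_isAffineOpen_mem_and_subset (U := f ⁻¹ᵁ ⟨W, hWo⟩) (x := x) hxW
    refine ⟨V, V.2, hxV, ?_⟩
    have hSfin : ∀ i, {ξ : X | ξ ∈ V ∧ f ξ = ξ₀ i ∧ δX ξ = δY (ξ₀ i) + r}.Finite :=
      fun i => finite_fibre_generic f δX hδX (ξ₀ i) _ (hbound i) hV
    have hsub : {j : Σ i, T i | (closure {j.2.1} ∩ (V : Set X)).Nonempty} ⊆
        Set.sigma {i | (closure {ξ₀ i} ∩ W).Nonempty} (fun i => {t : T i | t.1 ∈ V}) := by
      rintro ⟨i, t⟩ ⟨y, hy1, hy2⟩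
      have htV : t.1 ∈ V := (specializes_iff_mem_closure.mpr hy1).mem_open V.2 hy2
      refine ⟨⟨f t.1, ?_, hVW htV⟩, htV⟩
      rw [t.2.1]
      exact subset_closure rfl
    apply Set.Finite.subset _ hsub
    rw [Set.sigma_eq_biUnion]
    apply hIW.biUnion
    intro i _
    apply Set.Finite.image
    exact ((hSfin i).preimage Subtype.val_injective.injOn).subset
      (fun t ht => ⟨ht, t.2.1, t.2.2⟩)
  have h2 : α = fun y => ∑ᶠ i, Cyc.divFun δY (ξ₀ i) (g₀ i) y := by
    funext y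
    exact hsum₀ y
  have hfinY : (Function.support fun i => Cyc.divFun δY (ξ₀ i) (g₀ i) (f x)).Finite := by
    obtain ⟨W, hWo, hxW, hIW⟩ := hlf₀ (f x)
    apply hIW.subset
    intro i hi
    have hsp : ξ₀ i ⤳ f x := by
      by_contra hns
      apply hi
      show Cyc.divFun δY (ξ₀ i) (g₀ i) (f x) = 0
      unfold Cyc.divFun
      rw [dif_neg]
      exact fun hc => hns hc.1
    exact ⟨f x, specializes_iff_mem_closure.mp hsp, hxW⟩
  have hfinX : (Function.support fun j : Σ i, T i =>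
      Cyc.divFun δX j.2.1 ((base j) ^ ((mult j.2.1 : ℕ) : ℤ)) x).Finite := by
    obtain ⟨U, hUo, hxU, hJU⟩ := hLF x
    apply hJU.subset
    intro j hj
    have hsp : j.2.1 ⤳ x := by
      by_contra hns
      apply hj
      show Cyc.divFun δX j.2.1 ((base j) ^ ((mult j.2.1 : ℕ) : ℤ)) x = 0
      unfold Cyc.divFun
      rw [dif_neg]
      exact fun hc => hns hc.1
    exact ⟨x, specializes_iff_mem_closure.mp hsp, hxU⟩
  show Cyc.pullFun f δX δY r α x =
    ∑ᶠ j : Σ i, T i, Cyc.divFun δX j.2.1 ((base j) ^ ((mult j.2.1 : ℕ) : ℤ)) x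
  rw [h2, pullFun_finsum f δX δY r _ x hfinY, finsum_sigma' _ hfinX]
  apply finsum_congr
  intro i
  rw [pullFun_divFun_eq_of_bound f δX δY hX hY r hB (ξ₀ i) (g₀ i) (hg₀ i) x]
  apply finsum_congr
  intro t
  rw [Groth.Agent.R2.H75.C1Cap.divFun_zpow δX t.1 (hbase ⟨i, t⟩)]

end Family

end Groth.Agent.R2.H9.ExtProd
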