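import Mathlib
import Groth.Prelude
import Groth.Agent.R2.H9ExtProdD
import Groth.Agent.R2.H9OrdImm

/-!
# Exterior products preserve rational equivalence (helper9)

`ratEquivZero_E`: for a product square `P = X ×_K Y` over a field, `α` rationally equivalent to
zero on `X` and `β` an `s`-cycle on `Y`, any cycle with the exterior-product coefficients is
rationally equivalent to zero.
-/

set_option autoImplicit false
set_option linter.style.haveILetI false

universe u

open AlgebraicGeometry CategoryTheory Limits IsLocalRing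

namespace Groth.Agent.R2.H9.ExtProd

open Groth.Agent.R2.H9.PullRat Groth.Agent.R2.H9.PullDivShift Groth.Agent.R2.H75.OrdTensor
open Groth.Agent.R2.H9.FieldSetup Groth.Agent.R2.H9.OrdImm

section Main

variable {P X Y : Scheme.{u}}

/-- the exterior product coefficient function for a general product square. -/
noncomputable def E (a : P ⟶ X) (b : P ⟶ Y) (δX : X → ℤ) (δY : Y → ℤ) (δ : P → ℤ) (α : X → ℤ)
    (β : Y → ℤ) : P → ℤ :=
  fun z => if δ z = δX (a z) + δY (b z) then
    α (a z) * β (b z) *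
      ((Module.length (P.presheaf.stalk z) (P.presheaf.stalk z ⧸
        ((maximalIdeal (X.presheaf.stalk (a z))).map (a.stalkMap z).hom ⊔
         (maximalIdeal (Y.presheaf.stalk (b z))).map (b.stalkMap z).hom))).toNat : ℤ)
  else 0

theorem E_symm (a : P ⟶ X) (b : P ⟶ Y) (δX : X → ℤ) (δY : Y → ℤ) (δ : P → ℤ) (α : X → ℤ)
    (β : Y → ℤ) : E b a δY δX δ β α = E a b δX δY δ α β := by
  funext z
  unfold E
  rw [add_comm (δY _), mul_comm (β _), sup_comm]

variable (K : Type u) [Field K] {f : X ⟶ Spec (CommRingCat.of K)}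
  {g : Y ⟶ Spec (CommRingCat.of K)} {a : P ⟶ X} {b : P ⟶ Y}

theorem ratEquivZero_E (hP : IsPullback a b f g) [LocallyOfFiniteType f] [LocallyOfFiniteType g]
    [QuasiCompact f] (δX : X → ℤ) (δY : Y → ℤ) (δ : P → ℤ)
    (hX : Cyc.DeltaCompat f δX (fun _ => 0)) (hY : Cyc.DeltaCompat g δY (fun _ => 0))
    (hXY : Cyc.DeltaCompat (a ≫ f) δ (fun _ => 0)) (r s : ℤ) (α : AlgebraicCycle X ℤ)
    (β : AlgebraicCycle Y ℤ) (hβ : β ∈ Cyc.Zk Y δY s) (h0 : Cyc.RatEquivZero δX r α)
    (γ : AlgebraicCycle P ℤ) (hγ : ⇑γ = E a b δX δY δ ⇑α ⇑β) :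
    Cyc.RatEquivZero δ (r + s) γ := by
  classical
  obtain ⟨ι₀, ξ₀, g₀, hξ₀, hg₀, hlf₀, hsum₀⟩ := h0
  have hXs : Cyc.IsSetup X δX := isSetup_of_field K f δX hX
  have hFs : ∀ y, Cyc.IsSetup (b.fiber y) (fun z' => δ (b.fiberι y z')) := fun y => by
    haveI := locallyOfFiniteType_fiberToSpecResidueField hP y
    exact isSetup_of_field_const (Y.residueField y) (b.fiberToSpecResidueField y) _ (δY y)
      (deltaCompat_fiber K hP δY δ hY hXY y)
  have hBd : ∀ y (z' : b.fiber y),
      δ (b.fiberι y z') ≤ δX ((b.fiberι y ≫ a) z') + δY y :=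
    fun y z' => delta_fiber_le K hP δX δY δ hX hY hXY y z'
  haveI hflat : ∀ y, Flat (b.fiberι y ≫ a) := fun y => flat_fiberι_comp hP y
  let Ty : Y → ι₀ → Type u := fun y i =>
    {ξ' : b.fiber y // (b.fiberι y ≫ a) ξ' = ξ₀ i ∧ δ (b.fiberι y ξ') = δX (ξ₀ i) + δY y}
  have hTfin : ∀ y i, Finite (Ty y i) := by
    intro y i
    haveI : QuasiCompact (b.fiberToSpecResidueField y) :=
      quasiCompact_fiberToSpecResidueField hP y
    haveI : CompactSpace (b.fiber y) :=
      (quasiCompact_iff_compactSpace (b.fiberToSpecResidueField y)).mp inferInstance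
    haveI : IsLocallyNoetherian (b.fiber y) := (hFs y).1
    let 𝒰 := (b.fiber y).affineCover.finiteSubcover
    have hS : ∀ k : 𝒰.I₀, {ξ' : b.fiber y | ξ' ∈ (𝒰.f k).opensRange ∧
        (b.fiberι y ≫ a) ξ' = ξ₀ i ∧ δ (b.fiberι y ξ') = δX (ξ₀ i) + δY y}.Finite := fun k =>
      finite_fibre_generic (b.fiberι y ≫ a) (fun z' => δ (b.fiberι y z')) (hFs y).2.2 (ξ₀ i) _
        (fun z' hz' => by rw [← hz']; exact hBd y z') (isAffineOpen_opensRange (𝒰.f k))
    have hall : {ξ' : b.fiber y | (b.fiberι y ≫ a) ξ' = ξ₀ i ∧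
        δ (b.fiberι y ξ') = δX (ξ₀ i) + δY y}.Finite := by
      apply (Set.finite_iUnion hS).subset
      intro ξ' hξ'
      obtain ⟨k, w, hw⟩ := 𝒰.exists_eq ξ'
      exact Set.mem_iUnion.mpr ⟨k, ⟨w, hw⟩, hξ'⟩
    exact hall.to_subtype
  let multF : ∀ y, b.fiber y → ℕ := fun y ξ' =>
    (Module.length ((b.fiber y).presheaf.stalk ξ') ((b.fiber y).presheaf.stalk ξ' ⧸
      Ideal.map ((b.fiberι y ≫ a).stalkMap ξ').hom
        (maximalIdeal (X.presheaf.stalk ((b.fiberι y ≫ a) ξ'))))).toNat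
  let Idx : Type u := Σ (y : {y : Y // β y ≠ 0}), Σ i, Ty y.1 i
  let pt : Idx → P := fun k => b.fiberι k.1.1 k.2.2.1
  let cg : (k : Idx) → X.residueField (a (pt k)) := fun k =>
    (X.residueFieldCongr k.2.2.2.1.symm).hom (g₀ k.2.1)
  have hcg : ∀ k, cg k ≠ 0 := by
    intro k h0
    apply hg₀ k.2.1
    exact (map_eq_zero_iff _ (X.residueFieldCongr k.2.2.2.1.symm).hom.hom.injective).mp h0
  let baseP : (k : Idx) → P.residueField (pt k) := fun k => a.residueFieldMap (pt k) (cg k)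
  have hbaseP : ∀ k, baseP k ≠ 0 := by
    intro k h0
    exact hcg k ((map_eq_zero_iff _ (a.residueFieldMap (pt k)).hom.injective).mp h0)
  let G : (k : Idx) → P.residueField (pt k) := fun k =>
    (baseP k) ^ ((multF k.1.1 k.2.2.1 : ℤ) * β k.1.1)
  have hbpt : ∀ k : Idx, b (pt k) = k.1.1 := fun k => fiberι_mem' b k.1.1 k.2.2.1
  have hapt : ∀ k : Idx, a (pt k) = ξ₀ k.2.1 := fun k => k.2.2.2.1
  -- local finiteness
  have hLF : ∀ z : P, ∃ U : Set P, IsOpen U ∧ z ∈ U ∧
      {k : Idx | (closure {pt k} ∩ U).Nonempty}.Finite := by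
    intro z
    obtain ⟨W, hWo, hzW, hIW⟩ := hlf₀ (a z)
    obtain ⟨t, ht, hfin⟩ := β.supportLocallyFiniteWithinDomain' (b z) trivial
    obtain ⟨V, hVt, hVo, hzV⟩ := mem_nhds_iff.mp ht
    refine ⟨a ⁻¹' W ∩ b ⁻¹' V, (hWo.preimage a.continuous).inter (hVo.preimage b.continuous),
      ⟨hzW, hzV⟩, ?_⟩
    have hYfin : {y : {y : Y // β y ≠ 0} | y.1 ∈ V}.Finite := by
      apply (hfin.preimage Subtype.val_injective.injOn).subset
      intro y hy
      exact ⟨hVt hy, y.2⟩
    have hsub : {k : Idx | (closure {pt k} ∩ (a ⁻¹' W ∩ b ⁻¹' V)).Nonempty} ⊆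
        Set.sigma {y : {y : Y // β y ≠ 0} | y.1 ∈ V}
          (fun y => Set.sigma {i | (closure {ξ₀ i} ∩ W).Nonempty} (fun _ => Set.univ)) := by
      intro k hk
      obtain ⟨w, hw1, hw2⟩ := hk
      have hsp : pt k ⤳ w := specializes_iff_mem_closure.mpr hw1
      have hkW : pt k ∈ a ⁻¹' W := hsp.mem_open (hWo.preimage a.continuous) hw2.1
      have hkV : pt k ∈ b ⁻¹' V := hsp.mem_open (hVo.preimage b.continuous) hw2.2
      refine ⟨?_, ?_, trivial⟩
      · show k.1.1 ∈ V
        rw [← hbpt k]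
        exact hkV
      · show (closure {ξ₀ k.2.1} ∩ W).Nonempty
        refine ⟨ξ₀ k.2.1, subset_closure rfl, ?_⟩
        rw [← hapt k]
        exact hkW
    apply Set.Finite.subset _ hsub
    rw [Set.sigma_eq_biUnion]
    apply hYfin.biUnion
    intro y _
    apply Set.Finite.image
    rw [Set.sigma_eq_biUnion]
    apply hIW.biUnion
    intro i _
    apply Set.Finite.image
    exact Set.finite_univ
  have hδs : ∀ y : {y : Y // β y ≠ 0}, δY y.1 = s := by
    intro y
    by_contra h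
    exact y.2 (hβ y.1 h)
  refine ⟨Idx, pt, G, ?_, ?_, hLF, ?_⟩
  · intro k
    show δ (b.fiberι k.1.1 k.2.2.1) = r + s + 1
    rw [k.2.2.2.2, hξ₀ k.2.1, hδs k.1]
    ring
  · intro k
    exact zpow_ne_zero _ (hbaseP k)
  · -- the pointwise formula
    have key : ∀ (y₀ : Y) (z' : b.fiber y₀), E a b δX δY δ ⇑α ⇑β (b.fiberι y₀ z') =
        ∑ᶠ k : Idx, Cyc.divFun δ (pt k) (G k) (b.fiberι y₀ z') := by
      intro y₀ z'
      have hb : b (b.fiberι y₀ z') = y₀ := fiberι_mem' b y₀ z'
      have hfin : (Function.support fun k : Idx =>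
          Cyc.divFun δ (pt k) (G k) (b.fiberι y₀ z')).Finite := by
        obtain ⟨U, hUo, hxU, hJU⟩ := hLF (b.fiberι y₀ z')
        apply hJU.subset
        intro k hk
        have hsp : pt k ⤳ b.fiberι y₀ z' := by
          by_contra hns
          apply hk
          show Cyc.divFun δ (pt k) (G k) (b.fiberι y₀ z') = 0
          unfold Cyc.divFun
          rw [dif_neg]
          exact fun hc => hns hc.1
        exact ⟨b.fiberι y₀ z', specializes_iff_mem_closure.mp hsp, hxU⟩
      have hcross : ∀ k : Idx, k.1.1 ≠ y₀ →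
          Cyc.divFun δ (pt k) (G k) (b.fiberι y₀ z') = 0 := by
        intro k hk
        have hG : G k = a.residueFieldMap (pt k)
            ((cg k) ^ ((multF k.1.1 k.2.2.1 : ℤ) * β k.1.1)) :=
          (map_zpow₀ (a.residueFieldMap (pt k)).hom (cg k) _).symm
        rw [hG]
        refine divFun_cross_eq_zero K hP δX δY δ hX hY hXY k.1.1 k.2.2.1 ?_ _
          (zpow_ne_zero _ (hcg k)) _ ?_
        · rw [k.2.2.2.2]
          congr 2
          exact (hapt k).symm
        · rw [hb]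
          exact fun h => hk h.symm
      rw [finsum_sigma' _ hfin]
      by_cases hβ0 : β y₀ = 0
      · have hL : E a b δX δY δ ⇑α ⇑β (b.fiberι y₀ z') = 0 := by
          unfold E
          split_ifs
          · rw [congrArg (⇑β) hb, hβ0, mul_zero, zero_mul]
          · rfl
        rw [hL]
        symm
        apply finsum_eq_zero_of_forall_eq_zero
        intro y
        apply finsum_eq_zero_of_forall_eq_zero
        intro j
        exact hcross ⟨y, j⟩ (fun h => y.2 (h ▸ hβ0))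
      · rw [finsum_eq_single _ (⟨y₀, hβ0⟩ : {y : Y // β y ≠ 0}) (fun y hy => by
          apply finsum_eq_zero_of_forall_eq_zero
          intro j
          exact hcross ⟨y, j⟩ (fun h => hy (Subtype.ext h)))]
        have hterm : ∀ j : (Σ i, Ty y₀ i),
            Cyc.divFun δ (pt ⟨⟨y₀, hβ0⟩, j⟩) (G ⟨⟨y₀, hβ0⟩, j⟩) (b.fiberι y₀ z') =
              β y₀ • Cyc.divFun (fun u => δ (b.fiberι y₀ u)) j.2.1
                (((b.fiberι y₀ ≫ a).residueFieldMap j.2.1
                  ((X.residueFieldCongr j.2.2.1.symm).hom (g₀ j.1))) ^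
                    ((multF y₀ j.2.1 : ℕ) : ℤ)) z' := by
          intro j
          rw [smul_eq_mul]
          have hG : G ⟨⟨y₀, hβ0⟩, j⟩ =
              ((baseP ⟨⟨y₀, hβ0⟩, j⟩) ^ ((multF y₀ j.2.1 : ℕ) : ℤ)) ^ (β y₀) :=
            zpow_mul _ _ _
          rw [hG, Groth.Agent.R2.H75.C1Cap.divFun_zpow δ _
            (zpow_ne_zero _ (hbaseP ⟨⟨y₀, hβ0⟩, j⟩))]
          congr 1
          rw [← divFun_preimmersion (b.fiberι y₀) δ j.2.1 z']
          congr 1
          rw [map_zpow₀]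
          congr 1
          change ((a.residueFieldMap (b.fiberι y₀ j.2.1)) ≫
            ((b.fiberι y₀).residueFieldMap j.2.1)).hom _ = _
          rw [← Scheme.residueFieldMap_comp]
          rfl
        rw [finsum_congr hterm, ← smul_finsum]
        rw [← pullFun_eq_finsum_family (b.fiberι y₀ ≫ a) (fun u => δ (b.fiberι y₀ u)) δX
          (hFs y₀) hXs (δY y₀) (hBd y₀) ξ₀ g₀ hg₀ hlf₀ ⇑α hsum₀ z']
        unfold E Cyc.pullFun
        rw [congrArg δY hb, congrArg (⇑β) hb]
        by_cases hc : δ (b.fiberι y₀ z') = δX (a (b.fiberι y₀ z')) + δY y₀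
        · rw [if_pos hc, if_pos (show (fun u => δ (b.fiberι y₀ u)) z' =
            δX ((b.fiberι y₀ ≫ a) z') + δY y₀ from hc), length_fiber_quot a b y₀ z', smul_eq_mul]
          change α (a (b.fiberι y₀ z')) * β y₀ * _ = β y₀ * (α (a (b.fiberι y₀ z')) * _)
          ring
        · rw [if_neg hc, if_neg (show ¬ ((fun u => δ (b.fiberι y₀ u)) z' =
            δX ((b.fiberι y₀ ≫ a) z') + δY y₀) from hc), smul_zero]
    intro z
    have h := key (b z) (b.asFiber z)
    rw [Scheme.Hom.fiberι_asFiber] at h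
    rw [hγ]
    exact h

end Main

end Groth.Agent.R2.H9.ExtProd
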