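import Mathlib
import Groth.Prelude.Def_Cyc
import Groth.Agent.R2.H9FiberDeg
import Groth.Agent.R2.H9BcLenB
import Groth.Agent.R2.H9PerfBCA

/-!
# Flat base change and proper pushforward of cycles, part A (helper9): the local identity

For a pullback square `Y' = Y ×_X X'` (`f : Y ⟶ X`, `p : X' ⟶ X`), a point `y` of `Y` with
`κ(y)/κ(f y)` finite and a point `x'` of `X'` with `p x' = f y`:
`∑_{y' ↦ (y, x')} ℓ(O_{Y',y'}/𝔪_y O_{Y',y'}) · [κ(y') : κ(x')] = [κ(y) : κ(f y)] · ℓ(O_{X',x'}/𝔪_{p x'} O_{X',x'})`.
-/

set_option autoImplicit false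
set_option linter.style.haveILetI false

universe u

open AlgebraicGeometry CategoryTheory CategoryTheory.Limits

namespace Groth.Agent.R2.H9.FlatBc

open Groth.Agent.R2.H9.FiberDeg Groth.Agent.R2.H9.BcLen

section Deg

theorem residueDegree_comp_of_bijective_right {A B D : Scheme.{u}} (a : A ⟶ B) (b : B ⟶ D) (z : A)
    (hb : Function.Bijective (b.residueFieldMap (a z)).hom) :
    (a ≫ b).residueDegree z = a.residueDegree z := by
  unfold Scheme.Hom.residueDegree
  letI alg1 : Algebra (D.residueField ((a ≫ b) z)) (A.residueField z) :=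
    ((a ≫ b).residueFieldMap z).hom.toAlgebra
  letI alg2 : Algebra (B.residueField (a z)) (A.residueField z) :=
    (a.residueFieldMap z).hom.toAlgebra
  refine Algebra.finrank_eq_of_equiv_equiv (R₀ := D.residueField ((a ≫ b) z))
    (S₀ := A.residueField z) (R₁ := B.residueField (a z)) (S₁ := A.residueField z)
    (RingEquiv.ofBijective _ hb) (RingEquiv.refl _) ?_
  ext c
  have h1 : ((a ≫ b).residueFieldMap z).hom c =
      (a.residueFieldMap z).hom ((b.residueFieldMap (a z)).hom c) := by
    rw [Scheme.residueFieldMap_comp]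
    rfl
  exact h1.symm

theorem residueDegree_comp_of_bijective_left {A C D : Scheme.{u}} (c : A ⟶ C) (d : C ⟶ D) (z : A)
    (hc : Function.Bijective (c.residueFieldMap z).hom) :
    (c ≫ d).residueDegree z = d.residueDegree (c z) := by
  unfold Scheme.Hom.residueDegree
  letI alg1 : Algebra (D.residueField ((c ≫ d) z)) (A.residueField z) :=
    ((c ≫ d).residueFieldMap z).hom.toAlgebra
  letI alg2 : Algebra (D.residueField (d (c z))) (C.residueField (c z)) :=
    (d.residueFieldMap (c z)).hom.toAlgebra
  refine (Algebra.finrank_eq_of_equiv_equiv (R₀ := D.residueField (d (c z)))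
    (S₀ := C.residueField (c z)) (R₁ := D.residueField ((c ≫ d) z)) (S₁ := A.residueField z)
    (RingEquiv.refl _) (RingEquiv.ofBijective _ hc) ?_).symm
  ext t
  have h1 : ((c ≫ d).residueFieldMap z).hom t =
      (c.residueFieldMap z).hom ((d.residueFieldMap (c z)).hom t) := by
    rw [Scheme.residueFieldMap_comp]
    rfl
  exact h1

theorem residueDegree_congr_hom {A D : Scheme.{u}} {m₁ m₂ : A ⟶ D} (h : m₁ = m₂) (z : A) :
    m₁.residueDegree z = m₂.residueDegree z := by
  subst h
  rfl

/-- residue degrees in a commutative square whose vertical maps induce isomorphisms on residue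
fields. -/
theorem residueDegree_square {A B C D : Scheme.{u}} (a : A ⟶ B) (b : B ⟶ D) (c : A ⟶ C) (d : C ⟶ D)
    (h : a ≫ b = c ≫ d) (z : A)
    (hb : Function.Bijective (b.residueFieldMap (a z)).hom)
    (hc : Function.Bijective (c.residueFieldMap z).hom) :
    a.residueDegree z = d.residueDegree (c z) := by
  rw [← residueDegree_comp_of_bijective_right a b z hb, residueDegree_congr_hom h,
    residueDegree_comp_of_bijective_left c d z hc]

end Deg

section KI

variable {X X' Y : Scheme.{u}} (f : Y ⟶ X) (p : X' ⟶ X)

/-- the multiplicity of the flat pullback along `g` at `z`. -/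
noncomputable def mult {A B : Scheme.{u}} (g : A ⟶ B) (z : A) : ℕ∞ :=
  Module.length (A.presheaf.stalk z) (A.presheaf.stalk z ⧸
    Ideal.map (g.stalkMap z).hom (IsLocalRing.maximalIdeal (B.presheaf.stalk (g z))))

/-- the comparison of the fibre of `Y ×_X X' → Y` over `y` with the fibre of `p` over `f y`. -/
noncomputable def fibMap (y : Y) : (pullback.fst f p).fiber y ⟶ p.fiber (f y) :=
  pullback.map _ _ _ _ (pullback.snd f p) (Spec.map (f.residueFieldMap y)) f
    (IsPullback.of_hasPullback f p).flip.w.symm (by simp)

theorem isPullback_fibMap (y : Y) :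
    IsPullback (fibMap f p y) ((pullback.fst f p).fiberToSpecResidueField y)
      (p.fiberToSpecResidueField (f y)) (Spec.map (f.residueFieldMap y)) :=
  isPullback_fiberToSpecResidueField_of_isPullback (IsPullback.of_hasPullback f p).flip y

theorem fibMap_fiberι (y : Y) :
    fibMap f p y ≫ p.fiberι (f y) = (pullback.fst f p).fiberι y ≫ pullback.snd f p :=
  pullback.lift_fst _ _ _

theorem isFinite_SpecMap_residueFieldMap (y : Y) (hfin : (f.residueFieldMap y).hom.Finite) :
    IsFinite (Spec.map (f.residueFieldMap y)) := by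
  rw [IsFinite.SpecMap_iff]
  exact hfin

theorem flat_SpecMap_residueFieldMap (y : Y) : Flat (Spec.map (f.residueFieldMap y)) := by
  rw [Flat.SpecMap_iff]
  letI := (f.residueFieldMap y).hom.toAlgebra
  change Module.Flat (X.residueField (f y)) (Y.residueField y)
  infer_instance

theorem isFinite_fibMap (y : Y) (hfin : (f.residueFieldMap y).hom.Finite) :
    IsFinite (fibMap f p y) := by
  haveI := isFinite_SpecMap_residueFieldMap f y hfin
  exact MorphismProperty.of_isPullback (P := @IsFinite) (isPullback_fibMap f p y).flip inferInstance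

theorem flat_fibMap (y : Y) : Flat (fibMap f p y) := by
  haveI := flat_SpecMap_residueFieldMap f y
  exact MorphismProperty.of_isPullback (P := @Flat) (isPullback_fibMap f p y).flip inferInstance

theorem finrank_fibMap (y : Y) (hfin : (f.residueFieldMap y).hom.Finite) (w : p.fiber (f y)) :
    (fibMap f p y).finrank w = f.residueDegree y := by
  haveI := isFinite_SpecMap_residueFieldMap f y hfin
  haveI := flat_SpecMap_residueFieldMap f y
  rw [Scheme.Hom.finrank_of_isPullback _ (fibMap f p y) (Spec.map (f.residueFieldMap y)) _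
    (isPullback_fibMap f p y).flip w]
  letI alg := (f.residueFieldMap y).hom.toAlgebra
  haveI : Module.Finite (X.residueField (f y)) (Y.residueField y) := hfin
  have h1 : f.residueFieldMap y =
      CommRingCat.ofHom (algebraMap (X.residueField (f y)) (Y.residueField y)) := rfl
  rw [h1, Scheme.Hom.finrank_SpecMap_algebraMap, Module.rankAtStalk_eq_finrank_of_free]
  rfl

theorem snd_fiberι (y : Y) (z : (pullback.fst f p).fiber y) :
    pullback.snd f p ((pullback.fst f p).fiberι y z) = p.fiberι (f y) (fibMap f p y z) := by
  have h0 := congrArg (fun φ : (pullback.fst f p).fiber y ⟶ X' => φ z) (fibMap_fiberι f p y)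
  simp only [Scheme.Hom.comp_apply] at h0
  exact h0.symm

/-- the points of `Y ×_X X'` over `(y, x')` are the points of the fibre of `fibMap` over the
point `w` of the fibre of `p` corresponding to `x'`. -/
theorem bijOn_fiberι (y : Y) (x' : X') (w : p.fiber (f y)) (hw : p.fiberι (f y) w = x') :
    Set.BijOn ((pullback.fst f p).fiberι y) ((fibMap f p y) ⁻¹' {w})
      {y' : ↥(pullback f p) | pullback.fst f p y' = y ∧ pullback.snd f p y' = x'} := by
  refine ⟨?_, ?_, ?_⟩
  · intro z hz
    have hz' : fibMap f p y z = w := hz
    refine ⟨fiberι_mem (pullback.fst f p) y z, ?_⟩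
    rw [snd_fiberι f p y z, hz', hw]
  · exact ((pullback.fst f p).fiberι y).isEmbedding.injective.injOn
  · rintro y' ⟨hy1, hy2⟩
    have h2 : y' ∈ Set.range ((pullback.fst f p).fiberι y) := by
      rw [(pullback.fst f p).range_fiberι y]
      exact hy1
    obtain ⟨z, rfl⟩ := h2
    refine ⟨z, ?_, rfl⟩
    change fibMap f p y z = w
    apply (p.fiberι (f y)).isEmbedding.injective
    rw [← snd_fiberι f p y z, hy2, hw]

theorem exists_fiber_point (y : Y) (x' : X') (hx' : p x' = f y) :
    ∃ w : p.fiber (f y), p.fiberι (f y) w = x' := by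
  have h1 : x' ∈ Set.range (p.fiberι (f y)) := by
    rw [p.range_fiberι (f y)]
    exact hx'
  exact h1

theorem finite_pair (y : Y) (x' : X') (hx' : p x' = f y)
    (hfin : (f.residueFieldMap y).hom.Finite) :
    {y' : ↥(pullback f p) | pullback.fst f p y' = y ∧ pullback.snd f p y' = x'}.Finite := by
  obtain ⟨w, hw⟩ := exists_fiber_point f p y x' hx'
  haveI := isFinite_fibMap f p y hfin
  rw [← (bijOn_fiberι f p y x' w hw).image_eq]
  exact ((fibMap f p y).finite_preimage_singleton w).image _

/-- **Key identity.** -/
theorem key_identity (y : Y) (x' : X') (hx' : p x' = f y)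
    (hfin : (f.residueFieldMap y).hom.Finite) :
    ∑ᶠ y' ∈ {y' : ↥(pullback f p) | pullback.fst f p y' = y ∧ pullback.snd f p y' = x'},
      (mult (pullback.fst f p) y').toNat * (pullback.snd f p).residueDegree y' =
    f.residueDegree y * (mult p x').toNat := by
  -- the point of the fibre of `p`
  obtain ⟨w, hw⟩ := exists_fiber_point f p y x' hx'
  haveI := isFinite_fibMap f p y hfin
  haveI := flat_fibMap f p y
  have h1 := finsum_locDeg (fibMap f p y) w
  rw [finrank_fibMap f p y hfin w] at h1
  have hterm : ∀ z ∈ (fibMap f p y) ⁻¹' {w},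
      locDeg (fibMap f p y) z * (mult p x').toNat =
        (mult (pullback.fst f p) ((pullback.fst f p).fiberι y z)).toNat *
          (pullback.snd f p).residueDegree ((pullback.fst f p).fiberι y z) := by
    intro z hz
    have hz' : fibMap f p y z = w := hz
    -- lengths
    have e1 : mult (pullback.fst f p) ((pullback.fst f p).fiberι y z) =
        Module.length (((pullback.fst f p).fiber y).presheaf.stalk z)
          (((pullback.fst f p).fiber y).presheaf.stalk z) :=
      (length_stalk_fiber' (pullback.fst f p) ((pullback.fst f p).fiberι y z) y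
        (fiberι_mem (pullback.fst f p) y z) z rfl).symm
    have e2 := length_stalk_eq_mul (fibMap f p y) z
    have e3 : mult p x' = Module.length ((p.fiber (f y)).presheaf.stalk (fibMap f p y z))
          ((p.fiber (f y)).presheaf.stalk (fibMap f p y z)) := by
      rw [hz']
      exact (length_stalk_fiber' p x' (f y) hx' w hw).symm
    -- degrees
    have e4 : (fibMap f p y).residueDegree z =
        (pullback.snd f p).residueDegree ((pullback.fst f p).fiberι y z) :=
      residueDegree_square (fibMap f p y) (p.fiberι (f y)) ((pullback.fst f p).fiberι y)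
        (pullback.snd f p) (fibMap_fiberι f p y) z
        (Groth.Agent.Lib.Helper4.VarDim.residueFieldMap_bijective_of_isPreimmersion _ _)
        (Groth.Agent.Lib.Helper4.VarDim.residueFieldMap_bijective_of_isPreimmersion _ _)
    rw [e1, e2, ← e3, ENat.toNat_mul, locDeg, e4]
    ring
  rw [← h1, finsum_mem_mul, finsum_mem_congr rfl hterm]
  symm
  exact finsum_mem_eq_of_bijOn ((pullback.fst f p).fiberι y) (bijOn_fiberι f p y x' w hw)
    (fun _ _ => rfl)

/-- the residue field extension of `Y ×_X X' → X'` at a point over `y` is algebraic when that of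
`f` at `y` is finite. -/
theorem trdeg_snd_eq_zero_aux (y : Y) (hfin : (f.residueFieldMap y).hom.Finite)
    (z : (pullback.fst f p).fiber y) :
    @Algebra.IsAlgebraic ((p.fiber (f y)).residueField (fibMap f p y z))
      (((pullback.fst f p).fiber y).residueField z) _ _
      ((fibMap f p y).residueFieldMap z).hom.toAlgebra := by
  haveI := isFinite_fibMap f p y hfin
  exact Groth.Agent.R2.H9.PerfBC.isAlgebraic_residueFieldMap_of_isIntegralHom (fibMap f p y) z

end KI

end Groth.Agent.R2.H9.FlatBc
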