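import Mathlib
import Groth.Prelude.Def_Cyc
import Groth.Agent.R2.H9FlatBcA
import Groth.Agent.R2.H9PerfBCA

/-!
# Flat base change and proper pushforward of cycles, part B (helper9): the cycle identity

`pullFun_map_eq` : for `f : Y ⟶ X` proper, `p : X' ⟶ X` any morphism such that
`δ' x' ≤ δ (p x') + c` for all `x'`, and dimension functions on `Y`, `Y ×_X X'` induced along `f`
and its base change, `p^*(f_* α) = f'_*(q^* α)` on coefficient functions.
-/

set_option autoImplicit false
set_option linter.style.haveILetI false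

universe u

open AlgebraicGeometry CategoryTheory CategoryTheory.Limits

namespace Groth.Agent.R2.H9.FlatBc

open Groth.Agent.R2.H9.PerfBC

section Finsum

/-- summation along the fibres of a map. -/
theorem finsum_mem_fiberwise {α β M : Type*} [AddCommMonoid M] (s : Set α) (t : Set β)
    (φ : α → β) (hφ : Set.MapsTo φ s t) (T : α → M)
    (hfin : (s ∩ Function.support T).Finite) :
    ∑ᶠ a ∈ s, T a = ∑ᶠ b ∈ t, ∑ᶠ a ∈ s ∩ φ ⁻¹' {b}, T a := by
  classical
  set S := hfin.toFinset with hS
  have hSmem : ∀ a, a ∈ S ↔ a ∈ s ∧ T a ≠ 0 := by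
    intro a
    rw [hS, Set.Finite.mem_toFinset]
    rfl
  have h1 : ∑ᶠ a ∈ s, T a = ∑ a ∈ S, T a := by
    apply finsum_mem_eq_sum_of_inter_support_eq
    ext a
    simp only [Set.mem_inter_iff, Function.mem_support, Finset.mem_coe, hSmem]
    tauto
  have h2 : ∀ b, ∑ᶠ a ∈ s ∩ φ ⁻¹' {b}, T a = ∑ a ∈ S with φ a = b, T a := by
    intro b
    apply finsum_mem_eq_sum_of_inter_support_eq
    ext a
    simp only [Set.mem_inter_iff, Set.mem_preimage, Set.mem_singleton_iff, Function.mem_support,
      Finset.coe_filter, Set.mem_ofPred_eq, hSmem]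
    tauto
  have h3 : ∑ᶠ b ∈ t, ∑ᶠ a ∈ s ∩ φ ⁻¹' {b}, T a =
      ∑ b ∈ S.image φ, ∑ᶠ a ∈ s ∩ φ ⁻¹' {b}, T a := by
    apply finsum_mem_eq_sum_of_inter_support_eq
    ext b
    constructor
    · rintro ⟨hb, hne⟩
      have hne' := hne
      rw [Function.mem_support, h2 b] at hne'
      obtain ⟨a, ha, -⟩ := Finset.exists_ne_zero_of_sum_ne_zero hne'
      rw [Finset.mem_filter] at ha
      exact ⟨Finset.mem_coe.mpr (Finset.mem_image.mpr ⟨a, ha.1, ha.2⟩), hne⟩
    · rintro ⟨hb, hne⟩
      obtain ⟨a, ha, rfl⟩ := Finset.mem_image.mp (Finset.mem_coe.mp hb)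
      exact ⟨hφ ((hSmem a).mp ha).1, hne⟩
  rw [h1, h3]
  simp_rw [h2]
  exact (Finset.sum_fiberwise_of_maps_to (fun a ha => Finset.mem_image_of_mem φ ha) T).symm

end Finsum

section Alg

/-- algebraicity of residue field extensions in a commutative square whose vertical maps induce
isomorphisms on residue fields. -/
theorem trdeg_square {A B C D : Scheme.{u}} (a : A ⟶ B) (b : B ⟶ D) (c : A ⟶ C) (d : C ⟶ D)
    (h : a ≫ b = c ≫ d) (z : A)
    (hb : Function.Bijective (b.residueFieldMap (a z)).hom)
    (hc : Function.Bijective (c.residueFieldMap z).hom)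
    (ha : @Algebra.IsAlgebraic (B.residueField (a z)) (A.residueField z) _ _
      (a.residueFieldMap z).hom.toAlgebra) :
    @Algebra.trdeg (D.residueField (d (c z))) (C.residueField (c z)) _ _
      (d.residueFieldMap (c z)).hom.toAlgebra = 0 := by
  have e1 := trdeg_comp a b z
  have e2 := trdeg_comp c d z
  have z1 : @Algebra.trdeg (B.residueField (a z)) (A.residueField z) _ _
      (a.residueFieldMap z).hom.toAlgebra = 0 :=
    @trdeg_eq_zero _ _ _ _ (a.residueFieldMap z).hom.toAlgebra ha
  have z2 : @Algebra.trdeg (D.residueField (b (a z))) (B.residueField (a z)) _ _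
      (b.residueFieldMap (a z)).hom.toAlgebra = 0 := by
    letI := (b.residueFieldMap (a z)).hom.toAlgebra
    haveI : Algebra.IsIntegral (D.residueField (b (a z))) (B.residueField (a z)) :=
      Algebra.isIntegral_of_surjective hb.2
    haveI : Algebra.IsAlgebraic (D.residueField (b (a z))) (B.residueField (a z)) :=
      Algebra.IsIntegral.isAlgebraic
    exact trdeg_eq_zero
  rw [z1, z2, add_zero] at e1
  have key : ∀ (m₁ m₂ : A ⟶ D), m₁ = m₂ →
      @Algebra.trdeg (D.residueField (m₁ z)) (A.residueField z) _ _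
        (m₁.residueFieldMap z).hom.toAlgebra =
      @Algebra.trdeg (D.residueField (m₂ z)) (A.residueField z) _ _
        (m₂.residueFieldMap z).hom.toAlgebra := by
    rintro _ _ rfl
    rfl
  rw [← key _ _ h, ← e1] at e2
  exact (add_eq_zero.mp e2).1

end Alg

section Core

variable {X X' Y : Scheme.{u}} (f : Y ⟶ X) (p : X' ⟶ X)

/-- the support of a cycle meets a fibre of a quasi-compact morphism in a finite set. -/
theorem finite_fibre_inter_support {A B : Scheme.{u}} (g : A ⟶ B) [QuasiCompact g]
    (β : AlgebraicCycle A ℤ) (b : B) :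
    (g ⁻¹' {b} ∩ Function.support (⇑β : A → ℤ)).Finite := by
  obtain ⟨V, hV, hbV, -⟩ := exists_isAffineOpen_mem_and_subset (U := ⊤) (x := b) trivial
  have hc : IsCompact ((g ⁻¹ᵁ V : A.Opens) : Set A) :=
    QuasiCompact.isCompact_preimage (f := g) _ V.isOpen hV.isCompact
  have h1 := (Function.locallyFinsupp.locallyFiniteSupport β).finite_inter_support_of_isCompact hc
  apply h1.subset
  rintro a ⟨ha, hsa⟩
  refine ⟨?_, hsa⟩
  change g a ∈ V
  rw [show g a = b from ha]
  exact hbV

/-- residue field extensions of a morphism locally of finite type are finite where their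
transcendence degree vanishes. -/
theorem finite_residueFieldMap_of_trdeg_eq_zero {A B : Scheme.{u}} (g : A ⟶ B)
    [LocallyOfFiniteType g] (a : A)
    (h0 : @Algebra.trdeg (B.residueField (g a)) (A.residueField a) _ _
      (g.residueFieldMap a).hom.toAlgebra = 0) :
    (g.residueFieldMap a).hom.Finite := by
  letI alg := (g.residueFieldMap a).hom.toAlgebra
  have hess : (g.residueFieldMap a).hom.EssFiniteType :=
    RingHom.EssFiniteType.residueFieldMap (LocallyOfFiniteType.stalkMap g a)
  haveI : Algebra.EssFiniteType (B.residueField (g a)) (A.residueField a) := hess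
  haveI : Algebra.IsAlgebraic (B.residueField (g a)) (A.residueField a) :=
    trdeg_eq_zero_iff.mp h0
  exact Algebra.finite_of_essFiniteType_of_isAlgebraic
    (F := B.residueField (g a)) (E := A.residueField a)

/-- the residue field extension of `Y ×_X X' → X'` at a point over `y` has transcendence degree
`0` when that of `f` at `y` is finite. -/
theorem trdeg_snd_eq_zero (y : Y) (hfin : (f.residueFieldMap y).hom.Finite)
    (y' : ↥(pullback f p)) (hy' : pullback.fst f p y' = y) :
    @Algebra.trdeg (X'.residueField (pullback.snd f p y')) ((pullback f p).residueField y') _ _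
      ((pullback.snd f p).residueFieldMap y').hom.toAlgebra = 0 := by
  have h2 : y' ∈ Set.range ((pullback.fst f p).fiberι y) := by
    rw [(pullback.fst f p).range_fiberι y]
    exact hy'
  obtain ⟨z, rfl⟩ := h2
  exact trdeg_square (fibMap f p y) (p.fiberι (f y)) ((pullback.fst f p).fiberι y)
    (pullback.snd f p) (fibMap_fiberι f p y) z
    (Groth.Agent.Lib.Helper4.VarDim.residueFieldMap_bijective_of_isPreimmersion _ _)
    (Groth.Agent.Lib.Helper4.VarDim.residueFieldMap_bijective_of_isPreimmersion _ _)
    (trdeg_snd_eq_zero_aux f p y hfin z)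

/-- **Flat base change commutes with proper pushforward on cycles** (no flatness is needed at the
level of coefficient functions; only the bound `δ' ≤ δ ∘ p + c`). -/
theorem pullFun_map_eq [IsProper f]
    (δ : X → ℤ) (δ' : X' → ℤ) (δY : Y → ℤ) (δY' : ↥(pullback f p) → ℤ)
    (hf : Cyc.DeltaCompat f δY δ) (hf' : Cyc.DeltaCompat (pullback.snd f p) δY' δ')
    (c : ℤ) (hB : ∀ x' : X', δ' x' ≤ δ (p x') + c)
    (α : AlgebraicCycle Y ℤ) (α' : AlgebraicCycle (pullback f p) ℤ)
    (hα' : ⇑α' = Cyc.pullFun (pullback.fst f p) δY' δY c ⇑α) :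
    Cyc.pullFun p δ' δ c ⇑(AlgebraicCycle.map f δY δ α) =
      ⇑(AlgebraicCycle.map (pullback.snd f p) δY' δ' α') := by
  classical
  funext x'
  have hcomm : ∀ y' : ↥(pullback f p), f (pullback.fst f p y') = p (pullback.snd f p y') := by
    intro y'
    have h0 := congrArg (fun φ : pullback f p ⟶ X => φ y') (pullback.condition (f := f) (g := p))
    simpa only [Scheme.Hom.comp_apply] using h0
  have hge : ∀ y : Y, δ (f y) ≤ δY y := by
    intro y
    obtain ⟨n, -, hn⟩ := hf y
    rw [hn]
    omega
  change _ = ∑ᶠ y' ∈ (pullback.snd f p) ⁻¹' {x'},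
    α' y' * ((AlgebraicCycle.mapCoeff (pullback.snd f p) δY' δ' y' : ℕ) : ℤ)
  -- the terms upstairs
  have hT : ∀ y' : ↥(pullback f p), pullback.snd f p y' = x' →
      α' y' * ((AlgebraicCycle.mapCoeff (pullback.snd f p) δY' δ' y' : ℕ) : ℤ) =
      if δY' y' = δY (pullback.fst f p y') + c ∧ δY' y' = δ' x' then
        α (pullback.fst f p y') * (((mult (pullback.fst f p) y').toNat *
          (pullback.snd f p).residueDegree y' : ℕ) : ℤ)
      else 0 := by
    intro y' hy'x
    rw [hα']
    simp only [Cyc.pullFun, AlgebraicCycle.mapCoeff, hy'x]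
    by_cases h1 : δY' y' = δY (pullback.fst f p y') + c
    · by_cases h2 : δY' y' = δ' x'
      · rw [if_pos h1, if_pos h2, if_pos ⟨h1, h2⟩]
        push_cast
        rw [mult]
        ring
      · have hn : ¬ (δY' y' = δY (pullback.fst f p y') + c ∧ δY' y' = δ' x') := fun hh => h2 hh.2
        rw [if_neg h2, if_neg hn]
        simp
    · have hn : ¬ (δY' y' = δY (pullback.fst f p y') + c ∧ δY' y' = δ' x') := fun hh => h1 hh.1
      rw [if_neg h1, if_neg hn]
      simp
  by_cases h : δ' x' = δ (p x') + c
  swap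
  · -- case B
    have hL : Cyc.pullFun p δ' δ c ⇑(AlgebraicCycle.map f δY δ α) x' = 0 := by
      simp only [Cyc.pullFun]
      rw [if_neg h]
    rw [hL]
    symm
    apply finsum_mem_eq_zero_of_forall_eq_zero
    intro y' hy'
    have hy'x : pullback.snd f p y' = x' := hy'
    rw [hT y' hy'x, if_neg]
    rintro ⟨h1, h2⟩
    have h3 := hge (pullback.fst f p y')
    rw [hcomm, hy'x] at h3
    have h4 := hB x'
    omega
  · -- case A
    have hL : Cyc.pullFun p δ' δ c ⇑(AlgebraicCycle.map f δY δ α) x' =
        (∑ᶠ y ∈ f ⁻¹' {p x'}, α y * ((AlgebraicCycle.mapCoeff f δY δ y : ℕ) : ℤ)) *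
          ((mult p x').toNat : ℤ) := by
      simp only [Cyc.pullFun]
      rw [if_pos h]
      rfl
    rw [hL, finsum_mem_mul]
    have hmaps : Set.MapsTo (pullback.fst f p) ((pullback.snd f p) ⁻¹' {x'}) (f ⁻¹' {p x'}) := by
      intro y' hy'
      have hy'x : pullback.snd f p y' = x' := hy'
      change f (pullback.fst f p y') = p x'
      rw [hcomm, hy'x]
    have hfinT : ((pullback.snd f p) ⁻¹' {x'} ∩ Function.support (fun y' : ↥(pullback f p) =>
        α' y' * ((AlgebraicCycle.mapCoeff (pullback.snd f p) δY' δ' y' : ℕ) : ℤ))).Finite := by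
      apply (finite_fibre_inter_support (pullback.snd f p) α' x').subset
      rintro y' ⟨hy', hs⟩
      refine ⟨hy', ?_⟩
      rw [Function.mem_support] at hs ⊢
      intro h0
      apply hs
      rw [h0, zero_mul]
    rw [finsum_mem_fiberwise ((pullback.snd f p) ⁻¹' {x'}) (f ⁻¹' {p x'}) (pullback.fst f p)
      hmaps _ hfinT]
    apply finsum_mem_congr rfl
    intro y hy
    have hyx : f y = p x' := hy
    have hset : (pullback.snd f p) ⁻¹' {x'} ∩ (pullback.fst f p) ⁻¹' {y} =
        {y' : ↥(pullback f p) | pullback.fst f p y' = y ∧ pullback.snd f p y' = x'} := by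
      ext y'
      simp only [Set.mem_inter_iff, Set.mem_preimage, Set.mem_singleton_iff, Set.mem_ofPred_eq]
      tauto
    rw [hset]
    by_cases hy0 : δY y = δ (f y)
    · -- finite residue field extension
      have htr : @Algebra.trdeg (X.residueField (f y)) (Y.residueField y) _ _
          (f.residueFieldMap y).hom.toAlgebra = 0 := by
        obtain ⟨n, hn, hδn⟩ := hf y
        have hn0 : n = 0 := by omega
        rw [hn, hn0]
        simp
      have hfin := finite_residueFieldMap_of_trdeg_eq_zero f y htr
      have hKI := key_identity f p y x' hyx.symm hfin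
      have hterm : ∀ y' ∈ {y' : ↥(pullback f p) | pullback.fst f p y' = y ∧
          pullback.snd f p y' = x'},
          α' y' * ((AlgebraicCycle.mapCoeff (pullback.snd f p) δY' δ' y' : ℕ) : ℤ) =
          α y * (((mult (pullback.fst f p) y').toNat *
            (pullback.snd f p).residueDegree y' : ℕ) : ℤ) := by
        rintro y' ⟨hy1, hy2⟩
        rw [hT y' hy2, hy1, if_pos]
        have h2 : δY' y' = δ' x' := by
          obtain ⟨n', hn', hδn'⟩ := hf' y'
          have h0 := trdeg_snd_eq_zero f p y hfin y' hy1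
          rw [hn'] at h0
          have hn0 : n' = 0 := by exact_mod_cast h0
          rw [hδn', hn0, hy2]
          simp
        refine ⟨?_, h2⟩
        rw [h2, h, ← hyx, hy0]
      rw [finsum_mem_congr rfl hterm, ← mul_finsum_mem,
        ← Nat.cast_finsum_mem (finite_pair f p y x' hyx.symm hfin), hKI]
      simp only [AlgebraicCycle.mapCoeff]
      rw [if_pos hy0]
      push_cast
      ring
    · -- the term downstairs vanishes
      have hmc : AlgebraicCycle.mapCoeff f δY δ y = 0 := by
        simp only [AlgebraicCycle.mapCoeff]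
        rw [if_neg hy0]
      rw [hmc]
      simp only [Nat.cast_zero, mul_zero, zero_mul]
      symm
      apply finsum_mem_eq_zero_of_forall_eq_zero
      rintro y' ⟨hy1, hy2⟩
      rw [hT y' hy2, if_neg]
      rintro ⟨h1, h2⟩
      apply hy0
      rw [hy1] at h1
      rw [hyx]
      omega

end Core

end Groth.Agent.R2.H9.FlatBc
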