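import Mathlib
import Groth.Agent.R2.H9StalkGen

/-!
# Lengths of localizations at minimal primes, part A (helper9)

`Q p T`: every localization of `T` at a minimal prime has length a power of `p`.
Invariance under ring isomorphisms, domains, reduced rings.
-/

set_option autoImplicit false
set_option linter.style.haveILetI false

universe u

namespace Groth.Agent.R2.H9.PowLen

/-- every localization at a minimal prime has length a power of `p`. -/
def Q (p : ℕ) (T : Type*) [CommRing T] : Prop :=
  ∀ (q : Ideal T) [q.IsPrime], q ∈ minimalPrimes T →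
    ∃ n : ℕ, Module.length (Localization.AtPrime q) (Localization.AtPrime q) = (p ^ n : ℕ)

theorem length_field {K : Type*} [CommRing K] (hK : IsField K) : Module.length K K = 1 := by
  letI := hK.toField
  rw [Module.length_eq_one_iff]
  infer_instance

theorem mem_minimalPrimes_comap_ringEquiv {T T' : Type*} [CommRing T] [CommRing T']
    (e : T ≃+* T') (q' : Ideal T') (hq' : q' ∈ minimalPrimes T') :
    q'.comap (e : T →+* T') ∈ minimalPrimes T := by
  haveI := hq'.1.1
  refine ⟨⟨inferInstance, bot_le⟩, ?_⟩
  intro r ⟨hr, _⟩ hle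
  haveI := hr
  have h1 : r.comap (e.symm : T' →+* T) ≤ q' := by
    intro x hx
    have h2 := hle hx
    rw [Ideal.mem_comap] at h2
    simpa using h2
  have h3 := hq'.2 ⟨inferInstance, bot_le⟩ h1
  intro x hx
  rw [Ideal.mem_comap] at hx
  have h4 := h3 hx
  rw [Ideal.mem_comap] at h4
  simpa using h4

theorem Q_of_ringEquiv (p : ℕ) {T T' : Type*} [CommRing T] [CommRing T'] (e : T ≃+* T')
    (h : Q p T) : Q p T' := by
  intro q' hq'p hq'
  have hq := mem_minimalPrimes_comap_ringEquiv e q' hq'
  haveI : (q'.comap (e : T →+* T')).IsPrime := hq.1.1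
  obtain ⟨n, hn⟩ := h (q'.comap (e : T →+* T')) hq
  refine ⟨n, ?_⟩
  rw [← hn]
  exact (Groth.Agent.R2.H9.StalkGen.length_self_eq_of_ringEquiv
    (Localization.localRingEquiv (q'.comap (e : T →+* T')) q' e rfl)).symm

/-- a domain satisfies `Q`. -/
theorem Q_of_isDomain (p : ℕ) (T : Type*) [CommRing T] [IsDomain T] : Q p T := by
  intro q hqp hq
  have hq0 : q = ⊥ := by
    have h1 := hq.2 (⟨Ideal.isPrime_bot, le_refl _⟩ : (⊥ : Ideal T).IsPrime ∧ ⊥ ≤ ⊥) bot_le
    exact le_antisymm h1 bot_le
  refine ⟨0, ?_⟩
  rw [pow_zero, Nat.cast_one]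
  apply length_field
  haveI : IsDomain (Localization.AtPrime q) :=
    IsLocalization.isDomain_of_atPrime (Localization.AtPrime q) q
  haveI : Ring.KrullDimLE 0 (Localization.AtPrime q) :=
    Ring.KrullDimLE.of_isLocalization q hq (Localization.AtPrime q)
  exact Ring.KrullDimLE.isField_of_isDomain

/-- a reduced ring satisfies `Q`. -/
theorem Q_of_isReduced (p : ℕ) (T : Type*) [CommRing T] [IsReduced T] : Q p T := by
  intro q hqp hq
  refine ⟨0, ?_⟩
  rw [pow_zero, Nat.cast_one]
  apply length_field
  haveI : IsReduced (Localization.AtPrime q) := inferInstance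
  haveI : Ring.KrullDimLE 0 (Localization.AtPrime q) :=
    Ring.KrullDimLE.of_isLocalization q hq (Localization.AtPrime q)
  exact Ring.KrullDimLE.isField_of_isReduced

end Groth.Agent.R2.H9.PowLen
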