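import Mathlib
import Groth.Agent.R2.H9PowLenA
import Groth.Agent.R2.H9FlatLen

/-!
# Lengths of localizations at minimal primes, part B (helper9): the tower lemma

If `S` is flat over `R`, `R` satisfies `Q p` and all the fibres of `S` over minimal primes of `R`
satisfy `Q p`, then `S` satisfies `Q p`.
-/

set_option autoImplicit false
set_option linter.style.haveILetI false

universe u

open TensorProduct

namespace Groth.Agent.R2.H9.PowLen

section Tower

variable {R S : Type*} [CommRing R] [CommRing S] [Algebra R S]

/-- the prime of `S` under a prime of the fibre lies over `P`. -/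
theorem comap_includeRight_under (P : Ideal R) [P.IsPrime] (q : Ideal (P.Fiber S)) [q.IsPrime] :
    P = (q.comap (Algebra.TensorProduct.includeRight : S →ₐ[R] P.Fiber S)).comap
      (algebraMap R S) := by
  have h1 : q.under R = P := (Ideal.over_def q P).symm
  refine h1.symm.trans ?_
  ext x
  simp only [Ideal.mem_comap, Ideal.under]
  rw [AlgHom.commutes]

/-- multiplicativity of the length for a flat algebra: the length of the local ring of `S` at the
prime under a prime `q` of the fibre over `P` is the product of the length of `R_P` and the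
length of the local ring of the fibre at `q`. -/
theorem length_localization_fiber [Module.Flat R S] (P : Ideal R) [P.IsPrime]
    (q : Ideal (P.Fiber S)) [q.IsPrime] :
    Module.length
        (Localization.AtPrime (q.comap (Algebra.TensorProduct.includeRight : S →ₐ[R] P.Fiber S)))
        (Localization.AtPrime (q.comap (Algebra.TensorProduct.includeRight : S →ₐ[R] P.Fiber S))) =
      Module.length (Localization.AtPrime P) (Localization.AtPrime P) *
        Module.length (Localization.AtPrime q) (Localization.AtPrime q) := by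
  set r : Ideal S := q.comap (Algebra.TensorProduct.includeRight : S →ₐ[R] P.Fiber S) with hr
  have hPr : P = r.comap (algebraMap R S) := comap_includeRight_under P q
  let φ : Localization.AtPrime P →+* Localization.AtPrime r :=
    Localization.localRingHom P r (algebraMap R S) hPr
  haveI : IsLocalHom φ := Localization.isLocalHom_localRingHom P r (algebraMap R S) hPr
  have hflat : φ.Flat :=
    RingHom.Flat.localRingHom (f := algebraMap R S)
      (by rw [RingHom.flat_algebraMap_iff]; infer_instance) r P hPr
  have h1 := Groth.Agent.R2.H9.FlatLen.length_quot_map φ hflat ⊥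
  -- the left hand side
  have h2 : Module.length (Localization.AtPrime r)
      (Localization.AtPrime r ⧸ (⊥ : Ideal (Localization.AtPrime P)).map φ) =
      Module.length (Localization.AtPrime r) (Localization.AtPrime r) := by
    rw [Ideal.map_bot]
    exact (Submodule.quotEquivOfEqBot (⊥ : Ideal (Localization.AtPrime r)) rfl).length_eq
  have h3 : Module.length (Localization.AtPrime P)
      (Localization.AtPrime P ⧸ (⊥ : Ideal (Localization.AtPrime P))) =
      Module.length (Localization.AtPrime P) (Localization.AtPrime P) :=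
    (Submodule.quotEquivOfEqBot (⊥ : Ideal (Localization.AtPrime P)) rfl).length_eq
  rw [h2, h3] at h1
  rw [h1]
  congr 1
  -- the fibre
  have hmap : (IsLocalRing.maximalIdeal (Localization.AtPrime P)).map φ =
      (P.map (algebraMap R S)).map (algebraMap S (Localization.AtPrime r)) := by
    rw [← Localization.AtPrime.map_eq_maximalIdeal, Ideal.map_map, Ideal.map_map]
    congr 1
    ext x
    simp only [RingHom.comp_apply]
    exact Localization.localRingHom_to_map P r (algebraMap R S) hPr x
  rw [hmap]
  have e := Ideal.Fiber.algEquivAux₂ P q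
  have h4 := Groth.Agent.R2.H9.StalkGen.length_self_eq_of_ringEquiv
    (R := Localization.AtPrime q)
    (S := Localization.AtPrime r ⧸
      (P.map (algebraMap R S)).map (algebraMap S (Localization.AtPrime r))) e.toRingEquiv
  rw [h4]
  exact Module.length_eq_of_surjective Ideal.Quotient.mk_surjective

theorem length_atPrime_congr {T : Type*} [CommRing T] (I J : Ideal T) [I.IsPrime] [J.IsPrime]
    (h : I = J) :
    Module.length (Localization.AtPrime I) (Localization.AtPrime I) =
      Module.length (Localization.AtPrime J) (Localization.AtPrime J) := by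
  subst h
  rfl

/-- going down for flat algebras: a minimal prime lies over a minimal prime. -/
theorem under_mem_minimalPrimes [Module.Flat R S] (𝔮 : Ideal S) [𝔮.IsPrime]
    (h𝔮 : 𝔮 ∈ minimalPrimes S) : 𝔮.under R ∈ minimalPrimes R := by
  refine ⟨⟨inferInstance, bot_le⟩, ?_⟩
  intro P' hP' hle
  haveI : P'.IsPrime := hP'.1
  obtain ⟨𝔮', h𝔮'le, h𝔮'p, h𝔮'o⟩ :=
    Ideal.exists_ideal_le_liesOver_of_le (p := P') (q := 𝔮.under R) 𝔮 hle
  have h1 : 𝔮 ≤ 𝔮' := h𝔮.2 ⟨h𝔮'p, bot_le⟩ h𝔮'le
  rw [h𝔮'o.over]
  exact Ideal.comap_mono h1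

/-- **Tower lemma**: if `S` is flat over `R`, `R` satisfies `Q p` and the fibres of `S` over the
minimal primes of `R` satisfy `Q p`, then `S` satisfies `Q p`. -/
theorem Q_of_flat_of_fiber (p : ℕ) [Module.Flat R S] (hR : Q p R)
    (hfib : ∀ (P : Ideal R) [P.IsPrime], P ∈ minimalPrimes R → Q p (P.Fiber S)) : Q p S := by
  intro 𝔮 _ h𝔮
  have hP := under_mem_minimalPrimes (R := R) 𝔮 h𝔮
  let q0 : (𝔮.under R).primesOver S := ⟨𝔮, ⟨inferInstance, ⟨rfl⟩⟩⟩
  let e := PrimeSpectrum.primesOverOrderIsoFiber R S (𝔮.under R)
  let q' : PrimeSpectrum ((𝔮.under R).Fiber S) := e q0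
  have hq' : q'.asIdeal.comap
      (Algebra.TensorProduct.includeRight : S →ₐ[R] (𝔮.under R).Fiber S) = 𝔮 := by
    have h1 := PrimeSpectrum.coe_primesOverOrderIsoFiber_symm_apply (p := 𝔮.under R) (S := S) q'
    have h2 : e.symm q' = q0 := e.symm_apply_apply q0
    rw [← h1]
    exact congrArg Subtype.val h2
  have hmin : q'.asIdeal ∈ minimalPrimes ((𝔮.under R).Fiber S) := by
    refine ⟨⟨q'.2, bot_le⟩, ?_⟩
    intro q'' hq'' hle
    let Q'' : PrimeSpectrum ((𝔮.under R).Fiber S) := ⟨q'', hq''.1⟩
    have h1 : Q'' ≤ q' := hle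
    have h2 : e.symm Q'' ≤ e.symm q' := e.symm.monotone h1
    rw [show e.symm q' = q0 from e.symm_apply_apply q0] at h2
    have h2' : (e.symm Q'').1 ≤ 𝔮 := h2
    have h3 : 𝔮 ≤ (e.symm Q'').1 := h𝔮.2 ⟨(e.symm Q'').2.1, bot_le⟩ h2'
    have h4 : e.symm Q'' = q0 := Subtype.ext (le_antisymm h2' h3)
    have h5 : Q'' = q' := by
      rw [← e.apply_symm_apply Q'', h4]
    have h6 : q' ≤ Q'' := h5 ▸ le_refl _
    exact h6
  haveI : q'.asIdeal.IsPrime := q'.2
  obtain ⟨n1, hn1⟩ := hR (𝔮.under R) hP
  obtain ⟨n2, hn2⟩ := hfib (𝔮.under R) hP q'.asIdeal hmin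
  have hlen := length_localization_fiber (𝔮.under R) q'.asIdeal
  haveI : (q'.asIdeal.comap
      (Algebra.TensorProduct.includeRight : S →ₐ[R] (𝔮.under R).Fiber S)).IsPrime :=
    Ideal.comap_isPrime _ _
  rw [length_atPrime_congr _ 𝔮 hq', hn1, hn2] at hlen
  refine ⟨n1 + n2, ?_⟩
  rw [hlen, pow_add]
  push_cast
  rfl

end Tower

end Groth.Agent.R2.H9.PowLen
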