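import Mathlib
import Groth.Agent.R2.H9PowLenB
import Groth.Agent.R2.H9FinAlgLen

/-!
# Lengths of localizations at minimal primes, part C (helper9): field extensions

`P p F L`: for every field extension `F'` of `F`, all localizations of `F' ⊗[F] L` at minimal
primes have length a power of `p`.  Transitivity in towers, finite separable extensions, finite
purely inseparable extensions.
-/

set_option autoImplicit false
set_option linter.style.haveILetI false

universe u

open TensorProduct

namespace Groth.Agent.R2.H9.PowLen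

/-- for every field extension `F'` of `F`, `F' ⊗[F] L` satisfies `Q p`. -/
def P (p : ℕ) (F L : Type u) [Field F] [CommRing L] [Algebra F L] : Prop :=
  ∀ (F' : Type u) [Field F'] [Algebra F F'], Q p (F' ⊗[F] L)

/-- base change of an algebra satisfying `P` along a ring satisfying `Q`. -/
theorem Q_baseChange (p : ℕ) (M L : Type u) [Field M] [CommRing L] [Algebra M L]
    (hML : P p M L) (R : Type u) [CommRing R] [Algebra M R] (hR : Q p R) :
    Q p (R ⊗[M] L) := by
  apply Q_of_flat_of_fiber p (R := R) (S := R ⊗[M] L) hR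
  intro 𝔭 _ _
  exact Q_of_ringEquiv p
    (Algebra.TensorProduct.cancelBaseChange M R 𝔭.ResidueField 𝔭.ResidueField L).symm.toRingEquiv
    (hML 𝔭.ResidueField)

/-- transitivity of `P` in towers. -/
theorem P_trans (p : ℕ) (k M L : Type u) [Field k] [Field M] [CommRing L] [Algebra k M]
    [Algebra M L] [Algebra k L] [IsScalarTower k M L] (hkM : P p k M) (hML : P p M L) :
    P p k L := by
  intro F' _ _
  have h1 : Q p (M ⊗[k] F') :=
    Q_of_ringEquiv p (Algebra.TensorProduct.comm k F' M).toRingEquiv (hkM F')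
  have h2 : Q p ((M ⊗[k] F') ⊗[M] L) := Q_baseChange p M L hML (M ⊗[k] F') h1
  have h3 : Q p (L ⊗[M] (M ⊗[k] F')) :=
    Q_of_ringEquiv p (Algebra.TensorProduct.comm M (M ⊗[k] F') L).toRingEquiv h2
  have h4 : Q p (L ⊗[k] F') :=
    Q_of_ringEquiv p (Algebra.TensorProduct.cancelBaseChange k M M L F').toRingEquiv h3
  exact Q_of_ringEquiv p (Algebra.TensorProduct.comm k L F').toRingEquiv h4

/-- finite separable extensions. -/
theorem P_of_isSeparable (p : ℕ) (F L : Type u) [Field F] [Field L] [Algebra F L]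
    [FiniteDimensional F L] [Algebra.IsSeparable F L] : P p F L := by
  intro F' _ _
  haveI : Algebra.FormallyUnramified F L := Algebra.FormallyUnramified.of_isSeparable F L
  haveI : Algebra.FormallyUnramified F' (F' ⊗[F] L) := inferInstance
  haveI : Algebra.EssFiniteType F' (F' ⊗[F] L) := inferInstance
  haveI : IsReduced (F' ⊗[F] L) := Algebra.FormallyUnramified.isReduced_of_field F' (F' ⊗[F] L)
  exact Q_of_isReduced p _

/-- a natural number dividing a power of an exponential characteristic is such a power. -/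
theorem eq_pow_of_dvd_pow {p : ℕ} (hp : p.Prime ∨ p = 1) {n m : ℕ} (h : n ∣ p ^ m) :
    ∃ j : ℕ, n = p ^ j := by
  rcases hp with hp | hp
  · obtain ⟨j, _, hj⟩ := (Nat.dvd_prime_pow hp).mp h
    exact ⟨j, hj⟩
  · subst hp
    rw [one_pow, Nat.dvd_one] at h
    exact ⟨0, by rw [h, pow_zero]⟩

/-- finite purely inseparable extensions. -/
theorem P_of_isPurelyInseparable (p : ℕ) (F L : Type u) [Field F] [Field L] [Algebra F L]
    [ExpChar F p] [FiniteDimensional F L] [IsPurelyInseparable F L] : P p F L := by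
  intro F' _ _ q _ hq
  have hhomeo := PrimeSpectrum.isHomeomorph_comap_of_isPurelyInseparable F L F'
  have huniq : ∀ q' : PrimeSpectrum (F' ⊗[F] L), q' = ⟨q, inferInstance⟩ := fun q' =>
    hhomeo.injective (Subsingleton.elim _ _)
  haveI : Nontrivial (F' ⊗[F] L) := by
    by_contra hnon
    rw [not_nontrivial_iff_subsingleton] at hnon
    exact (inferInstance : q.IsPrime).ne_top (Subsingleton.elim _ _)
  -- the ring is local with maximal ideal `q`
  haveI : IsLocalRing (F' ⊗[F] L) := by
    obtain ⟨m, hm⟩ := Ideal.exists_maximal (F' ⊗[F] L)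
    refine IsLocalRing.of_unique_max_ideal ⟨m, hm, fun I hI => ?_⟩
    have h1 := huniq ⟨I, hI.isPrime⟩
    have h2 := huniq ⟨m, hm.isPrime⟩
    exact congrArg PrimeSpectrum.asIdeal (h1.trans h2.symm)
  have hqmax : q = IsLocalRing.maximalIdeal (F' ⊗[F] L) := by
    have h1 := huniq (IsLocalRing.closedPoint (F' ⊗[F] L))
    exact (congrArg PrimeSpectrum.asIdeal h1).symm
  -- the localization is the ring itself
  have hunits : q.primeCompl ≤ IsUnit.submonoid (F' ⊗[F] L) := by
    intro x hx
    rw [IsUnit.mem_submonoid_iff]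
    have hx' : x ∉ IsLocalRing.maximalIdeal (F' ⊗[F] L) := hqmax ▸ hx
    simpa using hx'
  have e : (F' ⊗[F] L) ≃ₐ[F' ⊗[F] L] Localization.AtPrime q :=
    IsLocalization.atUnits (F' ⊗[F] L) q.primeCompl hunits
  have hlen : Module.length (Localization.AtPrime q) (Localization.AtPrime q) =
      Module.length (F' ⊗[F] L) (F' ⊗[F] L) :=
    (Groth.Agent.R2.H9.StalkGen.length_self_eq_of_ringEquiv e.toRingEquiv).symm
  rw [hlen]
  -- the dimension count
  have hfr := Groth.Agent.R2.H9.FinAlgLen.finrank_eq_length_mul_finrank F' (F' ⊗[F] L)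
  rw [Module.finrank_baseChange] at hfr
  obtain ⟨m, hm⟩ := IsPurelyInseparable.finrank_eq_pow (F := F) L p
  rw [hm] at hfr
  have hp := expChar_is_prime_or_one F p
  have hpos : 0 < p ^ m := by
    rcases hp with hp | hp
    · exact pow_pos hp.pos m
    · subst hp
      simp
  have hdvd : (Module.length (F' ⊗[F] L) (F' ⊗[F] L)).toNat ∣ p ^ m := ⟨_, hfr⟩
  obtain ⟨j, hj⟩ := eq_pow_of_dvd_pow hp hdvd
  refine ⟨j, ?_⟩
  have hne : Module.length (F' ⊗[F] L) (F' ⊗[F] L) ≠ ⊤ := by
    intro htop
    rw [htop, ENat.toNat_top, zero_mul] at hfr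
    omega
  rw [← ENat.natCast_toNat hne, hj]

end Groth.Agent.R2.H9.PowLen
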