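import Mathlib
import Groth.Agent.R2.H9PowLenC
import Groth.Agent.R2.H9FinAlgLen

/-!
# Lengths of the local rings of `κ ⊗[k] k'` divide the inseparable degree (helper9)

For a finite field extension `k'/k` and any field extension `κ/k`, the local rings of
`κ ⊗[k] k'` have finite length dividing `[k' : k]_i`.
-/

set_option autoImplicit false
set_option linter.style.haveILetI false

universe u

open TensorProduct

namespace Groth.Agent.R2.H9.GalCyc

open Groth.Agent.R2.H9.PowLen

/-- every localization at a minimal prime has finite length dividing `d`. -/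
def D (d : ℕ) (T : Type*) [CommRing T] : Prop :=
  ∀ (q : Ideal T) [q.IsPrime], q ∈ minimalPrimes T →
    ∃ m : ℕ, Module.length (Localization.AtPrime q) (Localization.AtPrime q) = (m : ℕ∞) ∧ m ∣ d

theorem D_of_ringEquiv (d : ℕ) {T T' : Type*} [CommRing T] [CommRing T'] (e : T ≃+* T')
    (h : D d T) : D d T' := by
  intro q' hq'p hq'
  have hq := mem_minimalPrimes_comap_ringEquiv e q' hq'
  haveI : (q'.comap (e : T →+* T')).IsPrime := hq.1.1
  obtain ⟨m, hm, hd⟩ := h (q'.comap (e : T →+* T')) hq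
  refine ⟨m, ?_, hd⟩
  rw [← hm]
  exact (Groth.Agent.R2.H9.StalkGen.length_self_eq_of_ringEquiv
    (Localization.localRingEquiv (q'.comap (e : T →+* T')) q' e rfl)).symm

/-- a reduced ring satisfies `D 1`. -/
theorem D_of_isReduced (T : Type*) [CommRing T] [IsReduced T] : D 1 T := by
  intro q hqp hq
  refine ⟨1, ?_, dvd_refl _⟩
  rw [Nat.cast_one]
  apply length_field
  haveI : IsReduced (Localization.AtPrime q) := inferInstance
  haveI : Ring.KrullDimLE 0 (Localization.AtPrime q) :=
    Ring.KrullDimLE.of_isLocalization q hq (Localization.AtPrime q)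
  exact Ring.KrullDimLE.isField_of_isReduced

section Tower

variable {R S : Type*} [CommRing R] [CommRing S] [Algebra R S]

/-- **Tower lemma**: if `S` is flat over `R`, `R` satisfies `D a` and the fibres of `S` over the
minimal primes of `R` satisfy `D b`, then `S` satisfies `D (a * b)`. -/
theorem D_of_flat_of_fiber (a b : ℕ) [Module.Flat R S] (hR : D a R)
    (hfib : ∀ (P : Ideal R) [P.IsPrime], P ∈ minimalPrimes R → D b (P.Fiber S)) :
    D (a * b) S := by
  intro 𝔮 _ h𝔮
  have hP := under_mem_minimalPrimes (R := R) 𝔮 h𝔮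
  let q0 : (𝔮.under R).primesOver S := ⟨𝔮, ⟨inferInstance, ⟨rfl⟩⟩⟩
  let e := PrimeSpectrum.primesOverOrderIsoFiber R S (𝔮.under R)
  let q' : PrimeSpectrum ((𝔮.under R).Fiber S) := e q0
  have hq' : q'.asIdeal.comap
      (Algebra.TensorProduct.includeRight : S →ₐ[R] (𝔮.under R).Fiber S) = 𝔮 := by
    have h1 := PrimeSpectrum.coe_primesOverOrderIsoFiber_symm_apply (p := 𝔮.under R) (S := S) q'
    have h2 : e.symm q' = q0 := e.symm_apply_apply q0
    rw [← h1]
    exact congrArg Subtype.val h2
  have hmin : q'.asIdeal ∈ minimalPrimes ((𝔮.under R).Fiber S) := by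
    refine ⟨⟨q'.2, bot_le⟩, ?_⟩
    intro q'' hq'' hle
    let Q'' : PrimeSpectrum ((𝔮.under R).Fiber S) := ⟨q'', hq''.1⟩
    have h1 : Q'' ≤ q' := hle
    have h2 : e.symm Q'' ≤ e.symm q' := e.symm.monotone h1
    rw [show e.symm q' = q0 from e.symm_apply_apply q0] at h2
    have h2' : (e.symm Q'').1 ≤ 𝔮 := h2
    have h3 : 𝔮 ≤ (e.symm Q'').1 := h𝔮.2 ⟨(e.symm Q'').2.1, bot_le⟩ h2'
    have h4 : e.symm Q'' = q0 := Subtype.ext (le_antisymm h2' h3)
    have h5 : Q'' = q' := by
      rw [← e.apply_symm_apply Q'', h4]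
    have h6 : q' ≤ Q'' := h5 ▸ le_refl _
    exact h6
  haveI : q'.asIdeal.IsPrime := q'.2
  obtain ⟨m1, hm1, hd1⟩ := hR (𝔮.under R) hP
  obtain ⟨m2, hm2, hd2⟩ := hfib (𝔮.under R) hP q'.asIdeal hmin
  have hlen := length_localization_fiber (𝔮.under R) q'.asIdeal
  haveI : (q'.asIdeal.comap
      (Algebra.TensorProduct.includeRight : S →ₐ[R] (𝔮.under R).Fiber S)).IsPrime :=
    Ideal.comap_isPrime _ _
  rw [length_atPrime_congr _ 𝔮 hq', hm1, hm2] at hlen
  refine ⟨m1 * m2, ?_, mul_dvd_mul hd1 hd2⟩
  rw [hlen]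
  push_cast
  rfl

end Tower

/-- base change of an algebra whose base changes to fields satisfy `D b`, along a ring satisfying
`D a`. -/
theorem D_baseChange (a b : ℕ) (M L : Type u) [Field M] [CommRing L] [Algebra M L]
    (hML : ∀ (F' : Type u) [Field F'] [Algebra M F'], D b (F' ⊗[M] L))
    (R : Type u) [CommRing R] [Algebra M R] (hR : D a R) :
    D (a * b) (R ⊗[M] L) := by
  apply D_of_flat_of_fiber a b (R := R) (S := R ⊗[M] L) hR
  intro 𝔭 _ _
  exact D_of_ringEquiv b
    (Algebra.TensorProduct.cancelBaseChange M R 𝔭.ResidueField 𝔭.ResidueField L).symm.toRingEquiv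
    (hML 𝔭.ResidueField)

/-- finite purely inseparable extensions: the base change to any field is local of length dividing
the degree. -/
theorem D_of_isPurelyInseparable (F L : Type u) [Field F] [Field L] [Algebra F L]
    [FiniteDimensional F L] [IsPurelyInseparable F L] (F' : Type u) [Field F'] [Algebra F F'] :
    D (Module.finrank F L) (F' ⊗[F] L) := by
  intro q _ hq
  have hhomeo := PrimeSpectrum.isHomeomorph_comap_of_isPurelyInseparable F L F'
  have huniq : ∀ q' : PrimeSpectrum (F' ⊗[F] L), q' = ⟨q, inferInstance⟩ := fun q' =>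
    hhomeo.injective (Subsingleton.elim _ _)
  haveI : Nontrivial (F' ⊗[F] L) := by
    by_contra hnon
    rw [not_nontrivial_iff_subsingleton] at hnon
    exact (inferInstance : q.IsPrime).ne_top (Subsingleton.elim _ _)
  haveI : IsLocalRing (F' ⊗[F] L) := by
    obtain ⟨m, hm⟩ := Ideal.exists_maximal (F' ⊗[F] L)
    refine IsLocalRing.of_unique_max_ideal ⟨m, hm, fun I hI => ?_⟩
    have h1 := huniq ⟨I, hI.isPrime⟩
    have h2 := huniq ⟨m, hm.isPrime⟩
    exact congrArg PrimeSpectrum.asIdeal (h1.trans h2.symm)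
  have hqmax : q = IsLocalRing.maximalIdeal (F' ⊗[F] L) := by
    have h1 := huniq (IsLocalRing.closedPoint (F' ⊗[F] L))
    exact (congrArg PrimeSpectrum.asIdeal h1).symm
  have hunits : q.primeCompl ≤ IsUnit.submonoid (F' ⊗[F] L) := by
    intro x hx
    rw [IsUnit.mem_submonoid_iff]
    have hx' : x ∉ IsLocalRing.maximalIdeal (F' ⊗[F] L) := hqmax ▸ hx
    simpa using hx'
  have e : (F' ⊗[F] L) ≃ₐ[F' ⊗[F] L] Localization.AtPrime q :=
    IsLocalization.atUnits (F' ⊗[F] L) q.primeCompl hunits
  have hlen : Module.length (Localization.AtPrime q) (Localization.AtPrime q) =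
      Module.length (F' ⊗[F] L) (F' ⊗[F] L) :=
    (Groth.Agent.R2.H9.StalkGen.length_self_eq_of_ringEquiv e.toRingEquiv).symm
  rw [hlen]
  have hfr := Groth.Agent.R2.H9.FinAlgLen.finrank_eq_length_mul_finrank F' (F' ⊗[F] L)
  rw [Module.finrank_baseChange] at hfr
  have hpos : 0 < Module.finrank F L := Module.finrank_pos
  have hne : Module.length (F' ⊗[F] L) (F' ⊗[F] L) ≠ ⊤ := by
    intro htop
    rw [htop, ENat.toNat_top, zero_mul] at hfr
    omega
  refine ⟨(Module.length (F' ⊗[F] L) (F' ⊗[F] L)).toNat, (ENat.natCast_toNat hne).symm, ⟨_, hfr⟩⟩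

/-- the tower lemma for field extensions. -/
theorem D_tower (a b : ℕ) (k M L : Type u) [Field k] [Field M] [Field L] [Algebra k M]
    [Algebra M L] [Algebra k L] [IsScalarTower k M L] (κ : Type u) [Field κ] [Algebra k κ]
    (h1 : D a (κ ⊗[k] M))
    (h2 : ∀ (F' : Type u) [Field F'] [Algebra M F'], D b (F' ⊗[M] L)) :
    D (a * b) (κ ⊗[k] L) := by
  have h1' : D a (M ⊗[k] κ) :=
    D_of_ringEquiv a (Algebra.TensorProduct.comm k κ M).toRingEquiv h1
  have h3 : D (a * b) ((M ⊗[k] κ) ⊗[M] L) := D_baseChange a b M L h2 (M ⊗[k] κ) h1'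
  have h4 : D (a * b) (L ⊗[M] (M ⊗[k] κ)) :=
    D_of_ringEquiv _ (Algebra.TensorProduct.comm M (M ⊗[k] κ) L).toRingEquiv h3
  have h5 : D (a * b) (L ⊗[k] κ) :=
    D_of_ringEquiv _ (Algebra.TensorProduct.cancelBaseChange k M M L κ).toRingEquiv h4
  exact D_of_ringEquiv _ (Algebra.TensorProduct.comm k L κ).toRingEquiv h5

/-- **Main algebraic statement**: for `k'/k` finite and `κ/k` any field extension, the local rings
of `κ ⊗[k] k'` at minimal primes have finite length dividing `[k' : k]_i`. -/
theorem D_tensor_finite (k k' : Type u) [Field k] [Field k'] [Algebra k k'] [FiniteDimensional k k']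
    (κ : Type u) [Field κ] [Algebra k κ] :
    D (Field.finInsepDegree k k') (κ ⊗[k] k') := by
  -- the separable part is reduced
  have h1 : D 1 (κ ⊗[k] ↥(separableClosure k k')) := by
    haveI : Algebra.FormallyUnramified k ↥(separableClosure k k') :=
      Algebra.FormallyUnramified.of_isSeparable k ↥(separableClosure k k')
    haveI : Algebra.FormallyUnramified κ (κ ⊗[k] ↥(separableClosure k k')) := inferInstance
    haveI : Algebra.EssFiniteType κ (κ ⊗[k] ↥(separableClosure k k')) := inferInstance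
    haveI : IsReduced (κ ⊗[k] ↥(separableClosure k k')) :=
      Algebra.FormallyUnramified.isReduced_of_field κ (κ ⊗[k] ↥(separableClosure k k'))
    exact D_of_isReduced _
  have h := D_tower 1 (Module.finrank ↥(separableClosure k k') k') k ↥(separableClosure k k') k' κ
    h1 (fun F' _ _ => D_of_isPurelyInseparable ↥(separableClosure k k') k' F')
  rw [one_mul] at h
  exact h

end Groth.Agent.R2.H9.GalCyc
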