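import Mathlib
import Groth.Agent.R2.H9PowLenC

/-!
# Lengths of localizations at minimal primes, part D (helper9): finitely generated field extensions

Finite extensions (via the separable closure), simple transcendental extensions, and induction on
the number of generators.
-/

set_option autoImplicit false
set_option linter.style.haveILetI false

universe u

open TensorProduct IntermediateField

namespace Groth.Agent.R2.H9.PowLen

/-- finite extensions. -/
theorem P_of_finite (p : ℕ) (M E : Type u) [Field M] [Field E] [Algebra M E] [ExpChar M p]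
    [FiniteDimensional M E] : P p M E := by
  haveI : ExpChar (separableClosure M E) p :=
    expChar_of_injective_algebraMap (algebraMap M (separableClosure M E)).injective p
  haveI : IsPurelyInseparable (separableClosure M E) E := separableClosure.isPurelyInseparable M E
  exact P_trans p M (separableClosure M E) E (P_of_isSeparable p M (separableClosure M E))
    (P_of_isPurelyInseparable p (separableClosure M E) E)

/-- `F' ⊗[M] M(X)` is a domain. -/
theorem isDomain_tensor_ratFunc (M F' : Type u) [Field M] [Field F'] [Algebra M F'] :
    IsDomain (F' ⊗[M] RatFunc M) := by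
  haveI hB : IsDomain (Polynomial M ⊗[M] F') :=
    MulEquiv.isDomain (Polynomial F')
      (((Algebra.TensorProduct.comm M (Polynomial M) F').trans
        (polyEquivTensor M F').symm).toMulEquiv)
  haveI hloc : IsLocalization
      (Algebra.algebraMapSubmonoid (Polynomial M ⊗[M] F') (nonZeroDivisors (Polynomial M)))
      ((Polynomial M ⊗[M] F') ⊗[Polynomial M] RatFunc M) := inferInstance
  have hle : Algebra.algebraMapSubmonoid (Polynomial M ⊗[M] F') (nonZeroDivisors (Polynomial M)) ≤
      nonZeroDivisors (Polynomial M ⊗[M] F') := by
    rintro _ ⟨f, hf, rfl⟩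
    apply mem_nonZeroDivisors_of_ne_zero
    intro h0
    have hinj : Function.Injective (algebraMap (Polynomial M) (Polynomial M ⊗[M] F')) := by
      have h := Algebra.TensorProduct.includeLeft_injective (R := M) (S := M)
        (A := Polynomial M) (B := F') (algebraMap M F').injective
      intro a b hab
      apply h
      simpa [Algebra.TensorProduct.algebraMap_apply] using hab
    exact (nonZeroDivisors.ne_zero hf) (hinj (h0.trans (map_zero _).symm))
  haveI hD : IsDomain ((Polynomial M ⊗[M] F') ⊗[Polynomial M] RatFunc M) :=
    IsLocalization.isDomain_of_le_nonZeroDivisors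
      ((Polynomial M ⊗[M] F') ⊗[Polynomial M] RatFunc M) hle
  let e1 : F' ⊗[M] RatFunc M ≃ₐ[M] RatFunc M ⊗[M] F' :=
    Algebra.TensorProduct.comm M F' (RatFunc M)
  let e2 : RatFunc M ⊗[Polynomial M] (Polynomial M ⊗[M] F') ≃ₐ[Polynomial M] RatFunc M ⊗[M] F' :=
    Algebra.TensorProduct.cancelBaseChange M (Polynomial M) (Polynomial M) (RatFunc M) F'
  let e3 : (Polynomial M ⊗[M] F') ⊗[Polynomial M] RatFunc M ≃ₐ[Polynomial M]
      RatFunc M ⊗[Polynomial M] (Polynomial M ⊗[M] F') := Algebra.TensorProduct.comm _ _ _
  exact MulEquiv.isDomain ((Polynomial M ⊗[M] F') ⊗[Polynomial M] RatFunc M)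
    ((e1.toRingEquiv.trans e2.symm.toRingEquiv).trans e3.symm.toRingEquiv).toMulEquiv

/-- simple extensions. -/
theorem P_adjoin_simple (p : ℕ) (M L : Type u) [Field M] [Field L] [Algebra M L] [ExpChar M p]
    (x : L) : P p M ↥(M⟮x⟯) := by
  by_cases hx : IsAlgebraic M x
  · haveI : FiniteDimensional M M⟮x⟯ := IntermediateField.adjoin.finiteDimensional hx.isIntegral
    exact P_of_finite p M _
  · have hx' : Transcendental M x := hx
    intro F' _ _
    have e := RatFunc.algEquivOfTranscendental x hx'
    haveI : IsDomain (F' ⊗[M] RatFunc M) := isDomain_tensor_ratFunc M F'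
    haveI : IsDomain (F' ⊗[M] M⟮x⟯) :=
      MulEquiv.isDomain (F' ⊗[M] RatFunc M)
        (Algebra.TensorProduct.congr (AlgEquiv.refl (R := M) (A₁ := F')) e.symm).toMulEquiv
    exact Q_of_isDomain p _

/-- finitely generated field extensions. -/
theorem P_of_fg (p : ℕ) (k L : Type u) [Field k] [Field L] [Algebra k L] [ExpChar k p]
    (hL : (⊤ : IntermediateField k L).FG) : P p k L := by
  have key : ∀ K' : IntermediateField k L, K'.FG → P p k K' := by
    intro K' hK'
    refine IntermediateField.induction_on_adjoin_fg (fun K' => P p k K') ?_ ?_ K' hK'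
    · intro F' _ _
      haveI : IsDomain (F' ⊗[k] (⊥ : IntermediateField k L)) :=
        MulEquiv.isDomain F'
          ((Algebra.TensorProduct.congr (AlgEquiv.refl (R := k) (A₁ := F'))
            (IntermediateField.botEquiv k L)).trans
            ((Algebra.TensorProduct.rid k F' F').restrictScalars k)).toMulEquiv
      exact Q_of_isDomain p _
    · intro K' x hK'
      haveI : ExpChar K' p := expChar_of_injective_algebraMap (algebraMap k K').injective p
      have h1 : P p K' (K'⟮x⟯) := P_adjoin_simple p K' L x
      exact P_trans p k K' (K'⟮x⟯) hK' h1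
  have htop := key ⊤ hL
  intro F' _ _
  exact Q_of_ringEquiv p
    (Algebra.TensorProduct.congr (AlgEquiv.refl (R := k) (A₁ := F'))
      (IntermediateField.topEquiv (F := k) (E := L))).toRingEquiv (htop F')

end Groth.Agent.R2.H9.PowLen
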