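import Mathlib
import Groth.Agent.R2.H9PerfBCA
import Groth.Agent.R2.H9PowLenD
import Groth.Agent.R2.H9FiberDeg
import Groth.Agent.Lib.Helper6BcBridge
import Groth.Agent.Lib.Helper4VarDim2

/-!
# Base change to a purely inseparable extension, part B (helper9)

* `resHom`, `SpecMap_resHom`, `fg_top_resHom`: the residue field of a point of a scheme locally of
  finite type over a field `k` is a finitely generated field extension of `k`.
* `nonempty_fiber_iso`: the fibre of `X ×_k k' → X` over `x` is `Spec (κ(x) ⊗[k] k')`.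
* `exists_length_stalk_eq_pow`: stalks of a scheme isomorphic to `Spec A`, with `A` satisfying
  `PowLen.Q p` and with only minimal primes, have length a power of `p`.
* `exists_length_quot_eq_pow`: for `k'/k` purely inseparable the lengths occurring in the flat
  pullback along `X ×_k k' → X` are powers of `p`.
-/

set_option autoImplicit false
set_option linter.style.haveILetI false

universe u

open AlgebraicGeometry CategoryTheory CategoryTheory.Limits TensorProduct

namespace Groth.Agent.R2.H9.PerfBC

open Groth.Agent.R2.H9.AffFieldSum Groth.Agent.R2.H9.PowLen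

section ResHom

variable (k : Type u) [Field k] {X : Scheme.{u}} (f : X ⟶ Spec (CommRingCat.of k))

/-- the structure map `k → κ(x)` of a point of a `k`-scheme. -/
noncomputable def resHom (x : X) : k →+* X.residueField x :=
  (X.residue x).hom.comp ((X.presheaf.germ ⊤ x trivial).hom.comp (sm k f))

theorem SpecMap_resHom (x : X) :
    Spec.map (CommRingCat.ofHom (resHom k f x)) = X.fromSpecResidueField x ≫ f :=
  Groth.Agent.R2.H9.FiberDeg.SpecMap_resMap k f x

open Groth.Agent.Lib.Helper4.VarDim in
theorem fg_top_resHom [LocallyOfFiniteType f] (x : X) :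
    letI := (resHom k f x).toAlgebra
    (⊤ : IntermediateField k (X.residueField x)).FG := by
  letI : X.Over (Spec (CommRingCat.of k)) := ⟨f⟩
  letI : Algebra k (X.residueField x) := Curv2.resAlgebra k X x
  haveI : LocallyOfFiniteType (X ↘ Spec (CommRingCat.of k)) := ‹LocallyOfFiniteType f›
  change (⊤ : IntermediateField k (X.residueField x)).FG
  obtain ⟨U, hU, hxU, -⟩ := exists_isAffineOpen_mem_and_subset (U := ⊤) (x := x) trivial
  letI : Algebra k Γ(X, U) := sectionsAlgebra k X U
  obtain ⟨s, hs⟩ := (finiteType_sections k X hU).out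
  classical
  refine ⟨s.image (evₐ k X x hxU), ?_⟩
  rw [eq_top_iff]
  intro z _
  obtain ⟨a, b, rfl⟩ := evₐ_frac k X hU x hxU z
  have hmem : ∀ c : Γ(X, U), evₐ k X x hxU c ∈
      IntermediateField.adjoin k ((s.image (evₐ k X x hxU) : Finset _) : Set (X.residueField x)) := by
    intro c
    have hc : c ∈ Algebra.adjoin k (s : Set Γ(X, U)) := by rw [hs]; trivial
    have h1 : evₐ k X x hxU c ∈ (Algebra.adjoin k (s : Set Γ(X, U))).map (evₐ k X x hxU) :=
      ⟨c, hc, rfl⟩
    rw [AlgHom.map_adjoin] at h1
    have h2 := IntermediateField.algebra_adjoin_le_adjoin k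
      ((evₐ k X x hxU) '' (s : Set Γ(X, U))) h1
    rw [Finset.coe_image]
    exact h2
  exact div_mem (hmem a) (hmem b)

end ResHom

section Fiber

variable (k : Type u) [Field k] {X : Scheme.{u}} (f : X ⟶ Spec (CommRingCat.of k))
  (k' : Type u) [Field k'] [Algebra k k']

/-- the fibre of `X ×_k k' → X` over `x` is `Spec (κ(x) ⊗[k] k')`. -/
theorem nonempty_fiber_iso (x : X) :
    letI := (resHom k f x).toAlgebra
    Nonempty ((pullback.fst f (Spec.map (CommRingCat.ofHom (algebraMap k k')))).fiber x ≅
      Spec (CommRingCat.of (X.residueField x ⊗[k] k'))) := by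
  letI := (resHom k f x).toAlgebra
  let σ := Spec.map (CommRingCat.ofHom (algebraMap k k'))
  let h := X.fromSpecResidueField x
  let iso1 : pullback (pullback.fst f σ) h ≅ pullback h (pullback.fst f σ) := pullbackSymmetry _ _
  let iso2 : pullback h (pullback.fst f σ) ≅ pullback (h ≫ f) σ :=
    pullbackRightPullbackFstIso f σ h
  let iso3 : pullback (h ≫ f) σ ≅
      pullback (Spec.map (CommRingCat.ofHom (algebraMap k (X.residueField x)))) σ :=
    pullback.congrHom (SpecMap_resHom k f x).symm rfl
  let iso4 := pullbackSpecIso k (X.residueField x) k'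
  exact ⟨iso1 ≪≫ iso2 ≪≫ iso3 ≪≫ iso4⟩

end Fiber

section Stalk

/-- stalks of a scheme isomorphic to `Spec A` where `A` satisfies `Q p` and has only minimal primes
have length a power of `p`. -/
theorem exists_length_stalk_eq_pow (p : ℕ) {F : Scheme.{u}} (A : Type u) [CommRing A]
    (e : F ≅ Spec (CommRingCat.of A)) (hQ : Q p A)
    (hmin : ∀ w : PrimeSpectrum A, w.asIdeal ∈ minimalPrimes A) (z : F) :
    ∃ n : ℕ, Module.length (F.presheaf.stalk z) (F.presheaf.stalk z) = (p ^ n : ℕ) := by
  obtain ⟨w, rfl⟩ : ∃ w : Spec (CommRingCat.of A), e.inv w = z :=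
    ⟨e.hom z, by rw [← Scheme.Hom.comp_apply, e.hom_inv_id]; rfl⟩
  have eq := Groth.Agent.Lib.Helper6.BcBridge.stalkEquivSpec e.inv w
  obtain ⟨n, hn⟩ := hQ (PrimeSpectrum.asIdeal w) (hmin w)
  refine ⟨n, ?_⟩
  rw [← hn]
  exact Groth.Agent.R2.H9.StalkGen.length_self_eq_of_ringEquiv eq

end Stalk

section Main

variable (p : ℕ) (k : Type u) [Field k] [ExpChar k p] {X : Scheme.{u}}
  (f : X ⟶ Spec (CommRingCat.of k)) [LocallyOfFiniteType f]
  (k' : Type u) [Field k'] [Algebra k k'] [IsPurelyInseparable k k']

/-- for `k'/k` purely inseparable, all primes of `L ⊗[k] k'` (`L` a field) are minimal. -/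
theorem mem_minimalPrimes_of_isPurelyInseparable (L : Type u) [Field L] [Algebra k L]
    (w : PrimeSpectrum (L ⊗[k] k')) : w.asIdeal ∈ minimalPrimes (L ⊗[k] k') := by
  have hhomeo := PrimeSpectrum.isHomeomorph_comap_of_isPurelyInseparable k k' L
  refine ⟨⟨w.2, bot_le⟩, ?_⟩
  intro w' hw' _
  have h1 : (⟨w', hw'.1⟩ : PrimeSpectrum (L ⊗[k] k')) = w :=
    hhomeo.injective (Subsingleton.elim _ _)
  rw [← h1]

/-- the lengths occurring in the flat pullback along `X ×_k k' → X` are powers of `p`. -/
theorem exists_length_quot_eq_pow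
    (x' : ↥(pullback f (Spec.map (CommRingCat.ofHom (algebraMap k k'))))) :
    ∃ n : ℕ, Module.length
      ((pullback f (Spec.map (CommRingCat.ofHom (algebraMap k k')))).presheaf.stalk x')
      ((pullback f (Spec.map (CommRingCat.ofHom (algebraMap k k')))).presheaf.stalk x' ⧸
        Ideal.map ((pullback.fst f (Spec.map (CommRingCat.ofHom (algebraMap k k')))).stalkMap x').hom
          (IsLocalRing.maximalIdeal (X.presheaf.stalk
            ((pullback.fst f (Spec.map (CommRingCat.ofHom (algebraMap k k')))) x')))) =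
        (p ^ n : ℕ) := by
  set g := pullback.fst f (Spec.map (CommRingCat.ofHom (algebraMap k k'))) with hg
  rw [← Groth.Agent.R2.H9.FiberDeg.length_stalk_fiber g x' (g.asFiber x') (g.fiberι_asFiber x')]
  letI := (resHom k f (g x')).toAlgebra
  obtain ⟨e⟩ := nonempty_fiber_iso k f k' (g x')
  have hfg := fg_top_resHom k f (g x')
  have hQ : Q p (X.residueField (g x') ⊗[k] k') :=
    Q_of_ringEquiv p (Algebra.TensorProduct.comm k k' (X.residueField (g x'))).toRingEquiv
      (P_of_fg p k (X.residueField (g x')) hfg k')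
  exact exists_length_stalk_eq_pow p (X.residueField (g x') ⊗[k] k') e hQ
    (mem_minimalPrimes_of_isPurelyInseparable k k' (X.residueField (g x'))) (g.asFiber x')

end Main

end Groth.Agent.R2.H9.PerfBC
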