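import Mathlib
import Groth.Agent.R2.H9PerfBCB

/-!
# Base change to a purely inseparable extension, part C (helper9)

* `injective_fst`, `isIntegralHom_SpecMap`: `X ×_k k' → X` is injective and integral for `k'/k` purely
  inseparable.
* `delta_eq`: compatibility of the dimension functions induced from the ground fields.
* `exists_smul_eq_pullFun`: abstract "p-power torsion cokernel" statement.
* `exists_pow_smul_eq_pullFun`: the base change map on cycles along a purely inseparable extension
  has `p`-power torsion cokernel.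
-/

set_option autoImplicit false
set_option linter.style.haveILetI false

universe u

open AlgebraicGeometry CategoryTheory CategoryTheory.Limits TensorProduct

namespace Groth.Agent.R2.H9.PerfBC

section Inj

variable (k : Type u) [Field k] (k' : Type u) [Field k'] [Algebra k k'] [IsPurelyInseparable k k']

theorem universallyInjective_SpecMap :
    UniversallyInjective (Spec.map (CommRingCat.ofHom (algebraMap k k'))) := by
  have h := (tfae_universallyInjective (Spec.map (CommRingCat.ofHom (algebraMap k k')))).out 0 1
  rw [h]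
  intro K _ u₁ u₂ hu
  obtain ⟨ψ₁, rfl⟩ := Spec.map_surjective u₁
  obtain ⟨ψ₂, rfl⟩ := Spec.map_surjective u₂
  simp only [← Spec.map_comp] at hu
  have h1 := Spec.map_injective hu
  congr 1
  ext1
  apply IsPurelyInseparable.injective_comp_algebraMap k k' K
  exact congrArg CommRingCat.Hom.hom h1

theorem isIntegralHom_SpecMap :
    IsIntegralHom (Spec.map (CommRingCat.ofHom (algebraMap k k'))) := by
  rw [IsIntegralHom.SpecMap_iff]
  haveI : Algebra.IsIntegral k k' := IsPurelyInseparable.isIntegral
  exact algebraMap_isIntegral_iff.mpr inferInstance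

variable {X : Scheme.{u}} (f : X ⟶ Spec (CommRingCat.of k))

theorem injective_fst :
    Function.Injective (pullback.fst f (Spec.map (CommRingCat.ofHom (algebraMap k k')))) := by
  haveI := universallyInjective_SpecMap k k'
  haveI : UniversallyInjective (pullback.fst f (Spec.map (CommRingCat.ofHom (algebraMap k k')))) :=
    MorphismProperty.pullback_fst (P := @UniversallyInjective) _ _ inferInstance
  exact Scheme.Hom.injective _

/-- the dimension functions induced from the ground fields are compatible. -/
theorem delta_eq (δ : X → ℤ) (hδ : Cyc.DeltaCompat f δ (fun _ => 0))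
    (δ' : ↥(pullback f (Spec.map (CommRingCat.ofHom (algebraMap k k')))) → ℤ)
    (hδ' : Cyc.DeltaCompat (pullback.snd f (Spec.map (CommRingCat.ofHom (algebraMap k k')))) δ'
      (fun _ => 0))
    (x' : ↥(pullback f (Spec.map (CommRingCat.ofHom (algebraMap k k'))))) :
    δ' x' = δ ((pullback.fst f (Spec.map (CommRingCat.ofHom (algebraMap k k')))) x') := by
  haveI := isIntegralHom_SpecMap k k'
  obtain ⟨n', hn', hd'⟩ := hδ' x'
  obtain ⟨n, hn, hd⟩ := hδ ((pullback.fst f (Spec.map (CommRingCat.ofHom (algebraMap k k')))) x')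
  have h1 := isAlgebraic_residueFieldMap_of_isIntegralHom
    (pullback.fst f (Spec.map (CommRingCat.ofHom (algebraMap k k')))) x'
  have h2 := isAlgebraic_residueFieldMap_of_isIntegralHom
    (Spec.map (CommRingCat.ofHom (algebraMap k k')))
    ((pullback.snd f (Spec.map (CommRingCat.ofHom (algebraMap k k')))) x')
  have key := trdeg_eq_of_square (pullback.fst f (Spec.map (CommRingCat.ofHom (algebraMap k k')))) f
    (pullback.snd f (Spec.map (CommRingCat.ofHom (algebraMap k k'))))
    (Spec.map (CommRingCat.ofHom (algebraMap k k'))) pullback.condition x' h1 h2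
  have hnn : (n' : Cardinal.{u}) = n := by
    rw [← hn', ← hn]
    exact key
  have hnn' : n' = n := by exact_mod_cast hnn
  rw [hd', hd, hnn']

end Inj

section Abstract

open Classical in
/-- abstract form: if `g` is injective on points, compatible with the dimension functions, and all
the multiplicities of the flat pullback along `g` are powers of `p`, then every finitely supported
`r`-cycle upstairs becomes a pullback after multiplication by a power of `p`. -/
theorem exists_smul_eq_pullFun {X' X : Scheme.{u}} (g : X' ⟶ X) (p : ℕ) (δ' : X' → ℤ) (δ : X → ℤ)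
    (hinj : Function.Injective g) (hδ : ∀ x', δ' x' = δ (g x'))
    (hlen : ∀ x' : X', ∃ n : ℕ, Module.length (X'.presheaf.stalk x')
      (X'.presheaf.stalk x' ⧸ Ideal.map (g.stalkMap x').hom
        (IsLocalRing.maximalIdeal (X.presheaf.stalk (g x')))) = (p ^ n : ℕ))
    (r : ℤ) (β : AlgebraicCycle X' ℤ) (hβ : β ∈ Cyc.Zk X' δ' r)
    (hfin : (Function.support (⇑β : X' → ℤ)).Finite) :
    ∃ (N : ℕ) (α : AlgebraicCycle X ℤ), α ∈ Cyc.Zk X δ r ∧
      (p : ℤ) ^ N • (⇑β : X' → ℤ) = Cyc.pullFun g δ' δ 0 ⇑α := by
  choose n hn using hlen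
  let N : ℕ := hfin.toFinset.sup n
  let αfun : X → ℤ := fun x =>
    if h : ∃ x', g x' = x then β (Classical.choose h) * (p : ℤ) ^ (N - n (Classical.choose h))
    else 0
  have hα_apply : ∀ x', αfun (g x') = β x' * (p : ℤ) ^ (N - n x') := by
    intro x'
    have h : ∃ y, g y = g x' := ⟨x', rfl⟩
    have hc : Classical.choose h = x' := hinj (Classical.choose_spec h)
    simp only [αfun, dif_pos h, hc]
  have hsupp : Function.support αfun ⊆ g '' Function.support (⇑β : X' → ℤ) := by
    intro x hx
    rw [Function.mem_support] at hx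
    by_cases h : ∃ x', g x' = x
    · obtain ⟨x', rfl⟩ := h
      refine ⟨x', ?_, rfl⟩
      rw [Function.mem_support]
      intro h0
      apply hx
      rw [hα_apply, h0, zero_mul]
    · exact absurd (by simp only [αfun, dif_neg h]) hx
  have hαfin : (Function.support αfun).Finite := (hfin.image g).subset hsupp
  let α : AlgebraicCycle X ℤ :=
    ⟨αfun, fun _ _ => trivial, fun z _ => ⟨Set.univ, Filter.univ_mem, hαfin.subset
      Set.inter_subset_right⟩⟩
  have hαcoe : ∀ x, α x = αfun x := fun _ => rfl
  refine ⟨N, α, ?_, ?_⟩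
  · intro x hx
    rw [hαcoe]
    by_cases h : ∃ x', g x' = x
    · obtain ⟨x', rfl⟩ := h
      rw [hα_apply]
      have h1 : δ' x' ≠ r := by rw [hδ]; exact hx
      rw [hβ x' h1, zero_mul]
    · simp only [αfun, dif_neg h]
  · funext x'
    rw [Pi.smul_apply, smul_eq_mul]
    unfold Cyc.pullFun
    rw [if_pos (by rw [hδ, add_zero]), hαcoe, hα_apply, hn x']
    have h2 : ((((p ^ n x' : ℕ) : ℕ∞).toNat : ℕ) : ℤ) = (p : ℤ) ^ n x' := by
      rw [ENat.toNat_natCast]
      push_cast
      rfl
    rw [h2]
    by_cases hx : β x' = 0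
    · rw [hx, mul_zero, zero_mul, zero_mul]
    · have hle : n x' ≤ N := Finset.le_sup (f := n) (hfin.mem_toFinset.mpr hx)
      rw [mul_assoc, ← pow_add, Nat.sub_add_cancel hle, mul_comm]

end Abstract

section Main

variable (p : ℕ) (k : Type u) [Field k] [ExpChar k p] (k' : Type u) [Field k'] [Algebra k k']
  [IsPurelyInseparable k k'] {X : Scheme.{u}} (f : X ⟶ Spec (CommRingCat.of k))
  [LocallyOfFiniteType f] [QuasiCompact f]

/-- the base change map on cycles along a purely inseparable extension of the ground field has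
`p`-power torsion cokernel. -/
theorem exists_pow_smul_eq_pullFun (δ : X → ℤ) (hδ : Cyc.DeltaCompat f δ (fun _ => 0))
    (δ' : ↥(pullback f (Spec.map (CommRingCat.ofHom (algebraMap k k')))) → ℤ)
    (hδ' : Cyc.DeltaCompat (pullback.snd f (Spec.map (CommRingCat.ofHom (algebraMap k k')))) δ'
      (fun _ => 0))
    (r : ℤ) (β : AlgebraicCycle (pullback f (Spec.map (CommRingCat.ofHom (algebraMap k k')))) ℤ)
    (hβ : β ∈ Cyc.Zk _ δ' r) :
    ∃ (n : ℕ) (α : AlgebraicCycle X ℤ), α ∈ Cyc.Zk X δ r ∧
      (p : ℤ) ^ n • (⇑β : _ → ℤ) =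
        Cyc.pullFun (pullback.fst f (Spec.map (CommRingCat.ofHom (algebraMap k k')))) δ' δ 0 ⇑α := by
  haveI : QuasiCompact (pullback.snd f (Spec.map (CommRingCat.ofHom (algebraMap k k')))) :=
    MorphismProperty.pullback_snd (P := @QuasiCompact) _ _ inferInstance
  haveI : CompactSpace ↥(pullback f (Spec.map (CommRingCat.ofHom (algebraMap k k')))) :=
    QuasiCompact.compactSpace_of_compactSpace
      (pullback.snd f (Spec.map (CommRingCat.ofHom (algebraMap k k'))))
  have hfin : (Function.support (⇑β : _ → ℤ)).Finite := by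
    have h1 := (Function.locallyFinsupp.locallyFiniteSupport β).finite_inter_support_of_isCompact
      isCompact_univ
    rw [Set.univ_inter] at h1
    exact h1
  exact exists_smul_eq_pullFun (pullback.fst f (Spec.map (CommRingCat.ofHom (algebraMap k k')))) p
    δ' δ (injective_fst k k' f) (delta_eq k k' f δ hδ δ' hδ')
    (exists_length_quot_eq_pow p k f k') r β hβ hfin

end Main

end Groth.Agent.R2.H9.PerfBC
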