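import Mathlib
import Groth.Prelude.Def_Cyc
import Groth.Agent.R2.H9FlatLen

/-!
# Composition of flat pullbacks of cycles, from dimension bounds (helper9)

`pullFun_comp_of_bound` : if `δ' z ≤ δ (p z) + c` and `δ'' z ≤ δ' (p' z) + c'` for all points and
`p'` is flat, then `(p' ≫ p)^* = p'^* ∘ p^*` on coefficient functions.
-/

set_option autoImplicit false

universe u

open AlgebraicGeometry CategoryTheory

namespace Groth.Agent.R2.H9.PullComp

variable {X X' X'' : Scheme.{u}}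

theorem pullFun_comp_of_bound (p : X' ⟶ X) (p' : X'' ⟶ X') [Flat p'] (δ : X → ℤ) (δ' : X' → ℤ)
    (δ'' : X'' → ℤ) (c c' : ℤ) (hB : ∀ z : X', δ' z ≤ δ (p z) + c)
    (hB' : ∀ z : X'', δ'' z ≤ δ' (p' z) + c') (a : X → ℤ) :
    Cyc.pullFun (p' ≫ p) δ'' δ (c + c') a = Cyc.pullFun p' δ'' δ' c' (Cyc.pullFun p δ' δ c a) := by
  classical
  have hcomp : ∀ x : X'', (p' ≫ p) x = p (p' x) := fun _ => rfl
  funext x
  have hBx := hB' x
  have hBpx := hB (p' x)
  simp only [Cyc.pullFun]
  by_cases h1 : δ'' x = δ' (p' x) + c'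
  · by_cases h2 : δ' (p' x) = δ (p (p' x)) + c
    · have h3 : δ'' x = δ ((p' ≫ p) x) + (c + c') := by rw [hcomp]; omega
      rw [if_pos h1, if_pos h2, if_pos h3]
      have hflat : (p'.stalkMap x).hom.Flat := Flat.stalkMap p' x
      have hlen := Groth.Agent.R2.H9.FlatLen.toNat_length_quot_map (p'.stalkMap x).hom hflat
        (Ideal.map (p.stalkMap (p' x)).hom
          (IsLocalRing.maximalIdeal (X.presheaf.stalk (p (p' x)))))
      have hmap : Ideal.map ((p' ≫ p).stalkMap x).hom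
          (IsLocalRing.maximalIdeal (X.presheaf.stalk ((p' ≫ p) x))) =
          Ideal.map (p'.stalkMap x).hom (Ideal.map (p.stalkMap (p' x)).hom
            (IsLocalRing.maximalIdeal (X.presheaf.stalk (p (p' x))))) := by
        rw [Ideal.map_map, Scheme.Hom.stalkMap_comp]
        rfl
      rw [hmap, hlen]
      push_cast
      have hα' : (a ((p' ≫ p) x) : ℤ) = a (p (p' x)) := rfl
      rw [hα']
      ring
    · have h3 : ¬ δ'' x = δ ((p' ≫ p) x) + (c + c') := by rw [hcomp]; omega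
      rw [if_pos h1, if_neg h2, if_neg h3, zero_mul]
  · have h3 : ¬ δ'' x = δ ((p' ≫ p) x) + (c + c') := by rw [hcomp]; omega
    rw [if_neg h1, if_neg h3]

theorem pullFun_congr_hom {X Y : Scheme.{u}} {f g : X ⟶ Y} (h : f = g) (δX : X → ℤ) (δY : Y → ℤ)
    (r : ℤ) (a : Y → ℤ) : Cyc.pullFun f δX δY r a = Cyc.pullFun g δX δY r a := by
  subst h
  rfl

end Groth.Agent.R2.H9.PullComp
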