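import Mathlib
import Groth.Agent.R2.H9GalCycA
import Groth.Agent.R2.H9PerfBCC
import Groth.Agent.R2.H9PullComp

/-!
# Descent of Galois-invariant cycles along a finite normal extension, part B (helper9)

The multiplicities of the flat pullback along `X ×_k k' → X` (`k'/k` finite) divide `[k' : k]_i`;
the automorphisms of `X ×_k k'` induced by `Aut(k'/k)`; transitivity on the fibres for `k'/k`
normal.
-/

set_option autoImplicit false
set_option linter.style.haveILetI false
set_option linter.unusedSectionVars false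

universe u

open AlgebraicGeometry CategoryTheory CategoryTheory.Limits TensorProduct

namespace Groth.Agent.R2.H9.GalCyc

open Groth.Agent.R2.H9.PerfBC Groth.Agent.R2.H9.PowLen

section Mult

variable (k : Type u) [Field k] {X : Scheme.{u}} (f : X ⟶ Spec (CommRingCat.of k))
  (k' : Type u) [Field k'] [Algebra k k'] [FiniteDimensional k k']

/-- stalks of a scheme isomorphic to `Spec A` where `A` satisfies `D d` and has only minimal
primes have length dividing `d`. -/
theorem exists_length_stalk_dvd (d : ℕ) {F : Scheme.{u}} (A : Type u) [CommRing A]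
    (e : F ≅ Spec (CommRingCat.of A)) (hD : D d A)
    (hmin : ∀ w : PrimeSpectrum A, w.asIdeal ∈ minimalPrimes A) (z : F) :
    ∃ m : ℕ, Module.length (F.presheaf.stalk z) (F.presheaf.stalk z) = (m : ℕ∞) ∧ m ∣ d := by
  obtain ⟨w, rfl⟩ : ∃ w : Spec (CommRingCat.of A), e.inv w = z :=
    ⟨e.hom z, by rw [← Scheme.Hom.comp_apply, e.hom_inv_id]; rfl⟩
  have eq := Groth.Agent.Lib.Helper6.BcBridge.stalkEquivSpec e.inv w
  obtain ⟨m, hm, hd⟩ := hD (PrimeSpectrum.asIdeal w) (hmin w)
  refine ⟨m, ?_, hd⟩
  rw [← hm]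
  exact Groth.Agent.R2.H9.StalkGen.length_self_eq_of_ringEquiv eq

/-- the multiplicities of the flat pullback along `X ×_k k' → X` divide `[k' : k]_i`. -/
theorem exists_length_quot_dvd
    (x' : ↥(pullback f (Spec.map (CommRingCat.ofHom (algebraMap k k'))))) :
    ∃ m : ℕ, Module.length
      ((pullback f (Spec.map (CommRingCat.ofHom (algebraMap k k')))).presheaf.stalk x')
      ((pullback f (Spec.map (CommRingCat.ofHom (algebraMap k k')))).presheaf.stalk x' ⧸
        Ideal.map ((pullback.fst f (Spec.map (CommRingCat.ofHom (algebraMap k k')))).stalkMap x').hom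
          (IsLocalRing.maximalIdeal (X.presheaf.stalk
            ((pullback.fst f (Spec.map (CommRingCat.ofHom (algebraMap k k')))) x')))) =
        (m : ℕ∞) ∧ m ∣ Field.finInsepDegree k k' := by
  rw [← Groth.Agent.R2.H9.FiberDeg.length_stalk_fiber
    (pullback.fst f (Spec.map (CommRingCat.ofHom (algebraMap k k')))) x'
    ((pullback.fst f (Spec.map (CommRingCat.ofHom (algebraMap k k')))).asFiber x')
    ((pullback.fst f (Spec.map (CommRingCat.ofHom (algebraMap k k')))).fiberι_asFiber x')]
  letI := (resHom k f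
    ((pullback.fst f (Spec.map (CommRingCat.ofHom (algebraMap k k')))) x')).toAlgebra
  obtain ⟨e⟩ := nonempty_fiber_iso k f k'
    ((pullback.fst f (Spec.map (CommRingCat.ofHom (algebraMap k k')))) x')
  haveI : IsArtinianRing (X.residueField
      ((pullback.fst f (Spec.map (CommRingCat.ofHom (algebraMap k k')))) x') ⊗[k] k') :=
    IsArtinianRing.of_finite (X.residueField
      ((pullback.fst f (Spec.map (CommRingCat.ofHom (algebraMap k k')))) x')) _
  exact exists_length_stalk_dvd _ _ e (D_tensor_finite k k' _)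
    (fun w => Ideal.mem_minimalPrimes_of_krullDimLE_zero w.asIdeal) _

end Mult

section Aut

variable (k : Type u) [Field k] {X : Scheme.{u}} (f : X ⟶ Spec (CommRingCat.of k))
  (k' : Type u) [Field k'] [Algebra k k']

theorem SpecMap_aut_comp (σ : k' ≃ₐ[k] k') :
    Spec.map (CommRingCat.ofHom σ.toAlgHom.toRingHom) ≫
      Spec.map (CommRingCat.ofHom (algebraMap k k')) =
    Spec.map (CommRingCat.ofHom (algebraMap k k')) := by
  rw [← Spec.map_comp, ← CommRingCat.ofHom_comp]
  have : σ.toAlgHom.toRingHom.comp (algebraMap k k') = algebraMap k k' := by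
    ext a
    simp
  rw [this]

/-- the endomorphism of `X ×_k k'` induced by `σ ∈ Aut(k'/k)`. -/
noncomputable def tAut (σ : k' ≃ₐ[k] k') :
    pullback f (Spec.map (CommRingCat.ofHom (algebraMap k k'))) ⟶
      pullback f (Spec.map (CommRingCat.ofHom (algebraMap k k'))) :=
  pullback.lift (pullback.fst f (Spec.map (CommRingCat.ofHom (algebraMap k k'))))
    (pullback.snd f (Spec.map (CommRingCat.ofHom (algebraMap k k'))) ≫
      Spec.map (CommRingCat.ofHom σ.toAlgHom.toRingHom))
    (by rw [Category.assoc, SpecMap_aut_comp]; exact pullback.condition)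

theorem tAut_fst (σ : k' ≃ₐ[k] k') :
    tAut k f k' σ ≫ pullback.fst f (Spec.map (CommRingCat.ofHom (algebraMap k k'))) =
      pullback.fst f (Spec.map (CommRingCat.ofHom (algebraMap k k'))) :=
  pullback.lift_fst _ _ _

theorem tAut_snd (σ : k' ≃ₐ[k] k') :
    tAut k f k' σ ≫ pullback.snd f (Spec.map (CommRingCat.ofHom (algebraMap k k'))) =
      pullback.snd f (Spec.map (CommRingCat.ofHom (algebraMap k k'))) ≫
        Spec.map (CommRingCat.ofHom σ.toAlgHom.toRingHom) :=
  pullback.lift_snd _ _ _

theorem tAut_comp_symm (σ : k' ≃ₐ[k] k') : tAut k f k' σ ≫ tAut k f k' σ.symm = 𝟙 _ := by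
  apply pullback.hom_ext
  · rw [Category.assoc, tAut_fst, tAut_fst, Category.id_comp]
  · rw [Category.assoc, tAut_snd, ← Category.assoc, tAut_snd, Category.assoc, ← Spec.map_comp,
      ← CommRingCat.ofHom_comp, Category.id_comp]
    have : σ.toAlgHom.toRingHom.comp σ.symm.toAlgHom.toRingHom = RingHom.id k' := by
      ext a
      simp
    rw [this]
    simp

instance isIso_tAut (σ : k' ≃ₐ[k] k') : IsIso (tAut k f k' σ) := by
  refine ⟨tAut k f k' σ.symm, tAut_comp_symm k f k' σ, ?_⟩
  have h := tAut_comp_symm k f k' σ.symm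
  rw [AlgEquiv.symm_symm] at h
  exact h

end Aut

section IsoLen

/-- the multiplicity of the flat pullback along an isomorphism is `1`. -/
theorem length_quot_eq_one_of_isIso {Y Z : Scheme.{u}} (t : Y ⟶ Z) [IsIso t] (y : Y) :
    Module.length (Y.presheaf.stalk y) (Y.presheaf.stalk y ⧸
      Ideal.map (t.stalkMap y).hom (IsLocalRing.maximalIdeal (Z.presheaf.stalk (t y)))) = 1 := by
  haveI : IsIso (t.stalkMap y) := inferInstance
  have h1 : Ideal.map (t.stalkMap y).hom (IsLocalRing.maximalIdeal (Z.presheaf.stalk (t y))) =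
      IsLocalRing.maximalIdeal (Y.presheaf.stalk y) :=
    IsLocalRing.map_ringEquiv_maximalIdeal (asIso (t.stalkMap y)).commRingCatIsoToRingEquiv
  rw [h1, Module.length_eq_one_iff]
  exact isSimpleModule_iff_quot_maximal.mpr
    ⟨IsLocalRing.maximalIdeal (Y.presheaf.stalk y), inferInstance, ⟨LinearEquiv.refl _ _⟩⟩

/-- the multiplicities of the flat pullback along `p` are invariant under automorphisms over the
base. -/
theorem toNat_length_quot_comp_iso {Y Z : Scheme.{u}} (p : Y ⟶ Z) (t : Y ⟶ Y) [IsIso t]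
    (ht : t ≫ p = p) (y : Y) :
    (Module.length (Y.presheaf.stalk (t y)) (Y.presheaf.stalk (t y) ⧸
      Ideal.map (p.stalkMap (t y)).hom
        (IsLocalRing.maximalIdeal (Z.presheaf.stalk (p (t y)))))).toNat =
    (Module.length (Y.presheaf.stalk y) (Y.presheaf.stalk y ⧸
      Ideal.map (p.stalkMap y).hom (IsLocalRing.maximalIdeal (Z.presheaf.stalk (p y))))).toNat := by
  have h1 := Groth.Agent.R2.H9.PullComp.pullFun_comp_of_bound p t (fun _ => (0 : ℤ))
    (fun _ => (0 : ℤ)) (fun _ => (0 : ℤ)) 0 0 (fun _ => by simp) (fun _ => by simp)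
    (fun _ => (1 : ℤ))
  have h2 := Groth.Agent.R2.H9.PullComp.pullFun_congr_hom ht (fun _ => (0 : ℤ))
    (fun _ => (0 : ℤ)) (0 + 0) (fun _ => (1 : ℤ))
  rw [h2] at h1
  have h3 := congrFun h1 y
  simp only [Cyc.pullFun, add_zero, if_true, one_mul] at h3
  rw [length_quot_eq_one_of_isIso t y] at h3
  simp only [ENat.toNat_one, Nat.cast_one, mul_one] at h3
  exact_mod_cast h3.symm

end IsoLen

section Trans

variable (k : Type u) [Field k] {X : Scheme.{u}} (f : X ⟶ Spec (CommRingCat.of k))
  (k' : Type u) [Field k'] [Algebra k k'] [Normal k k']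

/-- for `k'/k` normal, `Aut(k'/k)` acts transitively on the fibres of `X ×_k k' → X`. -/
theorem exists_tAut_apply_eq
    (x₁ x₂ : ↥(pullback f (Spec.map (CommRingCat.ofHom (algebraMap k k')))))
    (h : pullback.fst f (Spec.map (CommRingCat.ofHom (algebraMap k k'))) x₁ =
      pullback.fst f (Spec.map (CommRingCat.ofHom (algebraMap k k'))) x₂) :
    ∃ σ : k' ≃ₐ[k] k', tAut k f k' σ x₁ = x₂ := by
  obtain ⟨z, hz1, hz2⟩ := Scheme.Pullback.exists_preimage_pullback
    (f := pullback.fst f (Spec.map (CommRingCat.ofHom (algebraMap k k'))))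
    (g := pullback.fst f (Spec.map (CommRingCat.ofHom (algebraMap k k')))) x₁ x₂ h
  let W := pullback (pullback.fst f (Spec.map (CommRingCat.ofHom (algebraMap k k'))))
    (pullback.fst f (Spec.map (CommRingCat.ofHom (algebraMap k k'))))
  let a₁ : Spec (W.residueField z) ⟶ pullback f (Spec.map (CommRingCat.ofHom (algebraMap k k'))) :=
    W.fromSpecResidueField z ≫ pullback.fst _ _
  let a₂ : Spec (W.residueField z) ⟶ pullback f (Spec.map (CommRingCat.ofHom (algebraMap k k'))) :=
    W.fromSpecResidueField z ≫ pullback.snd _ _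
  have ha : a₁ ≫ pullback.fst f (Spec.map (CommRingCat.ofHom (algebraMap k k'))) =
      a₂ ≫ pullback.fst f (Spec.map (CommRingCat.ofHom (algebraMap k k'))) := by
    simp only [a₁, a₂, Category.assoc, pullback.condition]
  let τ₁ : k' →+* W.residueField z :=
    (Spec.preimage (a₁ ≫ pullback.snd f (Spec.map (CommRingCat.ofHom (algebraMap k k'))))).hom
  let τ₂ : k' →+* W.residueField z :=
    (Spec.preimage (a₂ ≫ pullback.snd f (Spec.map (CommRingCat.ofHom (algebraMap k k'))))).hom
  have hτ₁ : Spec.map (CommRingCat.ofHom τ₁) =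
      a₁ ≫ pullback.snd f (Spec.map (CommRingCat.ofHom (algebraMap k k'))) := Spec.map_preimage _
  have hτ₂ : Spec.map (CommRingCat.ofHom τ₂) =
      a₂ ≫ pullback.snd f (Spec.map (CommRingCat.ofHom (algebraMap k k'))) := Spec.map_preimage _
  have hcomp : τ₁.comp (algebraMap k k') = τ₂.comp (algebraMap k k') := by
    have e1 : Spec.map (CommRingCat.ofHom (τ₁.comp (algebraMap k k'))) =
        a₁ ≫ pullback.fst f (Spec.map (CommRingCat.ofHom (algebraMap k k'))) ≫ f := by
      rw [CommRingCat.ofHom_comp, Spec.map_comp, hτ₁, Category.assoc, pullback.condition]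
    have e2 : Spec.map (CommRingCat.ofHom (τ₂.comp (algebraMap k k'))) =
        a₂ ≫ pullback.fst f (Spec.map (CommRingCat.ofHom (algebraMap k k'))) ≫ f := by
      rw [CommRingCat.ofHom_comp, Spec.map_comp, hτ₂, Category.assoc, pullback.condition]
    have e3 : Spec.map (CommRingCat.ofHom (τ₁.comp (algebraMap k k'))) =
        Spec.map (CommRingCat.ofHom (τ₂.comp (algebraMap k k'))) := by
      rw [e1, e2, ← Category.assoc, ha, Category.assoc]
    have e4 := Spec.map_injective e3
    exact congrArg CommRingCat.Hom.hom e4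
  letI : Algebra k (W.residueField z) := (τ₁.comp (algebraMap k k')).toAlgebra
  letI : Algebra k' (W.residueField z) := τ₁.toAlgebra
  haveI : IsScalarTower k k' (W.residueField z) := IsScalarTower.of_algebraMap_eq (fun _ => rfl)
  let τ₂' : k' →ₐ[k] W.residueField z :=
    { τ₂ with commutes' := fun c => (RingHom.congr_fun hcomp c).symm }
  let σ : k' ≃ₐ[k] k' := Normal.algHomEquivAut k (W.residueField z) k' τ₂'
  have hσ : ∀ y, τ₁ (σ y) = τ₂ y := by
    intro y
    have h0 := congrArg (fun φ : k' →ₐ[k] W.residueField z => φ y)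
      ((Normal.algHomEquivAut k (W.residueField z) k').left_inv τ₂')
    exact h0
  refine ⟨σ, ?_⟩
  have key : a₁ ≫ tAut k f k' σ = a₂ := by
    apply pullback.hom_ext
    · rw [Category.assoc, tAut_fst]
      exact ha
    · rw [Category.assoc, tAut_snd, ← Category.assoc, ← hτ₁, ← hτ₂, ← Spec.map_comp,
        ← CommRingCat.ofHom_comp]
      congr 2
      ext y
      exact hσ y
  let pt : Spec (W.residueField z) := IsLocalRing.closedPoint (W.residueField z)
  have h1 : a₁ pt = x₁ := by
    change (pullback.fst (pullback.fst f (Spec.map (CommRingCat.ofHom (algebraMap k k'))))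
      (pullback.fst f (Spec.map (CommRingCat.ofHom (algebraMap k k'))))).base
        (W.fromSpecResidueField z pt) = x₁
    rw [Scheme.fromSpecResidueField_apply]
    exact hz1
  have h2 : a₂ pt = x₂ := by
    change (pullback.snd (pullback.fst f (Spec.map (CommRingCat.ofHom (algebraMap k k'))))
      (pullback.fst f (Spec.map (CommRingCat.ofHom (algebraMap k k'))))).base
        (W.fromSpecResidueField z pt) = x₂
    rw [Scheme.fromSpecResidueField_apply]
    exact hz2
  rw [← h1, ← h2, ← key]
  rfl

end Trans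

end Groth.Agent.R2.H9.GalCyc
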