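import Mathlib
import Groth.Prelude
import Groth.Agent.R2.H9BcLenB
import Groth.Agent.R2.H9ExtProdC
import Groth.Agent.R2.H9PerfBCA

/-!
# Fibres in a pullback square with an isomorphism on residue fields (helper9)

* `exists_fiber_iso` : in a pullback square `P = X ×_Z Y`, if `κ(g y) → κ(y)` is bijective, the
  fibre of `snd : P → Y` over `y` is isomorphic to the fibre of `f : X → Z` over `g y`.
* `length_quot_of_isPullback'`, `eq_of_fst_eq_of_snd_eq` : consequences for multiplicities and
  points.
* `residueFieldMap_bijective_of_section`, `delta_section` : residue fields and dimension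
  functions along sections.
-/

set_option autoImplicit false
set_option linter.style.haveILetI false

universe u

open AlgebraicGeometry CategoryTheory CategoryTheory.Limits

namespace Groth.Agent.R2.H9.GraphPull

open Groth.Agent.R2.H9.BcLen Groth.Agent.R2.H9.ExtProd Groth.Agent.R2.H9.PerfBC

section Fiber

variable {P X Y Z : Scheme.{u}} {fst : P ⟶ X} {snd : P ⟶ Y} {f : X ⟶ Z} {g : Y ⟶ Z}

theorem exists_fiber_iso (h : IsPullback fst snd f g) (y : Y)
    (hbij : Function.Bijective (g.residueFieldMap y).hom) :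
    ∃ E : snd.fiber y ⟶ f.fiber (g y), IsIso E ∧
      E ≫ f.fiberι (g y) = snd.fiberι y ≫ fst := by
  let E : snd.fiber y ⟶ f.fiber (g y) :=
    pullback.map _ _ _ _ fst (Spec.map (g.residueFieldMap y)) g h.w.symm (by simp)
  have key : IsPullback E (snd.fiberToSpecResidueField y)
      (f.fiberToSpecResidueField (g y)) (Spec.map (g.residueFieldMap y)) :=
    isPullback_fiberToSpecResidueField_of_isPullback h y
  haveI : IsIso (g.residueFieldMap y) := by
    rw [ConcreteCategory.isIso_iff_bijective]
    exact hbij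
  haveI : IsIso (Spec.map (g.residueFieldMap y)) := inferInstance
  haveI : IsIso E := key.isIso_fst_of_isIso
  exact ⟨E, inferInstance, pullback.lift_fst _ _ _⟩

theorem length_quot_of_isPullback' (h : IsPullback fst snd f g) (p : P)
    (hbij : Function.Bijective (g.residueFieldMap (snd p)).hom) :
    Module.length (P.presheaf.stalk p) (P.presheaf.stalk p ⧸
        Ideal.map (snd.stalkMap p).hom (IsLocalRing.maximalIdeal (Y.presheaf.stalk (snd p)))) =
      Module.length (X.presheaf.stalk (fst p)) (X.presheaf.stalk (fst p) ⧸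
        Ideal.map (f.stalkMap (fst p)).hom
          (IsLocalRing.maximalIdeal (Z.presheaf.stalk (f (fst p))))) := by
  rw [← Groth.Agent.R2.H9.FiberDeg.length_stalk_fiber snd p (snd.asFiber p) (snd.fiberι_asFiber p)]
  obtain ⟨E, hE, hEmor⟩ := exists_fiber_iso h (snd p) hbij
  have hE' : f.fiberι (g (snd p)) (E (snd.asFiber p)) = fst p := by
    have h0 := congrArg (fun φ : snd.fiber (snd p) ⟶ X => φ (snd.asFiber p)) hEmor
    simp only [Scheme.Hom.comp_apply] at h0
    rw [h0, snd.fiberι_asFiber]
  have hfg : f (fst p) = g (snd p) := by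
    have h0 := congrArg (fun φ : P ⟶ Z => φ p) h.w
    simpa only [Scheme.Hom.comp_apply] using h0
  rw [← length_stalk_fiber' f (fst p) (g (snd p)) hfg (E (snd.asFiber p)) hE']
  exact (Groth.Agent.R2.H9.StalkGen.length_self_eq_of_ringEquiv
    (asIso (E.stalkMap (snd.asFiber p))).commRingCatIsoToRingEquiv).symm

theorem eq_of_fst_eq_of_snd_eq (h : IsPullback fst snd f g) (z₁ z₂ : P) (hs : snd z₂ = snd z₁)
    (hf : fst z₁ = fst z₂) (hbij : Function.Bijective (g.residueFieldMap (snd z₁)).hom) :
    z₁ = z₂ := by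
  obtain ⟨E, hE, hEm⟩ := exists_fiber_iso h (snd z₁) hbij
  obtain ⟨w₂, hw₂⟩ : ∃ w : snd.fiber (snd z₁), snd.fiberι (snd z₁) w = z₂ := by
    have : z₂ ∈ Set.range (snd.fiberι (snd z₁)) := by
      rw [snd.range_fiberι]
      exact hs
    exact this
  have h1 : snd.fiberι (snd z₁) (snd.asFiber z₁) = z₁ := snd.fiberι_asFiber z₁
  have e1 : f.fiberι _ (E (snd.asFiber z₁)) = fst z₁ := by
    have h0 := congrArg (fun φ : snd.fiber (snd z₁) ⟶ X => φ (snd.asFiber z₁)) hEm
    simp only [Scheme.Hom.comp_apply] at h0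
    rw [h0, h1]
  have e2 : f.fiberι _ (E w₂) = fst z₂ := by
    have h0 := congrArg (fun φ : snd.fiber (snd z₁) ⟶ X => φ w₂) hEm
    simp only [Scheme.Hom.comp_apply] at h0
    rw [h0, hw₂]
  have h3 : E (snd.asFiber z₁) = E w₂ :=
    (f.fiberι _).isEmbedding.injective (by rw [e1, e2, hf])
  have h4 : snd.asFiber z₁ = w₂ := E.isOpenEmbedding.injective h3
  rw [← h1, ← hw₂, h4]

end Fiber

section Section

variable {X Y : Scheme.{u}}

theorem residueFieldMap_bijective_of_eq_id (e : X ⟶ X) (he : e = 𝟙 X) (x : X) :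
    Function.Bijective (e.residueFieldMap x).hom := by
  subst he
  rw [Scheme.residueFieldMap_id]
  exact Function.bijective_id

theorem residueFieldMap_bijective_of_section (s : X ⟶ Y) (p : Y ⟶ X) (h : s ≫ p = 𝟙 X) (x : X) :
    Function.Bijective (s.residueFieldMap x).hom ∧
      Function.Bijective (p.residueFieldMap (s x)).hom := by
  have h1 := residueFieldMap_bijective_of_eq_id (s ≫ p) h x
  have h2 : ((s ≫ p).residueFieldMap x).hom =
      (s.residueFieldMap x).hom.comp (p.residueFieldMap (s x)).hom := by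
    rw [Scheme.residueFieldMap_comp]
    rfl
  rw [h2] at h1
  have h3 : Function.Bijective (s.residueFieldMap x).hom :=
    ⟨(s.residueFieldMap x).hom.injective, Function.Surjective.of_comp h1.2⟩
  refine ⟨h3, ?_⟩
  exact (Function.Bijective.of_comp_iff' h3 _).mp h1

theorem residueFieldMap_bijective_of_eq (s : X ⟶ Y) (p : Y ⟶ X) (h : s ≫ p = 𝟙 X) (x : X)
    (w : Y) (hw : w = s x) : Function.Bijective (p.residueFieldMap w).hom := by
  subst hw
  exact (residueFieldMap_bijective_of_section s p h x).2

/-- the dimension function at the points of a section. -/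
theorem delta_section (K : Type u) [Field K] (f : X ⟶ Spec (CommRingCat.of K))
    (q : Y ⟶ X) (δ : Y → ℤ) (hδ : Cyc.DeltaCompat (q ≫ f) δ (fun _ => 0)) (s : X ⟶ Y)
    (hs : s ≫ q = 𝟙 X) (x : X) :
    ∃ n : ℕ, @Algebra.trdeg ((Spec (CommRingCat.of K)).residueField (f x)) (X.residueField x) _ _
      (f.residueFieldMap x).hom.toAlgebra = n ∧ δ (s x) = n := by
  obtain ⟨n, hn, hd⟩ := hδ (s x)
  have e1 := trdeg_comp s (q ≫ f) x
  have hsq : s ≫ (q ≫ f) = f := by rw [← Category.assoc, hs, Category.id_comp]
  rw [trdeg_congr_hom _ _ hsq x] at e1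
  have hbij := (residueFieldMap_bijective_of_section s q hs x).1
  have hz : @Algebra.trdeg (Y.residueField (s x)) (X.residueField x) _ _
      (s.residueFieldMap x).hom.toAlgebra = 0 := by
    letI := (s.residueFieldMap x).hom.toAlgebra
    haveI : Algebra.IsIntegral (Y.residueField (s x)) (X.residueField x) :=
      Algebra.isIntegral_of_surjective hbij.2
    haveI : Algebra.IsAlgebraic (Y.residueField (s x)) (X.residueField x) :=
      Algebra.IsIntegral.isAlgebraic
    exact trdeg_eq_zero
  rw [hz, add_zero] at e1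
  refine ⟨n, ?_, ?_⟩
  · rw [← e1]
    exact hn
  · rw [hd]
    simp

end Section

end Groth.Agent.R2.H9.GraphPull
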