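import Mathlib
import Groth.Agent.R2.H9PerfBCC

/-!
# Cycles under a finite purely inseparable base change, part A (helper9)

For a pullback square `X' = X ×_k E` (any pullback square) with `E/k` purely inseparable:
properties of the projection `f : X' → X`, its fibres, the multiplicities of the flat pullback, the
induced dimension function, relative dimension `0`.
-/

set_option autoImplicit false
set_option linter.style.haveILetI false
set_option linter.unusedSectionVars false

universe u

open AlgebraicGeometry CategoryTheory CategoryTheory.Limits TensorProduct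

namespace Groth.Agent.R2.H9.InsepChow

open Groth.Agent.R2.H9.PerfBC Groth.Agent.R2.H9.PowLen

section Setup

variable {k E : Type u} [Field k] [Field E] [Algebra k E] [IsPurelyInseparable k E]
  {X X' : Scheme.{u}} {g : X ⟶ Spec (CommRingCat.of k)} {f : X' ⟶ X}
  {g' : X' ⟶ Spec (CommRingCat.of E)}
  (hsq : IsPullback f g' g (Spec.map (CommRingCat.ofHom (algebraMap k E))))

include hsq

theorem flat_fst : Flat f := by
  haveI : Flat (Spec.map (CommRingCat.ofHom (algebraMap k E))) := by
    rw [HasRingHomProperty.Spec_iff (P := @Flat), CommRingCat.hom_ofHom,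
      RingHom.flat_algebraMap_iff]
    infer_instance
  exact MorphismProperty.of_isPullback (P := @Flat) hsq.flip inferInstance

theorem isIntegralHom_fst : IsIntegralHom f := by
  haveI := isIntegralHom_SpecMap k E
  exact MorphismProperty.of_isPullback (P := @IsIntegralHom) hsq.flip inferInstance

theorem universallyInjective_fst : UniversallyInjective f := by
  haveI := universallyInjective_SpecMap k E
  exact MorphismProperty.of_isPullback (P := @UniversallyInjective) hsq.flip inferInstance

theorem injective_fst' : Function.Injective f := by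
  haveI := universallyInjective_fst hsq
  exact Scheme.Hom.injective f

theorem surjective_fst : Function.Surjective f := by
  haveI : Surjective (Spec.map (CommRingCat.ofHom (algebraMap k E))) := by
    constructor
    intro s
    refine ⟨IsLocalRing.closedPoint E, Subsingleton.elim _ _⟩
  haveI : Surjective f := MorphismProperty.of_isPullback (P := @Surjective) hsq.flip inferInstance
  exact f.surjective

/-- the fibre of `f` over `x` is `Spec (κ(x) ⊗[k] E)`. -/
theorem nonempty_fiber_iso' (x : X) :
    letI := (resHom k g x).toAlgebra
    Nonempty (f.fiber x ≅ Spec (CommRingCat.of (X.residueField x ⊗[k] E))) := by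
  letI := (resHom k g x).toAlgebra
  have sq1 : IsPullback (pullback.snd f (X.fromSpecResidueField x))
      (pullback.fst f (X.fromSpecResidueField x)) (X.fromSpecResidueField x) f :=
    (IsPullback.of_hasPullback _ _).flip
  have sq := sq1.paste_vert hsq
  let iso2 : pullback f (X.fromSpecResidueField x) ≅
      pullback (X.fromSpecResidueField x ≫ g) (Spec.map (CommRingCat.ofHom (algebraMap k E))) :=
    sq.isoPullback
  let iso3 : pullback (X.fromSpecResidueField x ≫ g)
      (Spec.map (CommRingCat.ofHom (algebraMap k E))) ≅
      pullback (Spec.map (CommRingCat.ofHom (algebraMap k (X.residueField x))))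
        (Spec.map (CommRingCat.ofHom (algebraMap k E))) :=
    pullback.congrHom (SpecMap_resHom k g x).symm rfl
  let iso4 := pullbackSpecIso k (X.residueField x) E
  exact ⟨iso2 ≪≫ iso3 ≪≫ iso4⟩

/-- the multiplicities of the flat pullback along `f` are powers of `p`. -/
theorem exists_length_quot_eq_pow' (p : ℕ) [ExpChar k p] [LocallyOfFiniteType g] (x' : X') :
    ∃ n : ℕ, Module.length (X'.presheaf.stalk x')
      (X'.presheaf.stalk x' ⧸ Ideal.map (f.stalkMap x').hom
        (IsLocalRing.maximalIdeal (X.presheaf.stalk (f x')))) = (p ^ n : ℕ) := by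
  rw [← Groth.Agent.R2.H9.FiberDeg.length_stalk_fiber f x' (f.asFiber x') (f.fiberι_asFiber x')]
  letI := (resHom k g (f x')).toAlgebra
  obtain ⟨e⟩ := nonempty_fiber_iso' hsq (f x')
  have hfg := fg_top_resHom k g (f x')
  have hQ : Q p (X.residueField (f x') ⊗[k] E) :=
    Q_of_ringEquiv p (Algebra.TensorProduct.comm k E (X.residueField (f x'))).toRingEquiv
      (P_of_fg p k (X.residueField (f x')) hfg E)
  exact exists_length_stalk_eq_pow p (X.residueField (f x') ⊗[k] E) e hQ
    (mem_minimalPrimes_of_isPurelyInseparable k E (X.residueField (f x'))) (f.asFiber x')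

/-- the induced dimension function. -/
theorem delta_eq' (δ : X → ℤ) (δ' : X' → ℤ) (hδ : Cyc.DeltaCompat f δ' δ) (x' : X') :
    δ' x' = δ (f x') := by
  haveI := isIntegralHom_fst hsq
  obtain ⟨n, hn, hd⟩ := hδ x'
  have h1 := isAlgebraic_residueFieldMap_of_isIntegralHom f x'
  have z1 : @Algebra.trdeg (X.residueField (f x')) (X'.residueField x') _ _
      (f.residueFieldMap x').hom.toAlgebra = 0 :=
    @trdeg_eq_zero _ _ _ _ (f.residueFieldMap x').hom.toAlgebra h1
  have hn0 : (n : Cardinal.{u}) = 0 := by
    rw [← hn]
    exact z1
  have hn' : n = 0 := by exact_mod_cast hn0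
  rw [hd, hn']
  simp

/-- the fibres of `f` have at most one point. -/
theorem subsingleton_fiber (x : X) : Subsingleton ↥(f.fiber x) := by
  constructor
  intro z₁ z₂
  apply (f.fiberι x).isEmbedding.injective
  apply injective_fst' hsq
  have h1 : ∀ z : f.fiber x, f (f.fiberι x z) = x := by
    intro z
    have := f.range_fiberι x
    have hz : f.fiberι x z ∈ Set.range (f.fiberι x) := ⟨z, rfl⟩
    rw [this] at hz
    exact hz
  rw [h1, h1]

/-- `f` has relative dimension `0`. -/
theorem hasRelDim_zero : Cyc.HasRelDim f 0 := by
  intro y T hT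
  haveI := subsingleton_fiber hsq y
  obtain ⟨t, ht⟩ := hT.1.nonempty
  haveI : Nonempty ↥T := ⟨⟨t, ht⟩⟩
  haveI : Subsingleton ↥T := inferInstance
  have h1 : topologicalKrullDim ↥T = 0 := by
    unfold topologicalKrullDim
    haveI : IrreducibleSpace ↥T :=
      { toPreirreducibleSpace := inferInstance, toNonempty := inferInstance }
    haveI : Nonempty (TopologicalSpace.IrreducibleCloseds ↥T) :=
      ⟨⟨Set.univ, IrreducibleSpace.isIrreducible_univ ↥T, isClosed_univ⟩⟩
    haveI : Subsingleton (TopologicalSpace.IrreducibleCloseds ↥T) := by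
      constructor
      intro A B
      apply TopologicalSpace.IrreducibleCloseds.ext
      ext a
      obtain ⟨a₁, ha₁⟩ := A.isIrreducible.nonempty
      obtain ⟨b₁, hb₁⟩ := B.isIrreducible.nonempty
      constructor
      · intro _; exact (Subsingleton.elim b₁ a) ▸ hb₁
      · intro _; exact (Subsingleton.elim a₁ a) ▸ ha₁
    exact Order.krullDim_eq_zero
  rw [h1]
  rfl

end Setup

end Groth.Agent.R2.H9.InsepChow
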