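import Mathlib
import Groth.Agent.R2.H9InsepChowA
import Groth.Agent.R2.H9PullDivMain
import Groth.Agent.R2.H75C1Cap
import Groth.Agent.R2.H9DivLF
import Groth.Prelude.Def_ChowOps

/-!
# Cycles under a finite purely inseparable base change, part B (helper9)

For a pullback square `X' = X ×_k E` with `E/k` finite purely inseparable of exponential
characteristic `p`: a `p`-power multiple of a cycle rationally equivalent to zero on `X'` is the flat
pullback of a cycle rationally equivalent to zero on `X`.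
-/

set_option autoImplicit false
set_option linter.style.haveILetI false
set_option linter.unusedSectionVars false

universe u

open AlgebraicGeometry CategoryTheory CategoryTheory.Limits TensorProduct

namespace Groth.Agent.R2.H9.InsepChow

open Groth.Agent.R2.H9.PerfBC Groth.Agent.R2.H9.PowLen

section Main

variable {k E : Type u} [Field k] [Field E] [Algebra k E] [IsPurelyInseparable k E]
  {X X' : Scheme.{u}} {g : X ⟶ Spec (CommRingCat.of k)} {f : X' ⟶ X}
  {g' : X' ⟶ Spec (CommRingCat.of E)}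
  (hsq : IsPullback f g' g (Spec.map (CommRingCat.ofHom (algebraMap k E))))

include hsq

theorem locallyOfFiniteType_fst [Module.Finite k E] : LocallyOfFiniteType f := by
  haveI : LocallyOfFiniteType (Spec.map (CommRingCat.ofHom (algebraMap k E))) := by
    rw [HasRingHomProperty.Spec_iff (P := @LocallyOfFiniteType), CommRingCat.hom_ofHom]
    exact RingHom.FiniteType.of_finite (RingHom.finite_algebraMap.mpr inferInstance)
  exact MorphismProperty.of_isPullback (P := @LocallyOfFiniteType) hsq.flip inferInstance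

/-- the multiplicity of the flat pullback at `x'`. -/
noncomputable def mult (_hsq : IsPullback f g' g (Spec.map (CommRingCat.ofHom (algebraMap k E))))
    (x' : X') : ℕ :=
  (Module.length (X'.presheaf.stalk x')
      (X'.presheaf.stalk x' ⧸ Ideal.map (f.stalkMap x').hom
        (IsLocalRing.maximalIdeal (X.presheaf.stalk (f x'))))).toNat

theorem pullFun_eq (δ : X → ℤ) (δ' : X' → ℤ) (hδ : Cyc.DeltaCompat f δ' δ) (a : X → ℤ) (x' : X') :
    Cyc.pullFun f δ' δ 0 a x' = a (f x') * (mult hsq x' : ℤ) := by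
  unfold Cyc.pullFun mult
  beta_reduce
  rw [if_pos (by rw [delta_eq' hsq δ δ' hδ x', add_zero])]

theorem exists_mult_eq_pow (p : ℕ) [ExpChar k p] [LocallyOfFiniteType g] (x' : X') :
    ∃ n : ℕ, mult hsq x' = p ^ n := by
  obtain ⟨n, hn⟩ := exists_length_quot_eq_pow' hsq p x'
  refine ⟨n, ?_⟩
  unfold mult
  rw [hn]
  exact ENat.toNat_natCast _

theorem mult_ne_zero (p : ℕ) [ExpChar k p] [LocallyOfFiniteType g] (x' : X') :
    mult hsq x' ≠ 0 := by
  obtain ⟨n, hn⟩ := exists_mult_eq_pow hsq p x'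
  rw [hn]
  exact pow_ne_zero _ (expChar_pos k p).ne'

/-- flat pullback along `f` is injective on coefficient functions. -/
theorem pullFun_injective (p : ℕ) [ExpChar k p] [LocallyOfFiniteType g]
    (δ : X → ℤ) (δ' : X' → ℤ) (hδ : Cyc.DeltaCompat f δ' δ) (a b : X → ℤ)
    (h : Cyc.pullFun f δ' δ 0 a = Cyc.pullFun f δ' δ 0 b) : a = b := by
  funext x
  obtain ⟨x', rfl⟩ := surjective_fst hsq x
  have h1 := congrFun h x'
  rw [pullFun_eq hsq δ δ' hδ, pullFun_eq hsq δ δ' hδ] at h1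
  have h2 : (mult hsq x' : ℤ) ≠ 0 := by exact_mod_cast mult_ne_zero hsq p x'
  exact mul_right_cancel₀ h2 h1

/-- Claim A: a large `p`-power multiple of a principal divisor upstairs is the flat pullback of a
principal divisor downstairs. -/
theorem exists_pullFun_divFun [Module.Finite k E] (p : ℕ) [ExpChar k p] [LocallyOfFiniteType g]
    (δ : X → ℤ) (δ' : X' → ℤ) (hX : Cyc.IsSetup X δ) (hX' : Cyc.IsSetup X' δ')
    (hδ : Cyc.DeltaCompat f δ' δ) (ξ' : X') (φ' : X'.residueField ξ') (hφ' : φ' ≠ 0) :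
    ∃ N₀ : ℕ, ∀ N : ℕ, N₀ ≤ N → ∃ ψ : X.residueField (f ξ'), ψ ≠ 0 ∧
      ∀ x', (p : ℤ) ^ N * Cyc.divFun δ' ξ' φ' x' =
        Cyc.pullFun f δ' δ 0 (Cyc.divFun δ (f ξ') ψ) x' := by
  haveI := flat_fst hsq
  haveI := locallyOfFiniteType_fst hsq
  obtain ⟨a, ha⟩ := exists_mult_eq_pow hsq p ξ'
  letI alg : Algebra (X.residueField (f ξ')) (X'.residueField ξ') :=
    (f.residueFieldMap ξ').hom.toAlgebra
  haveI : IsPurelyInseparable (X.residueField (f ξ')) (X'.residueField ξ') := by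
    have h02 : UniversallyInjective f ↔
        (Function.Injective f ∧ ∀ x, (f.residueFieldMap x).hom.IsPurelyInseparable) :=
      (tfae_universallyInjective f).out 0 2
    exact (h02.mp (universallyInjective_fst hsq)).2 ξ'
  haveI : ExpChar (X.residueField (f ξ')) p :=
    expChar_of_injective_ringHom (resHom k g (f ξ')).injective p
  obtain ⟨n, ψ₀, hψ₀⟩ := IsPurelyInseparable.pow_mem (X.residueField (f ξ')) p φ'
  refine ⟨n + a, fun N hN => ?_⟩
  have hmap : ∀ N' : ℕ, n ≤ N' →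
      algebraMap (X.residueField (f ξ')) (X'.residueField ξ') (ψ₀ ^ p ^ (N' - n)) =
        φ' ^ p ^ N' := by
    intro N' hN'
    rw [map_pow, hψ₀, ← pow_mul, ← pow_add, Nat.add_sub_cancel' hN']
  refine ⟨ψ₀ ^ p ^ (N - a - n), ?_, ?_⟩
  · intro h0
    have h1 := hmap (N - a) (by omega)
    rw [h0, map_zero] at h1
    exact pow_ne_zero _ hφ' h1.symm
  · intro x'
    have hψne : ψ₀ ^ p ^ (N - a - n) ≠ 0 := by
      intro h0
      have h1 := hmap (N - a) (by omega)
      rw [h0, map_zero] at h1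
      exact pow_ne_zero _ hφ' h1.symm
    have key := Groth.Agent.R2.H9.PullDivMain.pullFun_divFun_eq f δ' δ hX' hX 0
      (hasRelDim_zero hsq) hδ (f ξ') (ψ₀ ^ p ^ (N - a - n)) hψne x'
    rw [Nat.cast_zero] at key
    rw [key]
    have hmem : δ' ξ' = δ (f ξ') + 0 := by rw [delta_eq' hsq δ δ' hδ ξ', add_zero]
    rw [finsum_eq_single _ (⟨ξ', rfl, hmem⟩ : {ξ : X' // f ξ = f ξ' ∧ δ' ξ = δ (f ξ') + 0})
      (fun j hj => absurd (Subtype.ext (injective_fst' hsq j.2.1)) hj)]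
    have hcongr : (X.residueFieldCongr (rfl : f ξ' = f ξ').symm).hom (ψ₀ ^ p ^ (N - a - n)) =
        ψ₀ ^ p ^ (N - a - n) := by
      rw [Scheme.residueFieldCongr_refl]
      rfl
    have hval : f.residueFieldMap ξ'
        ((X.residueFieldCongr (rfl : f ξ' = f ξ').symm).hom (ψ₀ ^ p ^ (N - a - n))) =
          φ' ^ ((p ^ (N - a) : ℕ) : ℤ) := by
      rw [hcongr, zpow_natCast]
      exact hmap (N - a) (by omega)
    change _ = ((mult hsq ξ' : ℕ) : ℤ) * _
    rw [hval, Groth.Agent.R2.H75.C1Cap.divFun_zpow δ' ξ' hφ', ha, ← mul_assoc]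
    congr 1
    have : N = a + (N - a) := by omega
    conv_lhs => rw [this]
    push_cast
    rw [pow_add]

omit hsq in
/-- a cycle rationally equivalent to zero is a `k`-cycle. -/
theorem mem_Zk_of_ratEquivZero {Y : Scheme.{u}} (δY : Y → ℤ) (i : ℤ) (c : AlgebraicCycle Y ℤ)
    (h : Cyc.RatEquivZero δY i c) : c ∈ Cyc.Zk Y δY i := by
  obtain ⟨ι, ξ, φ, hdim, -, -, hsum⟩ := h
  intro x hx
  rw [hsum x]
  apply finsum_eq_zero_of_forall_eq_zero
  intro j
  unfold Cyc.divFun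
  rw [dif_neg]
  rintro ⟨-, h2⟩
  rw [hdim j] at h2
  exact hx (by omega)

omit hsq in
/-- on a quasi-compact scheme, a locally finite family of points is finite. -/
theorem finite_of_locallyFinite {Y : Scheme.{u}} [CompactSpace Y] {ι : Type*} (ξ : ι → Y)
    (hlf : ∀ x : Y, ∃ U : Set Y, IsOpen U ∧ x ∈ U ∧ {i | (closure {ξ i} ∩ U).Nonempty}.Finite) :
    Finite ι := by
  choose U hUo hxU hUfin using hlf
  obtain ⟨t, ht⟩ := isCompact_univ.elim_nhds_subcover U (fun x _ => (hUo x).mem_nhds (hxU x))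
  rw [← Set.finite_univ_iff]
  apply (t.finite_toSet.biUnion (fun x _ => hUfin x)).subset
  intro j _
  have hj : ξ j ∈ ⋃ x ∈ t, U x := ht.2 (Set.mem_univ _)
  simp only [Set.mem_iUnion] at hj ⊢
  obtain ⟨x, hxt, hx⟩ := hj
  exact ⟨x, hxt, ξ j, subset_closure (Set.mem_singleton _), hx⟩

/-- Claim B: a large `p`-power multiple of a cycle rationally equivalent to zero upstairs is the
flat pullback of a cycle rationally equivalent to zero downstairs. -/
theorem exists_pullFun_of_ratEquivZero [Module.Finite k E] (p : ℕ) [ExpChar k p]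
    [LocallyOfFiniteType g] [CompactSpace X']
    (δ : X → ℤ) (δ' : X' → ℤ) (hX : Cyc.IsSetup X δ) (hX' : Cyc.IsSetup X' δ')
    (hδ : Cyc.DeltaCompat f δ' δ) (i : ℤ) (β' : AlgebraicCycle X' ℤ)
    (h : Cyc.RatEquivZero δ' i β') :
    ∃ N₀ : ℕ, ∀ N : ℕ, N₀ ≤ N → ∃ c : AlgebraicCycle X ℤ, Cyc.RatEquivZero δ i c ∧
      ∀ x', (p : ℤ) ^ N * β' x' = Cyc.pullFun f δ' δ 0 ⇑c x' := by
  obtain ⟨ι, ξ', φ', hdim, hne, hlf, hsum⟩ := h
  haveI : Finite ι := finite_of_locallyFinite ξ' hlf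
  haveI : Fintype ι := Fintype.ofFinite ι
  choose N₀ hN₀ using fun j => exists_pullFun_divFun hsq p δ δ' hX hX' hδ (ξ' j) (φ' j) (hne j)
  refine ⟨Finset.univ.sup N₀, fun N hN => ?_⟩
  choose ψ hψne hψ using fun j => hN₀ j N (le_trans (Finset.le_sup (Finset.mem_univ j)) hN)
  haveI : IsLocallyNoetherian X := hX.1
  have hlf' : ∀ x : X, ∃ U : Set X, IsOpen U ∧ x ∈ U ∧
      {j | (closure {f (ξ' j)} ∩ U).Nonempty}.Finite :=
    fun x => ⟨Set.univ, isOpen_univ, Set.mem_univ _, Set.toFinite _⟩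
  obtain ⟨c, hc⟩ := Groth.Agent.R2.H9.DivLF.exists_cycle_of_locallyFinite δ hX.2.2
    (fun j => f (ξ' j)) ψ hψne hlf'
  refine ⟨c, ⟨ι, fun j => f (ξ' j), ψ, fun j => ?_, hψne, hlf', hc⟩, fun x' => ?_⟩
  · rw [← delta_eq' hsq δ δ' hδ, hdim j]
  · rw [pullFun_eq hsq δ δ' hδ, hc, hsum, finsum_eq_sum_of_fintype, finsum_eq_sum_of_fintype,
      Finset.mul_sum, Finset.sum_mul]
    apply Finset.sum_congr rfl
    intro j _
    rw [hψ j x', pullFun_eq hsq δ δ' hδ]

/-- Claim C: a large `p`-power multiple of an element of the subgroup of rationally trivial cycles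
upstairs is the flat pullback of an element of the subgroup of rationally trivial cycles
downstairs. -/
theorem exists_pullFun_of_mem_ratTriv [Module.Finite k E] (p : ℕ) [ExpChar k p]
    [LocallyOfFiniteType g] [CompactSpace X']
    (δ : X → ℤ) (δ' : X' → ℤ) (hX : Cyc.IsSetup X δ) (hX' : Cyc.IsSetup X' δ')
    (hδ : Cyc.DeltaCompat f δ' δ) (i : ℤ) (b : ↥(ChowOps.zk X' δ' i))
    (hb : b ∈ ChowOps.ratTriv X' δ' i) :
    ∃ N₀ : ℕ, ∀ N : ℕ, N₀ ≤ N → ∃ c : ↥(ChowOps.zk X δ i), c ∈ ChowOps.ratTriv X δ i ∧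
      ∀ x', (p : ℤ) ^ N * (b : AlgebraicCycle X' ℤ) x' =
        Cyc.pullFun f δ' δ 0 ⇑(c : AlgebraicCycle X ℤ) x' := by
  unfold ChowOps.ratTriv at hb
  induction hb using AddSubgroup.closure_induction with
  | mem b hb =>
    obtain ⟨N₀, hN₀⟩ := exists_pullFun_of_ratEquivZero hsq p δ δ' hX hX' hδ i _ hb
    refine ⟨N₀, fun N hN => ?_⟩
    obtain ⟨c, hc, hcx⟩ := hN₀ N hN
    exact ⟨⟨c, mem_Zk_of_ratEquivZero δ i c hc⟩, AddSubgroup.subset_closure hc, hcx⟩
  | zero =>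
    refine ⟨0, fun N _ => ⟨0, zero_mem _, fun x' => ?_⟩⟩
    rw [pullFun_eq hsq δ δ' hδ]
    simp
  | add b₁ b₂ _ _ ih₁ ih₂ =>
    obtain ⟨N₁, h₁⟩ := ih₁
    obtain ⟨N₂, h₂⟩ := ih₂
    refine ⟨max N₁ N₂, fun N hN => ?_⟩
    obtain ⟨c₁, hc₁, hx₁⟩ := h₁ N (le_trans (le_max_left _ _) hN)
    obtain ⟨c₂, hc₂, hx₂⟩ := h₂ N (le_trans (le_max_right _ _) hN)
    refine ⟨c₁ + c₂, add_mem hc₁ hc₂, fun x' => ?_⟩
    have e1 := hx₁ x'
    have e2 := hx₂ x'
    rw [pullFun_eq hsq δ δ' hδ] at e1 e2 ⊢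
    simp only [AddSubgroup.coe_add, Function.locallyFinsuppWithin.coe_add, Pi.add_apply]
    rw [mul_add, add_mul, e1, e2]
  | neg b _ ih =>
    obtain ⟨N₁, h₁⟩ := ih
    refine ⟨N₁, fun N hN => ?_⟩
    obtain ⟨c₁, hc₁, hx₁⟩ := h₁ N hN
    refine ⟨-c₁, neg_mem hc₁, fun x' => ?_⟩
    have e1 := hx₁ x'
    rw [pullFun_eq hsq δ δ' hδ] at e1 ⊢
    simp only [AddSubgroup.coe_neg, Function.locallyFinsuppWithin.coe_neg, Pi.neg_apply]
    rw [mul_neg, neg_mul, e1]

end Main

end Groth.Agent.R2.H9.InsepChow
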