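import Mathlib
import Groth.Prelude

/-!
# Points of a cofiltered limit of affine schemes (helper9)

For a cofiltered diagram `D` of affine schemes with limit cone `c` whose point is Noetherian, and a
point `z'` of the limit, some stage `j` "sees" `z'`: every point of the fibre of `c.π.app j` through
`z'` is a specialization of `z'`, and the maximal ideal of `𝒪_{z'}` is generated by the maximal ideal
of the local ring of `D.obj j` at the image of `z'`.
-/

set_option autoImplicit false
set_option linter.style.haveILetI false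

universe u

open AlgebraicGeometry CategoryTheory Limits

namespace Groth.Agent.R2.H9.LimCyc

/-- the ideal of global functions vanishing at `x`. -/
noncomputable def pointIdeal {X : Scheme.{u}} (x : X) : Ideal Γ(X, ⊤) :=
  Ideal.comap (X.presheaf.germ ⊤ x trivial).hom (IsLocalRing.maximalIdeal (X.presheaf.stalk x))

theorem mem_pointIdeal {X : Scheme.{u}} (x : X) (f : Γ(X, ⊤)) :
    f ∈ pointIdeal x ↔ x ∉ X.basicOpen f := by
  rw [Scheme.mem_basicOpen_top]
  unfold pointIdeal
  rw [Ideal.mem_comap, IsLocalRing.mem_maximalIdeal, mem_nonunits_iff]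

theorem mem_pointIdeal_appTop {X Y : Scheme.{u}} (f : X ⟶ Y) (x : X) (a : Γ(Y, ⊤)) :
    f.appTop a ∈ pointIdeal x ↔ a ∈ pointIdeal (f x) := by
  rw [mem_pointIdeal, mem_pointIdeal, ← Scheme.preimage_basicOpen_top]
  rfl

theorem specializes_of_pointIdeal_le {X : Scheme.{u}} [IsAffine X] (z x : X)
    (h : pointIdeal z ≤ pointIdeal x) : z ⤳ x := by
  rw [specializes_iff_forall_open]
  intro s hs hxs
  obtain ⟨_, ⟨_, ⟨f, rfl⟩, rfl⟩, hxf, hfs⟩ :=
    (isBasis_basicOpen X).exists_subset_of_mem_open (a := x) (ou := hs) hxs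
  apply hfs
  by_contra hz
  exact ((mem_pointIdeal x f).mp (h ((mem_pointIdeal z f).mpr hz))) hxf

theorem map_germ_pointIdeal {X : Scheme.{u}} [IsAffine X] (x : X) :
    Ideal.map (X.presheaf.germ ⊤ x trivial).hom (pointIdeal x) =
      IsLocalRing.maximalIdeal (X.presheaf.stalk x) := by
  letI := TopCat.Presheaf.algebra_section_stalk X.presheaf (U := ⊤) ⟨x, trivial⟩
  haveI := (isAffineOpen_top X).isLocalization_stalk ⟨x, trivial⟩
  have h1 : pointIdeal x = ((isAffineOpen_top X).primeIdealOf ⟨x, trivial⟩).asIdeal :=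
    IsLocalization.AtPrime.under_maximalIdeal (X.presheaf.stalk x)
      ((isAffineOpen_top X).primeIdealOf ⟨x, trivial⟩).asIdeal
  rw [h1]
  exact IsLocalization.AtPrime.map_eq_maximalIdeal
    ((isAffineOpen_top X).primeIdealOf ⟨x, trivial⟩).asIdeal (X.presheaf.stalk x)

theorem map_stalkMap_maximalIdeal_le {X Y : Scheme.{u}} (f : X ⟶ Y) (x : X) :
    Ideal.map (f.stalkMap x).hom (IsLocalRing.maximalIdeal (Y.presheaf.stalk (f x))) ≤
      IsLocalRing.maximalIdeal (X.presheaf.stalk x) :=
  ((IsLocalRing.local_hom_TFAE (f.stalkMap x).hom).out 0 2).mp (by infer_instance)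

section Affine

variable {J : Type u} [Category.{u} J] [IsCofiltered J] (D : J ⥤ Scheme.{u}) (c : Cone D)
  (hc : IsLimit c) [∀ j, IsAffine (D.obj j)]

omit [IsCofiltered J] [∀ j, IsAffine (D.obj j)] in
theorem appTop_w {j j' : J} (f : j ⟶ j') (t : Γ(D.obj j', ⊤)) :
    (c.π.app j).appTop ((D.map f).appTop t) = (c.π.app j').appTop t := by
  rw [← c.w f, Scheme.Hom.comp_appTop]
  rfl

include hc in
theorem exists_lift_finset (S : Finset Γ(c.pt, ⊤)) :
    ∃ j : J, ∀ s ∈ S, ∃ a : Γ(D.obj j, ⊤), (c.π.app j).appTop a = s := by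
  classical
  induction S using Finset.induction_on with
  | empty => exact ⟨(IsCofiltered.nonempty (C := J)).some, by simp⟩
  | insert s₀ S _ ih =>
    obtain ⟨j₁, h₁⟩ := ih
    obtain ⟨j₂, t₂, h₂⟩ := exists_appTop_π_eq_of_isAffine_of_isLimit D c hc s₀
    refine ⟨IsCofiltered.min j₁ j₂, ?_⟩
    intro s hs
    rw [Finset.mem_insert] at hs
    rcases hs with rfl | hs
    · exact ⟨(D.map (IsCofiltered.minToRight j₁ j₂)).appTop t₂, by rw [appTop_w, h₂]⟩
    · obtain ⟨a, ha⟩ := h₁ s hs
      exact ⟨(D.map (IsCofiltered.minToLeft j₁ j₂)).appTop a, by rw [appTop_w, ha]⟩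

include hc in
/-- some stage of the diagram sees the point `z'` of the limit. -/
theorem exists_stage_affine [IsLocallyNoetherian c.pt] (z' : c.pt) :
    ∃ j : J, (∀ x' : c.pt, c.π.app j x' = c.π.app j z' → z' ⤳ x') ∧
      Ideal.map ((c.π.app j).stalkMap z').hom
        (IsLocalRing.maximalIdeal ((D.obj j).presheaf.stalk (c.π.app j z'))) =
        IsLocalRing.maximalIdeal (c.pt.presheaf.stalk z') := by
  haveI : IsAffine c.pt := Scheme.isAffine_of_isLimit c hc
  haveI : IsNoetherianRing Γ(c.pt, ⊤) :=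
    IsLocallyNoetherian.component_noetherian ⟨⊤, isAffineOpen_top _⟩
  obtain ⟨S, hS⟩ := (isNoetherianRing_iff_ideal_fg _).mp inferInstance (pointIdeal z')
  obtain ⟨j, hj⟩ := exists_lift_finset D c hc S
  have hmem : ∀ s ∈ S, s ∈ pointIdeal z' := by
    intro s hs
    rw [← hS]
    exact Ideal.subset_span hs
  refine ⟨j, ?_, ?_⟩
  · intro x' hx'
    apply specializes_of_pointIdeal_le
    rw [← hS, Ideal.span_le]
    intro s hs
    obtain ⟨a, rfl⟩ := hj s hs
    have hsz := hmem _ hs
    rw [SetLike.mem_coe, mem_pointIdeal_appTop, hx', ← mem_pointIdeal_appTop]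
    exact hsz
  · apply le_antisymm (map_stalkMap_maximalIdeal_le _ _)
    change IsLocalRing.maximalIdeal (c.pt.presheaf.stalk z') ≤ _
    rw [← map_germ_pointIdeal z', ← hS, Ideal.map_span, Ideal.span_le]
    rintro _ ⟨s, hs, rfl⟩
    obtain ⟨a, rfl⟩ := hj s hs
    have ha : a ∈ pointIdeal (c.π.app j z') := (mem_pointIdeal_appTop _ _ _).mp (hmem _ hs)
    have h1 := Scheme.Hom.germ_stalkMap_apply (c.π.app j) ⊤ z' trivial a
    have h2 : (c.pt.presheaf.germ ⊤ z' trivial).hom ((c.π.app j).appTop a) =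
        ((c.π.app j).stalkMap z').hom (((D.obj j).presheaf.germ ⊤ (c.π.app j z') trivial).hom a) :=
      h1.symm
    rw [SetLike.mem_coe, h2]
    exact Ideal.mem_map_of_mem _ ha

end Affine

end Groth.Agent.R2.H9.LimCyc
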