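import Mathlib
import Groth.Prelude
import Groth.Agent.R2.H9LimCycA

/-!
# Points of a cofiltered limit of schemes with affine transition maps (helper9)

`Sees D c j z'`: the stage `j` sees the point `z'` of the limit: the fibre of `c.π.app j` through
`z'` consists of specializations of `z'` and `𝔪_{z'}` is generated by `𝔪_{π_j z'}`.
* `exists_sees`: some stage sees a given point (limit locally Noetherian);
* `Sees.of_hom`: the stages above a seeing stage see.
-/

set_option autoImplicit false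
set_option linter.style.haveILetI false

universe u

open AlgebraicGeometry CategoryTheory Limits

namespace Groth.Agent.R2.H9.LimCyc

/-- `𝔪_x` is generated by `𝔪_{f x}`. -/
def Gen {X Y : Scheme.{u}} (f : X ⟶ Y) (x : X) : Prop :=
  Ideal.map (f.stalkMap x).hom (IsLocalRing.maximalIdeal (Y.presheaf.stalk (f x))) =
    IsLocalRing.maximalIdeal (X.presheaf.stalk x)

theorem map_maximalIdeal_of_surjective {A B : Type*} [CommRing A] [CommRing B] [IsLocalRing A]
    [IsLocalRing B] (φ : A →+* B) [IsLocalHom φ] (hφ : Function.Surjective φ) :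
    Ideal.map φ (IsLocalRing.maximalIdeal A) = IsLocalRing.maximalIdeal B := by
  apply le_antisymm (((IsLocalRing.local_hom_TFAE φ).out 0 2).mp (by infer_instance))
  intro b hb
  obtain ⟨a, rfl⟩ := hφ b
  apply Ideal.mem_map_of_mem
  rw [IsLocalRing.mem_maximalIdeal, mem_nonunits_iff] at hb ⊢
  exact fun ha => hb (ha.map φ)

theorem alg_comp {A B C : Type*} [CommRing A] [CommRing B] [CommRing C] [IsLocalRing A]
    [IsLocalRing B] [IsLocalRing C] (φ : C →+* B) (ψ : B →+* A)
    (hψ : Ideal.map ψ (IsLocalRing.maximalIdeal B) = IsLocalRing.maximalIdeal A)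
    (hφ : Ideal.map φ (IsLocalRing.maximalIdeal C) = IsLocalRing.maximalIdeal B) :
    Ideal.map (ψ.comp φ) (IsLocalRing.maximalIdeal C) = IsLocalRing.maximalIdeal A := by
  rw [← Ideal.map_map, hφ, hψ]

theorem alg_of_comp {A B C : Type*} [CommRing A] [CommRing B] [CommRing C] [IsLocalRing A]
    [IsLocalRing B] [IsLocalRing C] (φ : C →+* B) (ψ : B →+* A) [IsLocalHom φ] [IsLocalHom ψ]
    (h : Ideal.map (ψ.comp φ) (IsLocalRing.maximalIdeal C) = IsLocalRing.maximalIdeal A) :
    Ideal.map ψ (IsLocalRing.maximalIdeal B) = IsLocalRing.maximalIdeal A := by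
  apply le_antisymm (((IsLocalRing.local_hom_TFAE ψ).out 0 2).mp (by infer_instance))
  rw [← h, ← Ideal.map_map]
  exact Ideal.map_mono (((IsLocalRing.local_hom_TFAE φ).out 0 2).mp (by infer_instance))

theorem alg_cancel {A B C : Type*} [CommRing A] [CommRing B] [CommRing C] [IsLocalRing A]
    [IsLocalRing B] [IsLocalRing C] (φ : C →+* B) (ψ : B →+* A) [IsLocalHom ψ]
    (hψ : Function.Bijective ψ)
    (h : Ideal.map (ψ.comp φ) (IsLocalRing.maximalIdeal C) = IsLocalRing.maximalIdeal A) :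
    Ideal.map φ (IsLocalRing.maximalIdeal C) = IsLocalRing.maximalIdeal B := by
  rw [← Ideal.map_map] at h
  have h1 : Ideal.map ψ (IsLocalRing.maximalIdeal B) = IsLocalRing.maximalIdeal A :=
    map_maximalIdeal_of_surjective _ hψ.2
  have h3 := congrArg (Ideal.comap ψ) (h.trans h1.symm)
  rw [Ideal.comap_map_of_bijective _ hψ, Ideal.comap_map_of_bijective _ hψ] at h3
  exact h3

theorem stalkMap_comp_hom {X Y Z : Scheme.{u}} (f : X ⟶ Y) (g : Y ⟶ Z) (x : X) :
    ((f ≫ g).stalkMap x).hom = ((f.stalkMap x).hom).comp ((g.stalkMap (f x)).hom) :=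
  congrArg CommRingCat.Hom.hom (Scheme.Hom.stalkMap_comp f g x)

theorem gen_of_isOpenImmersion {X Y : Scheme.{u}} (f : X ⟶ Y) [IsOpenImmersion f] (x : X) :
    Gen f x :=
  map_maximalIdeal_of_surjective _
    ((ConcreteCategory.bijective_of_isIso (f.stalkMap x)).2)

theorem gen_comp {X Y Z : Scheme.{u}} (f : X ⟶ Y) (g : Y ⟶ Z) (x : X) (hf : Gen f x)
    (hg : Gen g (f x)) : Gen (f ≫ g) x := by
  have h := alg_comp _ _ hf hg
  unfold Gen
  rw [stalkMap_comp_hom]
  exact h

theorem gen_of_comp {X Y Z : Scheme.{u}} (f : X ⟶ Y) (g : Y ⟶ Z) (x : X)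
    (h : Gen (f ≫ g) x) : Gen f x := by
  unfold Gen at h
  rw [stalkMap_comp_hom] at h
  exact alg_of_comp (g.stalkMap (f x)).hom (f.stalkMap x).hom h

theorem gen_of_comp_of_bijective {X Y Z : Scheme.{u}} (f : X ⟶ Y) (g : Y ⟶ Z) (x : X)
    (hf : Function.Bijective (f.stalkMap x).hom) (h : Gen (f ≫ g) x) : Gen g (f x) := by
  unfold Gen at h
  rw [stalkMap_comp_hom] at h
  exact alg_cancel (g.stalkMap (f x)).hom (f.stalkMap x).hom hf h

theorem gen_congr {X Y : Scheme.{u}} (f g : X ⟶ Y) (e : f = g) (x : X) (h : Gen f x) :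
    Gen g x := by
  subst e
  exact h

section General

variable {I : Type u} [Category.{u} I] {D : I ⥤ Scheme.{u}} (c : Cone D)

/-- the projection to stage `j`, with source syntactically `c.pt`. -/
noncomputable abbrev proj (j : I) : c.pt ⟶ D.obj j := c.π.app j

theorem proj_w {l j : I} (f : l ⟶ j) : proj c l ≫ D.map f = proj c j := c.w f

/-- the stage `j` sees the point `z'` of the limit. -/
def Sees (j : I) (z' : c.pt) : Prop :=
  (∀ x' : c.pt, proj c j x' = proj c j z' → z' ⤳ x') ∧ Gen (proj c j) z'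

theorem Sees.of_hom {l j : I} (f : l ⟶ j) {z' : c.pt} (h : Sees c j z') : Sees c l z' := by
  refine ⟨fun x' hx' => h.1 x' ?_, ?_⟩
  · have e : ∀ y : c.pt, proj c j y = D.map f (proj c l y) := by
      intro y
      rw [← proj_w c f]
      rfl
    rw [e, e, hx']
  · exact gen_of_comp (proj c l) (D.map f) z' (gen_congr _ _ (proj_w c f).symm z' h.2)

variable [IsCofiltered I] (hc : IsLimit c) [∀ {i j : I} (f : i ⟶ j), IsAffineHom (D.map f)]

include hc in
theorem exists_sees [IsLocallyNoetherian c.pt] (z' : c.pt) : ∃ j, Sees c j z' := by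
  obtain ⟨i₀⟩ := IsCofiltered.nonempty (C := I)
  obtain ⟨_, ⟨U, hU : IsAffineOpen U, rfl⟩, hzU, -⟩ :=
    (D.obj i₀).isBasis_affineOpens.exists_subset_of_mem_open
      (Set.mem_univ (proj c i₀ z')) isOpen_univ
  haveI (j : Over i₀) : IsAffine ((opensDiagram D i₀ U).obj j) := hU.preimage (D.map _)
  haveI : IsLocallyNoetherian (opensCone D c i₀ U).pt := by
    change IsLocallyNoetherian (proj c i₀ ⁻¹ᵁ U).toScheme
    infer_instance
  let z'' : (opensCone D c i₀ U).pt := ⟨z', hzU⟩
  obtain ⟨j, hj1, hj2⟩ := exists_stage_affine (opensDiagram D i₀ U) (opensCone D c i₀ U)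
    (isLimitOpensCone D c hc i₀ U) z''
  let Vj : Scheme.{u} := (opensDiagram D i₀ U).obj j
  let ιj : Vj ⟶ D.obj j.left := (opensDiagramι D i₀ U).app j
  haveI : IsOpenImmersion ιj :=
    inferInstanceAs (IsOpenImmersion ((opensDiagramι D i₀ U).app j))
  let ρ : (opensCone D c i₀ U).pt ⟶ Vj := (opensCone D c i₀ U).π.app j
  let ι' : (opensCone D c i₀ U).pt ⟶ c.pt := (proj c i₀ ⁻¹ᵁ U).ι
  haveI : IsOpenImmersion ι' := inferInstanceAs (IsOpenImmersion (proj c i₀ ⁻¹ᵁ U).ι)
  have hsq : ρ ≫ ιj = ι' ≫ proj c j.left := Scheme.Hom.resLE_comp_ι _ _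
  have e : ∀ y : c.pt, proj c i₀ y = D.map j.hom (proj c j.left y) := by
    intro y
    rw [← proj_w c j.hom]
    rfl
  refine ⟨j.left, ?_, ?_⟩
  · intro x' hx'
    have hxU : x' ∈ proj c i₀ ⁻¹ᵁ U := by
      change proj c i₀ x' ∈ U
      rw [e, hx', ← e]
      exact hzU
    let x'' : (opensCone D c i₀ U).pt := ⟨x', hxU⟩
    have h1 : ρ x'' = ρ z'' := by
      apply ιj.isOpenEmbedding.injective
      have h2 : ιj (ρ x'') = proj c j.left (ι' x'') := congrArg (fun φ => φ x'') hsq
      have h3 : ιj (ρ z'') = proj c j.left (ι' z'') := congrArg (fun φ => φ z'') hsq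
      rw [h2, h3]
      exact hx'
    have h4 : z'' ⤳ x'' := hj1 x'' h1
    exact h4.map ι'.continuous
  · have g0 : Gen ρ z'' := hj2
    have g1 : Gen (ρ ≫ ιj) z'' := gen_comp _ _ z'' g0 (gen_of_isOpenImmersion _ _)
    have g2 : Gen (ι' ≫ proj c j.left) z'' := gen_congr _ _ hsq z'' g1
    exact gen_of_comp_of_bijective ι' (proj c j.left) z''
      (ConcreteCategory.bijective_of_isIso (ι'.stalkMap z'')) g2

end General

end Groth.Agent.R2.H9.LimCyc
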