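import Mathlib
import Groth.Prelude
import Groth.Agent.R2.H9LimCycB

/-!
# Cycles on a cofiltered limit come from a finite stage (helper9)
-/

set_option autoImplicit false
set_option linter.style.haveILetI false

universe u

open AlgebraicGeometry CategoryTheory Limits

namespace Groth.Agent.R2.H9.LimCyc

variable {I : Type u} [Category.{u} I] {D : I ⥤ Scheme.{u}} (c : Cone D)

theorem Sees.eq_of_proj_eq {j : I} {z₁ z₂ : c.pt} (h₁ : Sees c j z₁) (h₂ : Sees c j z₂)
    (e : proj c j z₁ = proj c j z₂) : z₁ = z₂ :=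
  ((h₁.1 z₂ e.symm).antisymm (h₂.1 z₁ e)).eq

theorem Sees.generic {j : I} {z : c.pt} (h : Sees c j z) :
    ∀ y : c.pt, proj c j y = proj c j z → y ⤳ z → y = z :=
  fun y hy hyz => (hyz.antisymm (h.1 y hy)).eq

theorem length_quot_maximalIdeal (R : Type*) [CommRing R] [IsLocalRing R] :
    Module.length R (R ⧸ IsLocalRing.maximalIdeal R) = 1 := by
  rw [Module.length_eq_one_iff, isSimpleModule_iff_isCoatom, ← Ideal.isMaximal_def]
  infer_instance

theorem exists_common_stage [IsCofiltered I] (hc : IsLimit c)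
    [∀ {i j : I} (f : i ⟶ j), IsAffineHom (D.map f)] [IsLocallyNoetherian c.pt]
    (s : Set c.pt) (hs : s.Finite) : ∃ j, ∀ z' ∈ s, Sees c j z' := by
  classical
  choose j hj using fun z' : c.pt => exists_sees c hc z'
  obtain ⟨S, hS⟩ := IsCofiltered.inf_objs_exists (hs.toFinset.image j)
  refine ⟨S, fun z' hz' => ?_⟩
  have hmem : j z' ∈ hs.toFinset.image j :=
    Finset.mem_image_of_mem _ (hs.mem_toFinset.mpr hz')
  exact (hj z').of_hom c (hS hmem).some

/-- the pullback along the projection of the pushed-down coefficient function of a cycle whose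
support is seen by the stage `j`. -/
theorem pullFun_eq_of_sees {j : I} (δ' : c.pt → ℤ) (δj : D.obj j → ℤ)
    (hδ' : Cyc.IsDimFun c.pt δ')
    (hshift' : ∀ x : c.pt, (∀ y, proj c j y = proj c j x → y ⤳ x → y = x) →
      δ' x = δj (proj c j x))
    (a : D.obj j → ℤ) (α' : c.pt → ℤ) (hsee : ∀ z', α' z' ≠ 0 → Sees c j z')
    (ha : ∀ z', α' z' ≠ 0 → a (proj c j z') = α' z')
    (ha0 : ∀ x, a x ≠ 0 → ∃ z', α' z' ≠ 0 ∧ proj c j z' = x) :
    Cyc.pullFun (proj c j) δ' δj 0 a = α' := by
  funext x'
  unfold Cyc.pullFun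
  beta_reduce
  by_cases hx' : α' x' = 0
  · rw [hx']
    split_ifs with hd
    · by_cases hax : a (proj c j x') = 0
      · rw [hax, zero_mul]
      · exfalso
        obtain ⟨z', hz', hzx⟩ := ha0 _ hax
        have hs := hsee z' hz'
        have hsp : z' ⤳ x' := hs.1 x' hzx.symm
        have hδz : δ' z' = δj (proj c j z') := hshift' z' (hs.generic c)
        have heq : δ' z' = δ' x' := by rw [hδz, hzx, hd, add_zero]
        by_cases hne : z' = x'
        · exact hz' (hne ▸ hx')
        · have := (hδ' z' x' hsp hne).1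
          omega
    · rfl
  · have hs := hsee x' hx'
    have hδx : δ' x' = δj (proj c j x') := hshift' x' (hs.generic c)
    rw [if_pos (by rw [hδx, add_zero]), ha x' hx']
    have hgen : Ideal.map ((proj c j).stalkMap x').hom
        (IsLocalRing.maximalIdeal ((D.obj j).presheaf.stalk (proj c j x'))) =
        IsLocalRing.maximalIdeal (c.pt.presheaf.stalk x') := hs.2
    rw [hgen, length_quot_maximalIdeal]
    simp

end Groth.Agent.R2.H9.LimCyc
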