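import Mathlib
import Groth.Prelude
import Groth.Agent.R2.H9LimCycC

/-!
# Germs at a point of a cofiltered limit come from a finite stage (helper9)
-/

set_option autoImplicit false
set_option linter.style.haveILetI false

universe u

open AlgebraicGeometry CategoryTheory Limits

namespace Groth.Agent.R2.H9.LimCyc

/-- the germ `t` at `x` comes from a germ at `f x`. -/
def LiftsStalk {X Y : Scheme.{u}} (f : X ⟶ Y) (x : X) (t : X.presheaf.stalk x) : Prop :=
  ∃ u : Y.presheaf.stalk (f x), (f.stalkMap x).hom u = t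

theorem liftsStalk_comp {X Y Z : Scheme.{u}} (f : X ⟶ Y) (g : Y ⟶ Z) (x : X)
    (t : X.presheaf.stalk x) (h : LiftsStalk f x t)
    (hg : Function.Surjective (g.stalkMap (f x)).hom) : LiftsStalk (f ≫ g) x t := by
  obtain ⟨u, rfl⟩ := h
  obtain ⟨v, rfl⟩ := hg u
  exact ⟨v, by rw [stalkMap_comp_hom]; rfl⟩

theorem liftsStalk_of_comp {X Y Z : Scheme.{u}} (f : X ⟶ Y) (g : Y ⟶ Z) (x : X)
    (t : X.presheaf.stalk x) (h : LiftsStalk (f ≫ g) x t) : LiftsStalk f x t := by
  obtain ⟨u, rfl⟩ := h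
  exact ⟨(g.stalkMap (f x)).hom u, by rw [stalkMap_comp_hom]; rfl⟩

theorem liftsStalk_cancel {X Y Z : Scheme.{u}} (f : X ⟶ Y) (g : Y ⟶ Z) (x : X)
    (s : Y.presheaf.stalk (f x)) (hf : Function.Injective (f.stalkMap x).hom)
    (h : LiftsStalk (f ≫ g) x ((f.stalkMap x).hom s)) : LiftsStalk g (f x) s := by
  obtain ⟨u, hu⟩ := h
  refine ⟨u, hf ?_⟩
  rw [← hu, stalkMap_comp_hom]
  rfl

theorem liftsStalk_congr {X Y : Scheme.{u}} (f g : X ⟶ Y) (e : f = g) (x : X)
    (t : X.presheaf.stalk x) (h : LiftsStalk f x t) : LiftsStalk g x t := by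
  subst e
  exact h

section Affine

variable {J : Type u} [Category.{u} J] [IsCofiltered J] (D : J ⥤ Scheme.{u}) (c : Cone D)
  (hc : IsLimit c) [∀ j, IsAffine (D.obj j)]

include hc in
theorem exists_liftsStalk_affine (z' : c.pt) (t : c.pt.presheaf.stalk z') :
    ∃ j : J, LiftsStalk (proj c j) z' t := by
  classical
  haveI : IsAffine c.pt := Scheme.isAffine_of_isLimit c hc
  letI := TopCat.Presheaf.algebra_section_stalk c.pt.presheaf (U := ⊤) ⟨z', trivial⟩
  haveI := (isAffineOpen_top c.pt).isLocalization_stalk ⟨z', trivial⟩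
  obtain ⟨⟨a, b⟩, hab⟩ := IsLocalization.surj
    ((isAffineOpen_top c.pt).primeIdealOf ⟨z', trivial⟩).asIdeal.primeCompl t
  have hunit : IsUnit ((c.pt.presheaf.germ ⊤ z' trivial).hom b.1) :=
    IsLocalization.map_units (c.pt.presheaf.stalk z') b
  have h1 : t * (c.pt.presheaf.germ ⊤ z' trivial).hom b.1 =
      (c.pt.presheaf.germ ⊤ z' trivial).hom a := hab
  obtain ⟨j, hj⟩ := exists_lift_finset D c hc {a, b.1}
  obtain ⟨aj, haj⟩ := hj a (by simp)
  obtain ⟨bj, hbj⟩ := hj b.1 (by simp)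
  have hg : ∀ x : Γ(D.obj j, ⊤), (c.pt.presheaf.germ ⊤ z' trivial).hom ((proj c j).appTop x) =
      ((proj c j).stalkMap z').hom (((D.obj j).presheaf.germ ⊤ (proj c j z') trivial).hom x) :=
    fun x => (Scheme.Hom.germ_stalkMap_apply (proj c j) ⊤ z' trivial x).symm
  have hbnot : (proj c j).appTop bj ∉ pointIdeal z' := by
    rw [mem_pointIdeal, not_not, Scheme.mem_basicOpen_top]
    have : (proj c j).appTop bj = b.1 := hbj
    rw [this]
    exact hunit
  have hbj' : bj ∉ pointIdeal (proj c j z') := fun h => hbnot ((mem_pointIdeal_appTop _ _ _).mpr h)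
  have hbu : IsUnit (((D.obj j).presheaf.germ ⊤ (proj c j z') trivial).hom bj) := by
    rw [mem_pointIdeal, not_not, Scheme.mem_basicOpen_top] at hbj'
    exact hbj'
  obtain ⟨w, hw⟩ := hbu
  refine ⟨j, ((D.obj j).presheaf.germ ⊤ (proj c j z') trivial).hom aj * ↑w⁻¹, ?_⟩
  have ha' : (proj c j).appTop aj = a := haj
  have hb' : (proj c j).appTop bj = b.1 := hbj
  rw [← ha', ← hb', hg, hg, ← hw] at h1
  rw [map_mul]
  have hwu : IsUnit (((proj c j).stalkMap z').hom (↑w : (D.obj j).presheaf.stalk (proj c j z'))) :=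
    (w.isUnit).map _
  apply hwu.mul_right_cancel
  rw [h1, mul_assoc, ← map_mul, Units.inv_mul, map_one, mul_one]

end Affine

section General

variable {I : Type u} [Category.{u} I] {D : I ⥤ Scheme.{u}} (c : Cone D)

theorem LiftsStalk.of_hom {l j : I} (f : l ⟶ j) {z' : c.pt} {t : c.pt.presheaf.stalk z'}
    (h : LiftsStalk (proj c j) z' t) : LiftsStalk (proj c l) z' t :=
  liftsStalk_of_comp (proj c l) (D.map f) z' t
    (liftsStalk_congr _ _ (proj_w c f).symm z' t h)

/-- the element `t` of the residue field at `z'` comes from the residue field at `f z'`. -/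
def LiftsRes {X Y : Scheme.{u}} (f : X ⟶ Y) (x : X) (t : X.residueField x) : Prop :=
  ∃ g : Y.residueField (f x), (f.residueFieldMap x).hom g = t

theorem liftsRes_of_liftsStalk {X Y : Scheme.{u}} (f : X ⟶ Y) (x : X) (s : X.presheaf.stalk x)
    (h : LiftsStalk f x s) : LiftsRes f x ((X.residue x).hom s) := by
  obtain ⟨u, rfl⟩ := h
  refine ⟨(Y.residue (f x)).hom u, ?_⟩
  have h1 := congrArg (fun φ : Y.presheaf.stalk (f x) ⟶ X.residueField x => φ.hom u)
    (Scheme.residue_residueFieldMap f x)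
  exact h1

variable [IsCofiltered I] (hc : IsLimit c) [∀ {i j : I} (f : i ⟶ j), IsAffineHom (D.map f)]

include hc in
theorem exists_liftsStalk (z' : c.pt) (t : c.pt.presheaf.stalk z') :
    ∃ j, LiftsStalk (proj c j) z' t := by
  obtain ⟨i₀⟩ := IsCofiltered.nonempty (C := I)
  obtain ⟨_, ⟨U, hU : IsAffineOpen U, rfl⟩, hzU, -⟩ :=
    (D.obj i₀).isBasis_affineOpens.exists_subset_of_mem_open
      (Set.mem_univ (proj c i₀ z')) isOpen_univ
  haveI (j : Over i₀) : IsAffine ((opensDiagram D i₀ U).obj j) := hU.preimage (D.map _)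
  let z'' : (opensCone D c i₀ U).pt := ⟨z', hzU⟩
  let ι' : (opensCone D c i₀ U).pt ⟶ c.pt := (proj c i₀ ⁻¹ᵁ U).ι
  haveI : IsOpenImmersion ι' := inferInstanceAs (IsOpenImmersion (proj c i₀ ⁻¹ᵁ U).ι)
  obtain ⟨j, hj⟩ := exists_liftsStalk_affine (opensDiagram D i₀ U) (opensCone D c i₀ U)
    (isLimitOpensCone D c hc i₀ U) z'' ((ι'.stalkMap z'').hom t)
  let Vj : Scheme.{u} := (opensDiagram D i₀ U).obj j
  let ιj : Vj ⟶ D.obj j.left := (opensDiagramι D i₀ U).app j
  haveI : IsOpenImmersion ιj :=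
    inferInstanceAs (IsOpenImmersion ((opensDiagramι D i₀ U).app j))
  let ρ : (opensCone D c i₀ U).pt ⟶ Vj := (opensCone D c i₀ U).π.app j
  have hsq : ρ ≫ ιj = ι' ≫ proj c j.left := Scheme.Hom.resLE_comp_ι _ _
  have g0 : LiftsStalk ρ z'' ((ι'.stalkMap z'').hom t) := hj
  have g1 : LiftsStalk (ρ ≫ ιj) z'' ((ι'.stalkMap z'').hom t) :=
    liftsStalk_comp ρ ιj z'' _ g0 (ConcreteCategory.bijective_of_isIso (ιj.stalkMap (ρ z''))).2
  have g2 : LiftsStalk (ι' ≫ proj c j.left) z'' ((ι'.stalkMap z'').hom t) :=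
    liftsStalk_congr _ _ hsq z'' _ g1
  exact ⟨j.left, liftsStalk_cancel ι' (proj c j.left) z'' t
    (ConcreteCategory.bijective_of_isIso (ι'.stalkMap z'')).1 g2⟩

include hc in
theorem exists_liftsRes (z' : c.pt) (t : c.pt.residueField z') :
    ∃ j, LiftsRes (proj c j) z' t := by
  obtain ⟨s, rfl⟩ := c.pt.residue_surjective z' t
  obtain ⟨j, hj⟩ := exists_liftsStalk c hc z' s
  exact ⟨j, liftsRes_of_liftsStalk _ _ _ hj⟩

end General

theorem liftsRes_of_comp {X Y Z : Scheme.{u}} (f : X ⟶ Y) (g : Y ⟶ Z) (x : X)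
    (t : X.residueField x) (h : LiftsRes (f ≫ g) x t) : LiftsRes f x t := by
  obtain ⟨u, rfl⟩ := h
  refine ⟨(g.residueFieldMap (f x)).hom u, ?_⟩
  have h1 := congrArg (fun φ : Z.residueField (g (f x)) ⟶ X.residueField x => φ.hom u)
    (Scheme.residueFieldMap_comp f g x)
  exact h1.symm

theorem liftsRes_congr {X Y : Scheme.{u}} (f g : X ⟶ Y) (e : f = g) (x : X)
    (t : X.residueField x) (h : LiftsRes f x t) : LiftsRes g x t := by
  subst e
  exact h

theorem LiftsRes.of_hom {I : Type u} [Category.{u} I] {D : I ⥤ Scheme.{u}} (c : Cone D)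
    {l j : I} (f : l ⟶ j) {z' : c.pt} {t : c.pt.residueField z'}
    (h : LiftsRes (proj c j) z' t) : LiftsRes (proj c l) z' t :=
  liftsRes_of_comp (proj c l) (D.map f) z' t (liftsRes_congr _ _ (proj_w c f).symm z' t h)

end Groth.Agent.R2.H9.LimCyc
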