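import Mathlib
import Groth.Prelude.Def_Cyc
import Groth.Agent.R2.H9PullDivGen

/-!
# The dimension bound for a flat morphism with a shift at fibre-generic points (helper9)

Let `p : X' ⟶ X` be a morphism with `X'` locally Noetherian, `δ'` a dimension function on `X'`, and
assume `δ' x' = δ (p x') + c` whenever `x'` is maximal under generization in its fibre. Then
`δ' z ≤ δ (p z) + c` for every point `z` (`delta_le_of_shift`).
-/

set_option autoImplicit false
set_option linter.style.haveILetI false

universe u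

open AlgebraicGeometry CategoryTheory IsLocalRing

namespace Groth.Agent.R2.H9.ShiftBound

open Groth.Agent.R2.H9.StalkGen Groth.Agent.R2.H9.PullDivGen

variable {X X' : Scheme.{u}}

theorem ker_specMap_self (x : X) (h : x ⤳ x) :
    RingHom.ker (Cyc.specMap x x h) = maximalIdeal (X.presheaf.stalk x) := by
  have h1 : genPrime x x h = closedPoint (X.presheaf.stalk x) := by
    apply fromSpecStalk_injective x
    rw [fromSpecStalk_genPrime, Scheme.fromSpecStalk_closedPoint]
  exact congrArg PrimeSpectrum.asIdeal h1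

/-- every point has a generization in its fibre which is maximal in the fibre. -/
theorem exists_fibre_generic (p : X' ⟶ X) (z : X') :
    ∃ w : X', w ⤳ z ∧ p w = p z ∧ ∀ y, p y = p w → y ⤳ w → y = w := by
  set J : Ideal (X'.presheaf.stalk z) :=
    Ideal.map (p.stalkMap z).hom (maximalIdeal (X.presheaf.stalk (p z))) with hJ
  have hJtop : J ≠ ⊤ := by
    intro h0
    have h1 : J ≤ maximalIdeal (X'.presheaf.stalk z) := by
      rw [hJ, Ideal.map_le_iff_le_comap]
      intro c hc
      rw [Ideal.mem_comap]
      by_contra h3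
      have h4 : IsUnit ((p.stalkMap z).hom c) := by
        by_contra h5
        exact h3 ((IsLocalRing.mem_maximalIdeal _).mpr h5)
      have h6 : IsUnit c := (isUnit_map_iff (p.stalkMap z).hom c).mp h4
      exact ((IsLocalRing.mem_maximalIdeal _).mp hc) h6
    rw [h0] at h1
    exact (IsLocalRing.maximalIdeal.isMaximal _).ne_top (top_le_iff.mp h1)
  obtain ⟨P, hPmin⟩ := Ideal.nonempty_minimalPrimes hJtop
  have hPprime : P.IsPrime := hPmin.1.1
  have hJP : J ≤ P := hPmin.1.2
  let P' : PrimeSpectrum (X'.presheaf.stalk z) := ⟨P, hPprime⟩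
  set w := X'.fromSpecStalk z P' with hw
  have hwz : w ⤳ z := fromSpecStalk_specializes z P'
  have hgw : genPrime z w hwz = P' := genPrime_fromSpecStalk z P' hwz
  have hmax : ∀ (y : X') (hy : y ⤳ z), p y = p z → J ≤ (genPrime z y hy).asIdeal := by
    intro y hy hpy
    apply map_le_of_le_ker p z y hy
    rw [ker_specMap_congr (p z) (p y) (p z) hpy (p.base.hom.map_specializes hy) specializes_rfl,
      ker_specMap_self]
  have hpw : p w = p z := by
    have h1 : maximalIdeal (X.presheaf.stalk (p z)) ≤
        RingHom.ker (Cyc.specMap (p z) (p w) (p.base.hom.map_specializes hwz)) :=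
      le_ker_of_map_le p z w hwz _ (by rw [hgw]; exact hJP)
    have h2 : RingHom.ker (Cyc.specMap (p z) (p w) (p.base.hom.map_specializes hwz)) =
        maximalIdeal (X.presheaf.stalk (p z)) :=
      ((IsLocalRing.maximalIdeal.isMaximal _).eq_of_le (RingHom.ker_isPrime _).ne_top h1).symm
    rw [← ker_specMap_self (p z) specializes_rfl] at h2
    exact eq_of_ker_eq (p z) (p w) (p z) _ _ h2
  refine ⟨w, hwz, hpw, ?_⟩
  intro y hpy hyw
  have hyz : y ⤳ z := hyw.trans hwz
  have h1 : J ≤ (genPrime z y hyz).asIdeal := hmax y hyz (hpy.trans hpw)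
  have h2 : (genPrime z y hyz).asIdeal ≤ P := by
    have hsp : genPrime z y hyz ⤳ genPrime z w hwz := by
      refine (X'.fromSpecStalk z).isEmbedding.isInducing.specializes_iff.mp ?_
      rw [fromSpecStalk_genPrime, fromSpecStalk_genPrime]
      exact hyw
    have := (PrimeSpectrum.le_iff_specializes _ _).mpr hsp
    rw [hgw] at this
    exact this
  have h3 : P ≤ (genPrime z y hyz).asIdeal :=
    hPmin.2 ⟨(genPrime z y hyz).2, h1⟩ h2
  have h4 : genPrime z y hyz = P' := PrimeSpectrum.ext (le_antisymm h2 h3)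
  rw [← fromSpecStalk_genPrime z y hyz, h4]

theorem delta_le_of_shift (p : X' ⟶ X) (δ : X → ℤ) (δ' : X' → ℤ) (hδ' : Cyc.IsDimFun X' δ')
    (c : ℤ) (hc : ∀ x' : X', (∀ y, p y = p x' → y ⤳ x' → y = x') → δ' x' = δ (p x') + c)
    (z : X') : δ' z ≤ δ (p z) + c := by
  obtain ⟨w, hwz, hpw, hmax⟩ := exists_fibre_generic p z
  have h1 := hc w hmax
  rw [hpw] at h1
  by_cases he : w = z
  · rw [← he] at h1 ⊢
    rw [h1, he]
  · have := (hδ' w z hwz he).1
    omega

end Groth.Agent.R2.H9.ShiftBound
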