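import Mathlib
import Groth.Prelude
import Groth.Agent.R2.H9LimCycD
import Groth.Agent.R2.H9PullDivShift
import Groth.Agent.R2.H9PullRat
import Groth.Agent.R2.H9ShiftBound

/-!
# Pullback of principal divisors along a morphism seeing the generic point (helper9)
-/

set_option autoImplicit false
set_option linter.style.haveILetI false

universe u

open AlgebraicGeometry CategoryTheory Limits

namespace Groth.Agent.R2.H9.LimCyc

open Groth.Agent.R2.H9.PullDivShift Groth.Agent.R2.H9.PullRat Groth.Agent.R2.H9.ShiftBound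

/-- the morphism `p` sees the point `z'`. -/
def SeesHom {X' X : Scheme.{u}} (p : X' ⟶ X) (z' : X') : Prop :=
  (∀ x' : X', p x' = p z' → z' ⤳ x') ∧ Gen p z'

theorem SeesHom.generic {X' X : Scheme.{u}} {p : X' ⟶ X} {z : X'} (h : SeesHom p z) :
    ∀ y : X', p y = p z → y ⤳ z → y = z :=
  fun y hy hyz => (hyz.antisymm (h.1 y hy)).eq

theorem pullFun_divFun_of_seesHom {X' X : Scheme.{u}} (p : X' ⟶ X) [Flat p] (δ' : X' → ℤ)
    (δ : X → ℤ) (hX' : Cyc.IsSetup X' δ') (hX : Cyc.IsSetup X δ)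
    (hc : ∀ x' : X', (∀ y, p y = p x' → y ⤳ x' → y = x') → δ' x' = δ (p x'))
    (ξ' : X') (hs : SeesHom p ξ') (g : X.residueField (p ξ')) (hg : g ≠ 0) :
    Cyc.pullFun p δ' δ 0 (Cyc.divFun δ (p ξ') g) =
      Cyc.divFun δ' ξ' ((p.residueFieldMap ξ').hom g) := by
  funext x
  have hB : ∀ z : X', δ' z ≤ δ (p z) + 0 := fun z =>
    delta_le_of_shift p δ δ' hX'.2.2 0 (fun x' hx' => by rw [add_zero]; exact hc x' hx') z
  rw [pullFun_divFun_eq_of_bound p δ' δ hX' hX 0 hB (p ξ') g hg x]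
  have hδξ : δ' ξ' = δ (p ξ') + 0 := by
    rw [add_zero]
    exact hc ξ' hs.generic
  letI : Unique {ξ : X' // p ξ = p ξ' ∧ δ' ξ = δ (p ξ') + 0} :=
    { default := ⟨ξ', rfl, hδξ⟩
      uniq := by
        rintro ⟨ξ, h1, h2⟩
        apply Subtype.ext
        change ξ = ξ'
        have hsp : ξ' ⤳ ξ := hs.1 ξ h1
        by_contra hne
        have := (hX'.2.2 ξ' ξ hsp (Ne.symm hne)).1
        omega }
  rw [finsum_unique]
  change ((Module.length (X'.presheaf.stalk ξ') (X'.presheaf.stalk ξ' ⧸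
      Ideal.map (p.stalkMap ξ').hom
        (IsLocalRing.maximalIdeal (X.presheaf.stalk (p ξ'))))).toNat : ℤ) *
    Cyc.divFun δ' ξ' (p.residueFieldMap ξ' ((X.residueFieldCongr (rfl : p ξ' = p ξ')).hom g)) x = _
  have hgen : Ideal.map (p.stalkMap ξ').hom
      (IsLocalRing.maximalIdeal (X.presheaf.stalk (p ξ'))) =
      IsLocalRing.maximalIdeal (X'.presheaf.stalk ξ') := hs.2
  rw [hgen, length_quot_maximalIdeal]
  simp

theorem exists_cycle_pullFun {X' X : Scheme.{u}} (p : X' ⟶ X) [CompactSpace X']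
    [IsLocallyNoetherian X'] (δ' : X' → ℤ) (δ : X → ℤ) (hδ' : Cyc.IsDimFun X' δ') (r : ℤ)
    (hB : ∀ z : X', δ' z ≤ δ (p z) + r) (a : X → ℤ) (ha : (Function.support a).Finite) :
    ∃ α' : AlgebraicCycle X' ℤ, ⇑α' = Cyc.pullFun p δ' δ r a := by
  have hfin : (Function.support (Cyc.pullFun p δ' δ r a)).Finite := by
    have hex : ∀ x : X', ∃ V : X'.Opens, IsAffineOpen V ∧ x ∈ V := by
      intro x
      obtain ⟨_, ⟨V, hV, rfl⟩, hxV, -⟩ :=
        X'.isBasis_affineOpens.exists_subset_of_mem_open (Set.mem_univ x) isOpen_univ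
      exact ⟨V, hV, hxV⟩
    choose V hV hxV using hex
    obtain ⟨t, -, ht⟩ := isCompact_univ.elim_nhds_subcover (fun x => (V x : Set X'))
      (fun x _ => (V x).2.mem_nhds (hxV x))
    have hbound : ∀ ζ : X, ∀ z : X', p z = ζ → δ' z ≤ δ ζ + r := by
      rintro ζ z rfl
      exact hB z
    apply (ha.biUnion fun ζ _ => (t.finite_toSet.biUnion fun v _ =>
      finite_fibre_generic p δ' hδ' ζ (δ ζ + r) (hbound ζ) (hV v))).subset
    intro x hx
    rw [Function.mem_support] at hx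
    unfold Cyc.pullFun at hx
    beta_reduce at hx
    by_cases hd : δ' x = δ (p x) + r
    · rw [if_pos hd] at hx
      have hax : a (p x) ≠ 0 := fun h0 => hx (by rw [h0, zero_mul])
      have hxt : x ∈ ⋃ v ∈ t, (V v : Set X') := ht (Set.mem_univ x)
      simp only [Set.mem_iUnion] at hxt ⊢
      obtain ⟨v, hvt, hxv⟩ := hxt
      exact ⟨p x, hax, v, hvt, hxv, rfl, hd⟩
    · rw [if_neg hd] at hx
      exact absurd rfl hx
  exact ⟨⟨Cyc.pullFun p δ' δ r a, fun _ _ => trivial,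
    fun z _ => ⟨Set.univ, Filter.univ_mem, by rw [Set.univ_inter]; exact hfin⟩⟩, rfl⟩

/-- on a quasi-compact scheme, a locally finite family of points is finite. -/
theorem finite_of_locallyFinite {Y : Scheme.{u}} [CompactSpace Y] {ι : Type*} (ξ : ι → Y)
    (hlf : ∀ x : Y, ∃ U : Set Y, IsOpen U ∧ x ∈ U ∧ {i | (closure {ξ i} ∩ U).Nonempty}.Finite) :
    Finite ι := by
  choose U hUo hxU hUfin using hlf
  obtain ⟨t, ht⟩ := isCompact_univ.elim_nhds_subcover U (fun x _ => (hUo x).mem_nhds (hxU x))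
  rw [← Set.finite_univ_iff]
  apply (t.finite_toSet.biUnion (fun x _ => hUfin x)).subset
  intro j _
  have hj : ξ j ∈ ⋃ x ∈ t, U x := ht.2 (Set.mem_univ _)
  simp only [Set.mem_iUnion] at hj ⊢
  obtain ⟨x, hxt, hx⟩ := hj
  exact ⟨x, hxt, ξ j, subset_closure (Set.mem_singleton _), hx⟩

end Groth.Agent.R2.H9.LimCyc
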