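import Mathlib
import Groth.Agent.S6320
import Groth.Agent.Lib.Helper4Branches
import Groth.Agent.R2.H49OrdOpen

/-!
# Lengths over a local ring of a quotient of a finite algebra, as a sum over local rings (helper9)

`length_eq_finsum`: let `A` be a local ring, `B` a finite `A`-algebra and `(O i, β i : B → O i)` a
finite family of local rings which are exactly the localisations of `B` at its maximal ideals
(each `O i` is the localisation of `B` at `β i ⁻¹ (𝔪_i)`, and `i ↦ β i ⁻¹ (𝔪_i)` is a bijection onto
the maximal ideals of `B`). Then for `r : B` with `B/(r)` of finite length,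
`ℓ_A(B/(r)) = ∑ᵢ [κ(O i) : κ(A)] · ℓ_{O i}(O i/(β i r))`.
-/

set_option autoImplicit false
set_option linter.style.haveILetI false

universe u

open IsLocalRing

namespace Groth.Agent.R2.H9.SemiLocal

section locquot

variable {B : Type u} [CommRing B]

/-- localising the quotient by a principal ideal -/
theorem length_localizedModule_quot (n : Ideal B) [n.IsPrime] (r : B) :
    Module.length (Localization.AtPrime n)
        (LocalizedModule n.primeCompl (B ⧸ Ideal.span {r})) =
      Module.length (Localization.AtPrime n) (Localization.AtPrime n ⧸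
        Ideal.span ({algebraMap B (Localization.AtPrime n) r} : Set _)) := by
  have hloc : IsLocalizedModule n.primeCompl (Algebra.linearMap B (Localization.AtPrime n)) :=
    (isLocalizedModule_iff_isLocalization).mpr inferInstance
  have hsub : (Ideal.span {r} : Ideal B).localized'
      (Localization.AtPrime n) n.primeCompl (Algebra.linearMap B (Localization.AtPrime n)) =
      Ideal.span ({algebraMap B (Localization.AtPrime n) r} : Set _) := by
    rw [Ideal.span, Submodule.localized'_span, Set.image_singleton, Algebra.linearMap_apply]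
  have e1 := (IsLocalizedModule.iso n.primeCompl
    ((Ideal.span {r} : Ideal B).toLocalizedQuotient'
      (Localization.AtPrime n) n.primeCompl
      (Algebra.linearMap B (Localization.AtPrime n)))).extendScalarsOfIsLocalization
        n.primeCompl (Localization.AtPrime n)
  rw [e1.length_eq]
  exact (Submodule.quotEquivOfEq _ _ hsub).length_eq

/-- the length of the quotient by a principal ideal, for any model of the localisation. -/
theorem length_quot_of_isLocalization (n : Ideal B) [n.IsPrime] (O : Type u) [CommRing O]
    [Algebra B O] [IsLocalization.AtPrime O n] (r : B) :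
    Module.length (Localization.AtPrime n) (Localization.AtPrime n ⧸
        Ideal.span ({algebraMap B (Localization.AtPrime n) r} : Set _)) =
      Module.length O (O ⧸ Ideal.span ({algebraMap B O r} : Set _)) := by
  let e : Localization.AtPrime n ≃ₐ[B] O := IsLocalization.algEquiv n.primeCompl _ _
  have h := Groth.Agent.R2.H49.OrdOpen.ord_ringEquiv e.toRingEquiv
    (algebraMap B (Localization.AtPrime n) r)
  have he : e.toRingEquiv (algebraMap B (Localization.AtPrime n) r) = algebraMap B O r :=
    e.commutes r
  rw [he] at h
  exact h.symm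

end locquot

section main

variable {A B : Type u} [CommRing A] [IsLocalRing A] [CommRing B] [Algebra A B]
  [Module.Finite A B]

theorem length_eq_finsum {I : Type*} [Finite I] (O : I → Type u) [∀ i, CommRing (O i)]
    [∀ i, IsLocalRing (O i)] (β : ∀ i, B →+* O i) (ψ : ∀ i, A →+* O i) [∀ i, IsLocalHom (ψ i)]
    (hψ : ∀ i, (β i).comp (algebraMap A B) = ψ i)
    (hβinj : ∀ i, Function.Injective (β i))
    (hfrac : ∀ i (c : O i), ∃ b s : B, β i s ∉ maximalIdeal (O i) ∧ c * β i s = β i b)
    (hinj : ∀ i j, (maximalIdeal (O i)).comap (β i) = (maximalIdeal (O j)).comap (β j) → i = j)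
    (hsurj : ∀ n : Ideal B, n.IsMaximal → ∃ i, n = (maximalIdeal (O i)).comap (β i))
    (r : B) (hfl : IsFiniteLength B (B ⧸ Ideal.span {r})) :
    Module.length A (B ⧸ Ideal.span {r}) =
      ∑ᶠ i, (@Module.finrank (ResidueField A) (ResidueField (O i)) _ _
        (ResidueField.map (ψ i)).toAlgebra.toModule : ℕ∞) *
          Module.length (O i) (O i ⧸ Ideal.span {β i r}) := by
  classical
  haveI : Algebra.IsIntegral A B := Algebra.IsIntegral.of_finite A B
  -- the maximal ideals `n i`
  have hover' : ∀ i, ((maximalIdeal (O i)).comap (β i)).comap (algebraMap A B) =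
      maximalIdeal A := by
    intro i
    ext a
    rw [Ideal.mem_comap, Ideal.mem_comap, ← RingHom.comp_apply, hψ i, mem_maximalIdeal,
      mem_maximalIdeal, mem_nonunits_iff, mem_nonunits_iff, isUnit_map_iff]
  have hprime : ∀ i, ((maximalIdeal (O i)).comap (β i)).IsPrime := fun i =>
    Ideal.comap_isPrime _ _
  have hmax : ∀ i, ((maximalIdeal (O i)).comap (β i)).IsMaximal := by
    intro i
    haveI := hprime i
    refine Ideal.isMaximal_of_isIntegral_of_isMaximal_comap (R := A) _ ?_
    rw [hover' i]
    infer_instance
  let F : I → MaximalSpectrum B := fun i => ⟨(maximalIdeal (O i)).comap (β i), hmax i⟩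
  have hF : Function.Bijective F := by
    refine ⟨fun i j h => hinj i j (congrArg MaximalSpectrum.asIdeal h), fun n => ?_⟩
    obtain ⟨i, hi⟩ := hsurj n.asIdeal n.isMaximal
    exact ⟨i, MaximalSpectrum.ext hi.symm⟩
  haveI : Finite (MaximalSpectrum B) := Finite.of_surjective F hF.2
  have hover : ∀ n : MaximalSpectrum B,
      n.asIdeal.comap (algebraMap A B) = maximalIdeal A := fun n =>
    haveI := n.isMaximal
    Groth.Agent.Lib.Helper4.Branches.comap_eq_maximalIdeal n.asIdeal
  have hfin : ∀ n : MaximalSpectrum B,
      Module.Finite (A ⧸ n.asIdeal.comap (algebraMap A B)) (B ⧸ n.asIdeal) := by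
    intro n
    haveI : Module.Finite A (B ⧸ n.asIdeal) := inferInstance
    exact Module.Finite.of_restrictScalars_finite A _ _
  rw [Groth.Agent.S6320.result hover hfin (B ⧸ Ideal.span {r}) hfl,
    ← finsum_comp_equiv (Equiv.ofBijective F hF)]
  refine finsum_congr fun i => ?_
  rw [Equiv.ofBijective_apply]
  change (Module.finrank (A ⧸ ((maximalIdeal (O i)).comap (β i)).comap (algebraMap A B))
      (B ⧸ (maximalIdeal (O i)).comap (β i)) : ℕ∞) *
    Module.length (Localization.AtPrime ((maximalIdeal (O i)).comap (β i)))
      (LocalizedModule ((maximalIdeal (O i)).comap (β i)).primeCompl (B ⧸ Ideal.span {r})) = _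
  haveI := hprime i
  haveI := hmax i
  letI : Algebra B (O i) := (β i).toAlgebra
  have halg : ∀ b, algebraMap B (O i) b = β i b := fun _ => rfl
  haveI hL : IsLocalization.AtPrime (O i) ((maximalIdeal (O i)).comap (β i)) := by
    refine ⟨?_, ?_, ?_⟩
    · rintro ⟨s, hs⟩
      rw [halg]
      have : β i s ∉ maximalIdeal (O i) := hs
      rwa [mem_maximalIdeal, mem_nonunits_iff, not_not] at this
    · intro c
      obtain ⟨b, s, hs, hcs⟩ := hfrac i c
      exact ⟨⟨b, ⟨s, hs⟩⟩, hcs⟩
    · intro b b' hbb'
      exact ⟨1, by rw [hβinj i hbb']⟩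
  congr 1
  · -- residue degrees
    congr 1
    letI := (ResidueField.map (ψ i)).toAlgebra
    letI : Field (A ⧸ ((maximalIdeal (O i)).comap (β i)).comap (algebraMap A B)) := by
      haveI : (((maximalIdeal (O i)).comap (β i)).comap (algebraMap A B)).IsMaximal := by
        rw [hover' i]; infer_instance
      exact Ideal.Quotient.field _
    let e₁ : (A ⧸ ((maximalIdeal (O i)).comap (β i)).comap (algebraMap A B)) ≃+*
        ResidueField A := Ideal.quotEquivOfEq (hover' i)
    let e₂ : (B ⧸ (maximalIdeal (O i)).comap (β i)) ≃+* ResidueField (O i) :=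
      IsLocalization.AtPrime.equivQuotMaximalIdeal ((maximalIdeal (O i)).comap (β i)) (O i)
    refine Algebra.finrank_eq_of_equiv_equiv e₁ e₂ ?_
    ext a
    have h1 : e₁ (Ideal.Quotient.mk _ a) = residue A a := rfl
    have h2 : algebraMap (A ⧸ ((maximalIdeal (O i)).comap (β i)).comap (algebraMap A B))
        (B ⧸ (maximalIdeal (O i)).comap (β i)) (Ideal.Quotient.mk _ a) =
        Ideal.Quotient.mk _ (algebraMap A B a) := rfl
    change algebraMap (ResidueField A) (ResidueField (O i)) (e₁ (Ideal.Quotient.mk _ a)) =
      e₂ (algebraMap (A ⧸ ((maximalIdeal (O i)).comap (β i)).comap (algebraMap A B))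
        (B ⧸ (maximalIdeal (O i)).comap (β i)) (Ideal.Quotient.mk _ a))
    rw [h1, h2, RingHom.algebraMap_toAlgebra, ResidueField.map_residue]
    have h3 : e₂ (Ideal.Quotient.mk _ (algebraMap A B a)) =
        Ideal.Quotient.mk _ (algebraMap B (O i) (algebraMap A B a)) :=
      IsLocalization.AtPrime.equivQuotMaximalIdeal_apply_mk _ _ _
    rw [h3, halg]
    have h4 : β i (algebraMap A B a) = ψ i a := by
      rw [← hψ i]; rfl
    rw [h4]
    rfl
  · rw [length_localizedModule_quot, length_quot_of_isLocalization _ (O i)]
    rfl

end main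

end Groth.Agent.R2.H9.SemiLocal
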