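import Mathlib
import Groth.Prelude.Def_Tame
import Groth.Agent.S14503
import Groth.Agent.R2.H9SemiLocal

/-!
# The algebraic core of `p_* div(f) = div(Nm f)` (helper9)

`sum_eq_ordFrac_norm`: `A` a one-dimensional Noetherian local domain with fraction field `K`, `L/K` a
field extension, `R → S` a finite ring map, `ρ : R → A` exhibiting `A` as a localisation of `R`,
`ev : S → L` exhibiting `L` as the fraction field of (the image of) `S`, and a finite family of local
rings `O i ⊆ L` (the local rings of the points of `Spec S` over the closed point of `A`). Then for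
`s : S` with `ev s ≠ 0`,
`∑ᵢ [κ(O i) : κ(A)] · ℓ_{O i}(O i/(s)) = ord_A(Nm_{L/K}(ev s))`.
-/

set_option autoImplicit false
set_option linter.style.haveILetI false

universe u

open IsLocalRing

namespace Groth.Agent.R2.H9.NormPushAlg

theorem exists_lift_of_injective {B O L : Type*} [CommRing B] [CommRing O] [CommRing L]
    (j : B →+* L) (ι : O →+* L) (hι : Function.Injective ι) (h : ∀ b, j b ∈ ι.range) :
    ∃ β : B →+* O, ∀ b, ι (β b) = j b := by
  have hbij : Function.Bijective ι.rangeRestrict := by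
    refine ⟨fun x y hxy => hι ?_, ι.rangeRestrict_surjective⟩
    exact congrArg Subtype.val hxy
  let e : O ≃+* ι.range := RingEquiv.ofBijective ι.rangeRestrict hbij
  refine ⟨e.symm.toRingHom.comp (j.codRestrict ι.range h), fun b => ?_⟩
  have h1 : e (e.symm (j.codRestrict ι.range h b)) = j.codRestrict ι.range h b :=
    e.apply_symm_apply _
  have h2 : ι (e.symm (j.codRestrict ι.range h b)) = (e (e.symm (j.codRestrict ι.range h b)) : L) :=
    rfl
  change ι (e.symm (j.codRestrict ι.range h b)) = j b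
  rw [h2, h1]
  rfl

section main

variable {A : Type u} [CommRing A] [IsLocalRing A] [IsDomain A] [IsNoetherianRing A]
  {K L : Type u} [Field K] [Field L] [Algebra A K] [IsFractionRing A K] [Algebra K L] [Algebra A L]
  [IsScalarTower A K L]
  {R S : Type u} [CommRing R] [CommRing S] (φ : R →+* S) (ρ : R →+* A) (ev : S →+* L)
  {I : Type*} [Finite I] (O : I → Type u) [∀ i, CommRing (O i)] [∀ i, IsLocalRing (O i)]
  (ι : ∀ i, O i →+* L) (ψ : ∀ i, A →+* O i) [∀ i, IsLocalHom (ψ i)] (g : ∀ i, S →+* O i)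

include φ ρ ι g in
theorem sum_eq_ordFrac_norm (hA : ringKrullDim A = 1) (hφ : φ.Finite)
    (hρ : ∀ a : A, ∃ r t : R, IsUnit (ρ t) ∧ a * ρ t = ρ r)
    (hev : ∀ r, ev (φ r) = algebraMap A L (ρ r))
    (hfracL : ∀ z : L, ∃ s t : S, ev t ≠ 0 ∧ z = ev s / ev t)
    (hι : ∀ i, Function.Injective (ι i))
    (hιψ : ∀ i a, ι i (ψ i a) = algebraMap A L a)
    (hιg : ∀ i s, ι i (g i s) = ev s)
    (hgfrac : ∀ i (c : O i), ∃ s t : S, IsUnit (g i t) ∧ c * g i t = g i s)
    (hinj : ∀ i j, (maximalIdeal (O i)).comap (g i) = (maximalIdeal (O j)).comap (g j) → i = j)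
    (hsurj : ∀ P : Ideal S, P.IsPrime → P.comap φ = (maximalIdeal A).comap ρ →
      ∃ i, P = (maximalIdeal (O i)).comap (g i))
    (s : S) (hs : ev s ≠ 0) :
    ∑ᶠ i, ((@Module.finrank (ResidueField A) (ResidueField (O i)) _ _
        (ResidueField.map (ψ i)).toAlgebra.toModule : ℕ) : ℤ) *
          ((Module.length (O i) (O i ⧸ Ideal.span {g i s})).toNat : ℤ) =
      CycAlg.ordFrac A K (Algebra.norm K (ev s)) := by
  classical
  have hAL : Function.Injective (algebraMap A L) := by
    rw [IsScalarTower.algebraMap_eq A K L]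
    exact (algebraMap K L).injective.comp (IsFractionRing.injective A K)
  obtain ⟨B, hBdef⟩ : ∃ B : Subalgebra A L, B = Algebra.adjoin A (Set.range ev) := ⟨_, rfl⟩
  have hevB : ∀ s, ev s ∈ B := by
    subst hBdef
    exact fun s => Algebra.subset_adjoin ⟨s, rfl⟩
  have hBind : ∀ (P : L → Prop), (∀ s, P (ev s)) → (∀ a, P (algebraMap A L a)) →
      (∀ x y, P x → P y → P (x + y)) → (∀ x y, P x → P y → P (x * y)) → ∀ b ∈ B, P b := by
    subst hBdef
    intro P h1 h2 h3 h4 b hb
    exact Algebra.adjoin_induction (p := fun x _ => P x) (by rintro _ ⟨s, rfl⟩; exact h1 s) h2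
      (fun x y _ _ => h3 x y) (fun x y _ _ => h4 x y) hb
  haveI hfinB : Module.Finite A B := by
    subst hBdef
    letI := φ.toAlgebra
    haveI : Module.Finite R S := hφ
    obtain ⟨G, hG⟩ := (Module.Finite.fg_top (R := R) (M := S))
    have hle : Algebra.adjoin A (Set.range ev) ≤ Algebra.adjoin A (ev '' (G : Set S)) := by
      apply Algebra.adjoin_le
      rintro _ ⟨s, rfl⟩
      have hs : s ∈ Submodule.span R (G : Set S) := by rw [hG]; trivial
      induction hs using Submodule.span_induction with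
      | mem x hx => exact Algebra.subset_adjoin ⟨x, hx, rfl⟩
      | zero => rw [map_zero]; exact zero_mem _
      | add x y _ _ hx hy => rw [map_add]; exact add_mem hx hy
      | smul r x _ hx =>
        have h1 : r • x = φ r * x := rfl
        rw [h1, map_mul, hev]
        exact mul_mem (Subalgebra.algebraMap_mem _ _) hx
    have heq : Algebra.adjoin A (Set.range ev) = Algebra.adjoin A (ev '' (G : Set S)) :=
      le_antisymm hle (Algebra.adjoin_mono (Set.image_subset_range _ _))
    rw [heq]
    refine Algebra.finite_adjoin_of_finite_of_isIntegral (G.finite_toSet.image _) ?_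
    rintro _ ⟨x, _, rfl⟩
    have hx : IsIntegral R x := hφ.to_isIntegral x
    exact IsIntegral.map_of_comp_eq ρ ev (by ext r; exact (hev r).symm) hx
  haveI : IsFractionRing B L := by
    apply IsFractionRing.of_field
    intro z
    obtain ⟨s, t, ht, rfl⟩ := hfracL z
    exact ⟨⟨ev s, hevB s⟩, ⟨ev t, hevB t⟩, rfl⟩
  have hinjAB : Function.Injective (algebraMap A B) := by
    intro a a' h
    apply hAL
    exact congrArg Subtype.val h
  -- the maps to the local rings
  have hrange : ∀ i (b : B), algebraMap B L b ∈ (ι i).range := by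
    intro i b
    refine hBind (fun x => x ∈ (ι i).range) (fun s => ⟨g i s, hιg i s⟩)
      (fun a => ⟨ψ i a, hιψ i a⟩) (fun x y hx hy => add_mem hx hy)
      (fun x y hx hy => mul_mem hx hy) b b.2
  choose β hβ using fun i =>
    exists_lift_of_injective (algebraMap B L) (ι i) (hι i) (hrange i)
  let ev' : S →+* B := ev.codRestrict B hevB
  have hβg : ∀ i s, β i (ev' s) = g i s := by
    intro i s
    apply hι i
    rw [hβ, hιg]
    rfl
  have hβψ : ∀ i a, β i (algebraMap A B a) = ψ i a := by
    intro i a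
    apply hι i
    rw [hβ, hιψ]
    rfl
  have hβinj : ∀ i, Function.Injective (β i) := by
    intro i b b' h
    have := congrArg (ι i) h
    rw [hβ, hβ] at this
    exact Subtype.ext this
  have hden : ∀ b ∈ B, ∃ t : R, IsUnit (ρ t) ∧ ∃ s : S, algebraMap A L (ρ t) * b = ev s := by
    apply hBind
    · intro s
      exact ⟨1, by rw [map_one]; exact isUnit_one, s, by rw [map_one, map_one, one_mul]⟩
    · intro a
      obtain ⟨r, t, ht, hat⟩ := hρ a
      refine ⟨t, ht, φ r, ?_⟩
      rw [hev, ← map_mul, mul_comm, hat]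
    · rintro x y ⟨t1, ht1, s1, h1⟩ ⟨t2, ht2, s2, h2⟩
      refine ⟨t1 * t2, by rw [map_mul]; exact ht1.mul ht2, φ t2 * s1 + φ t1 * s2, ?_⟩
      rw [map_mul ρ, map_mul (algebraMap A L), map_add ev, map_mul ev, map_mul ev, hev, hev,
        ← h1, ← h2]
      ring
    · rintro x y ⟨t1, ht1, s1, h1⟩ ⟨t2, ht2, s2, h2⟩
      refine ⟨t1 * t2, by rw [map_mul]; exact ht1.mul ht2, s1 * s2, ?_⟩
      rw [map_mul ev, ← h1, ← h2, map_mul ρ, map_mul (algebraMap A L)]
      ring
  -- S14503
  haveI : FaithfulSMul A B := (faithfulSMul_iff_algebraMap_injective A B).mpr hinjAB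
  haveI : Algebra.IsIntegral A B := Algebra.IsIntegral.of_finite A B
  haveI : Algebra.IsAlgebraic A B := Algebra.IsIntegral.isAlgebraic
  haveI : FiniteDimensional K L := Module.Finite.of_isLocalization A B (nonZeroDivisors A)
  have hr : ev' s ≠ 0 := by
    intro h
    exact hs (congrArg Subtype.val h)
  obtain ⟨hlt, hord⟩ := Groth.Agent.S14503.result A hA B hinjAB K L (ev' s) hr
  have hnorm : algebraMap B L (ev' s) = ev s := rfl
  rw [hnorm] at hord
  rw [← hord]
  -- semi-local decomposition
  have hflA : IsFiniteLength A (B ⧸ Ideal.span {ev' s}) :=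
    Module.length_ne_top_iff.mp hlt.ne
  have hflB : IsFiniteLength B (B ⧸ Ideal.span {ev' s}) := by
    rw [isFiniteLength_iff_isNoetherian_isArtinian] at hflA ⊢
    obtain ⟨h1, h2⟩ := hflA
    exact ⟨isNoetherian_of_tower A h1, isArtinian_of_tower A h2⟩
  have hψ : ∀ i, (β i).comp (algebraMap A B) = ψ i := fun i => RingHom.ext (hβψ i)
  have hfrac : ∀ i (c : O i), ∃ b s : B, β i s ∉ maximalIdeal (O i) ∧ c * β i s = β i b := by
    intro i c
    obtain ⟨s, t, ht, hc⟩ := hgfrac i c
    refine ⟨ev' s, ev' t, ?_, ?_⟩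
    · rw [hβg, mem_maximalIdeal, mem_nonunits_iff, not_not]
      exact ht
    · rw [hβg, hβg, hc]
  have hcomap : ∀ i, ((maximalIdeal (O i)).comap (β i)).comap ev' =
      (maximalIdeal (O i)).comap (g i) := by
    intro i
    ext x
    rw [Ideal.mem_comap, Ideal.mem_comap, Ideal.mem_comap, hβg]
  have hinj' : ∀ i j, (maximalIdeal (O i)).comap (β i) = (maximalIdeal (O j)).comap (β j) →
      i = j := by
    intro i j h
    apply hinj
    rw [← hcomap, ← hcomap, h]
  have hsurj' : ∀ n : Ideal B, n.IsMaximal → ∃ i, n = (maximalIdeal (O i)).comap (β i) := by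
    intro n hn
    haveI := hn
    have hnA : n.comap (algebraMap A B) = maximalIdeal A :=
      Groth.Agent.Lib.Helper4.Branches.comap_eq_maximalIdeal n
    have hP : (n.comap ev').comap φ = (maximalIdeal A).comap ρ := by
      ext r
      rw [Ideal.mem_comap, Ideal.mem_comap, Ideal.mem_comap, ← hnA, Ideal.mem_comap]
      have : ev' (φ r) = algebraMap A B (ρ r) := Subtype.ext (hev r)
      rw [this]
    obtain ⟨i, hi⟩ := hsurj (n.comap ev') (Ideal.comap_isPrime _ _) hP
    refine ⟨i, ?_⟩
    haveI : ((maximalIdeal (O i)).comap (β i)).IsPrime := Ideal.comap_isPrime _ _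
    refine hn.eq_of_le (Ideal.IsPrime.ne_top inferInstance) ?_
    intro b hb
    obtain ⟨t, ht, s', hts⟩ := hden b b.2
    have h1 : algebraMap A B (ρ t) * b = ev' s' := Subtype.ext hts
    have h2 : ev' s' ∈ n := by
      rw [← h1]
      exact n.mul_mem_left _ hb
    have h3 : s' ∈ (maximalIdeal (O i)).comap (g i) := by
      rw [← hi]
      exact h2
    rw [Ideal.mem_comap, ← hβg, ← h1, map_mul, hβψ] at h3
    rw [Ideal.mem_comap]
    have hu : IsUnit (ψ i (ρ t)) := ht.map (ψ i)
    exact (Ideal.IsPrime.mem_or_mem inferInstance h3).resolve_left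
      (fun h => (mem_nonunits_iff.mp ((mem_maximalIdeal _).mp h)) hu)
  have hsemi := Groth.Agent.R2.H9.SemiLocal.length_eq_finsum O β ψ hψ hβinj hfrac hinj' hsurj'
    (ev' s) hflB
  -- convert to integers
  haveI := Fintype.ofFinite I
  rw [finsum_eq_sum_of_fintype] at hsemi ⊢
  have hterm : ∀ i, (@Module.finrank (ResidueField A) (ResidueField (O i)) _ _
        (ResidueField.map (ψ i)).toAlgebra.toModule : ℕ∞) *
          Module.length (O i) (O i ⧸ Ideal.span {β i (ev' s)}) ≠ ⊤ := by
    intro i hi
    have : Module.length A (B ⧸ Ideal.span {ev' s}) = ⊤ := by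
      rw [hsemi, eq_top_iff, ← hi]
      exact Finset.single_le_sum (f := fun i => (@Module.finrank (ResidueField A)
        (ResidueField (O i)) _ _ (ResidueField.map (ψ i)).toAlgebra.toModule : ℕ∞) *
          Module.length (O i) (O i ⧸ Ideal.span {β i (ev' s)})) (fun _ _ => zero_le)
        (Finset.mem_univ i)
    exact hlt.ne this
  have hsum : Module.length A (B ⧸ Ideal.span {ev' s}) =
      ((∑ i, (@Module.finrank (ResidueField A) (ResidueField (O i)) _ _
        (ResidueField.map (ψ i)).toAlgebra.toModule) *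
          (Module.length (O i) (O i ⧸ Ideal.span {g i s})).toNat : ℕ) : ℕ∞) := by
    rw [hsemi, Nat.cast_sum]
    refine Finset.sum_congr rfl fun i _ => ?_
    rw [← ENat.natCast_toNat (hterm i), ENat.toNat_mul, ENat.toNat_natCast, hβg]
  rw [hsum, ENat.toNat_natCast, Nat.cast_sum]
  refine Finset.sum_congr rfl fun i _ => ?_
  rw [Nat.cast_mul]

end main

end Groth.Agent.R2.H9.NormPushAlg
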