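import Mathlib
import Groth.Prelude.Def_Cyc
import Groth.Agent.R2.H9LocQuot
import Groth.Agent.R2.H9OrdOpen
import Groth.Agent.R2.H9OrdDiv
import Groth.Agent.R2.H9NormPushAlg

/-!
# Proper pushforward of a principal divisor: the finite affine case (helper9)

For `p : X ⟶ Y` a morphism of integral schemes which is finite over an affine open `W ∋ y`, with `y`
of codimension one, and `s` a section of `O_X` over `p⁻¹ W`:
`∑_{x ↦ y} [κ(x):κ(y)] · ℓ(O_{X,x}/(s)) = ord_y(Nm(s))` (`finsum_length_eq_ordAt_norm`).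
-/

set_option autoImplicit false
set_option linter.style.haveILetI false
universe u
open AlgebraicGeometry CategoryTheory IsLocalRing TopologicalSpace

namespace Groth.Agent.R2.H9.NormPushGeo

variable {X Y : Scheme.{u}}

theorem residue_generic_injective [IsIntegral X] :
    Function.Injective (X.residue (genericPoint X)).hom := by
  have hF : IsField (X.presheaf.stalk (genericPoint X)) := Field.toIsField X.functionField
  have hm : maximalIdeal (X.presheaf.stalk (genericPoint X)) = ⊥ :=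
    IsLocalRing.isField_iff_maximalIdeal_eq.mp hF
  rw [injective_iff_map_eq_zero]
  intro a ha
  have h1 : a ∈ maximalIdeal (X.presheaf.stalk (genericPoint X)) :=
    (IsLocalRing.residue_eq_zero_iff a).mp ha
  rw [hm] at h1
  exact h1

theorem specMap_generic_injective [IsIntegral X] (x : X) (h : genericPoint X ⤳ x) :
    Function.Injective (Cyc.specMap x (genericPoint X) h) := by
  unfold Cyc.specMap
  rw [CommRingCat.hom_comp, RingHom.coe_comp]
  refine Function.Injective.comp residue_generic_injective ?_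
  exact IsFractionRing.injective (X.presheaf.stalk x) X.functionField

theorem specMap_injective_of_eq [IsIntegral X] (x ξ : X) (hξ : ξ = genericPoint X) (h : ξ ⤳ x) :
    Function.Injective (Cyc.specMap x ξ h) := by
  subst hξ
  exact specMap_generic_injective x h

section stalkdata

open Groth.Agent.R2.H9.LocQuot Groth.Agent.R2.H9.OrdOpen

/-- `κ(ξ)` as an algebra over `O_{Y,y}` for `ξ ⤳ y`. -/
@[reducible] noncomputable def algStalk (y ξ : Y) (h : ξ ⤳ y) :
    Algebra (Y.presheaf.stalk y) (Y.residueField ξ) := (Cyc.specMap y ξ h).toAlgebra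

theorem stalk_cond [IsIntegral Y] [IsLocallyNoetherian Y] (δ : Y → ℤ) (hδ : Cyc.IsDimFun Y δ)
    (y ξ : Y) (h : ξ ⤳ y) (hξ : ξ = genericPoint Y) (hδ1 : δ ξ = δ y + 1) :
    letI := algStalk y ξ h
    IsFractionRing (Y.presheaf.stalk y) (Y.residueField ξ) ∧
      ringKrullDim (Y.presheaf.stalk y) = 1 ∧
      ∀ g, CycAlg.ordFrac (Y.presheaf.stalk y) (Y.residueField ξ) g = Cyc.ordAt y ξ h g := by
  letI := algStalk y ξ h
  have hinj := specMap_injective_of_eq y ξ hξ h
  have hker : RingHom.ker (Cyc.specMap y ξ h) = ⊥ := (RingHom.injective_iff_ker_eq_bot _).mp hinj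
  let σ : Cyc.LocQuot y ξ h ≃+* Y.presheaf.stalk y :=
    (Ideal.quotEquivOfEq hker).trans (RingEquiv.quotientBot _)
  have hσ : ∀ c, σ (Ideal.Quotient.mk _ c) = c := fun c => rfl
  have hστ : ∀ r : Cyc.LocQuot y ξ h, (RingEquiv.refl (Y.residueField ξ))
      (algebraMap (Cyc.LocQuot y ξ h) (Y.residueField ξ) r) =
      algebraMap (Y.presheaf.stalk y) (Y.residueField ξ) (σ r) := by
    intro r
    obtain ⟨c, rfl⟩ := Ideal.Quotient.mk_surjective r
    rw [hσ, RingEquiv.refl_apply, ← residue_specializes_eq]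
    rfl
  obtain ⟨k, hk, hδk⟩ := Groth.Agent.Lib.Helper4.DimFormula.isDimFun_eq_add_locQuotDim Y δ hδ y ξ h
  have hk1 : k = 1 := by omega
  subst hk1
  have hc : IsNoetherianRing (Cyc.LocQuot y ξ h) ∧ Ring.KrullDimLE 1 (Cyc.LocQuot y ξ h) ∧
      Nontrivial (Cyc.LocQuot y ξ h) ∧ IsFractionRing (Cyc.LocQuot y ξ h) (Y.residueField ξ) :=
    ⟨inferInstance, Ring.krullDimLE_iff.mpr (le_of_eq hk), inferInstance, inferInstance⟩
  have hc' := cond_of_ringEquiv σ (RingEquiv.refl (Y.residueField ξ)) hστ hc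
  refine ⟨hc'.2.2.2, ?_, fun g => ?_⟩
  · rw [← ringKrullDim_eq_of_ringEquiv σ, hk]
    rfl
  · have := cycOrdFrac_ringEquiv σ (RingEquiv.refl (Y.residueField ξ)) hστ g
    rw [RingEquiv.refl_apply] at this
    exact this

end stalkdata

section psi

open Groth.Agent.R2.H9.OrdOpen

variable (p : X ⟶ Y)

/-- the local homomorphism `O_{Y,y} → O_{X,x}` for `p x = y`. -/
noncomputable def psi (x : X) (y : Y) (hx : p x = y) :
    Y.presheaf.stalk y →+* X.presheaf.stalk x :=
  (p.stalkMap x).hom.comp (Y.presheaf.stalkSpecializes (specializes_of_eq hx)).hom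

theorem psi_self (x : X) : psi p x (p x) rfl = (p.stalkMap x).hom := by
  unfold psi
  rw [TopCat.Presheaf.stalkSpecializes_refl]
  rfl

instance isLocalHom_psi (x : X) (y : Y) (hx : p x = y) : IsLocalHom (psi p x y hx) := by
  subst hx
  rw [psi_self]
  infer_instance

theorem specMap_psi (x ξ : X) (y : Y) (hx : p x = y) (h : ξ ⤳ x) (hy : p ξ ⤳ y)
    (c : Y.presheaf.stalk y) :
    Cyc.specMap x ξ h (psi p x y hx c) = p.residueFieldMap ξ (Cyc.specMap y (p ξ) hy c) := by
  subst hx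
  rw [psi_self]
  exact specMap_stalkMap p x ξ h c

theorem finrank_congr_hom {A O : Type u} [CommRing A] [IsLocalRing A] [CommRing O] [IsLocalRing O]
    (ψ ψ' : A →+* O) [IsLocalHom ψ] [IsLocalHom ψ'] (h : ψ = ψ') :
    @Module.finrank (ResidueField A) (ResidueField O) _ _
      (ResidueField.map ψ).toAlgebra.toModule =
    @Module.finrank (ResidueField A) (ResidueField O) _ _
      (ResidueField.map ψ').toAlgebra.toModule := by
  subst h
  rfl

theorem finrank_psi (x : X) (y : Y) (hx : p x = y) :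
    @Module.finrank (ResidueField (Y.presheaf.stalk y)) (ResidueField (X.presheaf.stalk x)) _ _
      (ResidueField.map (psi p x y hx)).toAlgebra.toModule = p.residueDegree x := by
  subst hx
  rw [finrank_congr_hom _ _ (psi_self p x)]
  rfl

end psi

section germ

theorem exists_germ_frac {U : X.Opens} (hU : IsAffineOpen U) (x : X) (hxU : x ∈ U)
    (c : X.presheaf.stalk x) :
    ∃ s t : Γ(X, U), IsUnit ((X.presheaf.germ U x hxU).hom t) ∧
      c * (X.presheaf.germ U x hxU).hom t = (X.presheaf.germ U x hxU).hom s := by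
  letI := X.presheaf.algebra_section_stalk (U := U) ⟨x, hxU⟩
  haveI := hU.isLocalization_stalk ⟨x, hxU⟩
  obtain ⟨⟨s, t⟩, hst⟩ := IsLocalization.surj (hU.primeIdealOf ⟨x, hxU⟩).asIdeal.primeCompl c
  exact ⟨s, t.1, IsLocalization.map_units (X.presheaf.stalk x) t, hst⟩

theorem comap_germ_maximalIdeal {U : X.Opens} (hU : IsAffineOpen U) (x : X) (hxU : x ∈ U) :
    (maximalIdeal (X.presheaf.stalk x)).comap (X.presheaf.germ U x hxU).hom =
      (hU.primeIdealOf ⟨x, hxU⟩).asIdeal := by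
  letI := X.presheaf.algebra_section_stalk (U := U) ⟨x, hxU⟩
  haveI := hU.isLocalization_stalk ⟨x, hxU⟩
  exact IsLocalization.AtPrime.under_maximalIdeal (X.presheaf.stalk x)
    (hU.primeIdealOf ⟨x, hxU⟩).asIdeal

theorem specMap_germ {U : X.Opens} (x ξ : X) (h : ξ ⤳ x) (hxU : x ∈ U) (s : Γ(X, U)) :
    Cyc.specMap x ξ h ((X.presheaf.germ U x hxU).hom s) =
      (X.evaluation U ξ (h.mem_open U.2 hxU)).hom s := by
  have h1 := ConcreteCategory.congr_hom (TopCat.Presheaf.germ_stalkSpecializes X.presheaf hxU h) s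
  change X.residue ξ (X.presheaf.stalkSpecializes h (X.presheaf.germ U x hxU s)) = _
  erw [h1]
  rfl

theorem exists_evaluation_frac {U : X.Opens} (hU : IsAffineOpen U) (ξ : X) (hξU : ξ ∈ U)
    (z : X.residueField ξ) :
    ∃ s t : Γ(X, U), (X.evaluation U ξ hξU).hom t ≠ 0 ∧
      z = (X.evaluation U ξ hξU).hom s / (X.evaluation U ξ hξU).hom t := by
  obtain ⟨w, rfl⟩ := X.residue_surjective ξ z
  obtain ⟨s, t, ht, hst⟩ := exists_germ_frac hU ξ hξU w
  have hne : (X.evaluation U ξ hξU).hom t ≠ 0 := (ht.map (X.residue ξ).hom).ne_zero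
  refine ⟨s, t, hne, ?_⟩
  rw [eq_div_iff hne]
  have := congrArg (X.residue ξ).hom hst
  rw [map_mul] at this
  exact this

end germ

section points

theorem eq_of_primeIdealOf_asIdeal_eq {U : X.Opens} (hU : IsAffineOpen U) (x x' : X) (hx : x ∈ U)
    (hx' : x' ∈ U)
    (h : (hU.primeIdealOf ⟨x, hx⟩).asIdeal = (hU.primeIdealOf ⟨x', hx'⟩).asIdeal) : x = x' := by
  have h1 : hU.primeIdealOf ⟨x, hx⟩ = hU.primeIdealOf ⟨x', hx'⟩ := PrimeSpectrum.ext h
  have h2 := hU.fromSpec_primeIdealOf ⟨x, hx⟩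
  have h3 := hU.fromSpec_primeIdealOf ⟨x', hx'⟩
  rw [h1] at h2
  exact h2.symm.trans h3

theorem exists_point_of_prime {U : X.Opens} (hU : IsAffineOpen U) (P : Ideal Γ(X, U))
    (hP : P.IsPrime) : ∃ (x : X) (hx : x ∈ U), (hU.primeIdealOf ⟨x, hx⟩).asIdeal = P := by
  have hmem : hU.fromSpec ⟨P, hP⟩ ∈ U := by
    have : hU.fromSpec ⟨P, hP⟩ ∈ Set.range hU.fromSpec := Set.mem_range_self _
    rw [hU.range_fromSpec] at this
    exact this
  refine ⟨hU.fromSpec ⟨P, hP⟩, hmem, ?_⟩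
  have h2 := hU.fromSpec_primeIdealOf ⟨hU.fromSpec ⟨P, hP⟩, hmem⟩
  have h3 : hU.primeIdealOf ⟨hU.fromSpec ⟨P, hP⟩, hmem⟩ = ⟨P, hP⟩ :=
    hU.fromSpec.isOpenEmbedding.injective h2
  rw [h3]

variable (p : X ⟶ Y)

theorem evaluation_app (W : Y.Opens) (ξ : X) (y : Y) (hξ : p ξ ∈ W) (hy : p ξ ⤳ y) (hyW : y ∈ W)
    (r : Γ(Y, W)) :
    (X.evaluation (p ⁻¹ᵁ W) ξ hξ).hom ((p.app W).hom r) =
      (p.residueFieldMap ξ).hom (Cyc.specMap y (p ξ) hy ((Y.presheaf.germ W y hyW).hom r)) := by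
  rw [specMap_germ y (p ξ) hy hyW r]
  exact (Scheme.evaluation_naturality_apply p ξ hξ r).symm

theorem comap_app_primeIdealOf (W : Y.Opens) (hW : IsAffineOpen W)
    (hU : IsAffineOpen (p ⁻¹ᵁ W)) (x : X) (hx : p x ∈ W) :
    ((hU.primeIdealOf ⟨x, hx⟩).asIdeal).comap (p.app W).hom =
      (hW.primeIdealOf ⟨p x, hx⟩).asIdeal := by
  have h := IsAffineOpen.comap_primeIdealOf_appLE (f := p) (x := x) W hW (p ⁻¹ᵁ W) hU le_rfl hx
  rw [← Scheme.Hom.app_eq_appLE] at h
  exact congrArg PrimeSpectrum.asIdeal h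

end points

section main

open Groth.Agent.R2.H9.NormPushAlg

theorem finsum_length_eq_ordAt_norm [IsIntegral X] [IsIntegral Y] [IsLocallyNoetherian Y]
    (p : X ⟶ Y) (δY : Y → ℤ) (hδY : Cyc.IsDimFun Y δY) (W : Y.Opens) (hW : IsAffineOpen W)
    (hU : IsAffineOpen (p ⁻¹ᵁ W)) (hfin : (p.app W).hom.Finite)
    (hdom : p (genericPoint X) = genericPoint Y) (y : Y) (hyW : y ∈ W)
    (hy : p (genericPoint X) ⤳ y) (hδ1 : δY (p (genericPoint X)) = δY y + 1)
    (hfib : (p ⁻¹' {y}).Finite) (hηU : genericPoint X ∈ p ⁻¹ᵁ W)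
    (hmem : ∀ x : ↥(p ⁻¹' {y}), x.1 ∈ p ⁻¹ᵁ W)
    (s : Γ(X, p ⁻¹ᵁ W)) (hs : (X.evaluation _ (genericPoint X) hηU).hom s ≠ 0) :
    ∑ᶠ x : ↥(p ⁻¹' {y}), (p.residueDegree x.1 : ℤ) *
        ((Module.length (X.presheaf.stalk x.1) (X.presheaf.stalk x.1 ⧸
          Ideal.span {(X.presheaf.germ (p ⁻¹ᵁ W) x.1 (hmem x)).hom s})).toNat : ℤ) =
      Cyc.ordAt y (p (genericPoint X)) hy
        (Cyc.normGen p (genericPoint X) ((X.evaluation _ (genericPoint X) hηU).hom s)) := by
  classical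
  letI : Algebra (Y.presheaf.stalk y) (Y.residueField (p (genericPoint X))) :=
    algStalk y (p (genericPoint X)) hy
  letI : Algebra (Y.residueField (p (genericPoint X))) (X.residueField (genericPoint X)) :=
    (p.residueFieldMap (genericPoint X)).hom.toAlgebra
  letI : Algebra (Y.presheaf.stalk y) (X.residueField (genericPoint X)) :=
    ((p.residueFieldMap (genericPoint X)).hom.comp
      (Cyc.specMap y (p (genericPoint X)) hy)).toAlgebra
  haveI : IsScalarTower (Y.presheaf.stalk y) (Y.residueField (p (genericPoint X)))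
      (X.residueField (genericPoint X)) := IsScalarTower.of_algebraMap_eq (fun _ => rfl)
  obtain ⟨hfr, hdim, hord⟩ := stalk_cond δY hδY y (p (genericPoint X)) hy hdom hδ1
  haveI := hfr
  haveI : Finite ↥(p ⁻¹' {y}) := hfib.to_subtype
  have hgen : ∀ x : X, genericPoint X ⤳ x := fun x => genericPoint_specializes x
  have key := sum_eq_ordFrac_norm (A := Y.presheaf.stalk y)
    (K := Y.residueField (p (genericPoint X))) (L := X.residueField (genericPoint X))
    (p.app W).hom (Y.presheaf.germ W y hyW).hom (X.evaluation _ (genericPoint X) hηU).hom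
    (fun i : ↥(p ⁻¹' {y}) => X.presheaf.stalk i.1)
    (fun i => Cyc.specMap i.1 (genericPoint X) (hgen i.1))
    (fun i => psi p i.1 y i.2)
    (fun i => (X.presheaf.germ (p ⁻¹ᵁ W) i.1 (hmem i)).hom)
    hdim hfin
    (fun a => exists_germ_frac hW y hyW a)
    (fun r => evaluation_app p W (genericPoint X) y hηU hy hyW r)
    (fun z => exists_evaluation_frac hU (genericPoint X) hηU z)
    (fun i => specMap_generic_injective i.1 (hgen i.1))
    (fun i a => specMap_psi p i.1 (genericPoint X) y i.2 (hgen i.1) hy a)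
    (fun i s => specMap_germ i.1 (genericPoint X) (hgen i.1) (hmem i) s)
    (fun i c => exists_germ_frac hU i.1 (hmem i) c)
    ?_ ?_ s hs
  · rw [← hord]
    have hn : Cyc.normGen p (genericPoint X)
        ((X.evaluation _ (genericPoint X) hηU).hom s) =
        Algebra.norm (Y.residueField (p (genericPoint X)))
          ((X.evaluation _ (genericPoint X) hηU).hom s) := rfl
    rw [hn, ← key]
    refine finsum_congr fun i => ?_
    rw [finrank_psi p i.1 y i.2]
  · intro i j hij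
    rw [comap_germ_maximalIdeal hU i.1 (hmem i), comap_germ_maximalIdeal hU j.1 (hmem j)] at hij
    exact Subtype.ext (eq_of_primeIdealOf_asIdeal_eq hU i.1 j.1 (hmem i) (hmem j) hij)
  · intro P hP hPc
    obtain ⟨x, hxU, hxP⟩ := exists_point_of_prime hU P hP
    have h1 := comap_app_primeIdealOf p W hW hU x hxU
    rw [hxP, hPc, comap_germ_maximalIdeal hW y hyW] at h1
    have hpx : p x = y := (eq_of_primeIdealOf_asIdeal_eq hW y (p x) hyW hxU h1).symm
    refine ⟨⟨x, hpx⟩, ?_⟩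
    rw [comap_germ_maximalIdeal hU x (hmem ⟨x, hpx⟩)]
    exact hxP.symm

end main

section main2

open Groth.Agent.R2.H9.OrdDiv

theorem normGen_ne_zero (p : X ⟶ Y) (ξ : X) (a : X.residueField ξ) (ha : a ≠ 0) :
    Cyc.normGen p ξ a ≠ 0 := by
  unfold Cyc.normGen
  letI := (p.residueFieldMap ξ).hom.toAlgebra
  by_cases hfd : Module.Finite (Y.residueField (p ξ)) (X.residueField ξ)
  · exact Algebra.norm_ne_zero_iff.mpr ha
  · rw [Algebra.norm_eq_one_of_not_module_finite hfd]
    exact one_ne_zero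

theorem normGen_div (p : X ⟶ Y) (ξ : X) (a b : X.residueField ξ) (hb : b ≠ 0) :
    Cyc.normGen p ξ (a / b) = Cyc.normGen p ξ a / Cyc.normGen p ξ b := by
  have hne := normGen_ne_zero p ξ b hb
  rw [eq_div_iff hne]
  unfold Cyc.normGen
  letI := (p.residueFieldMap ξ).hom.toAlgebra
  rw [← map_mul, div_mul_cancel₀ a hb]

theorem ordFrac_mul' (R : Type u) [CommRing R] (K : Type u) [Field K] [Algebra R K] {f g : K}
    (hf : f ≠ 0) (hg : g ≠ 0) :
    CycAlg.ordFrac R K (f * g) = CycAlg.ordFrac R K f + CycAlg.ordFrac R K g := by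
  classical
  unfold CycAlg.ordFrac
  split_ifs with h
  · have := h.1; have := h.2.1; have := h.2.2.1; have := h.2.2.2
    rw [map_mul]
    have hf' : Ring.ordFrac R f ≠ 0 := by
      rw [ne_eq, map_eq_zero]; exact hf
    have hg' : Ring.ordFrac R g ≠ 0 := by
      rw [ne_eq, map_eq_zero]; exact hg
    obtain ⟨a, ha⟩ := WithZero.ne_zero_iff_exists.mp hf'
    obtain ⟨b, hb⟩ := WithZero.ne_zero_iff_exists.mp hg'
    rw [← ha, ← hb, ← WithZero.coe_mul, WithZero.recZeroCoe_coe, WithZero.recZeroCoe_coe,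
      WithZero.recZeroCoe_coe, toAdd_mul]
  · simp

theorem ordAt_div (x ξ : X) (h : ξ ⤳ x) {a b : X.residueField ξ} (ha : a ≠ 0) (hb : b ≠ 0) :
    Cyc.ordAt x ξ h (a / b) = Cyc.ordAt x ξ h a - Cyc.ordAt x ξ h b := by
  have h1 : Cyc.ordAt x ξ h (a / b * b) = Cyc.ordAt x ξ h (a / b) + Cyc.ordAt x ξ h b :=
    ordFrac_mul' _ _ (div_ne_zero ha hb) hb
  rw [div_mul_cancel₀ a hb] at h1
  omega

/-- **Pushforward of a principal divisor, finite affine case.** -/
theorem finsum_ordAt_eq_ordAt_norm [IsIntegral X] [IsIntegral Y] [IsLocallyNoetherian X]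
    [IsLocallyNoetherian Y] (p : X ⟶ Y) (δX : X → ℤ) (δY : Y → ℤ) (hδX : Cyc.IsDimFun X δX)
    (hδY : Cyc.IsDimFun Y δY) (W : Y.Opens) (hW : IsAffineOpen W)
    (hU : IsAffineOpen (p ⁻¹ᵁ W)) (hfin : (p.app W).hom.Finite)
    (hdom : p (genericPoint X) = genericPoint Y) (y : Y) (hyW : y ∈ W)
    (hy : p (genericPoint X) ⤳ y) (hδ1 : δY (p (genericPoint X)) = δY y + 1)
    (hfib : (p ⁻¹' {y}).Finite)
    (hδx : ∀ x, p x = y → δX (genericPoint X) = δX x + 1)
    (f : X.residueField (genericPoint X)) (hf : f ≠ 0) :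
    ∑ᶠ x ∈ p ⁻¹' {y}, Cyc.ordAt x (genericPoint X) (genericPoint_specializes x) f *
        (p.residueDegree x : ℤ) =
      Cyc.ordAt y (p (genericPoint X)) hy (Cyc.normGen p (genericPoint X) f) := by
  classical
  have hηU : genericPoint X ∈ p ⁻¹ᵁ W := hy.mem_open W.2 hyW
  have hmem : ∀ x : ↥(p ⁻¹' {y}), x.1 ∈ p ⁻¹ᵁ W := by
    intro x
    have hx : p x.1 = y := x.2
    change p x.1 ∈ W
    rw [hx]
    exact hyW
  haveI : Finite ↥(p ⁻¹' {y}) := hfib.to_subtype
  obtain ⟨s₁, s₂, hs₂, hfeq⟩ := exists_evaluation_frac hU (genericPoint X) hηU f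
  have hs₁ : (X.evaluation _ (genericPoint X) hηU).hom s₁ ≠ 0 := by
    intro h0
    rw [hfeq, h0, zero_div] at hf
    exact hf rfl
  have h1 := finsum_length_eq_ordAt_norm p δY hδY W hW hU hfin hdom y hyW hy hδ1 hfib hηU hmem
    s₁ hs₁
  have h2 := finsum_length_eq_ordAt_norm p δY hδY W hW hU hfin hdom y hyW hy hδ1 hfib hηU hmem
    s₂ hs₂
  rw [hfeq, normGen_div p _ _ _ hs₂, ordAt_div y _ hy (normGen_ne_zero p _ _ hs₁) (normGen_ne_zero p _ _ hs₂),
    ← h1, ← h2, ← finsum_sub_distrib (Set.toFinite _) (Set.toFinite _),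
    ← finsum_set_coe_eq_finsum_mem (p ⁻¹' {y})]
  refine finsum_congr fun x => ?_
  have hgen : genericPoint X ⤳ x.1 := genericPoint_specializes x.1
  have hinj := specMap_generic_injective x.1 hgen
  have hker : RingHom.ker (Cyc.specMap x.1 (genericPoint X) hgen) = ⊥ :=
    (RingHom.injective_iff_ker_eq_bot _).mp hinj
  have ha : Cyc.specMap x.1 (genericPoint X) hgen
      ((X.presheaf.germ (p ⁻¹ᵁ W) x.1 (hmem x)).hom s₁) ≠ 0 := by
    rw [specMap_germ]; exact hs₁
  have hb : Cyc.specMap x.1 (genericPoint X) hgen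
      ((X.presheaf.germ (p ⁻¹ᵁ W) x.1 (hmem x)).hom s₂) ≠ 0 := by
    rw [specMap_germ]; exact hs₂
  have hdiv := ordAt_div_eq δX hδX x.1 (genericPoint X) hgen (hδx x.1 x.2) _ _ ha hb
  rw [← specMap_eq, ← specMap_eq, specMap_germ, specMap_germ, hker, bot_sup_eq, bot_sup_eq] at hdiv
  rw [hdiv]
  ring

end main2

end Groth.Agent.R2.H9.NormPushGeo
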