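import Mathlib
import Groth.Prelude.Def_Cyc

/-!
# Finite fibres and finite affine neighbourhoods (helper9)

* `finite_of_noetherianSpace_of_forall_specializes_eq` : a quasi-sober Noetherian space without
  non-trivial specializations is finite.
* `finite_preimage_singleton_of_forall_specializes_eq` : if no two distinct points of the fibre
  `p⁻¹(y)` of a quasi-compact morphism locally of finite type specialize to one another, the fibre is
  finite.
* `exists_affine_finite` : a proper morphism with finite fibre over `y` is finite over an affine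
  open neighbourhood of `y`.
-/

set_option autoImplicit false
set_option linter.style.haveILetI false
universe u
open AlgebraicGeometry CategoryTheory TopologicalSpace

namespace Groth.Agent.R2.H9.NormPushTop

theorem finite_of_noetherianSpace_of_forall_specializes_eq (Z : Type*) [TopologicalSpace Z]
    [NoetherianSpace Z] [QuasiSober Z] (h : ∀ z z' : Z, z ⤳ z' → z = z') : Finite Z := by
  have hfin := NoetherianSpace.finite_irreducibleComponents (α := Z)
  have hcover : ⋃₀ irreducibleComponents Z = Set.univ := sUnion_irreducibleComponents
  have hT : ∀ T ∈ irreducibleComponents Z, T.Finite := by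
    intro T hT
    have hirr : IsIrreducible T := hT.1
    have hcl : IsClosed T := isClosed_of_mem_irreducibleComponents T hT
    obtain ⟨ξ, hξ⟩ := QuasiSober.sober hirr hcl
    have : T ⊆ {ξ} := by
      intro z hz
      exact (h ξ z (hξ.specializes hz)).symm
    exact (Set.finite_singleton ξ).subset this
  have := Set.Finite.sUnion hfin hT
  rw [hcover] at this
  exact Set.finite_univ_iff.mp this

variable {X Y : Scheme.{u}}

theorem finite_preimage_singleton_of_forall_specializes_eq (p : X ⟶ Y) [LocallyOfFiniteType p]
    [QuasiCompact p] (y : Y)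
    (h : ∀ x x' : X, p x = y → p x' = y → x ⤳ x' → x = x') : (p ⁻¹' {y}).Finite := by
  haveI : LocallyOfFiniteType (p.fiberToSpecResidueField y) :=
    inferInstanceAs (LocallyOfFiniteType (Limits.pullback.snd p (Y.fromSpecResidueField y)))
  haveI : QuasiCompact (p.fiberToSpecResidueField y) :=
    inferInstanceAs (QuasiCompact (Limits.pullback.snd p (Y.fromSpecResidueField y)))
  haveI : IsLocallyNoetherian (p.fiber y) :=
    LocallyOfFiniteType.isLocallyNoetherian (p.fiberToSpecResidueField y)
  haveI : CompactSpace (p.fiber y) :=
    (quasiCompact_iff_compactSpace (p.fiberToSpecResidueField y)).mp inferInstance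
  haveI : IsNoetherian (p.fiber y) := ⟨⟩
  have hmem : ∀ z : p.fiber y, p (p.fiberι y z) = y := by
    intro z
    have hz : p.fiberι y z ∈ Set.range (p.fiberι y) := Set.mem_range_self z
    rw [p.range_fiberι y] at hz
    exact hz
  haveI : Finite (p.fiber y) := by
    apply finite_of_noetherianSpace_of_forall_specializes_eq
    intro z z' hzz'
    have h1 : p.fiberι y z ⤳ p.fiberι y z' := hzz'.map (p.fiberι y).continuous
    exact (p.fiberι y).isEmbedding.injective (h _ _ (hmem z) (hmem z') h1)
  rw [← p.range_fiberι y]
  exact Set.finite_range _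

theorem exists_affine_finite (p : X ⟶ Y) [IsProper p] (y : Y) (hfib : (p ⁻¹' {y}).Finite) :
    ∃ W : Y.Opens, IsAffineOpen W ∧ y ∈ W ∧ IsAffineOpen (p ⁻¹ᵁ W) ∧ (p.app W).hom.Finite := by
  obtain ⟨V, hyV, hV⟩ := exists_isFinite_morphismRestrict_of_finite_preimage_singleton p y hfib
  obtain ⟨W', hW', hyW', -⟩ := exists_isAffineOpen_mem_and_subset (X := V.toScheme)
    (x := ⟨y, hyV⟩) (U := ⊤) trivial
  refine ⟨V.ι ''ᵁ W', hW'.image_of_isOpenImmersion V.ι, ⟨⟨y, hyV⟩, hyW', rfl⟩, ?_, ?_⟩
  · rw [← image_morphismRestrict_preimage]
    exact (hW'.preimage (p ∣_ V)).image_of_isOpenImmersion _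
  · have h1 : ((p ∣_ V).app W').hom.Finite := IsFinite.finite_app (p ∣_ V) W' hW'
    rw [morphismRestrict_app] at h1
    have h2 : (p.app (V.ι ''ᵁ W')).hom =
        ((X.presheaf.map (eqToHom (image_morphismRestrict_preimage p V W').symm).op).hom).comp
          ((p.app (V.ι ''ᵁ W') ≫
            X.presheaf.map (eqToHom (image_morphismRestrict_preimage p V W')).op).hom) := by
      rw [← CommRingCat.hom_comp, Category.assoc, ← Functor.map_comp]
      have : (eqToHom (image_morphismRestrict_preimage p V W')).op ≫
          (eqToHom (image_morphismRestrict_preimage p V W').symm).op = 𝟙 _ := by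
        rw [← op_comp, eqToHom_trans, eqToHom_refl, op_id]
      rw [this, CategoryTheory.Functor.map_id, Category.comp_id]
    rw [h2]
    refine RingHom.Finite.comp ?_ h1
    apply RingHom.Finite.of_surjective
    have hiso : IsIso (X.presheaf.map (eqToHom (image_morphismRestrict_preimage p V W').symm).op) :=
      inferInstance
    exact ((ConcreteCategory.isIso_iff_bijective _).mp hiso).2

end Groth.Agent.R2.H9.NormPushTop
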