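import Mathlib
import Groth.Agent.Lib.Helper23UnitStalk
import Groth.Agent.Lib.Helper4NormDelta

/-!
# Stalks of `i_* O_Z` for a closed immersion `i : Z ⟶ X` (helper9)

* `subsingleton_stalk_pushO` : the stalk of `i_* O_Z` at a point outside the (closed) range is zero.
* `length_stalk_pushO` : at `x = i z` the length of `(i_* O_Z)_x` over `O_{X,x}` is the length of the
  local ring `O_{Z,z}` over itself.
-/

set_option autoImplicit false
universe u
open CategoryTheory AlgebraicGeometry TopologicalSpace Opposite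

namespace Groth.Agent.R2.H9.PushStalk

set_option linter.style.haveILetI false

open Groth.Agent.Lib.Helper4.NormDelta Groth.Agent.Lib.Helper23.UnitStalk
open Groth.Agent.Lib.Helper2.QCoh Groth.Agent.Lib.Helper23.GenLocus

variable {Z X : Scheme.{u}} (i : Z ⟶ X)


theorem subsingleton_stalk_pushO (hcl : IsClosed (Set.range i)) (x : X) (hx : x ∉ Set.range i) :
    Subsingleton ((pushO i).presheaf.stalk x) := by
  refine ⟨fun a b => ?_⟩
  suffices h : ∀ a : (pushO i).presheaf.stalk x, a = 0 by rw [h a, h b]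
  intro a
  obtain ⟨V, hxV, m, rfl⟩ := (pushO i).presheaf.exists_germ_eq a
  let W : X.Opens := ⟨(Set.range i)ᶜ, hcl.isOpen_compl⟩
  have hxW : x ∈ V ⊓ W := ⟨hxV, hx⟩
  rw [← TopCat.Presheaf.germ_res_apply (pushO i).presheaf (homOfLE (inf_le_left : V ⊓ W ≤ V)) x hxW m]
  have hbot : i ⁻¹ᵁ (V ⊓ W) = ⊥ := by
    rw [eq_bot_iff]
    intro z hz
    exact (hz.2 ⟨z, rfl⟩).elim
  have hsub : Subsingleton Γ(pushO i, V ⊓ W) := by
    show Subsingleton Γ(Z, i ⁻¹ᵁ (V ⊓ W))
    rw [hbot]
    infer_instance
  rw [Subsingleton.elim ((pushO i).presheaf.map (homOfLE (inf_le_left : V ⊓ W ≤ V)).op m) 0, map_zero]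


section AtPoint

variable (z : Z)

/-- the comparison map `(i_* O_Z)_{i z} ⟶ (O_Z)_z` on stalks of abelian presheaves -/
noncomputable def sp : (pushO i).presheaf.stalk (i z) ⟶ (Coh.structureModule Z).presheaf.stalk z :=
  TopCat.Presheaf.stalkPushforward Ab i.base (Coh.structureModule Z).presheaf z

theorem sp_germ (V : X.Opens) (hz : i z ∈ V) (m : Γ(pushO i, V)) :
    sp i z ((pushO i).presheaf.germ V (i z) hz m) =
      (Coh.structureModule Z).presheaf.germ (i ⁻¹ᵁ V) z hz m := by
  have := TopCat.Presheaf.stalkPushforward_germ Ab i.base (Coh.structureModule Z).presheaf V z hz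
  exact congrArg (fun φ => φ m) this

theorem isIso_sp (hi : Topology.IsInducing i) : IsIso (sp i z) :=
  TopCat.Presheaf.stalkPushforward.stalkPushforward_iso_of_isInducing Ab hi _ z

/-- the comparison map `(i_* O_Z)_{i z} → O_{Z,z}` -/
noncomputable def toStalk : (pushO i).presheaf.stalk (i z) → Z.presheaf.stalk z :=
  fun m => (unitStalkEquiv z).symm (sp i z m)

theorem toStalk_germ (V : X.Opens) (hz : i z ∈ V) (m : Γ(pushO i, V)) :
    toStalk i z ((pushO i).presheaf.germ V (i z) hz m) =
      Z.presheaf.germ (i ⁻¹ᵁ V) z hz (ofS _ (ofPush i V m)) := by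
  unfold toStalk
  rw [sp_germ, LinearEquiv.symm_apply_eq]
  show _ = toUnitStalk z _
  rw [toUnitStalk_germ]
  rfl

theorem toStalk_bijective (hi : Topology.IsInducing i) : Function.Bijective (toStalk i z) := by
  haveI := isIso_sp i z hi
  exact (unitStalkEquiv z).symm.bijective.comp (ConcreteCategory.bijective_of_isIso (sp i z))

theorem toStalk_add (a b : (pushO i).presheaf.stalk (i z)) :
    toStalk i z (a + b) = toStalk i z a + toStalk i z b := by
  unfold toStalk
  rw [map_add, map_add]

theorem toStalk_smul (r : X.presheaf.stalk (i z)) (m : (pushO i).presheaf.stalk (i z)) :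
    toStalk i z (r • m) = (i.stalkMap z).hom r * toStalk i z m := by
  obtain ⟨V, hxV, t, rfl⟩ := (pushO i).presheaf.exists_germ_eq m
  obtain ⟨V', hxV', r', rfl⟩ := X.presheaf.exists_germ_eq r
  have hxW : i z ∈ V ⊓ V' := ⟨hxV, hxV'⟩
  have h1 : (pushO i).presheaf.germ V (i z) hxV t = (pushO i).presheaf.germ (V ⊓ V') (i z) hxW
      ((pushO i).presheaf.map (homOfLE inf_le_left).op t) :=
    (TopCat.Presheaf.germ_res_apply (pushO i).presheaf (homOfLE inf_le_left) (i z) hxW t).symm
  have h2 : X.presheaf.germ V' (i z) hxV' r' = X.presheaf.germ (V ⊓ V') (i z) hxW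
      (X.presheaf.map (homOfLE inf_le_right).op r') :=
    (TopCat.Presheaf.germ_res_apply X.presheaf (homOfLE inf_le_right) (i z) hxW r').symm
  rw [h1, h2, ← germ_smul, toStalk_germ, toStalk_germ, pushO_smul]
  show Z.presheaf.germ (i ⁻¹ᵁ (V ⊓ V')) z hxW (_ * _) = _
  rw [map_mul]
  congr 1
  exact (Scheme.Hom.germ_stalkMap_apply i (V ⊓ V') z hxW _).symm

/-- At `x = i z` the length of the stalk `(i_* O_Z)_x` over `O_{X,x}` is the length of the local ring
`O_{Z,z}` over itself, when `i` is inducing and surjective on stalks (e.g. a closed immersion). -/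
theorem length_stalk_pushO (hi : Topology.IsInducing i)
    (hs : Function.Surjective (i.stalkMap z).hom) :
    Module.length (X.presheaf.stalk (i z)) ((pushO i).presheaf.stalk (i z)) =
      Module.length (Z.presheaf.stalk z) (Z.presheaf.stalk z) := by
  letI alg : Algebra (X.presheaf.stalk (i z)) (Z.presheaf.stalk z) := (i.stalkMap z).hom.toAlgebra
  have halg : ∀ r, algebraMap (X.presheaf.stalk (i z)) (Z.presheaf.stalk z) r = (i.stalkMap z).hom r :=
    fun _ => rfl
  let e : (pushO i).presheaf.stalk (i z) ≃ₗ[X.presheaf.stalk (i z)] Z.presheaf.stalk z :=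
    LinearEquiv.ofBijective
      { toFun := toStalk i z
        map_add' := toStalk_add i z
        map_smul' := fun r m => by
          rw [toStalk_smul, RingHom.id_apply, Algebra.smul_def, halg] }
      (toStalk_bijective i z hi)
  rw [e.length_eq]
  exact Module.length_eq_of_surjective hs

end AtPoint

end Groth.Agent.R2.H9.PushStalk
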