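import Mathlib
import Groth.Prelude.Def_C1
import Groth.Agent.S8923
import Groth.Agent.R2.H9LocQuot

/-!
# Orders of rational sections and zero schemes of sections of invertible modules (helper9)

* `secOrdAt_eq` : if `tx` is a basis of `L_x` whose specialization is a basis of `L_ξ`, then the order
  along `ξ ⤳ x` of the rational section `f • tx` is the order of (the image of) `f`.
* `zeroSectionFun_eq` : if `s_x = f • tx` for a basis `tx` of `L_x` then the coefficient of `[Z(s)]_k`
  at `x` is the length of `O_{X,x}/(f)`.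
-/

set_option autoImplicit false
set_option linter.style.haveILetI false

universe u

open AlgebraicGeometry CategoryTheory IsLocalRing

namespace Groth.Agent.R2.H9.SecOrd

open Groth.Agent.R2.H9.LocQuot

variable {X : Scheme.{u}}

/-- if `c ↦ c • t` is surjective, elements of `𝔪 • ⊤` are of the form `c • t` with `c ∈ 𝔪`. -/
theorem exists_smul_of_mem_smul_top {R M : Type*} [CommRing R] [AddCommGroup M] [Module R M]
    (I : Ideal R) (t : M) (ht : Function.Surjective (fun c : R => c • t)) (m : M)
    (hm : m ∈ I • (⊤ : Submodule R M)) : ∃ c ∈ I, m = c • t := by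
  refine Submodule.smul_induction_on hm ?_ ?_
  · intro r hr n _
    obtain ⟨c, rfl⟩ := ht n
    exact ⟨r * c, I.mul_mem_right _ hr, smul_smul r c t⟩
  · rintro a b ⟨c, hc, rfl⟩ ⟨d, hd, rfl⟩
    exact ⟨c + d, I.add_mem hc hd, (add_smul c d t).symm⟩

/-- a second generator of a free module of rank one differs from the first by a unit. -/
theorem exists_unit_smul_eq {R M : Type*} [CommRing R] [AddCommGroup M] [Module R M] (t t' : M)
    (ht : Function.Bijective (fun c : R => c • t)) (ht' : Submodule.span R {t'} = ⊤) :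
    ∃ u : R, IsUnit u ∧ u • t = t' := by
  obtain ⟨u, hu⟩ := ht.2 t'
  have hmem : t ∈ Submodule.span R {t'} := by rw [ht']; trivial
  obtain ⟨v, hv⟩ := Submodule.mem_span_singleton.1 hmem
  have hvu : v * u = 1 := by
    apply ht.1
    change (v * u) • t = (1 : R) • t
    rw [mul_smul, one_smul]
    change v • (u • t) = t
    rw [show u • t = t' from hu, hv]
  exact ⟨u, IsUnit.of_mul_eq_one_right v hvu, hu⟩

theorem span_eq_top_of_surjective {R M : Type*} [CommRing R] [AddCommGroup M] [Module R M] (t : M)
    (ht : Function.Surjective (fun c : R => c • t)) : Submodule.span R {t} = ⊤ := by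
  rw [eq_top_iff]
  intro m _
  obtain ⟨c, rfl⟩ := ht m
  exact Submodule.mem_span_singleton.2 ⟨c, rfl⟩

/-- the order of the rational section `f • t` along `ξ ⤳ x` is the order of `f`. -/
theorem secOrdAt_eq (L : X.Modules) {x ξ : X} (h : ξ ⤳ x) (tx : L.presheaf.stalk x)
    (htx : Function.Bijective (fun c : X.presheaf.stalk x => c • tx))
    (htξ : Function.Bijective (fun c : X.presheaf.stalk ξ =>
      c • (L.presheaf.stalkSpecializes h tx)))
    (f : X.presheaf.stalk x) :
    Cyc.secOrdAt L ξ x h (Submodule.Quotient.mk (L.presheaf.stalkSpecializes h (f • tx))) =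
      Cyc.ordAt x ξ h (X.residue ξ (X.presheaf.stalkSpecializes h f)) := by
  have ht : ∃ t : L.presheaf.stalk x, Submodule.span (X.presheaf.stalk x) {t} = ⊤ :=
    ⟨tx, span_eq_top_of_surjective tx htx.2⟩
  unfold Cyc.secOrdAt
  rw [dif_pos ht]
  have ht' := Classical.choose_spec ht
  set t' := Classical.choose ht with ht'def
  obtain ⟨u, huu, hu⟩ := exists_unit_smul_eq tx t' htx ht'
  obtain ⟨w, hw⟩ := huu.exists_right_inv
  have hsp : L.presheaf.stalkSpecializes h t' =
      X.presheaf.stalkSpecializes h u • L.presheaf.stalkSpecializes h tx := by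
    rw [← hu, Groth.Agent.S8923.stalkSpecializes_smul]
  set tξ := L.presheaf.stalkSpecializes h tx with htξdef
  have hfsp : L.presheaf.stalkSpecializes h (f • tx) = X.presheaf.stalkSpecializes h f • tξ :=
    Groth.Agent.S8923.stalkSpecializes_smul L h f tx
  have hφ : ∃ φ : X.presheaf.stalk ξ,
      (Submodule.Quotient.mk (L.presheaf.stalkSpecializes h (f • tx)) : Cyc.secFibre L ξ) =
        φ • (Submodule.Quotient.mk (L.presheaf.stalkSpecializes h t') : Cyc.secFibre L ξ) := by
    refine ⟨X.presheaf.stalkSpecializes h (f * w), ?_⟩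
    rw [← Submodule.Quotient.mk_smul, hsp, hfsp, ← mul_smul, ← map_mul]
    congr 2
    rw [mul_assoc, mul_comm w u, hw, mul_one]
  rw [dif_pos hφ]
  have hφ' := Classical.choose_spec hφ
  set φ := Classical.choose hφ with hφdef
  -- `φ * sp u ≡ sp f` modulo the maximal ideal
  have hkey : X.residue ξ φ * X.residue ξ (X.presheaf.stalkSpecializes h u) =
      X.residue ξ (X.presheaf.stalkSpecializes h f) := by
    rw [← Submodule.Quotient.mk_smul, hsp, hfsp, ← mul_smul, Submodule.Quotient.eq,
      ← sub_smul] at hφ'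
    obtain ⟨c, hc, hceq⟩ := exists_smul_of_mem_smul_top _ tξ htξ.2 _ hφ'
    have hc' : X.presheaf.stalkSpecializes h f - φ * X.presheaf.stalkSpecializes h u = c :=
      htξ.1 hceq
    have hres : X.residue ξ c = 0 := (IsLocalRing.residue_eq_zero_iff c).mpr hc
    rw [← hc', map_sub, sub_eq_zero, map_mul] at hres
    exact hres.symm
  rw [← hkey, ordAt_mul_unit x ξ h _ u huu]

/-- the coefficient of `[Z(s)]_k` at a point where `s = f • t` for a local generator `t`. -/
theorem zeroSectionFun_eq (δ : X → ℤ) (k : ℤ) (L : X.Modules)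
    (s : L.presheaf.obj (Opposite.op ⊤)) (x : X) (tx : L.presheaf.stalk x)
    (htx : Function.Bijective (fun c : X.presheaf.stalk x => c • tx))
    (f : X.presheaf.stalk x) (hf : (L.presheaf.germ ⊤ x trivial) s = f • tx) :
    Cyc.zeroSectionFun δ k L s x = if δ x = k then
      ((Module.length (X.presheaf.stalk x)
        (↥(X.presheaf.stalk x) ⧸ Ideal.span {f})).toNat : ℤ) else 0 := by
  unfold Cyc.zeroSectionFun
  beta_reduce
  by_cases hk : δ x = k
  · rw [if_pos hk, if_pos hk]
    have ht : ∃ t : L.presheaf.stalk x, Submodule.span (X.presheaf.stalk x) {t} = ⊤ :=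
      ⟨tx, span_eq_top_of_surjective tx htx.2⟩
    rw [dif_pos ht]
    have ht' := Classical.choose_spec ht
    set t' := Classical.choose ht with ht'def
    obtain ⟨u, huu, hu⟩ := exists_unit_smul_eq tx t' htx ht'
    obtain ⟨w, hw⟩ := huu.exists_right_inv
    have hf' : ∃ f' : X.presheaf.stalk x, (L.presheaf.germ ⊤ x trivial) s = f' • t' := by
      refine ⟨f * w, ?_⟩
      rw [hf, ← hu, ← mul_smul, mul_assoc, mul_comm w u, hw, mul_one]
    rw [dif_pos hf']
    have hf'' := Classical.choose_spec hf'
    set f' := Classical.choose hf' with hf'def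
    have hff : f' * u = f := by
      apply htx.1
      change (f' * u) • tx = f • tx
      rw [mul_smul, hu, ← hf'', hf]
    rw [← hff, Ideal.span_singleton_mul_right_unit huu]
  · rw [if_neg hk, if_neg hk]

end Groth.Agent.R2.H9.SecOrd
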