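import Mathlib

/-!
# Chow's lemma, abstract core, part A (lead): scheme-theoretic dominance toolkit

* `toImage_std`: for quasi-compact `f`, `f.toImage` is scheme-theoretically dominant.
* `lift_std`: a quasi-compact scheme-theoretically dominant morphism, lifted to an open of the target
  containing its range, stays scheme-theoretically dominant.
* `ext_std`, `factor_std`: extension of identities / factorisation through closed subschemes along
  scheme-theoretically dominant morphisms.
-/

set_option autoImplicit false
universe u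
open CategoryTheory CategoryTheory.Limits AlgebraicGeometry

namespace Groth.Agent.R2.Lead.ChowA

variable {X Y : Scheme.{u}}

/-- The map to the scheme-theoretic image of a quasi-compact morphism is scheme-theoretically dominant. -/
theorem toImage_std (f : X ⟶ Y) [QuasiCompact f] : IsSchemeTheoreticallyDominant f.toImage := by
  rw [isSchemeTheoreticallyDominant_iff]
  let V : Y.affineOpens → f.image.affineOpens := fun U =>
    ⟨f.imageι ⁻¹ᵁ U.1, U.2.preimage f.imageι⟩
  refine Scheme.IdealSheafData.ext_of_iSup_eq_top V ?_ ?_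
  · rw [eq_top_iff]
    intro y _
    obtain ⟨_, ⟨W, hW, rfl⟩, hyW, -⟩ :=
      Y.isBasis_affineOpens.exists_subset_of_mem_open (Set.mem_univ (f.imageι y)) isOpen_univ
    exact TopologicalSpace.Opens.mem_iSup.2 ⟨⟨W, hW⟩, hyW⟩
  · intro U
    rw [Scheme.Hom.ker_apply]
    simp only [Scheme.IdealSheafData.ideal_bot, Pi.bot_apply]
    exact (RingHom.injective_iff_ker_eq_bot _).mp (f.toImage_app_injective U)

/-- Lifting a quasi-compact scheme-theoretically dominant morphism to an open containing its range. -/
theorem lift_std (f : X ⟶ Y) [QuasiCompact f] [IsSchemeTheoreticallyDominant f] (V : Y.Opens)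
    (f' : X ⟶ V) (hf' : f' ≫ V.ι = f) : IsSchemeTheoreticallyDominant f' := by
  have H : IsPullback f' (𝟙 X) V.ι f := IsPullback.of_vert_isIso_mono ⟨by simpa using hf'⟩
  rw [isSchemeTheoreticallyDominant_iff]
  refine Scheme.IdealSheafData.ext ?_
  funext W
  rw [Scheme.ker_ideal_of_isPullback_of_isOpenImmersion f f' (𝟙 X) V.ι H W, f.ker_eq_bot]
  simp only [Scheme.IdealSheafData.ideal_bot, Pi.bot_apply]
  exact (RingHom.injective_iff_ker_eq_bot _).mp
    (ConcreteCategory.bijective_of_isIso (V.ι.appIso W.1).inv).injective

/-- A morphism whose restriction along a scheme-theoretically dominant morphism factors through a closed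
immersion factors through it. -/
theorem factor_std {W' W Z T : Scheme.{u}} (h : W' ⟶ W) [IsSchemeTheoreticallyDominant h]
    (j : Z ⟶ T) [IsClosedImmersion j] (φ : W ⟶ T) (ψ : W' ⟶ Z) (H : h ≫ φ = ψ ≫ j) :
    ∃ χ : W ⟶ Z, χ ≫ j = φ := by
  let l := pullback.lift h ψ H
  have hl : l ≫ pullback.fst φ j = h := pullback.lift_fst _ _ _
  have hker : (pullback.fst φ j).ker = ⊥ := by
    have h1 : (l ≫ pullback.fst φ j).ker = ⊥ := by rw [hl]; exact h.ker_eq_bot
    rw [← le_bot_iff, ← h1]
    exact Scheme.Hom.le_ker_comp _ _
  have hiso : IsIso (pullback.fst φ j) := IsClosedImmersion.isIso_iff_ker_eq_bot.mpr hker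
  refine ⟨inv (pullback.fst φ j) ≫ pullback.snd φ j, ?_⟩
  rw [Category.assoc, ← pullback.condition, IsIso.inv_hom_id_assoc]

end Groth.Agent.R2.Lead.ChowA
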