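import Groth.Agent.R2.LeadChowB

/-!
# Chow's lemma, abstract core, part C (lead): one chart

In the setting of part B, add one "chart": an open `Ui ⊇ U` of `X`, a separated `pi : Pi ⟶ S`, an `S`-morphism
`q : P ⟶ Pi` and an immersion `j : Ui ⟶ Pi` over `S` with `g ≫ q = (U ⊆ Ui) ≫ j`.
-/

set_option autoImplicit false
set_option linter.unusedSectionVars false
universe u
open CategoryTheory CategoryTheory.Limits AlgebraicGeometry

namespace Groth.Agent.R2.Lead.ChowC

open Groth.Agent.R2.Lead.ChowA Groth.Agent.R2.Lead.ChowB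

variable {X S P : Scheme.{u}} (f : X ⟶ S) (p : P ⟶ S) (U : X.Opens) (g : (U : Scheme.{u}) ⟶ P)
  (hg : g ≫ p = U.ι ≫ f) [QuasiCompact (gr f p U g hg)]
  (Ui : X.Opens) (hUi : U ≤ Ui) {Pi : Scheme.{u}} (pi : Pi ⟶ S) (q : P ⟶ Pi) (hq : q ≫ pi = p)
  (j : (Ui : Scheme.{u}) ⟶ Pi) (hj : j ≫ pi = Ui.ι ≫ f) (hgj : g ≫ q = X.homOfLE hUi ≫ j)

include hq hj hgj in
/-- Claim A: over `Ui`, `φ ≫ q` is `π` followed by `j`. -/
theorem restrict_π_j [IsSeparated pi] :
    (π f p U g hg ∣_ Ui) ≫ j = ((π f p U g hg) ⁻¹ᵁ Ui).ι ≫ φ f p U g hg ≫ q := by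
  have hW := range_t_subset_preimage f p U g hg Ui hUi
  set W : (X' f p U g hg).Opens := (π f p U g hg) ⁻¹ᵁ Ui
  set tw := tW f p U g hg W hW
  have h1 : tw ≫ (π f p U g hg ∣_ Ui) = X.homOfLE hUi := by
    rw [← cancel_mono Ui.ι, Category.assoc, morphismRestrict_ι, tW_ι_assoc, t_π]
    simp
  refine Groth.Agent.R2.H84.GenFib.ext_of_isSchemeTheoreticallyDominant pi ?_ tw ?_
  · rw [Category.assoc, hj, morphismRestrict_ι_assoc, Category.assoc, Category.assoc, hq, π_f]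
  · rw [reassoc_of% h1, tW_ι_assoc, t_φ_assoc, hgj]

lemma base_comp_eq {A B C : Scheme.{u}} {a : A ⟶ B} {b : B ⟶ C} {c : A ⟶ C} (h : a ≫ b = c) (x : A) :
    b.base (a.base x) = c.base x := by
  rw [← h]; rfl

lemma range_subset_coborderRange {A B : Scheme.{u}} (k : A ⟶ B) [IsImmersion k] :
    Set.range k.base ⊆ (k.coborderRange : Set B) := by
  rintro _ ⟨x, rfl⟩
  have h : (k.liftCoborder ≫ k.coborderRange.ι).base x = k.base x := by rw [k.liftCoborder_ι]
  rw [← h]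
  exact (k.liftCoborder.base x).2

variable [IsImmersion j]

include hq hj hgj in
/-- Claim C (first half): over `Ui`, `φ ≫ q` lands in the open `V = coborderRange j` in which `Ui` is closed. -/
theorem preimage_le [IsSeparated pi] :
    (π f p U g hg) ⁻¹ᵁ Ui ≤ (φ f p U g hg ≫ q) ⁻¹ᵁ j.coborderRange := by
  intro x hx
  change (φ f p U g hg ≫ q).base x ∈ j.coborderRange
  have h := restrict_π_j f p U g hg Ui hUi pi q hq j hj hgj
  have h2 : (φ f p U g hg ≫ q).base x = j.base ((π f p U g hg ∣_ Ui).base ⟨x, hx⟩) := by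
    have := congrArg (fun m => m.base ⟨x, hx⟩) h
    simpa using this.symm
  rw [h2]
  exact range_subset_coborderRange j ⟨_, rfl⟩

include hq hj hgj in
/-- Claim C (second half): the preimage of `V` under `φ ≫ q` is contained in `π ⁻¹ Ui`. -/
theorem le_preimage [IsSeparated f] :
    (φ f p U g hg ≫ q) ⁻¹ᵁ j.coborderRange ≤ (π f p U g hg) ⁻¹ᵁ Ui := by
  set V := j.coborderRange with hV
  set O : (X' f p U g hg).Opens := (φ f p U g hg ≫ q) ⁻¹ᵁ V with hO
  -- `t` lands in `O`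
  have hrange : Set.range (t f p U g hg).base ⊆ O := by
    rintro _ ⟨x, rfl⟩
    change (φ f p U g hg ≫ q).base ((t f p U g hg).base x) ∈ V
    have : (φ f p U g hg ≫ q).base ((t f p U g hg).base x) = j.base ((X.homOfLE hUi).base x) := by
      have e1 := base_comp_eq (show t f p U g hg ≫ φ f p U g hg ≫ q = X.homOfLE hUi ≫ j by
        rw [t_φ_assoc, hgj]) x
      rw [e1]
      rfl
    rw [this]
    exact range_subset_coborderRange j ⟨_, rfl⟩
  set tO := tW f p U g hg O hrange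
  -- the restriction of `φ ≫ q` to `O ⟶ V`
  set a : (O : Scheme.{u}) ⟶ V := (φ f p U g hg ≫ q) ∣_ V with ha
  have ha_ι : a ≫ V.ι = O.ι ≫ φ f p U g hg ≫ q := morphismRestrict_ι _ _
  have hfac : tO ≫ a = X.homOfLE hUi ≫ j.liftCoborder := by
    rw [← cancel_mono V.ι, Category.assoc, ha_ι, tW_ι_assoc, t_φ_assoc, Category.assoc,
      j.liftCoborder_ι, hgj]
  obtain ⟨χ, hχ⟩ := factor_std tO j.liftCoborder a (X.homOfLE hUi) hfac
  have htχ : tO ≫ χ = X.homOfLE hUi := by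
    rw [← cancel_mono j.liftCoborder, Category.assoc, hχ, hfac]
  have key : O.ι ≫ π f p U g hg = χ ≫ Ui.ι := by
    refine Groth.Agent.R2.H84.GenFib.ext_of_isSchemeTheoreticallyDominant f ?_ tO ?_
    · have h3 := reassoc_of% ha_ι
      rw [Category.assoc, π_f, Category.assoc, ← hj, ← j.liftCoborder_ι, Category.assoc,
        reassoc_of% hχ]
      change O.ι ≫ φ f p U g hg ≫ p = a ≫ V.ι ≫ pi
      rw [h3, hq]
    · rw [tW_ι_assoc, t_π, reassoc_of% htχ, Scheme.homOfLE_ι]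
  intro x hx
  change (π f p U g hg).base x ∈ Ui
  have : (π f p U g hg).base x = Ui.ι.base (χ.base ⟨x, hx⟩) := by
    have e1 := base_comp_eq (c := χ ≫ Ui.ι) rfl (⟨x, hx⟩ : O)
    have e2 := base_comp_eq key (⟨x, hx⟩ : O)
    rw [e1, ← e2]
    rfl
  rw [this]
  exact (χ.base ⟨x, hx⟩).2

include hq hj hgj in
/-- Claim C: `π ⁻¹ Ui` is the preimage under `φ ≫ q` of the open `V` in which `Ui` is closed. -/
theorem preimage_eq [IsSeparated f] [IsSeparated pi] :
    (φ f p U g hg ≫ q) ⁻¹ᵁ j.coborderRange = (π f p U g hg) ⁻¹ᵁ Ui :=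
  le_antisymm (le_preimage f p U g hg Ui hUi pi q hq j hj hgj)
    (preimage_le f p U g hg Ui hUi pi q hq j hj hgj)

end Groth.Agent.R2.Lead.ChowC
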