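import Groth.Agent.R2.LeadChowC

/-!
# Chow's lemma, abstract core, part D (lead): `φ` is a closed immersion over each chart, and the assembly

In the setting of part C (one chart `Ui`, `j : Ui ⟶ Pi` an immersion over `S`, `q : P ⟶ Pi`),
`φ : X' ⟶ P` restricted over the open `q ⁻¹ V` (`V = coborderRange j`, the open of `Pi` in which `Ui` is closed)
is a closed immersion.  With finitely (or arbitrarily) many charts covering `X` this shows that `φ` is an immersion.
-/

set_option autoImplicit false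
set_option linter.unusedSectionVars false
universe u
open CategoryTheory CategoryTheory.Limits AlgebraicGeometry

namespace Groth.Agent.R2.Lead.ChowD

open Groth.Agent.R2.Lead.ChowA Groth.Agent.R2.Lead.ChowB Groth.Agent.R2.Lead.ChowC

variable {X S P : Scheme.{u}} (f : X ⟶ S) (p : P ⟶ S) (U : X.Opens) (g : (U : Scheme.{u}) ⟶ P)
  (hg : g ≫ p = U.ι ≫ f) [QuasiCompact (gr f p U g hg)]
  (Ui : X.Opens) (hUi : U ≤ Ui) {Pi : Scheme.{u}} (pi : Pi ⟶ S) (q : P ⟶ Pi) (hq : q ≫ pi = p)
  (j : (Ui : Scheme.{u}) ⟶ Pi) (hj : j ≫ pi = Ui.ι ≫ f) (hgj : g ≫ q = X.homOfLE hUi ≫ j)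
  [IsImmersion j]

include hq hj hgj in
/-- Claim D: over the chart, `φ` is a closed immersion. -/
theorem isClosedImmersion_φ_restrict [IsSeparated f] [IsSeparated pi] :
    IsClosedImmersion (φ f p U g hg ∣_ (q ⁻¹ᵁ j.coborderRange)) := by
  set V := j.coborderRange with hV
  set W : P.Opens := q ⁻¹ᵁ V with hW
  set O : (X' f p U g hg).Opens := (φ f p U g hg) ⁻¹ᵁ W with hO
  have hO1 : O ≤ (π f p U g hg) ⁻¹ᵁ Ui := le_preimage f p U g hg Ui hUi pi q hq j hj hgj
  have hO2 : (π f p U g hg) ⁻¹ᵁ Ui ≤ O := preimage_le f p U g hg Ui hUi pi q hq j hj hgj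
  have hrange : Set.range (t f p U g hg).base ⊆ O :=
    (range_t_subset_preimage f p U g hg Ui hUi).trans hO2
  set tO := tW f p U g hg O hrange with htO
  -- `χ : O ⟶ Ui`, the restriction of `π`
  have hχr : Set.range (O.ι ≫ π f p U g hg).base ⊆ Set.range Ui.ι.base := by
    rintro _ ⟨x, rfl⟩
    rw [Scheme.Opens.range_ι]
    exact hO1 x.2
  set χ : (O : Scheme.{u}) ⟶ Ui := IsOpenImmersion.lift Ui.ι (O.ι ≫ π f p U g hg) hχr with hχ
  have hχι : χ ≫ Ui.ι = O.ι ≫ π f p U g hg := IsOpenImmersion.lift_fac _ _ _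
  have htχ : tO ≫ χ = X.homOfLE hUi := by
    rw [← cancel_mono Ui.ι, Category.assoc, hχι, tW_ι_assoc, t_π, Scheme.homOfLE_ι]
  -- Claim A'
  have hA : χ ≫ j = O.ι ≫ φ f p U g hg ≫ q := by
    refine Groth.Agent.R2.H84.GenFib.ext_of_isSchemeTheoreticallyDominant pi ?_ tO ?_
    · rw [Category.assoc, hj, reassoc_of% hχι, Category.assoc, Category.assoc, hq, π_f]
    · rw [reassoc_of% htχ, tW_ι_assoc, t_φ_assoc, hgj]
  set b : (O : Scheme.{u}) ⟶ W := φ f p U g hg ∣_ W with hb
  have hbι : b ≫ W.ι = O.ι ≫ φ f p U g hg := morphismRestrict_ι _ _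
  set qV : (W : Scheme.{u}) ⟶ V := q ∣_ V with hqV
  have hqVι : qV ≫ V.ι = W.ι ≫ q := morphismRestrict_ι _ _
  have hcompat : χ ≫ j.liftCoborder = b ≫ qV := by
    rw [← cancel_mono V.ι, Category.assoc, j.liftCoborder_ι, hA, Category.assoc, hqVι,
      reassoc_of% hbι]
  set k : (O : Scheme.{u}) ⟶ pullback j.liftCoborder qV := pullback.lift χ b hcompat with hk
  have hjV : j.liftCoborder ≫ V.ι ≫ pi = Ui.ι ≫ f := by
    rw [← hj, ← Category.assoc]
    congr 1
    exact j.liftCoborder_ι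
  have hm0 : (pullback.fst j.liftCoborder qV ≫ Ui.ι) ≫ f =
      (pullback.snd j.liftCoborder qV ≫ W.ι) ≫ p := by
    rw [Category.assoc, ← hjV, pullback.condition_assoc,
      reassoc_of% hqVι, Category.assoc, hq]
  set m : pullback j.liftCoborder qV ⟶ pullback f p :=
    pullback.lift (pullback.fst j.liftCoborder qV ≫ Ui.ι) (pullback.snd j.liftCoborder qV ≫ W.ι) hm0
    with hm
  have hm1 : m ≫ pullback.fst f p = pullback.fst j.liftCoborder qV ≫ Ui.ι := pullback.lift_fst _ _ _
  have hm2 : m ≫ pullback.snd f p = pullback.snd j.liftCoborder qV ≫ W.ι := pullback.lift_snd _ _ _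
  have hmono : Mono m := by
    refine ⟨fun a a' h => ?_⟩
    apply pullback.hom_ext
    · rw [← cancel_mono Ui.ι, Category.assoc, Category.assoc, ← hm1, reassoc_of% h]
    · rw [← cancel_mono W.ι, Category.assoc, Category.assoc, ← hm2, reassoc_of% h]
  have hk1 : k ≫ pullback.fst j.liftCoborder qV = χ := pullback.lift_fst _ _ _
  have hk2 : k ≫ pullback.snd j.liftCoborder qV = b := pullback.lift_snd _ _ _
  have hcomm : k ≫ m = O.ι ≫ c f p U g hg := by
    apply pullback.hom_ext
    · rw [Category.assoc, hm1, reassoc_of% hk1, hχι, Category.assoc]; rfl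
    · rw [Category.assoc, hm2, reassoc_of% hk2, hbι, Category.assoc]; rfl
  have hpb : IsPullback k O.ι m (c f p U g hg) := by
    refine ⟨⟨hcomm⟩, ⟨PullbackCone.IsLimit.mk hcomm (fun s => ?_) (fun s => ?_) (fun s => ?_)
      (fun s l h1 h2 => ?_)⟩⟩
    · refine IsOpenImmersion.lift O.ι s.snd ?_
      rintro _ ⟨z, rfl⟩
      rw [Scheme.Opens.range_ι]
      apply hO2
      change (π f p U g hg).base (s.snd.base z) ∈ Ui
      have e1 : (π f p U g hg).base (s.snd.base z) =
          Ui.ι.base ((s.fst ≫ pullback.fst j.liftCoborder qV).base z) := by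
        have h3 : s.snd ≫ π f p U g hg = (s.fst ≫ pullback.fst j.liftCoborder qV) ≫ Ui.ι := by
          rw [Category.assoc, ← hm1, ← Category.assoc, s.condition, Category.assoc]; rfl
        rw [base_comp_eq (c := (s.fst ≫ pullback.fst j.liftCoborder qV) ≫ Ui.ι) rfl z,
          ← base_comp_eq h3 z]
      rw [e1]
      exact ((s.fst ≫ pullback.fst j.liftCoborder qV).base z).2
    · rw [← cancel_mono m, Category.assoc, hcomm, IsOpenImmersion.lift_fac_assoc, s.condition]
    · exact IsOpenImmersion.lift_fac _ _ _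
    · rw [← cancel_mono O.ι, h2, IsOpenImmersion.lift_fac]
  have hkc : IsClosedImmersion k :=
    MorphismProperty.of_isPullback (P := @IsClosedImmersion) hpb.flip inferInstance
  have : b = k ≫ pullback.snd j.liftCoborder qV := hk2.symm
  rw [this]
  infer_instance

end Groth.Agent.R2.Lead.ChowD
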