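import Groth.Agent.R2.LeadChowD

/-!
# Chow's lemma, abstract core, part E (lead): assembly

`f : X ⟶ S` separated, `p : P ⟶ S` proper, `U ⊆ X` open, `g : U ⟶ P` over `S`, and a family of charts
`(Ui i, Pi i, pi i, q i, j i)` covering `X`: then `X' = closure of U in X ×_S P` has `π : X' ⟶ X` proper,
an isomorphism over `U`, surjective if `U` is dense, and `φ : X' ⟶ P` is an immersion.
-/

set_option autoImplicit false
set_option linter.unusedSectionVars false
universe u v
open CategoryTheory CategoryTheory.Limits AlgebraicGeometry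

namespace Groth.Agent.R2.Lead.ChowE

open Groth.Agent.R2.Lead.ChowA Groth.Agent.R2.Lead.ChowB Groth.Agent.R2.Lead.ChowC
  Groth.Agent.R2.Lead.ChowD

instance : MorphismProperty.RespectsRight @IsImmersion @IsOpenImmersion where
  postcomp i hi f hf := by
    have : IsOpenImmersion i := hi
    have : IsImmersion f := hf
    exact (inferInstance : IsImmersion (f ≫ i))

variable {X S P : Scheme.{u}} (f : X ⟶ S) (p : P ⟶ S) (U : X.Opens) (g : (U : Scheme.{u}) ⟶ P)
  (hg : g ≫ p = U.ι ≫ f) [QuasiCompact (gr f p U g hg)]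
  {ι : Type v} (Ui : ι → X.Opens) (hUi : ∀ i, U ≤ Ui i) (hcov : ⨆ i, Ui i = ⊤)
  (Pi : ι → Scheme.{u}) (pi : ∀ i, Pi i ⟶ S) (q : ∀ i, P ⟶ Pi i) (hq : ∀ i, q i ≫ pi i = p)
  (j : ∀ i, (Ui i : Scheme.{u}) ⟶ Pi i) (hj : ∀ i, j i ≫ pi i = (Ui i).ι ≫ f)
  (hgj : ∀ i, g ≫ q i = X.homOfLE (hUi i) ≫ j i)
  [∀ i, IsImmersion (j i)] [IsSeparated f] [∀ i, IsSeparated (pi i)]

include hcov hq hj hgj in
/-- `φ : X' ⟶ P` is an immersion. -/
theorem isImmersion_φ : IsImmersion (φ f p U g hg) := by
  refine IsZariskiLocalAtTarget.of_range_subset_iSup (P := @IsImmersion)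
    (fun i => (q i) ⁻¹ᵁ (j i).coborderRange) ?_ (fun i => ?_)
  · rintro _ ⟨x, rfl⟩
    have hx : (π f p U g hg).base x ∈ (⨆ i, Ui i : X.Opens) := by rw [hcov]; trivial
    obtain ⟨i, hi⟩ := TopologicalSpace.Opens.mem_iSup.1 hx
    refine TopologicalSpace.Opens.mem_iSup.2 ⟨i, ?_⟩
    exact preimage_le f p U g hg (Ui i) (hUi i) (pi i) (q i) (hq i) (j i) (hj i) (hgj i) hi
  · have := isClosedImmersion_φ_restrict f p U g hg (Ui i) (hUi i) (pi i) (q i) (hq i) (j i) (hj i)
      (hgj i)
    infer_instance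

/-- `π` is surjective when `U` is dense and `p` is proper. -/
theorem surjective_π [IsProper p] (hU : Dense (U : Set X)) : Surjective (π f p U g hg) := by
  rw [surjective_iff]
  have hcl : IsClosed (Set.range (π f p U g hg).base) := (π f p U g hg).isClosedMap.isClosed_range
  have hsub : (U : Set X) ⊆ Set.range (π f p U g hg).base := by
    intro x hx
    refine ⟨(t f p U g hg).base ⟨x, hx⟩, ?_⟩
    exact base_comp_eq (t_π f p U g hg) ⟨x, hx⟩
  have : Set.range (π f p U g hg).base = Set.univ := by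
    rw [← Set.univ_subset_iff, ← hU.closure_eq]
    exact closure_minimal hsub hcl
  exact Set.range_eq_univ.1 this

/-- The preimage of `U` in `X'` is dense. -/
theorem dense_preimage : Dense (((π f p U g hg) ⁻¹ᵁ U : (X' f p U g hg).Opens) : Set (X' f p U g hg)) := by
  have h1 : DenseRange (t f p U g hg).base := by
    have : IsDominant (t f p U g hg) := inferInstance
    exact (t f p U g hg).denseRange
  exact Dense.mono (range_t_subset_preimage f p U g hg U le_rfl) h1

end Groth.Agent.R2.Lead.ChowE
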