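import Groth.Agent.S9705
import Groth.Prelude.Def_P1

/-!
# Finite fibre products of projective spaces over `S` (lead)

Given the Segre embedding (in the shape of S1616) over `S`, every finite family of projective spaces over `S` has a
fibre product `P` over `S` which admits a closed immersion into one projective space over `S`.
-/

set_option autoImplicit false
universe u
open CategoryTheory CategoryTheory.Limits AlgebraicGeometry

namespace Groth.Agent.R2.Lead.PnProd

open CohB1

/-- The Segre statement over `S` (the shape of S1616). -/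
def SegreStmt (S : Scheme.{u}) (n m : ℕ) : Prop :=
  ∃ φ : pullback (ProjSpaceOver.toBase n S) (ProjSpaceOver.toBase m S) ⟶
      ProjSpaceOver (n * m + n + m) S,
    IsClosedImmersion φ ∧ φ ≫ ProjSpaceOver.toBase (n * m + n + m) S =
      pullback.fst (ProjSpaceOver.toBase n S) (ProjSpaceOver.toBase m S) ≫ ProjSpaceOver.toBase n S

/-- A fibre product over `S` of the projective spaces `P^{n i}_S`, embedded in one projective space. -/
def HasProd (S : Scheme.{u}) (r : ℕ) (n : Fin r → ℕ) : Prop :=
  ∃ (P : Scheme.{u}) (p : P ⟶ S) (q : ∀ i, P ⟶ ProjSpaceOver (n i) S) (N : ℕ)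
    (e : P ⟶ ProjSpaceOver N S),
    IsClosedImmersion e ∧ e ≫ ProjSpaceOver.toBase N S = p ∧
    (∀ i, q i ≫ ProjSpaceOver.toBase (n i) S = p) ∧
    ∀ (W : Scheme.{u}) (w : W ⟶ S) (g : ∀ i, W ⟶ ProjSpaceOver (n i) S),
      (∀ i, g i ≫ ProjSpaceOver.toBase (n i) S = w) →
      ∃ g' : W ⟶ P, g' ≫ p = w ∧ ∀ i, g' ≫ q i = g i

lemma sect_toBase (X : Scheme.{u}) (i : Fin (1 + 1)) :
    P1.sect X i ≫ ProjSpaceOver.toBase 1 X = 𝟙 X := by
  unfold P1.sect ProjSpaceOver.toBase
  exact pullback.lift_snd _ _ _

lemma isClosedImmersion_sect (X : Scheme.{u}) (i : Fin (1 + 1)) :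
    IsClosedImmersion (P1.sect X i) := by
  have : IsProper (ProjSpaceOver.toBase 1 X) := Groth.Agent.S9705.isProper_toBase 1 X
  have : IsClosedImmersion (P1.sect X i ≫ ProjSpaceOver.toBase 1 X) := by
    rw [sect_toBase]; infer_instance
  exact IsClosedImmersion.of_comp (P1.sect X i) (ProjSpaceOver.toBase 1 X)

section step

variable {S X Y P : Scheme.{u}} (a : X ⟶ S) (b : Y ⟶ S) (e : P ⟶ Y)

/-- base change of `e` on the second factor of a fibre product. -/
lemma isPullback_map_snd :
    IsPullback (pullback.snd a (e ≫ b))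
      (pullback.map a (e ≫ b) a b (𝟙 X) e (𝟙 S) (by simp) (by simp)) e (pullback.snd a b) := by
  have hm1 : pullback.map a (e ≫ b) a b (𝟙 X) e (𝟙 S) (by simp) (by simp) ≫ pullback.fst a b =
      pullback.fst a (e ≫ b) := (pullback.lift_fst _ _ _).trans (Category.comp_id _)
  have hm2 : pullback.map a (e ≫ b) a b (𝟙 X) e (𝟙 S) (by simp) (by simp) ≫ pullback.snd a b =
      pullback.snd a (e ≫ b) ≫ e := pullback.lift_snd _ _ _
  have hbig : IsPullback (pullback.snd a (e ≫ b))
      (pullback.map a (e ≫ b) a b (𝟙 X) e (𝟙 S) (by simp) (by simp) ≫ pullback.fst a b)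
      (e ≫ b) a := by
    rw [hm1]; exact (IsPullback.of_hasPullback a (e ≫ b)).flip
  exact IsPullback.of_bot hbig hm2.symm (IsPullback.of_hasPullback a b).flip

lemma isClosedImmersion_map_snd [IsClosedImmersion e] :
    IsClosedImmersion (pullback.map a (e ≫ b) a b (𝟙 X) e (𝟙 S) (by simp) (by simp)) :=
  MorphismProperty.of_isPullback (P := @IsClosedImmersion) (isPullback_map_snd a b e) inferInstance

end step

theorem hasProd (S : Scheme.{u}) (hS : ∀ n m, SegreStmt S n m) :
    ∀ (r : ℕ) (n : Fin r → ℕ), HasProd S r n := by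
  intro r
  induction r with
  | zero =>
    intro n
    refine ⟨S, 𝟙 S, fun i => i.elim0, 1, P1.sect S 0, isClosedImmersion_sect S 0, sect_toBase S 0,
      fun i => i.elim0, ?_⟩
    intro W w g _
    exact ⟨w, Category.comp_id _, fun i => i.elim0⟩
  | succ r ih =>
    intro n
    obtain ⟨P, p, q, N, e, he, hep, hq, huniv⟩ := ih (fun i => n i.succ)
    obtain ⟨σ, hσ1, hσ2⟩ := hS (n 0) N
    subst hep
    set a := ProjSpaceOver.toBase (n 0) S with ha
    set b := ProjSpaceOver.toBase N S with hb
    let m := pullback.map a (e ≫ b) a b (𝟙 _) e (𝟙 S) (by simp) (by simp)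
    have hm : IsClosedImmersion m := isClosedImmersion_map_snd a b e
    have hmfst : m ≫ pullback.fst a b = pullback.fst a (e ≫ b) :=
      (pullback.lift_fst _ _ _).trans (Category.comp_id _)
    refine ⟨pullback a (e ≫ b), pullback.fst a (e ≫ b) ≫ a,
      Fin.cases (pullback.fst a (e ≫ b)) (fun i => pullback.snd a (e ≫ b) ≫ q i),
      n 0 * N + n 0 + N, m ≫ σ, inferInstance, ?_, ?_, ?_⟩
    · rw [Category.assoc, hσ2, reassoc_of% hmfst]
    · intro i
      refine Fin.cases ?_ (fun i => ?_) i
      · rfl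
      · change (pullback.snd a (e ≫ b) ≫ q i) ≫ _ = _
        rw [Category.assoc, hq i, pullback.condition]
    · intro W w g hg
      obtain ⟨g', hg'1, hg'2⟩ := huniv W w (fun i => g i.succ) (fun i => hg i.succ)
      refine ⟨pullback.lift (g 0) g' (by rw [hg 0, hg'1]), ?_, ?_⟩
      · rw [pullback.lift_fst_assoc, hg 0]
      · intro i
        refine Fin.cases ?_ (fun i => ?_) i
        · exact pullback.lift_fst _ _ _
        · change _ ≫ (pullback.snd a (e ≫ b) ≫ q i) = _
          rw [pullback.lift_snd_assoc, hg'2]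

end Groth.Agent.R2.Lead.PnProd
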