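import Groth.Agent.R2.LeadChowE
import Groth.Agent.R2.LeadPnProd

/-!
# Chow's lemma: assembly from the `P^n_S` toolkit (lead)

`chow_of_toolkit`: from (i) the Segre embedding over `S`, (ii) a good cover of `X` and (iii) immersions of the members of
the cover into projective spaces over `S`, Chow's lemma in the shape of S0025 / S7410.
-/

set_option autoImplicit false
set_option linter.unusedSectionVars false
universe u
open CategoryTheory CategoryTheory.Limits AlgebraicGeometry

namespace Groth.Agent.R2.Lead.ChowF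

open Groth.Agent.R2.Lead.ChowB Groth.Agent.R2.Lead.ChowE Groth.Agent.R2.Lead.PnProd CohB1

lemma isCompact_iInf_fin {X : Type*} [TopologicalSpace X] [QuasiSeparatedSpace X] [CompactSpace X] :
    ∀ (r : ℕ) (U : Fin r → TopologicalSpace.Opens X), (∀ i, IsCompact (U i : Set X)) →
      IsCompact ((⨅ i, U i : TopologicalSpace.Opens X) : Set X) := by
  intro r
  induction r with
  | zero =>
    intro U _
    have : (⨅ i, U i : TopologicalSpace.Opens X) = ⊤ := by
      rw [eq_top_iff]; exact le_iInf fun i => i.elim0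
    rw [this]; exact isCompact_univ
  | succ r ih =>
    intro U hU
    have : (⨅ i, U i : TopologicalSpace.Opens X) = U 0 ⊓ ⨅ i : Fin r, U i.succ := by
      apply le_antisymm
      · exact le_inf (iInf_le _ 0) (le_iInf fun i => iInf_le _ i.succ)
      · refine le_iInf fun i => ?_
        refine Fin.cases inf_le_left (fun i => ?_) i
        exact inf_le_right.trans (iInf_le _ i)
    rw [this]
    exact (hU 0).inter_of_isOpen (ih _ fun i => hU i.succ) (U 0).2 (⨅ i : Fin r, U i.succ).2

/-- Chow's lemma from the toolkit. -/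
theorem chow_of_toolkit {X S : Scheme.{u}} (f : X ⟶ S) [IsSeparated f] [LocallyOfFiniteType f]
    [QuasiCompact f] [CompactSpace S] [QuasiSeparatedSpace S]
    (hSeg : ∀ n m, SegreStmt S n m)
    (r : ℕ) (Ui : Fin r → X.Opens) (hcov : ⨆ i, Ui i = ⊤)
    (hdense : Dense ((⨅ i, Ui i : X.Opens) : Set X))
    (hcomp : ∀ i, IsCompact (Ui i : Set X))
    (himm : ∀ i, ∃ (n : ℕ) (j : ((Ui i : X.Opens) : Scheme.{u}) ⟶ ProjSpaceOver n S),
      IsImmersion j ∧ j ≫ ProjSpaceOver.toBase n S = (Ui i).ι ≫ f) :
    ∃ (n : ℕ) (X' : Scheme.{u}) (π : X' ⟶ X) (j : X' ⟶ ProjSpaceOver n S),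
      IsImmersion j ∧ j ≫ ProjSpaceOver.toBase n S = π ≫ f ∧ IsProper π ∧ Surjective π ∧
      ∃ U : X.Opens, Dense (U : Set X) ∧ IsIso (π ∣_ U) := by
  choose n j hj1 hj2 using himm
  obtain ⟨P, p, q, N, e, he, hep, hq, huniv⟩ := hasProd S hSeg r n
  have hcX : CompactSpace X := QuasiCompact.compactSpace_of_compactSpace f
  have hqsX : QuasiSeparatedSpace X := quasiSeparatedSpace_of_quasiSeparated f
  set U : X.Opens := ⨅ i, Ui i with hU
  have hUi : ∀ i, U ≤ Ui i := fun i => iInf_le _ i
  obtain ⟨g, hg, hgq⟩ := huniv U (U.ι ≫ f) (fun i => X.homOfLE (hUi i) ≫ j i) (fun i => by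
    rw [Category.assoc, hj2 i, Scheme.homOfLE_ι_assoc])
  have hpt : ∀ k, IsProper (ProjSpaceOver.toBase k S) := fun k =>
    Groth.Agent.S9705.isProper_toBase k S
  have hpp : IsProper p := by rw [← hep]; infer_instance
  have hqsP : QuasiSeparatedSpace ↥(pullback f p) :=
    quasiSeparatedSpace_of_quasiSeparated (pullback.fst f p ≫ f)
  have hcU : CompactSpace ↥(U : Scheme.{u}) :=
    isCompact_iff_compactSpace.mp (isCompact_iInf_fin r Ui hcomp)
  have hqc : QuasiCompact (gr f p U g hg) := inferInstance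
  have hsep : ∀ i, IsSeparated (ProjSpaceOver.toBase (n i) S) := fun i => inferInstance
  have himmφ : IsImmersion (φ f p U g hg) :=
    isImmersion_φ f p U g hg Ui hUi hcov (fun i => ProjSpaceOver (n i) S)
      (fun i => ProjSpaceOver.toBase (n i) S) q hq j hj2 hgq
  refine ⟨N, X' f p U g hg, π f p U g hg, φ f p U g hg ≫ e, inferInstance, ?_, inferInstance,
    surjective_π f p U g hg hdense, U, hdense, isIso_π_restrict f p U g hg⟩
  rw [Category.assoc, hep, π_f]

end Groth.Agent.R2.Lead.ChowF
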