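import Groth.Agent.R2.LeadChowF

/-!
# Chow's lemma from the three toolkit statements (lead)

`GoodCover f`, `DisjAffImm f`: the statements of packages P8 and P7 of the `pn-toolkit` project, as `Prop`s.
`chow_qcqs`: Chow's lemma (shape of S7410) from them and the Segre statement.
`chow_noetherian`: shape of S0025.
-/

set_option autoImplicit false
universe u
open CategoryTheory CategoryTheory.Limits AlgebraicGeometry

namespace Groth.Agent.R2.Lead.ChowG

open Groth.Agent.R2.Lead.ChowF Groth.Agent.R2.Lead.PnProd CohB1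

/-- Statement of package P8 (good cover). -/
def GoodCover {X S : Scheme.{u}} (f : X ⟶ S) : Prop :=
  ∃ (r : ℕ) (Ui : Fin r → X.Opens), (⨆ i, Ui i = ⊤) ∧ Dense ((⨅ i, Ui i : X.Opens) : Set X) ∧
    ∀ i, ∃ (s : ℕ) (C : Fin s → X.Opens), Ui i = ⨆ a, C a ∧ Pairwise (Function.onFun Disjoint C) ∧
      ∀ a, IsAffineOpen (C a) ∧ ∃ V : S.Opens, IsAffineOpen V ∧ C a ≤ f ⁻¹ᵁ V

/-- Statement of package P7 (immersion of a finite disjoint union of affine opens). -/
def DisjAffImm {X S : Scheme.{u}} (f : X ⟶ S) : Prop :=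
  ∀ (s : ℕ) (C : Fin s → X.Opens), Pairwise (Function.onFun Disjoint C) →
    (∀ a, IsAffineOpen (C a) ∧ ∃ V : S.Opens, IsAffineOpen V ∧ C a ≤ f ⁻¹ᵁ V) →
    ∃ (n : ℕ) (j : ((⨆ a, C a : X.Opens) : Scheme.{u}) ⟶ ProjSpaceOver n S),
      IsImmersion j ∧ j ≫ ProjSpaceOver.toBase n S = (⨆ a, C a).ι ≫ f

lemma isCompact_iSup_fin {X : Scheme.{u}} (s : ℕ) (C : Fin s → X.Opens)
    (hC : ∀ a, IsAffineOpen (C a)) : IsCompact ((⨆ a, C a : X.Opens) : Set X) := by
  have : ((⨆ a, C a : X.Opens) : Set X) = ⋃ a, (C a : Set X) := by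
    ext x; simp
  rw [this]
  exact isCompact_iUnion fun a => (hC a).isCompact

/-- Chow's lemma over a quasi-compact quasi-separated base, from the toolkit statements. -/
theorem chow_qcqs {X S : Scheme.{u}} (f : X ⟶ S) [IsSeparated f] [LocallyOfFiniteType f]
    [QuasiCompact f] [CompactSpace S] [QuasiSeparatedSpace S]
    (hSeg : ∀ n m, SegreStmt S n m) (hcover : GoodCover f) (himm : DisjAffImm f) :
    ∃ (n : ℕ) (X' : Scheme.{u}) (π : X' ⟶ X) (j : X' ⟶ ProjSpaceOver n S),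
      IsImmersion j ∧ j ≫ ProjSpaceOver.toBase n S = π ≫ f ∧ IsProper π ∧ Surjective π ∧
      ∃ U : X.Opens, Dense (U : Set X) ∧ IsIso (π ∣_ U) := by
  obtain ⟨r, Ui, hcov, hdense, hdec⟩ := hcover
  refine chow_of_toolkit f hSeg r Ui hcov hdense (fun i => ?_) (fun i => ?_)
  · obtain ⟨s, C, hUi, -, hC⟩ := hdec i
    rw [hUi]
    exact isCompact_iSup_fin s C fun a => (hC a).1
  · obtain ⟨s, C, hUi, hdisj, hC⟩ := hdec i
    obtain ⟨n, j, hj1, hj2⟩ := himm s C hdisj hC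
    refine ⟨n, (X.isoOfEq hUi).hom ≫ j, inferInstance, ?_⟩
    rw [Category.assoc, hj2, Scheme.isoOfEq_hom_ι_assoc]

/-- Noetherian version (shape of S0025). -/
theorem chow_noetherian {X S : Scheme.{u}} (f : X ⟶ S) [IsNoetherian S] [IsSeparated f]
    [LocallyOfFiniteType f] [QuasiCompact f]
    (hSeg : ∀ n m, SegreStmt S n m) (hcover : GoodCover f) (himm : DisjAffImm f) :
    ∃ (n : ℕ) (X' : Scheme.{u}) (π : X' ⟶ X) (j : X' ⟶ ProjSpaceOver n S),
      IsImmersion j ∧ j ≫ ProjSpaceOver.toBase n S = π ≫ f ∧ IsProper π ∧ Surjective π ∧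
      ∃ U : X.Opens, Dense (U : Set X) ∧ IsIso (π ∣_ U) :=
  chow_qcqs f hSeg hcover himm

end Groth.Agent.R2.Lead.ChowG
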