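import Groth.Agent.R2.LeadChowF
import Groth.Agent.R2.LeadChowI

/-!
# Chow's lemma, refined output (lead, PROJ:relproj)

Refinements of `R2/LeadChowE`/`LeadChowF` needed for the EGA II 5.6 form of Chow's lemma:
* `isImmersion_φ'` : the charts only need to cover the closure of `U`;
* `range_π_subset_closure`, `isReduced_X'`, `irreducibleSpace_X'`;
* `chow_refined_of_toolkit` : the assembly, recording the closed immersion into `P^N_X`, the density of `π⁻¹ U`,
  and the inheritance of reducedness / irreducibility.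
-/

set_option autoImplicit false
set_option linter.unusedSectionVars false
universe u v
open CategoryTheory CategoryTheory.Limits AlgebraicGeometry

namespace Groth.Agent.R2.Lead.ChowJ

open Groth.Agent.R2.Lead.ChowA Groth.Agent.R2.Lead.ChowB Groth.Agent.R2.Lead.ChowC
  Groth.Agent.R2.Lead.ChowD Groth.Agent.R2.Lead.ChowE

section general

/-- the scheme-theoretic image of a quasi-compact morphism from a reduced scheme is reduced. -/
theorem isReduced_image {X Y : Scheme.{u}} (f : X ⟶ Y) [QuasiCompact f] [IsReduced X] :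
    IsReduced f.image := by
  have : ∀ i, IsReduced (f.ker.subschemeCover.openCover.X i) := by
    intro U
    have hinj : Function.Injective (RingHom.kerLift (f.app U.1).hom) :=
      RingHom.kerLift_injective _
    have hred : _root_.IsReduced (Γ(Y, U.1) ⧸ RingHom.ker (f.app U.1).hom) :=
      isReduced_of_injective _ hinj
    have hk : f.ker.ideal U = RingHom.ker (f.app U.1).hom := Scheme.Hom.ker_apply f U
    have hred' : _root_.IsReduced (Γ(Y, U.1) ⧸ f.ker.ideal U) := by rw [hk]; exact hred
    change IsReduced (Spec (CommRingCat.of (Γ(Y, U.1) ⧸ f.ker.ideal U)))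
    infer_instance
  exact IsReduced.of_openCover _ f.ker.subschemeCover.openCover

/-- a space with a dense-range continuous map from an irreducible space is irreducible. -/
theorem irreducibleSpace_of_denseRange {A B : Type*} [TopologicalSpace A] [TopologicalSpace B]
    [IrreducibleSpace A] (h : A → B) (hc : Continuous h) (hd : DenseRange h) : IrreducibleSpace B := by
  have h1 : IsIrreducible (Set.range h) := by
    rw [← Set.image_univ]
    exact (IrreducibleSpace.isIrreducible_univ A).image h hc.continuousOn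
  have h2 : IsIrreducible (closure (Set.range h)) := h1.closure
  rw [hd.closure_range] at h2
  exact (irreducibleSpace_def B).2 h2

end general

variable {X S P : Scheme.{u}} (f : X ⟶ S) (p : P ⟶ S) (U : X.Opens) (g : (U : Scheme.{u}) ⟶ P)
  (hg : g ≫ p = U.ι ≫ f) [QuasiCompact (gr f p U g hg)]

/-- the image of `π` lies in the closure of `U`. -/
theorem range_π_subset_closure :
    Set.range (π f p U g hg).base ⊆ closure (U : Set X) := by
  have hd : DenseRange (t f p U g hg).base := by
    have : IsDominant (t f p U g hg) := inferInstance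
    exact (t f p U g hg).denseRange
  rintro _ ⟨x, rfl⟩
  have hx : x ∈ closure (Set.range (t f p U g hg).base) := by rw [hd.closure_range]; trivial
  have h1 := image_closure_subset_closure_image (π f p U g hg).continuous ⟨x, hx, rfl⟩
  refine closure_mono ?_ h1
  rintro _ ⟨_, ⟨u, rfl⟩, rfl⟩
  have : (π f p U g hg).base ((t f p U g hg).base u) = (U.ι).base u := by
    rw [← t_π f p U g hg]; rfl
  rw [this]
  exact u.2

theorem isReduced_X' [IsReduced X] : IsReduced (X' f p U g hg) :=
  isReduced_image (gr f p U g hg)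

theorem irreducibleSpace_X' [IrreducibleSpace X] (hne : (U : Set X).Nonempty) :
    IrreducibleSpace (X' f p U g hg) := by
  have hU : IrreducibleSpace ↥(U : Scheme.{u}) := by
    have h1 : IsIrreducible (U : Set X) :=
      ⟨hne, (IrreducibleSpace.isIrreducible_univ X).isPreirreducible.open_subset U.2 (Set.subset_univ _)⟩
    exact Subtype.irreducibleSpace h1
  have hd : DenseRange (t f p U g hg).base := by
    have : IsDominant (t f p U g hg) := inferInstance
    exact (t f p U g hg).denseRange
  exact irreducibleSpace_of_denseRange (t f p U g hg).base (t f p U g hg).continuous hd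

variable {ι : Type v} (Ui : ι → X.Opens) (hUi : ∀ i, U ≤ Ui i)
  (hcov : ∀ x ∈ closure (U : Set X), ∃ i, x ∈ Ui i)
  (Pi : ι → Scheme.{u}) (pi : ∀ i, Pi i ⟶ S) (q : ∀ i, P ⟶ Pi i) (hq : ∀ i, q i ≫ pi i = p)
  (j : ∀ i, (Ui i : Scheme.{u}) ⟶ Pi i) (hj : ∀ i, j i ≫ pi i = (Ui i).ι ≫ f)
  (hgj : ∀ i, g ≫ q i = X.homOfLE (hUi i) ≫ j i)
  [∀ i, IsImmersion (j i)] [IsSeparated f] [∀ i, IsSeparated (pi i)]

include hcov hq hj hgj in
/-- `φ : X' ⟶ P` is an immersion (the charts only need to cover the closure of `U`). -/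
theorem isImmersion_φ' : IsImmersion (φ f p U g hg) := by
  refine IsZariskiLocalAtTarget.of_range_subset_iSup (P := @IsImmersion)
    (fun i => (q i) ⁻¹ᵁ (j i).coborderRange) ?_ (fun i => ?_)
  · rintro _ ⟨x, rfl⟩
    obtain ⟨i, hi⟩ := hcov _ (range_π_subset_closure f p U g hg ⟨x, rfl⟩)
    refine TopologicalSpace.Opens.mem_iSup.2 ⟨i, ?_⟩
    exact preimage_le f p U g hg (Ui i) (hUi i) (pi i) (q i) (hq i) (j i) (hj i) (hgj i) hi
  · have := isClosedImmersion_φ_restrict f p U g hg (Ui i) (hUi i) (pi i) (q i) (hq i) (j i) (hj i)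
      (hgj i)
    infer_instance


section assembly

open Groth.Agent.R2.Lead.ChowF Groth.Agent.R2.Lead.PnProd Groth.Agent.R2.Lead.ChowI CohB1
  Groth.Agent.R2.H87.ProjSpaceOver

/-- Chow's lemma from the toolkit, refined output: the charts only need to cover the closure of
`U = ⨅ i, Ui i`; the output records the closed immersion `j'` into `P^N_X`, the density of `π⁻¹ U` and the
inheritance of reducedness and irreducibility. -/
theorem chow_refined_of_toolkit {X S : Scheme.{u}} (f : X ⟶ S) [IsSeparated f] [LocallyOfFiniteType f]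
    [QuasiCompact f] [CompactSpace S] [QuasiSeparatedSpace S]
    (hSeg : ∀ n m, SegreStmt S n m)
    (r : ℕ) (Ui : Fin r → X.Opens)
    (hcov : ∀ x ∈ closure ((⨅ i, Ui i : X.Opens) : Set X), ∃ i, x ∈ Ui i)
    (hcomp : ∀ i, IsCompact (Ui i : Set X))
    (himm : ∀ i, ∃ (n : ℕ) (j : ((Ui i : X.Opens) : Scheme.{u}) ⟶ ProjSpaceOver n S),
      IsImmersion j ∧ j ≫ ProjSpaceOver.toBase n S = (Ui i).ι ≫ f) :
    ∃ (N : ℕ) (X' : Scheme.{u}) (π : X' ⟶ X) (j : X' ⟶ ProjSpaceOver N S)
      (j' : X' ⟶ ProjSpaceOver N X),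
      IsImmersion j ∧ j ≫ ProjSpaceOver.toBase N S = π ≫ f ∧
      IsClosedImmersion j' ∧ j' ≫ ProjSpaceOver.toBase N X = π ∧ IsProper π ∧
      Dense ((π ⁻¹ᵁ (⨅ i, Ui i) : X'.Opens) : Set X') ∧ IsIso (π ∣_ (⨅ i, Ui i)) ∧
      (Dense ((⨅ i, Ui i : X.Opens) : Set X) → Surjective π) ∧
      (IsReduced X → IsReduced X') ∧
      (IrreducibleSpace X → ((⨅ i, Ui i : X.Opens) : Set X).Nonempty → IrreducibleSpace X') := by
  choose n j hj1 hj2 using himm
  obtain ⟨P, p, q, N, e, he, hep, hq, huniv⟩ := hasProd S hSeg r n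
  have hcX : CompactSpace X := QuasiCompact.compactSpace_of_compactSpace f
  have hqsX : QuasiSeparatedSpace X := quasiSeparatedSpace_of_quasiSeparated f
  set U : X.Opens := ⨅ i, Ui i with hU
  have hUi : ∀ i, U ≤ Ui i := fun i => iInf_le _ i
  obtain ⟨g, hg, hgq⟩ := huniv U (U.ι ≫ f) (fun i => X.homOfLE (hUi i) ≫ j i) (fun i => by
    rw [Category.assoc, hj2 i, Scheme.homOfLE_ι_assoc])
  have hpt : ∀ k, IsProper (ProjSpaceOver.toBase k S) := fun k =>
    Groth.Agent.S9705.isProper_toBase k S
  have hpp : IsProper p := by rw [← hep]; infer_instance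
  have hqsP : QuasiSeparatedSpace ↥(pullback f p) :=
    quasiSeparatedSpace_of_quasiSeparated (pullback.fst f p ≫ f)
  have hcU : CompactSpace ↥(U : Scheme.{u}) :=
    isCompact_iff_compactSpace.mp (isCompact_iInf_fin r Ui hcomp)
  have hqc : QuasiCompact (gr f p U g hg) := inferInstance
  have hsep : ∀ i, IsSeparated (ProjSpaceOver.toBase (n i) S) := fun i => inferInstance
  have himmφ : IsImmersion (φ f p U g hg) :=
    isImmersion_φ' f p U g hg Ui hUi hcov (fun i => ProjSpaceOver (n i) S)
      (fun i => ProjSpaceOver.toBase (n i) S) q hq j hj2 hgq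
  have hjf : (φ f p U g hg ≫ e) ≫ ProjSpaceOver.toBase N S = π f p U g hg ≫ f := by
    rw [Category.assoc, hep, π_f]
  have hπ : IsProper (π f p U g hg) := inferInstance
  -- the lift to `P^N_X`
  let j' : X' f p U g hg ⟶ ProjSpaceOver N X := lift N ((φ f p U g hg ≫ e) ≫ toZ N S) (π f p U g hg)
  have hj'1 : j' ≫ ProjSpaceOver.toBase N X = π f p U g hg := lift_toBase _ _ _
  have hj'2 : j' ≫ map N f = φ f p U g hg ≫ e := by
    apply hom_ext
    · rw [Category.assoc, map_toZ, lift_toZ]
    · rw [Category.assoc, map_toBase, reassoc_of% hj'1, hjf]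
  have hj'i : IsImmersion j' := by
    have : IsImmersion (j' ≫ map N f) := by rw [hj'2]; infer_instance
    exact IsImmersion.of_comp j' (map N f)
  have hptX : IsProper (ProjSpaceOver.toBase N X) := Groth.Agent.S9705.isProper_toBase N X
  have hj'p : IsProper j' := by
    have : IsProper (j' ≫ ProjSpaceOver.toBase N X) := by rw [hj'1]; infer_instance
    exact IsProper.of_comp j' (ProjSpaceOver.toBase N X)
  refine ⟨N, X' f p U g hg, π f p U g hg, φ f p U g hg ≫ e, j', inferInstance, hjf,
    isClosedImmersion_of_isImmersion_of_isProper j', hj'1, hπ, dense_preimage f p U g hg,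
    isIso_π_restrict f p U g hg, fun hd => surjective_π f p U g hg hd,
    fun _ => isReduced_X' f p U g hg, fun _ hne => irreducibleSpace_X' f p U g hg hne⟩

end assembly

end Groth.Agent.R2.Lead.ChowJ
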