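import Mathlib
import Groth.Agent.R2.LeadH399Spec
import Groth.Agent.R2.LeadRelProjR2
import Groth.Agent.R2.H55RelSerreB
import Groth.Agent.R2.H55AmpleVan
import Groth.Agent.R2.H79TwistCalc
import Groth.Agent.R2.H87PnTwist
import Groth.Agent.Lib.Helper23QCohLocal
import Groth.Agent.Lib.Helper23RestrTensor
import Groth.Agent.Lib.Helper23Restr2
import Groth.Agent.Lib.Helper23PB
import Groth.Agent.Lib.Helper23SecTw6
import Groth.Agent.S9705

/-!
# PROJ:h399 (lead): assembly of the backward direction of S2427 from the packages BW1–BW3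
-/

set_option autoImplicit false

universe u

open CategoryTheory CategoryTheory.Limits AlgebraicGeometry TopologicalSpace Opposite

namespace Groth.Agent.R2.Lead.H399Bwd

open Groth.Agent.R2.Lead.H399Spec Groth.Agent.R2.H55.AmpleVan Groth.Agent.R2.H79.TwistCalc

section twist

variable (r : ℕ) (Y : Scheme.{u})

/-- `O(N) ≅ O(1)^{⊗ N}` on `P^r_Y`. -/
theorem nonempty_twistOver_iso_tensorPow (N : ℕ) :
    Nonempty (Twist.twistOver r Y (N : ℤ) ≅ CohB1.tensorPow (Twist.twistOver r Y 1) N) := by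
  obtain ⟨a⟩ := nonempty_tensorPow_twist_one_iso r (ULift.{u} ℤ) N
  obtain ⟨b⟩ := Groth.Agent.Lib.Helper23.PB.nonempty_pullback_tensorPow_iso
    (Groth.Agent.R2.H87.ProjSpaceOver.toZ r Y) (Twist.twistProjSpace r (ULift.{u} ℤ) 1)
    (isInvertible_twistProjSpace r (ULift.{u} ℤ) 1) N
  exact ⟨((Scheme.Modules.pullback (Groth.Agent.R2.H87.ProjSpaceOver.toZ r Y)).mapIso a).symm ≪≫ b⟩

variable {r Y}

/-- `F ⊗ i^* O(N) ≅ F ⊗ (i^* O(1))^{⊗ N}`. -/
theorem nonempty_tw_iso {X : Scheme.{u}} (i : X ⟶ CohB1.ProjSpaceOver r Y) (F : X.Modules) (N : ℕ) :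
    Nonempty (tw r i F (N : ℤ) ≅ CohB1.tensorMod F
      (CohB1.tensorPow ((Scheme.Modules.pullback i).obj (Twist.twistOver r Y 1)) N)) := by
  obtain ⟨a⟩ := nonempty_twistOver_iso_tensorPow r Y N
  obtain ⟨b⟩ := Groth.Agent.Lib.Helper23.PB.nonempty_pullback_tensorPow_iso i (Twist.twistOver r Y 1)
    (Groth.Agent.R2.H55.RelSerreB.isInvertible_twistOver r Y 1) N
  exact ⟨tensorLeftCongr F ((Scheme.Modules.pullback i).mapIso a ≪≫ b)⟩

end twist

section bookkeeping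

/-- two module structures with the same scalar multiplication have the same flatness. -/
theorem flat_of_smul_eq {A M : Type*} [CommRing A] [AddCommGroup M] (i1 i2 : Module A M)
    (h : ∀ (a : A) (m : M), (letI := i1; a • m) = (letI := i2; a • m)) :
    @Module.Flat A M _ _ i1 → @Module.Flat A M _ _ i2 := by
  have : i1 = i2 := Module.ext' i1 i2 h
  subst this
  exact id

/-- flatness of sections (through `φ`) is invariant under isomorphisms of modules. -/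
theorem flat_of_iso {A : Type u} [CommRing A] {Z : Scheme.{u}} (φ : A →+* Γ(Z, ⊤)) {P Q : Z.Modules}
    (α : P ≅ Q) (U : Z.Opens) (h : @Module.Flat A Γ(P, U) _ _ (modOf φ P U)) :
    @Module.Flat A Γ(Q, U) _ _ (modOf φ Q U) := by
  letI := modOf φ P U
  letI := modOf φ Q U
  let e : Γ(P, U) ≃ₗ[A] Γ(Q, U) :=
    { toFun := fun x => α.hom.app U x
      invFun := fun y => α.inv.app U y
      map_add' := fun x y => map_add _ x y
      map_smul' := fun a x => by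
        change α.hom.app U (((Z.presheaf.map (homOfLE (le_top : U ≤ ⊤)).op).hom.comp φ) a • x) = _
        exact Scheme.Modules.Hom.app_smul _ _ _
      left_inv := fun x => by
        have := congrArg (fun ψ : P ⟶ P => ψ.app U x) α.hom_inv_id
        exact this
      right_inv := fun y => by
        have := congrArg (fun ψ : Q ⟶ Q => ψ.app U y) α.inv_hom_id
        exact this }
  exact Module.Flat.of_linearEquiv e.symm

variable {X Y : Scheme.{u}} (f : X ⟶ Y) (V : Y.Opens) (U : X.Opens) (hU : U ≤ f ⁻¹ᵁ V)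

/-- the ring homomorphism `Γ(Y, V) → Γ(U, ⊤)`. -/
noncomputable def phi : Γ(Y, V) →+* Γ((U : Scheme.{u}), ⊤) :=
  ((U.ι ≫ f).appLE V ⊤ (fun x _ => hU x.2)).hom

include hU in
theorem image_le (W : (U : Scheme.{u}).Opens) : U.ι ''ᵁ W ≤ f ⁻¹ᵁ V := by
  rintro _ ⟨x, -, rfl⟩
  exact hU x.2

theorem phi_res (W : (U : Scheme.{u}).Opens) (a : Γ(Y, V)) :
    (U.ι.appIso W).inv (((U : Scheme.{u}).presheaf.map (homOfLE (le_top : W ≤ ⊤)).op).hom (phi f V U hU a)) =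
      (f.appLE V (U.ι ''ᵁ W) (image_le f V U hU W)).hom a := by
  have key : (U.ι ≫ f).appLE V ⊤ (fun x _ => hU x.2) ≫
      (U : Scheme.{u}).presheaf.map (homOfLE (le_top : W ≤ ⊤)).op ≫ (U.ι.appIso W).inv =
      f.appLE V (U.ι ''ᵁ W) (image_le f V U hU W) := by
    have h1 := Scheme.Hom.appLE_map (U.ι ≫ f) (U := V) (V := ⊤) (fun x _ => hU x.2)
      (homOfLE (le_top : W ≤ ⊤)).op
    rw [← Category.assoc, h1]
    have h2 : (U.ι ≫ f).appLE V W (fun x _ => hU x.2) =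
        f.appLE V (U.ι ''ᵁ W) (image_le f V U hU W) ≫
          U.ι.appLE (U.ι ''ᵁ W) W (by rw [Scheme.Hom.preimage_image_eq]) := by
      rw [Scheme.Hom.appLE_comp_appLE]
    rw [h2, Category.assoc, Scheme.Hom.appLE_appIso_inv]
    simp
  exact ConcreteCategory.congr_hom key a

theorem modOf_restrict_smul (M : X.Modules) (W : (U : Scheme.{u}).Opens) (a : Γ(Y, V))
    (m : Γ(M, U.ι ''ᵁ W)) :
    (letI := modOf (phi f V U hU) (M.restrict U.ι) W; a • (show Γ(M.restrict U.ι, W) from m)) =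
      (letI := Module.compHom Γ(M, U.ι ''ᵁ W) (f.appLE V (U.ι ''ᵁ W) (image_le f V U hU W)).hom; a • m) := by
  change ((U.ι.appIso W).inv (((U : Scheme.{u}).presheaf.map (homOfLE (le_top : W ≤ ⊤)).op).hom
    (phi f V U hU a))) • m = (f.appLE V (U.ι ''ᵁ W) (image_le f V U hU W)).hom a • m
  rw [phi_res]

theorem flat_restrict_iff (M : X.Modules) (W : (U : Scheme.{u}).Opens) :
    @Module.Flat Γ(Y, V) Γ(M.restrict U.ι, W) _ _ (modOf (phi f V U hU) (M.restrict U.ι) W) ↔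
      @Module.Flat Γ(Y, V) Γ(M, U.ι ''ᵁ W) _ _
        (Module.compHom Γ(M, U.ι ''ᵁ W) (f.appLE V (U.ι ''ᵁ W) (image_le f V U hU W)).hom) :=
  ⟨flat_of_smul_eq (M := Γ(M, U.ι ''ᵁ W)) (modOf (phi f V U hU) (M.restrict U.ι) W) _
      (fun a m => modOf_restrict_smul f V U hU M W a m),
    flat_of_smul_eq (M := Γ(M, U.ι ''ᵁ W)) _ (modOf (phi f V U hU) (M.restrict U.ι) W)
      (fun a m => (modOf_restrict_smul f V U hU M W a m).symm)⟩


theorem push_smul (T : X.Modules) (a : Γ(Y, V)) (m : Γ(T, f ⁻¹ᵁ V)) :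
    (a • (show Γ((Coh.push f).obj T, V) from m) : Γ((Coh.push f).obj T, V)) =
      (f.appLE V (f ⁻¹ᵁ V) le_rfl).hom a • m := by
  rw [Scheme.Hom.appLE_eq_app]
  rfl

theorem flat_push_iff (T : X.Modules) :
    Module.Flat Γ(Y, V) Γ((Coh.push f).obj T, V) ↔
      @Module.Flat Γ(Y, V) Γ(T, f ⁻¹ᵁ V) _ _
        (Module.compHom Γ(T, f ⁻¹ᵁ V) (f.appLE V (f ⁻¹ᵁ V) le_rfl).hom) := by
  let i1 : Module Γ(Y, V) Γ(T, f ⁻¹ᵁ V) :=
    (inferInstance : Module Γ(Y, V) Γ((Coh.push f).obj T, V))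
  have h12 : ∀ (a : Γ(Y, V)) (m : Γ(T, f ⁻¹ᵁ V)), (letI := i1; a • m) =
      (letI := Module.compHom Γ(T, f ⁻¹ᵁ V) (f.appLE V (f ⁻¹ᵁ V) le_rfl).hom; a • m) :=
    fun a m => push_smul f V T a m
  exact ⟨fun h => @flat_of_smul_eq Γ(Y, V) Γ(T, f ⁻¹ᵁ V) _ _ i1
      (Module.compHom Γ(T, f ⁻¹ᵁ V) (f.appLE V (f ⁻¹ᵁ V) le_rfl).hom) h12 h,
    fun h => @flat_of_smul_eq Γ(Y, V) Γ(T, f ⁻¹ᵁ V) _ _
      (Module.compHom Γ(T, f ⁻¹ᵁ V) (f.appLE V (f ⁻¹ᵁ V) le_rfl).hom) i1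
      (fun a m => (h12 a m).symm) h⟩

theorem flat_appLE_congr (T : X.Modules) {U₁ U₂ : X.Opens} (h : U₁ = U₂) (e₁ : U₁ ≤ f ⁻¹ᵁ V)
    (e₂ : U₂ ≤ f ⁻¹ᵁ V) :
    @Module.Flat Γ(Y, V) Γ(T, U₁) _ _ (Module.compHom Γ(T, U₁) (f.appLE V U₁ e₁).hom) ↔
      @Module.Flat Γ(Y, V) Γ(T, U₂) _ _ (Module.compHom Γ(T, U₂) (f.appLE V U₂ e₂).hom) := by
  subst h
  exact Iff.rfl

/-- flatness of the sections of the direct image over `V` is flatness of the global sections of the restriction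
to `f⁻¹V`. -/
theorem flat_push_iff_restrict (T : X.Modules) :
    Module.Flat Γ(Y, V) Γ((Coh.push f).obj T, V) ↔
      @Module.Flat Γ(Y, V) Γ(T.restrict (f ⁻¹ᵁ V).ι, ⊤) _ _
        (modOf (phi f V (f ⁻¹ᵁ V) le_rfl) (T.restrict (f ⁻¹ᵁ V).ι) ⊤) := by
  rw [flat_push_iff, flat_restrict_iff]
  exact flat_appLE_congr f V T (Scheme.Opens.ι_image_top _).symm _ _

end bookkeeping

/-- **S2427, backward**, from the packages. -/
theorem bwd (b1 : BW1Stmt.{u}) (b2 : BW2Stmt.{u}) (b3 : BW3Stmt.{u}) : BwdStmt.{u} := by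
  intro r X Y _ i _ F hF hfree x
  obtain ⟨n₀, hn₀⟩ := hfree
  classical
  set f : X ⟶ Y := i ≫ CohB1.ProjSpaceOver.toBase r Y with hf
  haveI : IsProper (CohB1.ProjSpaceOver.toBase r Y) := Groth.Agent.S9705.isProper_toBase r Y
  haveI : IsProper f := by rw [hf]; infer_instance
  haveI : F.IsQuasicoherent := hF.1
  -- an affine neighbourhood of `f x`
  obtain ⟨V, hV, hxV, -⟩ := Opens.isBasis_iff_nbhd.1 (Y.isBasis_affineOpens)
    (show f.base x ∈ (⊤ : Y.Opens) from trivial)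
  set L₁ : X.Modules := (Scheme.Modules.pullback i).obj (Twist.twistOver r Y 1) with hL₁def
  have hL₁ : PicF.IsInvertible L₁ := Groth.Agent.R2.H55.RelSerreB.isInvertible_pullback_twistOver r i 1
  have hamp : CohB1.IsAmple (L₁.restrict (f ⁻¹ᵁ V).ι) :=
    (Groth.Agent.R2.Lead.RelProjR2.r2 r i inferInstance inferInstance).2 ⟨V, hV⟩
  haveI : CompactSpace ↥((f ⁻¹ᵁ V : X.Opens) : Scheme.{u}) := hamp.2.1
  haveI : ((f ⁻¹ᵁ V : X.Opens) : Scheme.{u}).IsSeparated :=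
    Groth.Agent.Lib.Helper23.SecTw.isSeparated_of_isAmple _ hamp
  haveI : QuasiSeparatedSpace ↥((f ⁻¹ᵁ V : X.Opens) : Scheme.{u}) := inferInstance
  obtain ⟨m, s, hxs, haff⟩ := hamp.2.2 ⟨x, hxV⟩
  have hLZ : PicF.IsInvertible (L₁.restrict (f ⁻¹ᵁ V).ι) := hamp.1
  have hL' : PicF.IsInvertible (CohB1.tensorPow (L₁.restrict (f ⁻¹ᵁ V).ι) (m + 1)) :=
    Groth.Agent.Lib.Helper23.SecTw.isInvertible_tensorPow hLZ (m + 1)
  have key := b2 ((f ⁻¹ᵁ V : X.Opens) : Scheme.{u}) (phi f V (f ⁻¹ᵁ V) le_rfl)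
    (CohB1.tensorPow (L₁.restrict (f ⁻¹ᵁ V).ι) (m + 1)) hL' s (F.restrict (f ⁻¹ᵁ V).ι) n₀.toNat ?_
  · rw [flat_restrict_iff] at key
    exact b3 f F V hV _ (haff.image_of_isOpenImmersion (f ⁻¹ᵁ V).ι) (image_le f V _ le_rfl _) key x
      ⟨⟨x, hxV⟩, hxs, rfl⟩
  · intro n k hn
    -- the twist `N = (m+1)(n+k) ≥ n₀`
    have hN : n₀ ≤ (((m + 1) * (n + k) : ℕ) : ℤ) := by
      have h1 : n₀ ≤ (n₀.toNat : ℤ) := Int.self_le_toNat n₀
      have h2 : (n₀.toNat : ℤ) ≤ (n : ℤ) := by exact_mod_cast hn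
      have h3 : (n : ℤ) ≤ (((m + 1) * (n + k) : ℕ) : ℤ) := by
        have : n ≤ (m + 1) * (n + k) := by nlinarith
        exact_mod_cast this
      exact h1.trans (h2.trans h3)
    have hT : Coh.IsCoh (tw r i F (((m + 1) * (n + k) : ℕ) : ℤ)) :=
      Groth.Agent.R2.H79.TwistCalc.isCoh_tensorMod F _ hF
        (Groth.Agent.R2.H55.RelSerreB.isInvertible_pullback_twistOver r i _)
    haveI : (tw r i F (((m + 1) * (n + k) : ℕ) : ℤ)).IsQuasicoherent := hT.1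
    haveI : ((Coh.push f).obj (tw r i F (((m + 1) * (n + k) : ℕ) : ℤ))).IsQuasicoherent :=
      Groth.Agent.Lib.Helper23.QCohLocal.isQuasicoherent_pushforward f _
    have hfl : Module.Flat Γ(Y, V) Γ((Coh.push f).obj (tw r i F (((m + 1) * (n + k) : ℕ) : ℤ)), V) :=
      b1 _ (hn₀ _ hN) V hV
    rw [flat_push_iff_restrict] at hfl
    -- the isomorphism of modules on `f⁻¹V`
    obtain ⟨c⟩ := Groth.Agent.Lib.Helper23.SecTw.nonempty_tensorPow_tensorPow_iso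
      (L₁.restrict (f ⁻¹ᵁ V).ι) hLZ (m + 1) (n + k) _ rfl
    obtain ⟨d⟩ := Groth.Agent.Lib.Helper23.RestrTensor.nonempty_restrict_twist_iso F L₁ hL₁ (f ⁻¹ᵁ V)
      ((m + 1) * (n + k))
    obtain ⟨e⟩ := nonempty_tw_iso i F ((m + 1) * (n + k))
    refine flat_of_iso _ ?_ ⊤ hfl
    exact (Scheme.Modules.restrictFunctor (f ⁻¹ᵁ V).ι).mapIso e ≪≫ d ≪≫
      (tensorLeftCongr _ c).symm ≪≫
      (tensorLeftCongr _ (tensorPowAdd (CohB1.tensorPow (L₁.restrict (f ⁻¹ᵁ V).ι) (m + 1)) n k)).symm ≪≫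
      (tensorAssocIso _ _ _).symm

end Groth.Agent.R2.Lead.H399Bwd
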