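import Mathlib
import Groth.Agent.R2.LeadH399Bwd
import Groth.Agent.R2.H16CbcFIGlob3
import Groth.Agent.S0051

/-!
# PROJ:h399, package [FW1] (lead; hedge copy): Serre vanishing for the twists over an affine open of the base
-/

set_option autoImplicit false

universe u

open CategoryTheory CategoryTheory.Limits AlgebraicGeometry TopologicalSpace Opposite

namespace Groth.Agent.R2.Lead.H399FW1

open Groth.Agent.R2.Lead.H399Spec Groth.Agent.R2.Lead.H399Bwd Groth.Agent.R2.H55.AmpleVan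
  Groth.Agent.R2.H79.TwistCalc

theorem fw1 : FW1Stmt.{u} := by
  intro r X Y _ i _ F hF V hV
  classical
  set f : X ⟶ Y := i ≫ CohB1.ProjSpaceOver.toBase r Y with hf
  haveI : IsProper (CohB1.ProjSpaceOver.toBase r Y) := Groth.Agent.S9705.isProper_toBase r Y
  haveI : IsProper f := by rw [hf]; infer_instance
  set L₁ : X.Modules := (Scheme.Modules.pullback i).obj (Twist.twistOver r Y 1) with hL₁def
  have hL₁ : PicF.IsInvertible L₁ := Groth.Agent.R2.H55.RelSerreB.isInvertible_pullback_twistOver r i 1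
  have hamp : CohB1.IsAmple (L₁.restrict (f ⁻¹ᵁ V).ι) :=
    (Groth.Agent.R2.Lead.RelProjR2.r2 r i inferInstance inferInstance).2 ⟨V, hV⟩
  haveI : IsNoetherianRing Γ(Y, V) := IsLocallyNoetherian.component_noetherian ⟨V, hV⟩
  haveI : IsProper ((f ∣_ V) ≫ hV.isoSpec.hom) := Groth.Agent.R2.H16.CbcFIGlob.isProper_overV f hV.isoSpec
  have hcoh : Coh.IsCoh (F.restrict (f ⁻¹ᵁ V).ι) := Groth.Agent.R2.H16.CbcFIGlob.isCoh_restrict f F hF
  obtain ⟨n₀, hn₀⟩ := (Groth.Agent.S0051.result Γ(Y, V) ((f ⁻¹ᵁ V : X.Opens) : Scheme.{u})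
    ((f ∣_ V) ≫ hV.isoSpec.hom) (L₁.restrict (f ⁻¹ᵁ V).ι) hamp.1).1 hamp _ hcoh
  refine ⟨(n₀ : ℤ), fun n hn p hp => ?_⟩
  obtain ⟨m, rfl⟩ : ∃ m : ℕ, n = (m : ℤ) := ⟨n.toNat, (Int.toNat_of_nonneg (le_trans (by positivity) hn)).symm⟩
  have hm : n₀ ≤ m := by exact_mod_cast hn
  obtain ⟨d⟩ := Groth.Agent.Lib.Helper23.RestrTensor.nonempty_restrict_twist_iso F L₁ hL₁ (f ⁻¹ᵁ V) m
  obtain ⟨e⟩ := nonempty_tw_iso i F m
  exact subsingleton_HH_of_iso
    ((Scheme.Modules.restrictFunctor (f ⁻¹ᵁ V).ι).mapIso e ≪≫ d).symm p (hn₀ m hm p hp)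

end Groth.Agent.R2.Lead.H399FW1
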