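import Mathlib
import Groth.Agent.R2.LeadH399Spec
import Groth.Agent.R2.H11CbcDict

/-!
# PROJ:h399, package [FW4] (lead; hedge copy): finite flat sections on an affine cover ⇒ finite locally free
-/

set_option autoImplicit false

universe u

open CategoryTheory CategoryTheory.Limits AlgebraicGeometry TopologicalSpace Opposite

namespace Groth.Agent.R2.Lead.H399FW4

open Groth.Agent.R2.Lead.H399Spec

theorem fw4 : FW4Stmt.{u} := by
  intro Y _ M _ h y
  obtain ⟨V, hV, hyV, hfin, hflat⟩ := h y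
  haveI : IsNoetherianRing Γ(Y, V) := IsLocallyNoetherian.component_noetherian ⟨V, hV⟩
  haveI : Module.Finite Γ(Y, V) Γ(M, V) := hfin
  haveI : Module.Flat Γ(Y, V) Γ(M, V) := hflat
  haveI : Module.FinitePresentation Γ(Y, V) Γ(M, V) := Module.finitePresentation_of_finite _ _
  obtain ⟨D, hyD, -, ⟨e⟩⟩ := Groth.Agent.R2.H11.CbcDict.exists_restrict_iso_freeMod_rank M hV y hyV
  exact ⟨D, _, hyD, ⟨e⟩⟩

end Groth.Agent.R2.Lead.H399FW4
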