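import Mathlib
import Groth.Agent.R2.LeadH399Spec
import Groth.Agent.R2.H55RelSerreB
import Groth.Agent.R2.H79TwistCalc
import Groth.Agent.Lib.Helper23QCohLocal
import Groth.Agent.S9705

/-!
# PROJ:h399 (lead): assembly of the forward direction of S2427 from the packages FW1–FW4
-/

set_option autoImplicit false

universe u

open CategoryTheory CategoryTheory.Limits AlgebraicGeometry TopologicalSpace Opposite

namespace Groth.Agent.R2.Lead.H399Fwd

open Groth.Agent.R2.Lead.H399Spec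

/-- a finite family of integers is bounded above. -/
theorem exists_forall_le {ι : Type*} (t : Finset ι) (g : ι → ℤ) : ∃ N : ℤ, ∀ j ∈ t, g j ≤ N := by
  classical
  induction t using Finset.induction_on with
  | empty => exact ⟨0, fun j hj => absurd hj (Finset.notMem_empty j)⟩
  | insert a t _ ih =>
    obtain ⟨N, hN⟩ := ih
    refine ⟨max N (g a), fun j hj => ?_⟩
    rcases Finset.mem_insert.1 hj with rfl | hj
    · exact le_max_right _ _
    · exact (hN j hj).trans (le_max_left _ _)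

/-- **S2427, forward**, from the packages. -/
theorem fwd (h1 : FW1Stmt.{u}) (h2 : FW2Stmt.{u}) (h3 : FW3Stmt.{u}) (h4 : FW4Stmt.{u}) :
    FwdStmt.{u} := by
  intro r X Y _ i _ F hF hflat
  classical
  set f : X ⟶ Y := i ≫ CohB1.ProjSpaceOver.toBase r Y with hf
  haveI : IsProper (CohB1.ProjSpaceOver.toBase r Y) := Groth.Agent.S9705.isProper_toBase r Y
  haveI : IsProper f := by rw [hf]; infer_instance
  -- an affine neighbourhood of each point, with its bound
  have hcov : ∀ y : Y, ∃ V : Y.Opens, IsAffineOpen V ∧ y ∈ V := by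
    intro y
    obtain ⟨V, hV, hy, -⟩ := Opens.isBasis_iff_nbhd.1 (Y.isBasis_affineOpens)
      (show y ∈ (⊤ : Y.Opens) from trivial)
    exact ⟨V, hV, hy⟩
  choose V hV hyV using hcov
  have hb : ∀ y : Y, ∃ n₀ : ℤ, ∀ n : ℤ, n₀ ≤ n → ∀ p : ℕ, 0 < p →
      Subsingleton (Coh.HH (f ⁻¹ᵁ V y).toScheme ((tw r i F n).restrict (f ⁻¹ᵁ V y).ι) p) :=
    fun y => h1 r i F hF (V y) (hV y)
  choose b hbv using hb
  -- finitely many of them cover `Y`
  obtain ⟨t, ht⟩ := (isCompact_univ (X := Y)).elim_finite_subcover (fun y => ((V y : Y.Opens) : Set Y))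
    (fun y => (V y).2) (fun y _ => Set.mem_iUnion.2 ⟨y, hyV y⟩)
  obtain ⟨N, hN⟩ := exists_forall_le t b
  refine ⟨N, fun n hn => ?_⟩
  have hLinv : PicF.IsInvertible ((Scheme.Modules.pullback i).obj (Twist.twistOver r Y n)) :=
    Groth.Agent.R2.H55.RelSerreB.isInvertible_pullback_twistOver r i n
  have hG : Coh.IsCoh (tw r i F n) := Groth.Agent.R2.H79.TwistCalc.isCoh_tensorMod F _ hF hLinv
  have hGflat : FlatMod.IsFlatOver f (tw r i F n) := h2 f F _ hLinv hflat
  haveI : (tw r i F n).IsQuasicoherent := hG.1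
  haveI : ((Coh.push f).obj (tw r i F n)).IsQuasicoherent :=
    Groth.Agent.Lib.Helper23.QCohLocal.isQuasicoherent_pushforward f (tw r i F n)
  refine h4 ((Coh.push f).obj (tw r i F n)) (fun y => ?_)
  have hy : y ∈ ⋃ j ∈ t, ((V j : Y.Opens) : Set Y) := ht (Set.mem_univ y)
  obtain ⟨j, hj⟩ := Set.mem_iUnion.1 hy
  obtain ⟨hjt, hyj⟩ := Set.mem_iUnion.1 hj
  refine ⟨V j, hV j, hyj, ?_⟩
  exact h3 f (tw r i F n) hG hGflat (V j) (hV j) (fun p hp => hbv j n ((hN j hjt).trans hn) p hp)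

end Groth.Agent.R2.Lead.H399Fwd
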