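import Groth.Agent.R2.LeadSegreSpec
import Groth.Agent.Lib.Helper27PnChart

/-!
# Universal Segre embedding, part B1 (lead): general lemmas and the preimage of `D₊(z_(i,j))`
-/

set_option autoImplicit false
set_option linter.unusedSectionVars false
universe u
open CategoryTheory CategoryTheory.Limits AlgebraicGeometry TopologicalSpace

namespace Groth.Agent.R2.Lead.SegreB

open CohB1 Groth.Agent.Helper13Dehom Groth.Agent.Helper13AffMor Groth.Agent.Helper13ProjUP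
  Groth.Agent.R2.Lead.SegreSpec

section general

variable {R A : Type u} [CommRing R] [CommRing A] [Algebra R A] {𝒜 : ℕ → Submodule R A}
  [GradedAlgebra 𝒜]

/-- `toAff` followed by the structure morphism. -/
theorem toAff_toBase {f : A} (hf : f ∈ 𝒜 1) {Y : Scheme.{u}} {V : Y.Opens}
    (φ : Γ(Proj 𝒜, Proj.basicOpen 𝒜 f) ⟶ Γ(Y, V)) :
    toAff (isAffineOpen_basicOpen hf) φ ≫ toBase 𝒜 = V.toSpecΓ ≫ Spec.map (strMap hf ≫ φ) := by
  unfold toAff
  rw [Category.assoc, Category.assoc, fromSpec_toBase, ← Spec.map_comp]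

/-- the structure map of a morphism to `Proj` on a chart. -/
theorem ι_comp_toBase {f : A} (hf : f ∈ 𝒜 1) {Y : Scheme.{u}} {V : Y.Opens} (g : Y ⟶ Proj 𝒜)
    (hle : V ≤ g ⁻¹ᵁ Proj.basicOpen 𝒜 f) :
    V.ι ≫ g ≫ toBase 𝒜 =
      V.toSpecΓ ≫ Spec.map (strMap hf ≫ g.appLE (Proj.basicOpen 𝒜 f) V hle) := by
  rw [← Category.assoc, ι_comp_eq_toAff (isAffineOpen_basicOpen hf) g hle, toAff_toBase]

/-- two ring maps out of `Γ(Proj, D₊(f))` agreeing after `dehom` are equal. -/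
theorem hom_ext_dehom {f : A} (hf : f ∈ 𝒜 1) {B : CommRingCat.{u}}
    (α β : Γ(Proj 𝒜, Proj.basicOpen 𝒜 f) ⟶ B)
    (h : α.hom.comp (dehom hf) = β.hom.comp (dehom hf)) : α = β := by
  ext r
  obtain ⟨j, a, _, rfl⟩ := exists_dehom_eq hf r
  exact RingHom.congr_fun h a

end general

variable (n m : ℕ) (R : Type u) [CommRing R]

lemma toBase_eq (a : ℕ) : toBase (polyGrading a R) = ProjSpace.toSpec a R := rfl

lemma iSup_W : (⨆ p : Fin (n + 1) × Fin (m + 1), W n m R p.1 p.2) = ⊤ := by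
  rw [eq_top_iff]
  intro x _
  have h1 : (pr₁ n m R).base x ∈ (⊤ : (Proj (polyGrading n R)).Opens) := trivial
  have h2 : (pr₂ n m R).base x ∈ (⊤ : (Proj (polyGrading m R)).Opens) := trivial
  rw [← Groth.Agent.Lib.Helper27PnChart.iSup_basicOpen_X n R] at h1
  rw [← Groth.Agent.Lib.Helper27PnChart.iSup_basicOpen_X m R] at h2
  obtain ⟨i, hi⟩ := Opens.mem_iSup.1 h1
  obtain ⟨j, hj⟩ := Opens.mem_iSup.1 h2
  exact Opens.mem_iSup.2 ⟨(i, j), ⟨hi, hj⟩⟩

lemma ξ_self (i : Fin (n + 1)) (j : Fin (m + 1)) : ξ n m R i j i = 1 := by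
  unfold ξ; rw [dehom_self, map_one]

lemma η_self (i : Fin (n + 1)) (j : Fin (m + 1)) : η n m R i j j = 1 := by
  unfold η; rw [dehom_self, map_one]

lemma basicOpen_ξ (i : Fin (n + 1)) (j : Fin (m + 1)) (k : Fin (n + 1)) :
    (X n m R).basicOpen (ξ n m R i j k) = W n m R i j ⊓ (pr₁ n m R) ⁻¹ᵁ D R n k := by
  unfold ξ
  rw [basicOpen_appLE, basicOpen_dehom (X_mem R n k) (X_mem R n i)]
  ext x
  constructor
  · rintro ⟨h1, h2, -⟩; exact ⟨h1, h2⟩
  · rintro ⟨h1, h2⟩; exact ⟨h1, h2, h1.1⟩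

lemma basicOpen_η (i : Fin (n + 1)) (j : Fin (m + 1)) (l : Fin (m + 1)) :
    (X n m R).basicOpen (η n m R i j l) = W n m R i j ⊓ (pr₂ n m R) ⁻¹ᵁ D R m l := by
  unfold η
  rw [basicOpen_appLE, basicOpen_dehom (X_mem R m l) (X_mem R m j)]
  ext x
  constructor
  · rintro ⟨h1, h2, -⟩; exact ⟨h1, h2⟩
  · rintro ⟨h1, h2⟩; exact ⟨h1, h2, h1.2⟩

variable {n m R}

/-- (B1) the preimage of `D₊(z_(i,j))` under a Segre morphism is `W i j`. -/
theorem preimage_D {σ : X n m R ⟶ Proj (polyGrading (n * m + n + m) R)} (hσ : ChartProp n m R σ)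
    (i : Fin (n + 1)) (j : Fin (m + 1)) :
    σ ⁻¹ᵁ D R (n * m + n + m) (idx n m (i, j)) = W n m R i j := by
  apply le_antisymm
  · intro x hx
    have hx' : x ∈ (⊤ : (X n m R).Opens) := trivial
    rw [← iSup_W n m R] at hx'
    obtain ⟨⟨k, l⟩, hkl⟩ := Opens.mem_iSup.1 hx'
    obtain ⟨hle, hval⟩ := hσ.2 k l
    have h1 := basicOpen_appLE σ hle
      (dehom (X_mem R (n * m + n + m) (idx n m (k, l))) (MvPolynomial.X (idx n m (i, j))))
    rw [hval i j, basicOpen_dehom (X_mem R _ (idx n m (i, j))) (X_mem R _ (idx n m (k, l))),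
      Scheme.basicOpen_mul, basicOpen_ξ, basicOpen_η] at h1
    have hx2 : x ∈ W n m R k l ⊓ σ ⁻¹ᵁ (D R (n * m + n + m) (idx n m (i, j)) ⊓
        D R (n * m + n + m) (idx n m (k, l))) := ⟨hkl, hx, hle hkl⟩
    rw [← h1] at hx2
    exact ⟨hx2.1.2, hx2.2.2⟩
  · exact (hσ.2 i j).choose

end Groth.Agent.R2.Lead.SegreB
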