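import Groth.Agent.R2.LeadSegreB1

/-!
# Universal Segre embedding, part B2 (lead): the retraction over `D₊(z_(i,j))` and the closed immersion
-/

set_option autoImplicit false
set_option linter.unusedSectionVars false
universe u
open CategoryTheory CategoryTheory.Limits AlgebraicGeometry TopologicalSpace

namespace Groth.Agent.R2.Lead.SegreB

open CohB1 Groth.Agent.Helper13Dehom Groth.Agent.Helper13AffMor Groth.Agent.Helper13ProjUP
  Groth.Agent.R2.Lead.SegreSpec

/-- precomposing `toAff` with a restriction. -/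
theorem resLE_toAff {Y Z' Z : Scheme.{u}} (g : Y ⟶ Z') {V' : Z'.Opens} {V : Y.Opens}
    (hle : V ≤ g ⁻¹ᵁ V') {U : Z.Opens} (hU : IsAffineOpen U) (φ : Γ(Z, U) ⟶ Γ(Z', V')) :
    g.resLE V' V hle ≫ toAff hU φ = toAff hU (φ ≫ g.appLE V' V hle) := by
  unfold toAff
  rw [Spec.map_comp, Category.assoc, ← Scheme.Opens.toSpecΓ_SpecMap_appLE_assoc]

variable {n m : ℕ} {R : Type u} [CommRing R]

section chart

variable (i : Fin (n + 1)) (j : Fin (m + 1))

/-- `x_k ↦ z_(k,j) / z_(i,j)`. -/
noncomputable def ψa : MvPolynomial (Fin (n + 1)) R →+*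
    Γ(Proj (polyGrading (n * m + n + m) R), D R (n * m + n + m) (idx n m (i, j))) :=
  (dehom (X_mem R (n * m + n + m) (idx n m (i, j)))).comp
    (MvPolynomial.rename (fun k : Fin (n + 1) => idx n m (k, j)) :
      MvPolynomial (Fin (n + 1)) R →ₐ[R] MvPolynomial (Fin (n * m + n + m + 1)) R).toRingHom

/-- `y_l ↦ z_(i,l) / z_(i,j)`. -/
noncomputable def ψb : MvPolynomial (Fin (m + 1)) R →+*
    Γ(Proj (polyGrading (n * m + n + m) R), D R (n * m + n + m) (idx n m (i, j))) :=
  (dehom (X_mem R (n * m + n + m) (idx n m (i, j)))).comp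
    (MvPolynomial.rename (fun l : Fin (m + 1) => idx n m (i, l)) :
      MvPolynomial (Fin (m + 1)) R →ₐ[R] MvPolynomial (Fin (n * m + n + m + 1)) R).toRingHom

lemma ψa_X (k : Fin (n + 1)) : ψa (R := R) i j (MvPolynomial.X k) =
    dehom (X_mem R (n * m + n + m) (idx n m (i, j))) (MvPolynomial.X (idx n m (k, j))) := by
  simp [ψa]

lemma ψb_X (l : Fin (m + 1)) : ψb (R := R) i j (MvPolynomial.X l) =
    dehom (X_mem R (n * m + n + m) (idx n m (i, j))) (MvPolynomial.X (idx n m (i, l))) := by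
  simp [ψb]

lemma ψa_C (r : R) : ψa (R := R) i j (MvPolynomial.C r) =
    dehom (X_mem R (n * m + n + m) (idx n m (i, j))) (MvPolynomial.C r) := by
  simp [ψa]

lemma ψb_C (r : R) : ψb (R := R) i j (MvPolynomial.C r) =
    dehom (X_mem R (n * m + n + m) (idx n m (i, j))) (MvPolynomial.C r) := by
  simp [ψb]

lemma exists_α : ∃ α : Γ(Proj (polyGrading n R), D R n i) →+*
    Γ(Proj (polyGrading (n * m + n + m) R), D R (n * m + n + m) (idx n m (i, j))),
    ∀ a, α (dehom (X_mem R n i) a) = ψa i j a :=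
  exists_dehomLift (X_mem R n i) (ψa i j) (by rw [ψa_X, dehom_self])

lemma exists_β : ∃ β : Γ(Proj (polyGrading m R), D R m j) →+*
    Γ(Proj (polyGrading (n * m + n + m) R), D R (n * m + n + m) (idx n m (i, j))),
    ∀ a, β (dehom (X_mem R m j) a) = ψb i j a :=
  exists_dehomLift (X_mem R m j) (ψb i j) (by rw [ψb_X, dehom_self])

end chart

end Groth.Agent.R2.Lead.SegreB
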