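import Groth.Agent.R2.LeadSegreB2

/-!
# Universal Segre embedding, part B3 (lead): `ChartProp σ → IsClosedImmersion σ`
-/

set_option autoImplicit false
set_option linter.unusedSectionVars false
universe u
open CategoryTheory CategoryTheory.Limits AlgebraicGeometry TopologicalSpace

namespace Groth.Agent.R2.Lead.SegreB

open CohB1 Groth.Agent.Helper13Dehom Groth.Agent.Helper13AffMor Groth.Agent.Helper13ProjUP
  Groth.Agent.R2.Lead.SegreSpec

variable {n m : ℕ} {R : Type u} [CommRing R]

/-- structure maps agree: from `σ ≫ toSpec = pr₁ ≫ toSpec`. -/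
theorem strMap_comp_appLE_eq {σ : X n m R ⟶ Proj (polyGrading (n * m + n + m) R)}
    (hσ : ChartProp n m R σ) (i : Fin (n + 1)) (j : Fin (m + 1))
    (hle : W n m R i j ≤ σ ⁻¹ᵁ D R (n * m + n + m) (idx n m (i, j))) :
    strMap (X_mem R (n * m + n + m) (idx n m (i, j))) ≫
        σ.appLE (D R (n * m + n + m) (idx n m (i, j))) (W n m R i j) hle =
      strMap (X_mem R n i) ≫ (pr₁ n m R).appLE (D R n i) (W n m R i j) (W_le₁ n m R i j) := by
  apply toSpecΓ_SpecMap_injective
  rw [← ι_comp_toBase (X_mem R (n * m + n + m) (idx n m (i, j))) σ hle,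
    ← ι_comp_toBase (X_mem R n i) (pr₁ n m R) (W_le₁ n m R i j)]
  congr 1
  exact hσ.1

/-- structure maps agree for the second projection. -/
theorem strMap_comp_appLE_eq₂ (i : Fin (n + 1)) (j : Fin (m + 1)) :
    strMap (X_mem R n i) ≫ (pr₁ n m R).appLE (D R n i) (W n m R i j) (W_le₁ n m R i j) =
      strMap (X_mem R m j) ≫ (pr₂ n m R).appLE (D R m j) (W n m R i j) (W_le₂ n m R i j) := by
  apply toSpecΓ_SpecMap_injective
  rw [← ι_comp_toBase (X_mem R n i) (pr₁ n m R) (W_le₁ n m R i j),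
    ← ι_comp_toBase (X_mem R m j) (pr₂ n m R) (W_le₂ n m R i j)]
  congr 1
  exact pullback.condition

/-- constants: `σ` and `pr₁` induce the same structure map. -/
theorem appLE_dehom_C {σ : X n m R ⟶ Proj (polyGrading (n * m + n + m) R)}
    (hσ : ChartProp n m R σ) (i : Fin (n + 1)) (j : Fin (m + 1))
    (hle : W n m R i j ≤ σ ⁻¹ᵁ D R (n * m + n + m) (idx n m (i, j))) (r : R) :
    (σ.appLE (D R (n * m + n + m) (idx n m (i, j))) (W n m R i j) hle).hom
        (dehom (X_mem R (n * m + n + m) (idx n m (i, j))) (MvPolynomial.C r)) =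
      ((pr₁ n m R).appLE (D R n i) (W n m R i j) (W_le₁ n m R i j)).hom
        (dehom (X_mem R n i) (MvPolynomial.C r)) :=
  congrArg (fun φ => φ.hom r) (strMap_comp_appLE_eq hσ i j hle)

/-- constants: `pr₁` and `pr₂` induce the same structure map. -/
theorem appLE_dehom_C₂ (i : Fin (n + 1)) (j : Fin (m + 1)) (r : R) :
    ((pr₁ n m R).appLE (D R n i) (W n m R i j) (W_le₁ n m R i j)).hom
        (dehom (X_mem R n i) (MvPolynomial.C r)) =
      ((pr₂ n m R).appLE (D R m j) (W n m R i j) (W_le₂ n m R i j)).hom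
        (dehom (X_mem R m j) (MvPolynomial.C r)) :=
  congrArg (fun φ => φ.hom r) (strMap_comp_appLE_eq₂ (R := R) i j)

/-- Over `D₊(z_(i,j))`, a Segre morphism is a closed immersion (it has a retraction). -/
theorem isClosedImmersion_resLE {σ : X n m R ⟶ Proj (polyGrading (n * m + n + m) R)}
    (hσ : ChartProp n m R σ) (i : Fin (n + 1)) (j : Fin (m + 1))
    (hle : W n m R i j ≤ σ ⁻¹ᵁ D R (n * m + n + m) (idx n m (i, j))) :
    IsClosedImmersion (σ.resLE (D R (n * m + n + m) (idx n m (i, j))) (W n m R i j) hle) := by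
  obtain ⟨hle', hval⟩ := hσ.2 i j
  obtain ⟨α, hα⟩ := exists_α (R := R) i j
  obtain ⟨β, hβ⟩ := exists_β (R := R) i j
  have hUa := isAffineOpen_basicOpen (X_mem R n i)
  have hUb := isAffineOpen_basicOpen (X_mem R m j)
  have hUc := isAffineOpen_basicOpen (X_mem R (n * m + n + m) (idx n m (i, j)))
  -- the two components of the retraction
  let a : ((D R (n * m + n + m) (idx n m (i, j)) : (Proj (polyGrading (n * m + n + m) R)).Opens) : Scheme.{u}) ⟶
      Proj (polyGrading n R) := toAff hUa (CommRingCat.ofHom α)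
  let b : ((D R (n * m + n + m) (idx n m (i, j)) : (Proj (polyGrading (n * m + n + m) R)).Opens) : Scheme.{u}) ⟶
      Proj (polyGrading m R) := toAff hUb (CommRingCat.ofHom β)
  have hsa : strMap (X_mem R n i) ≫ CommRingCat.ofHom α = strMap (X_mem R (n * m + n + m) (idx n m (i, j))) := by
    ext r
    change α (dehom (X_mem R n i) (MvPolynomial.C r)) = dehom _ (MvPolynomial.C r)
    rw [hα, ψa_C]
  have hsb : strMap (X_mem R m j) ≫ CommRingCat.ofHom β = strMap (X_mem R (n * m + n + m) (idx n m (i, j))) := by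
    ext r
    change β (dehom (X_mem R m j) (MvPolynomial.C r)) = dehom _ (MvPolynomial.C r)
    rw [hβ, ψb_C]
  have hab : a ≫ ProjSpace.toSpec n R = b ≫ ProjSpace.toSpec m R := by
    change toAff hUa _ ≫ toBase (polyGrading n R) = toAff hUb _ ≫ toBase (polyGrading m R)
    rw [toAff_toBase (X_mem R n i), toAff_toBase (X_mem R m j)]
    exact congrArg (fun φ => (D R (n * m + n + m) (idx n m (i, j))).toSpecΓ ≫ Spec.map φ)
      (hsa.trans hsb.symm)
  let ρ₀ : ((D R (n * m + n + m) (idx n m (i, j)) : (Proj (polyGrading (n * m + n + m) R)).Opens) : Scheme.{u}) ⟶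
      X n m R := pullback.lift a b hab
  have hρ₁ : ρ₀ ≫ pr₁ n m R = a := pullback.lift_fst _ _ _
  have hρ₂ : ρ₀ ≫ pr₂ n m R = b := pullback.lift_snd _ _ _
  have hrange : Set.range ρ₀.base ⊆ Set.range (W n m R i j).ι.base := by
    rintro _ ⟨z, rfl⟩
    rw [Scheme.Opens.range_ι]
    refine ⟨?_, ?_⟩
    · change (pr₁ n m R).base (ρ₀.base z) ∈ D R n i
      have : (pr₁ n m R).base (ρ₀.base z) = a.base z := by rw [← hρ₁]; rfl
      rw [this]
      exact range_toAff_subset hUa _ z
    · change (pr₂ n m R).base (ρ₀.base z) ∈ D R m j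
      have : (pr₂ n m R).base (ρ₀.base z) = b.base z := by rw [← hρ₂]; rfl
      rw [this]
      exact range_toAff_subset hUb _ z
  let ρ := IsOpenImmersion.lift (W n m R i j).ι ρ₀ hrange
  have hρ : ρ ≫ (W n m R i j).ι = ρ₀ := IsOpenImmersion.lift_fac _ _ _
  set s := σ.resLE (D R (n * m + n + m) (idx n m (i, j))) (W n m R i j) hle with hs
  -- the two ring-map identities
  have hA : CommRingCat.ofHom α ≫ σ.appLE (D R (n * m + n + m) (idx n m (i, j))) (W n m R i j) hle =
      (pr₁ n m R).appLE (D R n i) (W n m R i j) (W_le₁ n m R i j) := by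
    apply hom_ext_dehom (X_mem R n i)
    apply MvPolynomial.ringHom_ext
    · intro r
      change (σ.appLE _ _ hle).hom (α (dehom (X_mem R n i) (MvPolynomial.C r))) = _
      rw [hα, ψa_C]
      exact appLE_dehom_C hσ i j hle r
    · intro k
      change (σ.appLE _ _ hle).hom (α (dehom (X_mem R n i) (MvPolynomial.X k))) = _
      rw [hα, ψa_X, hval k j, η_self, mul_one]
      rfl
  have hB : CommRingCat.ofHom β ≫ σ.appLE (D R (n * m + n + m) (idx n m (i, j))) (W n m R i j) hle =
      (pr₂ n m R).appLE (D R m j) (W n m R i j) (W_le₂ n m R i j) := by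
    apply hom_ext_dehom (X_mem R m j)
    apply MvPolynomial.ringHom_ext
    · intro r
      change (σ.appLE _ _ hle).hom (β (dehom (X_mem R m j) (MvPolynomial.C r))) = _
      rw [hβ, ψb_C]
      exact (appLE_dehom_C hσ i j hle r).trans (appLE_dehom_C₂ i j r)
    · intro l
      change (σ.appLE _ _ hle).hom (β (dehom (X_mem R m j) (MvPolynomial.X l))) = _
      rw [hβ, ψb_X, hval i l, ξ_self, one_mul]
      rfl
  have hsρ₀ : s ≫ ρ₀ = (W n m R i j).ι := by
    apply pullback.hom_ext
    · change (s ≫ ρ₀) ≫ pr₁ n m R = (W n m R i j).ι ≫ pr₁ n m R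
      rw [Category.assoc, hρ₁, ι_comp_eq_toAff hUa (pr₁ n m R) (W_le₁ n m R i j)]
      change σ.resLE _ _ hle ≫ toAff hUa _ = _
      rw [resLE_toAff]
      exact congrArg (toAff hUa) hA
    · change (s ≫ ρ₀) ≫ pr₂ n m R = (W n m R i j).ι ≫ pr₂ n m R
      rw [Category.assoc, hρ₂, ι_comp_eq_toAff hUb (pr₂ n m R) (W_le₂ n m R i j)]
      change σ.resLE _ _ hle ≫ toAff hUb _ = _
      rw [resLE_toAff]
      exact congrArg (toAff hUb) hB
  have hsρ : s ≫ ρ = 𝟙 _ := by
    rw [← cancel_mono (W n m R i j).ι, Category.assoc, hρ, hsρ₀, Category.id_comp]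
  have haff : IsAffine ((D R (n * m + n + m) (idx n m (i, j)) : (Proj (polyGrading (n * m + n + m) R)).Opens) :
      Scheme.{u}) := hUc
  have h1 : IsClosedImmersion (s ≫ ρ) := by rw [hsρ]; infer_instance
  exact IsClosedImmersion.of_comp s ρ

lemma iSup_D : (⨆ p : Fin (n + 1) × Fin (m + 1), D R (n * m + n + m) (idx n m p)) = ⊤ := by
  rw [(idx n m).iSup_comp (g := fun c => D R (n * m + n + m) c)]
  exact Groth.Agent.Lib.Helper27PnChart.iSup_basicOpen_X (n * m + n + m) R

/-- Part B: a morphism with the chart property is a closed immersion. -/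
theorem isClosedImmersion_of_chartProp {σ : X n m R ⟶ Proj (polyGrading (n * m + n + m) R)}
    (hσ : ChartProp n m R σ) : IsClosedImmersion σ := by
  rw [IsZariskiLocalAtTarget.iff_of_iSup_eq_top (P := @IsClosedImmersion)
    (fun p : Fin (n + 1) × Fin (m + 1) => D R (n * m + n + m) (idx n m p)) iSup_D]
  rintro ⟨i, j⟩
  have hO := preimage_D hσ i j
  have hle : W n m R i j ≤ σ ⁻¹ᵁ D R (n * m + n + m) (idx n m (i, j)) := hO.ge
  have key : σ ∣_ D R (n * m + n + m) (idx n m (i, j)) =
      ((X n m R).isoOfEq hO).hom ≫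
        σ.resLE (D R (n * m + n + m) (idx n m (i, j))) (W n m R i j) hle := by
    rw [← cancel_mono (D R (n * m + n + m) (idx n m (i, j))).ι, morphismRestrict_ι, Category.assoc,
      Scheme.Hom.resLE_comp_ι, Scheme.isoOfEq_hom_ι_assoc]
  have := isClosedImmersion_resLE hσ i j hle
  change IsClosedImmersion (σ ∣_ D R (n * m + n + m) (idx n m (i, j)))
  rw [key]
  infer_instance

end Groth.Agent.R2.Lead.SegreB
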