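import Groth.Agent.Lib.Helper13ProjUPa
import Groth.Agent.R2.LeadSegreBC

/-!
# Interface for the universal Segre embedding (lead)

Definitions shared by the two halves of package P2 of the `pn-toolkit` project:
`X n m R = P^n_R ×_R P^m_R`, the opens `W i j = pr₁⁻¹ D₊(x_i) ⊓ pr₂⁻¹ D₊(y_j)`, the coordinate functions
`ξ i j k = x_k / x_i`, `η i j l = y_l / y_j` on `W i j`, the index bijection `idx`, and the chart property
`ChartProp σ` of a morphism `σ : X ⟶ P^N_R`.

* Part A: construct `σ` with `ChartProp σ`.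
* Part B: `ChartProp σ → IsClosedImmersion σ`.
* Then `univSegre_of : (∃ σ, ChartProp σ) → (∀ σ, ChartProp σ → IsClosedImmersion σ) → UnivSegre n m R`.
-/

set_option autoImplicit false
universe u
open CategoryTheory CategoryTheory.Limits AlgebraicGeometry

namespace Groth.Agent.R2.Lead.SegreSpec

open CohB1 Groth.Agent.Helper13Dehom Groth.Agent.R2.Lead.SegreBC

variable (n m : ℕ) (R : Type u) [CommRing R]

/-- `x_k` has degree one. -/
lemma X_mem (a : ℕ) (k : Fin (a + 1)) :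
    (MvPolynomial.X k : MvPolynomial (Fin (a + 1)) R) ∈ polyGrading a R 1 :=
  MvPolynomial.isHomogeneous_X R k

/-- The index bijection `(i, j) ↦ z_(i,j)`. -/
def idx : Fin (n + 1) × Fin (m + 1) ≃ Fin (n * m + n + m + 1) :=
  finProdFinEquiv.trans (finCongr (by ring))

/-- `P^n_R ×_R P^m_R`. -/
noncomputable abbrev X : Scheme.{u} := pullback (ProjSpace.toSpec n R) (ProjSpace.toSpec m R)

/-- first projection, with target written as a `Proj`. -/
noncomputable def pr₁ : X n m R ⟶ Proj (polyGrading n R) :=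
  pullback.fst (ProjSpace.toSpec n R) (ProjSpace.toSpec m R)

/-- second projection, with target written as a `Proj`. -/
noncomputable def pr₂ : X n m R ⟶ Proj (polyGrading m R) :=
  pullback.snd (ProjSpace.toSpec n R) (ProjSpace.toSpec m R)

/-- The standard open `D₊(x_i)` of `P^a_R`. -/
noncomputable abbrev D (a : ℕ) (i : Fin (a + 1)) : (Proj (polyGrading a R)).Opens :=
  Proj.basicOpen (polyGrading a R) (MvPolynomial.X i)

/-- `W i j = pr₁⁻¹ D₊(x_i) ⊓ pr₂⁻¹ D₊(y_j)`. -/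
noncomputable def W (i : Fin (n + 1)) (j : Fin (m + 1)) : (X n m R).Opens :=
  (pr₁ n m R) ⁻¹ᵁ D R n i ⊓ (pr₂ n m R) ⁻¹ᵁ D R m j

lemma W_le₁ (i : Fin (n + 1)) (j : Fin (m + 1)) : W n m R i j ≤ (pr₁ n m R) ⁻¹ᵁ D R n i := inf_le_left

lemma W_le₂ (i : Fin (n + 1)) (j : Fin (m + 1)) : W n m R i j ≤ (pr₂ n m R) ⁻¹ᵁ D R m j := inf_le_right

/-- `x_k / x_i` on `W i j`. -/
noncomputable def ξ (i : Fin (n + 1)) (j : Fin (m + 1)) (k : Fin (n + 1)) : Γ(X n m R, W n m R i j) :=
  ((pr₁ n m R).appLE (D R n i) (W n m R i j) (W_le₁ n m R i j)).hom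
    (dehom (X_mem R n i) (MvPolynomial.X k))

/-- `y_l / y_j` on `W i j`. -/
noncomputable def η (i : Fin (n + 1)) (j : Fin (m + 1)) (l : Fin (m + 1)) : Γ(X n m R, W n m R i j) :=
  ((pr₂ n m R).appLE (D R m j) (W n m R i j) (W_le₂ n m R i j)).hom
    (dehom (X_mem R m j) (MvPolynomial.X l))

/-- The chart property of a Segre morphism `σ`. -/
def ChartProp (σ : X n m R ⟶ Proj (polyGrading (n * m + n + m) R)) : Prop :=
  σ ≫ ProjSpace.toSpec (n * m + n + m) R = pr₁ n m R ≫ ProjSpace.toSpec n R ∧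
  ∀ (i : Fin (n + 1)) (j : Fin (m + 1)),
    ∃ hle : W n m R i j ≤ σ ⁻¹ᵁ D R (n * m + n + m) (idx n m (i, j)),
      ∀ (k : Fin (n + 1)) (l : Fin (m + 1)),
        (σ.appLE (D R (n * m + n + m) (idx n m (i, j))) (W n m R i j) hle).hom
          (dehom (X_mem R (n * m + n + m) (idx n m (i, j))) (MvPolynomial.X (idx n m (k, l)))) =
        ξ n m R i j k * η n m R i j l

/-- Putting the two halves together. -/
theorem univSegre_of (hA : ∃ σ, ChartProp n m R σ)
    (hB : ∀ σ, ChartProp n m R σ → IsClosedImmersion σ) : UnivSegre n m R := by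
  obtain ⟨σ, hσ⟩ := hA
  exact ⟨σ, hB σ hσ, hσ.1⟩

end Groth.Agent.R2.Lead.SegreSpec
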